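import Cfsg.Agent.Lib.Fusion.Normal

/-!
2-groups with a distinguished cyclic maximal subgroup have 2-groups of automorphisms.
-/

set_option autoImplicit false

namespace CfsgLib.Fusion

/-- A 2-group with a cyclic subgroup `⟨r⟩` of index 2, all elements outside having order smaller
than `r`, has a 2-group of automorphisms (dihedral, quaternion, semidihedral groups). -/
theorem isPGroup_mulAut_of_cyclic_index_two {G : Type*} [Group G] [Finite G] {k : ℕ} (r : G)
    (hr : orderOf r = 2 ^ k) (hk : 1 ≤ k) (hidx : (Subgroup.zpowers r).index = 2)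
    (hout : ∀ x ∉ Subgroup.zpowers r, orderOf x < 2 ^ k) : IsPGroup 2 (MulAut G) := by
  have : Fact (Nat.Prime 2) := ⟨Nat.prime_two⟩
  have hG : IsPGroup 2 G := IsPGroup.of_card (n := k + 1) (by
    rw [← Subgroup.card_mul_index (Subgroup.zpowers r), Nat.card_zpowers, hr, hidx, pow_succ])
  have hαr : ∀ α : MulAut G, ∃ j : ℤ, Odd j ∧ r ^ j = α r := by
    intro α
    have hmem : α r ∈ Subgroup.zpowers r := by
      by_contra h
      exact absurd (hout _ h) (not_lt.2 (by rw [MulEquiv.orderOf_eq, hr]))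
    obtain ⟨j, hj⟩ := hmem
    have hj' : r ^ j = α r := hj
    refine ⟨j, ?_, hj⟩
    by_contra hodd
    obtain ⟨m, rfl⟩ := (Int.not_odd_iff_even.1 hodd)
    have h1 : (α r) ^ 2 ^ (k - 1) = 1 := by
      rw [← hj', ← zpow_natCast, ← zpow_mul,
        show (m + m) * ((2 ^ (k - 1) : ℕ) : ℤ) = ((2 ^ k : ℕ) : ℤ) * m by
          have h2 : ((2 ^ k : ℕ) : ℤ) = 2 * ((2 ^ (k - 1) : ℕ) : ℤ) := by
            push_cast
            rw [← pow_succ', Nat.sub_add_cancel hk]
          rw [h2]; ring,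
        zpow_mul, zpow_natCast, ← hr, pow_orderOf_eq_one, one_zpow]
    have h3 := orderOf_dvd_of_pow_eq_one h1
    rw [MulEquiv.orderOf_eq, hr, Nat.pow_dvd_pow_iff_le_right (by norm_num)] at h3
    omega
  have hC : ∀ α : MulAut G, ∀ x, x ∈ Subgroup.zpowers r → α x ∈ Subgroup.zpowers r := by
    rintro α _ ⟨m, rfl⟩
    obtain ⟨j, -, hj⟩ := hαr α
    exact ⟨j * m, by show r ^ (j * m) = _; rw [zpow_mul, hj]; exact (map_zpow α r m).symm⟩
  let L : ℕ → Subgroup G := fun i =>
    if i ≤ k then Subgroup.zpowers (r ^ 2 ^ (k - i)) else ⊤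
  have hK : IsPGroup 2 (⊤ : Subgroup (MulAut G)) := by
    refine isPGroup_of_stabilizes_series hG L (k + 1) ?_ (if_neg (by omega)) ⊤
      fun α _ i hi x hx => ?_
    · rw [show L 0 = Subgroup.zpowers (r ^ 2 ^ (k - 0)) from if_pos (Nat.zero_le k), Nat.sub_zero,
        ← hr, pow_orderOf_eq_one, Subgroup.zpowers_one_eq_bot]
    · rw [show L i = Subgroup.zpowers (r ^ 2 ^ (k - i)) from if_pos (by omega)]
      rcases Nat.lt_or_ge i k with h | h
      · rw [show L (i + 1) = Subgroup.zpowers (r ^ 2 ^ (k - (i + 1))) from if_pos h] at hx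
        obtain ⟨m, rfl⟩ := hx
        obtain ⟨j, hjodd, hj⟩ := hαr α
        obtain ⟨t, rfl⟩ := hjodd
        refine ⟨m * t, ?_⟩
        have e : k - i = k - (i + 1) + 1 := by omega
        have h2 : α ((r ^ 2 ^ (k - (i + 1))) ^ m)
            = r ^ ((2 * t + 1) * (((2 ^ (k - (i + 1)) : ℕ) : ℤ) * m)) := by
          rw [← zpow_natCast, ← zpow_mul, map_zpow, ← hj, ← zpow_mul]
        show (r ^ 2 ^ (k - i)) ^ (m * t) = ((r ^ 2 ^ (k - (i + 1))) ^ m)⁻¹ * α ((r ^ 2 ^ (k - (i + 1))) ^ m)
        rw [h2, ← zpow_natCast, ← zpow_mul, ← zpow_natCast r, ← zpow_mul, ← zpow_neg, ← zpow_add,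
          e, pow_succ]
        congr 1
        push_cast
        ring
      · have hik : i = k := by omega
        subst hik
        rw [Nat.sub_self, pow_zero, pow_one, Subgroup.mul_mem_iff_of_index_two hidx,
          Subgroup.inv_mem_iff]
        refine ⟨hC α x, fun h => ?_⟩
        have h4 := hC α.symm _ h
        rwa [MulEquiv.symm_apply_apply] at h4
  exact hK.of_equiv Subgroup.topEquiv

end CfsgLib.Fusion
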