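import Mathlib
import Cfsg.Prelude.Def_OddOrderLocal

/-!
Sections of exponent `p` of metacyclic groups.
-/

set_option autoImplicit false

namespace CfsgLib.Fusion

/-- Data of a cyclic normal subgroup with cyclic quotient for a subgroup of a metacyclic group. -/
theorem exists_metacyclic_data {Ω : Type*} [Group Ω] {P W : Subgroup Ω}
    (hm : Cfsg.IsMetacyclic P) (hW : W ≤ P) :
    ∃ (A : Subgroup W) (_ : A.Normal) (w : W), IsCyclic A ∧
      ∀ x : W, ∃ i : ℤ, ∃ a ∈ A, x = w ^ i * a := by
  obtain ⟨N, hN, hNc, hQc⟩ := hm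
  haveI := hN
  let f : W →* P := Subgroup.inclusion hW
  have hf : Function.Injective f := Subgroup.inclusion_injective hW
  refine ⟨N.comap f, hN.comap f, ?_⟩
  let g : W →* P ⧸ N := (QuotientGroup.mk' N).comp f
  obtain ⟨y, hy⟩ := (inferInstance : IsCyclic g.range).exists_generator
  obtain ⟨w, hw⟩ := g.rangeRestrict_surjective y
  refine ⟨w, ?_, fun x => ?_⟩
  · haveI := hNc
    let r : N.comap f →* N :=
      MonoidHom.mk' (fun a => (⟨f a, a.2⟩ : N)) fun a b => Subtype.ext (map_mul f _ _)
    exact isCyclic_of_injective r fun a b e => Subtype.ext (hf (congrArg Subtype.val e))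
  · obtain ⟨i, hi⟩ := hy (g.rangeRestrict x)
    refine ⟨i, (w ^ i)⁻¹ * x, ?_, by rw [mul_inv_cancel_left]⟩
    have h1 : g ((w ^ i)⁻¹ * x) = 1 := by
      rw [map_mul, map_inv, map_zpow, inv_mul_eq_one]
      have h2 := congrArg Subtype.val hi
      rw [← hw] at h2
      simpa using h2
    exact (QuotientGroup.eq_one_iff (f ((w ^ i)⁻¹ * x))).1 h1

/-- An exponent-`p` section of a metacyclic group has order at most `p²`. -/
theorem card_le_sq_of_metacyclic {Ω : Type*} [Group Ω] {P W : Subgroup Ω}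
    (hm : Cfsg.IsMetacyclic P) (hW : W ≤ P) {Q : Type*} [Group Q] (f : W →* Q)
    (hf : Function.Surjective f) {p : ℕ} (hp : p ≠ 0) (he : ∀ x : Q, x ^ p = 1) :
    Nat.card Q ≤ p * p := by
  obtain ⟨A, hA, w, hAc, hgen⟩ := exists_metacyclic_data hm hW
  obtain ⟨a, ha⟩ := hAc.exists_generator
  have hfa : ∀ x : Q, ∃ i j : Fin p, x = f w ^ (i : ℕ) * f a ^ (j : ℕ) := by
    intro y
    obtain ⟨x, rfl⟩ := hf y
    obtain ⟨i, b, hb, rfl⟩ := hgen x
    obtain ⟨j, hj⟩ := Subgroup.mem_zpowers_iff.1 (ha ⟨b, hb⟩)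
    have hj' : b = (a : W) ^ j := by
      rw [← SubgroupClass.coe_zpow, hj]
    have hmod : ∀ (z : Q) (i : ℤ), ∃ k : Fin p, z ^ i = z ^ (k : ℕ) := fun z i => by
      have hpz : (p : ℤ) ≠ 0 := by exact_mod_cast hp
      have h0 := Int.emod_nonneg i hpz
      have h1 := Int.emod_lt_abs i hpz
      rw [Nat.abs_cast] at h1
      refine ⟨⟨(i % p).toNat, by omega⟩, ?_⟩
      show z ^ i = z ^ (i % p).toNat
      rw [← zpow_natCast z (i % (p : ℤ)).toNat, Int.toNat_of_nonneg h0]
      conv_lhs => rw [← Int.mul_ediv_add_emod i p, zpow_add, zpow_mul, zpow_natCast, he, one_zpow,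
        one_mul]
    obtain ⟨i', hi'⟩ := hmod (f w) i
    obtain ⟨j', hj''⟩ := hmod (f a) j
    exact ⟨i', j', by rw [map_mul, map_zpow, hj', map_zpow, hi', hj'']⟩
  refine (Nat.card_le_card_of_surjective (fun ij : Fin p × Fin p => f w ^ (ij.1 : ℕ) * f a ^ (ij.2 : ℕ))
    fun y => ?_).trans (by simp)
  obtain ⟨i, j, rfl⟩ := hfa y
  exact ⟨(i, j), rfl⟩

/-- A group generated by elements of exponent `p` with central commutators has exponent `p`,
for odd `p`. -/
theorem pow_eq_one_of_class_two {Q : Type*} [Group Q] {p : ℕ} (hp : p.Prime) (hp2 : p ≠ 2)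
    {s : Set Q} (hgen : Subgroup.closure s = ⊤) (hs : ∀ x ∈ s, x ^ p = 1)
    (hc : ∀ x ∈ s, ∀ y ∈ s, x * y * x⁻¹ * y⁻¹ ∈ Subgroup.center Q) : ∀ x : Q, x ^ p = 1 := by
  have hcomm : ∀ a b : Q, a * b * a⁻¹ * b⁻¹ ∈ Subgroup.center Q := by
    have hq : ∀ a b : Q, (QuotientGroup.mk' (Subgroup.center Q)) (a * b) =
        (QuotientGroup.mk' (Subgroup.center Q)) (b * a) := by
      set π := QuotientGroup.mk' (Subgroup.center Q)
      have hgen' : Subgroup.closure (π '' s) = ⊤ := by
        rw [← MonoidHom.map_closure, hgen,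
          Subgroup.map_top_of_surjective _ (QuotientGroup.mk'_surjective _)]
      have hcs : ∀ a ∈ π '' s, ∀ b ∈ π '' s, a * b = b * a := by
        rintro _ ⟨a, ha, rfl⟩ _ ⟨b, hb, rfl⟩
        have : π (a * b * a⁻¹ * b⁻¹) = 1 := (QuotientGroup.eq_one_iff _).2 (hc a ha b hb)
        rw [map_mul, map_mul, map_mul, map_inv, map_inv, mul_inv_eq_one, mul_inv_eq_iff_eq_mul]
          at this
        exact this
      intro a b
      have ha : π a ∈ Subgroup.centralizer (Subgroup.closure (π '' s) : Set (Q ⧸ _)) := by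
        rw [Subgroup.centralizer_closure]
        have hle : Subgroup.closure (π '' s) ≤ Subgroup.centralizer (π '' s) :=
          (Subgroup.closure_le _).2 fun x hx => Subgroup.mem_centralizer_iff.2 fun y hy =>
            hcs y hy x hx
        exact hle (hgen' ▸ Subgroup.mem_top _)
      rw [map_mul, map_mul]
      exact (Subgroup.mem_centralizer_iff.1 ha (π b) (hgen' ▸ Subgroup.mem_top _)).symm
    intro a b
    refine (QuotientGroup.eq_one_iff _).1 ?_
    have := hq a b
    simp only [QuotientGroup.mk'_apply, QuotientGroup.mk_mul] at this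
    rw [QuotientGroup.mk_mul, QuotientGroup.mk_mul, QuotientGroup.mk_mul, QuotientGroup.mk_inv,
      QuotientGroup.mk_inv, this, mul_inv_cancel_right, mul_inv_cancel]
  obtain ⟨d, hd⟩ : p ∣ p.choose 2 :=
    hp.dvd_choose_self (by norm_num) (lt_of_le_of_ne hp.two_le (Ne.symm hp2))
  have hmul : ∀ x y : Q, x ^ p = 1 → y ^ p = 1 → (x * y) ^ p = 1 := by
    intro x y hx hy
    set c := y * x * y⁻¹ * x⁻¹ with hcd
    have hcc : ∀ g : Q, Commute c g := fun g => (Subgroup.mem_center_iff.1 (hcomm y x) g).symm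
    have hyx : y * x = c * (x * y) := by rw [hcd]; group
    have hcp : c ^ p = 1 := by
      have h1 : y * x * y⁻¹ = c * x := by rw [hcd]; group
      have h2 := congrArg (· ^ p) h1
      simp only [conj_pow, hx, mul_one, mul_inv_cancel, (hcc x).mul_pow] at h2
      exact h2.symm
    have hcn : ∀ m : ℕ, y ^ m * x = c ^ m * (x * y ^ m) := by
      intro m
      induction m with
      | zero => simp
      | succ m ih =>
        calc y ^ (m + 1) * x = y * (y ^ m * x) := by rw [pow_succ', mul_assoc]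
          _ = (y * c ^ m) * (x * y ^ m) := by rw [ih, mul_assoc]
          _ = c ^ m * (y * x) * y ^ m := by rw [← ((hcc y).pow_left m).eq]; group
          _ = c ^ m * (c * (x * y)) * y ^ m := by rw [hyx]
          _ = _ := by rw [pow_succ, pow_succ']; group
    have hform : ∀ n : ℕ, (x * y) ^ n = c ^ n.choose 2 * (x ^ n * y ^ n) := by
      intro n
      induction n with
      | zero => simp
      | succ n ih =>
        calc (x * y) ^ (n + 1) = c ^ n.choose 2 * (x ^ n * (y ^ n * x)) * y := by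
              rw [pow_succ, ih]; group
          _ = c ^ n.choose 2 * ((x ^ n * c ^ n) * (x * y ^ n)) * y := by rw [hcn]; group
          _ = (c ^ n.choose 2 * c ^ n) * ((x ^ n * x) * (y ^ n * y)) := by
            rw [← ((hcc (x ^ n)).pow_left n).eq]; group
          _ = _ := by
            rw [← pow_add, ← pow_succ, ← pow_succ, show (n + 1).choose 2 = n.choose 2 + n by
              rw [Nat.choose_succ_succ n 1, Nat.choose_one_right, add_comm]]
    rw [hform, hx, hy, hd, pow_mul, hcp, one_pow, one_mul, one_mul]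
  intro x
  induction (hgen ▸ Subgroup.mem_top x : x ∈ Subgroup.closure s) using
      Subgroup.closure_induction with
  | mem x hx => exact hs x hx
  | one => exact one_pow _
  | mul a b _ _ ha hb => exact hmul a b ha hb
  | inv a _ ha => rw [inv_pow, ha, inv_one]

end CfsgLib.Fusion
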