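import Mathlib
import Cfsg.Agent.Lib.Coprime.Action
import Cfsg.Agent.Lib.Fitting.Basic
import Cfsg.Agent.Lib.Transfer.Basic

/-!
Groups acting on a group of order at most `p²`.
-/

set_option autoImplicit false

namespace CfsgLib.Fusion

section Frattini

variable {M : Type*} [Group M]

/-- The action of `Aut M` on the Frattini quotient. -/
noncomputable def frattiniHom (M : Type*) [Group M] : MulAut M →* MulAut (M ⧸ frattini M) :=
  MonoidHom.mk' (fun a => QuotientGroup.congr _ _ a
    (Subgroup.characteristic_iff_map_eq.mp inferInstance _)) fun a b => by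
    ext x
    obtain ⟨x, rfl⟩ := QuotientGroup.mk'_surjective (frattini M) x
    rfl

@[simp] theorem frattiniHom_mk (a : MulAut M) (x : M) :
    frattiniHom M a (QuotientGroup.mk x) = QuotientGroup.mk (a x) := rfl

theorem isPGroup_ker_frattiniHom {p : ℕ} [Fact p.Prime] [Finite M] (hM : IsPGroup p M) :
    IsPGroup p (frattiniHom M).ker := by
  rintro ⟨α, hα⟩
  have : Finite (MulAut M) :=
    Finite.of_injective (fun e : MulAut M => (e : M → M)) fun a b h => MulEquiv.ext (congrFun h)
  obtain ⟨a, -, -, -, hcop, -⟩ := CfsgLib.Transfer.exists_pow_coprime_part (p := p) α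
  refine ⟨a, Subtype.ext (CfsgLib.Coprime.mulAut_eq_one_of_frattini (α ^ p ^ a) ?_ fun k => ?_)⟩
  · obtain ⟨n, hn⟩ := IsPGroup.iff_card.mp hM
    exact (hn ▸ hcop.pow_right n).coprime_dvd_right (Subgroup.card_subgroup_dvd_card _)
  · have h1 : (frattiniHom M) (α ^ p ^ a) = 1 := by
      rw [map_pow, MonoidHom.mem_ker.1 hα, one_pow]
    rw [← QuotientGroup.eq, ← frattiniHom_mk, h1, MulAut.one_apply]

end Frattini

section RankTwo

variable {V : Type*} [Group V] [Finite V] {p : ℕ} [Fact p.Prime]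

theorem comm_of_card_le_sq (hcard : ∃ j ≤ 2, Nat.card V = p ^ j) : ∀ x y : V, x * y = y * x := by
  obtain ⟨j, hj, hc⟩ := hcard
  interval_cases j
  · intro x y
    have : Subsingleton V := (Nat.card_eq_one_iff_unique.1 (by simpa using hc)).1
    exact Subsingleton.elim _ _
  · haveI : IsCyclic V := isCyclic_of_prime_card (by simpa using hc)
    exact fun x y => (IsCyclic.commGroup (α := V)).mul_comm x y
  · exact fun x y =>
      (IsPGroup.isMulCommutative_of_card_eq_prime_sq hc).is_comm.comm x y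

/-- An automorphism of `p`-power order of a nontrivial `p`-group of order at most `p²` fixes a
subgroup of order `p` and acts trivially modulo it. -/
theorem exists_fixed_line (hcard : ∃ j ≤ 2, Nat.card V = p ^ j) {σ : MulAut V} {n : ℕ}
    (hσ : σ ^ p ^ n = 1) (hσ1 : σ ≠ 1) :
    ∃ Z : Subgroup V, Nat.card Z = p ∧ Nat.card V = p * p ∧ (∀ z ∈ Z, σ z = z) ∧
      ∀ x, x⁻¹ * σ x ∈ Z := by
  classical
  haveI := Fintype.ofFinite V
  obtain ⟨j, hj, hc⟩ := hcard
  have hp := (Fact.out : p.Prime)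
  have hcomm := comm_of_card_le_sq ⟨j, hj, hc⟩
  have hperm : ∀ m : ℕ, ∀ x, ((MulEquiv.toEquiv σ : Equiv.Perm V) ^ m) x = (σ ^ m) x := by
    intro m
    induction m with
    | zero => intro x; rfl
    | succ m ih =>
      intro x
      rw [pow_succ', pow_succ', Equiv.Perm.mul_apply, MulAut.mul_apply, ih]
      rfl
  have hP : (MulEquiv.toEquiv σ : Equiv.Perm V) ^ p ^ n = 1 :=
    Equiv.ext fun x => by rw [hperm, hσ]; rfl
  have hj0 : j ≠ 0 := by
    rintro rfl
    have : Subsingleton V := (Nat.card_eq_one_iff_unique.1 (by simpa using hc)).1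
    exact hσ1 (MulEquiv.ext fun x => Subsingleton.elim _ _)
  obtain ⟨v, hv, hv1⟩ := Equiv.Perm.exists_fixed_point_of_prime'
    (by rw [← Nat.card_eq_fintype_card, hc]; exact dvd_pow_self p hj0) hP (map_one σ)
  let F : Subgroup V := σ.toMonoidHom.eqLocus (MonoidHom.id V)
  have hvF : v ∈ F := hv
  obtain ⟨i, hi, hFc⟩ := (Nat.dvd_prime_pow hp).1 (hc ▸ Subgroup.card_subgroup_dvd_card F)
  have hne : Nat.card F ≠ Nat.card V := fun e => hσ1 (MulEquiv.ext fun x => by
    have : x ∈ F := by rw [(Subgroup.card_eq_iff_eq_top F).1 e]; exact Subgroup.mem_top x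
    exact this)
  have hi0 : i ≠ 0 := by
    rintro rfl
    have : Subsingleton F := (Nat.card_eq_one_iff_unique.1 (by simpa using hFc)).1
    exact hv1 (congrArg Subtype.val (Subsingleton.elim (⟨v, hvF⟩ : F) ⟨1, F.one_mem⟩))
  have hij : i ≠ j := fun e => hne (by rw [hFc, hc, e])
  obtain ⟨rfl, rfl⟩ : i = 1 ∧ j = 2 := by omega
  rw [pow_one] at hFc
  refine ⟨F, hFc, by rw [hc, pow_two], fun z hz => hz, ?_⟩
  letI : CommGroup V := { (inferInstance : Group V) with mul_comm := hcomm }
  let d : V →* V := MonoidHom.mk' (fun x => x⁻¹ * σ x) fun x y => by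
    rw [map_mul, mul_inv_rev]
    ac_rfl
  have hd : d.ker = F := by
    ext x
    rw [MonoidHom.mem_ker]
    exact inv_mul_eq_one.trans eq_comm
  have hrange : Nat.card d.range = p := by
    have h1 := d.ker.card_mul_index
    rw [Subgroup.index_ker, hd, hFc, hc, pow_two] at h1
    exact Nat.eq_of_mul_eq_mul_left hp.pos h1
  have hσd : ∀ m ∈ d.range, σ m ∈ d.range := by
    rintro _ ⟨x, rfl⟩
    exact ⟨σ x, by
      show (σ x)⁻¹ * σ (σ x) = σ (x⁻¹ * σ x)
      rw [map_mul, map_inv]⟩
  let τ : Equiv.Perm d.range := Equiv.ofBijective (fun m => ⟨σ m, hσd m m.2⟩)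
    ((Finite.injective_iff_bijective).1 fun a b e =>
      Subtype.ext (σ.injective (congrArg Subtype.val e)))
  have hτ : ∀ k : ℕ, ∀ m : d.range, (((τ ^ k) m : d.range) : V) = (σ ^ k) (m : V) := by
    intro k
    induction k with
    | zero => intro m; rfl
    | succ k ih =>
      intro m
      rw [pow_succ', pow_succ', Equiv.Perm.mul_apply, MulAut.mul_apply, ← ih]
      rfl
  have hτn : τ ^ p ^ n = 1 := Equiv.ext fun m => Subtype.ext (by rw [hτ, hσ]; rfl)
  obtain ⟨w, hw, hw1⟩ := Equiv.Perm.exists_fixed_point_of_prime'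
    (by rw [← Nat.card_eq_fintype_card, hrange]) hτn
    (a := ⟨1, d.range.one_mem⟩) (Subtype.ext (map_one σ))
  have hwF : (w : V) ∈ F := congrArg Subtype.val hw
  have hle : d.range ≤ F := by
    have hw' : (w : V) ∈ d.range := w.2
    have hz : Subgroup.zpowers (w : V) = d.range := by
      refine Subgroup.eq_of_le_of_card_ge (Subgroup.zpowers_le.2 hw') ?_
      rw [hrange, Nat.card_zpowers]
      refine Nat.le_of_dvd (orderOf_pos _) ?_
      have h2 : orderOf (w : V) ∣ p := by
        have := orderOf_dvd_natCard (⟨(w : V), hw'⟩ : d.range)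
        rwa [hrange, Subgroup.orderOf_mk] at this
      rcases (Nat.dvd_prime hp).1 h2 with h3 | h3
      · exact absurd (Subtype.ext (orderOf_eq_one_iff.1 h3)) hw1
      · rw [h3]
    rw [← hz]
    exact Subgroup.zpowers_le.2 hwF
  exact fun x => hle ⟨x, rfl⟩

/-- A `p`-automorphism of a group of order at most `p²` fixes all its displacements. -/
theorem fixes_diff_of_card_le_sq (hcard : ∃ j ≤ 2, Nat.card V = p ^ j) {σ : MulAut V} {n : ℕ}
    (hσ : σ ^ p ^ n = 1) (x : V) : σ (x⁻¹ * σ x) = x⁻¹ * σ x := by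
  rcases eq_or_ne σ 1 with rfl | hσ1
  · rfl
  · obtain ⟨Z, -, -, hfix, hd⟩ := exists_fixed_line hcard hσ hσ1
    exact hfix _ (hd x)

/-- Two transvections with different centres. -/
theorem exists_transvection_pair {X : Type*} [Group X] [Finite X] (π : X →* MulAut V)
    (hker : IsPGroup p π.ker) (hcard : ∃ j ≤ 2, Nat.card V = p ^ j) {a : X} {n : ℕ}
    (ha : π a ^ p ^ n = 1) (hna : a ∉ Cfsg.pCore p X) :
    ∃ (v w : V) (b : X), (∀ f g : V →* V, f v = g v → f w = g w → f = g) ∧
      π a v = v ∧ π a w = w * v ∧ π b w = w ∧ π b v = v * w⁻¹ := by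
  have hp := (Fact.out : p.Prime)
  have hcomm := comm_of_card_le_sq hcard
  have ha1 : π a ≠ 1 := fun e => hna (CfsgLib.Fitting.le_pCore inferInstance hker
    (MonoidHom.mem_ker.2 e))
  obtain ⟨Z, hZ, hV, hfix, hd⟩ := exists_fixed_line hcard ha ha1
  let K0 : Subgroup (MulAut V) :=
    { carrier := {τ | (∀ z ∈ Z, τ z = z) ∧ ∀ x, x⁻¹ * τ x ∈ Z}
      one_mem' := ⟨fun z _ => rfl, fun x => by simp⟩
      mul_mem' := by
        rintro s t ⟨hs1, hs2⟩ ⟨ht1, ht2⟩
        refine ⟨fun z hz => by rw [MulAut.mul_apply, ht1 z hz, hs1 z hz], fun x => ?_⟩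
        rw [MulAut.mul_apply, show x⁻¹ * s (t x) = (x⁻¹ * t x) * ((t x)⁻¹ * s (t x)) by group]
        exact Z.mul_mem (ht2 x) (hs2 _)
      inv_mem' := by
        rintro s ⟨hs1, hs2⟩
        refine ⟨fun z hz => ?_, fun x => ?_⟩
        · conv_lhs => rw [← hs1 z hz, MulAut.inv_apply_self]
        · have := Z.inv_mem (hs2 (s⁻¹ x))
          rw [MulAut.apply_inv_self] at this
          simpa using this }
  have hK0 : IsPGroup p K0 := by
    rintro ⟨τ, hτ1, hτ2⟩
    refine ⟨1, Subtype.ext (MulEquiv.ext fun x => ?_)⟩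
    have hit : ∀ k : ℕ, (τ ^ k) x = x * (x⁻¹ * τ x) ^ k := by
      intro k
      induction k with
      | zero => simp
      | succ k ih =>
        rw [pow_succ', MulAut.mul_apply, ih, map_mul, map_pow, hτ1 _ (hτ2 x), pow_succ',
          ← mul_assoc x, mul_inv_cancel_left]
    have h1 : (x⁻¹ * τ x) ^ p = 1 := by
      have := congrArg Subtype.val (pow_card_eq_one' (x := (⟨_, hτ2 x⟩ : Z)))
      rwa [hZ] at this
    show (τ ^ p ^ 1) x = x
    rw [pow_one, hit, h1, mul_one]
  have hnn : ¬ ∀ x : X, ∀ z ∈ Z, π x z ∈ Z := by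
    intro hall
    have hn : (K0.comap π).Normal := ⟨fun k hk x => by
      refine ⟨fun z hz => ?_, fun y => ?_⟩
      · have h1 := hk.1 (π x⁻¹ z) (hall _ z hz)
        rw [map_inv] at h1
        rw [map_mul, map_mul, map_inv, MulAut.mul_apply, MulAut.mul_apply, h1,
          MulAut.apply_inv_self]
      · have h1 := hall x _ (hk.2 (π x⁻¹ y))
        rw [map_mul, map_inv, map_inv, MulAut.apply_inv_self] at h1
        rw [map_mul, map_mul, map_inv, MulAut.mul_apply, MulAut.mul_apply]
        exact h1⟩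
    exact hna (CfsgLib.Fitting.le_pCore hn (hK0.comap_of_ker_isPGroup π hker) ⟨hfix, hd⟩)
  push Not at hnn
  obtain ⟨x, z, hz, hxz⟩ := hnn
  obtain ⟨w, hw⟩ : ∃ w, w = π x z := ⟨_, rfl⟩
  rw [← hw] at hxz
  obtain ⟨v, hvdef⟩ : ∃ v, v = w⁻¹ * π a w := ⟨_, rfl⟩
  have hvZ : v ∈ Z := hvdef ▸ hd w
  have haw : π a w = w * v := by rw [hvdef, mul_inv_cancel_left]
  have hgen : ∀ f g : V →* V, f v = g v → f w = g w → v ≠ 1 → f = g := by
    intro f g hv hw' hv1
    have h1 : Z ≤ f.eqLocus g := by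
      have hzp : Subgroup.zpowers v = Z := by
        refine Subgroup.eq_of_le_of_card_ge (Subgroup.zpowers_le.2 hvZ) ?_
        rw [hZ, Nat.card_zpowers]
        have h2 : orderOf v ∣ p := by
          have := orderOf_dvd_natCard (⟨v, hvZ⟩ : Z)
          rwa [hZ, Subgroup.orderOf_mk] at this
        rcases (Nat.dvd_prime hp).1 h2 with h3 | h3
        · exact absurd (orderOf_eq_one_iff.1 h3) hv1
        · rw [h3]
      rw [← hzp]
      exact Subgroup.zpowers_le.2 hv
    have h2 : Z < f.eqLocus g :=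
      lt_of_le_of_ne h1 fun e => hxz (e ▸ (hw' : w ∈ f.eqLocus g))
    have h3 : f.eqLocus g = ⊤ := by
      by_contra hne
      obtain ⟨i, hi, hic⟩ := (Nat.dvd_prime_pow hp).1
        (show Nat.card (f.eqLocus g) ∣ p ^ 2 by
          rw [pow_two, ← hV]; exact Subgroup.card_subgroup_dvd_card _)
      have h4 : Nat.card (f.eqLocus g) ≠ Nat.card V := fun e =>
        hne ((Subgroup.card_eq_iff_eq_top _).1 e)
      interval_cases i
      · have h5 := Subgroup.card_dvd_of_le h1
        rw [hic, hZ, pow_zero, Nat.dvd_one] at h5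
        exact absurd h5 hp.ne_one
      · exact h2.ne (Subgroup.eq_of_le_of_card_ge h1 (by rw [hic, hZ, pow_one]))
      · exact h4 (by rw [hic, hV, pow_two])
    exact MonoidHom.ext fun y => (h3 ▸ Subgroup.mem_top y : y ∈ f.eqLocus g)
  have hv1 : v ≠ 1 := by
    intro e
    have hall : ∀ y, π a y = y := by
      intro y
      have h1 : Z ≤ (π a).toMonoidHom.eqLocus (MonoidHom.id V) := hfix
      have h2 : w ∈ (π a).toMonoidHom.eqLocus (MonoidHom.id V) := by
        show π a w = w
        rw [haw, e, mul_one]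
      have h3 : Z < (π a).toMonoidHom.eqLocus (MonoidHom.id V) :=
        lt_of_le_of_ne h1 fun e' => hxz (e' ▸ h2)
      have h4 : (π a).toMonoidHom.eqLocus (MonoidHom.id V) = ⊤ := by
        refine (Subgroup.card_eq_iff_eq_top _).1 ?_
        obtain ⟨i, hi, hic⟩ := (Nat.dvd_prime_pow hp).1
          (show Nat.card ((π a).toMonoidHom.eqLocus (MonoidHom.id V)) ∣ p ^ 2 by
            rw [pow_two, ← hV]; exact Subgroup.card_subgroup_dvd_card _)
        interval_cases i
        · have h5 := Subgroup.card_dvd_of_le h1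
          rw [hic, hZ, pow_zero, Nat.dvd_one] at h5
          exact absurd h5 hp.ne_one
        · exact absurd (Subgroup.eq_of_le_of_card_ge h1 (by rw [hic, hZ, pow_one])) h3.ne
        · rw [hic, hV, pow_two]
      exact (h4 ▸ Subgroup.mem_top y : y ∈ (π a).toMonoidHom.eqLocus (MonoidHom.id V))
    exact ha1 (MulEquiv.ext hall)
  obtain ⟨b, hb⟩ : ∃ b, b = x * a * x⁻¹ := ⟨_, rfl⟩
  have hbw : π b w = w := by
    rw [hb, map_mul, map_mul, map_inv, MulAut.mul_apply, MulAut.mul_apply, hw,
      MulAut.inv_apply_self, hfix z hz]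
  have hbd : v⁻¹ * π b v ∈ Subgroup.zpowers w := by
    have h1 := hd ((π x)⁻¹ v)
    have hz1 : z ≠ 1 := fun e => hxz (by rw [hw, e, map_one]; exact Z.one_mem)
    have hzZ : Subgroup.zpowers z = Z := by
      refine Subgroup.eq_of_le_of_card_ge (Subgroup.zpowers_le.2 hz) ?_
      rw [hZ, Nat.card_zpowers]
      have h2 : orderOf z ∣ p := by
        have := orderOf_dvd_natCard (⟨z, hz⟩ : Z)
        rwa [hZ, Subgroup.orderOf_mk] at this
      rcases (Nat.dvd_prime hp).1 h2 with h3 | h3
      · exact absurd (orderOf_eq_one_iff.1 h3) hz1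
      · rw [h3]
    rw [← hzZ] at h1
    obtain ⟨i, hi⟩ := Subgroup.mem_zpowers_iff.1 h1
    refine ⟨i, ?_⟩
    have h2 := congrArg (π x) hi
    rw [map_zpow, map_mul, map_inv, MulAut.apply_inv_self] at h2
    show w ^ i = _
    rw [hw, h2, hb, map_mul, map_mul, map_inv, MulAut.mul_apply, MulAut.mul_apply]
  obtain ⟨u, hu⟩ : ∃ u, π b v = v * u := ⟨v⁻¹ * π b v, by rw [mul_inv_cancel_left]⟩
  rw [hu, inv_mul_cancel_left] at hbd
  have hu1 : u ≠ 1 := by
    intro e
    rw [e, mul_one] at hu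
    have h1 := hgen (π b).toMonoidHom (MonoidHom.id V) hu hbw hv1
    have h2 : π b = 1 := MulEquiv.ext fun y => DFunLike.congr_fun h1 y
    rw [hb, map_mul, map_mul, map_inv, mul_inv_eq_one, mul_eq_left] at h2
    exact ha1 h2
  have hwo : orderOf w = p := by
    have hz2 : z ^ p = 1 := by
      have := congrArg Subtype.val (pow_card_eq_one' (x := (⟨z, hz⟩ : Z)))
      rwa [hZ] at this
    refine orderOf_eq_prime (by rw [hw, ← map_pow, hz2, map_one]) fun e => ?_
    rw [e] at hxz
    exact hxz Z.one_mem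
  have hwu : w⁻¹ ∈ Submonoid.powers u := by
    rw [mem_powers_iff_mem_zpowers]
    have h1 : Subgroup.zpowers u = Subgroup.zpowers w := by
      refine Subgroup.eq_of_le_of_card_ge (Subgroup.zpowers_le.2 hbd) ?_
      rw [Nat.card_zpowers, Nat.card_zpowers, hwo]
      have h2 : orderOf u ∣ p := by
        have := orderOf_dvd_natCard (⟨u, hbd⟩ : Subgroup.zpowers w)
        rwa [Nat.card_zpowers, hwo, Subgroup.orderOf_mk] at this
      rcases (Nat.dvd_prime hp).1 h2 with h3 | h3
      · exact absurd (orderOf_eq_one_iff.1 h3) hu1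
      · rw [h3]
    rw [h1]
    exact Subgroup.inv_mem _ (Subgroup.mem_zpowers w)
  obtain ⟨k, hk⟩ := (Submonoid.mem_powers_iff _ _).1 hwu
  have hbk : ∀ m : ℕ, π (b ^ m) w = w ∧ π (b ^ m) v = v * u ^ m := by
    intro m
    induction m with
    | zero => simp
    | succ m ih =>
      have hbu : π b u = u := by
        obtain ⟨i, rfl⟩ := Subgroup.mem_zpowers_iff.1 hbd
        rw [map_zpow, hbw]
      rw [pow_succ', map_mul, MulAut.mul_apply, MulAut.mul_apply, ih.1, ih.2, map_mul, map_pow, hu,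
        hbu, mul_assoc, ← pow_succ']
      exact ⟨hbw, rfl⟩
  exact ⟨v, w, b ^ k, fun f g h1 h2 => hgen f g h1 h2 hv1, hfix v hvZ, haw, (hbk k).1,
    by rw [(hbk k).2, hk]⟩

/-- A `p`-element outside `O_p(X)` forces an element inducing the inversion. -/
theorem exists_inversion {X : Type*} [Group X] [Finite X] (π : X →* MulAut V)
    (hker : IsPGroup p π.ker) (hcard : ∃ j ≤ 2, Nat.card V = p ^ j) {a : X} {n : ℕ}
    (ha : π a ^ p ^ n = 1) (hna : a ∉ Cfsg.pCore p X) : ∃ h : X, ∀ y : V, π h y = y⁻¹ := by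
  obtain ⟨v, w, b, hgen, hav, haw, hbw, hbv⟩ := exists_transvection_pair π hker hcard ha hna
  have hcomm := comm_of_card_le_sq hcard
  letI : CommGroup V := { (inferInstance : Group V) with mul_comm := hcomm }
  refine ⟨a * b * a * (a * b * a), fun y => ?_⟩
  have h1 : π (a * b * a) v = w⁻¹ := by
    rw [map_mul, map_mul, MulAut.mul_apply, MulAut.mul_apply, hav, hbv, map_mul, map_inv, hav,
      haw, mul_inv_rev, mul_inv_cancel_left]
  have h2 : π (a * b * a) w = v := by
    rw [map_mul, map_mul, MulAut.mul_apply, MulAut.mul_apply, haw, map_mul, hbw, hbv,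
      ← mul_assoc, mul_right_comm, mul_inv_cancel, one_mul, hav]
  have h3 := hgen (π (a * b * a * (a * b * a))).toMonoidHom
    (MonoidHom.mk' (fun y => y⁻¹) fun s t => by rw [mul_inv_rev, mul_comm]) (by
      show π (a * b * a * (a * b * a)) v = v⁻¹
      rw [map_mul π (a * b * a), MulAut.mul_apply, h1, map_inv, h2]) (by
      show π (a * b * a * (a * b * a)) w = w⁻¹
      rw [map_mul π (a * b * a), MulAut.mul_apply, h2, h1])
  exact DFunLike.congr_fun h3 y

end RankTwo

end CfsgLib.Fusion
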