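import Cfsg.Agent.Lib.Fusion.Alperin
import Cfsg.Agent.Lib.Fitting.Basic

/-!
Normal and central subgroups of saturated fusion systems.
-/

set_option autoImplicit false

namespace CfsgLib.Fusion

open Cfsg Cfsg.FusionSystem

variable {Ω : Type*} [Group Ω] {S : Subgroup Ω} {F : FusionSystem S}

theorem map_subgroupOf_eq_iff {R Q Q' : Subgroup Ω} (hQ : Q ≤ R) (ψ : R →* Ω) {g : Ω → Ω}
    (hv : ∀ x : R, ψ x = g x) :
    (Q.subgroupOf R).map ψ = Q' ↔ g '' (Q : Set Ω) = Q' := by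
  have : ((Q.subgroupOf R).map ψ : Set Ω) = g '' (Q : Set Ω) := by
    ext y
    constructor
    · rintro ⟨x, hx, rfl⟩
      exact ⟨x, hx, (hv x).symm⟩
    · rintro ⟨x, hx, rfl⟩
      exact ⟨⟨x, hQ hx⟩, hx, hv _⟩
  rw [← this, SetLike.coe_set_eq]

theorem isNormal_iff {Q : Subgroup Ω} :
    F.IsNormal Q ↔ Q ≤ S ∧ ∀ (P : Subgroup Ω) (f : Ω → Ω), IsMap F P f →
      ∃ g, IsMap F (P ⊔ Q) g ∧ (∀ x ∈ P, g x = f x) ∧ g '' (Q : Set Ω) = Q := by
  refine and_congr_right fun _ => ⟨fun h P f ⟨φ, hφ, hv⟩ => ?_, fun h P φ hφ => ?_⟩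
  · obtain ⟨ψ, hψ, hag, hQ⟩ := h P φ hφ
    refine ⟨homFun ψ, isMap_homFun hψ, fun x hx => ?_, ?_⟩
    · rw [homFun_apply ψ (Subgroup.mem_sup_left hx), ← hv ⟨x, hx⟩, ← hag ⟨x, hx⟩]
      rfl
    · exact (map_subgroupOf_eq_iff le_sup_right ψ fun x => (homFun_coe ψ x).symm).1 hQ
  · obtain ⟨g, ⟨ψ, hψ, hv⟩, hag, hQ⟩ := h P _ (isMap_homFun hφ)
    refine ⟨ψ, hψ, fun x => ?_, (map_subgroupOf_eq_iff le_sup_right ψ hv).2 hQ⟩
    rw [hv, ← homFun_coe φ x]
    exact hag x x.2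

theorem isCentral_iff {Q : Subgroup Ω} :
    F.IsCentral Q ↔ Q ≤ S ∧ ∀ (P : Subgroup Ω) (f : Ω → Ω), IsMap F P f →
      ∃ g, IsMap F (P ⊔ Q) g ∧ (∀ x ∈ P, g x = f x) ∧ ∀ x ∈ Q, g x = x := by
  refine and_congr_right fun _ => ⟨fun h P f ⟨φ, hφ, hv⟩ => ?_, fun h P φ hφ => ?_⟩
  · obtain ⟨ψ, hψ, hag, hQ⟩ := h P φ hφ
    refine ⟨homFun ψ, isMap_homFun hψ, fun x hx => ?_, fun x hx => ?_⟩
    · rw [homFun_apply ψ (Subgroup.mem_sup_left hx), ← hv ⟨x, hx⟩, ← hag ⟨x, hx⟩]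
      rfl
    · rw [homFun_apply ψ (Subgroup.mem_sup_right hx)]
      exact hQ ⟨x, hx⟩
  · obtain ⟨g, ⟨ψ, hψ, hv⟩, hag, hQ⟩ := h P _ (isMap_homFun hφ)
    refine ⟨ψ, hψ, fun x => ?_, fun x => ?_⟩
    · rw [hv, ← homFun_coe φ x]
      exact hag x x.2
    · rw [hv]
      exact hQ x x.2

theorem isMap_mem_of_stronglyClosed {T P : Subgroup Ω} {f : Ω → Ω} (hT : F.StronglyClosed T)
    (hf : IsMap F P f) {x : Ω} (hx : x ∈ P) (hxT : x ∈ T) : f x ∈ T := by
  obtain ⟨φ, hφ, hv⟩ := hf.mono (inf_le_left : P ⊓ T ≤ P)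
  rw [← hv ⟨x, hx, hxT⟩]
  exact hT.2 _ inf_le_right φ hφ _

theorem stronglyClosed_iff {T : Subgroup Ω} :
    F.StronglyClosed T ↔ T ≤ S ∧
      ∀ (P : Subgroup Ω) (f : Ω → Ω), IsMap F P f → ∀ x ∈ P, x ∈ T → f x ∈ T := by
  refine ⟨fun h => ⟨h.1, fun P f hf x hx hxT => isMap_mem_of_stronglyClosed h hf hx hxT⟩,
    fun h => ⟨h.1, fun R hR φ hφ x => ?_⟩⟩
  rw [← homFun_coe φ x]
  exact h.2 R _ (isMap_homFun hφ) x x.2 (hR x.2)

theorem stronglyClosed_of_isNormal {Q : Subgroup Ω} (hQ : F.IsNormal Q) : F.StronglyClosed Q := by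
  refine stronglyClosed_iff.2 ⟨hQ.1, fun P f hf x hx hxQ => ?_⟩
  obtain ⟨g, -, hag, hgQ⟩ := (isNormal_iff.1 hQ).2 P f hf
  rw [← hag x hx]
  exact hgQ.subset ⟨x, hxQ, rfl⟩

theorem le_normalizer_of_isNormal [Finite S] {Q : Subgroup Ω} (hQ : F.IsNormal Q) :
    S ≤ Subgroup.normalizer (Q : Set Ω) := fun _ hg =>
  mem_normalizer_of_conj_mem hQ.1 fun _ hx => isMap_mem_of_stronglyClosed
    (stronglyClosed_of_isNormal hQ) (isMap_conj le_rfl hg) (hQ.1 hx) hx

theorem image_eq_of_mem [Finite S] {Q P : Subgroup Ω} {f : Ω → Ω} (hQ : Q ≤ S) (hf : IsMap F P f)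
    (hQP : Q ≤ P) (h : ∀ x ∈ Q, f x ∈ Q) : f '' (Q : Set Ω) = Q := by
  have := finite_of_le hQ
  exact ((hf.mono hQP).isIso_of_card_le h le_rfl).image_eq

variable {p : ℕ} [Fact p.Prime] [Finite S]

theorem isNormal_of_generators_aux (hS : IsPGroup p S) (hF : F.IsSaturated p) {Q : Subgroup Ω}
    (hQ : Q ≤ S)
    (h : ∀ P : Subgroup Ω, (P = S ∨ F.IsEssential p P) →
      Q ≤ P ∧ ∀ α ∈ F.autGroup P, ∀ x ∈ Q, autFun α x ∈ Q)
    {T : Subgroup Ω} (hT : T = S) (E : FusionSystem T)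
    (hE : ∀ P : Subgroup Ω, E.Hom P = F.normalizerHom Q P) (hN : normalizerIn S Q = S) :
    ∀ (P : Subgroup Ω) (f : Ω → Ω), IsMap F P f → IsMap E P f := by
  subst hT
  refine le_of_autGroup_le hS hF fun P hP α hα => ?_
  have hPS : P ≤ T := by
    rcases hP with rfl | hess
    · exact le_rfl
    · exact hess.1.1
  obtain ⟨hQP, hinv⟩ := h P hP
  have hα' := (mem_autGroup_iff hPS α).1 hα
  have hsup : P ⊔ Q = P := sup_eq_left.2 hQP
  obtain ⟨φ, hφ, hv⟩ := hα'.isMap.exists_hom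
  obtain ⟨ψ, hψ, hw⟩ := (hα'.isMap.mono hsup.le).exists_hom
  refine mem_autGroup_of_isMap ⟨φ, ?_, hv⟩ α fun x => (autFun_coe α x).symm
  rw [hE P]
  refine ⟨hφ, hN.symm ▸ hPS, fun x => hN.symm ▸ (F.le_of_mem hφ).2 x, ψ, hψ, fun x => ?_, ?_⟩
  · rw [hw, hv]; rfl
  · exact (map_subgroupOf_eq_iff le_sup_right ψ hw).2
      (image_eq_of_mem hQ hα'.isMap hQP (hinv α hα))

/-- A subgroup contained in `S` and in the essential subgroups, invariant under their automizers,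
is normal. -/
theorem isNormal_of_generators (hS : IsPGroup p S) (hF : F.IsSaturated p) {Q : Subgroup Ω}
    (hQ : Q ≤ S)
    (h : ∀ P : Subgroup Ω, (P = S ∨ F.IsEssential p P) →
      Q ≤ P ∧ ∀ α ∈ F.autGroup P, ∀ x ∈ Q, autFun α x ∈ Q) : F.IsNormal Q := by
  have hN : normalizerIn S Q = S := by
    refine le_antisymm inf_le_left fun g hg => ⟨hg, mem_normalizer_of_conj_mem hQ fun x hx => ?_⟩
    have hgn : g ∈ Subgroup.normalizer (S : Set Ω) := Subgroup.le_normalizer hg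
    have := (h S (Or.inl rfl)).2 _
      (autInducedBy_le_autGroup le_rfl (conjAut_mem_autInducedBy (K := S) hgn hg)) x hx
    rwa [autFun_apply _ (hQ hx), conjAut_apply] at this
  refine isNormal_iff.2 ⟨hQ, fun P f hf => ?_⟩
  obtain ⟨φ, hφ, hv⟩ :=
    isNormal_of_generators_aux hS hF hQ h hN (normalizerSystem F Q hQ) (fun _ => rfl) hN P f hf
  obtain ⟨-, -, -, ψ, hψ, hag, hQψ⟩ := hφ
  refine ⟨homFun ψ, isMap_homFun hψ, fun x hx => ?_,
    (map_subgroupOf_eq_iff le_sup_right ψ fun x => (homFun_coe ψ x).symm).1 hQψ⟩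
  rw [homFun_apply ψ (Subgroup.mem_sup_left hx), ← hv ⟨x, hx⟩, ← hag]
  rfl

omit [Fact p.Prime] in
/-- The automorphisms induced on a centric radical `P` by a normalized set lie in `P`. -/
theorem mem_of_mem_pCore {P : Subgroup Ω} (hc : F.IsCentric P) (hr : F.IsRadical p P) {g : Ω}
    (hg : g ∈ normalizerIn S P) {α : F.autGroup P}
    (hα : ∀ x : P, ((α : MulAut P) x : Ω) = g * x * g⁻¹)
    (hcore : α ∈ Cfsg.pCore p (F.autGroup P)) : g ∈ P := by
  by_contra hgP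
  exact conjAut_notMem_inn (hc.2 P (isConj_refl hc.1)) hc.1 hg hgP hα
    (hr.2.le ⟨α, hcore, rfl⟩)

theorem le_of_normalizer_inf_le (hS : IsPGroup p S) {P Q : Subgroup Ω} (hP : P ≤ S) (hQ : Q ≤ S)
    (hn : P ≤ Subgroup.normalizer (Q : Set Ω))
    (h : ∀ g ∈ Q, g ∈ Subgroup.normalizer (P : Set Ω) → g ∈ P) : Q ≤ P := by
  by_contra hQP
  have hsup : P ⊔ Q ≤ S := sup_le hP hQ
  have := finite_of_le hsup
  have hne : P ≠ P ⊔ Q := fun he => hQP (he ▸ le_sup_right)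
  obtain ⟨g, hg, hgP⟩ := SetLike.exists_of_lt (lt_normalizerIn (hS.to_le hsup) le_sup_left hne)
  have hg1 : g ∈ ((P ⊔ Q : Subgroup Ω) : Set Ω) := hg.1
  rw [Subgroup.coe_mul_of_left_le_normalizer_right _ _ hn] at hg1
  obtain ⟨a, ha, b, hb, hab⟩ := hg1
  have hbn : b ∈ Subgroup.normalizer (P : Set Ω) := by
    rw [← inv_mul_cancel_left a b, show a * b = g from hab]
    exact Subgroup.mul_mem _ (Subgroup.inv_mem _ (Subgroup.le_normalizer ha)) hg.2
  have habg : a * b = g := hab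
  exact hgP (habg ▸ P.mul_mem ha (h b hb hbn))

/-- A normal subgroup is contained in every centric radical subgroup. -/
theorem le_of_isNormal (hS : IsPGroup p S) {P Q : Subgroup Ω} (hQ : F.IsNormal Q)
    (hc : F.IsCentric P) (hr : F.IsRadical p P) : Q ≤ P := by
  refine le_of_normalizer_inf_le hS hc.1 hQ.1
    (fun x hx => le_normalizer_of_isNormal hQ (hc.1 hx)) fun g hgQ hgn => ?_
  have := finite_of_le hc.1
  have := finite_mulAut P
  have hle : autInducedBy Q P ≤ F.autGroup P :=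
    (autInducedBy_mono hQ.1 P).trans (autInducedBy_le_autGroup hc.1)
  have hn : ((autInducedBy Q P).subgroupOf (F.autGroup P)).Normal := by
    refine ⟨fun a ha b => ?_⟩
    obtain ⟨u, hu, huv⟩ := (mem_autInducedBy_iff Q P _).1 ha
    obtain ⟨f, hf, hag, hfQ⟩ :=
      (isNormal_iff.1 hQ).2 P _ ((mem_autGroup_iff hc.1 _).1 b.2).isMap
    refine (mem_autInducedBy_iff Q P _).2 ⟨f u, hfQ.subset ⟨u, hu, rfl⟩, fun y => ?_⟩
    obtain ⟨x, rfl⟩ := (b : MulAut P).surjective y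
    have huv' : (((a : MulAut P) x : P) : Ω) = u * x * u⁻¹ := huv x
    show ((((b : MulAut P) * (a : MulAut P) * (b : MulAut P)⁻¹) ((b : MulAut P) x) : P) : Ω) = _
    rw [MulAut.mul_apply, MulAut.mul_apply, MulAut.inv_apply_self, ← autFun_coe (b : MulAut P) x, ← autFun_coe (b : MulAut P), ← hag _ (SetLike.coe_mem _),
      huv', ← hag x x.2, hf.map_conj (Subgroup.mem_sup_right hu) (Subgroup.mem_sup_left x.2)]
  exact mem_of_mem_pCore hc hr ⟨hQ.1 hgQ, hgn⟩
    (α := ⟨conjAut P hgn, hle (conjAut_mem_autInducedBy hgn hgQ)⟩) (conjAut_apply P hgn)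
    (CfsgLib.Fitting.le_pCore hn ((isPGroup_autInducedBy (hS.to_le hQ.1) P).of_equiv
      (Subgroup.subgroupOfEquivOfLe hle).symm) (conjAut_mem_autInducedBy hgn hgQ))

theorem isRadical_of_isEssential (hS : IsPGroup p S) {P : Subgroup Ω}
    (hP : F.IsEssential p P) : F.IsRadical p P := by
  obtain ⟨-, hfn, hn, E, hE⟩ := hP
  have := finite_of_le hfn.1
  have := finite_mulAut P
  refine ⟨hfn.1, ?_⟩
  have hK : (Cfsg.pCore p (F.autGroup P)).Normal := CfsgLib.Fitting.pCore_normal p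
  have hIp : IsPGroup p (Cfsg.Inn P) := by
    rw [inn_eq_autInducedBy]
    exact isPGroup_autInducedBy (hS.to_le hfn.1) P
  have hI : (Cfsg.Inn P).subgroupOf (F.autGroup P) ≤ Cfsg.pCore p (F.autGroup P) :=
    CfsgLib.Fitting.le_pCore hn
      (hIp.of_equiv (Subgroup.subgroupOfEquivOfLe (inn_le_autGroup hfn.1)).symm)
  have hKn : ((Cfsg.pCore p (F.autGroup P)).map
      (QuotientGroup.mk' ((Cfsg.Inn P).subgroupOf (F.autGroup P)))).Normal :=
    hK.map _ (QuotientGroup.mk'_surjective _)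
  have hbot := eq_bot_of_isStronglyPEmbedded hE
    (U := (Cfsg.pCore p (F.autGroup P)).map
      (QuotientGroup.mk' ((Cfsg.Inn P).subgroupOf (F.autGroup P))))
    ((CfsgLib.Fitting.pCore_isPGroup p).map _)
  rw [Subgroup.map_eq_bot_iff, QuotientGroup.ker_mk'] at hbot
  rw [le_antisymm hbot hI, Subgroup.map_subgroupOf_eq_of_le (inn_le_autGroup hfn.1)]

theorem isNormal_iff_generators (hS : IsPGroup p S) (hF : F.IsSaturated p) {Q : Subgroup Ω} :
    F.IsNormal Q ↔ Q ≤ S ∧ ∀ P : Subgroup Ω, (P = S ∨ F.IsEssential p P) →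
      Q ≤ P ∧ ∀ α ∈ F.autGroup P, ∀ x ∈ Q, autFun α x ∈ Q := by
  refine ⟨fun hQ => ⟨hQ.1, fun P hP => ?_⟩, fun h => isNormal_of_generators hS hF h.1 h.2⟩
  have hQP : Q ≤ P := by
    rcases hP with rfl | hess
    · exact hQ.1
    · exact le_of_isNormal hS hQ hess.1 (isRadical_of_isEssential hS hess)
  have hPS : P ≤ S := by
    rcases hP with rfl | hess
    · exact le_rfl
    · exact hess.1.1
  exact ⟨hQP, fun α hα x hx => isMap_mem_of_stronglyClosed (stronglyClosed_of_isNormal hQ)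
    ((mem_autGroup_iff hPS α).1 hα).isMap (hQP hx) hx⟩

theorem isNormal_iff_stronglyClosed_le (hS : IsPGroup p S) (hF : F.IsSaturated p)
    {Q : Subgroup Ω} :
    F.IsNormal Q ↔
      F.StronglyClosed Q ∧ ∀ P : Subgroup Ω, F.IsCentric P → F.IsRadical p P → Q ≤ P := by
  refine ⟨fun hQ => ⟨stronglyClosed_of_isNormal hQ, fun P hc hr => le_of_isNormal hS hQ hc hr⟩,
    fun h => isNormal_of_generators hS hF h.1.1 fun P hP => ?_⟩
  rcases hP with rfl | hess
  · exact ⟨h.1.1, fun α hα x hx => isMap_mem_of_stronglyClosed h.1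
      ((mem_autGroup_iff le_rfl α).1 hα).isMap (h.1.1 hx) hx⟩
  · have hQP := h.2 P hess.1 (isRadical_of_isEssential hS hess)
    exact ⟨hQP, fun α hα x hx => isMap_mem_of_stronglyClosed h.1
      ((mem_autGroup_iff hess.1.1 α).1 hα).isMap (hQP hx) hx⟩

/-! ### Stabilizers of series -/

/-- A group of automorphisms stabilizing a series of a finite `p`-group is a `p`-group. -/
theorem isPGroup_of_stabilizes_series {P : Type*} [Group P] [Finite P] (hP : IsPGroup p P)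
    (L : ℕ → Subgroup P) (n : ℕ) (h0 : L 0 = ⊥) (hn : L n = ⊤) (K : Subgroup (MulAut P))
    (h : ∀ α ∈ K, ∀ i < n, ∀ x ∈ L (i + 1), x⁻¹ * α x ∈ L i) : IsPGroup p K := by
  intro α
  have := finite_mulAut P
  obtain ⟨a, r, hr, hord⟩ := Nat.exists_eq_pow_mul_and_not_dvd
    (orderOf_pos (α : MulAut P)).ne' p (Fact.out : p.Prime).ne_one
  set β : MulAut P := (α : MulAut P) ^ p ^ a with hβ
  have hβr : β ^ r = 1 := by rw [hβ, ← pow_mul, ← hord, pow_orderOf_eq_one]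
  have hβK : β ∈ K := K.pow_mem α.2 _
  have hfix : ∀ i ≤ n, ∀ x ∈ L i, β x = x := by
    intro i
    induction i with
    | zero =>
      intro _ x hx
      rw [h0, Subgroup.mem_bot] at hx
      rw [hx, map_one]
    | succ i ih =>
      intro hi x hx
      have hd := h β hβK i (by omega) x hx
      set d := x⁻¹ * β x with hd'
      have hpow : ∀ m : ℕ, (β ^ m) x = x * d ^ m := by
        intro m
        induction m with
        | zero => simp
        | succ m ihm =>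
          rw [pow_succ', MulAut.mul_apply, ihm, map_mul, map_pow, ih (by omega) d hd,
            show β x = x * d by rw [hd', mul_inv_cancel_left], pow_succ', mul_assoc]
      have hdr : d ^ r = 1 := by
        have := hpow r
        rw [hβr, MulAut.one_apply] at this
        exact mul_eq_left.1 this.symm
      obtain ⟨b, hb⟩ := hP d
      have h1 : orderOf d ∣ Nat.gcd (p ^ b) r :=
        Nat.dvd_gcd (orderOf_dvd_of_pow_eq_one hb) (orderOf_dvd_of_pow_eq_one hdr)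
      rw [(((Fact.out : p.Prime).coprime_iff_not_dvd).2 hr |>.pow_left b).gcd_eq_one,
        Nat.dvd_one, orderOf_eq_one_iff, hd', inv_mul_eq_one] at h1
      exact h1.symm
  exact ⟨a, Subtype.ext (MulEquiv.ext fun x => hfix n le_rfl x (hn ▸ Subgroup.mem_top x))⟩

/-- A strongly closed subgroup with a central series of strongly closed subgroups lies in every
centric radical subgroup. -/
theorem le_of_series (hS : IsPGroup p S) {P Q : Subgroup Ω} (hc : F.IsCentric P)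
    (hr : F.IsRadical p P) (n : ℕ) (Qs : ℕ → Subgroup Ω) (h0 : Qs 0 = ⊥) (hn : Qs n = Q)
    (hmono : ∀ i < n, Qs i ≤ Qs (i + 1)) (hcl : ∀ i, i ≤ n → F.StronglyClosed (Qs i))
    (hcomm : ∀ i < n, ∀ g ∈ Q, ∀ x ∈ Qs (i + 1), g * x * g⁻¹ * x⁻¹ ∈ Qs i) : Q ≤ P := by
  have := finite_of_le hc.1
  have := finite_mulAut P
  have hQ : F.StronglyClosed Q := hn ▸ hcl n le_rfl
  have hQn : S ≤ Subgroup.normalizer (Q : Set Ω) := fun g hg =>
    mem_normalizer_of_conj_mem hQ.1 fun x hx =>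
      isMap_mem_of_stronglyClosed hQ (isMap_conj le_rfl hg) (hQ.1 hx) hx
  let L : ℕ → Subgroup P := fun i => if i ≤ n then (Qs i).subgroupOf P else ⊤
  have hLle : ∀ i, i ≤ n → L i = (Qs i).subgroupOf P := fun i hi => if_pos hi
  have hLgt : ∀ i, ¬ i ≤ n → L i = ⊤ := fun i hi => if_neg hi
  have hLmono : ∀ i < n + 1, L i ≤ L (i + 1) := fun i hi => by
    rcases Nat.lt_or_ge i n with h | h
    · rw [hLle i h.le, hLle (i + 1) h]
      exact Subgroup.comap_mono (hmono i h)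
    · rw [hLgt (i + 1) (by omega)]
      exact le_top
  have hpres : ∀ α ∈ F.autGroup P, ∀ i, ∀ x ∈ L i, α x ∈ L i := by
    intro α hα i x hx
    by_cases hi : i ≤ n
    · rw [hLle i hi] at hx ⊢
      have := isMap_mem_of_stronglyClosed (hcl i hi) ((mem_autGroup_iff hc.1 α).1 hα).isMap x.2 hx
      rw [autFun_coe] at this
      exact this
    · rw [hLgt i hi]
      trivial
  let K : Subgroup (MulAut P) :=
    { carrier := {α | α ∈ F.autGroup P ∧ ∀ i < n + 1, ∀ x ∈ L (i + 1), x⁻¹ * α x ∈ L i}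
      one_mem' := ⟨Subgroup.one_mem _, fun i _ x _ => by
        rw [MulAut.one_apply, inv_mul_cancel]; exact Subgroup.one_mem _⟩
      mul_mem' := by
        rintro a b ⟨ha, ha'⟩ ⟨hb, hb'⟩
        refine ⟨Subgroup.mul_mem _ ha hb, fun i hi x hx => ?_⟩
        rw [MulAut.mul_apply, show x⁻¹ * a (b x) = (x⁻¹ * b x) * ((b x)⁻¹ * a (b x)) by group]
        exact Subgroup.mul_mem _ (hb' i hi x hx) (ha' i hi _ (hpres b hb _ x hx))
      inv_mem' := by
        rintro a ⟨ha, ha'⟩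
        refine ⟨Subgroup.inv_mem _ ha, fun i hi x hx => ?_⟩
        have hy := hpres _ (Subgroup.inv_mem _ ha) _ x hx
        have := Subgroup.inv_mem _ (ha' i hi _ hy)
        rwa [MulAut.apply_inv_self, mul_inv_rev, inv_inv] at this }
  have hKle : K ≤ F.autGroup P := fun a ha => ha.1
  have hKn : (K.subgroupOf (F.autGroup P)).Normal := by
    refine ⟨fun a ha b => ⟨(b * a * b⁻¹ : F.autGroup P).2, fun i hi x hx => ?_⟩⟩
    show x⁻¹ * ((b : MulAut P) * (a : MulAut P) * (b : MulAut P)⁻¹) x ∈ L i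
    simp only [MulAut.mul_apply]
    have hy := hpres _ (Subgroup.inv_mem _ b.2) _ x hx
    have := hpres _ b.2 i _ (ha.2 i hi _ hy)
    rwa [map_mul, map_inv, MulAut.apply_inv_self] at this
  have hKp : IsPGroup p K := isPGroup_of_stabilizes_series (hS.to_le hc.1) L (n + 1)
    (by rw [hLle 0 (Nat.zero_le _), h0, Subgroup.bot_subgroupOf]) (hLgt _ (by omega)) K
    (fun α hα => hα.2)
  refine le_of_normalizer_inf_le hS hc.1 hQ.1 (fun x hx => hQn (hc.1 hx)) fun g hgQ hgn => ?_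
  have hgK : conjAut P hgn ∈ K := by
    refine ⟨autInducedBy_le_autGroup hc.1 (conjAut_mem_autInducedBy hgn (hQ.1 hgQ)),
      fun i hi x hx => ?_⟩
    rcases Nat.lt_or_ge i n with h | h
    · rw [hLle (i + 1) h] at hx
      rw [hLle i h.le, Subgroup.mem_subgroupOf]
      have hq := hcomm i h g hgQ x hx
      have hx' : ((x : P) : Ω) ∈ Qs (i + 1) := hx
      have hnorm : ((x : P) : Ω) ∈ S := hc.1 x.2
      have := isMap_mem_of_stronglyClosed (hcl i h.le) (isMap_conj le_rfl (S.inv_mem hnorm))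
        ((hcl i h.le).1 hq) hq
      show (x : Ω)⁻¹ * (g * x * g⁻¹) ∈ Qs i
      convert this using 1
      group
    · have : i = n := by omega
      subst this
      rw [hLle i le_rfl, hn, Subgroup.mem_subgroupOf]
      show (x : Ω)⁻¹ * (g * x * g⁻¹) ∈ Q
      rw [show (x : Ω)⁻¹ * (g * x * g⁻¹) = ((x : Ω)⁻¹ * g * ((x : Ω)⁻¹)⁻¹) * g⁻¹ by group]
      exact Q.mul_mem (conj_mem_of_mem_normalizer (hQn (S.inv_mem (hc.1 x.2))) hgQ)
        (Q.inv_mem hgQ)
  exact mem_of_mem_pCore hc hr ⟨hQ.1 hgQ, hgn⟩ (α := ⟨_, hKle hgK⟩) (conjAut_apply P hgn)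
    (CfsgLib.Fitting.le_pCore hKn (hKp.of_equiv (Subgroup.subgroupOfEquivOfLe hKle).symm) hgK)

theorem isNormal_of_series (hS : IsPGroup p S) (hF : F.IsSaturated p) {Q : Subgroup Ω}
    (n : ℕ) (Qs : ℕ → Subgroup Ω) (h0 : Qs 0 = ⊥) (hn : Qs n = Q)
    (hmono : ∀ i < n, Qs i ≤ Qs (i + 1)) (hcl : ∀ i, i ≤ n → F.StronglyClosed (Qs i))
    (hcomm : ∀ i < n, ∀ g ∈ Q, ∀ x ∈ Qs (i + 1), g * x * g⁻¹ * x⁻¹ ∈ Qs i) : F.IsNormal Q :=
  (isNormal_iff_stronglyClosed_le hS hF).2 ⟨hn ▸ hcl n le_rfl,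
    fun _ hc hr => le_of_series hS hc hr n Qs h0 hn hmono hcl hcomm⟩

/-- A strongly closed abelian subgroup is normal. -/
theorem isNormal_of_abelian (hS : IsPGroup p S) (hF : F.IsSaturated p) {Q : Subgroup Ω}
    (hQ : F.StronglyClosed Q) (hab : ∀ x ∈ Q, ∀ y ∈ Q, x * y = y * x) : F.IsNormal Q := by
  refine isNormal_of_series hS hF 1 (fun i => if i = 0 then ⊥ else Q) rfl rfl
    (fun i hi => ?_) (fun i hi => ?_) fun i hi g hg x hx => ?_
  · interval_cases i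
    exact bot_le
  · interval_cases i
    · exact stronglyClosed_of_isNormal (isNormal_bot F)
    · exact hQ
  · interval_cases i
    rw [hab g hg x hx]
    simp

/-- A subgroup fixed elementwise by fusion is central. -/
theorem isCentral_of_fixed (hS : IsPGroup p S) (hF : F.IsSaturated p) {Q : Subgroup Ω}
    (hQ : Q ≤ S) (hfix : ∀ (P : Subgroup Ω) (f : Ω → Ω), IsMap F P f → ∀ x ∈ P, x ∈ Q → f x = x) :
    F.IsCentral Q := by
  refine isCentral_iff.2 ⟨hQ, fun P f hf => ?_⟩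
  have hcent : ∀ A : Subgroup Ω, A ≤ S → Q ≤ centralizerIn S A := fun A hA q hq =>
    ⟨hQ hq, Subgroup.mem_centralizer_iff.2 fun a ha =>
      mul_inv_eq_iff_eq_mul.1 (hfix S _ (isMap_conj le_rfl (hA ha)) q (hQ hq) hq)⟩
  obtain ⟨P', hP'⟩ := hf.exists_iso
  obtain ⟨R, hPR, hR⟩ := exists_isFullyNormalized (F := F) hP'.le_left
  have ha := isFullyAutomized_of_isFullyNormalized hS hF hR
  have hr := isReceptive_of_isFullyNormalized hS hF hR
  obtain ⟨a, haN, haP, -, -⟩ := exists_map_normalizerIn hS ha hr hPR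
  obtain ⟨b, hbN, hbP, -, -⟩ :=
    exists_map_normalizerIn hS ha hr (isConj_trans (isConj_symm hP'.isConj) hPR)
  have hle : ∀ {A B : Subgroup Ω} {g : Ω → Ω}, IsIso F A B g → A ⊔ Q ≤ normalizerIn S A :=
    fun h => sup_le (le_normalizerIn h.le_left)
      ((hcent _ h.le_left).trans (centralizerIn_le_normalizerIn S _))
  have hext : ∀ {A B : Subgroup Ω} {g : Ω → Ω}, IsMap F (A ⊔ Q) g → IsIso F A B g →
      IsIso F (A ⊔ Q) (B ⊔ Q) g := by
    intro A B g hg hAB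
    have hQg : ∀ q ∈ Q, g q = q := fun q hq => hfix _ g hg q (Subgroup.mem_sup_right hq) hq
    obtain ⟨C, hC⟩ := hg.exists_iso
    have hCeq : C = B ⊔ Q := by
      refine le_antisymm (fun y hy => ?_) (sup_le (fun y hy => ?_) fun q hq => ?_)
      · obtain ⟨x, hx, rfl⟩ := hC.surj hy
        rw [← SetLike.mem_coe, Subgroup.coe_mul_of_left_le_normalizer_right _ _
          (fun z hz => (centralizerIn_le_normalizerIn S Q ⟨hAB.le_left hz,
            Subgroup.mem_centralizer_iff.2 fun q hq =>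
              (Subgroup.mem_centralizer_iff.1 (hcent A hAB.le_left hq).2 z hz).symm⟩).2)] at hx
        obtain ⟨u, hu, v, hv, rfl⟩ := hx
        show g (u * v) ∈ B ⊔ Q
        rw [hg.map_mul (Subgroup.mem_sup_left hu) (Subgroup.mem_sup_right hv), hQg v hv]
        exact Subgroup.mul_mem_sup (hAB.mem hu) hv
      · obtain ⟨x, hx, rfl⟩ := hAB.surj hy
        exact hC.mem (Subgroup.mem_sup_left hx)
      · exact hQg q hq ▸ hC.mem (Subgroup.mem_sup_right hq)
    exact hCeq ▸ hC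
  obtain ⟨k, hk, hk1, -⟩ :=
    (hext (hbN.mono (hle hbP)) hbP).exists_symm
  obtain ⟨a', ha', ha'1, -⟩ := haP.exists_symm
  obtain ⟨c, hc, hcv⟩ := (isReceptive_iff.1 hr).2 R _ ((ha'.comp hP').comp hbP)
  have hRQ : R ⊔ Q ≤ nPhi S R (b ∘ (f ∘ a')) :=
    sup_le (le_nPhi ((ha'.comp hP').comp hbP).isMap)
      ((hcent R hR.1).trans (centralizerIn_le_nPhi R _))
  have hcI := hext (hc.mono hRQ) (((ha'.comp hP').comp hbP).congr fun x hx => (hcv x hx).symm)
  have htot := ((hext (haN.mono (hle haP)) haP).comp hcI).comp hk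
  refine ⟨_, htot.isMap, fun x hx => ?_, fun x hx =>
    hfix _ _ htot.isMap x (Subgroup.mem_sup_right hx) hx⟩
  show k (c (a x)) = f x
  rw [hcv _ (haP.mem hx)]
  show k (b (f (a' (a x)))) = f x
  rw [ha'1 x hx, hk1 _ (Subgroup.mem_sup_left (hP'.mem hx))]

end CfsgLib.Fusion
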