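import Mathlib
import Cfsg.Agent.Lib.Fitting.Basic
import Cfsg.Agent.Lib.Fusion.Normal

/-!
`p`-stability of a fusion system passes to and comes from normalizer systems.
-/

set_option autoImplicit false

namespace CfsgLib.Fusion

open Cfsg Cfsg.FusionSystem

variable {Ω : Type*} [Group Ω] {S : Subgroup Ω} {F : FusionSystem S} {p : ℕ}

/-- Quadratic elements of `Aut_F(Q)` lie in `O_p(Aut_F(Q))`. -/
def StableAtSubgroup (F : FusionSystem S) (p : ℕ) (Q : Subgroup Ω) : Prop :=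
  ∀ χ : MulAut ↥Q, χ ∈ F.autGroup Q →
    (∀ a : ↥Q, (χ a⁻¹) * a * (χ a⁻¹) * (χ (χ a)) = 1) →
      χ ∈ ((Cfsg.pCore p ↥(F.autGroup Q)).map (F.autGroup Q).subtype : Subgroup (MulAut ↥Q))

theorem mem_pCore_of_le {X : Type*} [Group X] {A B : Subgroup X} (h : B ≤ A) {x : X} (hx : x ∈ B)
    (hA : x ∈ (Cfsg.pCore p A).map A.subtype) : x ∈ (Cfsg.pCore p B).map B.subtype := by
  obtain ⟨a, ha, rfl⟩ := hA
  refine ⟨⟨a, hx⟩, CfsgLib.Fitting.le_pCore
    (N := (Cfsg.pCore p A).comap (Subgroup.inclusion h))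
    ((CfsgLib.Fitting.pCore_normal p).comap _)
    ((CfsgLib.Fitting.pCore_isPGroup p).comap_of_injective _ (Subgroup.inclusion_injective h))
    ha, rfl⟩

theorem mem_pCore_of_equiv {X Y : Type*} [Group X] [Group Y] (e : X ≃* Y) {A : Subgroup X}
    {B : Subgroup Y} (h : ∀ x, x ∈ A ↔ e x ∈ B) {x : X}
    (hB : e x ∈ (Cfsg.pCore p B).map B.subtype) : x ∈ (Cfsg.pCore p A).map A.subtype := by
  obtain ⟨b, hb, hbx⟩ := hB
  have hxA : x ∈ A := (h x).2 (hbx ▸ b.2)
  let f : A →* B := (e.toMonoidHom.comp A.subtype).codRestrict B fun a => (h a).1 a.2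
  have hf : Function.Injective f := fun a a' haa =>
    Subtype.ext (e.injective (congrArg Subtype.val haa))
  refine ⟨⟨x, hxA⟩, CfsgLib.Fitting.le_pCore (N := (Cfsg.pCore p B).comap f)
    ((CfsgLib.Fitting.pCore_normal p).comap _)
    ((CfsgLib.Fitting.pCore_isPGroup p).comap_of_injective _ hf) ?_, rfl⟩
  show f ⟨x, hxA⟩ ∈ Cfsg.pCore p B
  rwa [show f ⟨x, hxA⟩ = b from Subtype.ext hbx.symm]

theorem stableAtSubgroup_of_isConj {Q Q' : Subgroup Ω} (hc : F.IsConj Q Q')
    (h : StableAtSubgroup F p Q') : StableAtSubgroup F p Q := by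
  obtain ⟨f, hf⟩ := isConj_iff.1 hc
  obtain ⟨g, hg, hgf, hfg⟩ := hf.exists_symm
  let e : Q ≃* Q' :=
    { toFun := fun x => ⟨f x, hf.mem x.2⟩
      invFun := fun y => ⟨g y, hg.mem y.2⟩
      left_inv := fun x => Subtype.ext (hgf x x.2)
      right_inv := fun y => Subtype.ext (hfg y y.2)
      map_mul' := fun x y => Subtype.ext (hf.isMap.map_mul x.2 y.2) }
  have key : ∀ χ : MulAut Q, χ ∈ F.autGroup Q ↔ MulAut.congr e χ ∈ F.autGroup Q' := by
    intro χ
    rw [mem_autGroup_iff hf.le_left, mem_autGroup_iff hf.le_right]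
    constructor
    · intro hχ
      refine ((hg.comp hχ).comp hf).congr fun y hy => ?_
      rw [autFun_apply _ hy]
      show f (autFun χ (g y)) = _
      rw [autFun_apply χ (hg.mem hy)]
      rfl
    · intro hχ
      refine ((hf.comp hχ).comp hg).congr fun x hx => ?_
      rw [autFun_apply _ hx]
      show g (autFun (MulAut.congr e χ) (f x)) = _
      rw [autFun_apply _ (hf.mem hx)]
      show g (e (χ (e.symm (e ⟨x, hx⟩)))) = _
      rw [MulEquiv.symm_apply_apply]
      exact hgf _ (SetLike.coe_mem _)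
  intro χ hχ hq
  refine mem_pCore_of_equiv (MulAut.congr e) key (h _ ((key χ).1 hχ) fun b => ?_)
  obtain ⟨a, rfl⟩ := e.surjective b
  have := congrArg e (hq a)
  simpa using this

theorem stableAtSubgroup_of_isCyclic [Finite S] [Fact p.Prime] (hS : IsPGroup p S) {Q : Subgroup Ω} (hQ : Q ≤ S)
    [hc : IsCyclic Q] : StableAtSubgroup F p Q := by
  intro χ hχ hq
  have := finite_of_le hQ
  letI : CommGroup Q := IsCyclic.commGroup
  have hfix : ∀ a : Q, χ (a⁻¹ * χ a) = a⁻¹ * χ a := fun a => by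
    rw [map_mul, map_inv]
    refine mul_inv_eq_one.1 ?_
    rw [← hq a, map_inv]
    rw [mul_inv_rev, inv_inv]
    ac_rfl
  have hpow : ∀ (k : ℕ) (a : Q), (χ ^ k) a = a * (a⁻¹ * χ a) ^ k := by
    intro k
    induction k with
    | zero => intro a; simp
    | succ k ih =>
      intro a
      rw [pow_succ', MulAut.mul_apply, ih, map_mul, map_pow, hfix, pow_succ']
      rw [← mul_assoc, mul_inv_cancel_left]
  have hcard : χ ^ Nat.card Q = 1 :=
    MulEquiv.ext fun a => by rw [hpow, pow_card_eq_one', mul_one, MulAut.one_apply]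
  have hcomm : ∀ α β : MulAut Q, α * β = β * α := by
    intro α β
    refine MulEquiv.ext fun a => ?_
    obtain ⟨m, hm⟩ := MonoidHom.map_cyclic α.toMonoidHom
    obtain ⟨n, hn⟩ := MonoidHom.map_cyclic β.toMonoidHom
    show α.toMonoidHom (β.toMonoidHom a) = β.toMonoidHom (α.toMonoidHom a)
    rw [hn a, map_zpow, hm a, map_zpow, hn a, ← zpow_mul, ← zpow_mul, mul_comm]
  refine ⟨⟨χ, hχ⟩, CfsgLib.Fitting.le_pCore (N := Subgroup.zpowers (⟨χ, hχ⟩ : F.autGroup Q)) ?_ ?_
    (Subgroup.mem_zpowers _), rfl⟩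
  · refine ⟨fun a ha b => ?_⟩
    have : b * a * b⁻¹ = a := Subtype.ext (by
      show (b : MulAut Q) * a * (b : MulAut Q)⁻¹ = a
      rw [hcomm, inv_mul_cancel_left])
    rwa [this]
  · rintro ⟨_, i, rfl⟩
    obtain ⟨k, hk⟩ := (hS.to_le hQ).exists_card_eq
    refine ⟨k, Subtype.ext (Subtype.ext ?_)⟩
    show (χ ^ i) ^ p ^ k = 1
    rw [← hk, ← zpow_natCast, ← zpow_mul, mul_comm, zpow_mul, zpow_natCast, hcard, one_zpow]

/-- `p`-stability passes to normalizer systems. -/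
theorem stableAtSubgroup_normalizer [Finite S]
    (h : ∀ Q : Subgroup Ω, F.IsFullyNormalized Q → StableAtSubgroup F p Q) {R : Subgroup Ω}
    {N : FusionSystem (normalizerIn S R)} (hN : F.IsNormalizerSystem R N) {Q : Subgroup Ω}
    (hQ : Q ≤ normalizerIn S R) : StableAtSubgroup N p Q := by
  obtain ⟨Q', hQQ', hQ'⟩ := exists_isFullyNormalized (F := F) (hQ.trans inf_le_left)
  have hle : N.autGroup Q ≤ F.autGroup Q := by
    intro α hα
    obtain ⟨φ, hφ, hv⟩ := ((mem_autGroup_iff hQ α).1 hα).isMap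
    rw [hN Q] at hφ
    exact mem_autGroup_of_isMap ⟨φ, hφ.1, hv⟩ α fun x => (autFun_coe α x).symm
  exact fun χ hχ hq =>
    mem_pCore_of_le hle hχ (stableAtSubgroup_of_isConj hQQ' (h Q' hQ') χ (hle hχ) hq)

/-- `p`-stability at `Q` follows from that of its normalizer system. -/
theorem stableAtSubgroup_of_normalizerSystem {Q : Subgroup Ω} (hQ : Q ≤ S)
    (h : ∀ P : Subgroup Ω, (normalizerSystem F Q hQ).IsFullyNormalized P →
      StableAtSubgroup (normalizerSystem F Q hQ) p P) : StableAtSubgroup F p Q := by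
  have hfn : (normalizerSystem F Q hQ).IsFullyNormalized Q := by
    refine ⟨le_inf hQ Subgroup.le_normalizer, fun P hP => ?_⟩
    obtain ⟨φ, ⟨-, -, -, ψ, -, hag, hQψ⟩, rfl⟩ := hP
    refine le_of_eq (congrArg (fun X => Nat.card (normalizerIn (normalizerIn S Q) X)) ?_)
    ext y
    constructor
    · rintro ⟨x, rfl⟩
      rw [← hag]
      exact hQψ.le ⟨Subgroup.inclusion le_sup_left x, x.2, rfl⟩
    · intro hy
      obtain ⟨x, hx, rfl⟩ := hQψ.ge hy
      exact ⟨⟨x, hx⟩, (hag ⟨x, hx⟩).symm⟩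
  have heq : (normalizerSystem F Q hQ).autGroup Q = F.autGroup Q := by
    have hQN : Q ≤ normalizerIn S Q := le_inf hQ Subgroup.le_normalizer
    ext α
    constructor
    · intro hα
      obtain ⟨φ, hφ, hv⟩ := ((mem_autGroup_iff hQN α).1 hα).isMap
      exact mem_autGroup_of_isMap ⟨φ, hφ.1, hv⟩ α fun x => (autFun_coe α x).symm
    · intro hα
      have hiso := (mem_autGroup_iff hQ α).1 hα
      obtain ⟨φ, hφ, hv⟩ := hiso.isMap
      obtain ⟨ψ, hψ, hw⟩ := (hiso.isMap.mono (sup_idem Q).le).exists_hom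
      refine mem_autGroup_of_isMap (F := normalizerSystem F Q hQ) (f := autFun α)
        ⟨φ, ⟨hφ, hQN, fun x => ?_, ψ, hψ, fun x => ?_, ?_⟩, hv⟩ α fun x => (autFun_coe α x).symm
      · rw [hv]; exact hQN (autFun_mem α x.2)
      · rw [hw, hv]; rfl
      · exact (map_subgroupOf_eq_iff le_sup_right ψ hw).2 hiso.image_eq
  have h' := h Q hfn
  unfold StableAtSubgroup at h' ⊢
  rw [heq] at h'
  exact h'

end CfsgLib.Fusion
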