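import Mathlib
import Cfsg.Agent.Lib.Fusion.PStableNormalizer

/-!
A strongly closed subgroup `P` is normal as soon as `Aut_P(M)` lies in `O_p(Aut_F(M))` for the
subgroups `M` of `P`; it suffices to look at fully normalized `M` self-centralizing in `P`.
-/

set_option autoImplicit false

namespace CfsgLib.Fusion

open Cfsg Cfsg.FusionSystem

variable {Ω : Type*} [Group Ω] {S : Subgroup Ω} {F : FusionSystem S} {p : ℕ}

/-- `Aut_P(M) ≤ O_p(Aut_F(M))`. -/
def AutInCore (F : FusionSystem S) (p : ℕ) (P M : Subgroup Ω) : Prop :=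
  ∀ g ∈ P, ∀ hg : g ∈ Subgroup.normalizer (M : Set Ω),
    conjAut M hg ∈ (Cfsg.pCore p (F.autGroup M)).map (F.autGroup M).subtype

/-- The automorphisms of `R` leaving the subgroup `M` invariant. -/
def sclStabAut (R M : Subgroup Ω) : Subgroup (MulAut R) where
  carrier := {β | ∀ x : R, (β x : Ω) ∈ M ↔ (x : Ω) ∈ M}
  one_mem' := fun _ => Iff.rfl
  mul_mem' := fun {a b} ha hb x => (ha (b x)).trans (hb x)
  inv_mem' := fun {a} ha x => by
    have := ha (a⁻¹ x)
    rw [MulAut.apply_inv_self] at this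
    exact this.symm

/-- Restriction of invariant automorphisms. -/
def resHom {R M : Subgroup Ω} (hMR : M ≤ R) : sclStabAut R M →* MulAut M where
  toFun β :=
    { toFun := fun x => ⟨(β : MulAut R) ⟨x, hMR x.2⟩, (β.2 _).2 x.2⟩
      invFun := fun x => ⟨((β⁻¹ : sclStabAut R M) : MulAut R) ⟨x, hMR x.2⟩, ((β⁻¹).2 _).2 x.2⟩
      left_inv := fun x => Subtype.ext
        (congrArg (Subtype.val : R → Ω) (MulAut.inv_apply_self _ (β : MulAut R) ⟨x, hMR x.2⟩))
      right_inv := fun x => Subtype.ext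
        (congrArg (Subtype.val : R → Ω) (MulAut.apply_inv_self _ (β : MulAut R) ⟨x, hMR x.2⟩))
      map_mul' := fun x y => Subtype.ext
        (congrArg (Subtype.val : R → Ω) (map_mul (β : MulAut R) ⟨x, hMR x.2⟩ ⟨y, hMR y.2⟩)) }
  map_one' := rfl
  map_mul' _ _ := rfl

@[simp] theorem resHom_apply {R M : Subgroup Ω} (hMR : M ≤ R) (β : sclStabAut R M) (x : M) :
    (resHom hMR β x : Ω) = (β : MulAut R) ⟨x, hMR x.2⟩ := rfl

theorem resHom_mem_autGroup {R M : Subgroup Ω} (hMR : M ≤ R) (hR : R ≤ S) (β : sclStabAut R M)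
    (hβ : (β : MulAut R) ∈ F.autGroup R) : resHom hMR β ∈ F.autGroup M :=
  mem_autGroup_of_isMap (((mem_autGroup_iff hR _).1 hβ).isMap.mono hMR) _ fun x => by
    rw [resHom_apply, autFun_apply _ (hMR x.2)]

/-- Images of `O_p` under surjective homomorphisms lie in `O_p`. -/
theorem map_mem_pCore {Y X : Type*} [Group Y] [Group X] (f : Y →* X)
    (hf : Function.Surjective f) {y : Y} (hy : y ∈ Cfsg.pCore p Y) : f y ∈ Cfsg.pCore p X :=
  CfsgLib.Fitting.le_pCore ((CfsgLib.Fitting.pCore_normal p).map f hf)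
    ((CfsgLib.Fitting.pCore_isPGroup p).map f) ⟨y, hy, rfl⟩

variable [Fact p.Prime] [Finite S]

theorem le_normalizer_of_stronglyClosed {P : Subgroup Ω} (hP : F.StronglyClosed P) :
    S ≤ Subgroup.normalizer (P : Set Ω) := fun _ hg =>
  mem_normalizer_of_conj_mem hP.1 fun _ hx =>
    isMap_mem_of_stronglyClosed hP (isMap_conj le_rfl hg) (hP.1 hx) hx

theorem isNormal_of_autInCore (hS : IsPGroup p S) (hF : F.IsSaturated p) {P : Subgroup Ω}
    (hP : F.StronglyClosed P) (h : ∀ M : Subgroup Ω, M ≤ P → AutInCore F p P M) :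
    F.IsNormal P := by
  refine (isNormal_iff_stronglyClosed_le hS hF).2 ⟨hP, fun R hc hr => ?_⟩
  have hR := hc.1
  have hSP := le_normalizer_of_stronglyClosed hP
  refine le_of_normalizer_inf_le hS hR hP.1 (fun x hx => hSP (hR hx)) fun g hgP hgn => ?_
  have := finite_of_le hR
  have hMR : P ⊓ R ≤ R := inf_le_right
  set M := P ⊓ R with hM
  have := finite_of_le (hMR.trans hR)
  set A := F.autGroup R
  have hAst : A ≤ sclStabAut R M := by
    intro β hβ x
    have hmem : ∀ γ ∈ A, ∀ y : R, (y : Ω) ∈ P → (γ y : Ω) ∈ P := fun γ hγ y hy => by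
      have := isMap_mem_of_stronglyClosed hP ((mem_autGroup_iff hR γ).1 hγ).isMap y.2 hy
      rwa [autFun_coe] at this
    constructor
    · intro hx
      have := hmem _ (A.inv_mem hβ) (β x) hx.1
      rw [MulAut.inv_apply_self] at this
      exact ⟨this, x.2⟩
    · exact fun hx => ⟨hmem β hβ x hx.1, SetLike.coe_mem _⟩
  let r : A →* F.autGroup M := ((resHom hMR).comp (Subgroup.inclusion hAst)).codRestrict _
    fun β => resHom_mem_autGroup hMR hR _ β.2
  let D : Subgroup A :=
    { carrier := {β | ∀ x : R, ((x⁻¹ * (β : MulAut R) x : R) : Ω) ∈ M}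
      one_mem' := fun x => by simp
      mul_mem' := fun {a b} ha hb x => by
        rw [Subgroup.coe_mul A, MulAut.mul_apply, show x⁻¹ * (a : MulAut R) ((b : MulAut R) x) =
          (x⁻¹ * (b : MulAut R) x) * (((b : MulAut R) x)⁻¹ * (a : MulAut R) ((b : MulAut R) x)) by
          group]
        exact M.mul_mem (hb x) (ha _)
      inv_mem' := fun {a} ha x => by
        have h1 := M.inv_mem (ha ((a : MulAut R)⁻¹ x))
        rw [MulAut.apply_inv_self] at h1
        simpa using h1 }
  let K : Subgroup A := (Cfsg.pCore p (F.autGroup M)).comap r ⊓ D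
  have hMn : ∀ (y : R) {c : R}, (c : Ω) ∈ M → ((y⁻¹ * c * y : R) : Ω) ∈ M := fun y {c} hc => by
    refine ⟨?_, SetLike.coe_mem _⟩
    rw [Subgroup.coe_mul, Subgroup.coe_mul, Subgroup.coe_inv]
    exact (Subgroup.mem_normalizer_iff''.1 (hSP (hR y.2)) c).1 hc.1
  have hDn : D.Normal := ⟨fun a ha b x => by
    have h1 := ha ((b : MulAut R)⁻¹ x)
    have h2 := (hAst b.2 _).2 h1
    rw [map_mul, map_inv, MulAut.apply_inv_self] at h2
    exact h2⟩
  have hKn : K.Normal := by
    haveI := hDn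
    haveI : ((Cfsg.pCore p (F.autGroup M)).comap r).Normal :=
      (CfsgLib.Fitting.pCore_normal p).comap _
    exact Subgroup.normal_inf_normal _ _
  have hKp : IsPGroup p K := by
    rintro ⟨β, hβc, hβD⟩
    obtain ⟨k, hk⟩ := CfsgLib.Fitting.pCore_isPGroup p ⟨r β, hβc⟩
    obtain ⟨j, hj⟩ := (hS.to_le (hMR.trans hR)).exists_card_eq
    have hk' : r (β ^ p ^ k) = 1 := by
      rw [map_pow]
      exact congrArg Subtype.val hk
    have hγD := D.pow_mem hβD (p ^ k)
    set γ := β ^ p ^ k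
    refine ⟨k + j, Subtype.ext (Subtype.ext ?_)⟩
    rw [pow_add, pow_mul]
    show (γ : MulAut R) ^ p ^ j = 1
    refine MulEquiv.ext fun x => ?_
    set c := x⁻¹ * (γ : MulAut R) x with hc'
    have hfix : (γ : MulAut R) c = c := by
      have := congrArg (fun a : F.autGroup M =>
        ((a : MulAut M) ⟨(c : Ω), hγD x⟩ : Ω)) hk'
      refine Subtype.ext ?_
      exact this
    have hit : ∀ n : ℕ, ((γ : MulAut R) ^ n) x = x * c ^ n := by
      intro n
      induction n with
      | zero => simp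
      | succ n ih =>
        rw [pow_succ', MulAut.mul_apply, ih, map_mul, map_pow, hfix, pow_succ', hc', ← mul_assoc,
          mul_inv_cancel_left]
    rw [hit, MulAut.one_apply, ← hj]
    have : c ^ Nat.card M = 1 := Subtype.ext (by
      rw [SubgroupClass.coe_pow]
      exact congrArg Subtype.val (pow_card_eq_one' (x := (⟨(c : Ω), hγD x⟩ : M))))
    rw [this, mul_one]
  have hgM : g ∈ Subgroup.normalizer (M : Set Ω) := mem_normalizer_of_conj_mem (hMR.trans hR)
    fun x hx => ⟨P.mul_mem (P.mul_mem hgP hx.1) (P.inv_mem hgP),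
      conj_mem_of_mem_normalizer hgn hx.2⟩
  have hgA : conjAut R hgn ∈ A :=
    autInducedBy_le_autGroup hR (conjAut_mem_autInducedBy hgn (hP.1 hgP))
  refine mem_of_mem_pCore hc hr ⟨hP.1 hgP, hgn⟩ (α := ⟨_, hgA⟩) (conjAut_apply R hgn)
    (CfsgLib.Fitting.le_pCore hKn hKp ⟨?_, fun x => ?_⟩)
  · obtain ⟨a, ha, hae⟩ := h M inf_le_left g hgP hgM
    show r ⟨_, hgA⟩ ∈ Cfsg.pCore p (F.autGroup M)
    have e : r ⟨_, hgA⟩ = a := by
      refine Subtype.ext ?_
      exact hae.symm
    rwa [e]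
  · refine ⟨?_, SetLike.coe_mem _⟩
    rw [Subgroup.coe_mul, Subgroup.coe_inv, conjAut_apply,
      show (x : Ω)⁻¹ * (g * x * g⁻¹) = ((x : Ω)⁻¹ * g * x) * g⁻¹ by group]
    exact P.mul_mem ((Subgroup.mem_normalizer_iff''.1 (hSP (hR x.2)) g).1 hgP) (P.inv_mem hgP)

theorem autInCore_of_isConj (hS : IsPGroup p S) (hF : F.IsSaturated p) {P : Subgroup Ω}
    (hP : F.StronglyClosed P) {M M' : Subgroup Ω} (hfn : F.IsFullyNormalized M')
    (hc : F.IsConj M M') (h : AutInCore F p P M') : AutInCore F p P M := by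
  intro g hgP hg
  obtain ⟨f, hf, hiso, hN, -⟩ := exists_map_normalizerIn hS
    (isFullyAutomized_of_isFullyNormalized hS hF hfn) (isReceptive_of_isFullyNormalized hS hF hfn)
    hc
  have hgN : g ∈ normalizerIn S M := ⟨hP.1 hgP, hg⟩
  refine mem_pCore_of_equiv (MulAut.congr hiso.equiv) (fun χ => ⟨hiso.congr_mem_autGroup,
    fun hχ => by
    have := hiso.congr_symm_mem_autGroup hχ
    rwa [MulEquiv.symm_apply_apply] at this⟩) ?_
  have he : MulAut.congr hiso.equiv (conjAut M hg) = conjAut M' (hN g hgN).2 := by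
    refine MulEquiv.ext fun y => Subtype.ext ?_
    obtain ⟨x, rfl⟩ := hiso.equiv.surjective y
    rw [hiso.congr_apply, conjAut_apply, conjAut_apply, IsIso.equiv_apply]
    exact hf.map_conj hgN (le_normalizerIn hiso.le_left x.2)
  rw [he]
  exact h (f g) (isMap_mem_of_stronglyClosed hP hf hgN hgP) _

theorem autInCore_of_centralizer (hS : IsPGroup p S) (hF : F.IsSaturated p) {P : Subgroup Ω}
    (hP : F.StronglyClosed P) {M : Subgroup Ω} (hMP : M ≤ P) (hfn : F.IsFullyNormalized M)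
    (hE : AutInCore F p P (M ⊔ P ⊓ Subgroup.centralizer (M : Set Ω))) : AutInCore F p P M := by
  intro g hgP hg
  set C := P ⊓ Subgroup.centralizer (M : Set Ω)
  have hES : M ⊔ C ≤ S := sup_le hfn.1 (inf_le_left.trans hP.1)
  have hCn : C ≤ Subgroup.normalizer (M : Set Ω) :=
    inf_le_right.trans (Subgroup.centralizer_le_normalizer _)
  have hmemE : ∀ x ∈ M ⊔ C, ∃ m ∈ M, ∃ c ∈ C, x = m * c := by
    intro x hx
    rw [← SetLike.mem_coe, Subgroup.coe_mul_of_right_le_normalizer_left M C hCn] at hx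
    obtain ⟨m, hm, c, hc, rfl⟩ := hx
    exact ⟨m, hm, c, hc, rfl⟩
  have := finite_of_le hES
  have hgE : g ∈ Subgroup.normalizer ((M ⊔ C : Subgroup Ω) : Set Ω) := by
    refine mem_normalizer_of_conj_mem hES fun x hx => ?_
    obtain ⟨m, hm, c, hc, rfl⟩ := hmemE x hx
    rw [show g * (m * c) * g⁻¹ = (g * m * g⁻¹) * (g * c * g⁻¹) by group]
    refine Subgroup.mul_mem _ (Subgroup.mem_sup_left (conj_mem_of_mem_normalizer hg hm))
      (Subgroup.mem_sup_right ⟨P.mul_mem (P.mul_mem hgP hc.1) (P.inv_mem hgP),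
        mem_centralizer_of_conj_eq fun y hy => ?_⟩)
    have := conj_eq_self_of_mem_centralizer hc.2
      ((Subgroup.mem_normalizer_iff''.1 hg y).1 hy)
    calc g * c * g⁻¹ * y * (g * c * g⁻¹)⁻¹ = g * (c * (g⁻¹ * y * g) * c⁻¹) * g⁻¹ := by group
      _ = y := by rw [this]; group
  let Y := F.autGroup (M ⊔ C) ⊓ sclStabAut (M ⊔ C) M
  let φ : Y →* F.autGroup M :=
    ((resHom le_sup_left).comp (Subgroup.inclusion inf_le_right)).codRestrict _
      fun β => resHom_mem_autGroup le_sup_left hES _ β.2.1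
  have hsurj : Function.Surjective φ := by
    rintro ⟨α, hα⟩
    have hα' := (mem_autGroup_iff hfn.1 α).1 hα
    obtain ⟨f, hf, hag⟩ := (isReceptive_iff.1 (isReceptive_of_isFullyNormalized hS hF hfn)).2 M
      (autFun α) hα'
    have hEN : M ⊔ C ≤ nPhi S M (autFun α) := sup_le (le_nPhi hα'.isMap)
      fun c hc => centralizerIn_le_nPhi M _ ⟨hP.1 hc.1, hc.2⟩
    have hfE := hf.mono hEN
    have hfmem : ∀ x ∈ M ⊔ C, f x ∈ M ⊔ C := by
      intro x hx
      obtain ⟨m, hm, c, hc, rfl⟩ := hmemE x hx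
      rw [hfE.map_mul (Subgroup.mem_sup_left hm) (Subgroup.mem_sup_right hc), hag m hm]
      refine Subgroup.mul_mem _ (Subgroup.mem_sup_left (autFun_mem α hm))
        (Subgroup.mem_sup_right ⟨isMap_mem_of_stronglyClosed hP hfE (Subgroup.mem_sup_right hc)
          hc.1, mem_centralizer_of_conj_eq fun y hy => ?_⟩)
      obtain ⟨x', hx', rfl⟩ := hα'.surj hy
      rw [← hag x' hx', ← hfE.map_conj (Subgroup.mem_sup_right hc) (Subgroup.mem_sup_left hx'),
        conj_eq_self_of_mem_centralizer hc.2 hx']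
    obtain ⟨β, hβ, hβv⟩ := exists_mem_autGroup (hfE.isIso_of_card_le hfmem le_rfl)
    have hst : β ∈ sclStabAut (M ⊔ C) M := by
      intro x
      rw [hβv]
      constructor
      · intro hx
        obtain ⟨x', hx', he⟩ := hα'.surj hx
        rw [← hag x' hx'] at he
        rw [← hfE.injOn (Subgroup.mem_sup_left hx') x.2 he]
        exact hx'
      · intro hx
        rw [hag _ hx]
        exact autFun_mem α hx
    refine ⟨⟨β, hβ, hst⟩, Subtype.ext (MulEquiv.ext fun x => Subtype.ext ?_)⟩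
    show (resHom le_sup_left ⟨β, hst⟩ x : Ω) = _
    rw [resHom_apply, hβv, hag _ x.2, autFun_coe]
  have hgs : conjAut (M ⊔ C) hgE ∈ Y :=
    ⟨autInducedBy_le_autGroup hES (conjAut_mem_autInducedBy hgE (hP.1 hgP)), fun x =>
      (Subgroup.mem_normalizer_iff.1 hg (x : Ω)).symm⟩
  obtain ⟨y, hy, hye⟩ := mem_pCore_of_le inf_le_left hgs (hE g hgP hgE)
  refine ⟨φ y, map_mem_pCore φ hsurj hy, MulEquiv.ext fun x => Subtype.ext ?_⟩
  have := congrArg (fun a : MulAut ↥(M ⊔ C) => (a ⟨x, Subgroup.mem_sup_left x.2⟩ : Ω)) hye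
  exact this

/-- Criterion for normality of a strongly closed subgroup. -/
theorem isNormal_of_autInCore_selfCentralizing (hS : IsPGroup p S) (hF : F.IsSaturated p)
    {P : Subgroup Ω} (hP : F.StronglyClosed P)
    (h : ∀ M : Subgroup Ω, M ≤ P → F.IsFullyNormalized M →
      P ⊓ Subgroup.centralizer (M : Set Ω) ≤ M → AutInCore F p P M) : F.IsNormal P := by
  refine isNormal_of_autInCore hS hF hP ?_
  suffices hs : ∀ (d : ℕ) (M : Subgroup Ω), M ≤ P → Nat.card S - Nat.card M = d →
      AutInCore F p P M from fun M hM => hs _ M hM rfl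
  intro d
  induction d using Nat.strong_induction_on with
  | _ d ih =>
    intro M hMP hd
    obtain ⟨M', hc, hfn⟩ := exists_isFullyNormalized (F := F) (hMP.trans hP.1)
    obtain ⟨f, hf⟩ := isConj_iff.1 hc
    have hM'P : M' ≤ P := by
      intro y hy
      obtain ⟨x, hx, rfl⟩ := hf.surj hy
      exact isMap_mem_of_stronglyClosed hP hf.isMap hx (hMP hx)
    refine autInCore_of_isConj hS hF hP hfn hc ?_
    by_cases hC : P ⊓ Subgroup.centralizer (M' : Set Ω) ≤ M'
    · exact h M' hM'P hfn hC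
    · refine autInCore_of_centralizer hS hF hP hM'P hfn
        (ih _ ?_ _ (sup_le hM'P inf_le_left) rfl)
      have hES : M' ⊔ P ⊓ Subgroup.centralizer (M' : Set Ω) ≤ S :=
        sup_le hfn.1 (inf_le_left.trans hP.1)
      have := finite_of_le hES
      have h1 : Nat.card M' < Nat.card ↥(M' ⊔ P ⊓ Subgroup.centralizer (M' : Set Ω)) := by
        rw [← SetLike.coe_sort_coe, ← SetLike.coe_sort_coe, Nat.card_coe_set_eq, Nat.card_coe_set_eq]
        refine Set.ncard_lt_ncard (SetLike.coe_ssubset_coe.2 (lt_of_le_of_ne le_sup_left ?_)) (Set.toFinite _)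
        intro e
        exact hC (le_sup_right.trans_eq e.symm)
      have h2 := Subgroup.card_le_of_le hES
      have h3 := hf.card_eq
      omega

end CfsgLib.Fusion
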