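import Mathlib
import Cfsg.Agent.Lib.OddOmega.Basic
import Cfsg.Agent.Lib.Fusion.StronglyClosedAutomizer
import Cfsg.Agent.Lib.Fusion.RankTwoInversion
import Cfsg.Agent.Lib.Fusion.MetacyclicSections

/-!
Metacyclic strongly closed subgroups for odd `p`.
-/

set_option autoImplicit false

namespace CfsgLib.Fusion

open Cfsg Cfsg.FusionSystem

variable {Ω : Type*} [Group Ω] {S : Subgroup Ω} {F : FusionSystem S} {p : ℕ}
variable [Fact p.Prime] [Finite S]

/-- A normal `p`-subgroup of `Aut_F(M)` is induced from `S` when `M` is fully automized. -/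
theorem pgroup_le_autInducedBy (hS : IsPGroup p S) {M : Subgroup Ω}
    (ha : F.IsFullyAutomized p M) {U : Subgroup (F.autGroup M)} [U.Normal] (hU : IsPGroup p U)
    {α : F.autGroup M} (hα : α ∈ U) : (α : MulAut M) ∈ autInducedBy S M := by
  have hMS := ((isFullyAutomized_iff hS).1 ha).1
  have := finite_of_le hMS
  have := finite_mulAut M
  have hle : autInducedBy S M ≤ F.autGroup M := autInducedBy_le_autGroup hMS
  let B : Subgroup (F.autGroup M) := (autInducedBy S M).subgroupOf (F.autGroup M) ⊔ U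
  have hB : IsPGroup p B := ((isPGroup_autInducedBy hS M).of_equiv
    (Subgroup.subgroupOfEquivOfLe hle).symm).to_sup_of_normal_right hU
  set A := B.map (F.autGroup M).subtype with hA
  have hAle : A ≤ F.autGroup M := Subgroup.map_subtype_le B
  obtain ⟨β, -, hβ⟩ := ((isFullyAutomized_iff hS).1 ha).2 A hAle (hB.map _)
  have hTA : autInducedBy S M ≤ A := fun t ht =>
    ⟨⟨t, hle ht⟩, Subgroup.mem_sup_left ht, rfl⟩
  have heq : autInducedBy S M = A := by
    refine Subgroup.eq_of_le_of_card_ge hTA ?_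
    refine Nat.card_le_card_of_injective
      (fun a : A => (⟨β * a * β⁻¹, hβ a a.2⟩ : autInducedBy S M)) fun a b h => ?_
    have h' := congrArg Subtype.val h
    exact Subtype.ext (mul_left_cancel (mul_right_cancel h'))
  rw [heq]
  exact ⟨α, Subgroup.mem_sup_right hα, rfl⟩

/-- The action of `L ≤ N(M)` on the Frattini quotient of `M`. -/
noncomputable def actFrattini (L M : Subgroup Ω) (hL : L ≤ Subgroup.normalizer (M : Set Ω)) :
    L →* MulAut (M ⧸ frattini M) :=
  ((frattiniHom M).comp M.normalizerMonoidHom).comp (Subgroup.inclusion hL)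

theorem actFrattini_mk (L M : Subgroup Ω) (hL : L ≤ Subgroup.normalizer (M : Set Ω)) (x : L)
    (m : M) : actFrattini L M hL x (QuotientGroup.mk m) =
      QuotientGroup.mk (⟨x * m * (x : Ω)⁻¹, conj_mem_of_mem_normalizer (hL x.2) m.2⟩ : M) := rfl

theorem exists_pow_card_sq {V : Type*} [Group V] [Finite V] (hV : IsPGroup p V)
    (h : Nat.card V ≤ p * p) : ∃ j ≤ 2, Nat.card V = p ^ j := by
  obtain ⟨j, hj⟩ := IsPGroup.iff_card.1 hV
  refine ⟨j, ?_, hj⟩
  rw [hj, ← pow_two] at h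
  exact (Nat.pow_le_pow_iff_right (Fact.out : p.Prime).one_lt).1 h

theorem autInCore_metacyclic_odd (hS : IsPGroup p S) (hF : F.IsSaturated p) (hp : p ≠ 2)
    {P : Subgroup Ω} (hP : F.StronglyClosed P) (hm : Cfsg.IsMetacyclic P) {M : Subgroup Ω}
    (hMP : M ≤ P) (hfn : F.IsFullyNormalized M) : AutInCore F p P M := by
  intro g hgP hg
  have hpp := (Fact.out : p.Prime)
  have hMS := hfn.1
  have := finite_of_le hMS
  have := finite_mulAut M
  have hMp : IsPGroup p M := hS.to_le hMS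
  have hexp : ∀ y : M ⧸ frattini M, y ^ p = 1 := by
    intro y
    obtain ⟨m, rfl⟩ := QuotientGroup.mk'_surjective (frattini M) y
    rw [← map_pow]
    exact (QuotientGroup.eq_one_iff _).2 (CfsgLib.OddOmega.pow_mem_frattini hMp m)
  have hcard := exists_pow_card_sq (hMp.to_quotient (frattini M))
    (card_le_sq_of_metacyclic hm hMP _ (QuotientGroup.mk'_surjective _) hpp.ne_zero hexp)
  have hcomm := comm_of_card_le_sq hcard
  set π := (frattiniHom M).comp (F.autGroup M).subtype with hπ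
  have hker : IsPGroup p π.ker := by
    have : π.ker = (frattiniHom M).ker.comap (F.autGroup M).subtype := rfl
    rw [this]
    exact (isPGroup_ker_frattiniHom hMp).comap_of_injective _ Subtype.val_injective
  have hgA : conjAut M hg ∈ F.autGroup M :=
    autInducedBy_le_autGroup hMS (conjAut_mem_autInducedBy hg (hP.1 hgP))
  by_contra hna
  have hna' : (⟨_, hgA⟩ : F.autGroup M) ∉ Cfsg.pCore p (F.autGroup M) := fun h => hna ⟨_, h, rfl⟩
  obtain ⟨n, hn⟩ := isPGroup_autInducedBy hS M ⟨_, conjAut_mem_autInducedBy hg (hP.1 hgP)⟩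
  have hn' : π ⟨_, hgA⟩ ^ p ^ n = 1 := by
    rw [← map_pow]
    have : (⟨_, hgA⟩ : F.autGroup M) ^ p ^ n = 1 := Subtype.ext (congrArg (Subtype.val : autInducedBy S M → MulAut M) hn)
    rw [this, map_one]
  obtain ⟨h, hh⟩ := exists_inversion π hker hcard hn' hna'
  have hh' : ∀ m : M, (QuotientGroup.mk ((h : MulAut M) m) : M ⧸ frattini M)
      = (QuotientGroup.mk m)⁻¹ := fun m => hh (QuotientGroup.mk m)
  have ha := isFullyAutomized_of_isFullyNormalized hS hF hfn
  have hnorm : ∀ t ∈ autInducedBy S M, (h : MulAut M) * t * (h : MulAut M)⁻¹ ∈ autInducedBy S M := by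
    intro t ht
    let t' : F.autGroup M := ⟨t, autInducedBy_le_autGroup hMS ht⟩
    have hk : h * t' * h⁻¹ * t'⁻¹ ∈ π.ker := by
      rw [MonoidHom.mem_ker, map_mul, map_mul, map_mul, map_inv, map_inv, mul_inv_eq_one,
        mul_inv_eq_iff_eq_mul]
      refine MulEquiv.ext fun y => ?_
      rw [MulAut.mul_apply, MulAut.mul_apply, hh, hh, map_inv]
    have hU : ((h * t' * h⁻¹ * t'⁻¹ : F.autGroup M) : MulAut M) ∈ autInducedBy S M :=
      pgroup_le_autInducedBy hS ha hker hk
    have := Subgroup.mul_mem _ hU ht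
    simpa [t', mul_assoc] using this
  have hh1 := (mem_autGroup_iff hMS (h : MulAut M)).1 h.2
  have hN : nPhi S M (autFun (h : MulAut M)) = normalizerIn S M := by
    refine le_antisymm (nPhi_le _ _) fun x hx => ?_
    obtain ⟨k, hk, hv⟩ := (mem_autInducedBy_iff S M _).1
      (hnorm _ (conjAut_mem_autInducedBy hx.2 hx.1))
    refine ⟨hx.1, hx.2, k, hk, fun y hy => ?_⟩
    have := hv ((h : MulAut M) ⟨y, hy⟩)
    rw [MulAut.mul_apply, MulAut.mul_apply, MulAut.inv_apply_self] at this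
    rw [autFun_apply _ hy, autFun_apply _ (conj_mem_of_mem_normalizer hx.2 hy), ← this]
    rfl
  obtain ⟨f, hf, hag⟩ :=
    (isReceptive_iff.1 (isReceptive_of_isFullyNormalized hS hF hfn)).2 M _ hh1
  rw [hN] at hf
  set L := normalizerIn S M ⊓ P with hL
  have hLS : L ≤ S := fun x hx => hx.1.1
  have hLM : L ≤ Subgroup.normalizer (M : Set Ω) := fun x hx => hx.1.2
  have hML : M ≤ L := le_inf (le_normalizerIn hMS) hMP
  have := finite_of_le hLS
  have hfL : ∀ x ∈ L, f x ∈ L := by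
    intro x hx
    refine ⟨⟨hf.mem hx.1, mem_normalizer_of_conj_mem hMS fun y hy => ?_⟩,
      isMap_mem_of_stronglyClosed hP hf hx.1 hx.2⟩
    obtain ⟨y', hy', rfl⟩ := hh1.surj hy
    rw [← hag y' hy', ← hf.map_conj hx.1 (le_normalizerIn hMS hy'),
      hag _ (conj_mem_of_mem_normalizer hx.1.2 hy')]
    exact autFun_mem _ (conj_mem_of_mem_normalizer hx.1.2 hy')
  obtain ⟨ψ, -, hψ⟩ := exists_mem_autGroup ((hf.mono inf_le_left).isIso_of_card_le hfL le_rfl)
  have := finite_mulAut L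
  obtain ⟨a, r, hr, hord⟩ := Nat.exists_eq_pow_mul_and_not_dvd (orderOf_pos ψ).ne' 2 (by norm_num)
  have hodd : Odd r := Nat.odd_iff.2 (Nat.two_dvd_ne_zero.1 hr)
  have hψM : ∀ (k : ℕ) (m : M), ((ψ ^ k) ⟨m, hML m.2⟩ : Ω) = (((h : MulAut M) ^ k) m : M) := by
    intro k
    induction k with
    | zero => intro m; rfl
    | succ k ih =>
      intro m
      rw [pow_succ', pow_succ', MulAut.mul_apply, MulAut.mul_apply]
      have e : (ψ ^ k) ⟨m, hML m.2⟩ =
          ⟨(((h : MulAut M) ^ k) m : M), hML (SetLike.coe_mem _)⟩ := Subtype.ext (ih m)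
      rw [e, hψ, hag _ (SetLike.coe_mem _), autFun_coe]
  have hinv : ∀ k : ℕ, Odd k → ∀ m : M,
      (QuotientGroup.mk (((h : MulAut M) ^ k) m) : M ⧸ frattini M) = (QuotientGroup.mk m)⁻¹ := by
    intro k hk m
    obtain ⟨c, rfl⟩ := hk
    have heven : ∀ c : ℕ, (QuotientGroup.mk (((h : MulAut M) ^ (2 * c)) m) : M ⧸ frattini M) =
        QuotientGroup.mk m := by
      intro c
      induction c with
      | zero => rfl
      | succ c ih =>
        rw [show 2 * (c + 1) = 2 * c + 1 + 1 by ring, pow_succ', pow_succ', MulAut.mul_apply,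
          MulAut.mul_apply, hh', hh', ih, inv_inv]
    rw [pow_succ', MulAut.mul_apply, hh', heven]
  let τ := actFrattini L M hLM
  have hτψ : ∀ x : L, τ (ψ x) = τ x := by
    intro x
    refine MulEquiv.ext fun y => ?_
    obtain ⟨m, rfl⟩ := QuotientGroup.mk'_surjective (frattini M) y
    obtain ⟨m, rfl⟩ := (h : MulAut M).surjective m
    rw [QuotientGroup.mk'_apply]
    conv_rhs => rw [hh', map_inv, actFrattini_mk, ← hh']
    rw [actFrattini_mk]
    congr 1
    refine Subtype.ext ?_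
    have hc := conj_mem_of_mem_normalizer (hLM x.2) m.2
    show (ψ x : Ω) * ((h : MulAut M) m : Ω) * (ψ x : Ω)⁻¹ = _
    rw [← autFun_coe (h : MulAut M) m, ← hag _ m.2, hψ,
      ← hf.map_conj x.2.1 (le_normalizerIn hMS m.2), hag _ hc, autFun_apply _ hc]
  have hτk : ∀ (k : ℕ) (x : L), τ ((ψ ^ k) x) = τ x := by
    intro k
    induction k with
    | zero => intro x; rfl
    | succ k ih => intro x; rw [pow_succ', MulAut.mul_apply, hτψ, ih]
  have hgL : g ∈ L := ⟨⟨hP.1 hgP, hg⟩, hgP⟩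
  classical
  let Z := {x : L // τ x = τ ⟨g, hgL⟩}
  haveI := Fintype.ofFinite Z
  let σ : Equiv.Perm Z := Equiv.ofBijective (fun x => ⟨(ψ ^ r) x, by rw [hτk, x.2]⟩)
    (Finite.injective_iff_bijective.1 fun x y e =>
      Subtype.ext ((ψ ^ r).injective (congrArg Subtype.val e)))
  have hσk : ∀ (k : ℕ) (x : Z), (((σ ^ k) x : Z) : L) = ((ψ ^ r) ^ k) x := by
    intro k
    induction k with
    | zero => intro x; rfl
    | succ k ih =>
      intro x
      rw [pow_succ', pow_succ', Equiv.Perm.mul_apply, MulAut.mul_apply, ← ih]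
      rfl
  have hσ : σ ^ 2 ^ a = 1 := Equiv.ext fun x => Subtype.ext (by
    rw [hσk, ← pow_mul, mul_comm, ← hord, pow_orderOf_eq_one]; rfl)
  have hZodd : ¬ 2 ∣ Fintype.card Z := by
    rw [← Nat.card_eq_fintype_card]
    let e : τ.ker ≃ Z :=
      { toFun := fun k => ⟨⟨g, hgL⟩ * k, by rw [map_mul, MonoidHom.mem_ker.1 k.2, mul_one]⟩
        invFun := fun x => ⟨(⟨g, hgL⟩ : L)⁻¹ * x, by
          rw [MonoidHom.mem_ker, map_mul, map_inv, x.2, inv_mul_cancel]⟩
        left_inv := fun k => Subtype.ext (inv_mul_cancel_left _ _)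
        right_inv := fun x => Subtype.ext (mul_inv_cancel_left _ _) }
    rw [← Nat.card_congr e]
    obtain ⟨j, hj⟩ := IsPGroup.iff_card.1 ((hS.to_le hLS).to_subgroup τ.ker)
    rw [hj]
    exact fun h2 => hp ((Nat.prime_dvd_prime_iff_eq Nat.prime_two hpp).1
      (Nat.prime_two.dvd_of_dvd_pow h2)).symm
  haveI : Fact (Nat.Prime 2) := ⟨Nat.prime_two⟩
  obtain ⟨⟨x₀, hx₀⟩, hfix⟩ := Equiv.Perm.exists_fixed_point_of_prime hZodd hσ
  have hfix0 : (ψ ^ r) x₀ = x₀ := congrArg Subtype.val hfix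
  have hτg : τ x₀ ≠ 1 := by
    rw [hx₀]
    intro e
    have hπg : π ⟨_, hgA⟩ = 1 := by
      refine MulEquiv.ext fun y => ?_
      obtain ⟨m, rfl⟩ := QuotientGroup.mk'_surjective (frattini M) y
      exact (DFunLike.congr_fun e _ :)
    exact hna' (CfsgLib.Fitting.le_pCore inferInstance hker (MonoidHom.mem_ker.2 hπg))
  have hτM : ∀ (x : L), (x : Ω) ∈ M → τ x = 1 := by
    intro x hx
    refine MulEquiv.ext fun y => ?_
    obtain ⟨m, rfl⟩ := QuotientGroup.mk'_surjective (frattini M) y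
    rw [QuotientGroup.mk'_apply, actFrattini_mk, MulAut.one_apply]
    have : (⟨(x : Ω) * m * (x : Ω)⁻¹, conj_mem_of_mem_normalizer (hLM x.2) m.2⟩ : M)
        = ⟨x, hx⟩ * m * ⟨x, hx⟩⁻¹ := Subtype.ext rfl
    rw [this, QuotientGroup.mk_mul, QuotientGroup.mk_mul, QuotientGroup.mk_inv, hcomm,
      inv_mul_cancel_left]
  have hex : ∃ k, ((x₀ ^ p ^ k : L) : Ω) ∈ M := by
    obtain ⟨k, hk⟩ := hS.to_le hLS x₀
    exact ⟨k, by rw [hk]; exact M.one_mem⟩
  obtain ⟨k, hk⟩ : ∃ k, Nat.find hex = k + 1 := by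
    refine Nat.exists_eq_succ_of_ne_zero fun e => hτg (hτM x₀ ?_)
    have := Nat.find_spec hex
    rwa [e, pow_zero, pow_one] at this
  set y := x₀ ^ p ^ k with hy
  have hyM : (y : Ω) ∉ M := Nat.find_min hex (by omega)
  have hypM : ((y ^ p : L) : Ω) ∈ M := by
    have := Nat.find_spec hex
    rwa [hk, pow_succ, pow_mul] at this
  have hyp : (QuotientGroup.mk (⟨_, hypM⟩ : M) : M ⧸ frattini M) = 1 := by
    have hfixy : (ψ ^ r) (y ^ p) = y ^ p := by rw [map_pow, hy, map_pow, hfix0]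
    have h1 := hinv r hodd ⟨_, hypM⟩
    have h2 : ((h : MulAut M) ^ r) ⟨_, hypM⟩ = (⟨_, hypM⟩ : M) := by
      refine Subtype.ext ?_
      rw [← hψM]
      exact congrArg Subtype.val hfixy
    rw [h2, eq_inv_iff_mul_eq_one, ← pow_two] at h1
    refine orderOf_eq_one_iff.1 (Nat.eq_one_of_dvd_coprimes
      ((Nat.coprime_primes hpp Nat.prime_two).2 hp) (orderOf_dvd_of_pow_eq_one (hexp _))
      (orderOf_dvd_of_pow_eq_one h1))
  set W := M ⊔ Subgroup.zpowers (y : Ω) with hW
  have hWL : W ≤ L := sup_le hML (Subgroup.zpowers_le.2 y.2)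
  have hWM : W ≤ Subgroup.normalizer (M : Set Ω) := hWL.trans hLM
  have := finite_of_le (hWL.trans hLS)
  set Φ := (frattini M).map M.subtype with hΦ
  have hΦM : Φ ≤ M := Subgroup.map_subtype_le _
  have hΦn : W ≤ Subgroup.normalizer (Φ : Set Ω) := by
    intro w hw
    refine mem_normalizer_of_conj_mem (hΦM.trans hMS) ?_
    rintro _ ⟨m, hm, rfl⟩
    exact ⟨conjAut M (hWM hw) m, Subgroup.characteristic_iff_map_le.1
      (inferInstance : (frattini M).Characteristic) (conjAut M (hWM hw)) ⟨m, hm, rfl⟩, rfl⟩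
  haveI : (Φ.subgroupOf W).Normal :=
    Subgroup.normal_subgroupOf_of_le_normalizer hΦn
  set q := QuotientGroup.mk' (Φ.subgroupOf W) with hq
  let i : M →* W := Subgroup.inclusion le_sup_left
  have hiΦ : ∀ m : M, q (i m) = 1 ↔ m ∈ frattini M := by
    intro m
    rw [hq, QuotientGroup.mk'_apply, QuotientGroup.eq_one_iff, Subgroup.mem_subgroupOf]
    exact Subgroup.mem_map_iff_mem Subtype.val_injective
  let yb : W := ⟨y, Subgroup.mem_sup_right (Subgroup.mem_zpowers _)⟩
  have hqMM : ∀ m m' : M, q (i m) * q (i m') = q (i m') * q (i m) := by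
    intro m m'
    have h1 := hcomm (QuotientGroup.mk m) (QuotientGroup.mk m')
    rw [← QuotientGroup.mk_mul, ← QuotientGroup.mk_mul, QuotientGroup.eq, ← hiΦ, map_mul i,
      map_inv i, map_mul q, map_inv q, inv_mul_eq_one, map_mul, map_mul, map_mul, map_mul] at h1
    exact h1
  set s : Set (W ⧸ Φ.subgroupOf W) := Set.range (fun m => q (i m)) ∪ {q yb} with hs
  have hgen : Subgroup.closure s = ⊤ := by
    have hle : W ≤ ((Subgroup.closure s).comap q).map W.subtype := by
      refine sup_le (fun m hm => ⟨i ⟨m, hm⟩, ?_, rfl⟩) (Subgroup.zpowers_le.2 ⟨yb, ?_, rfl⟩)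
      · exact Subgroup.subset_closure (Or.inl ⟨⟨m, hm⟩, rfl⟩)
      · exact Subgroup.subset_closure (Or.inr rfl)
    refine eq_top_iff.2 fun z _ => ?_
    obtain ⟨w, rfl⟩ := QuotientGroup.mk'_surjective _ z
    obtain ⟨w', hw', hwe⟩ := hle w.2
    rwa [show w' = w from Subtype.ext hwe] at hw'
  have hspow : ∀ z ∈ s, z ^ p = 1 := by
    rintro z (⟨m, rfl⟩ | rfl)
    · rw [← map_pow q, ← map_pow i, hiΦ]
      exact CfsgLib.OddOmega.pow_mem_frattini hMp m
    · have h1 := (hiΦ ⟨_, hypM⟩).2 ((QuotientGroup.eq_one_iff _).1 hyp)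
      rw [← map_pow q]
      convert h1 using 2
      exact Subtype.ext (by simp [i, yb])
  have hσy : ∀ v : M ⧸ frattini M, τ y (v⁻¹ * τ y v) = v⁻¹ * τ y v := by
    obtain ⟨j, hj⟩ := hS.to_le hLS y
    exact fixes_diff_of_card_le_sq hcard (n := j) (by rw [← map_pow, hj, map_one])
  have hd : ∀ m : M, ∃ d : M, q yb * q (i m) * (q yb)⁻¹ = q (i m) * q (i d) ∧
      q yb * q (i d) = q (i d) * q yb := by
    intro m
    let cy : M → M := fun m => ⟨(y : Ω) * m * (y : Ω)⁻¹,
      conj_mem_of_mem_normalizer (hLM y.2) m.2⟩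
    have hcy : ∀ m : M, q (i (cy m)) = q yb * q (i m) * (q yb)⁻¹ := by
      intro m
      rw [← map_mul q, ← map_inv q, ← map_mul q]
      rfl
    refine ⟨m⁻¹ * cy m, ?_, ?_⟩
    · rw [map_mul i, map_mul q, map_inv i, map_inv q, mul_inv_cancel_left, hcy]
    · have h1 := hσy (QuotientGroup.mk m)
      rw [actFrattini_mk, ← QuotientGroup.mk_inv, ← QuotientGroup.mk_mul, actFrattini_mk,
        QuotientGroup.eq, ← hiΦ, map_mul i, map_inv i, map_mul q, map_inv q, inv_mul_eq_one] at h1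
      have h2 : q yb * q (i (m⁻¹ * cy m)) * (q yb)⁻¹ = q (i (m⁻¹ * cy m)) := by
        rw [← hcy]; exact h1
      exact mul_inv_eq_iff_eq_mul.1 h2
  have hcz : ∀ z : W ⧸ Φ.subgroupOf W, (∀ g ∈ s, Commute g z) →
      z ∈ Subgroup.center _ := by
    intro z hz
    rw [Subgroup.mem_center_iff]
    intro g
    have : Subgroup.closure s ≤ Subgroup.centralizer {z} := (Subgroup.closure_le _).2 fun g hg =>
      Subgroup.mem_centralizer_iff.2 fun u hu => by
        rw [Set.mem_singleton_iff] at hu; rw [hu]; exact (hz g hg).symm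
    exact (Subgroup.mem_centralizer_iff.1 (this (hgen ▸ Subgroup.mem_top g)) z rfl).symm
  have hcs : ∀ a ∈ s, ∀ b ∈ s, a * b * a⁻¹ * b⁻¹ ∈ Subgroup.center _ := by
    have hyc : ∀ m : M, q yb * q (i m) * (q yb)⁻¹ * (q (i m))⁻¹ ∈ Subgroup.center _ := by
      intro m
      obtain ⟨d, hd1, hd2⟩ := hd m
      rw [hd1, hqMM m d, mul_inv_cancel_right]
      refine hcz _ fun g hg => ?_
      rcases hg with ⟨m', rfl⟩ | rfl
      · exact hqMM m' d
      · exact hd2
    rintro a (⟨m, rfl⟩ | rfl) b (⟨m', rfl⟩ | rfl)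
    · dsimp only
      rw [hqMM m m', mul_inv_cancel_right, mul_inv_cancel]
      exact Subgroup.one_mem _
    · dsimp only
      rw [show q (i m) * q yb * (q (i m))⁻¹ * (q yb)⁻¹ =
        (q yb * q (i m) * (q yb)⁻¹ * (q (i m))⁻¹)⁻¹ by group]
      exact Subgroup.inv_mem _ (hyc m)
    · exact hyc m'
    · rw [mul_inv_cancel_right, mul_inv_cancel]; exact Subgroup.one_mem _
  have hexpW := pow_eq_one_of_class_two hpp hp hgen hspow hcs
  have hbound := card_le_sq_of_metacyclic hm (hWL.trans inf_le_right) q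
    (QuotientGroup.mk'_surjective _) hpp.ne_zero hexpW
  have hV : Nat.card (M ⧸ frattini M) = p * p := by
    rcases eq_or_ne (τ y) 1 with e | e
    · have hπy : τ x₀ ≠ 1 := hτg
      obtain ⟨j, hj⟩ := hS.to_le hLS x₀
      obtain ⟨Z', -, hV, -⟩ := exists_fixed_line hcard (σ := τ x₀) (n := j)
        (by rw [← map_pow, hj, map_one]) hπy
      exact hV
    · obtain ⟨j, hj⟩ := hS.to_le hLS y
      obtain ⟨Z', -, hV, -⟩ := exists_fixed_line hcard (σ := τ y) (n := j)
        (by rw [← map_pow, hj, map_one]) e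
      exact hV
  have hrange : Nat.card (q.comp i).range = p * p := by
    rw [← Subgroup.index_ker, ← hV, show (q.comp i).ker = frattini M by ext m; exact hiΦ m]
    rfl
  have hyrange : q yb ∉ (q.comp i).range := by
    rintro ⟨m, hm⟩
    have hk : (i m)⁻¹ * yb ∈ Φ.subgroupOf W := QuotientGroup.eq.1 hm
    rw [Subgroup.mem_subgroupOf] at hk
    have := M.mul_mem m.2 (hΦM hk)
    simp only [Subgroup.coe_mul, Subgroup.coe_inv, i, yb, Subgroup.coe_inclusion,
      mul_inv_cancel_left] at this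
    exact hyM this
  have hlt : Nat.card (q.comp i).range < Nat.card (W ⧸ Φ.subgroupOf W) := by
    refine lt_of_le_of_ne (Subgroup.card_le_card_group _) fun e => hyrange ?_
    rw [(Subgroup.card_eq_iff_eq_top _).1 e]
    exact Subgroup.mem_top _
  omega

/-- A strongly closed metacyclic subgroup of a saturated fusion system at an odd prime is normal. -/
theorem isNormal_of_metacyclic_odd (hS : IsPGroup p S) (hF : F.IsSaturated p) (hp : p ≠ 2)
    {P : Subgroup Ω} (hP : F.StronglyClosed P) (hm : Cfsg.IsMetacyclic P) : F.IsNormal P :=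
  isNormal_of_autInCore_selfCentralizing hS hF hP fun _ hMP hfn _ =>
    autInCore_metacyclic_odd hS hF hp hP hm hMP hfn

end CfsgLib.Fusion
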