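import Mathlib
import Cfsg.Agent.Lib.OddOmega.Basic

/-!
A self-centralizing normal subgroup of a metacyclic 2-group on which an element of order 3 acts is
a four group or a quaternion group.
-/

set_option autoImplicit false

namespace CfsgLib.Fusion

theorem small_relations {H : Type*} [Group H] (n q : H) {k : ℕ} {ρ v : ℤ} (hk : orderOf n = 2 ^ k)
    (hqo : orderOf q = 2 ^ k) (hρodd : Odd ρ) (hρ' : q * n * q⁻¹ = n ^ ρ)
    (hq2 : q ^ 2 = n ^ (2 * v)) (hjq : ∀ j : ℤ, orderOf (n ^ j * q) = 2 ^ k) :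
    k ≤ 2 ∧ q * n * q⁻¹ = n⁻¹ ∧ (q * q = 1 ∨ q * q = n ^ 2) := by
  have hsqj : ∀ j : ℤ, (n ^ j * q) ^ 2 = n ^ (j + j * ρ + 2 * v) := by
    intro j
    rw [pow_two, show n ^ j * q * (n ^ j * q) = n ^ j * (q * n ^ j * q⁻¹) * (q * q) by group,
      ← conj_zpow, hρ', ← zpow_mul, ← pow_two, hq2, ← zpow_add, ← zpow_add]
    congr 1
    ring
  have hinv : ∀ ρ' : ℤ, (2 : ℤ) ^ k ∣ ρ' + 1 → n ^ ρ' = n⁻¹ := fun ρ' h => by
    refine eq_inv_of_mul_eq_one_left ?_
    rw [← zpow_add_one, ← orderOf_dvd_iff_zpow_eq_one, hk]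
    push_cast
    exact h
  rcases Nat.lt_or_ge k 2 with hk2 | hk2
  · have hn2 : n ^ 2 = 1 := orderOf_dvd_iff_pow_eq_one.1 (by
      rw [hk]; interval_cases k <;> norm_num)
    refine ⟨hk2.le, ?_, Or.inl ?_⟩
    · rw [hρ', hinv]
      obtain ⟨c, rfl⟩ := hρodd
      interval_cases k
      · simp
      · exact ⟨c + 1, by ring⟩
    · rw [← pow_two, hq2, zpow_mul, zpow_two, ← pow_two, hn2, one_zpow]
  · obtain ⟨c, hc⟩ := hρodd
    rcases Int.even_or_odd' c with ⟨d, rfl | rfl⟩
    · exfalso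
      obtain ⟨α, β, hαβ⟩ : IsCoprime (2 * d + 1) ((2 : ℤ) ^ k) :=
        IsCoprime.pow_right ⟨1, -d, by ring⟩
      have h1 : (n ^ (-v * α) * q) ^ 2 = 1 := by
        rw [hsqj, ← orderOf_dvd_iff_zpow_eq_one, hk, hc]
        push_cast
        exact ⟨2 * (v * β), by linear_combination -2 * v * hαβ⟩
      have := orderOf_dvd_of_pow_eq_one h1
      rw [hjq] at this
      have := Nat.le_of_dvd (by norm_num) this
      have : 2 ^ 2 ≤ 2 ^ k := Nat.pow_le_pow_right (by norm_num) hk2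
      omega
    · have h1 : n ^ (2 * v * (ρ - 1)) = 1 := by
        rw [mul_sub, mul_one, zpow_sub, mul_inv_eq_one, mul_comm, zpow_mul, ← hρ', conj_zpow,
          ← hq2]
        group
      obtain ⟨α, β, hαβ⟩ : IsCoprime (2 * d + 1) ((2 : ℤ) ^ k) :=
        IsCoprime.pow_right ⟨1, -d, by ring⟩
      have h2 : n ^ (4 * v) = 1 := by
        rw [show 4 * v = 2 * v * (ρ - 1) * α + ((2 ^ k : ℕ) : ℤ) * (4 * v * β) by
          push_cast; rw [hc]; linear_combination -4 * v * hαβ, zpow_add, zpow_mul, h1, one_zpow,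
          one_mul, zpow_mul, zpow_natCast, ← hk, pow_orderOf_eq_one, one_zpow]
      have h3 : q ^ 4 = 1 := by
        rw [show 4 = 2 * 2 from rfl, pow_mul, hq2, ← zpow_natCast, ← zpow_mul]
        rw [show 2 * v * ((2 : ℕ) : ℤ) = 4 * v by push_cast; ring]
        exact h2
      have h4 := Nat.le_of_dvd (by norm_num) (orderOf_dvd_of_pow_eq_one h3)
      rw [hqo] at h4
      have hk2' : k = 2 := by
        by_contra hne
        have : 2 ^ 3 ≤ 2 ^ k := Nat.pow_le_pow_right (by norm_num) (by omega)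
        omega
      refine ⟨hk2'.le, ?_, ?_⟩
      · rw [hρ', hinv]
        rw [hk2', hc]
        exact ⟨d + 1, by ring⟩
      · rw [← pow_two, hq2]
        have hn4 : n ^ (4 : ℤ) = 1 := by
          rw [← orderOf_dvd_iff_zpow_eq_one, hk, hk2']
          norm_num
        rcases Int.even_or_odd' v with ⟨c', rfl | rfl⟩
        · left
          rw [show 2 * (2 * c') = 4 * c' by ring, zpow_mul, hn4, one_zpow]
        · right
          rw [show 2 * (2 * c' + 1) = 4 * c' + 2 by ring, zpow_add, zpow_mul, hn4, one_zpow,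
            one_mul, zpow_ofNat]

set_option maxHeartbeats 800000 in
theorem small_of_three_cycle {G : Type*} [Group G] [Finite G] (hG : IsPGroup 2 G) (M : Subgroup G)
    [M.Normal] (A : Subgroup G) [A.Normal] (hA : IsCyclic A) (hGA : IsCyclic (G ⧸ A))
    (hself : Subgroup.centralizer (M : Set G) ≤ M) (hV : Nat.card (M ⧸ frattini M) ≤ 4)
    (η : MulAut M) (hfpf : ∀ y : M, y⁻¹ * η y ∈ frattini M → y ∈ frattini M)
    (hrec : ∀ x : G, (∀ y : M, y⁻¹ * MulAut.conjNormal x y ∈ frattini M) →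
      ∃ x' : G, ∀ y : M, η (MulAut.conjNormal x' y) = MulAut.conjNormal x (η y))
    {g : G} (hg : ¬ ∀ y : M, y⁻¹ * MulAut.conjNormal g y ∈ frattini M) :
    ∃ n t : G, M ⊓ A = Subgroup.zpowers n ∧ t ∈ M ∧ t ∉ A ∧ n ^ 4 = 1 ∧ t * n * t⁻¹ = n⁻¹ ∧
      (t * t = 1 ∨ t * t = n ^ 2) ∧ M ≤ Subgroup.closure ({n, t} : Set G) := by
  haveI : Fact (Nat.Prime 2) := ⟨Nat.prime_two⟩
  have hM : IsPGroup 2 M := hG.to_subgroup M
  set π := QuotientGroup.mk' (frattini M) with hπ
  have hπ1 : ∀ y : M, π y = 1 ↔ y ∈ frattini M := fun y => QuotientGroup.eq_one_iff y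
  have hπd : ∀ y z : M, y⁻¹ * z ∈ frattini M ↔ π y = π z := fun y z => by
    rw [← hπ1, map_mul, map_inv, inv_mul_eq_one]
  have hexp : ∀ v : M ⧸ frattini M, v * v = 1 := by
    intro v
    obtain ⟨y, rfl⟩ := QuotientGroup.mk'_surjective (frattini M) v
    rw [← map_mul, hπ1, ← pow_two]
    exact CfsgLib.OddOmega.pow_mem_frattini hM y
  have hcomm : ∀ u v : M ⧸ frattini M, u * v = v * u := fun u v => by
    have h1 : (u * v)⁻¹ = u * v := inv_eq_of_mul_eq_one_right (hexp _)
    rw [mul_inv_rev, inv_eq_of_mul_eq_one_right (hexp u), inv_eq_of_mul_eq_one_right (hexp v)] at h1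
    exact h1.symm
  have hπzpow : ∀ (y : M) (i : ℤ), π (y ^ i) = if Even i then 1 else π y := by
    intro y i
    rcases Int.even_or_odd' i with ⟨c, rfl | rfl⟩
    · rw [if_pos (by simp), map_zpow, zpow_mul, zpow_two, hexp, one_zpow]
    · rw [if_neg (by simp [Int.not_even_iff_odd]), map_zpow, zpow_add, zpow_mul, zpow_two, hexp,
        one_zpow, one_mul, zpow_one]
  have hηΦ : ∀ y : M, η y ∈ frattini M ↔ y ∈ frattini M := fun y =>
    SetLike.ext_iff.1 (Subgroup.characteristic_iff_comap_eq.1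
      (inferInstance : (frattini M).Characteristic) η) y
  have hηπ : ∀ y z : M, π y = π z → π (η y) = π (η z) := fun y z h => by
    rw [← hπd, ← map_inv η, ← map_mul η, hηΦ, hπd]
    exact h
  -- the line `⟨n⟩ = M ∩ A`
  obtain ⟨⟨ν₀, hν₀⟩, hν₀g⟩ : ∃ c : (A.subgroupOf M), ∀ x, x ∈ Subgroup.zpowers c := by
    haveI := hA
    exact (isCyclic_of_injective (MonoidHom.mk' (fun x : A.subgroupOf M => (⟨(x : M), x.2⟩ : A))
      fun x y => rfl) fun x y e => Subtype.ext (Subtype.ext (congrArg (fun a : A => (a : G)) e))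
        ).exists_generator
  set n : M := ν₀ with hn
  have hnA : ∀ y : M, (y : G) ∈ A ↔ y ∈ Subgroup.zpowers n := by
    intro y
    constructor
    · intro hy
      obtain ⟨i, hi⟩ := hν₀g ⟨y, hy⟩
      exact ⟨i, by simpa using congrArg (fun a : A.subgroupOf M => (a : M)) hi⟩
    · intro hy
      exact Subgroup.mem_subgroupOf.1 (Subgroup.zpowers_le.2 hν₀ hy)
  have hab : ∀ x y : G, x * y * x⁻¹ * y⁻¹ ∈ A := by
    intro x y
    haveI := hGA
    letI : CommGroup (G ⧸ A) := IsCyclic.commGroup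
    rw [← QuotientGroup.eq_one_iff]
    simp [mul_assoc, mul_comm, mul_left_comm]
  have hdisp : ∀ (x : G) (y : M), y⁻¹ * MulAut.conjNormal x y ∈ Subgroup.zpowers n := by
    intro x y
    rw [← hnA, Subgroup.coe_mul, Subgroup.coe_inv, MulAut.conjNormal_apply,
      show (y : G)⁻¹ * (x * y * x⁻¹) = (y : G)⁻¹ * (x * y * x⁻¹ * (y : G)⁻¹) * y by group]
    simpa using (inferInstance : A.Normal).conj_mem _ (hab x y) (y : G)⁻¹
  have hnΦ : n ∉ frattini M := fun h => hg fun y => Subgroup.zpowers_le.2 h (hdisp g y)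
  have hn1 : π n ≠ 1 := fun h => hnΦ ((hπ1 n).1 h)
  obtain ⟨q, hq⟩ : ∃ q, q = η n := ⟨_, rfl⟩
  have hq1 : π q ≠ 1 := fun h => hnΦ ((hηΦ n).1 (hq ▸ (hπ1 q).1 h))
  have hnq : π n ≠ π q := fun h => hnΦ (hfpf n (by rw [hπd, ← hq]; exact h))
  have hall : ∀ v : M ⧸ frattini M, v = 1 ∨ v = π n ∨ v = π q ∨ v = π n * π q := by
    classical
    haveI := Fintype.ofFinite (M ⧸ frattini M)
    intro v
    by_contra hv
    push Not at hv
    have h1 : π n * π q ≠ 1 := fun h => hnq (by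
      rw [mul_eq_one_iff_eq_inv.1 h, inv_eq_of_mul_eq_one_right (hexp _)])
    have h5 : ({1, π n, π q, π n * π q, v} : Finset _).card = 5 := by
      rw [Finset.card_insert_of_notMem (by simp [Ne.symm hn1, Ne.symm hq1, Ne.symm h1, Ne.symm hv.1]),
        Finset.card_insert_of_notMem (by simp [hnq, hq1, Ne.symm hv.2.1]),
        Finset.card_insert_of_notMem (by simp [hn1, Ne.symm hv.2.2.1]),
        Finset.card_insert_of_notMem (by simp [Ne.symm hv.2.2.2]), Finset.card_singleton]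
    have := Finset.card_le_univ ({1, π n, π q, π n * π q, v} : Finset _)
    rw [h5, ← Nat.card_eq_fintype_card] at this
    omega
  have hηq : π (η q) = π n * π q := by
    have hne : π (η q) ≠ π q := fun h => hq1 ((hπ1 q).2 (hfpf q (by rw [hπd]; exact h.symm)))
    rcases hall (π (η q)) with h | h | h | h
    · exact absurd ((hπ1 q).2 ((hηΦ q).1 ((hπ1 _).1 h))) hq1
    · exfalso
      have h2 : π (η (n * q)) = π (n * q) := by
        rw [map_mul, map_mul, ← hq, h, ← map_mul, map_mul, map_mul, hcomm]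
      have h3 := hfpf (n * q) (by rw [hπd]; exact h2.symm)
      rw [← hπ1, map_mul] at h3
      exact hnq (by rw [mul_eq_one_iff_eq_inv.1 h3, inv_eq_of_mul_eq_one_right (hexp _)])
    · exact absurd h hne
    · exact h
  have hgen : Subgroup.zpowers n ⊔ Subgroup.zpowers q = ⊤ := by
    refine frattini_nongenerating (eq_top_iff.2 fun y _ => ?_)
    obtain ⟨z, hz, hzy⟩ : ∃ z ∈ Subgroup.zpowers n ⊔ Subgroup.zpowers q, π z = π y := by
      rcases hall (π y) with h | h | h | h
      · exact ⟨1, Subgroup.one_mem _, by rw [h, map_one]⟩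
      · exact ⟨n, Subgroup.mem_sup_left (Subgroup.mem_zpowers n), h.symm⟩
      · exact ⟨q, Subgroup.mem_sup_right (Subgroup.mem_zpowers q), h.symm⟩
      · exact ⟨n * q, Subgroup.mul_mem _ (Subgroup.mem_sup_left (Subgroup.mem_zpowers n))
          (Subgroup.mem_sup_right (Subgroup.mem_zpowers q)), by rw [h, map_mul]⟩
    have := Subgroup.mul_mem (Subgroup.zpowers n ⊔ Subgroup.zpowers q ⊔ frattini M)
      (Subgroup.mem_sup_left hz) (Subgroup.mem_sup_right ((hπd z y).2 hzy))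
    rwa [mul_inv_cancel_left] at this
  have hcn : ∀ x : G, ∃ i : ℤ, Odd i ∧ MulAut.conjNormal x n = n ^ i := by
    intro x
    obtain ⟨j, hj⟩ := Subgroup.mem_zpowers_iff.1 (hdisp x n)
    have hj' : MulAut.conjNormal x n = n ^ (1 + j) := by
      rw [zpow_add, zpow_one, hj, mul_inv_cancel_left]
    refine ⟨1 + j, Int.not_even_iff_odd.1 fun he => hnΦ ?_, hj'⟩
    have h1 : MulAut.conjNormal x n ∈ frattini M := by rw [hj', ← hπ1, hπzpow, if_pos he]
    exact (SetLike.ext_iff.1 (Subgroup.characteristic_iff_comap_eq.1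
      (inferInstance : (frattini M).Characteristic) (MulAut.conjNormal x)) n).1 h1
  have hcq : ∀ x : G, ∃ i : ℤ, MulAut.conjNormal x q = q * n ^ i := fun x => by
    obtain ⟨j, hj⟩ := Subgroup.mem_zpowers_iff.1 (hdisp x q)
    exact ⟨j, by rw [hj, mul_inv_cancel_left]⟩
  have htriv : ∀ (x : G) (i : ℤ), Even i → MulAut.conjNormal x q = q * n ^ i →
      ∀ y : M, y⁻¹ * MulAut.conjNormal x y ∈ frattini M := by
    intro x i hi hx y
    obtain ⟨j, hj, hjn⟩ := hcn x
    have h1 : (⊤ : Subgroup M) ≤ (π.comp (MulAut.conjNormal x).toMonoidHom).eqLocus π := by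
      rw [← hgen, sup_le_iff, Subgroup.zpowers_le, Subgroup.zpowers_le]
      refine ⟨?_, ?_⟩
      · show π (MulAut.conjNormal x n) = π n
        rw [hjn, hπzpow, if_neg (Int.not_even_iff_odd.2 hj)]
      · show π (MulAut.conjNormal x q) = π q
        rw [hx, map_mul, hπzpow, if_pos hi, mul_one]
    rw [hπd]
    exact (h1 (Subgroup.mem_top y) : π (MulAut.conjNormal x y) = π y).symm
  obtain ⟨r, hrodd, hr⟩ := hcn g
  obtain ⟨s, hs⟩ := hcq g
  have hsodd : Odd s := Int.not_even_iff_odd.1 fun he => hg (htriv g s he hs)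
  have hg2n : MulAut.conjNormal (g * g) n = n ^ (r * r) := by
    rw [map_mul, MulAut.mul_apply, hr, map_zpow, hr, ← zpow_mul]
  have hg2q : MulAut.conjNormal (g * g) q = q * n ^ (s + r * s) := by
    rw [map_mul, MulAut.mul_apply, hs, map_mul, map_zpow, hs, hr, ← zpow_mul, mul_assoc, ← zpow_add]
  have hdisp2 : ∀ x : G, (∀ y : M, y⁻¹ * MulAut.conjNormal x y ∈ frattini M) →
      ∀ y : M, y⁻¹ * MulAut.conjNormal x y ∈ Subgroup.zpowers q := by
    intro x hx y
    obtain ⟨x', hx'⟩ := hrec x hx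
    obtain ⟨z, rfl⟩ := η.surjective y
    obtain ⟨i, hi⟩ := Subgroup.mem_zpowers_iff.1 (hdisp x' z)
    rw [← hx', ← map_inv, ← map_mul, ← hi, map_zpow, ← hq]
    exact ⟨i, rfl⟩
  have hg2 := hdisp2 (g * g) (htriv _ _ (by
    obtain ⟨a, rfl⟩ := hrodd
    exact ⟨s + a * s, by ring⟩) hg2q)
  obtain ⟨k, hk⟩ : ∃ k, orderOf n = 2 ^ k := by
    obtain ⟨j, hj⟩ := hM n
    obtain ⟨k, -, hk⟩ := (Nat.dvd_prime_pow Nat.prime_two).1 (orderOf_dvd_of_pow_eq_one hj)
    exact ⟨k, hk⟩
  have hqo : orderOf q = 2 ^ k := by rw [hq, MulEquiv.orderOf_eq, hk]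
  have hex : ∃ e : ℕ, n ^ 2 ^ e ∈ Subgroup.zpowers q :=
    ⟨k, by rw [← hk, pow_orderOf_eq_one]; exact Subgroup.one_mem _⟩
  classical
  obtain ⟨e, hee⟩ : ∃ e, e = Nat.find hex := ⟨_, rfl⟩
  have hespec : n ^ 2 ^ e ∈ Subgroup.zpowers q := hee ▸ Nat.find_spec hex
  have hek : e ≤ k := by
    rw [hee]
    exact Nat.find_le (by rw [← hk, pow_orderOf_eq_one]; exact Subgroup.one_mem _)
  have hJ : ∀ j : ℤ, n ^ j ∈ Subgroup.zpowers q → (2 : ℤ) ^ e ∣ j := by
    intro j hj
    obtain ⟨d, hd, hde⟩ := (Nat.dvd_prime_pow Nat.prime_two).1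
      (Nat.gcd_dvd_right j.natAbs (2 ^ e))
    have h1 : n ^ (Int.gcd j ((2 ^ e : ℕ) : ℤ) : ℤ) ∈ Subgroup.zpowers q := by
      rw [Int.gcd_eq_gcd_ab, zpow_add, zpow_mul, zpow_mul, zpow_natCast]
      exact Subgroup.mul_mem _ (zpow_mem hj _) (zpow_mem hespec _)
    have h2 : Int.gcd j ((2 ^ e : ℕ) : ℤ) = 2 ^ d := by
      rw [← hde]; simp [Int.gcd_def]
    rw [h2, zpow_natCast] at h1
    have h3 : e ≤ d := hee ▸ Nat.find_le h1
    obtain rfl : d = e := le_antisymm hd h3
    have := Nat.gcd_dvd_left j.natAbs (2 ^ d)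
    rw [hde] at this
    exact Int.natAbs_dvd_natAbs.1 (by simpa [Int.natAbs_pow] using this)
  have he0 : e ≠ 0 := by
    intro he
    rw [he, pow_zero, pow_one] at hespec
    obtain ⟨i, hi⟩ := Subgroup.mem_zpowers_iff.1 hespec
    have h1 := congrArg π hi
    rw [hπzpow] at h1
    split_ifs at h1
    · exact hn1 h1.symm
    · exact hnq h1.symm
  have hsame : Subgroup.zpowers (n ^ 2 ^ e) = Subgroup.zpowers (q ^ 2 ^ e) := by
    refine Subgroup.eq_of_le_of_card_ge ?_ ?_
    · rw [Subgroup.zpowers_le]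
      obtain ⟨i, hi⟩ := Subgroup.mem_zpowers_iff.1 hespec
      have h1 : q ^ (i * ((2 ^ (k - e) : ℕ) : ℤ)) = 1 := by
        rw [zpow_mul, hi, zpow_natCast, ← pow_mul, ← pow_add, Nat.add_sub_cancel' hek, ← hk,
          pow_orderOf_eq_one]
      have h2 := orderOf_dvd_iff_zpow_eq_one.2 h1
      rw [hqo] at h2
      push_cast at h2
      rw [show (2 : ℤ) ^ k = 2 ^ e * 2 ^ (k - e) by rw [← pow_add, Nat.add_sub_cancel' hek]] at h2
      obtain ⟨c, rfl⟩ := Int.dvd_of_mul_dvd_mul_right (pow_ne_zero _ (by norm_num)) h2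
      refine ⟨c, ?_⟩
      show (q ^ 2 ^ e) ^ c = n ^ 2 ^ e
      rw [← hi, ← zpow_natCast, ← zpow_mul]
      push_cast
      rfl
    · rw [Nat.card_zpowers, Nat.card_zpowers, orderOf_pow, orderOf_pow, hk, hqo]
  obtain ⟨v, hv⟩ := Subgroup.mem_zpowers_iff.1
    (hsame ▸ Subgroup.mem_zpowers (q ^ 2 ^ e) : q ^ 2 ^ e ∈ Subgroup.zpowers (n ^ 2 ^ e))
  have hnnorm : ∀ x : M, x ∈ Subgroup.normalizer (Subgroup.zpowers n : Set M) := by
    intro x
    rw [Subgroup.mem_normalizer_iff]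
    intro y
    rw [← hnA, ← hnA, Subgroup.coe_mul, Subgroup.coe_mul, Subgroup.coe_inv]
    exact ⟨fun h => (inferInstance : A.Normal).conj_mem _ h _, fun h => by
      simpa [mul_assoc] using (inferInstance : A.Normal).conj_mem _ h ((x : G)⁻¹)⟩
  have hform : ∀ y : M, ∃ a b : ℤ, y = n ^ a * q ^ b := by
    intro y
    have h1 : y ∈ ((Subgroup.zpowers n ⊔ Subgroup.zpowers q : Subgroup M) : Set M) := by
      rw [hgen]; trivial
    rw [Subgroup.coe_mul_of_right_le_normalizer_left _ _ fun x _ => hnnorm x] at h1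
    obtain ⟨_, ⟨a, rfl⟩, _, ⟨b, rfl⟩, rfl⟩ := h1
    exact ⟨a, b, rfl⟩
  rcases eq_or_ne e 1 with he1 | he1
  · -- `M` is small
    have hq2 : q ^ 2 = n ^ (2 * v) := by
      rw [he1, pow_one] at hv
      rw [← hv, zpow_mul, zpow_ofNat]
    have hΦn : ∀ y : M, π y = π n → ∃ i : ℤ, Odd i ∧ y = n ^ i := by
      intro y hy
      obtain ⟨a, b, rfl⟩ := hform y
      rw [map_mul, hπzpow, hπzpow] at hy
      rcases Int.even_or_odd b with hb | hb
      · rw [if_pos hb, mul_one] at hy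
        split_ifs at hy with ha
        · exact absurd hy.symm hn1
        · obtain ⟨c, rfl⟩ := hb
          refine ⟨a + 2 * v * c, (Int.not_even_iff_odd.1 ha).add_even
            ⟨v * c, by ring⟩, ?_⟩
          rw [← two_mul, zpow_mul q, zpow_add, zpow_mul n (2 * v), ← hq2, zpow_ofNat]
      · rw [if_neg (Int.not_even_iff_odd.2 hb)] at hy
        split_ifs at hy with ha
        · rw [one_mul] at hy
          exact absurd hy.symm hnq
        · exact absurd (mul_eq_left.1 hy) hq1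
    have hordn : ∀ y : M, π y = π n → orderOf y = 2 ^ k := by
      intro y hy
      obtain ⟨i, ⟨c, rfl⟩, rfl⟩ := hΦn y hy
      refine Nat.dvd_antisymm ?_ ?_
      · rw [← hk]
        exact orderOf_dvd_of_mem_zpowers ⟨_, rfl⟩
      · obtain ⟨α, β, hαβ⟩ : IsCoprime (2 * c + 1) ((2 : ℤ) ^ k) :=
          IsCoprime.pow_right ⟨1, -c, by ring⟩
        rw [← hk]
        refine orderOf_dvd_of_mem_zpowers ⟨α, ?_⟩
        show (n ^ (2 * c + 1)) ^ α = n
        rw [← zpow_mul, show (2 * c + 1) * α = ((2 ^ k : ℕ) : ℤ) * (-β) + 1 by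
          push_cast; linear_combination hαβ, zpow_add, zpow_mul, zpow_natCast, ← hk,
          pow_orderOf_eq_one, one_zpow, one_mul, zpow_one]
    have hordq : ∀ y : M, π y = π q → orderOf y = 2 ^ k := by
      intro y hy
      obtain ⟨z, rfl⟩ := η.surjective y
      rw [MulEquiv.orderOf_eq]
      refine hordn z ?_
      rw [← hπd, ← hηΦ, map_mul, map_inv, hπd, ← hq]
      exact hy
    have hordnq : ∀ y : M, π y = π n * π q → orderOf y = 2 ^ k := by
      intro y hy
      obtain ⟨z, rfl⟩ := η.surjective y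
      rw [MulEquiv.orderOf_eq]
      refine hordq z ?_
      rw [← hπd, ← hηΦ, map_mul, map_inv, hπd, hηq]
      exact hy
    obtain ⟨ρ, hρodd, hρ⟩ := hcn (q : G)
    have hρ' : q * n * q⁻¹ = n ^ ρ := by
      rw [← hρ]
      exact Subtype.ext (by simp)
    have hjq : ∀ j : ℤ, orderOf (n ^ j * q) = 2 ^ k := fun j => by
      rcases Int.even_or_odd j with hj | hj
      · exact hordq _ (by rw [map_mul, hπzpow, if_pos hj, one_mul])
      · exact hordnq _ (by rw [map_mul, hπzpow, if_neg (Int.not_even_iff_odd.2 hj)])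
    have hfacts := small_relations n q hk hqo hρodd hρ' hq2 hjq
    obtain ⟨hk2, htn, ht2⟩ := hfacts
    refine ⟨n, q, ?_, q.2, fun h => ?_, ?_, congrArg Subtype.val htn, ?_, ?_⟩
    · ext x
      constructor
      · rintro ⟨hxM, hxA⟩
        obtain ⟨i, hi⟩ := Subgroup.mem_zpowers_iff.1 ((hnA ⟨x, hxM⟩).1 hxA)
        exact ⟨i, by simpa using congrArg Subtype.val hi⟩
      · rintro ⟨i, rfl⟩
        exact ⟨zpow_mem n.2 i, zpow_mem ((hnA n).2 (Subgroup.mem_zpowers n)) i⟩
    · obtain ⟨i, hi⟩ := Subgroup.mem_zpowers_iff.1 ((hnA q).1 h)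
      have h1 := congrArg π hi
      rw [hπzpow] at h1
      split_ifs at h1
      · exact hq1 h1.symm
      · exact hnq h1
    · have h1 : n ^ 2 ^ 2 = 1 := by
        rw [show (2 : ℕ) ^ 2 = 2 ^ k * 2 ^ (2 - k) by rw [← pow_add, Nat.add_sub_cancel' hk2], pow_mul,
          ← hk, pow_orderOf_eq_one, one_pow]
      exact congrArg Subtype.val h1
    · exact ht2.imp (fun h => congrArg Subtype.val h) fun h => congrArg Subtype.val h
    · intro x hx
      obtain ⟨a, b, hab⟩ := hform ⟨x, hx⟩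
      rw [show x = (n : G) ^ a * (q : G) ^ b by simpa using congrArg Subtype.val hab]
      have h1 : (n : G) ∈ Subgroup.closure ({(n : G), (q : G)} : Set G) :=
        Subgroup.subset_closure (Or.inl rfl)
      have h2 : (q : G) ∈ Subgroup.closure ({(n : G), (q : G)} : Set G) :=
        Subgroup.subset_closure (Or.inr rfl)
      exact Subgroup.mul_mem _ (Subgroup.zpow_mem _ h1 a) (Subgroup.zpow_mem _ h2 b)
  · -- impossible
    exfalso
    have he2 : 2 ≤ e := by omega
    have h4e : (4 : ℤ) ∣ 2 ^ e := ⟨2 ^ (e - 2), by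
      rw [show (4 : ℤ) = 2 ^ 2 by norm_num, ← pow_add, Nat.add_sub_cancel' he2]⟩
    have h4r : (4 : ℤ) ∣ r + 1 := by
      have h1 := hg2 q
      rw [hg2q, inv_mul_cancel_left] at h1
      have h2 : (4 : ℤ) ∣ s * (r + 1) := h4e.trans (by
        have := hJ _ h1
        rwa [show s + r * s = s * (r + 1) by ring] at this)
      obtain ⟨c, rfl⟩ := hsodd
      exact (IsCoprime.dvd_of_dvd_mul_left
        (show IsCoprime (4 : ℤ) (2 * c + 1) from
          (show (4 : ℤ) = 2 ^ 2 by norm_num) ▸ IsCoprime.pow_left ⟨-c, 1, by ring⟩) h2)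
    have hJ1 : n ^ 2 ^ e = 1 := by
      by_contra hne
      have hkgt : e < k := lt_of_le_of_ne hek fun h => hne (by rw [h, ← hk, pow_orderOf_eq_one])
      have hvodd : Odd v := Int.not_even_iff_odd.1 fun ⟨c, hc⟩ => by
        have h1 : (q ^ 2 ^ e) ^ 2 ^ (k - e - 1) = 1 := by
          rw [← hv, hc, ← zpow_natCast, ← zpow_natCast n, ← zpow_mul, ← zpow_mul,
            show ((2 ^ e : ℕ) : ℤ) * ((c + c) * ((2 ^ (k - e - 1) : ℕ) : ℤ)) =
              ((2 ^ k : ℕ) : ℤ) * c by
              have h2 : (2 ^ k : ℕ) = 2 ^ e * (2 * 2 ^ (k - e - 1)) := by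
                rw [← pow_succ', ← pow_add]; congr 1; omega
              rw [h2]; push_cast; ring, zpow_mul, zpow_natCast, ← hk, pow_orderOf_eq_one, one_zpow]
        rw [← pow_mul, ← pow_add] at h1
        have := orderOf_dvd_of_pow_eq_one h1
        rw [hqo, Nat.pow_dvd_pow_iff_le_right (by norm_num)] at this
        omega
      obtain ⟨a, b, hab'⟩ := hform (η q)
      have hodd2 : Odd a ∧ Odd b := by
        have h1 := hηq
        rw [hab', map_mul, hπzpow, hπzpow] at h1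
        split_ifs at h1 with ha hb hb
        · rw [one_mul] at h1
          exact absurd (by rw [eq_comm, mul_eq_one_iff_eq_inv,
            inv_eq_of_mul_eq_one_right (hexp _)] at h1; exact h1) hnq
        · rw [one_mul] at h1
          exact absurd (right_eq_mul.1 h1) hn1
        · rw [mul_one] at h1
          exact absurd (left_eq_mul.1 h1) hq1
        · exact ⟨Int.not_even_iff_odd.1 ha, Int.not_even_iff_odd.1 hb⟩
      set c := q ^ b * n ^ a * (q ^ b)⁻¹ * (n ^ a)⁻¹ with hc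
      have hcn' : c ∈ Subgroup.zpowers n := Subgroup.mul_mem _
        ((Subgroup.mem_normalizer_iff.1 (hnnorm (q ^ b)) _).1 ⟨a, rfl⟩)
        (Subgroup.inv_mem _ ⟨a, rfl⟩)
      have hcq' : c ∈ Subgroup.zpowers q := by
        have hqn : n ^ a ∈ Subgroup.normalizer (Subgroup.zpowers q : Set M) := by
          refine Subgroup.mem_normalizer_fintype fun y hy => ?_
          obtain ⟨i, rfl⟩ := hy
          obtain ⟨z, hz⟩ := η.surjective (n ^ a)
          have h1 := (Subgroup.mem_normalizer_iff.1 (hnnorm z) (n ^ i)).1 ⟨i, rfl⟩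
          obtain ⟨j, hj⟩ := Subgroup.mem_zpowers_iff.1 h1
          refine ⟨j, ?_⟩
          show q ^ j = n ^ a * q ^ i * (n ^ a)⁻¹
          rw [← hz, hq, ← map_zpow η, ← map_zpow η, ← map_inv η, ← map_mul η, ← map_mul η, hj]
        rw [hc, mul_assoc (q ^ b), mul_assoc (q ^ b)]
        exact Subgroup.mul_mem _ ⟨b, rfl⟩
          ((Subgroup.mem_normalizer_iff.1 hqn _).1 (Subgroup.inv_mem _ ⟨b, rfl⟩))
      have hcc : c ∈ Subgroup.center M := by
        rw [Subgroup.mem_center_iff]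
        intro y
        obtain ⟨i, hi⟩ := Subgroup.mem_zpowers_iff.1 hcn'
        obtain ⟨j, hj⟩ := Subgroup.mem_zpowers_iff.1 hcq'
        obtain ⟨a', b', rfl⟩ := hform y
        have h1 : Commute (n ^ a') c := hi ▸ Commute.zpow_zpow_self n a' i
        have h2 : Commute (q ^ b') c := hj ▸ Commute.zpow_zpow_self q b' j
        exact (h1.mul_left h2).eq
      obtain ⟨i, hi⟩ := Subgroup.mem_zpowers_iff.1 hcn'
      obtain ⟨u, rfl⟩ := hJ i (hi ▸ hcq')
      have hpw := CfsgLib.OddOmega.mul_pow_of_central (n ^ a) (q ^ b) c hcc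
        (by rw [hc]; group) (2 ^ e)
      obtain ⟨C, hC⟩ : ∃ C, (2 ^ e).choose 2 = 2 * C := by
        refine ⟨2 ^ (e - 2) * (2 ^ e - 1), ?_⟩
        have h0 : (2 : ℕ) ^ e = 2 ^ (e - 2) * 4 := by
          rw [show (4 : ℕ) = 2 ^ 2 by norm_num, ← pow_add, Nat.sub_add_cancel he2]
        rw [Nat.choose_two_right]
        apply Nat.div_eq_of_eq_mul_left (by norm_num)
        conv_lhs => enter [1]; rw [h0]
        ring
      have hlhs : (n ^ a * q ^ b) ^ 2 ^ e = n ^ (((2 ^ e : ℕ) : ℤ) * (v * v)) := by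
        rw [← hab', ← map_pow, ← hv, map_zpow, map_pow, ← hq, ← hv, zpow_mul, zpow_natCast,
          ← zpow_mul]
      have hqb : (q ^ b) ^ 2 ^ e = n ^ (((2 ^ e : ℕ) : ℤ) * (v * b)) := by
        rw [← zpow_natCast, ← zpow_mul, mul_comm, zpow_mul, zpow_natCast, ← hv, ← zpow_mul,
          zpow_mul n, zpow_natCast]
      rw [hlhs, hqb, ← hi, hC, ← zpow_natCast (n ^ a), ← zpow_mul n a,
        ← zpow_natCast (n ^ ((2 : ℤ) ^ e * u)), ← zpow_mul, ← zpow_add, ← zpow_add] at hpw
      have hdvd := orderOf_dvd_sub_iff_zpow_eq_zpow.2 hpw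
      rw [hk] at hdvd
      have h2e : (2 : ℤ) ^ (e + 1) ∣ ((2 ^ e : ℕ) : ℤ) * (v * v) - (2 ^ e * u * ((2 * C : ℕ) : ℤ) +
          (a * ((2 ^ e : ℕ) : ℤ) + ((2 ^ e : ℕ) : ℤ) * (v * b))) := by
        refine (pow_dvd_pow (2 : ℤ) hkgt).trans ?_
        push_cast at hdvd ⊢
        exact hdvd
      push_cast at h2e
      rw [pow_succ, show (2 : ℤ) ^ e * (v * v) - (2 ^ e * u * (2 * (C : ℤ)) + (a * 2 ^ e + 2 ^ e * (v * b)))
        = 2 ^ e * (v * v - 2 * u * C - a - v * b) by ring] at h2e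
      have h2 := Int.dvd_of_mul_dvd_mul_left (pow_ne_zero _ (by norm_num)) h2e
      obtain ⟨w, rfl⟩ := hvodd
      obtain ⟨⟨a', rfl⟩, ⟨b', rfl⟩⟩ := hodd2
      obtain ⟨z, hz⟩ := h2
      have hzz : 2 * (2 * w * w + 2 * w - u * C - a' - 2 * w * b' - w - b' - z) = 1 := by
        linear_combination hz
      omega
    have hL0M : ∀ x : G, (∀ y : M, y⁻¹ * MulAut.conjNormal x y ∈ frattini M) → x ∈ M := by
      intro x hx
      refine hself (Subgroup.mem_centralizer_iff.2 fun y hy => ?_)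
      obtain ⟨i, hi⟩ := Subgroup.mem_zpowers_iff.1 (hdisp x ⟨y, hy⟩)
      have h1 : n ^ i = 1 := by
        obtain ⟨c, rfl⟩ := hJ i (hi ▸ hdisp2 x hx ⟨y, hy⟩)
        rw [zpow_mul, show ((2 : ℤ) ^ e) = ((2 ^ e : ℕ) : ℤ) by push_cast; rfl, zpow_natCast, hJ1,
          one_zpow]
      rw [h1, eq_comm, inv_mul_eq_one] at hi
      have h2 : y = x * y * x⁻¹ := congrArg Subtype.val hi
      exact eq_mul_inv_iff_mul_eq.1 h2
    have hAL0 : ∀ a ∈ A, ∀ y : M, y⁻¹ * MulAut.conjNormal a y ∈ frattini M := by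
      intro a ha
      obtain ⟨i, hi⟩ := hcq a
      rcases Int.even_or_odd i with hev | hodd
      · exact htriv a i hev hi
      · exfalso
        have han : MulAut.conjNormal a n = n := by
          haveI := hA
          letI : CommGroup A := IsCyclic.commGroup
          refine Subtype.ext ?_
          rw [MulAut.conjNormal_apply]
          have h1 := congrArg (fun z : A => (z : G))
            (mul_comm (⟨a, ha⟩ : A) ⟨n, (hnA n).2 (Subgroup.mem_zpowers n)⟩)
          simp only [Subgroup.coe_mul] at h1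
          rw [h1, mul_inv_cancel_right]
        have hinvn : MulAut.conjNormal a⁻¹ n = n := by
          conv_lhs => rw [map_inv, ← han, MulAut.inv_apply_self]
        have hinvq : MulAut.conjNormal a⁻¹ q = q * n ^ (-i) := by
          rw [map_inv]
          apply (MulAut.conjNormal a).injective
          rw [MulAut.apply_inv_self, map_mul, map_zpow, hi, han, mul_assoc, ← zpow_add,
            add_neg_cancel, zpow_zero, mul_one]
        have hxn : MulAut.conjNormal (a⁻¹ * g) n = n ^ r := by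
          rw [map_mul, MulAut.mul_apply, hr, map_zpow, hinvn]
        have hxq : MulAut.conjNormal (a⁻¹ * g) q = q * n ^ (-i + s) := by
          rw [map_mul, MulAut.mul_apply, hs, map_mul, map_zpow, hinvn, hinvq, mul_assoc, ← zpow_add]
        have h1 := hdisp2 _ (htriv _ _ (Odd.add_odd hodd.neg hsodd) hxq) n
        rw [hxn, ← zpow_neg_one, ← zpow_add] at h1
        have h2 := h4e.trans (hJ _ h1)
        omega
    haveI := hGA
    obtain ⟨w, hw⟩ := hGA.exists_generator
    obtain ⟨w, rfl⟩ := QuotientGroup.mk'_surjective A w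
    have hwL0 : ∀ y : M, y⁻¹ * MulAut.conjNormal w y ∈ frattini M := by
      obtain ⟨i, hi⟩ := Subgroup.mem_zpowers_iff.1 (hw (QuotientGroup.mk' A (q : G)))
      rw [← map_zpow, QuotientGroup.mk'_apply, QuotientGroup.mk'_apply, QuotientGroup.eq] at hi
      set a := (w ^ i)⁻¹ * (q : G) with ha
      have haM : a ∈ M := hL0M a (hAL0 a hi)
      obtain ⟨j, hj⟩ := Subgroup.mem_zpowers_iff.1 ((hnA ⟨a, haM⟩).1 hi)
      obtain ⟨ρ, ⟨c, hc⟩, hρ⟩ := hcn w
      refine htriv w (-j + ρ * j) ⟨c * j, by rw [hc]; ring⟩ ?_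
      refine Subtype.ext ?_
      have haj : a = (n : G) ^ j := by simpa using (congrArg Subtype.val hj).symm
      have hρ' : w * (n : G) * w⁻¹ = (n : G) ^ ρ := by
        simpa using congrArg Subtype.val hρ
      rw [MulAut.conjNormal_apply, Subgroup.coe_mul, SubgroupClass.coe_zpow, zpow_add, zpow_neg,
        zpow_mul, ← hρ', conj_zpow, ← haj, ha]
      group
    obtain ⟨i, hi⟩ := Subgroup.mem_zpowers_iff.1 (hw (QuotientGroup.mk' A g))
    rw [← map_zpow, QuotientGroup.mk'_apply, QuotientGroup.mk'_apply, QuotientGroup.eq] at hi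
    refine hg fun y => ?_
    let H : Subgroup G :=
      { carrier := {x | ∀ y : M, π (MulAut.conjNormal x y) = π y}
        one_mem' := fun y => by rw [map_one, MulAut.one_apply]
        mul_mem' := fun {x z} hx hz y => by rw [map_mul, MulAut.mul_apply, hx, hz]
        inv_mem' := fun {x} hx y => by
          have := hx (MulAut.conjNormal x⁻¹ y)
          rw [← MulAut.mul_apply, ← map_mul, mul_inv_cancel, map_one, MulAut.one_apply] at this
          exact this.symm }
    have hwH : w ∈ H := fun y => ((hπd _ _).1 (hwL0 y)).symm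
    have hrest : (w ^ i)⁻¹ * g ∈ H := fun y => ((hπd _ _).1 (hAL0 _ hi y)).symm
    have hgH : g ∈ H := by
      have := H.mul_mem (H.zpow_mem hwH i) hrest
      rwa [mul_inv_cancel_left] at this
    exact (hπd _ _).2 (hgH y).symm

end CfsgLib.Fusion
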