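import Mathlib
import Cfsg.Prelude.Def_CaseTheorems
import Cfsg.Agent.Lib.SmallTwo.DihedralRec
import Cfsg.Agent.Lib.Classical.QuaternionRec

/-!
Metacyclic 2-groups with a small self-centralizing subgroup are dihedral, quaternion or
quasi-dihedral.
-/

set_option autoImplicit false

namespace CfsgLib.Fusion

/-- In a cyclic group generated by `ν` of order `2^l`, the involution is `ν^(2^(l-1))`. -/
theorem eq_half_of_sq_eq_one {G : Type*} [Group G] {ν x : G} {l : ℕ} (hν : orderOf ν = 2 ^ l)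
    (hx : x ∈ Subgroup.zpowers ν) (hx2 : x ^ 2 = 1) (hx1 : x ≠ 1) :
    1 ≤ l ∧ x = ν ^ 2 ^ (l - 1) := by
  obtain ⟨i, rfl⟩ := Subgroup.mem_zpowers_iff.1 hx
  rw [← zpow_natCast, ← zpow_mul] at hx2
  have h := orderOf_dvd_iff_zpow_eq_one.2 hx2
  rw [hν] at h
  obtain ⟨l, rfl⟩ : ∃ k, l = k + 1 := by
    refine Nat.exists_eq_succ_of_ne_zero fun e => hx1 ?_
    rw [e, pow_zero, orderOf_eq_one_iff] at hν
    rw [hν, one_zpow]
  refine ⟨by omega, ?_⟩
  push_cast [pow_succ] at h
  obtain ⟨j, rfl⟩ := Int.dvd_of_mul_dvd_mul_right (by norm_num) h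
  rcases Int.even_or_odd' j with ⟨c, rfl | rfl⟩
  · refine absurd ?_ hx1
    rw [show (2 : ℤ) ^ l * (2 * c) = ((2 ^ (l + 1) : ℕ) : ℤ) * c by push_cast; ring, zpow_mul,
      zpow_natCast, ← hν, pow_orderOf_eq_one, one_zpow]
  · rw [Nat.add_sub_cancel,
      show (2 : ℤ) ^ l * (2 * c + 1) = ((2 ^ (l + 1) : ℕ) : ℤ) * c + ((2 ^ l : ℕ) : ℤ) by
        push_cast; ring, zpow_add, zpow_mul, zpow_natCast, zpow_natCast, ← hν, pow_orderOf_eq_one,
      one_zpow, one_mul]

theorem dihedral_quaternion_quasiDihedral_of_small {G : Type*} [Group G] [Finite G]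
    (hG : IsPGroup 2 G) (N : Subgroup G) [N.Normal] (hN : IsCyclic N)
    (hQ : IsCyclic (G ⧸ N)) {n t : G} (hn : n ∈ N) (ht : t ∉ N) (hn4 : n ^ 4 = 1)
    (htn : t * n * t⁻¹ = n⁻¹) (ht2 : t * t = 1 ∨ t * t = n ^ 2)
    (hcap : ∀ x ∈ N, x ∈ Subgroup.closure ({n, t} : Set G) → x ∈ Subgroup.zpowers n)
    (hself : ∀ x, x * n = n * x → x * t = t * x → x ∈ Subgroup.closure ({n, t} : Set G)) :
    (∃ m : ℕ, Nonempty (G ≃* DihedralGroup m)) ∨ (∃ m : ℕ, Nonempty (G ≃* QuaternionGroup m)) ∨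
      Cfsg.IsQuasiDihedral G := by
  obtain ⟨⟨ν, hνN⟩, hgen⟩ := hN.exists_generator
  have hgen' : ∀ x ∈ N, x ∈ Subgroup.zpowers ν := fun x hx => by
    obtain ⟨i, hi⟩ := hgen ⟨x, hx⟩
    exact ⟨i, by simpa using congrArg Subtype.val hi⟩
  have hsc : ∀ x ∈ N, x * t = t * x → x ^ 2 = 1 := by
    intro x hx hxt
    obtain ⟨i, hi⟩ := Subgroup.mem_zpowers_iff.1 (hgen' x hx)
    obtain ⟨j, hj⟩ := Subgroup.mem_zpowers_iff.1 (hgen' n hn)
    have hxn : x * n = n * x := by rw [← hi, ← hj, (Commute.zpow_zpow_self ν i j).eq]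
    obtain ⟨a, ha⟩ := Subgroup.mem_zpowers_iff.1 (hcap x hx (hself x hxn hxt))
    have h1 : t * x * t⁻¹ = x⁻¹ := by rw [← ha, ← conj_zpow, htn, inv_zpow]
    rw [← hxt, mul_inv_cancel_right] at h1
    rw [pow_two]
    nth_rewrite 2 [h1]
    exact mul_inv_cancel x
  obtain ⟨r, hr⟩ := Subgroup.mem_zpowers_iff.1
    (hgen' _ ((inferInstance : N.Normal).conj_mem ν hνN t))
  obtain ⟨l, hl⟩ : ∃ l, orderOf ν = 2 ^ l := by
    obtain ⟨k, hk⟩ := hG ν
    obtain ⟨l, -, hl⟩ := (Nat.dvd_prime_pow Nat.prime_two).1 (orderOf_dvd_of_pow_eq_one hk)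
    exact ⟨l, hl⟩
  have htt : Commute (t * t) ν := by
    rcases ht2 with e | e
    · rw [e]; exact Commute.one_left _
    · obtain ⟨j, hj⟩ := Subgroup.mem_zpowers_iff.1 (hgen' n hn)
      rw [e, ← hj]
      exact (Commute.zpow_self ν j).pow_left 2
  have hr2 : ν ^ (r * r) = ν := by
    rw [zpow_mul, hr, conj_zpow, hr, show t * (t * ν * t⁻¹) * t⁻¹ = t * t * ν * (t * t)⁻¹ by group,
      htt.eq, mul_inv_cancel_right]
  have hx : (ν ^ (r + 1)) ^ 2 = 1 := by
    refine hsc _ (zpow_mem hνN _) ?_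
    have h1 : t * ν ^ (r + 1) * t⁻¹ = ν ^ (r + 1) := by
      rw [← conj_zpow, ← hr, ← zpow_mul, mul_add, mul_one, zpow_add, hr2, zpow_add, zpow_one]
      exact (Commute.zpow_self ν r).eq.symm
    exact (mul_inv_eq_iff_eq_mul.1 h1).symm
  have hclo : Subgroup.closure ({ν, t} : Set G) = ⊤ := by
    refine eq_top_iff.2 fun g _ => ?_
    obtain ⟨u, hu⟩ := hQ.exists_generator
    obtain ⟨u, rfl⟩ := QuotientGroup.mk'_surjective N u
    have hNle : ∀ x ∈ N, x ∈ Subgroup.closure ({ν, t} : Set G) := fun x hx => by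
      obtain ⟨i, rfl⟩ := Subgroup.mem_zpowers_iff.1 (hgen' x hx)
      exact zpow_mem (Subgroup.subset_closure (Set.mem_insert _ _)) _
    obtain ⟨i, hi⟩ := Subgroup.mem_zpowers_iff.1 (hu (QuotientGroup.mk' N t))
    rcases Int.even_or_odd i with hev | hodd
    · obtain ⟨c, hc⟩ := hev
      rw [← map_zpow, QuotientGroup.mk'_apply, QuotientGroup.mk'_apply, QuotientGroup.eq] at hi
      obtain ⟨d, hd⟩ := Subgroup.mem_zpowers_iff.1 (hgen' _ hi)
      obtain ⟨q, hq⟩ := Subgroup.mem_zpowers_iff.1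
        (hgen' _ ((inferInstance : N.Normal).conj_mem ν hνN (u ^ c)))
      have hti : t = u ^ i * ν ^ d := by rw [hd, mul_inv_cancel_left]
      have hrq : ν ^ r = ν ^ (q * q) := by
        rw [hr, zpow_mul, hq, conj_zpow, hq, hti]
        rw [show u ^ i * ν ^ d * ν * (u ^ i * ν ^ d)⁻¹
          = u ^ i * (ν ^ d * ν * (ν ^ d)⁻¹) * (u ^ i)⁻¹ by group,
          (Commute.zpow_self ν d).eq, mul_inv_cancel_right, hc, zpow_add]
        group
      have hν2 : ν ^ 2 = 1 := by
        refine hsc ν hνN ?_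
        suffices h : ν ^ r = ν by
          exact (mul_inv_eq_iff_eq_mul.1 (hr.symm.trans h)).symm
        rcases Int.even_or_odd q with hqe | hqo
        · obtain ⟨e, he⟩ := hqe
          have h2 : ν = 1 := by
            have h3 : orderOf (ν ^ q) = orderOf ν := by
              rw [hq]; exact MulEquiv.orderOf_eq (MulAut.conj _) ν
            rcases Nat.eq_zero_or_pos l with hl0 | hl0
            · rw [hl0, pow_zero, orderOf_eq_one_iff] at hl
              exact hl
            · exfalso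
              have h4 : (ν ^ q) ^ 2 ^ (l - 1) = 1 := by
                rw [← zpow_natCast, ← zpow_mul, he,
                  show (e + e) * ((2 ^ (l - 1) : ℕ) : ℤ) = ((2 ^ l : ℕ) : ℤ) * e by
                    have h5 : ((2 ^ l : ℕ) : ℤ) = 2 * ((2 ^ (l - 1) : ℕ) : ℤ) := by
                      push_cast
                      rw [← pow_succ', Nat.sub_add_cancel hl0]
                    rw [h5]; ring,
                  zpow_mul, zpow_natCast, ← hl, pow_orderOf_eq_one, one_zpow]
              have h6 := orderOf_dvd_of_pow_eq_one h4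
              rw [h3, hl, Nat.pow_dvd_pow_iff_le_right (by norm_num)] at h6
              omega
          rw [h2, one_zpow]
        · obtain ⟨e, rfl⟩ := hqo
          have h4 : ν ^ (4 : ℤ) = 1 := by
            have h5 : (ν ^ (r + 1)) ^ 2 = 1 := hx
            rw [zpow_add, hrq, ← zpow_add, ← zpow_natCast, ← zpow_mul,
              show ((2 * e + 1) * (2 * e + 1) + 1) * ((2 : ℕ) : ℤ) =
                4 * (2 * (e * e + e) + 1) by push_cast; ring] at h5
            have h6 := orderOf_dvd_iff_zpow_eq_one.2 h5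
            rw [← orderOf_dvd_iff_zpow_eq_one]
            refine (Int.dvd_of_dvd_mul_left_of_gcd_one h6 ?_)
            rw [hl]
            have hco : IsCoprime ((2 : ℤ) ^ l) (2 * (e * e + e) + 1) :=
              IsCoprime.pow_left ⟨-(e * e + e), 1, by ring⟩
            have := Int.isCoprime_iff_gcd_eq_one.1 hco
            simpa using this
          rw [hrq, show (2 * e + 1) * (2 * e + 1) = 4 * (e * e + e) + 1 by ring, zpow_add,
            zpow_mul, h4, one_zpow, one_mul, zpow_one]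
      have hcen : N ≤ Subgroup.center G := by
        intro x hx
        rw [Subgroup.mem_center_iff]
        intro y
        obtain ⟨k, hk⟩ := Subgroup.mem_zpowers_iff.1 (hgen' x hx)
        obtain ⟨s, hs⟩ := Subgroup.mem_zpowers_iff.1
          (hgen' _ ((inferInstance : N.Normal).conj_mem ν hνN y))
        have hs' : y * ν * y⁻¹ = ν := by
          rcases Int.even_or_odd' s with ⟨e, rfl | rfl⟩
          · rw [zpow_mul, zpow_two, ← pow_two, hν2, one_zpow] at hs
            rw [← hs]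
            have h7 : ν = 1 := by simpa using hs.symm
            exact h7.symm
          · rw [zpow_add, zpow_mul, zpow_two, ← pow_two, hν2, one_zpow, one_mul, zpow_one] at hs
            exact hs.symm
        have : Commute y ν := mul_inv_eq_iff_eq_mul.1 hs'
        rw [← hk]
        exact (this.zpow_right k).eq
      haveI := hQ
      have hab : ∀ a b : G, a * b = b * a :=
        commutative_of_cyclic_center_quotient (QuotientGroup.mk' N)
          (by rw [QuotientGroup.ker_mk']; exact hcen)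
      refine (Subgroup.closure_le _).2 ?_ (hself g (hab _ _) (hab _ _))
      rintro x (rfl | rfl)
      · exact hNle _ hn
      · exact Subgroup.subset_closure (Set.mem_insert_of_mem _ rfl)
    · obtain ⟨o, ho⟩ : ∃ o, orderOf (QuotientGroup.mk' N u) = 2 ^ o := by
        obtain ⟨k, hk⟩ := hG.to_quotient N (QuotientGroup.mk' N u)
        obtain ⟨o, -, ho⟩ := (Nat.dvd_prime_pow Nat.prime_two).1 (orderOf_dvd_of_pow_eq_one hk)
        exact ⟨o, ho⟩
      obtain ⟨c, hc⟩ := hodd
      obtain ⟨α, β, hαβ⟩ : IsCoprime i ((2 : ℤ) ^ o) :=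
        IsCoprime.pow_right ⟨1, -c, by rw [hc]; ring⟩
      obtain ⟨j, hj⟩ := Subgroup.mem_zpowers_iff.1 (hu (QuotientGroup.mk' N g))
      have h1 : QuotientGroup.mk' N (t ^ (α * j)) = QuotientGroup.mk' N g := by
        rw [map_zpow, ← hi, ← zpow_mul, ← hj,
          show i * (α * j) = ((2 ^ o : ℕ) : ℤ) * (-(β * j)) + j by
            push_cast; linear_combination j * hαβ,
          zpow_add, zpow_mul, zpow_natCast, ← ho, pow_orderOf_eq_one, one_zpow, one_mul]
      rw [QuotientGroup.mk'_apply, QuotientGroup.mk'_apply, QuotientGroup.eq] at h1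
      have := Subgroup.mul_mem _
        (zpow_mem (Subgroup.subset_closure (Set.mem_insert_of_mem ν rfl) :
          t ∈ Subgroup.closure ({ν, t} : Set G)) (α * j)) (hNle _ h1)
      rwa [mul_inv_cancel_left] at this
  have hout : t ∉ Subgroup.zpowers ν := fun h => ht (Subgroup.zpowers_le.2 hνN h)
  have hn2 : (n ^ 2) ^ 2 = 1 := by rw [← pow_mul]; exact hn4
  have htt' : t * t ∈ N := by
    rcases ht2 with e | e
    · rw [e]; exact N.one_mem
    · rw [e]; exact N.pow_mem hn 2
  have hcard : Nat.card G = 2 ^ (l + 1) := by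
    have hgen2 : ∀ y : G ⧸ N, y ∈ Subgroup.zpowers (QuotientGroup.mk' N t) := by
      intro y
      obtain ⟨y, rfl⟩ := QuotientGroup.mk'_surjective N y
      have h1 : Subgroup.closure ({ν, t} : Set G) ≤
          (Subgroup.zpowers (QuotientGroup.mk' N t)).comap (QuotientGroup.mk' N) := by
        refine (Subgroup.closure_le _).2 ?_
        rintro x (rfl | rfl)
        · rw [SetLike.mem_coe, Subgroup.mem_comap]
          rw [show QuotientGroup.mk' N x = 1 from (QuotientGroup.eq_one_iff x).2 hνN]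
          exact Subgroup.one_mem _
        · exact Subgroup.mem_zpowers _
      exact h1 (hclo ▸ Subgroup.mem_top y)
    have hQc : Nat.card (G ⧸ N) = 2 := by
      rw [← orderOf_eq_card_of_forall_mem_zpowers hgen2]
      refine orderOf_eq_prime ?_ fun e => ht ((QuotientGroup.eq_one_iff _).1 e)
      rw [← map_pow, pow_two]
      exact (QuotientGroup.eq_one_iff _).2 htt'
    have hNz : N = Subgroup.zpowers ν :=
      le_antisymm hgen' (Subgroup.zpowers_le.2 hνN)
    rw [Subgroup.card_eq_card_quotient_mul_card_subgroup N, hQc]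
    conv_lhs => rw [hNz, Nat.card_zpowers, hl]
    rw [pow_succ, mul_comm]
  haveI : NeZero (2 ^ l) := ⟨by positivity⟩
  by_cases hz : ν ^ (r + 1) = 1
  · have hinv : t * ν * t⁻¹ = ν⁻¹ := by
      rw [← hr]
      exact eq_inv_of_mul_eq_one_left (by rw [← zpow_add_one, hz])
    rcases em (t * t = 1) with h1 | h1
    · obtain ⟨f, hf, hrange⟩ :=
        CfsgLib.SmallTwo.exists_dihedral_hom_injective hl h1 hinv hout
      refine Or.inl ⟨2 ^ l, ⟨(MulEquiv.ofBijective f ⟨hf, ?_⟩).symm⟩⟩
      exact MonoidHom.range_eq_top.1 (hrange.trans hclo)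
    · have h2 := ht2.resolve_left h1
      obtain ⟨hl1, hzeq⟩ := eq_half_of_sq_eq_one hl (hgen' _ (N.pow_mem hn 2)) hn2
        (fun e => h1 (h2.trans e))
      haveI : NeZero (2 ^ (l - 1)) := ⟨by positivity⟩
      obtain ⟨f, hf, hrange⟩ := CfsgLib.Classical.exists_quaternion_hom (n := 2 ^ (l - 1))
        (by rw [hl, ← pow_succ', Nat.sub_add_cancel hl1]) (h2.trans hzeq) hinv hout
      refine Or.inr (Or.inl ⟨2 ^ (l - 1), ⟨(MulEquiv.ofBijective f ⟨hf, ?_⟩).symm⟩⟩)
      exact MonoidHom.range_eq_top.1 (hrange.trans hclo)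
  · obtain ⟨hl1, hzeq⟩ := eq_half_of_sq_eq_one hl (zpow_mem (Subgroup.mem_zpowers ν) _) hx hz
    have hνr : ν ^ r = ν ^ (2 ^ (l - 1)) * ν⁻¹ := by rw [← hzeq, zpow_add, zpow_one, mul_inv_cancel_right]
    have hl3 : 3 ≤ l := by
      by_contra hlt
      interval_cases l
      · apply hz
        rw [pow_one] at hl
        have h2 : ν ^ 2 = 1 := hl ▸ pow_orderOf_eq_one ν
        have h3 : ν ^ r = 1 := by
          rw [hνr]; simp
        have h4 : orderOf (ν ^ r) = orderOf ν := by
          rw [hr]; exact MulEquiv.orderOf_eq (MulAut.conj _) ν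
        rw [h3, orderOf_one, hl] at h4
        exact absurd h4 (by norm_num)
      · have h2 : ν ^ r = ν := by
          rw [hνr]
          simp only [show (2 : ℕ) ^ (2 - 1) = 2 by rfl, pow_two, mul_inv_cancel_right]
        have h3 : ν ^ 2 = 1 :=
          hsc ν hνN (mul_inv_eq_iff_eq_mul.1 (hr.symm.trans h2)).symm
        have := orderOf_dvd_of_pow_eq_one h3
        rw [hl] at this
        exact absurd (Nat.le_of_dvd (by norm_num) this) (by norm_num)
    have hνn : t * ν * t⁻¹ = ν ^ (2 ^ (l - 1) - 1) := by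
      rw [← hr, hνr, pow_sub _ Nat.one_le_two_pow, pow_one]
    refine Or.inr (Or.inr ⟨l, hl3, hcard, ?_⟩)
    rcases em (t * t = 1) with h1 | h1
    · exact ⟨ν, t, hl, orderOf_eq_prime (by rw [pow_two, h1]) fun e => ht (e ▸ N.one_mem), hνn⟩
    · have h2 := ht2.resolve_left h1
      obtain ⟨-, hneq⟩ := eq_half_of_sq_eq_one hl (hgen' _ (N.pow_mem hn 2)) hn2
        (fun e => h1 (h2.trans e))
      refine ⟨ν, t * ν, hl, orderOf_eq_prime ?_ fun e => ht ?_, ?_⟩
      · rw [pow_two, show t * ν * (t * ν) = t * ν * t⁻¹ * (t * t) * ν by group, ← hr, h2, hneq,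
          ← hzeq, mul_assoc, ← zpow_add_one ν (r + 1), ← zpow_add,
          show r + (r + 1 + 1) = (r + 1) * ((2 : ℕ) : ℤ) by push_cast; ring, zpow_mul,
          zpow_natCast, hx]
      · rw [eq_inv_of_mul_eq_one_left e]
        exact N.inv_mem hνN
      · rw [mul_inv_rev, show t * ν * ν * (ν⁻¹ * t⁻¹) = t * ν * t⁻¹ by group, hνn]

end CfsgLib.Fusion
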