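import Mathlib
import Cfsg.Agent.Lib.Fusion.MetacyclicOdd
import Cfsg.Agent.Lib.Fusion.MetacyclicTwoCore
import Cfsg.Agent.Lib.Fusion.MetacyclicTwoSmall

/-!
Metacyclic strongly closed subgroups for `p = 2`.
-/

set_option autoImplicit false

namespace CfsgLib.Fusion

open Cfsg Cfsg.FusionSystem

theorem frattini_mem_iff_of_equiv {A B : Type*} [Group A] [Group B] (e : A ≃* B) (x : A) :
    e x ∈ frattini B ↔ x ∈ frattini A := by
  constructor
  · intro h
    have := frattini_le_comap_frattini_of_surjective (φ := e.symm.toMonoidHom) e.symm.surjective h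
    rw [Subgroup.mem_comap] at this
    simpa using this
  · intro h
    have := frattini_le_comap_frattini_of_surjective (φ := e.toMonoidHom) e.surjective h
    rw [Subgroup.mem_comap] at this
    simpa using this

variable {Ω : Type*} [Group Ω] {S : Subgroup Ω} {F : FusionSystem S}
variable [Finite S]

/-- A failure of `Aut_P(M) ≤ O_2(Aut_F(M))` makes `M` a four group or a quaternion group. -/
theorem small_of_not_autInCore (hS : IsPGroup 2 S) (hF : F.IsSaturated 2) {P : Subgroup Ω}
    (hP : F.StronglyClosed P) (hm : Cfsg.IsMetacyclic P) {M : Subgroup Ω} (hMP : M ≤ P)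
    (hfn : F.IsFullyNormalized M) (hC : P ⊓ Subgroup.centralizer (M : Set Ω) ≤ M)
    (hnot : ¬ AutInCore F 2 P M) :
    (∃ m : ℕ, Nonempty (P ≃* DihedralGroup m)) ∨ (∃ m : ℕ, Nonempty (P ≃* QuaternionGroup m)) ∨
      Cfsg.IsQuasiDihedral P := by
  haveI : Fact (Nat.Prime 2) := ⟨Nat.prime_two⟩
  unfold AutInCore at hnot
  push Not at hnot
  obtain ⟨g, hgP, hg, hna⟩ := hnot
  have hMS := hfn.1
  have := finite_of_le hMS
  have := finite_mulAut M
  have hMp : IsPGroup 2 M := hS.to_le hMS
  have hexp : ∀ y : M ⧸ frattini M, y ^ 2 = 1 := by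
    intro y
    obtain ⟨m, rfl⟩ := QuotientGroup.mk'_surjective (frattini M) y
    rw [← map_pow]
    exact (QuotientGroup.eq_one_iff _).2 (CfsgLib.OddOmega.pow_mem_frattini hMp m)
  have hle4 := card_le_sq_of_metacyclic hm hMP _ (QuotientGroup.mk'_surjective _)
    (by norm_num) hexp
  have hcard := exists_pow_card_sq (hMp.to_quotient (frattini M)) hle4
  have hcomm := comm_of_card_le_sq hcard
  set π := (frattiniHom M).comp (F.autGroup M).subtype with hπ
  have hker : IsPGroup 2 π.ker := by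
    have : π.ker = (frattiniHom M).ker.comap (F.autGroup M).subtype := rfl
    rw [this]
    exact (isPGroup_ker_frattiniHom hMp).comap_of_injective _ Subtype.val_injective
  have hgA : conjAut M hg ∈ F.autGroup M :=
    autInducedBy_le_autGroup hMS (conjAut_mem_autInducedBy hg (hP.1 hgP))
  have hna' : (⟨_, hgA⟩ : F.autGroup M) ∉ Cfsg.pCore 2 (F.autGroup M) := fun h => hna ⟨_, h, rfl⟩
  obtain ⟨k, hk⟩ := isPGroup_autInducedBy hS M ⟨_, conjAut_mem_autInducedBy hg (hP.1 hgP)⟩
  have hk' : π ⟨_, hgA⟩ ^ 2 ^ k = 1 := by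
    rw [← map_pow]
    have : (⟨_, hgA⟩ : F.autGroup M) ^ 2 ^ k = 1 :=
      Subtype.ext (congrArg (Subtype.val : autInducedBy S M → MulAut M) hk)
    rw [this, map_one]
  obtain ⟨v, w, b, hgen, hav, haw, hbw, hbv⟩ := exists_transvection_pair π hker hcard hk' hna'
  letI : CommGroup (M ⧸ frattini M) :=
    { (inferInstance : Group (M ⧸ frattini M)) with mul_comm := hcomm }
  set h := (⟨_, hgA⟩ : F.autGroup M) * b with hh
  have hsq : ∀ y : M ⧸ frattini M, y * y = 1 := fun y => by rw [← pow_two]; exact hexp y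
  have hhv : π h v = w := by
    rw [hh, map_mul, MulAut.mul_apply, hbv, map_mul, map_inv, hav, haw, mul_inv_rev,
      mul_inv_cancel_left]
    exact inv_eq_of_mul_eq_one_right (hsq w)
  have hhw : π h w = w * v := by rw [hh, map_mul, MulAut.mul_apply, hbw, haw]
  have hfix : ∀ y, π h y = y → y = 1 := by
    let τ : (M ⧸ frattini M) →* (M ⧸ frattini M) :=
      MonoidHom.id _ * (π h).toMonoidHom * ((π h).toMonoidHom.comp (π h).toMonoidHom)
    have e : τ = 1 := hgen τ 1 (by
      show v * π h v * π h (π h v) = 1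
      rw [hhv, hhw, mul_comm w v, hsq]) (by
      show w * π h w * π h (π h w) = 1
      rw [hhw, map_mul, hhw, hhv, show w * (w * v) * (w * v * w) = w * w * (w * v * (w * v)) by ac_rfl,
        hsq, hsq, one_mul])
    intro y hy
    have h1 : y * π h y * π h (π h y) = 1 := DFunLike.congr_fun e y
    rw [hy, hy, hsq, one_mul] at h1
    exact h1
  set η : MulAut M := ((h : F.autGroup M) : MulAut M)⁻¹ with hη
  have hfpf : ∀ y : M, y⁻¹ * η y ∈ frattini M → y ∈ frattini M := by
    intro y hy
    rw [← QuotientGroup.eq] at hy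
    refine (QuotientGroup.eq_one_iff y).1 (hfix _ ?_)
    calc π h (QuotientGroup.mk y) = π h (QuotientGroup.mk (η y)) := by rw [hy]
      _ = QuotientGroup.mk ((h : MulAut M) (η y)) := rfl
      _ = QuotientGroup.mk y := by rw [hη, MulAut.apply_inv_self]
  set L := normalizerIn S M ⊓ P with hL
  have hLS : L ≤ S := fun x hx => hx.1.1
  have hLM : L ≤ Subgroup.normalizer (M : Set Ω) := fun x hx => hx.1.2
  have hML : M ≤ L := le_inf (le_normalizerIn hMS) hMP
  have := finite_of_le hLS
  haveI : (M.subgroupOf L).Normal := Subgroup.normal_subgroupOf_of_le_normalizer hLM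
  let e := Subgroup.subgroupOfEquivOfLe hML
  have hecoe : ∀ y : M.subgroupOf L, (e y : Ω) = ((y : L) : Ω) := fun y => rfl
  have heΦ : ∀ y, e y ∈ frattini M ↔ y ∈ frattini (M.subgroupOf L) := frattini_mem_iff_of_equiv e
  set η' : MulAut (M.subgroupOf L) := (MulAut.congr e).symm η with hη'
  have hη'e : ∀ y, e (η' y) = η (e y) := fun y => by simp [hη', MulAut.congr]
  have hconj : ∀ (x : L) (y : M.subgroupOf L),
      e (MulAut.conjNormal x y) = conjAut M (hLM x.2) (e y) := fun x y => Subtype.ext rfl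
  obtain ⟨N, hN, hNc, hQc⟩ := hm
  haveI := hN
  let ι : L →* P := Subgroup.inclusion inf_le_right
  have hι : Function.Injective ι := Subgroup.inclusion_injective _
  set A := N.comap ι with hA
  haveI : A.Normal := hN.comap _
  have hAc : IsCyclic A := by
    haveI := hNc
    exact isCyclic_of_injective (MonoidHom.mk' (fun a : A => (⟨ι a, a.2⟩ : N))
      fun a b => Subtype.ext (map_mul ι _ _))
      fun a b hab => Subtype.ext (hι (congrArg Subtype.val hab))
  have hLA : IsCyclic (L ⧸ A) := by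
    haveI := hQc
    refine isCyclic_of_injective (QuotientGroup.map A N ι le_rfl) ?_
    rw [← MonoidHom.ker_eq_bot_iff, eq_bot_iff]
    intro z hz
    obtain ⟨z, rfl⟩ := QuotientGroup.mk'_surjective A z
    rw [MonoidHom.mem_ker, QuotientGroup.mk'_apply, QuotientGroup.map_mk,
      QuotientGroup.eq_one_iff] at hz
    rw [Subgroup.mem_bot]
    exact (QuotientGroup.eq_one_iff _).2 hz
  have hh1 := (mem_autGroup_iff hMS ((h : F.autGroup M) : MulAut M)).1 h.2
  obtain ⟨f, hf, hag⟩ :=
    (isReceptive_iff.1 (isReceptive_of_isFullyNormalized hS hF hfn)).2 M _ hh1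
  have ha := isFullyAutomized_of_isFullyNormalized hS hF hfn
  have hrec : ∀ x : L, (∀ y : M.subgroupOf L,
      y⁻¹ * MulAut.conjNormal x y ∈ frattini (M.subgroupOf L)) →
      ∃ x' : L, ∀ y, η' (MulAut.conjNormal x' y) = MulAut.conjNormal x (η' y) := by
    intro x hx
    let t : F.autGroup M := ⟨conjAut M (hLM x.2),
      autInducedBy_le_autGroup hMS (conjAut_mem_autInducedBy _ (hLS x.2))⟩
    have ht : t ∈ π.ker := by
      rw [MonoidHom.mem_ker]
      refine MulEquiv.ext fun z => ?_
      obtain ⟨m, rfl⟩ := QuotientGroup.mk'_surjective (frattini M) z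
      obtain ⟨y, rfl⟩ := e.surjective m
      rw [MulAut.one_apply]
      show (QuotientGroup.mk (conjAut M (hLM x.2) (e y)) : M ⧸ frattini M) = QuotientGroup.mk (e y)
      rw [eq_comm, QuotientGroup.eq, ← hconj, ← map_inv, ← map_mul, heΦ]
      exact hx y
    have hT : ((h * t * h⁻¹ : F.autGroup M) : MulAut M) ∈ autInducedBy S M :=
      pgroup_le_autInducedBy hS ha hker ((π.normal_ker).conj_mem t ht h)
    obtain ⟨c, hc, hcv⟩ := (mem_autInducedBy_iff S M _).1 hT
    have hxN : (x : Ω) ∈ nPhi S M (autFun ((h : F.autGroup M) : MulAut M)) := by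
      refine ⟨hLS x.2, hLM x.2, c, hc, fun z hz => ?_⟩
      have h1 := hcv ((h : MulAut M) ⟨z, hz⟩)
      rw [Subgroup.coe_mul, Subgroup.coe_mul, Subgroup.coe_inv, MulAut.mul_apply, MulAut.mul_apply,
        MulAut.inv_apply_self] at h1
      rw [autFun_apply _ hz, autFun_apply _ (conj_mem_of_mem_normalizer (hLM x.2) hz), ← h1]
      rfl
    have hMN : M ≤ nPhi S M (autFun ((h : F.autGroup M) : MulAut M)) := le_nPhi hh1.isMap
    have hfx : f x ∈ L := by
      refine ⟨⟨hf.mem hxN, mem_normalizer_of_conj_mem hMS fun y hy => ?_⟩,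
        isMap_mem_of_stronglyClosed hP hf hxN x.2.2⟩
      obtain ⟨y', hy', rfl⟩ := hh1.surj hy
      rw [← hag y' hy', ← hf.map_conj hxN (hMN hy'),
        hag _ (conj_mem_of_mem_normalizer (hLM x.2) hy')]
      exact autFun_mem _ (conj_mem_of_mem_normalizer (hLM x.2) hy')
    refine ⟨⟨f x, hfx⟩, fun y => e.injective ?_⟩
    rw [hη'e, hconj, hconj, hη'e]
    refine ((h : F.autGroup M) : MulAut M).injective ?_
    rw [hη, MulAut.apply_inv_self]
    obtain ⟨z, hz⟩ : ∃ z : M, z = η (e y) := ⟨_, rfl⟩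
    rw [← hη, ← hz, show e y = ((h : F.autGroup M) : MulAut M) z by
      rw [hz, hη, MulAut.apply_inv_self]]
    refine Subtype.ext ?_
    rw [conjAut_apply, ← autFun_coe _ z, ← autFun_coe _ (conjAut M (hLM x.2) z), conjAut_apply,
      ← hag _ z.2, ← hag _ (conj_mem_of_mem_normalizer (hLM x.2) z.2),
      hf.map_conj hxN (hMN z.2)]
  have hgL : g ∈ L := ⟨⟨hP.1 hgP, hg⟩, hgP⟩
  have hgne : ¬ ∀ y : M.subgroupOf L,
      y⁻¹ * MulAut.conjNormal (⟨g, hgL⟩ : L) y ∈ frattini (M.subgroupOf L) := by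
    intro hall
    have hπg : π ⟨_, hgA⟩ = 1 := by
      refine MulEquiv.ext fun z => ?_
      obtain ⟨m, rfl⟩ := QuotientGroup.mk'_surjective (frattini M) z
      obtain ⟨y, rfl⟩ := e.surjective m
      rw [MulAut.one_apply]
      show (QuotientGroup.mk (conjAut M hg (e y)) : M ⧸ frattini M) = QuotientGroup.mk (e y)
      rw [eq_comm, QuotientGroup.eq,
        show conjAut M hg (e y) = e (MulAut.conjNormal (⟨g, hgL⟩ : L) y) from Subtype.ext rfl,
        ← map_inv, ← map_mul, heΦ]
      exact hall y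
    exact hna' (CfsgLib.Fitting.le_pCore inferInstance hker (MonoidHom.mem_ker.2 hπg))
  have hself : Subgroup.centralizer (M.subgroupOf L : Set L) ≤ M.subgroupOf L := by
    intro x hx
    refine hC ⟨x.2.2, Subgroup.mem_centralizer_iff.2 fun y hy => ?_⟩
    exact congrArg Subtype.val (Subgroup.mem_centralizer_iff.1 hx ⟨y, hML hy⟩ hy)
  have hV' : Nat.card (M.subgroupOf L ⧸ frattini (M.subgroupOf L)) ≤ 4 := by
    refine le_trans (le_of_eq ?_) hle4
    refine Nat.card_congr (QuotientGroup.congr _ _ e ?_).toEquiv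
    ext z
    obtain ⟨y, rfl⟩ := e.surjective z
    rw [Subgroup.mem_map]
    constructor
    · rintro ⟨y', hy', he⟩
      rw [← show e y' = e y from he, heΦ]
      exact hy'
    · exact fun hz => ⟨y, (heΦ y).1 hz, rfl⟩
  obtain ⟨n, t, hMA, htM, htA, hn4, htn, ht2, hMc⟩ :=
    small_of_three_cycle (hS.to_le hLS) (M.subgroupOf L) A hAc hLA hself hV' η'
      (fun y hy => by
        rw [← heΦ, map_mul, map_inv, hη'e] at hy
        exact (heΦ y).1 (hfpf _ hy))
      hrec hgne
  have hnMA : n ∈ M.subgroupOf L ⊓ A := hMA ▸ Subgroup.mem_zpowers n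
  have hmemM : ∀ x : P, x ∈ Subgroup.closure ({ι n, ι t} : Set P) → (x : Ω) ∈ M := by
    intro x hx
    have hle : Subgroup.closure ({ι n, ι t} : Set P) ≤ M.subgroupOf P := by
      refine (Subgroup.closure_le _).2 ?_
      rintro z (rfl | rfl)
      · exact hnMA.1
      · exact htM
    exact hle hx
  have := finite_of_le hP.1
  refine dihedral_quaternion_quasiDihedral_of_small (hS.to_le hP.1) N hNc hQc (n := ι n) (t := ι t)
    hnMA.2 htA (by rw [← map_pow, hn4, map_one])
    (by rw [← map_inv, ← map_mul, ← map_mul, htn, map_inv])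
    (ht2.imp (fun h => by rw [← map_mul, h, map_one]) fun h => by rw [← map_mul, h, map_pow]) ?_ ?_
  · intro x hxN hx
    have hxM := hmemM x hx
    have h1 : (⟨(x : Ω), hML hxM⟩ : L) ∈ M.subgroupOf L ⊓ A := ⟨hxM, hxN⟩
    rw [hMA] at h1
    obtain ⟨i, hi⟩ := Subgroup.mem_zpowers_iff.1 h1
    exact ⟨i, by show ι n ^ i = x; rw [← map_zpow, hi]; rfl⟩
  · intro x hxn hxt
    have hxM : (x : Ω) ∈ M := by
      refine hC ⟨x.2, Subgroup.mem_centralizer_iff.2 fun y hy => ?_⟩
      have h1 : Subgroup.closure ({n, t} : Set L) ≤ (Subgroup.centralizer {x}).comap ι := by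
        refine (Subgroup.closure_le _).2 ?_
        rintro z (rfl | rfl) <;>
          refine Subgroup.mem_centralizer_iff.2 fun u hu => ?_ <;>
          rw [Set.mem_singleton_iff.1 hu]
        · exact hxn
        · exact hxt
      exact (congrArg Subtype.val (Subgroup.mem_centralizer_iff.1
        (h1 (hMc (show (⟨y, hML hy⟩ : L) ∈ M.subgroupOf L from hy))) x rfl)).symm
    have h2 : Subgroup.closure ({n, t} : Set L) ≤
        (Subgroup.closure ({ι n, ι t} : Set P)).comap ι := by
      refine (Subgroup.closure_le _).2 ?_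
      rintro z (rfl | rfl)
      · exact Subgroup.subset_closure (Or.inl rfl)
      · exact Subgroup.subset_closure (Or.inr rfl)
    exact h2 (hMc (show (⟨(x : Ω), hML hxM⟩ : L) ∈ M.subgroupOf L from hxM))

/-- A strongly closed metacyclic 2-subgroup other than dihedral, quaternion, quasi-dihedral is
normal. -/
theorem isNormal_of_metacyclic_two (hS : IsPGroup 2 S) (hF : F.IsSaturated 2) {P : Subgroup Ω}
    (hP : F.StronglyClosed P) (hm : Cfsg.IsMetacyclic P)
    (hd : ¬ ∃ m : ℕ, Nonempty (P ≃* DihedralGroup m))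
    (hq : ¬ ∃ m : ℕ, Nonempty (P ≃* QuaternionGroup m)) (hsd : ¬ Cfsg.IsQuasiDihedral P) :
    F.IsNormal P :=
  haveI : Fact (Nat.Prime 2) := ⟨Nat.prime_two⟩
  isNormal_of_autInCore_selfCentralizing hS hF hP fun _ hMP hfn hC => by
    by_contra hnot
    rcases small_of_not_autInCore hS hF hP hm hMP hfn hC hnot with h | h | h
    · exact hd h
    · exact hq h
    · exact hsd h

end CfsgLib.Fusion
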