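import Cfsg.Agent.Lib.Fusion.Axioms

/-!
The fusion system of a finite group on a Sylow subgroup: fully normalized and fully centralized
subgroups, saturation.
-/

set_option autoImplicit false

namespace CfsgLib.Fusion

open Cfsg Cfsg.FusionSystem

variable {G : Type*} [Group G]

/-- Maps of the fusion system of a group. -/
theorem isMap_group_iff {S P : Subgroup G} {f : G → G} :
    IsMap (groupFusionSystem S) P f ↔
      P ≤ S ∧ (∀ x ∈ P, f x ∈ S) ∧ ∃ g : G, ∀ x ∈ P, f x = g * x * g⁻¹ := by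
  constructor
  · rintro ⟨φ, ⟨hP, hφS, g, hg⟩, hv⟩
    exact ⟨hP, fun x hx => hv ⟨x, hx⟩ ▸ hφS _, g, fun x hx => by rw [← hv ⟨x, hx⟩, hg]⟩
  · rintro ⟨hP, hS, g, hg⟩
    refine ⟨(MulAut.conj g).toMonoidHom.comp P.subtype, ⟨hP, fun x => ?_, g, fun x => rfl⟩,
      fun x => (hg x x.2).symm⟩
    show g * (x : G) * g⁻¹ ∈ S
    rw [← hg x x.2]
    exact hS x x.2

theorem isMap_group_of_conj {S P : Subgroup G} (g : G) (hP : P ≤ S)
    (h : ∀ x ∈ P, g * x * g⁻¹ ∈ S) : IsMap (groupFusionSystem S) P (fun x => g * x * g⁻¹) :=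
  isMap_group_iff.2 ⟨hP, h, g, fun _ _ => rfl⟩

theorem isConj_group_iff {S P Q : Subgroup G} :
    (groupFusionSystem S).IsConj P Q ↔
      P ≤ S ∧ Q ≤ S ∧ ∃ g : G, P.map (MulAut.conj g).toMonoidHom = Q := by
  rw [isConj_iff]
  constructor
  · rintro ⟨f, hf⟩
    obtain ⟨-, -, g, hg⟩ := isMap_group_iff.1 hf.isMap
    refine ⟨hf.le_left, hf.le_right, g, SetLike.coe_injective ?_⟩
    rw [← hf.image_eq, Subgroup.coe_map]
    exact Set.image_congr fun x hx => (hg x hx).symm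
  · rintro ⟨hP, hQ, g, rfl⟩
    exact ⟨fun x => g * x * g⁻¹,
      isMap_group_of_conj g hP fun x hx => hQ ⟨x, hx, rfl⟩, rfl⟩

theorem isPGroup_of_le {p : ℕ} {H K : Subgroup G} (hK : IsPGroup p K) (h : H ≤ K) :
    IsPGroup p H :=
  hK.to_le h

/-- A Sylow subgroup of `N` given as a `p`-subgroup of maximal order. -/
theorem exists_sylow_eq_iff [Finite G] {p : ℕ} [Fact p.Prime] {H N : Subgroup G}
    (hH : IsPGroup p H) (hHN : H ≤ N) :
    (∃ R : Sylow p N, (R : Subgroup N) = H.subgroupOf N) ↔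
      ∀ T : Subgroup G, T ≤ N → IsPGroup p T → Nat.card T ≤ Nat.card H := by
  constructor
  · rintro ⟨R, hR⟩ T hT hTp
    obtain ⟨R', hR'⟩ := (hTp.of_equiv (Subgroup.subgroupOfEquivOfLe hT).symm).exists_le_sylow
    calc Nat.card T = Nat.card (T.subgroupOf N) :=
          (Nat.card_congr (Subgroup.subgroupOfEquivOfLe hT).toEquiv).symm
      _ ≤ Nat.card R' := Subgroup.card_le_of_le hR'
      _ = Nat.card R := by rw [R'.card_eq_multiplicity, R.card_eq_multiplicity]
      _ = Nat.card H := by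
        show Nat.card (R : Subgroup N) = _
        rw [hR]; exact Nat.card_congr (Subgroup.subgroupOfEquivOfLe hHN).toEquiv
  · intro h
    obtain ⟨R, hR⟩ := (hH.of_equiv (Subgroup.subgroupOfEquivOfLe hHN).symm).exists_le_sylow
    refine ⟨R, (Subgroup.eq_of_le_of_card_ge hR ?_).symm⟩
    rw [Nat.card_congr (Subgroup.subgroupOfEquivOfLe hHN).toEquiv,
      ← Subgroup.card_map_of_injective N.subtype_injective]
    exact h _ (Subgroup.map_subtype_le _) (R.isPGroup'.map _)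

theorem mem_map_conj {H : Subgroup G} {g y : G} :
    y ∈ H.map (MulAut.conj g).toMonoidHom ↔ g⁻¹ * y * g ∈ H := by
  constructor
  · rintro ⟨x, hx, rfl⟩
    simpa [mul_assoc] using hx
  · intro h
    exact ⟨_, h, by simp [mul_assoc]⟩

theorem card_map_conj (H : Subgroup G) (g : G) :
    Nat.card (H.map (MulAut.conj g).toMonoidHom) = Nat.card H :=
  Subgroup.card_map_of_injective (MulAut.conj g).injective

/-- Every `p`-subgroup is conjugate into a given Sylow subgroup. -/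
theorem exists_conj_le_sylow [Finite G] {p : ℕ} [Fact p.Prime] (S : Sylow p G) {T : Subgroup G}
    (hT : IsPGroup p T) : ∃ g : G, T.map (MulAut.conj g).toMonoidHom ≤ S := by
  obtain ⟨R, hR⟩ := hT.exists_le_sylow
  obtain ⟨g, rfl⟩ := MulAction.exists_smul_eq G R S
  refine ⟨g, ?_⟩
  rintro _ ⟨x, hx, rfl⟩
  exact ⟨x, hR hx, rfl⟩

theorem map_conj_mem_normalizer {P : Subgroup G} {g x : G}
    (hx : x ∈ Subgroup.normalizer (P : Set G)) :
    g * x * g⁻¹ ∈ Subgroup.normalizer ((P.map (MulAut.conj g).toMonoidHom : Subgroup G) : Set G) := by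
  rw [Subgroup.mem_normalizer_iff]
  intro y
  rw [mem_map_conj, mem_map_conj, Subgroup.mem_normalizer_iff.1 hx,
    show g⁻¹ * (g * x * g⁻¹ * y * (g * x * g⁻¹)⁻¹) * g = x * (g⁻¹ * y * g) * x⁻¹ by group]

theorem map_conj_mem_centralizer {P : Subgroup G} {g x : G}
    (hx : x ∈ Subgroup.centralizer (P : Set G)) :
    g * x * g⁻¹ ∈ Subgroup.centralizer ((P.map (MulAut.conj g).toMonoidHom : Subgroup G) : Set G) := by
  rw [Subgroup.mem_centralizer_iff]
  rintro _ ⟨y, hy, rfl⟩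
  simp [mul_assoc, Subgroup.mem_centralizer_iff.1 hx y hy]
  rw [← mul_assoc y, Subgroup.mem_centralizer_iff.1 hx y hy, mul_assoc]

variable [Finite G] {p : ℕ} [Fact p.Prime] (S : Sylow p G) {P : Subgroup G}

theorem isFullyNormalized_group_iff (hP : P ≤ S) :
    (groupFusionSystem (S : Subgroup G)).IsFullyNormalized P ↔
      ∀ T : Subgroup G, T ≤ Subgroup.normalizer (P : Set G) → IsPGroup p T →
        Nat.card T ≤ Nat.card (normalizerIn (S : Subgroup G) P) := by
  constructor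
  · intro h T hTN hT
    have hT' : IsPGroup p (T ⊔ P : Subgroup G) :=
      hT.to_sup_of_normal_right' (S.isPGroup'.to_le hP) hTN
    obtain ⟨g, hg⟩ := exists_conj_le_sylow S hT'
    have hPS : P.map (MulAut.conj g).toMonoidHom ≤ S :=
      (Subgroup.map_mono le_sup_right).trans hg
    have hTS : T.map (MulAut.conj g).toMonoidHom
        ≤ normalizerIn (S : Subgroup G) (P.map (MulAut.conj g).toMonoidHom) := by
      refine le_inf ((Subgroup.map_mono le_sup_left).trans hg) ?_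
      rintro _ ⟨x, hx, rfl⟩
      exact map_conj_mem_normalizer (hTN hx)
    rw [← card_map_conj T g]
    exact (Subgroup.card_le_of_le hTS).trans (h.2 _ (isConj_group_iff.2 ⟨hP, hPS, g, rfl⟩))
  · intro h
    refine ⟨hP, fun Q hQ => ?_⟩
    obtain ⟨-, -, g, rfl⟩ := isConj_group_iff.1 hQ
    rw [← card_map_conj (normalizerIn _ _) g⁻¹]
    refine h _ ?_ ((S.isPGroup'.to_le inf_le_left).map _)
    rintro _ ⟨x, hx, rfl⟩
    have := map_conj_mem_normalizer (g := g⁻¹) hx.2
    rw [Subgroup.map_map, show ((MulAut.conj g⁻¹).toMonoidHom.comp (MulAut.conj g).toMonoidHom)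
        = MonoidHom.id G by ext; simp [mul_assoc], Subgroup.map_id] at this
    exact this

theorem isFullyCentralized_group_iff (hP : P ≤ S) :
    (groupFusionSystem (S : Subgroup G)).IsFullyCentralized P ↔
      ∀ T : Subgroup G, T ≤ Subgroup.centralizer (P : Set G) → IsPGroup p T →
        Nat.card T ≤ Nat.card (centralizerIn (S : Subgroup G) P) := by
  constructor
  · intro h T hTN hT
    have hT' : IsPGroup p (T ⊔ P : Subgroup G) :=
      hT.to_sup_of_normal_right' (S.isPGroup'.to_le hP)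
        (hTN.trans (Subgroup.centralizer_le_normalizer _))
    obtain ⟨g, hg⟩ := exists_conj_le_sylow S hT'
    have hPS : P.map (MulAut.conj g).toMonoidHom ≤ S :=
      (Subgroup.map_mono le_sup_right).trans hg
    have hTS : T.map (MulAut.conj g).toMonoidHom
        ≤ centralizerIn (S : Subgroup G) (P.map (MulAut.conj g).toMonoidHom) := by
      refine le_inf ((Subgroup.map_mono le_sup_left).trans hg) ?_
      rintro _ ⟨x, hx, rfl⟩
      exact map_conj_mem_centralizer (hTN hx)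
    rw [← card_map_conj T g]
    exact (Subgroup.card_le_of_le hTS).trans (h.2 _ (isConj_group_iff.2 ⟨hP, hPS, g, rfl⟩))
  · intro h
    refine ⟨hP, fun Q hQ => ?_⟩
    obtain ⟨-, -, g, rfl⟩ := isConj_group_iff.1 hQ
    rw [← card_map_conj (centralizerIn _ _) g⁻¹]
    refine h _ ?_ ((S.isPGroup'.to_le inf_le_left).map _)
    rintro _ ⟨x, hx, rfl⟩
    have := map_conj_mem_centralizer (g := g⁻¹) hx.2
    rw [Subgroup.map_map, show ((MulAut.conj g⁻¹).toMonoidHom.comp (MulAut.conj g).toMonoidHom)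
        = MonoidHom.id G by ext; simp [mul_assoc], Subgroup.map_id] at this
    exact this

omit [Finite G] in
theorem autGroup_groupFusionSystem (hP : P ≤ S) :
    (groupFusionSystem (S : Subgroup G)).autGroup P = autInducedBy ⊤ P := by
  ext α
  rw [mem_autGroup_iff hP, mem_autInducedBy_iff]
  constructor
  · intro h
    obtain ⟨-, -, g, hg⟩ := isMap_group_iff.1 h.isMap
    exact ⟨g, Subgroup.mem_top g, fun x => by rw [← autFun_coe α]; exact hg x x.2⟩
  · rintro ⟨g, -, hg⟩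
    refine ⟨isMap_group_iff.2 ⟨hP, fun x hx => hP (autFun_mem α hx), g, fun x hx => ?_⟩, ?_⟩
    · rw [autFun_apply α hx]; exact hg ⟨x, hx⟩
    · ext y
      constructor
      · rintro ⟨x, hx, rfl⟩
        exact autFun_mem α hx
      · intro hy
        exact ⟨α.symm ⟨y, hy⟩, SetLike.coe_mem _, by simp⟩

theorem autInducedBy_eq_map (K P : Subgroup G) :
    autInducedBy K P =
      (K.subgroupOf (Subgroup.normalizer (P : Set G))).map P.normalizerMonoidHom := by
  ext α
  rw [mem_autInducedBy_iff]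
  constructor
  · rintro ⟨g, hg, hv⟩
    have hgn : g ∈ Subgroup.normalizer (P : Set G) :=
      Subgroup.mem_normalizer_fintype fun x hx => hv ⟨x, hx⟩ ▸ SetLike.coe_mem _
    exact ⟨⟨g, hgn⟩, hg, MulEquiv.ext fun x => Subtype.ext (hv x).symm⟩
  · rintro ⟨g, hg, rfl⟩
    exact ⟨g, hg, fun _ => rfl⟩

theorem isFullyAutomized_group (hP : P ≤ S)
    (hn : (groupFusionSystem (S : Subgroup G)).IsFullyNormalized P) :
    (groupFusionSystem (S : Subgroup G)).IsFullyAutomized p P := by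
  set N := Subgroup.normalizer (P : Set G)
  obtain ⟨T, hT⟩ := (exists_sylow_eq_iff (N := N) (S.isPGroup'.to_le inf_le_left)
    inf_le_right).2 ((isFullyNormalized_group_iff S hP).1 hn)
  refine ⟨hP, ?_⟩
  rw [autGroup_groupFusionSystem S hP, autInducedBy_eq_map ⊤ P, autInducedBy_eq_map _ P,
    Subgroup.top_subgroupOf, ← MonoidHom.range_eq_map]
  have hs := P.normalizerMonoidHom.rangeRestrict_surjective
  refine ⟨T.mapSurjective hs, ?_⟩
  rw [Sylow.coe_mapSurjective, hT]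
  ext α
  constructor
  · rintro ⟨g, hg, rfl⟩
    exact ⟨g, (Subgroup.mem_subgroupOf.1 hg).1, rfl⟩
  · rintro ⟨g, hg, hgα⟩
    exact ⟨g, Subgroup.mem_subgroupOf.2 ⟨hg, g.2⟩, Subtype.ext hgα⟩

/-- The key extension property: a fully centralized subgroup is receptive. -/
theorem isReceptive_group (hP : P ≤ S)
    (hc : (groupFusionSystem (S : Subgroup G)).IsFullyCentralized P) :
    (groupFusionSystem (S : Subgroup G)).IsReceptive P := by
  refine isReceptive_iff.2 ⟨hP, fun R f hf => ?_⟩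
  obtain ⟨-, -, g, hg⟩ := isMap_group_iff.1 hf.isMap
  set N := nPhi (S : Subgroup G) R f
  set C := Subgroup.centralizer (P : Set G)
  set NS := normalizerIn (S : Subgroup G) P
  have hNSn : NS ≤ Subgroup.normalizer (C : Set G) := by
    refine le_trans inf_le_right fun n hn => ?_
    refine Subgroup.mem_normalizer_fintype fun c hc' => mem_centralizer_of_conj_eq fun x hx => ?_
    have hx' := conj_mem_of_mem_normalizer (inv_mem hn) hx
    calc n * c * n⁻¹ * x * (n * c * n⁻¹)⁻¹ = n * (c * (n⁻¹ * x * n⁻¹⁻¹) * c⁻¹) * n⁻¹ := by group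
      _ = x := by rw [conj_eq_self_of_mem_centralizer hc' hx']; group
  -- `N` is carried into `C ⊔ NS`
  have hK : N.map (MulAut.conj g).toMonoidHom ≤ C ⊔ NS := by
    rintro _ ⟨a, ⟨haS, han, h, hh, hv⟩, rfl⟩
    show g * a * g⁻¹ ∈ C ⊔ NS
    have hR : ∀ x ∈ R, a * x * a⁻¹ ∈ R := fun x hx => conj_mem_of_mem_normalizer han hx
    have hhN : h ∈ NS := ⟨hh, Subgroup.mem_normalizer_fintype fun y hy => by
      obtain ⟨x, hx, rfl⟩ := hf.surj hy
      rw [← hv x hx]
      exact hf.mem (hR x hx)⟩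
    have hcen : g * a * g⁻¹ * h⁻¹ ∈ C := by
      refine mem_centralizer_of_conj_eq fun y hy => ?_
      obtain ⟨x, hx, hxy⟩ := hf.surj ((conj_mem_of_mem_normalizer (inv_mem hhN.2) hy))
      have e1 := hv x hx
      rw [hg _ (hR x hx)] at e1
      calc g * a * g⁻¹ * h⁻¹ * y * (g * a * g⁻¹ * h⁻¹)⁻¹
          = g * a * g⁻¹ * (h⁻¹ * y * h⁻¹⁻¹) * g * a⁻¹ * g⁻¹ := by group
        _ = g * (a * x * a⁻¹) * g⁻¹ := by
            rw [← hxy, hg x hx]; group
        _ = h * f x * h⁻¹ := e1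
        _ = y := by rw [hxy]; group
    rw [show g * a * g⁻¹ = g * a * g⁻¹ * h⁻¹ * h by group]
    exact Subgroup.mul_mem_sup hcen hhN
  have hKp : IsPGroup p (N.map (MulAut.conj g).toMonoidHom) :=
    (S.isPGroup'.to_le (nPhi_le_self R f)).map _
  -- a Sylow subgroup of `C ⊔ NS` containing `NS` is `NS`
  obtain ⟨T, hT⟩ := ((S.isPGroup'.to_le (inf_le_left : NS ≤ S)).of_equiv
    (Subgroup.subgroupOfEquivOfLe (le_sup_right : NS ≤ C ⊔ NS)).symm).exists_le_sylow
  have hTeq : ∀ t : ↥(C ⊔ NS), t ∈ T → (t : G) ∈ NS := by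
    intro t ht
    have htm : (t : G) ∈ ((C ⊔ NS : Subgroup G) : Set G) := t.2
    rw [Subgroup.coe_mul_of_right_le_normalizer_left _ _ hNSn] at htm
    obtain ⟨c, hc1, n, hn, hcn⟩ := htm
    set D : Subgroup G := (T : Subgroup _).map (C ⊔ NS).subtype ⊓ C
    have hDp : IsPGroup p D := (T.isPGroup'.map _).to_le inf_le_left
    have hCS : centralizerIn (S : Subgroup G) P ≤ D := fun x hx =>
      ⟨⟨⟨x, Subgroup.mem_sup_left hx.2⟩,
        hT (show (⟨x, _⟩ : ↥(C ⊔ NS)) ∈ NS.subgroupOf _ from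
          centralizerIn_le_normalizerIn _ _ hx), rfl⟩, hx.2⟩
    have hDeq : centralizerIn (S : Subgroup G) P = D := Subgroup.eq_of_le_of_card_ge hCS
      ((isFullyCentralized_group_iff S hP).1 hc D inf_le_right hDp)
    have hcD : c ∈ D := by
      refine ⟨⟨t * ⟨n, Subgroup.mem_sup_right hn⟩⁻¹,
        T.mul_mem ht (T.inv_mem (hT (show (⟨n, _⟩ : ↥(C ⊔ NS)) ∈ NS.subgroupOf _ from hn))), ?_⟩,
        hc1⟩
      show (t : G) * n⁻¹ = c
      rw [← hcn]
      simp
    rw [← hcn]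
    exact NS.mul_mem (centralizerIn_le_normalizerIn _ _ (hDeq ▸ hcD)) hn
  obtain ⟨T', hT'⟩ := (hKp.of_equiv (Subgroup.subgroupOfEquivOfLe hK).symm).exists_le_sylow
  obtain ⟨x, hx⟩ := MulAction.exists_smul_eq (↥(C ⊔ NS)) T' T
  have hxm : ((x⁻¹ : ↥(C ⊔ NS)) : G) ∈ ((C ⊔ NS : Subgroup G) : Set G) := (x⁻¹).2
  rw [Subgroup.coe_mul_of_right_le_normalizer_left _ _ hNSn] at hxm
  obtain ⟨c, hc1, n, hn, hcn⟩ := hxm
  have hcn' : (x : G) = n⁻¹ * c⁻¹ := by
    have hcn2 : c * n = ((x⁻¹ : ↥(C ⊔ NS)) : G) := hcn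
    rw [← mul_inv_rev, hcn2]; simp
  refine ⟨fun a => c⁻¹ * g * a * (c⁻¹ * g)⁻¹,
    isMap_group_of_conj _ (nPhi_le_self R f) fun a ha => ?_, fun a ha => ?_⟩
  · have hmem : (x * ⟨g * a * g⁻¹, hK ⟨a, ha, rfl⟩⟩ * x⁻¹ : ↥(C ⊔ NS)) ∈ (T : Subgroup _) := by
      rw [← hx, Sylow.coe_subgroup_smul, Subgroup.mem_pointwise_smul_iff_inv_smul_mem]
      have hmem' : (⟨g * a * g⁻¹, hK ⟨a, ha, rfl⟩⟩ : ↥(C ⊔ NS)) ∈
          (N.map (MulAut.conj g).toMonoidHom).subgroupOf (C ⊔ NS) := ⟨a, ha, rfl⟩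
      simpa [mul_assoc] using hT' hmem'
    have := hTeq _ hmem
    simp only [Subgroup.coe_mul, Subgroup.coe_inv, hcn'] at this
    have h2 := NS.mul_mem (NS.mul_mem hn this) (NS.inv_mem hn)
    have e : n * (n⁻¹ * c⁻¹ * (g * a * g⁻¹) * (n⁻¹ * c⁻¹)⁻¹) * n⁻¹
        = c⁻¹ * g * a * (c⁻¹ * g)⁻¹ := by group
    rw [e] at h2
    exact h2.1
  · show c⁻¹ * g * a * (c⁻¹ * g)⁻¹ = f a
    calc c⁻¹ * g * a * (c⁻¹ * g)⁻¹ = c⁻¹ * (g * a * g⁻¹) * c⁻¹⁻¹ := by group
      _ = f a := by rw [← hg a ha, conj_eq_self_of_mem_centralizer (inv_mem hc1) (hf.mem ha)]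

theorem isFullyCentralized_group_of_normalized (hP : P ≤ S)
    (hn : (groupFusionSystem (S : Subgroup G)).IsFullyNormalized P) :
    (groupFusionSystem (S : Subgroup G)).IsFullyCentralized P := by
  refine (isFullyCentralized_group_iff S hP).2 fun T hT hTp => ?_
  set N := Subgroup.normalizer (P : Set G)
  obtain ⟨R, hR⟩ := (exists_sylow_eq_iff (N := N) (S.isPGroup'.to_le inf_le_left)
    inf_le_right).2 ((isFullyNormalized_group_iff S hP).1 hn)
  have hTN : T ≤ N := hT.trans (Subgroup.centralizer_le_normalizer _)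
  obtain ⟨R', hR'⟩ := (hTp.of_equiv (Subgroup.subgroupOfEquivOfLe hTN).symm).exists_le_sylow
  obtain ⟨x, hx⟩ := MulAction.exists_smul_eq N R' R
  rw [← card_map_conj T (x : G)]
  refine Subgroup.card_le_of_le ?_
  rintro _ ⟨t, ht, rfl⟩
  have hm : x * ⟨t, hTN ht⟩ * x⁻¹ ∈ (R : Subgroup N) := by
    rw [← hx, Sylow.coe_subgroup_smul, Subgroup.mem_pointwise_smul_iff_inv_smul_mem]
    simpa [mul_assoc] using hR' (show (⟨t, _⟩ : N) ∈ T.subgroupOf N from ht)
  rw [hR] at hm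
  refine ⟨hm.1, mem_centralizer_of_conj_eq fun y hy => ?_⟩
  show (x : G) * t * (x : G)⁻¹ * y * ((x : G) * t * (x : G)⁻¹)⁻¹ = y
  have hy' := conj_mem_of_mem_normalizer (inv_mem x.2) hy
  calc (x : G) * t * (x : G)⁻¹ * y * ((x : G) * t * (x : G)⁻¹)⁻¹
      = (x : G) * (t * ((x : G)⁻¹ * y * (x : G)⁻¹⁻¹) * t⁻¹) * (x : G)⁻¹ := by group
    _ = y := by rw [conj_eq_self_of_mem_centralizer (hT ht) hy']; group

theorem isSaturated_group : (groupFusionSystem (S : Subgroup G)).IsSaturated p :=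
  isSaturated_of_axioms fun _ hP =>
    ⟨isFullyAutomized_group S hP.1 hP,
      isReceptive_group S hP.1 (isFullyCentralized_group_of_normalized S hP.1 hP)⟩

end CfsgLib.Fusion
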