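import Mathlib
import Cfsg.Agent.Lib.Fusion.Normal
import Cfsg.Agent.Lib.Fusion.Group
import Cfsg.Agent.Lib.Transfer.Basic

/-!
The hyperfocal subgroup: every map of a saturated system is a conjugation modulo it.
-/

set_option autoImplicit false

namespace CfsgLib.Fusion

open Cfsg Cfsg.FusionSystem
open scoped commutatorElement

variable {Ω : Type*} [Group Ω] {S : Subgroup Ω} {F : FusionSystem S} {p : ℕ}

theorem hyperfocal_le : F.hyperfocalSubgroup p ≤ S := by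
  refine (Subgroup.closure_le _).2 ?_
  rintro _ ⟨P, α, x, hP, -, rfl⟩
  exact S.mul_mem (S.inv_mem (hP x.2)) (hP (SetLike.coe_mem _))

theorem inv_mul_mem_hyperfocal {P : Subgroup Ω} (hP : P ≤ S) {α : F.autGroup P}
    (hα : α ∈ Cfsg.pResidual p (F.autGroup P)) (x : P) :
    (x : Ω)⁻¹ * ((α : MulAut P) x : P) ∈ F.hyperfocalSubgroup p :=
  Subgroup.subset_closure ⟨P, α, x, hP, hα, rfl⟩

theorem hyperfocal_le_focal : F.hyperfocalSubgroup p ≤ F.focalSubgroup := by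
  refine (Subgroup.closure_le _).2 ?_
  rintro _ ⟨P, α, x, hP, -, rfl⟩
  obtain ⟨φ, hφ, hv⟩ := ((mem_autGroup_iff hP (α : MulAut P)).1 α.2).isMap
  refine Subgroup.subset_closure ⟨P, φ, x, hφ, ?_⟩
  rw [hv, autFun_coe]

theorem le_normalizer_hyperfocal :
    S ≤ Subgroup.normalizer (F.hyperfocalSubgroup p : Set Ω) := by
  intro s hs
  have h1 : ∀ t ∈ S, (F.hyperfocalSubgroup p).map (MulAut.conj t).toMonoidHom ≤
      F.hyperfocalSubgroup p := by
    intro t ht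
    rw [Subgroup.map_le_iff_le_comap]
    refine (Subgroup.closure_le _).2 ?_
    rintro _ ⟨P, α, x, hP, hα, rfl⟩
    obtain ⟨P', hP'⟩ := (isMap_conj (F := F) hP ht).exists_iso
    have hmem : ∀ β : MulAut P, β ∈ F.autGroup P →
        MulAut.congr hP'.equiv β ∈ F.autGroup P' := fun β hβ => hP'.congr_mem_autGroup hβ
    let f : F.autGroup P →* F.autGroup P' :=
      ((MulAut.congr hP'.equiv).toMonoidHom.comp (F.autGroup P).subtype).codRestrict _
        fun β => hmem β β.2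
    have hfα := CfsgLib.Transfer.map_pResidual_le f ⟨α, hα, rfl⟩
    have := inv_mul_mem_hyperfocal hP'.le_right hfα (hP'.equiv x)
    rw [show (f α : MulAut P') = MulAut.congr hP'.equiv α from rfl, hP'.congr_apply,
      hP'.equiv_apply] at this
    show t * ((x : Ω)⁻¹ * ((α : MulAut P) x : P)) * t⁻¹ ∈ F.hyperfocalSubgroup p
    convert this using 1
    group
  refine Subgroup.mem_normalizer_iff.2 fun y => ⟨fun hy => h1 s hs ⟨y, hy, rfl⟩, fun hy => ?_⟩
  have := h1 s⁻¹ (S.inv_mem hs) ⟨_, hy, rfl⟩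
  simpa [mul_assoc] using this

theorem conj_mem_hyperfocal {s t : Ω} (hs : s ∈ S) (ht : t ∈ F.hyperfocalSubgroup p) :
    s * t * s⁻¹ ∈ F.hyperfocalSubgroup p :=
  (Subgroup.mem_normalizer_iff.1 (le_normalizer_hyperfocal hs) t).1 ht

/-- The maps that are conjugations by elements of `S` modulo the hyperfocal subgroup. -/
def innerModHyperfocal (F : FusionSystem S) (p : ℕ) : FusionSystem S where
  Hom P := {φ | φ ∈ F.Hom P ∧
    ∃ γ ∈ S, ∀ x : P, (γ * (x : Ω) * γ⁻¹)⁻¹ * φ x ∈ F.hyperfocalSubgroup p}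
  le_of_mem h := F.le_of_mem h.1
  injective_of_mem h := F.injective_of_mem h.1
  conj_mem := fun {P g} hP hg => ⟨F.conj_mem hP hg, g, hg, fun x => by
    show (g * (x : Ω) * g⁻¹)⁻¹ * (g * (x : Ω) * g⁻¹) ∈ _
    rw [inv_mul_cancel]; exact Subgroup.one_mem _⟩
  comp_mem := by
    rintro P Q φ ψ ⟨hφ, γ, hγ, h⟩ ⟨hψ, δ, hδ, k⟩ hh
    refine ⟨F.comp_mem hφ hψ hh, δ * γ, S.mul_mem hδ hγ, fun x => ?_⟩
    have h1 := conj_mem_hyperfocal hδ (h x)
    have h2 := Subgroup.mul_mem _ h1 (k ⟨φ x, hh x⟩)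
    show (δ * γ * (x : Ω) * (δ * γ)⁻¹)⁻¹ * ψ ⟨φ x, hh x⟩ ∈ _
    convert h2 using 1
    group
  inv_mem := by
    rintro P φ ⟨hφ, γ, hγ, h⟩
    obtain ⟨ψ, hψ, hv⟩ := F.inv_mem hφ
    refine ⟨ψ, ⟨hψ, γ⁻¹, S.inv_mem hγ, ?_⟩, hv⟩
    rintro ⟨_, x, rfl⟩
    have h1 := conj_mem_hyperfocal (S.inv_mem hγ) (Subgroup.inv_mem _ (h x))
    rw [hv]
    show (γ⁻¹ * φ x * γ⁻¹⁻¹)⁻¹ * (x : Ω) ∈ _
    convert h1 using 1
    group

variable [Finite S] [Fact p.Prime]

theorem exists_conj_mod_hyperfocal (hS : IsPGroup p S) (hF : F.IsSaturated p) {P : Subgroup Ω}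
    {f : Ω → Ω} (hf : IsMap F P f) :
    ∃ γ ∈ S, ∀ x ∈ P, (γ * x * γ⁻¹)⁻¹ * f x ∈ F.hyperfocalSubgroup p := by
  have hE : ∀ Q : Subgroup Ω, (Q = S ∨ F.IsEssential p Q) →
      F.autGroup Q ≤ (innerModHyperfocal F p).autGroup Q := by
    intro Q hQ
    have hQn : F.IsFullyNormalized Q := by
      rcases hQ with rfl | hess
      · refine ⟨le_rfl, fun R hR => ?_⟩
        obtain ⟨g, hg⟩ := isConj_iff.1 hR
        have hRQ : R = Q := Subgroup.eq_of_le_of_card_ge hg.le_right hg.card_eq.ge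
        rw [hRQ]
      · exact hess.2.1
    have := finite_of_le hQn.1
    have := finite_mulAut Q
    obtain ⟨T, hT⟩ := (isFullyAutomized_of_isFullyNormalized hS hF hQn).2
    haveI := CfsgLib.Transfer.pResidual_normal p (F.autGroup Q)
    intro α hα
    have htop : (⟨α, hα⟩ : F.autGroup Q) ∈
        (T : Subgroup (F.autGroup Q)) ⊔ Cfsg.pResidual p (F.autGroup Q) := by
      rw [CfsgLib.Transfer.sylow_sup_pResidual]; exact Subgroup.mem_top _
    obtain ⟨r, hr, β, hβ, hrβ⟩ := Subgroup.mem_sup_of_normal_right.1 htop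
    have hα' : α = (r : MulAut Q) * (β : MulAut Q) := congrArg Subtype.val hrβ.symm
    rw [hα']
    refine Subgroup.mul_mem _ ?_ ?_
    · rw [hT] at hr
      obtain ⟨g, hg, hgv⟩ := (mem_autInducedBy_iff S Q _).1 hr
      exact mem_autGroup_of_isMap (isMap_conj (F := innerModHyperfocal F p) hQn.1 hg) _ hgv
    · obtain ⟨φ, hφ, hv⟩ := ((mem_autGroup_iff hQn.1 (β : MulAut Q)).1 β.2).isMap
      refine mem_autGroup_of_isMap (F := innerModHyperfocal F p) (f := autFun (β : MulAut Q))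
        ⟨φ, ⟨hφ, 1, S.one_mem, fun x => ?_⟩, hv⟩ _ fun x => (autFun_coe _ x).symm
      have := inv_mul_mem_hyperfocal hQn.1 hβ x
      rw [hv, autFun_coe]
      simpa using this
  obtain ⟨φ, ⟨-, γ, hγ, h⟩, hv⟩ := le_of_autGroup_le hS hF hE P f hf
  exact ⟨γ, hγ, fun x hx => by have := h ⟨x, hx⟩; rwa [hv] at this⟩

theorem stronglyClosed_hyperfocal (hS : IsPGroup p S) (hF : F.IsSaturated p) :
    F.StronglyClosed (F.hyperfocalSubgroup p) := by
  refine ⟨hyperfocal_le, fun R hR φ hφ x => ?_⟩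
  obtain ⟨γ, hγ, h⟩ := exists_conj_mod_hyperfocal hS hF (isMap_homFun hφ)
  have h1 := h x x.2
  rw [homFun_coe] at h1
  have := Subgroup.mul_mem _ (conj_mem_hyperfocal hγ (hR x.2)) h1
  rwa [mul_inv_cancel_left] at this

theorem focal_eq_hyperfocal_sup (hS : IsPGroup p S) (hF : F.IsSaturated p) :
    F.focalSubgroup = F.hyperfocalSubgroup p ⊔ ⁅S, S⁆ := by
  refine le_antisymm ((Subgroup.closure_le _).2 ?_) (sup_le hyperfocal_le_focal ?_)
  · rintro _ ⟨P, φ, x, hφ, rfl⟩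
    obtain ⟨γ, hγ, h⟩ := exists_conj_mod_hyperfocal hS hF (isMap_homFun hφ)
    have h1 := h x x.2
    rw [homFun_coe] at h1
    have hxS : (x : Ω) ∈ S := (F.le_of_mem hφ).1 x.2
    have h2 := Subgroup.mem_sup_right (S := F.hyperfocalSubgroup p)
      (Subgroup.commutator_mem_commutator (S.inv_mem hxS) hγ)
    have h3 := Subgroup.mul_mem _ h2 (Subgroup.mem_sup_left (T := ⁅S, S⁆) h1)
    rw [SetLike.mem_coe]
    convert h3 using 1
    simp only [commutatorElement_def]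
    group
  · refine Subgroup.commutator_le.2 fun a ha b hb => Subgroup.subset_closure ?_
    refine ⟨S, conjHom S b, ⟨a⁻¹, S.inv_mem ha⟩, F.conj_mem le_rfl hb, ?_⟩
    show ⁅a, b⁆ = (a⁻¹)⁻¹ * (b * a⁻¹ * b⁻¹)
    rw [commutatorElement_def]
    group

end CfsgLib.Fusion
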