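import Mathlib
import Cfsg.Agent.Lib.Fusion.Hyperfocal
import Cfsg.Agent.Lib.SylowNumber.Basic

/-!
Puig's hyperfocal subgroup theorem.
-/

set_option autoImplicit false

namespace CfsgLib.Fusion

open Cfsg Cfsg.FusionSystem
open scoped commutatorElement

variable {G : Type*} [Group G] [Finite G] {p : ℕ} [Fact p.Prime] (S : Sylow p G)

omit [Finite G] in
theorem commutator_sup_le {S T L L' : Subgroup G} (hT : S ≤ Subgroup.normalizer (T : Set G))
    (hL' : S ≤ Subgroup.normalizer (L' : Set G)) (hTS : T ≤ S) (hLS : L ≤ S) (h : ⁅L, S⁆ ≤ L') :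
    ∀ y ∈ T ⊔ L, ∀ s ∈ S, ⁅y, s⁆ ∈ T ⊔ L' := by
  set Q := T ⊔ L'
  have hQ : ∀ y ∈ S, ∀ q ∈ Q, y * q * y⁻¹ ∈ Q := by
    intro y hy q hq
    have h1 : Q.map (MulAut.conj y).toMonoidHom ≤ Q := by
      rw [Subgroup.map_sup]
      refine sup_le ?_ ?_
      · rintro _ ⟨t, ht, rfl⟩
        exact Subgroup.mem_sup_left ((Subgroup.mem_normalizer_iff.1 (hT hy) t).1 ht)
      · rintro _ ⟨t, ht, rfl⟩
        exact Subgroup.mem_sup_right ((Subgroup.mem_normalizer_iff.1 (hL' hy) t).1 ht)
    exact h1 ⟨q, hq, rfl⟩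
  intro y hy
  suffices y ∈ S ∧ ∀ s ∈ S, ⁅y, s⁆ ∈ Q from this.2
  rw [← Subgroup.closure_eq T, ← Subgroup.closure_eq L, ← Subgroup.closure_union] at hy
  induction hy using Subgroup.closure_induction with
  | mem y hy =>
    rcases hy with hy | hy
    · refine ⟨hTS hy, fun s hs => Subgroup.mem_sup_left ?_⟩
      rw [commutatorElement_def, show y * s * y⁻¹ * s⁻¹ = y * (s * y⁻¹ * s⁻¹) by group]
      exact T.mul_mem hy ((Subgroup.mem_normalizer_iff.1 (hT hs) _).1 (T.inv_mem hy))
    · exact ⟨hLS hy, fun s hs => Subgroup.mem_sup_right (h (Subgroup.commutator_mem_commutator hy hs))⟩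
  | one => exact ⟨S.one_mem, fun s _ => by rw [commutatorElement_one_left]; exact Q.one_mem⟩
  | mul a b _ _ ha hb =>
    refine ⟨S.mul_mem ha.1 hb.1, fun s hs => ?_⟩
    have e : ⁅a * b, s⁆ = a * ⁅b, s⁆ * a⁻¹ * ⁅a, s⁆ := by
      simp only [commutatorElement_def]; group
    rw [e]
    exact Q.mul_mem (hQ a ha.1 _ (hb.2 s hs)) (ha.2 s hs)
  | inv a _ ha =>
    refine ⟨S.inv_mem ha.1, fun s hs => ?_⟩
    have e : ⁅a⁻¹, s⁆ = a⁻¹ * ⁅a, s⁆⁻¹ * a⁻¹⁻¹ := by
      simp only [commutatorElement_def]; group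
    rw [e]
    exact hQ _ (S.inv_mem ha.1) _ (Q.inv_mem (ha.2 s hs))

theorem hyperfocal_le_pResidual :
    (groupFusionSystem (S : Subgroup G)).hyperfocalSubgroup p ≤ Cfsg.pResidual p G := by
  refine (Subgroup.closure_le _).2 ?_
  rintro _ ⟨P, α, x, hP, hα, rfl⟩
  set N := Subgroup.normalizer (P : Set G)
  let Φ : N →* (groupFusionSystem (S : Subgroup G)).autGroup P :=
    P.normalizerMonoidHom.codRestrict _ fun n => by
      rw [autGroup_groupFusionSystem S hP]
      exact (mem_autInducedBy_iff ⊤ P _).2 ⟨n, Subgroup.mem_top _, fun x => rfl⟩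
  have hΦ : Function.Surjective Φ := by
    rintro ⟨β, hβ⟩
    rw [autGroup_groupFusionSystem S hP, mem_autInducedBy_iff] at hβ
    obtain ⟨u, -, hu⟩ := hβ
    exact ⟨⟨u, Subgroup.mem_normalizer_fintype fun x hx => hu ⟨x, hx⟩ ▸ SetLike.coe_mem _⟩,
      Subtype.ext (MulEquiv.ext fun x => Subtype.ext (hu x).symm)⟩
  rw [← CfsgLib.Transfer.map_pResidual Φ hΦ] at hα
  obtain ⟨n, hn, rfl⟩ := hα
  have hnG : (n : G) ∈ Cfsg.pResidual p G :=
    CfsgLib.Transfer.map_pResidual_subtype_le N ⟨n, hn, rfl⟩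
  haveI := CfsgLib.Transfer.pResidual_normal p G
  show (x : G)⁻¹ * ((n : G) * x * (n : G)⁻¹) ∈ Cfsg.pResidual p G
  have h1 := Subgroup.Normal.conj_mem inferInstance _ hnG ((x : G)⁻¹)
  rw [inv_inv] at h1
  have := Subgroup.mul_mem _ h1 (Subgroup.inv_mem _ hnG)
  convert this using 1
  group

theorem pResidual_inf_le_hyperfocal :
    (S : Subgroup G) ⊓ Cfsg.pResidual p G ≤
      (groupFusionSystem (S : Subgroup G)).hyperfocalSubgroup p := by
  haveI hNn := CfsgLib.Transfer.pResidual_normal p G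
  haveI : Group.IsNilpotent (S : Subgroup G) := S.isPGroup'.isNilpotent
  have hF := isSaturated_group S
  set T := (groupFusionSystem (S : Subgroup G)).hyperfocalSubgroup p
  set N := Cfsg.pResidual p G
  set R := CfsgLib.SylowNumber.infSylow N S
  have hres : ⊤ ≤ Cfsg.pResidual p N := by
    have h : N ≤ (Cfsg.pResidual p N).map N.subtype := by
      refine (Subgroup.closure_le _).2 fun g hg => ?_
      have hgN : g ∈ N := Subgroup.subset_closure hg
      refine ⟨⟨g, hgN⟩, CfsgLib.Transfer.mem_pResidual_of_coprime ?_, rfl⟩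
      rwa [← Subgroup.orderOf_coe]
    intro x _
    obtain ⟨y, hy, he⟩ := h x.2
    rwa [← Subtype.ext he]
  have hR : (R : Subgroup N) ≤ commutator N := by
    intro x hx
    have hle : ∀ z : N, Nat.Coprime (orderOf (Abelianization.of z)) p := by
      intro z
      have hz := hres (Subgroup.mem_top z)
      induction hz using Subgroup.closure_induction with
      | mem z hz => exact Nat.Coprime.coprime_dvd_left (orderOf_map_dvd Abelianization.of z) hz
      | one => rw [map_one, orderOf_one]; exact Nat.coprime_one_left p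
      | mul a b _ _ ha hb =>
        refine Nat.Coprime.coprime_dvd_left ?_ (ha.mul_left hb)
        rw [map_mul]
        exact (Commute.all (Abelianization.of a) (Abelianization.of b)).orderOf_mul_dvd_mul_orderOf
      | inv a _ ha => rwa [map_inv, orderOf_inv]
    have h1 : Abelianization.of x = 1 := by
      obtain ⟨k, hk⟩ := R.isPGroup' ⟨x, hx⟩
      have hk' : Abelianization.of x ^ p ^ k = 1 := by
        rw [← map_pow, show x ^ p ^ k = 1 from congrArg Subtype.val hk, map_one]
      exact orderOf_eq_one_iff.1 (Nat.eq_one_of_dvd_coprimes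
        (Nat.Coprime.pow_right k (hle x)) dvd_rfl (orderOf_dvd_of_pow_eq_one hk'))
    rwa [← MonoidHom.mem_ker, Abelianization.ker_of] at h1
  obtain ⟨n, hn⟩ := (Subgroup.isNilpotent_iff_lowerCentralSeries (S : Subgroup G)).1 inferInstance
  suffices key : ∀ k, (S : Subgroup G) ⊓ N ≤
      T ⊔ (S : Subgroup G).lowerCentralSeries k by
    have := key n
    rwa [hn, sup_bot_eq] at this
  intro k
  induction k with
  | zero => exact inf_le_left.trans le_sup_right
  | succ k ih =>
    set L := (S : Subgroup G).lowerCentralSeries k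
    set L' := (S : Subgroup G).lowerCentralSeries (k + 1)
    have hLS : L ≤ (S : Subgroup G) :=
      (S : Subgroup G).lowerCentralSeries_le_self k
    have hL'S : (S : Subgroup G) ≤ Subgroup.normalizer (L' : Set G) := by
      intro s hs
      refine Subgroup.mem_normalizer_fintype fun l hl => ?_
      have h1 : ⁅L', (S : Subgroup G)⁆ ≤ L' :=
        ((S : Subgroup G).lowerCentralSeries_succ (k + 1)).ge.trans
          ((S : Subgroup G).lowerCentralSeries_antitone (by omega))
      have h2 := h1 (Subgroup.commutator_mem_commutator hl hs)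
      rw [commutatorElement_def] at h2
      have e : s * l * s⁻¹ = (l * s * l⁻¹ * s⁻¹)⁻¹ * l := by group
      rw [SetLike.mem_coe, e]
      exact L'.mul_mem (L'.inv_mem h2) hl
    intro z hz
    have hzR : (⟨z, hz.2⟩ : N) ∈ commutator N ⊓ (R : Subgroup N) :=
      ⟨hR (show (⟨z, hz.2⟩ : N) ∈ (R : Subgroup N) from hz.1), hz.1⟩
    rw [Subgroup.commutator_inf_eq_focalSubgroup R, Subgroup.focalSubgroup_def] at hzR
    suffices ∀ y : N, y ∈ Subgroup.closure _ → (y : G) ∈ T ⊔ L' from this _ hzR
    intro y hy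
    induction hy using Subgroup.closure_induction with
    | mem y hy =>
      obtain ⟨hyR, x, hxR, u, rfl⟩ := hy
      have hxS : (x : G) ∈ (S : Subgroup G) := hxR
      have hu : (u : G) * (x : G)⁻¹ * (u : G)⁻¹ ∈ (S : Subgroup G) := by
        have h := (S : Subgroup G).mul_mem ((S : Subgroup G).inv_mem hxS)
          (show ((⁅x, u⁆ : N) : G) ∈ (S : Subgroup G) from hyR)
        convert h using 1
        simp only [commutatorElement_def, Subgroup.coe_mul, Subgroup.coe_inv]
        group
      obtain ⟨γ, hγ, hγx⟩ := exists_conj_mod_hyperfocal S.isPGroup' hF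
        (isMap_group_of_conj (S := (S : Subgroup G)) (P := Subgroup.zpowers (x : G)⁻¹) (u : G)
          (Subgroup.zpowers_le.2 ((S : Subgroup G).inv_mem hxS)) (by
            rintro _ ⟨i, rfl⟩
            show (u : G) * ((x : G)⁻¹) ^ i * (u : G)⁻¹ ∈ (S : Subgroup G)
            rw [← MulAut.conj_apply, map_zpow, MulAut.conj_apply]
            exact (S : Subgroup G).zpow_mem hu i))
      have h1 := hγx _ (Subgroup.mem_zpowers _)
      have h2 := commutator_sup_le (le_normalizer_hyperfocal) hL'S hyperfocal_le hLS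
        ((S : Subgroup G).lowerCentralSeries_succ k).ge _ (ih ⟨hxS, x.2⟩) γ hγ
      have h3 := Subgroup.mul_mem _ h2 (Subgroup.mem_sup_left (T := L') h1)
      convert h3 using 1
      simp only [commutatorElement_def, Subgroup.coe_mul, Subgroup.coe_inv]
      group
    | one => exact Subgroup.one_mem _
    | mul a b _ _ ha hb => exact Subgroup.mul_mem _ ha hb
    | inv a _ ha => exact Subgroup.inv_mem _ ha

end CfsgLib.Fusion
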