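import Cfsg.Agent.Lib.Fusion.Basic

set_option autoImplicit false

namespace CfsgLib.Fusion

open Cfsg Cfsg.FusionSystem

variable {Ω : Type*} [Group Ω] {S : Subgroup Ω}

/-- The image of a subgroup `A` of the source under a map, described elementwise. -/
theorem mem_map_subgroupOf {R A : Subgroup Ω} (hA : A ≤ R) (ψ : R →* Ω) (y : Ω) :
    y ∈ (A.subgroupOf R).map ψ ↔ ∃ a : A, ψ (Subgroup.inclusion hA a) = y := by
  constructor
  · rintro ⟨x, hx, rfl⟩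
    exact ⟨⟨x, Subgroup.mem_subgroupOf.mp hx⟩, rfl⟩
  · rintro ⟨a, rfl⟩
    exact ⟨Subgroup.inclusion hA a, Subgroup.mem_subgroupOf.mpr a.2, rfl⟩

theorem map_subgroupOf_sup {R A B : Subgroup Ω} (hA : A ≤ R) (hB : B ≤ R) (ψ : R →* Ω) :
    ((A ⊔ B).subgroupOf R).map ψ = (A.subgroupOf R).map ψ ⊔ (B.subgroupOf R).map ψ := by
  rw [Subgroup.subgroupOf_sup hA hB, Subgroup.map_sup]

theorem map_subgroupOf_restrict {R R' A : Subgroup Ω} (hA : A ≤ R') (hR : R' ≤ R) (ψ : R →* Ω) :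
    (A.subgroupOf R').map (ψ.comp (Subgroup.inclusion hR)) = (A.subgroupOf R).map ψ := by
  ext y
  rw [mem_map_subgroupOf hA, mem_map_subgroupOf (hA.trans hR)]
  exact Iff.rfl

theorem map_subgroupOf_congr {R R' A : Subgroup Ω} (hA : A ≤ R) (hA' : A ≤ R') (ψ : R →* Ω)
    (ψ' : R' →* Ω) (h : ∀ a : A, ψ (Subgroup.inclusion hA a) = ψ' (Subgroup.inclusion hA' a)) :
    (A.subgroupOf R).map ψ = (A.subgroupOf R').map ψ' := by
  ext y
  rw [mem_map_subgroupOf hA, mem_map_subgroupOf hA']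
  simp only [h]

theorem map_subgroupOf_self_eq_range {P : Subgroup Ω} (φ : P →* Ω) :
    (P.subgroupOf P).map φ = φ.range := by
  rw [Subgroup.subgroupOf_self, ← MonoidHom.range_eq_map]

theorem isNormal_bot (F : FusionSystem S) : F.IsNormal ⊥ := by
  refine ⟨bot_le, fun P φ hφ => ?_⟩
  refine ⟨φ.comp (Subgroup.inclusion (sup_le le_rfl bot_le)), restrict_mem F hφ _, fun x => rfl, ?_⟩
  rw [Subgroup.bot_subgroupOf, Subgroup.map_bot]

theorem isCentral_bot (F : FusionSystem S) : F.IsCentral ⊥ := by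
  refine ⟨bot_le, fun P φ hφ => ?_⟩
  refine ⟨φ.comp (Subgroup.inclusion (sup_le le_rfl bot_le)), restrict_mem F hφ _, fun x => rfl, ?_⟩
  intro x
  have hx : (x : Ω) = 1 := Subgroup.mem_bot.mp x.2
  have : Subgroup.inclusion (sup_le le_rfl bot_le : P ⊔ ⊥ ≤ P)
      (Subgroup.inclusion le_sup_right x) = 1 := Subtype.ext hx
  rw [MonoidHom.comp_apply, this, map_one, hx]

theorem isNormal_sup (F : FusionSystem S) {Q₁ Q₂ : Subgroup Ω} (h₁ : F.IsNormal Q₁)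
    (h₂ : F.IsNormal Q₂) : F.IsNormal (Q₁ ⊔ Q₂) := by
  refine ⟨sup_le h₁.1 h₂.1, fun P φ hφ => ?_⟩
  obtain ⟨ψ₁, hψ₁, hφ₁, hQ₁⟩ := h₁.2 P φ hφ
  obtain ⟨ψ, hψ, hag, hQ₂⟩ := h₂.2 (P ⊔ Q₁) ψ₁ hψ₁
  have hassoc : P ⊔ (Q₁ ⊔ Q₂) ≤ (P ⊔ Q₁) ⊔ Q₂ := (sup_assoc _ _ _).ge
  refine ⟨ψ.comp (Subgroup.inclusion hassoc), restrict_mem F hψ _, fun x => ?_, ?_⟩
  · rw [← hφ₁ x, ← hag]
    rfl
  · rw [map_subgroupOf_restrict le_sup_right hassoc,
      map_subgroupOf_sup (le_sup_right.trans le_sup_left) le_sup_right, hQ₂]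
    congr 1
    refine (map_subgroupOf_congr (le_sup_right.trans le_sup_left) le_sup_right ψ ψ₁
      (fun a => ?_)).trans hQ₁
    rw [← hag]
    rfl

theorem isCentral_sup (F : FusionSystem S) {Q₁ Q₂ : Subgroup Ω} (h₁ : F.IsCentral Q₁)
    (h₂ : F.IsCentral Q₂) : F.IsCentral (Q₁ ⊔ Q₂) := by
  refine ⟨sup_le h₁.1 h₂.1, fun P φ hφ => ?_⟩
  obtain ⟨ψ₁, hψ₁, hφ₁, hQ₁⟩ := h₁.2 P φ hφ
  obtain ⟨ψ, hψ, hag, hQ₂⟩ := h₂.2 (P ⊔ Q₁) ψ₁ hψ₁
  have hassoc : P ⊔ (Q₁ ⊔ Q₂) ≤ (P ⊔ Q₁) ⊔ Q₂ := (sup_assoc _ _ _).ge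
  refine ⟨ψ.comp (Subgroup.inclusion hassoc), restrict_mem F hψ _, fun x => ?_, ?_⟩
  · rw [← hφ₁ x, ← hag]
    rfl
  · intro x
    set K : Subgroup ↥(Q₁ ⊔ Q₂) := MonoidHom.eqLocus
      ((ψ.comp (Subgroup.inclusion hassoc)).comp (Subgroup.inclusion le_sup_right))
      (Q₁ ⊔ Q₂).subtype with hK
    have htop : (Q₁.subgroupOf (Q₁ ⊔ Q₂)) ⊔ (Q₂.subgroupOf (Q₁ ⊔ Q₂)) ≤ K := by
      refine sup_le (fun y hy => ?_) (fun y hy => ?_)
      · show ψ _ = (y : Ω)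
        refine Eq.trans ?_ (hQ₁ ⟨y, Subgroup.mem_subgroupOf.mp hy⟩)
        rw [← hag]
        rfl
      · exact hQ₂ ⟨y, Subgroup.mem_subgroupOf.mp hy⟩
    rw [← Subgroup.subgroupOf_sup le_sup_left le_sup_right, Subgroup.subgroupOf_self] at htop
    exact htop (Subgroup.mem_top x)

theorem finite_subgroups_le [Finite S] (s : Set (Subgroup Ω)) (h : ∀ Q ∈ s, Q ≤ S) : s.Finite := by
  refine Set.Finite.subset (s := Set.range fun K : Subgroup S => K.map S.subtype)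
    (Set.finite_range _) fun Q hQ => ⟨Q.subgroupOf S, ?_⟩
  show (Q.subgroupOf S).map S.subtype = Q
  rw [Subgroup.subgroupOf, Subgroup.map_comap_eq_self]
  rw [Subgroup.range_subtype]
  exact h Q hQ

theorem isNormal_core [Finite S] (F : FusionSystem S) : F.IsNormal F.core := by
  have hfin : {Q : Subgroup Ω | F.IsNormal Q}.Finite := finite_subgroups_le _ fun Q hQ => hQ.1
  refine Set.Finite.induction_on_subset (motive := fun s _ => F.IsNormal (sSup s)) _ hfin ?_ ?_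
  · rw [sSup_empty]; exact isNormal_bot F
  · intro a t ha _ _ ih
    rw [sSup_insert]; exact isNormal_sup F ha ih

theorem isCentral_center [Finite S] (F : FusionSystem S) : F.IsCentral F.center := by
  have hfin : {Q : Subgroup Ω | F.IsCentral Q}.Finite := finite_subgroups_le _ fun Q hQ => hQ.1
  refine Set.Finite.induction_on_subset (motive := fun s _ => F.IsCentral (sSup s)) _ hfin ?_ ?_
  · rw [sSup_empty]; exact isCentral_bot F
  · intro a t ha _ _ ih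
    rw [sSup_insert]; exact isCentral_sup F ha ih

theorem le_normalizer_of_map_eq {P Q : Subgroup Ω} (F : FusionSystem S) (hP : P ≤ normalizerIn S Q)
    (hQ : Q ≤ S) : P ⊔ Q ≤ S := sup_le (hP.trans inf_le_left) hQ

/-- The normalizer system of `Q`. -/
def normalizerSystem (F : FusionSystem S) (Q : Subgroup Ω) (hQ : Q ≤ S) :
    FusionSystem (normalizerIn S Q) where
  Hom P := F.normalizerHom Q P
  le_of_mem h := ⟨h.2.1, h.2.2.1⟩
  injective_of_mem h := F.injective_of_mem h.1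
  conj_mem := by
    intro P g hP hg
    have hgS : g ∈ S := hg.1
    refine ⟨F.conj_mem (hP.trans inf_le_left) hgS, hP, fun x => ?_, conjHom (P ⊔ Q) g,
      F.conj_mem (sup_le (hP.trans inf_le_left) hQ) hgS, fun x => rfl, ?_⟩
    · exact (normalizerIn S Q).mul_mem
        ((normalizerIn S Q).mul_mem hg (hP x.2)) ((normalizerIn S Q).inv_mem hg)
    · ext y
      rw [mem_map_subgroupOf le_sup_right]
      have hn := Subgroup.mem_normalizer_iff.mp hg.2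
      constructor
      · rintro ⟨a, rfl⟩
        exact (hn a).mp a.2
      · intro hy
        have hy' : g⁻¹ * y * g ∈ Q := (hn _).mpr (by simpa [mul_assoc] using hy)
        refine ⟨⟨_, hy'⟩, ?_⟩
        show g * (g⁻¹ * y * g) * g⁻¹ = y
        simp [mul_assoc]
  comp_mem := by
    rintro P R φ χ ⟨hφ, hPN, hφN, ψ₁, hψ₁, hag₁, hQ₁⟩ ⟨hχ, hRN, hχN, ψ₂, hψ₂, hag₂, hQ₂⟩ h
    have hsup : ∀ x : ↥(P ⊔ Q), ψ₁ x ∈ R ⊔ Q := by
      intro x
      have hx : ψ₁ x ∈ ((P ⊔ Q).subgroupOf (P ⊔ Q)).map ψ₁ :=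
        Subgroup.mem_map_of_mem _ (Subgroup.mem_subgroupOf.mpr x.2)
      rw [map_subgroupOf_sup le_sup_left le_sup_right, hQ₁] at hx
      refine (sup_le ?_ le_sup_right : _ ≤ R ⊔ Q) hx
      intro y hy
      obtain ⟨a, rfl⟩ := (mem_map_subgroupOf le_sup_left ψ₁ y).mp hy
      rw [hag₁]
      exact Subgroup.mem_sup_left (h a)
    refine ⟨F.comp_mem hφ hχ h, hPN, fun x => hχN _, ψ₂.comp (ψ₁.codRestrict (R ⊔ Q) hsup),
      F.comp_mem hψ₁ hψ₂ hsup, fun x => ?_, ?_⟩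
    · show ψ₂ _ = χ _
      rw [← hag₂]
      congr 1
      exact Subtype.ext (hag₁ x)
    · rw [← Subgroup.map_map]
      have himg : (Q.subgroupOf (P ⊔ Q)).map (ψ₁.codRestrict (R ⊔ Q) hsup) =
          Q.subgroupOf (R ⊔ Q) := by
        ext y
        constructor
        · rintro ⟨a, ha, rfl⟩
          show ψ₁ a ∈ Q
          exact le_of_eq hQ₁ (Subgroup.mem_map_of_mem _ ha)
        · intro hy
          have hy' : (y : Ω) ∈ Q := hy
          obtain ⟨a, ha, hay⟩ := hQ₁.ge hy'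
          exact ⟨a, ha, Subtype.ext hay⟩
      rw [himg, hQ₂]
  inv_mem := by
    rintro P φ ⟨hφ, hPN, hφN, ψ₁, hψ₁, hag₁, hQ₁⟩
    obtain ⟨χ, hχ, hχv⟩ := F.inv_mem hφ
    obtain ⟨ω, hω, hωv⟩ := F.inv_mem hψ₁
    have hle : φ.range ⊔ Q ≤ ψ₁.range := by
      refine sup_le ?_ ?_
      · rintro _ ⟨x, rfl⟩
        exact ⟨_, hag₁ x⟩
      · intro q hq
        rw [← hQ₁] at hq
        obtain ⟨a, -, rfl⟩ := hq
        exact ⟨a, rfl⟩
    have hrN : φ.range ≤ normalizerIn S Q := by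
      rintro _ ⟨x, rfl⟩
      exact hφN x
    refine ⟨χ, ⟨hχ, hrN, ?_, ω.comp (Subgroup.inclusion hle), restrict_mem F hω hle, ?_, ?_⟩, hχv⟩
    · rintro ⟨_, x, rfl⟩
      rw [hχv]
      exact hPN x.2
    · rintro ⟨_, x, rfl⟩
      rw [hχv]
      refine Eq.trans ?_ (hωv (Subgroup.inclusion le_sup_left x))
      show ω _ = ω _
      congr 1
      exact Subtype.ext (hag₁ x).symm
    · rw [map_subgroupOf_restrict le_sup_right hle]
      ext y
      rw [mem_map_subgroupOf (le_sup_right.trans hle)]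
      constructor
      · rintro ⟨⟨q, hq⟩, rfl⟩
        rw [← hQ₁] at hq
        obtain ⟨a, ha, rfl⟩ := hq
        have := hωv a
        exact this ▸ ha
      · intro hy
        refine ⟨⟨ψ₁ (Subgroup.inclusion le_sup_right ⟨y, hy⟩), ?_⟩, hωv _⟩
        exact le_of_eq hQ₁ (Subgroup.mem_map_of_mem _ hy)

/-- The centralizer system of `Q`. -/
def centralizerSystem (F : FusionSystem S) (Q : Subgroup Ω) (hQ : Q ≤ S) :
    FusionSystem (centralizerIn S Q) where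
  Hom P := F.centralizerHom Q P
  le_of_mem h := ⟨h.2.1, h.2.2.1⟩
  injective_of_mem h := F.injective_of_mem h.1
  conj_mem := by
    intro P g hP hg
    have hgS : g ∈ S := hg.1
    refine ⟨F.conj_mem (hP.trans inf_le_left) hgS, hP, fun x => ?_, conjHom (P ⊔ Q) g,
      F.conj_mem (sup_le (hP.trans inf_le_left) hQ) hgS, fun x => rfl, fun x => ?_⟩
    · exact (centralizerIn S Q).mul_mem
        ((centralizerIn S Q).mul_mem hg (hP x.2)) ((centralizerIn S Q).inv_mem hg)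
    · show g * (x : Ω) * g⁻¹ = x
      rw [← Subgroup.mem_centralizer_iff.mp hg.2 x x.2, mul_inv_cancel_right]
  comp_mem := by
    rintro P R φ χ ⟨hφ, hPN, hφN, ψ₁, hψ₁, hag₁, hQ₁⟩ ⟨hχ, hRN, hχN, ψ₂, hψ₂, hag₂, hQ₂⟩ h
    have hsup : ∀ x : ↥(P ⊔ Q), ψ₁ x ∈ R ⊔ Q := by
      intro x
      have hx : ψ₁ x ∈ ((P ⊔ Q).subgroupOf (P ⊔ Q)).map ψ₁ :=
        Subgroup.mem_map_of_mem _ (Subgroup.mem_subgroupOf.mpr x.2)
      rw [map_subgroupOf_sup le_sup_left le_sup_right] at hx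
      refine (sup_le ?_ ?_ : _ ≤ R ⊔ Q) hx
      · intro y hy
        obtain ⟨a, rfl⟩ := (mem_map_subgroupOf le_sup_left ψ₁ y).mp hy
        rw [hag₁]
        exact Subgroup.mem_sup_left (h a)
      · intro y hy
        obtain ⟨a, rfl⟩ := (mem_map_subgroupOf le_sup_right ψ₁ y).mp hy
        rw [hQ₁]
        exact Subgroup.mem_sup_right a.2
    refine ⟨F.comp_mem hφ hχ h, hPN, fun x => hχN _, ψ₂.comp (ψ₁.codRestrict (R ⊔ Q) hsup),
      F.comp_mem hψ₁ hψ₂ hsup, fun x => ?_, fun x => ?_⟩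
    · show ψ₂ _ = χ _
      rw [← hag₂]
      congr 1
      exact Subtype.ext (hag₁ x)
    · refine Eq.trans ?_ (hQ₂ x)
      show ψ₂ _ = ψ₂ _
      congr 1
      exact Subtype.ext (hQ₁ x)
  inv_mem := by
    rintro P φ ⟨hφ, hPN, hφN, ψ₁, hψ₁, hag₁, hQ₁⟩
    obtain ⟨χ, hχ, hχv⟩ := F.inv_mem hφ
    obtain ⟨ω, hω, hωv⟩ := F.inv_mem hψ₁
    have hle : φ.range ⊔ Q ≤ ψ₁.range := by
      refine sup_le ?_ ?_
      · rintro _ ⟨x, rfl⟩
        exact ⟨_, hag₁ x⟩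
      · intro q hq
        exact ⟨_, hQ₁ ⟨q, hq⟩⟩
    have hrN : φ.range ≤ centralizerIn S Q := by
      rintro _ ⟨x, rfl⟩
      exact hφN x
    refine ⟨χ, ⟨hχ, hrN, ?_, ω.comp (Subgroup.inclusion hle), restrict_mem F hω hle, ?_, ?_⟩, hχv⟩
    · rintro ⟨_, x, rfl⟩
      rw [hχv]
      exact hPN x.2
    · rintro ⟨_, x, rfl⟩
      rw [hχv]
      refine Eq.trans ?_ (hωv (Subgroup.inclusion le_sup_left x))
      show ω _ = ω _
      congr 1
      exact Subtype.ext (hag₁ x).symm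
    · intro x
      refine Eq.trans ?_ (hωv (Subgroup.inclusion le_sup_right x))
      show ω _ = ω _
      congr 1
      exact Subtype.ext (hQ₁ x).symm

theorem isNormal_of_characteristic (F : FusionSystem S) {Q U : Subgroup Ω} (hQ : F.IsNormal Q)
    (hUQ : U ≤ Q) (hU : (U.subgroupOf Q).Characteristic) : F.IsNormal U := by
  refine ⟨hUQ.trans hQ.1, fun P φ hφ => ?_⟩
  obtain ⟨ψ, hψ, hag, hQψ⟩ := hQ.2 P φ hφ
  have hle : P ⊔ U ≤ P ⊔ Q := sup_le_sup le_rfl hUQ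
  refine ⟨ψ.comp (Subgroup.inclusion hle), restrict_mem F hψ hle, fun x => hag x, ?_⟩
  rw [map_subgroupOf_restrict le_sup_right hle]
  let f : Q →* Ω := ψ.comp (Subgroup.inclusion le_sup_right)
  have hfQ : ∀ q : Q, f q ∈ Q := fun q => by
    refine le_of_eq hQψ ((mem_map_subgroupOf le_sup_right ψ _).mpr ⟨q, rfl⟩)
  have hbij : Function.Bijective (f.codRestrict Q hfQ) := by
    constructor
    · intro a b hab
      exact Subgroup.inclusion_injective _ (F.injective_of_mem hψ (congrArg Subtype.val hab))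
    · rintro ⟨y, hy⟩
      rw [← hQψ] at hy
      obtain ⟨a, ha⟩ := (mem_map_subgroupOf le_sup_right ψ y).mp hy
      exact ⟨a, Subtype.ext ha⟩
  have hfix := Subgroup.characteristic_iff_map_eq.mp hU (MulEquiv.ofBijective _ hbij)
  ext y
  rw [mem_map_subgroupOf (hUQ.trans le_sup_right)]
  constructor
  · rintro ⟨a, rfl⟩
    have : f ⟨a, hUQ a.2⟩ ∈ U := Subgroup.mem_subgroupOf.mp
      (hfix.le (Subgroup.mem_map_of_mem _ (Subgroup.mem_subgroupOf.mpr a.2)))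
    exact this
  · intro hy
    obtain ⟨b, hb, hby⟩ := hfix.ge (show (⟨y, hUQ hy⟩ : Q) ∈ U.subgroupOf Q from hy)
    exact ⟨⟨b, hb⟩, congrArg Subtype.val hby⟩

end CfsgLib.Fusion
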