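import Mathlib

/-!
Finite sets with a group action are determined by their numbers of fixed points.
-/

set_option autoImplicit false

namespace CfsgLib.Fusion

open MulAction

variable {G : Type*} [Group G] {X Y : Type*} [MulAction G X] [MulAction G Y]

/-- The number of points fixed by a subgroup. -/
noncomputable def fixN (X : Type*) [MulAction G X] (H : Subgroup G) : ℕ :=
  Nat.card {x : X // H ≤ stabilizer G x}

/-- The number of points with given stabilizer. -/
noncomputable def stabN (X : Type*) [MulAction G X] (H : Subgroup G) : ℕ :=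
  Nat.card {x : X // stabilizer G x = H}

theorem fixN_map_conj (k : G) (H : Subgroup G) :
    fixN X (H.map (MulAut.conj k).toMonoidHom) = fixN X H := by
  refine (Nat.card_congr ((MulAction.toPerm k).subtypeEquiv fun x => ?_)).symm
  rw [MulAction.toPerm_apply, stabilizer_smul_eq_stabilizer_map_conj]
  exact (Subgroup.map_le_map_iff_of_injective (MulAut.conj k).injective).symm

theorem mem_orbit_of_smul_mem {g : G} {x a : X} (h : g • x ∈ orbit G a) : x ∈ orbit G a := by
  obtain ⟨k, hk⟩ := h
  exact ⟨g⁻¹ * k, by simp only [mul_smul] at hk ⊢; rw [hk, inv_smul_smul]⟩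

theorem card_filter_split {Z : Type*} [DecidableEq Z] (C : Finset Z) (P Q : Z → Prop)
    [DecidablePred P] [DecidablePred Q] :
    ((C.filter Q).filter P).card + ((C.filter (fun z => ¬ Q z)).filter P).card =
      (C.filter P).card := by
  rw [Finset.filter_comm Q P, Finset.filter_comm (fun z => ¬ Q z) P,
    Finset.card_filter_add_card_filter_not]

theorem fixN_mono [Finite X] {H L : Subgroup G} (h : H ≤ L) : fixN X L ≤ fixN X H :=
  Nat.card_le_card_of_injective (fun x => ⟨x.1, h.trans x.2⟩) fun _ _ e =>
    Subtype.ext (congrArg (fun z : {x : X // H ≤ stabilizer G x} => z.1) e)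

theorem fixN_eq_sum_stabN [Finite X] [Fintype (Subgroup G)]
    [DecidableRel (fun H L : Subgroup G => H ≤ L)] (H : Subgroup G) :
    fixN X H = ∑ L ∈ Finset.univ.filter (H ≤ ·), stabN X L := by
  classical
  have := Fintype.ofFinite X
  simp only [fixN, stabN, Nat.card_eq_fintype_card, Fintype.card_subtype]
  rw [Finset.card_eq_sum_card_fiberwise (f := fun z : X => stabilizer G z)
    (t := Finset.univ.filter (H ≤ ·))
    (fun z hz => by simpa using hz)]
  refine Finset.sum_congr rfl fun L hL => congrArg Finset.card ?_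
  ext z
  simp only [Finset.mem_filter, Finset.mem_univ, true_and] at hL ⊢
  exact ⟨fun hz => hz.2, fun hz => ⟨hz ▸ hL, hz⟩⟩

theorem stabN_eq_of_fixN_eq [Finite G] [Finite X] [Finite Y]
    (h : ∀ H : Subgroup G, fixN X H = fixN Y H) (H : Subgroup G) : stabN X H = stabN Y H := by
  classical
  have := Fintype.ofFinite (Subgroup G)
  induction H using WellFoundedGT.induction with
  | _ H IH =>
    have hx := fixN_eq_sum_stabN (X := X) H
    have hy := fixN_eq_sum_stabN (X := Y) H
    have hH : H ∈ Finset.univ.filter (H ≤ ·) := by simp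
    rw [← Finset.add_sum_erase _ _ hH] at hx hy
    have he : ∑ L ∈ (Finset.univ.filter (H ≤ ·)).erase H, stabN X L =
        ∑ L ∈ (Finset.univ.filter (H ≤ ·)).erase H, stabN Y L := by
      refine Finset.sum_congr rfl fun L hL => IH L ?_
      simp only [Finset.mem_erase, Finset.mem_filter, Finset.mem_univ, true_and] at hL
      exact lt_of_le_of_ne hL.2 (Ne.symm hL.1)
    have := h H
    omega

open Classical in
/-- Two finite sets with the same numbers of fixed points are isomorphic. -/
theorem exists_equivariant_equiv [Finite G] [Finite X] [Finite Y]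
    (h : ∀ H : Subgroup G, fixN X H = fixN Y H) :
    ∃ e : X ≃ Y, ∀ (g : G) (x : X), e (g • x) = g • e x := by
  have := Fintype.ofFinite X
  have := Fintype.ofFinite Y
  rcases isEmpty_or_nonempty Y with hY | hY
  · have : IsEmpty X := by
      refine ⟨fun x => ?_⟩
      have h1 : fixN X (⊥ : Subgroup G) = 0 := (h ⊥).trans Nat.card_of_isEmpty
      have : Nonempty {x : X // (⊥ : Subgroup G) ≤ stabilizer G x} := ⟨⟨x, bot_le⟩⟩
      exact Nat.card_pos.ne' h1
    exact ⟨Equiv.equivOfIsEmpty X Y, fun _ x => isEmptyElim x⟩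
  suffices hmain : ∀ (n : ℕ) (A : Finset X) (B : Finset Y), A.card = n →
      (∀ (g : G) (x : X), x ∈ A → g • x ∈ A) → (∀ (g : G) (y : Y), y ∈ B → g • y ∈ B) →
      (∀ H : Subgroup G, (A.filter (stabilizer G · = H)).card =
        (B.filter (stabilizer G · = H)).card) →
      ∃ f : X → Y, Set.BijOn f A B ∧ ∀ (g : G) (x : X), x ∈ A → f (g • x) = g • f x by
    obtain ⟨f, hf, he⟩ := hmain _ Finset.univ Finset.univ rfl (fun _ _ _ => Finset.mem_univ _)
      (fun _ _ _ => Finset.mem_univ _) fun H => by
        have := stabN_eq_of_fixN_eq h H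
        simpa only [stabN, Nat.card_eq_fintype_card, Fintype.card_subtype] using this
    rw [Finset.coe_univ, Finset.coe_univ, Set.bijOn_univ] at hf
    exact ⟨Equiv.ofBijective f hf, fun g x => he g x (Finset.mem_univ _)⟩
  intro n
  induction n using Nat.strong_induction_on with
  | _ n IH =>
    intro A B hn hA hB hc
    rcases A.eq_empty_or_nonempty with rfl | ⟨a, ha⟩
    · have : B = ∅ := by
        refine Finset.eq_empty_of_forall_notMem fun y hy => ?_
        have h1 := hc (stabilizer G y)
        rw [Finset.filter_empty, Finset.card_empty] at h1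
        have h2 : y ∈ B.filter (stabilizer G · = stabilizer G y) := by simp [hy]
        exact (Finset.card_pos.2 ⟨y, h2⟩).ne h1
      subst this
      exact ⟨fun _ => Classical.arbitrary Y, by simp, fun _ _ hx => absurd hx (Finset.notMem_empty _)⟩
    obtain ⟨b, hb, hab⟩ : ∃ b ∈ B, stabilizer G b = stabilizer G a := by
      have h1 := hc (stabilizer G a)
      have h2 : (B.filter (stabilizer G · = stabilizer G a)).Nonempty := by
        rw [← Finset.card_pos, ← h1]
        exact Finset.card_pos.2 ⟨a, Finset.mem_filter.2 ⟨ha, rfl⟩⟩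
      obtain ⟨b, hb⟩ := h2
      exact ⟨b, (Finset.mem_filter.1 hb).1, (Finset.mem_filter.1 hb).2⟩
    have hwd : ∀ g k : G, g • a = k • a → g • b = k • b := by
      intro g k e
      have h1 : k⁻¹ * g ∈ stabilizer G a := by
        rw [mem_stabilizer_iff, mul_smul, e, inv_smul_smul]
      rw [← hab, mem_stabilizer_iff, mul_smul, inv_smul_eq_iff] at h1
      exact h1
    have hwd' : ∀ g k : G, g • b = k • b → g • a = k • a := by
      intro g k e
      have h1 : k⁻¹ * g ∈ stabilizer G b := by
        rw [mem_stabilizer_iff, mul_smul, e, inv_smul_smul]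
      rw [hab, mem_stabilizer_iff, mul_smul, inv_smul_eq_iff] at h1
      exact h1
    let OA := A.filter (fun x => x ∈ orbit G a)
    let OB := B.filter (fun y => y ∈ orbit G b)
    let A' := A.filter (fun x => x ∉ orbit G a)
    let B' := B.filter (fun y => y ∉ orbit G b)
    let φ : X → Y := fun x => if hx : ∃ g : G, g • a = x then hx.choose • b else b
    have hφ : ∀ g : G, φ (g • a) = g • b := fun g => by
      have hx : ∃ k : G, k • a = g • a := ⟨g, rfl⟩
      simp only [φ, dif_pos hx]
      exact hwd _ _ hx.choose_spec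
    have hOc : ∀ H : Subgroup G, (OA.filter (stabilizer G · = H)).card =
        (OB.filter (stabilizer G · = H)).card := by
      intro H
      refine Finset.card_bij (fun x _ => φ x) ?_ ?_ ?_
      · intro x hx
        simp only [OA, OB, Finset.mem_filter] at hx ⊢
        obtain ⟨⟨-, g, rfl⟩, hH⟩ := hx
        show (φ (g • a) ∈ B ∧ φ (g • a) ∈ orbit G b) ∧ stabilizer G (φ (g • a)) = H
        rw [hφ]
        refine ⟨⟨hB g b hb, mem_orbit b g⟩, ?_⟩
        rw [← hH, stabilizer_smul_eq_stabilizer_map_conj, stabilizer_smul_eq_stabilizer_map_conj,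
          hab]
      · intro x hx y hy e
        simp only [OA, Finset.mem_filter] at hx hy
        obtain ⟨⟨-, g, rfl⟩, -⟩ := hx
        obtain ⟨⟨-, k, rfl⟩, -⟩ := hy
        simp only [hφ] at e
        exact hwd' _ _ e
      · intro y hy
        simp only [OA, OB, Finset.mem_filter] at hy ⊢
        obtain ⟨⟨-, g, rfl⟩, hH⟩ := hy
        refine ⟨g • a, ⟨⟨hA g a ha, mem_orbit a g⟩, ?_⟩, hφ g⟩
        rw [← hH, stabilizer_smul_eq_stabilizer_map_conj, stabilizer_smul_eq_stabilizer_map_conj,
          hab]
    obtain ⟨f, hf, hfe⟩ := IH A'.card (by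
        rw [← hn]
        exact Finset.card_lt_card (Finset.filter_ssubset.2 ⟨a, ha, not_not.2 (mem_orbit_self a)⟩))
      A' B' rfl (fun g x hx => by
        simp only [A', Finset.mem_filter] at hx ⊢
        exact ⟨hA g x hx.1, fun h => hx.2 (mem_orbit_of_smul_mem h)⟩)
      (fun g y hy => by
        simp only [B', Finset.mem_filter] at hy ⊢
        exact ⟨hB g y hy.1, fun h => hy.2 (mem_orbit_of_smul_mem h)⟩)
      (fun H => by
        have h1 := card_filter_split A (stabilizer G · = H) (· ∈ orbit G a)
        have h2 := card_filter_split B (stabilizer G · = H) (· ∈ orbit G b)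
        have h3 := hc H
        have h4 := hOc H
        simp only [OA, OB] at h4
        show ((A.filter (fun x => x ∉ orbit G a)).filter (stabilizer G · = H)).card =
          ((B.filter (fun y => y ∉ orbit G b)).filter (stabilizer G · = H)).card
        omega)
    refine ⟨fun x => if x ∈ orbit G a then φ x else f x, ⟨?_, ?_, ?_⟩, ?_⟩
    · intro x hx
      simp only [Finset.mem_coe] at hx ⊢
      split
      · next ho =>
        obtain ⟨g, rfl⟩ := ho
        show φ (g • a) ∈ B
        rw [hφ]
        exact hB g b hb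
      · next ho =>
        exact (Finset.mem_filter.1 (hf.1 (Finset.mem_filter.2 ⟨hx, ho⟩ : x ∈ A'))).1
    · intro x hx y hy e
      simp only at e
      have hne : ∀ {x y : X}, x ∈ orbit G a → y ∈ A → y ∉ orbit G a → φ x ≠ f y := by
        intro x y hx hy hy' e
        obtain ⟨g, rfl⟩ := hx
        have := (Finset.mem_filter.1 (hf.1 (Finset.mem_filter.2 ⟨hy, hy'⟩ : y ∈ A'))).2
        exact this (e ▸ (hφ g).symm ▸ mem_orbit b g)
      by_cases h1 : x ∈ orbit G a <;> by_cases h2 : y ∈ orbit G a <;>
        simp only [h1, h2, if_true, if_false] at e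
      · obtain ⟨g, rfl⟩ := h1
        obtain ⟨k, rfl⟩ := h2
        exact hwd' _ _ (((hφ g).symm.trans e).trans (hφ k))
      · exact absurd e (hne h1 hy h2)
      · exact absurd e.symm (hne h2 hx h1)
      · exact hf.2.1 (Finset.mem_filter.2 ⟨hx, h1⟩ : x ∈ A')
          (Finset.mem_filter.2 ⟨hy, h2⟩ : y ∈ A') e
    · intro y hy
      by_cases h1 : y ∈ orbit G b
      · obtain ⟨g, rfl⟩ := h1
        refine ⟨g • a, hA g a ha, ?_⟩
        simp only [if_pos (mem_orbit a g), hφ]
      · obtain ⟨x, hx, rfl⟩ := hf.2.2 (Finset.mem_filter.2 ⟨hy, h1⟩ : y ∈ B')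
        refine ⟨x, (Finset.mem_filter.1 hx).1, ?_⟩
        simp only [if_neg (Finset.mem_filter.1 hx).2]
    · intro g x hx
      by_cases h1 : x ∈ orbit G a
      · obtain ⟨k, rfl⟩ := h1
        show (if g • k • a ∈ orbit G a then φ (g • k • a) else _) =
          g • (if k • a ∈ orbit G a then φ (k • a) else _)
        rw [smul_smul, if_pos (mem_orbit a _), if_pos (mem_orbit a k), hφ, hφ, mul_smul]
      · have h2 : g • x ∉ orbit G a := fun h => h1 (mem_orbit_of_smul_mem h)
        simp only [if_neg h1, if_neg h2]
        exact hfe g x (Finset.mem_filter.2 ⟨hx, h1⟩)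

end CfsgLib.Fusion
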