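import Cfsg.Agent.Lib.Fusion.Map
import Cfsg.Agent.Lib.Fusion.Ext

/-!
Extender subgroups, receptive and fully automized subgroups, and the basic equivalences for
saturated fusion systems on finite `p`-groups.
-/

set_option autoImplicit false

namespace CfsgLib.Fusion

open Cfsg Cfsg.FusionSystem

variable {Ω : Type*} [Group Ω] {S : Subgroup Ω} {F : FusionSystem S}

/-- A subgroup of a finite subgroup is finite. -/
theorem finite_of_le [Finite S] {P : Subgroup Ω} (h : P ≤ S) : Finite P :=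
  Finite.of_injective _ (Subgroup.inclusion_injective h)

theorem finite_mulAut (G : Type*) [Group G] [Finite G] : Finite (MulAut G) :=
  Finite.of_injective (fun e => (e : G → G)) DFunLike.coe_injective

theorem le_normalizerIn {P : Subgroup Ω} (h : P ≤ S) : P ≤ normalizerIn S P :=
  le_inf h Subgroup.le_normalizer

theorem centralizerIn_le_normalizerIn (S P : Subgroup Ω) :
    centralizerIn S P ≤ normalizerIn S P :=
  inf_le_inf_left _ (Subgroup.centralizer_le_normalizer _)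

theorem mem_normalizer_of_conj_mem [Finite S] {P : Subgroup Ω} (hP : P ≤ S) {g : Ω}
    (h : ∀ x ∈ P, g * x * g⁻¹ ∈ P) : g ∈ Subgroup.normalizer (P : Set Ω) := by
  have : Finite (P : Set Ω) := finite_of_le hP
  exact Subgroup.mem_normalizer_fintype h

theorem conj_mem_of_mem_normalizer {P : Subgroup Ω} {g x : Ω}
    (hg : g ∈ Subgroup.normalizer (P : Set Ω)) (hx : x ∈ P) : g * x * g⁻¹ ∈ P :=
  (Subgroup.mem_normalizer_iff.1 hg x).1 hx

theorem conj_eq_self_of_mem_centralizer {P : Subgroup Ω} {g x : Ω}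
    (hg : g ∈ Subgroup.centralizer (P : Set Ω)) (hx : x ∈ P) : g * x * g⁻¹ = x := by
  rw [← Subgroup.mem_centralizer_iff.1 hg x hx, mul_inv_cancel_right]

theorem mem_centralizer_of_conj_eq {P : Subgroup Ω} {g : Ω} (h : ∀ x ∈ P, g * x * g⁻¹ = x) :
    g ∈ Subgroup.centralizer (P : Set Ω) := by
  rw [Subgroup.mem_centralizer_iff]
  intro x hx
  exact (mul_inv_eq_iff_eq_mul.1 (h x hx)).symm

theorem mul_inv_mem_centralizer {Q : Subgroup Ω} {a b : Ω}
    (h : ∀ x ∈ Q, a * x * a⁻¹ = b * x * b⁻¹) : b⁻¹ * a ∈ Subgroup.centralizer (Q : Set Ω) :=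
  mem_centralizer_of_conj_eq fun x hx =>
    calc b⁻¹ * a * x * (b⁻¹ * a)⁻¹ = b⁻¹ * (a * x * a⁻¹) * b := by group
      _ = x := by rw [h x hx]; group

/-! ### The extender `N_φ` -/

/-- `N_f`, for a function `f` on the ambient group. -/
def nPhi (S P : Subgroup Ω) (f : Ω → Ω) : Subgroup Ω where
  carrier := {g | g ∈ S ∧ g ∈ Subgroup.normalizer (P : Set Ω) ∧
    ∃ h ∈ S, ∀ x ∈ P, f (g * x * g⁻¹) = h * f x * h⁻¹}
  one_mem' := ⟨S.one_mem, Subgroup.one_mem _, 1, S.one_mem, fun x _ => by simp⟩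
  mul_mem' := by
    rintro a b ⟨ha, han, h, hh, hav⟩ ⟨hb, hbn, k, hk, hbv⟩
    refine ⟨S.mul_mem ha hb, Subgroup.mul_mem _ han hbn, h * k, S.mul_mem hh hk, fun x hx => ?_⟩
    rw [show a * b * x * (a * b)⁻¹ = a * (b * x * b⁻¹) * a⁻¹ by group,
      hav _ (conj_mem_of_mem_normalizer hbn hx), hbv x hx]
    group
  inv_mem' := by
    rintro a ⟨ha, han, h, hh, hav⟩
    refine ⟨S.inv_mem ha, Subgroup.inv_mem _ han, h⁻¹, S.inv_mem hh, fun x hx => ?_⟩
    have := hav _ (conj_mem_of_mem_normalizer (Subgroup.inv_mem _ han) hx)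
    rw [show a * (a⁻¹ * x * a⁻¹⁻¹) * a⁻¹ = x by group] at this
    rw [this]
    group

theorem nPhi_le (P : Subgroup Ω) (f : Ω → Ω) : nPhi S P f ≤ normalizerIn S P :=
  fun _ hg => ⟨hg.1, hg.2.1⟩

theorem nPhi_le_self (P : Subgroup Ω) (f : Ω → Ω) : nPhi S P f ≤ S := fun _ hg => hg.1

theorem nPhi_congr {P : Subgroup Ω} {f g : Ω → Ω} (h : ∀ x ∈ P, f x = g x) :
    nPhi S P f = nPhi S P g := by
  ext a
  constructor <;> rintro ⟨ha, han, k, hk, hv⟩ <;> refine ⟨ha, han, k, hk, fun x hx => ?_⟩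
  · rw [← h _ (conj_mem_of_mem_normalizer han hx), ← h x hx]; exact hv x hx
  · rw [h _ (conj_mem_of_mem_normalizer han hx), h x hx]; exact hv x hx

theorem le_nPhi {P : Subgroup Ω} {f : Ω → Ω} (h : IsMap F P f) : P ≤ nPhi S P f :=
  fun g hg => ⟨h.le hg, Subgroup.le_normalizer hg, f g, h.mem hg, fun _ hx => h.map_conj hg hx⟩

theorem centralizerIn_le_nPhi (P : Subgroup Ω) (f : Ω → Ω) :
    centralizerIn S P ≤ nPhi S P f :=
  fun g hg => ⟨hg.1, (centralizerIn_le_normalizerIn S P hg).2, 1, S.one_mem, fun x hx => by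
    rw [conj_eq_self_of_mem_centralizer hg.2 hx]; simp⟩

theorem extender_eq {P : Subgroup Ω} (φ : P →* Ω) : extender S P φ = nPhi S P (homFun φ) := by
  have : (nPhi S P (homFun φ) : Set Ω) = {g : Ω | g ∈ S ∧ g ∈ Subgroup.normalizer (P : Set Ω) ∧
      ∃ h ∈ S, ∀ (x : P) (hx : g * (x : Ω) * g⁻¹ ∈ P),
        φ ⟨g * x * g⁻¹, hx⟩ = h * φ x * h⁻¹} := by
    ext g
    constructor
    · rintro ⟨hg, hgn, h, hh, hv⟩
      refine ⟨hg, hgn, h, hh, fun x hx => ?_⟩
      rw [← homFun_apply φ hx, ← homFun_coe φ x]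
      exact hv x x.2
    · rintro ⟨hg, hgn, h, hh, hv⟩
      refine ⟨hg, hgn, h, hh, fun x hx => ?_⟩
      rw [homFun_apply φ (conj_mem_of_mem_normalizer hgn hx), homFun_apply φ hx]
      exact hv ⟨x, hx⟩ _
  rw [extender, ← this, Subgroup.closure_eq]

theorem isReceptive_iff {Q : Subgroup Ω} : F.IsReceptive Q ↔ Q ≤ S ∧
    ∀ (P : Subgroup Ω) (f : Ω → Ω), IsIso F P Q f →
      ∃ f', IsMap F (nPhi S P f) f' ∧ ∀ x ∈ P, f' x = f x := by
  refine ⟨fun h => ⟨h.1, fun P f hf => ?_⟩, fun h => ⟨h.1, fun P φ hφ hr => ?_⟩⟩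
  · obtain ⟨φ, hφ, hv⟩ := hf.isMap
    have hfe : ∀ x ∈ P, homFun φ x = f x := fun x hx => (homFun_apply φ hx).trans (hv _)
    have hr : φ.range = Q := by
      apply SetLike.coe_injective
      rw [← image_homFun φ, ← hf.image_eq]
      exact Set.image_congr hfe
    obtain ⟨ψ, hψ, hψv⟩ := h.2 P φ hφ hr
    have he : nPhi S P f = extender S P φ := by rw [extender_eq, nPhi_congr hfe]
    refine ⟨homFun ψ, by rw [he]; exact isMap_homFun hψ, fun x hx => ?_⟩
    have hxN : x ∈ extender S P φ := he ▸ le_nPhi hf.isMap hx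
    rw [homFun_apply ψ hxN, hψv x hx hxN, hv]
  · obtain ⟨f', hf', hf'v⟩ := h.2 P _ (hr ▸ isIso_homFun hφ)
    rw [← extender_eq] at hf'
    obtain ⟨ψ, hψ, hψv⟩ := hf'.exists_hom
    refine ⟨ψ, hψ, fun x hP hN => ?_⟩
    rw [hψv, hf'v x hP, homFun_apply φ hP]

/-! ### Images of normalizers and centralizers under maps -/

namespace IsMap

variable {R P Q : Subgroup Ω} {f : Ω → Ω}

theorem mem_normalizerIn [Finite S] (hf : IsMap F R f) (hPR : P ≤ R) (hPQ : IsIso F P Q f)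
    {g : Ω} (hg : g ∈ R) (hgn : g ∈ Subgroup.normalizer (P : Set Ω)) :
    f g ∈ normalizerIn S Q := by
  refine ⟨hf.mem hg, mem_normalizer_of_conj_mem hPQ.le_right fun y hy => ?_⟩
  obtain ⟨x, hx, rfl⟩ := hPQ.surj hy
  rw [← hf.map_conj hg (hPR hx)]
  exact hPQ.mem (conj_mem_of_mem_normalizer hgn hx)

theorem mem_centralizerIn (hf : IsMap F R f) (hPR : P ≤ R) (hPQ : IsIso F P Q f)
    {g : Ω} (hg : g ∈ R) (hgc : g ∈ Subgroup.centralizer (P : Set Ω)) :
    f g ∈ centralizerIn S Q := by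
  refine ⟨hf.mem hg, mem_centralizer_of_conj_eq fun y hy => ?_⟩
  obtain ⟨x, hx, rfl⟩ := hPQ.surj hy
  rw [← hf.map_conj hg (hPR hx), conj_eq_self_of_mem_centralizer hgc hx]

theorem card_le {B : Subgroup Ω} [Finite B] (hf : IsMap F R f) (h : ∀ x ∈ R, f x ∈ B) :
    Nat.card R ≤ Nat.card B :=
  Nat.card_le_card_of_injective (fun x : R => (⟨f x, h x x.2⟩ : B))
    fun x y hxy => Subtype.ext (hf.injOn x.2 y.2 (congrArg Subtype.val hxy))

theorem isIso_of_card_le {B : Subgroup Ω} [Finite B] (hf : IsMap F R f) (h : ∀ x ∈ R, f x ∈ B)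
    (hc : Nat.card B ≤ Nat.card R) : IsIso F R B f := by
  obtain ⟨C, hC⟩ := hf.exists_iso
  have hCB : C ≤ B := fun y hy => by
    obtain ⟨x, hx, rfl⟩ := hC.surj hy
    exact h x hx
  have : C = B := Subgroup.eq_of_le_of_card_ge hCB (hC.card_eq ▸ hc)
  exact this ▸ hC

end IsMap

/-- The isomorphism underlying `IsIso`. -/
noncomputable def IsIso.equiv {P Q : Subgroup Ω} {f : Ω → Ω} (h : IsIso F P Q f) : P ≃* Q :=
  MulEquiv.ofBijective
    (MonoidHom.mk' (fun x : P => (⟨f x, h.mem x.2⟩ : Q))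
      fun x y => Subtype.ext (h.isMap.map_mul x.2 y.2))
    ⟨fun x y hxy => Subtype.ext (h.isMap.injOn x.2 y.2 (congrArg Subtype.val hxy)),
      fun y => by
        obtain ⟨x, hx, hxy⟩ := h.surj y.2
        exact ⟨⟨x, hx⟩, Subtype.ext hxy⟩⟩

@[simp] theorem IsIso.equiv_apply {P Q : Subgroup Ω} {f : Ω → Ω} (h : IsIso F P Q f) (x : P) :
    (h.equiv x : Ω) = f x := rfl

theorem IsIso.apply_equiv_symm {P Q : Subgroup Ω} {f : Ω → Ω} (h : IsIso F P Q f) (y : Q) :
    f (h.equiv.symm y : Ω) = y := by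
  rw [← h.equiv_apply, MulEquiv.apply_symm_apply]

/-- Transport of an automorphism along an isomorphism, evaluated. -/
theorem IsIso.congr_apply {P Q : Subgroup Ω} {f : Ω → Ω} (h : IsIso F P Q f) (α : MulAut P)
    (x : P) : (MulAut.congr h.equiv α (h.equiv x) : Ω) = f (α x) := by
  simp [MulAut.congr]

theorem IsIso.congr_mem_autGroup {P Q : Subgroup Ω} {f : Ω → Ω} (h : IsIso F P Q f)
    {α : MulAut P} (hα : α ∈ F.autGroup P) : MulAut.congr h.equiv α ∈ F.autGroup Q := by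
  obtain ⟨g, hg, hg1, -⟩ := h.exists_symm
  have hα' := (mem_autGroup_iff h.le_left α).1 hα
  refine mem_autGroup_of_isMap ((hg.comp hα').comp h).isMap _ fun y => ?_
  obtain ⟨x, rfl⟩ := h.equiv.surjective y
  rw [h.congr_apply]
  simp [hg1 x x.2]

theorem IsIso.congr_symm_mem_autGroup {P Q : Subgroup Ω} {f : Ω → Ω} (h : IsIso F P Q f)
    {β : MulAut Q} (hβ : β ∈ F.autGroup Q) : (MulAut.congr h.equiv).symm β ∈ F.autGroup P := by
  obtain ⟨g, hg, hg1, -⟩ := h.exists_symm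
  have hβ' := (mem_autGroup_iff h.le_right β).1 hβ
  refine mem_autGroup_of_isMap ((h.comp hβ').comp hg).isMap _ fun x => ?_
  have e : (h.equiv ((MulAut.congr h.equiv).symm β x) : Ω) = autFun β (f x) := by
    rw [autFun_apply β (h.mem x.2)]
    simp [MulAut.congr]
    rfl
  simp only [Function.comp_apply, ← e, h.equiv_apply]
  exact (hg1 _ (SetLike.coe_mem _)).symm

/-- Conjugation by a normalizing element as an automorphism. -/
noncomputable def conjAut (P : Subgroup Ω) {g : Ω} (hg : g ∈ Subgroup.normalizer (P : Set Ω)) :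
    MulAut P :=
  P.normalizerMonoidHom ⟨g, hg⟩

@[simp] theorem conjAut_apply (P : Subgroup Ω) {g : Ω}
    (hg : g ∈ Subgroup.normalizer (P : Set Ω)) (x : P) : (conjAut P hg x : Ω) = g * x * g⁻¹ := rfl

theorem conjAut_mem_autInducedBy {K P : Subgroup Ω} {g : Ω}
    (hg : g ∈ Subgroup.normalizer (P : Set Ω)) (hK : g ∈ K) : conjAut P hg ∈ autInducedBy K P :=
  (mem_autInducedBy_iff K P _).2 ⟨g, hK, fun _ => rfl⟩

theorem mem_normalizerIn_of_induces [Finite S] {P : Subgroup Ω} (hP : P ≤ S) {α : MulAut P}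
    {g : Ω} (hg : g ∈ S) (hv : ∀ x : P, (α x : Ω) = g * x * g⁻¹) : g ∈ normalizerIn S P :=
  ⟨hg, mem_normalizer_of_conj_mem hP fun x hx => hv ⟨x, hx⟩ ▸ SetLike.coe_mem _⟩

variable {p : ℕ}

theorem isPGroup_autInducedBy {K : Subgroup Ω} (hK : IsPGroup p K) (P : Subgroup Ω) :
    IsPGroup p (autInducedBy K P) := by
  intro α
  obtain ⟨g, hg, hv⟩ := (mem_autInducedBy_iff K P α).1 α.2
  obtain ⟨k, hk⟩ := hK ⟨g, hg⟩
  refine ⟨k, ?_⟩
  have hg1 : g ^ p ^ k = 1 := congrArg Subtype.val hk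
  have key : ∀ n : ℕ, ∀ x : P, (((α : MulAut P) ^ n) x : Ω) = g ^ n * x * (g ^ n)⁻¹ := by
    intro n
    induction n with
    | zero => simp
    | succ n ih =>
      intro x
      rw [pow_succ', MulAut.mul_apply, hv, ih, pow_succ']
      group
  apply Subtype.ext
  apply MulEquiv.ext
  intro x
  apply Subtype.ext
  show (((α : MulAut P) ^ p ^ k) x : Ω) = x
  rw [key, hg1]
  simp

/-- Fully automized, as a conjugation property of `p`-subgroups. -/
theorem isFullyAutomized_iff [Finite S] [Fact p.Prime] (hS : IsPGroup p S) {P : Subgroup Ω} :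
    F.IsFullyAutomized p P ↔ P ≤ S ∧ ∀ A : Subgroup (MulAut P), A ≤ F.autGroup P → IsPGroup p A →
      ∃ β ∈ F.autGroup P, ∀ a ∈ A, β * a * β⁻¹ ∈ autInducedBy S P := by
  refine ⟨fun ⟨hP, R, hR⟩ => ⟨hP, fun A hA hAp => ?_⟩, fun ⟨hP, h⟩ => ⟨hP, ?_⟩⟩
  · have := finite_of_le hP
    have := finite_mulAut P
    obtain ⟨R', hR'⟩ := (hAp.of_equiv (Subgroup.subgroupOfEquivOfLe hA).symm).exists_le_sylow
    obtain ⟨β, hβ⟩ := MulAction.exists_smul_eq (F.autGroup P) R' R
    refine ⟨β, β.2, fun a ha => ?_⟩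
    have : β * ⟨a, hA ha⟩ * β⁻¹ ∈ (R : Subgroup (F.autGroup P)) := by
      rw [← hβ, Sylow.coe_subgroup_smul, Subgroup.mem_pointwise_smul_iff_inv_smul_mem]
      simpa [mul_assoc] using hR' (show (⟨a, hA ha⟩ : F.autGroup P) ∈ A.subgroupOf _ from ha)
    rw [hR] at this
    exact this
  · have := finite_of_le hP
    have := finite_mulAut P
    have hle : autInducedBy S P ≤ F.autGroup P := autInducedBy_le_autGroup hP
    obtain ⟨R, hR⟩ :=
      ((isPGroup_autInducedBy hS P).of_equiv (Subgroup.subgroupOfEquivOfLe hle).symm).exists_le_sylow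
    obtain ⟨β, hβ, hconj⟩ := h ((R : Subgroup _).map (F.autGroup P).subtype)
      (Subgroup.map_subtype_le _) (R.isPGroup'.map _)
    refine ⟨R, (Subgroup.eq_of_le_of_card_ge hR ?_).symm⟩
    let f : R → (autInducedBy S P).subgroupOf (F.autGroup P) := fun r =>
      ⟨⟨β, hβ⟩ * r.1 * ⟨β, hβ⟩⁻¹, hconj _ ⟨r.1, r.2, rfl⟩⟩
    refine Nat.card_le_card_of_injective f fun r s hrs => Subtype.ext ?_
    simpa [f] using congrArg Subtype.val hrs

/-! ### Receptive and fully automized subgroups in a conjugacy class -/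

theorem exists_map_normalizerIn [Finite S] [Fact p.Prime] (hS : IsPGroup p S) {P Q : Subgroup Ω}
    (ha : F.IsFullyAutomized p Q) (hr : F.IsReceptive Q) (hPQ : F.IsConj P Q) :
    ∃ f, IsMap F (normalizerIn S P) f ∧ IsIso F P Q f ∧
      (∀ g ∈ normalizerIn S P, f g ∈ normalizerIn S Q) ∧
      ∀ g ∈ centralizerIn S P, f g ∈ centralizerIn S Q := by
  obtain ⟨f, hf⟩ := isConj_iff.1 hPQ
  have hP := hf.le_left
  let A : Subgroup (MulAut Q) := (autInducedBy S P).map (MulAut.congr hf.equiv).toMonoidHom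
  have hA : A ≤ F.autGroup Q := by
    rintro _ ⟨α, hα, rfl⟩
    exact hf.congr_mem_autGroup (autInducedBy_le_autGroup hP hα)
  obtain ⟨β, hβ, hconj⟩ := ((isFullyAutomized_iff hS).1 ha).2 A hA
    ((isPGroup_autInducedBy hS P).map _)
  have hf' : IsIso F P Q (autFun β ∘ f) := hf.comp ((mem_autGroup_iff hr.1 β).1 hβ)
  have hN : nPhi S P (autFun β ∘ f) = normalizerIn S P := by
    refine le_antisymm (nPhi_le _ _) fun g hg => ?_
    obtain ⟨h, hh, hv⟩ := (mem_autInducedBy_iff S Q _).1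
      (hconj _ ⟨_, conjAut_mem_autInducedBy hg.2 hg.1, rfl⟩)
    refine ⟨hg.1, hg.2, h, hh, fun x hx => ?_⟩
    have := hv (β (hf.equiv ⟨x, hx⟩))
    simp only [MulAut.mul_apply, MulAut.inv_apply_self, MulEquiv.coe_toMonoidHom] at this
    have e1 : (autFun β (f (g * x * g⁻¹)) : Ω)
        = (β (MulAut.congr hf.equiv (conjAut P hg.2) (hf.equiv ⟨x, hx⟩)) : Ω) := by
      rw [← autFun_coe β, hf.congr_apply]
      rfl
    show autFun β (f (g * x * g⁻¹)) = h * autFun β (f x) * h⁻¹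
    rw [e1, this, ← autFun_coe β]
    rfl
  obtain ⟨f', hf'm, hf'v⟩ := (isReceptive_iff.1 hr).2 P _ hf'
  rw [hN] at hf'm
  have hiso : IsIso F P Q f' := hf'.congr fun x hx => (hf'v x hx).symm
  refine ⟨f', hf'm, hiso, fun g hg => hf'm.mem_normalizerIn (le_normalizerIn hP) hiso hg hg.2,
    fun g hg => hf'm.mem_centralizerIn (le_normalizerIn hP) hiso
      (centralizerIn_le_normalizerIn S P hg) hg.2⟩

theorem isFullyCentralized_of_isReceptive [Finite S] {Q : Subgroup Ω} (hr : F.IsReceptive Q) :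
    F.IsFullyCentralized Q := by
  refine ⟨hr.1, fun P hQP => ?_⟩
  obtain ⟨f, hf⟩ := isConj_iff.1 (isConj_symm hQP)
  obtain ⟨f', hf', hv⟩ := (isReceptive_iff.1 hr).2 P f hf
  have := finite_of_le (S := S) (P := centralizerIn S Q) inf_le_left
  refine (hf'.mono (centralizerIn_le_nPhi P f)).card_le fun g hg => ?_
  exact hf'.mem_centralizerIn (le_nPhi hf.isMap) (hf.congr fun x hx => (hv x hx).symm)
    (centralizerIn_le_nPhi P f hg) hg.2

theorem isFullyNormalized_of_automized_receptive [Finite S] [Fact p.Prime] (hS : IsPGroup p S)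
    {Q : Subgroup Ω} (ha : F.IsFullyAutomized p Q) (hr : F.IsReceptive Q) :
    F.IsFullyNormalized Q := by
  refine ⟨hr.1, fun P hQP => ?_⟩
  obtain ⟨f, hf, -, hfN, -⟩ := exists_map_normalizerIn hS ha hr (isConj_symm hQP)
  have := finite_of_le (S := S) (P := normalizerIn S Q) inf_le_left
  exact hf.card_le hfN

/-- In any system every subgroup of `S` has a fully normalized conjugate. -/
theorem exists_isFullyNormalized [Finite S] {P : Subgroup Ω} (hP : P ≤ S) :
    ∃ Q, F.IsConj P Q ∧ F.IsFullyNormalized Q := by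
  obtain ⟨Q, hQ, hmax⟩ := Set.exists_max_image {Q : Subgroup Ω | F.IsConj P Q}
    (fun Q => Nat.card (normalizerIn S Q))
    (finite_subgroups_le _ fun Q hQ => (le_of_isConj hQ).2) ⟨P, isConj_refl hP⟩
  exact ⟨Q, hQ, (le_of_isConj hQ).2, fun R hR => hmax R (isConj_trans hQ hR)⟩

theorem exists_isFullyCentralized [Finite S] {P : Subgroup Ω} (hP : P ≤ S) :
    ∃ Q, F.IsConj P Q ∧ F.IsFullyCentralized Q := by
  obtain ⟨Q, hQ, hmax⟩ := Set.exists_max_image {Q : Subgroup Ω | F.IsConj P Q}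
    (fun Q => Nat.card (centralizerIn S Q))
    (finite_subgroups_le _ fun Q hQ => (le_of_isConj hQ).2) ⟨P, isConj_refl hP⟩
  exact ⟨Q, hQ, (le_of_isConj hQ).2, fun R hR => hmax R (isConj_trans hQ hR)⟩

/-! ### Saturated systems -/

variable [Finite S] [Fact p.Prime]

theorem isReceptive_of_isFullyCentralized (hS : IsPGroup p S) (hF : F.IsSaturated p)
    {P : Subgroup Ω} (hP : F.IsFullyCentralized P) : F.IsReceptive P := by
  obtain ⟨Q, hPQ, ha, hr⟩ := hF P hP.1
  obtain ⟨f, hf, hfi, -, hfC⟩ := exists_map_normalizerIn hS ha hr hPQ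
  have := finite_of_le (S := S) (P := centralizerIn S Q) inf_le_left
  have hC : IsIso F (centralizerIn S P) (centralizerIn S Q) f :=
    (hf.mono (centralizerIn_le_normalizerIn S P)).isIso_of_card_le hfC (hP.2 Q hPQ)
  obtain ⟨T, hT⟩ := hf.exists_iso
  obtain ⟨k, hk, hk1, -⟩ := hT.exists_symm
  refine isReceptive_iff.2 ⟨hP.1, fun R φ hφ => ?_⟩
  obtain ⟨χ, hχ, hχv⟩ := (isReceptive_iff.1 hr).2 R _ (hφ.comp hfi)
  have hsub : ∀ g ∈ nPhi S R φ, g ∈ nPhi S R (f ∘ φ) ∧ χ g ∈ T := by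
    rintro g ⟨hgS, hgn, h, hh, hv⟩
    have hhN : h ∈ normalizerIn S P := by
      refine ⟨hh, mem_normalizer_of_conj_mem hP.1 fun y hy => ?_⟩
      obtain ⟨x, hx, rfl⟩ := hφ.surj hy
      rw [← hv x hx]
      exact hφ.mem (conj_mem_of_mem_normalizer hgn hx)
    have hPN : ∀ y ∈ P, y ∈ normalizerIn S P := fun y hy => le_normalizerIn hP.1 hy
    have e : ∀ x ∈ R, f (φ (g * x * g⁻¹)) = f h * f (φ x) * (f h)⁻¹ := fun x hx => by
      rw [hv x hx, hf.map_conj hhN (hPN _ (hφ.mem hx))]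
    have hg' : g ∈ nPhi S R (f ∘ φ) := ⟨hgS, hgn, f h, hf.mem hhN, e⟩
    refine ⟨hg', ?_⟩
    have hc : (f h)⁻¹ * χ g ∈ centralizerIn S Q := by
      refine ⟨S.mul_mem (S.inv_mem (hf.mem hhN)) (hχ.mem hg'), mul_inv_mem_centralizer
        fun y hy => ?_⟩
      obtain ⟨x, hx, rfl⟩ := (hφ.comp hfi).surj hy
      rw [← hχv x hx, ← hχ.map_conj hg' (le_nPhi (hφ.comp hfi).isMap hx),
        hχv _ (conj_mem_of_mem_normalizer hgn hx), hχv x hx]
      exact e x hx
    obtain ⟨c, hc', hce⟩ := hC.surj hc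
    have hcN := centralizerIn_le_normalizerIn S P hc'
    have : χ g = f (h * c) := by
      rw [hf.map_mul hhN hcN, hce, mul_inv_cancel_left]
    rw [this]
    exact hT.mem ((normalizerIn S P).mul_mem hhN hcN)
  refine ⟨k ∘ χ, (hχ.mono fun g hg => (hsub g hg).1).comp hk.isMap fun g hg => (hsub g hg).2,
    fun x hx => ?_⟩
  show k (χ x) = φ x
  rw [hχv x hx]
  exact hk1 _ (le_normalizerIn hP.1 (hφ.mem hx))

theorem isFullyCentralized_of_isFullyNormalized (hS : IsPGroup p S) (hF : F.IsSaturated p)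
    {P : Subgroup Ω} (hP : F.IsFullyNormalized P) : F.IsFullyCentralized P := by
  obtain ⟨Q, hPQ, ha, hr⟩ := hF P hP.1
  obtain ⟨f, hf, hfi, hfN, -⟩ := exists_map_normalizerIn hS ha hr hPQ
  have := finite_of_le (S := S) (P := normalizerIn S Q) inf_le_left
  have := finite_of_le (S := S) (P := centralizerIn S P) inf_le_left
  have hN : IsIso F (normalizerIn S P) (normalizerIn S Q) f :=
    hf.isIso_of_card_le hfN (hP.2 Q hPQ)
  obtain ⟨k, hk, hk1, -⟩ := hN.exists_symm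
  obtain ⟨k', hk', hk'1, -⟩ := hfi.exists_symm
  have hkPQ : IsIso F Q P k := hk'.congr fun y hy => by
    obtain ⟨x, hx, rfl⟩ := hfi.surj hy
    rw [hk'1 x hx, hk1 x (le_normalizerIn hP.1 hx)]
  refine ⟨hP.1, fun R hR => le_trans ((isFullyCentralized_of_isReceptive hr).2 R
    (isConj_trans (isConj_symm hPQ) hR)) ?_⟩
  exact (hk.isMap.mono (centralizerIn_le_normalizerIn S Q)).card_le fun g hg =>
    hk.isMap.mem_centralizerIn (le_normalizerIn hr.1) hkPQ
      (centralizerIn_le_normalizerIn S Q hg) hg.2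

theorem isReceptive_of_isFullyNormalized (hS : IsPGroup p S) (hF : F.IsSaturated p)
    {P : Subgroup Ω} (hP : F.IsFullyNormalized P) : F.IsReceptive P :=
  isReceptive_of_isFullyCentralized hS hF (isFullyCentralized_of_isFullyNormalized hS hF hP)

theorem isFullyAutomized_of_isFullyNormalized (hS : IsPGroup p S) (hF : F.IsSaturated p)
    {P : Subgroup Ω} (hP : F.IsFullyNormalized P) : F.IsFullyAutomized p P := by
  obtain ⟨Q, hPQ, ha, hr⟩ := hF P hP.1
  obtain ⟨f, hf, hfi, hfN, -⟩ := exists_map_normalizerIn hS ha hr hPQ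
  have := finite_of_le (S := S) (P := normalizerIn S Q) inf_le_left
  have hN : IsIso F (normalizerIn S P) (normalizerIn S Q) f :=
    hf.isIso_of_card_le hfN (hP.2 Q hPQ)
  refine (isFullyAutomized_iff hS).2 ⟨hP.1, fun A hA hAp => ?_⟩
  obtain ⟨β, hβ, hconj⟩ := ((isFullyAutomized_iff hS).1 ha).2
    (A.map (MulAut.congr hfi.equiv).toMonoidHom)
    (by rintro _ ⟨α, hα, rfl⟩; exact hfi.congr_mem_autGroup (hA hα)) (hAp.map _)
  refine ⟨(MulAut.congr hfi.equiv).symm β, hfi.congr_symm_mem_autGroup hβ, fun a haA => ?_⟩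
  obtain ⟨h, hh, hv⟩ := (mem_autInducedBy_iff S Q _).1 (hconj _ ⟨a, haA, rfl⟩)
  obtain ⟨g, hg, rfl⟩ := hN.surj (mem_normalizerIn_of_induces hr.1 hh hv)
  refine (mem_autInducedBy_iff S P _).2 ⟨g, hg.1, fun x => ?_⟩
  have key : MulAut.congr hfi.equiv
      ((MulAut.congr hfi.equiv).symm β * a * ((MulAut.congr hfi.equiv).symm β)⁻¹)
      = β * MulAut.congr hfi.equiv a * β⁻¹ := by
    simp only [map_mul, map_inv, MulEquiv.apply_symm_apply]
  have h1 := hfi.congr_apply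
    ((MulAut.congr hfi.equiv).symm β * a * ((MulAut.congr hfi.equiv).symm β)⁻¹) x
  rw [key] at h1
  have h2 : f g * f x * (f g)⁻¹ = f ((((MulAut.congr hfi.equiv).symm β * a *
      ((MulAut.congr hfi.equiv).symm β)⁻¹) x : P) : Ω) := by
    rw [← h1]
    exact (hv (hfi.equiv x)).symm
  rw [← hf.map_conj hg (le_normalizerIn hP.1 x.2)] at h2
  exact (hf.injOn (le_normalizerIn hP.1 (conj_mem_of_mem_normalizer hg.2 x.2))
    (le_normalizerIn hP.1 (SetLike.coe_mem _)) h2).symm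

theorem isFullyNormalized_iff (hS : IsPGroup p S) (hF : F.IsSaturated p) {P : Subgroup Ω} :
    F.IsFullyNormalized P ↔ F.IsFullyAutomized p P ∧ F.IsReceptive P :=
  ⟨fun h => ⟨isFullyAutomized_of_isFullyNormalized hS hF h,
    isReceptive_of_isFullyNormalized hS hF h⟩,
    fun h => isFullyNormalized_of_automized_receptive hS h.1 h.2⟩

/-! ### Centric subgroups -/

omit [Fact p.Prime] [Finite S] in
theorem centralizerIn_inf_eq_of_isCentric {P : Subgroup Ω} (hP : F.IsCentric P) :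
    centralizerIn S P = P ⊓ Subgroup.centralizer (P : Set Ω) :=
  le_antisymm (le_inf (hP.2 P (isConj_refl hP.1)) inf_le_right)
    (inf_le_inf_right _ hP.1)

omit [Fact p.Prime] in
theorem isFullyCentralized_of_isCentric {P : Subgroup Ω} (hP : F.IsCentric P) :
    F.IsFullyCentralized P := by
  refine ⟨hP.1, fun Q hQ => ?_⟩
  obtain ⟨f, hf⟩ := isConj_iff.1 (isConj_symm hQ)
  have := finite_of_le (S := S) (P := centralizerIn S P) inf_le_left
  have hCQ : centralizerIn S Q ≤ Q := hP.2 Q hQ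
  exact (hf.isMap.mono hCQ).card_le fun g hg =>
    hf.isMap.mem_centralizerIn le_rfl hf (hCQ hg) hg.2

omit [Fact p.Prime] [Finite S] in
theorem isCentric_of_le {P Q : Subgroup Ω} (hP : F.IsCentric P) (hPQ : P ≤ Q) (hQ : Q ≤ S) :
    F.IsCentric Q := by
  refine ⟨hQ, fun Q' hQ' => ?_⟩
  obtain ⟨f, hf⟩ := isConj_iff.1 hQ'
  obtain ⟨P', hP'⟩ := (hf.isMap.mono hPQ).exists_iso
  have hle : P' ≤ Q' := fun y hy => by
    obtain ⟨x, hx, rfl⟩ := hP'.surj hy
    exact hf.mem (hPQ hx)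
  exact le_trans (inf_le_inf_left _ (Subgroup.centralizer_le (show (P' : Set Ω) ⊆ Q' from hle)))
    ((hP.2 P' hP'.isConj).trans hle)

theorem isCentric_of_fullyCentralized (hS : IsPGroup p S) (hF : F.IsSaturated p)
    {P : Subgroup Ω} (hP : F.IsFullyCentralized P) (hC : centralizerIn S P ≤ P) :
    F.IsCentric P := by
  refine ⟨hP.1, fun Q hQ => ?_⟩
  obtain ⟨f, hf⟩ := isConj_iff.1 (isConj_symm hQ)
  obtain ⟨f', hf', hv⟩ := (isReceptive_iff.1 (isReceptive_of_isFullyCentralized hS hF hP)).2 Q f hf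
  intro g hg
  have hg' := centralizerIn_le_nPhi Q f hg
  have hfg : f' g ∈ P := hC (hf'.mem_centralizerIn (le_nPhi hf.isMap)
    (hf.congr fun x hx => (hv x hx).symm) hg' hg.2)
  obtain ⟨x, hx, hxe⟩ := hf.surj hfg
  rw [← hv x hx] at hxe
  exact hf'.injOn (le_nPhi hf.isMap hx) hg' hxe ▸ hx

end CfsgLib.Fusion
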