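import Mathlib
import Cfsg.Agent.Lib.Fusion.Marks
import Cfsg.Agent.Lib.Fusion.Saturation

/-!
A finite `S × S`-set attached to a saturated fusion system: all stabilizers are graphs of maps
of the system, the number of points fixed by such a graph depends only on its second projection,
and the number of orbits of the second factor is prime to `p`.
-/

set_option autoImplicit false

namespace CfsgLib.Fusion

open Cfsg Cfsg.FusionSystem MulAction

universe u

variable {Ω : Type u} [Group Ω] {S : Subgroup Ω} {F : FusionSystem S} {p : ℕ}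

/-- The first projection of a subgroup of `S × S`, inside the ambient group. -/
def srcSub (L : Subgroup (S × S)) : Subgroup Ω := L.map (S.subtype.comp (MonoidHom.fst S S))

/-- The second projection of a subgroup of `S × S`, inside the ambient group. -/
def tgtSub (L : Subgroup (S × S)) : Subgroup Ω := L.map (S.subtype.comp (MonoidHom.snd S S))

/-- A subgroup of `S × S` that is the graph of a map of the system. -/
def TwDiag (F : FusionSystem S) (L : Subgroup (S × S)) : Prop :=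
  ∃ f, IsMap F (srcSub L) f ∧ ∀ k ∈ L, f (k.1 : Ω) = k.2

theorem srcSub_le (L : Subgroup (S × S)) : srcSub L ≤ S := by
  rintro _ ⟨k, -, rfl⟩; exact k.1.2

theorem tgtSub_le (L : Subgroup (S × S)) : tgtSub L ≤ S := by
  rintro _ ⟨k, -, rfl⟩; exact k.2.2

theorem mem_srcSub {L : Subgroup (S × S)} {k : S × S} (hk : k ∈ L) : (k.1 : Ω) ∈ srcSub L :=
  ⟨k, hk, rfl⟩

theorem mem_tgtSub {L : Subgroup (S × S)} {k : S × S} (hk : k ∈ L) : (k.2 : Ω) ∈ tgtSub L :=
  ⟨k, hk, rfl⟩

namespace TwDiag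

variable {L M : Subgroup (S × S)}

theorem mono (h : TwDiag F L) (hML : M ≤ L) : TwDiag F M := by
  obtain ⟨f, hf, hv⟩ := h
  exact ⟨f, hf.mono (Subgroup.map_mono hML), fun k hk => hv k (hML hk)⟩

theorem eq_one_of_fst (h : TwDiag F L) {k : S × S} (hk : k ∈ L) (h1 : k.1 = 1) : k = 1 := by
  obtain ⟨f, hf, hv⟩ := h
  have := hv k hk
  rw [h1, OneMemClass.coe_one, hf.map_one] at this
  exact Prod.ext h1 (Subtype.ext this.symm)

theorem eq_one_of_snd (h : TwDiag F L) {k : S × S} (hk : k ∈ L) (h2 : k.2 = 1) : k = 1 := by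
  obtain ⟨f, hf, hv⟩ := h
  have h' := hv k hk
  rw [h2, OneMemClass.coe_one, ← hf.map_one] at h'
  have := hf.injOn (mem_srcSub hk) (srcSub L).one_mem h'
  exact Prod.ext (Subtype.ext this) h2

theorem card_srcSub (h : TwDiag F L) : Nat.card (srcSub L) = Nat.card L := by
  refine (Nat.card_eq_of_bijective (fun k : L => (⟨_, mem_srcSub k.2⟩ : srcSub L)) ⟨?_, ?_⟩).symm
  · intro a b e
    have h0 : ((a : S × S).1 : Ω) = (b : S × S).1 :=
      congrArg (fun z : srcSub L => (z : Ω)) e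
    have := h.eq_one_of_fst (L.mul_mem (L.inv_mem a.2) b.2)
      (by rw [Prod.fst_mul, Prod.fst_inv, Subtype.ext h0, inv_mul_cancel])
    exact Subtype.ext (inv_mul_eq_one.1 this)
  · rintro ⟨_, k, hk, rfl⟩
    exact ⟨⟨k, hk⟩, rfl⟩

theorem card_tgtSub (h : TwDiag F L) : Nat.card (tgtSub L) = Nat.card L := by
  refine (Nat.card_eq_of_bijective (fun k : L => (⟨_, mem_tgtSub k.2⟩ : tgtSub L)) ⟨?_, ?_⟩).symm
  · intro a b e
    have h0 : ((a : S × S).2 : Ω) = (b : S × S).2 :=
      congrArg (fun z : tgtSub L => (z : Ω)) e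
    have := h.eq_one_of_snd (L.mul_mem (L.inv_mem a.2) b.2)
      (by rw [Prod.snd_mul, Prod.snd_inv, Subtype.ext h0, inv_mul_cancel])
    exact Subtype.ext (inv_mul_eq_one.1 this)
  · rintro ⟨_, k, hk, rfl⟩
    exact ⟨⟨k, hk⟩, rfl⟩

theorem isIso (h : TwDiag F L) :
    ∃ f, IsIso F (srcSub L) (tgtSub L) f ∧ ∀ k ∈ L, f (k.1 : Ω) = k.2 := by
  obtain ⟨f, hf, hv⟩ := h
  refine ⟨f, ⟨hf, ?_⟩, hv⟩
  ext y
  constructor
  · rintro ⟨_, ⟨k, hk, rfl⟩, rfl⟩
    show f (k.1 : Ω) ∈ tgtSub L
    rw [hv k hk]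
    exact mem_tgtSub hk
  · rintro ⟨k, hk, rfl⟩
    exact ⟨k.1, mem_srcSub hk, hv k hk⟩

theorem map_conj (h : TwDiag F L) (k : S × S) :
    TwDiag F (L.map (MulAut.conj k).toMonoidHom) := by
  obtain ⟨f, hf, hv⟩ := h
  have hsrc : ∀ x ∈ srcSub (L.map (MulAut.conj k).toMonoidHom),
      (k.1 : Ω)⁻¹ * x * ((k.1 : Ω)⁻¹)⁻¹ ∈ srcSub L := by
    rintro _ ⟨_, ⟨l, hl, rfl⟩, rfl⟩
    show (k.1 : Ω)⁻¹ * ((k.1 * l.1 * k.1⁻¹ : S) : Ω) * ((k.1 : Ω)⁻¹)⁻¹ ∈ srcSub L
    convert mem_srcSub hl using 1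
    simp only [Subgroup.coe_mul, Subgroup.coe_inv]
    group
  refine ⟨(fun y => (k.2 : Ω) * y * (k.2 : Ω)⁻¹) ∘ f ∘
    (fun x => (k.1 : Ω)⁻¹ * x * ((k.1 : Ω)⁻¹)⁻¹),
    ((isMap_conj (srcSub_le _) (S.inv_mem k.1.2)).comp hf hsrc).comp
      (isMap_conj le_rfl k.2.2) (fun x hx => hf.mem (hsrc x hx)), ?_⟩
  rintro _ ⟨l, hl, rfl⟩
  show (k.2 : Ω) * f ((k.1 : Ω)⁻¹ * ((k.1 * l.1 * k.1⁻¹ : S) : Ω) * ((k.1 : Ω)⁻¹)⁻¹) *
    (k.2 : Ω)⁻¹ = ((k.2 * l.2 * k.2⁻¹ : S) : Ω)
  rw [show (k.1 : Ω)⁻¹ * ((k.1 * l.1 * k.1⁻¹ : S) : Ω) * ((k.1 : Ω)⁻¹)⁻¹ = l.1 by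
    simp only [Subgroup.coe_mul, Subgroup.coe_inv]; group, hv l hl]
  simp

end TwDiag

theorem tgtSub_map_conj (L : Subgroup (S × S)) (k : S × S) :
    tgtSub (L.map (MulAut.conj k).toMonoidHom) =
      (tgtSub L).map (MulAut.conj (k.2 : Ω)).toMonoidHom := by
  simp only [tgtSub, Subgroup.map_map]
  congr 1

variable (F) in
/-- All stabilizers are graphs of maps of the system. -/
def TwFree (X : Type u) [MulAction (S × S) X] : Prop :=
  ∀ x : X, TwDiag F (stabilizer (S × S) x)

variable (F) in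
/-- On the graphs of order at least `n`, the fixed points depend only on the second projection. -/
def StableFrom (X : Type u) [MulAction (S × S) X] (n : ℕ) : Prop :=
  ∀ L M : Subgroup (S × S), TwDiag F L → TwDiag F M → n ≤ Nat.card L →
    tgtSub L = tgtSub M → fixN X L = fixN X M

theorem fixN_eq_zero {X : Type u} [MulAction (S × S) X] (hX : TwFree F X)
    {L : Subgroup (S × S)} (hL : ¬ TwDiag F L) : fixN X L = 0 := by
  have : IsEmpty {x : X // L ≤ stabilizer (S × S) x} := ⟨fun x => hL ((hX x.1).mono x.2)⟩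
  exact Nat.card_of_isEmpty

variable [Finite S] [Fact p.Prime]

/-- Points fixed by two graphs with the same second projection are congruent modulo the index of
the graph in its normalizer, once this holds for the larger graphs. -/
theorem exists_modEq (hS : IsPGroup p S) (hF : F.IsSaturated p) {X : Type u}
    [MulAction (S × S) X] [Finite X] (hX : TwFree F X) {n : ℕ} (hst : StableFrom F X (n + 1))
    (Q : Subgroup Ω) : ∃ c : ℕ, ∀ L : Subgroup (S × S), TwDiag F L → Nat.card L = n →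
      tgtSub L = Q → fixN X L ≡ c [MOD L.relIndex (Subgroup.normalizer (L : Set (S × S)))] := by
  classical
  by_cases hQ : Q ≤ S
  swap
  · exact ⟨0, fun L _ _ h => absurd (h ▸ tgtSub_le L) hQ⟩
  obtain ⟨P₀, hc, ha, hr⟩ := hF Q hQ
  obtain ⟨g, hg, hgi, -, -⟩ := exists_map_normalizerIn hS ha hr hc
  let d : Q →* S × S := MonoidHom.mk' (fun y => (⟨g y, hgi.le_right (hgi.mem y.2)⟩, ⟨y, hQ y.2⟩))
    fun y z => Prod.ext (Subtype.ext (hgi.isMap.map_mul y.2 z.2)) rfl
  refine ⟨fixN X d.range, fun L hL hLn hLQ => ?_⟩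
  obtain ⟨f, hf, hv⟩ := hL.isIso
  rw [hLQ] at hf
  have hψ : IsIso F (srcSub L) P₀ (g ∘ f) := hf.comp hgi
  obtain ⟨ψ, hψm, hψv⟩ := (isReceptive_iff.1 hr).2 _ _ hψ
  set H := Subgroup.normalizer (L : Set (S × S)) with hH
  have hLH : L ≤ H := Subgroup.le_normalizer
  have hN : ∀ k ∈ H, (k.1 : Ω) ∈ nPhi S (srcSub L) (g ∘ f) ∧
      (k.2 : Ω) ∈ normalizerIn S Q := by
    intro k hk
    have h1 : (k.1 : Ω) ∈ Subgroup.normalizer ((srcSub L : Subgroup Ω) : Set Ω) :=
      Subgroup.le_normalizer_map (H := L) (S.subtype.comp (MonoidHom.fst S S)) ⟨k, hk, rfl⟩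
    have h2 : (k.2 : Ω) ∈ normalizerIn S Q := by
      refine ⟨k.2.2, hLQ ▸ ?_⟩
      exact Subgroup.le_normalizer_map (H := L) (S.subtype.comp (MonoidHom.snd S S)) ⟨k, hk, rfl⟩
    refine ⟨⟨k.1.2, h1, g k.2, hg.mem h2, ?_⟩, h2⟩
    rintro _ ⟨l, hl, rfl⟩
    show g (f ((k.1 : Ω) * (l.1 : Ω) * (k.1 : Ω)⁻¹)) = g k.2 * g (f l.1) * (g k.2)⁻¹
    have h3 := hv _ ((Subgroup.mem_normalizer_iff.1 hk l).1 hl)
    simp only [Prod.fst_mul, Prod.fst_inv, Prod.snd_mul, Prod.snd_inv, Subgroup.coe_mul,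
      Subgroup.coe_inv] at h3
    rw [h3, hv l hl]
    exact hg.map_conj h2 (le_normalizerIn hQ (hLQ ▸ mem_tgtSub hl))
  let ι : H →* S × S := MonoidHom.mk'
    (fun k => (⟨ψ (k : S × S).1, hψm.mem (hN k k.2).1⟩, (k : S × S).2))
    fun a b => Prod.ext (Subtype.ext (hψm.map_mul (hN a a.2).1 (hN b b.2).1)) rfl
  have hι : Function.Injective ι := by
    intro a b e
    have h1 : ψ (a : S × S).1 = ψ (b : S × S).1 :=
      congrArg (fun z : S × S => (z.1 : Ω)) e
    have h2 := congrArg (fun z : S × S => z.2) e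
    exact Subtype.ext (Prod.ext (Subtype.ext (hψm.injOn (hN a a.2).1 (hN b b.2).1 h1)) h2)
  have hψL : ∀ l ∈ L, ψ (l.1 : Ω) = g l.2 := fun l hl => by
    rw [hψv _ (mem_srcSub hl)]
    show g (f l.1) = g l.2
    rw [hv l hl]
  have hιL : (L.subgroupOf H).map ι = d.range := by
    ext z
    constructor
    · rintro ⟨k, hk, rfl⟩
      exact ⟨⟨(k : S × S).2, hLQ ▸ mem_tgtSub hk⟩,
        Prod.ext (Subtype.ext (hψL k hk).symm) rfl⟩
    · rintro ⟨⟨y, hy⟩, rfl⟩
      obtain ⟨l, hl, rfl⟩ := hLQ.symm ▸ hy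
      exact ⟨⟨l, hLH hl⟩, hl, Prod.ext (Subtype.ext (hψL l hl)) rfl⟩
  have hbig : ∀ L' : Subgroup (S × S), L < L' → L' ≤ H →
      fixN X L' = fixN X ((L'.subgroupOf H).map ι) := by
    intro L' hlt hle
    set M' := (L'.subgroupOf H).map ι with hM'
    have htgt : tgtSub M' = tgtSub L' := by
      ext y
      constructor
      · rintro ⟨_, ⟨k, hk, rfl⟩, rfl⟩
        exact mem_tgtSub (show (k : S × S) ∈ L' from hk)
      · rintro ⟨k, hk, rfl⟩
        exact ⟨ι ⟨k, hle hk⟩, ⟨⟨k, hle hk⟩, hk, rfl⟩, rfl⟩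
    have hsrc : ∀ x ∈ srcSub L', x ∈ nPhi S (srcSub L) (g ∘ f) := by
      rintro _ ⟨k, hk, rfl⟩
      exact (hN k (hle hk)).1
    have hcardL' : n + 1 ≤ Nat.card L' := by
      rw [← hLn]
      exact Set.Finite.card_lt_card (Set.toFinite _) (SetLike.coe_ssubset_coe.2 hlt)
    have hT1 : TwDiag F L' → TwDiag F M' := by
      rintro ⟨e, he, hev⟩
      obtain ⟨R, hR⟩ := (hψm.mono hsrc).exists_iso
      obtain ⟨σ, hσ, hσ1, -⟩ := hR.exists_symm
      have hsub : srcSub M' ≤ R := by
        rintro _ ⟨_, ⟨k, hk, rfl⟩, rfl⟩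
        exact hR.mem (mem_srcSub (show (k : S × S) ∈ L' from hk))
      refine ⟨e ∘ σ, (hσ.isMap.comp he fun _ hx => hσ.mem hx).mono hsub, ?_⟩
      rintro _ ⟨k, hk, rfl⟩
      show e (σ (ψ (k : S × S).1)) = ((k : S × S).2 : Ω)
      rw [hσ1 _ (mem_srcSub (show (k : S × S) ∈ L' from hk))]
      exact hev k hk
    have hT2 : TwDiag F M' → TwDiag F L' := by
      rintro ⟨e, he, hev⟩
      refine ⟨e ∘ ψ, (hψm.mono hsrc).comp he ?_, fun k hk => ?_⟩
      · rintro _ ⟨k, hk, rfl⟩
        exact ⟨ι ⟨k, hle hk⟩, ⟨⟨k, hle hk⟩, hk, rfl⟩, rfl⟩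
      · exact hev (ι ⟨k, hle hk⟩) ⟨⟨k, hle hk⟩, hk, rfl⟩
    by_cases hT : TwDiag F L'
    · exact hst L' M' hT (hT1 hT) hcardL' htgt.symm
    · rw [fixN_eq_zero hX hT, fixN_eq_zero hX fun h => hT (hT2 h)]
  -- Burnside counting on the points fixed by `L` and by its image
  have := Fintype.ofFinite H
  have := Fintype.ofFinite X
  let Y := {x : X // L ≤ stabilizer (S × S) x}
  let Y₀ := {x : X // d.range ≤ stabilizer (S × S) x}
  have hnorm : ∀ k : H, L.map (MulAut.conj (k : S × S)).toMonoidHom = L := by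
    intro k
    ext z
    constructor
    · rintro ⟨l, hl, rfl⟩
      exact (Subgroup.mem_normalizer_iff.1 k.2 l).1 hl
    · intro hz
      refine ⟨(k : S × S)⁻¹ * z * k, (Subgroup.mem_normalizer_iff.1 k.2 _).2 ?_, ?_⟩
      · simpa [mul_assoc] using hz
      · simp [mul_assoc]
  have hnorm₀ : ∀ k : H, d.range.map (MulAut.conj (ι k)).toMonoidHom = d.range := by
    intro k
    rw [← hιL, Subgroup.map_map]
    have : (MulAut.conj (ι k)).toMonoidHom.comp ι = ι.comp (MulAut.conj k).toMonoidHom := by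
      ext z <;> simp
    rw [this, ← Subgroup.map_map]
    congr 1
    ext z
    constructor
    · rintro ⟨l, hl, rfl⟩
      exact (Subgroup.mem_normalizer_iff.1 k.2 _).1 hl
    · intro hz
      refine ⟨k⁻¹ * z * k, ?_, by simp [mul_assoc]⟩
      rw [Subgroup.mem_subgroupOf] at hz
      show (k : S × S)⁻¹ * z * k ∈ L
      exact (Subgroup.mem_normalizer_iff.1 k.2 _).2 (by simpa [mul_assoc] using hz)
  let _ : MulAction H Y :=
    { smul := fun k y => ⟨(k : S × S) • y.1, by
        rw [stabilizer_smul_eq_stabilizer_map_conj]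
        exact (hnorm k).ge.trans (Subgroup.map_mono y.2)⟩
      one_smul := fun y => Subtype.ext (one_smul (S × S) y.1)
      mul_smul := fun a b y => Subtype.ext (mul_smul (a : S × S) b y.1) }
  let _ : MulAction H Y₀ :=
    { smul := fun k y => ⟨ι k • y.1, by
        rw [stabilizer_smul_eq_stabilizer_map_conj]
        exact (hnorm₀ k).ge.trans (Subgroup.map_mono y.2)⟩
      one_smul := fun y => Subtype.ext (by show ι 1 • y.1 = y.1; rw [map_one, one_smul])
      mul_smul := fun a b y => Subtype.ext (by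
        show ι (a * b) • y.1 = ι a • ι b • y.1
        rw [map_mul, mul_smul]) }
  let F₁ : H → ℕ := fun k => Nat.card (fixedBy Y k)
  let F₂ : H → ℕ := fun k => Nat.card (fixedBy Y₀ k)
  have hin : ∀ k : H, (k : S × S) ∈ L → F₁ k = fixN X L ∧ F₂ k = fixN X d.range := by
    intro k hk
    constructor
    · refine Nat.card_congr (Equiv.subtypeUnivEquiv fun y => ?_)
      exact Subtype.ext (mem_stabilizer_iff.1 (y.2 hk))
    · refine Nat.card_congr (Equiv.subtypeUnivEquiv fun y => ?_)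
      exact Subtype.ext (mem_stabilizer_iff.1 (y.2 (hιL ▸ ⟨k, hk, rfl⟩)))
  have hout : ∀ k : H, (k : S × S) ∉ L → F₁ k = F₂ k := by
    intro k hk
    have hle : L ⊔ Subgroup.zpowers (k : S × S) ≤ H := sup_le hLH (Subgroup.zpowers_le.2 k.2)
    have hlt : L < L ⊔ Subgroup.zpowers (k : S × S) :=
      lt_of_le_of_ne le_sup_left fun h =>
        hk (h ▸ Subgroup.mem_sup_right (Subgroup.mem_zpowers _))
    have h1 : ((L ⊔ Subgroup.zpowers (k : S × S)).subgroupOf H).map ι =
        d.range ⊔ Subgroup.zpowers (ι k) := by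
      rw [Subgroup.subgroupOf_sup hLH (Subgroup.zpowers_le.2 k.2), Subgroup.map_sup, hιL]
      congr 1
      rw [← MonoidHom.map_zpowers]
      congr 1
      ext z
      simp only [Subgroup.mem_subgroupOf, Subgroup.mem_zpowers_iff]
      exact ⟨fun ⟨i, hi⟩ => ⟨i, Subtype.ext (by simpa using hi)⟩,
        fun ⟨i, hi⟩ => ⟨i, by rw [← hi]; simp⟩⟩
    have key := hbig _ hlt hle
    rw [h1] at key
    have e1 : F₁ k = fixN X (L ⊔ Subgroup.zpowers (k : S × S)) := by
      refine Nat.card_congr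
        { toFun := fun y => ⟨y.1.1, sup_le y.1.2 (Subgroup.zpowers_le.2
            (mem_stabilizer_iff.2 (congrArg Subtype.val y.2)))⟩
          invFun := fun x => ⟨⟨x.1, le_sup_left.trans x.2⟩, Subtype.ext (mem_stabilizer_iff.1
            (x.2 (Subgroup.mem_sup_right (Subgroup.mem_zpowers _))))⟩
          left_inv := fun y => rfl
          right_inv := fun x => rfl }
    have e2 : F₂ k = fixN X (d.range ⊔ Subgroup.zpowers (ι k)) := by
      refine Nat.card_congr
        { toFun := fun y => ⟨y.1.1, sup_le y.1.2 (Subgroup.zpowers_le.2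
            (mem_stabilizer_iff.2 (congrArg Subtype.val y.2)))⟩
          invFun := fun x => ⟨⟨x.1, le_sup_left.trans x.2⟩, Subtype.ext (mem_stabilizer_iff.1
            (x.2 (Subgroup.mem_sup_right (Subgroup.mem_zpowers _))))⟩
          left_inv := fun y => rfl
          right_inv := fun x => rfl }
    rw [e1, e2, key]
  have hdvd : ∀ (Z : Type u) [MulAction H Z] [Finite Z],
      ∑ k : H, Nat.card (fixedBy Z k) ≡ 0 [MOD Fintype.card H] := by
    intro Z _ _
    have := Fintype.ofFinite Z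
    have := Fintype.ofFinite (Quotient (orbitRel H Z))
    have h := sum_card_fixedBy_eq_card_orbits_mul_card_group H Z
    simp only [Nat.card_eq_fintype_card]
    rw [h]
    exact Nat.modEq_zero_iff_dvd.2 (dvd_mul_left _ _)
  have hsum : ∑ k : H, F₁ k ≡ ∑ k : H, F₂ k [MOD Fintype.card H] :=
    (hdvd Y).trans (hdvd Y₀).symm
  rw [← Finset.sum_filter_add_sum_filter_not Finset.univ (fun k : H => (k : S × S) ∈ L) F₁,
    ← Finset.sum_filter_add_sum_filter_not Finset.univ (fun k : H => (k : S × S) ∈ L) F₂] at hsum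
  have hrest : ∑ k ∈ Finset.univ.filter (fun k : H => (k : S × S) ∉ L), F₁ k =
      ∑ k ∈ Finset.univ.filter (fun k : H => (k : S × S) ∉ L), F₂ k :=
    Finset.sum_congr rfl fun k hk => hout k (Finset.mem_filter.1 hk).2
  rw [hrest] at hsum
  have hsum' := Nat.ModEq.add_right_cancel' _ hsum
  have hc : (Finset.univ.filter (fun k : H => (k : S × S) ∈ L)).card = Nat.card L := by
    rw [← Fintype.card_subtype, ← Nat.card_eq_fintype_card]
    exact Nat.card_congr (Subgroup.subgroupOfEquivOfLe hLH).toEquiv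
  rw [Finset.sum_congr rfl (g := fun _ => fixN X L)
      (fun k hk => (hin k (Finset.mem_filter.1 hk).2).1),
    Finset.sum_congr rfl (g := fun _ => fixN X d.range)
      (fun k hk => (hin k (Finset.mem_filter.1 hk).2).2),
    Finset.sum_const, Finset.sum_const, hc, smul_eq_mul, smul_eq_mul] at hsum'
  have hcardH : Fintype.card H = Nat.card L * L.relIndex H := by
    rw [← Nat.card_eq_fintype_card, ← (L.subgroupOf H).card_mul_index, Subgroup.relIndex]
    congr 1
    exact Nat.card_congr (Subgroup.subgroupOfEquivOfLe hLH).toEquiv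
  rw [hcardH] at hsum'
  exact Nat.ModEq.mul_left_cancel' Nat.card_pos.ne' hsum'

/-- Existence of a set with stabilizers graphs of maps, stable from `n` on, and `c * #S` points
with `p` not dividing `c`. -/
def GoodFrom (F : FusionSystem S) (p n : ℕ) : Prop :=
  ∃ (X : Type u) (_ : MulAction (S × S) X), Finite X ∧ TwFree F X ∧ StableFrom F X n ∧
    ∃ c, Nat.card X = c * Nat.card S ∧ ¬ p ∣ c

omit [Finite S] [Fact p.Prime] in
theorem srcSub_eq_of_card [Finite S] {L : Subgroup (S × S)} (hL : TwDiag F L)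
    (h : Nat.card S ≤ Nat.card L) : srcSub L = S :=
  Subgroup.eq_of_le_of_card_ge (srcSub_le L) (h.trans hL.card_srcSub.ge)

theorem goodFrom_card (hS : IsPGroup p S) (hF : F.IsSaturated p) :
    GoodFrom F p (Nat.card S) := by
  classical
  have hfn : F.IsFullyNormalized S := by
    refine ⟨le_rfl, fun R hR => ?_⟩
    obtain ⟨g, hg⟩ := isConj_iff.1 hR
    rw [show R = S from Subgroup.eq_of_le_of_card_ge hg.le_right hg.card_eq.ge]
  have := finite_mulAut S
  set A := F.autGroup S with hA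
  set I := (autInducedBy S S).subgroupOf A with hI
  obtain ⟨T, hT⟩ : ∃ T : Sylow p A, (T : Subgroup A) = I :=
    (isFullyAutomized_of_isFullyNormalized hS hF hfn).2
  let β : A ⧸ I → MulAut S := fun q => ((Quotient.out q : A) : MulAut S)⁻¹
  have hβA : ∀ q, β q ∈ A := fun q => A.inv_mem (Quotient.out q).2
  let act : MulAction (S × S) ((A ⧸ I) × S) :=
    { smul := fun k x => (x.1, k.2 * x.2 * (β x.1 k.1)⁻¹)
      one_smul := fun x => by
        refine Prod.ext rfl ?_
        show (1 : S) * x.2 * (β x.1 1)⁻¹ = x.2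
        rw [map_one, inv_one, one_mul, mul_one]
      mul_smul := fun a b x => by
        refine Prod.ext rfl ?_
        show (a.2 * b.2) * x.2 * (β x.1 (a.1 * b.1))⁻¹ =
          a.2 * (b.2 * x.2 * (β x.1 b.1)⁻¹) * (β x.1 a.1)⁻¹
        rw [map_mul, mul_inv_rev]
        simp only [mul_assoc] }
  have hmem : ∀ (k : S × S) (x : (A ⧸ I) × S),
      k ∈ stabilizer (S × S) x ↔ k.2 = x.2 * β x.1 k.1 * x.2⁻¹ := by
    intro k x
    rw [mem_stabilizer_iff]
    show (x.1, k.2 * x.2 * (β x.1 k.1)⁻¹) = x ↔ _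
    constructor
    · intro h
      have h2 : k.2 * x.2 * (β x.1 k.1)⁻¹ = x.2 := congrArg Prod.snd h
      calc k.2 = k.2 * x.2 * (β x.1 k.1)⁻¹ * (β x.1 k.1 * x.2⁻¹) := by group
        _ = x.2 * β x.1 k.1 * x.2⁻¹ := by rw [h2]; group
    · intro h
      refine Prod.ext rfl ?_
      show k.2 * x.2 * (β x.1 k.1)⁻¹ = x.2
      rw [h]
      simp [mul_assoc]
  refine ⟨(A ⧸ I) × S, act, inferInstance, fun x => ?_, fun L M hL hM hcard _ => ?_,
    Nat.card (A ⧸ I), Nat.card_prod _ _, ?_⟩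
  · refine ⟨(fun y => (x.2 : Ω) * y * (x.2 : Ω)⁻¹) ∘ autFun (β x.1),
      ((((mem_autGroup_iff le_rfl _).1 (hβA x.1)).isMap.comp (isMap_conj le_rfl x.2.2)
        fun y hy => autFun_mem _ hy)).mono (srcSub_le _), fun k hk => ?_⟩
    show (x.2 : Ω) * autFun (β x.1) (k.1 : Ω) * (x.2 : Ω)⁻¹ = k.2
    rw [autFun_coe, (hmem k x).1 hk]
    simp
  · suffices hall : ∀ L : Subgroup (S × S), TwDiag F L → Nat.card S ≤ Nat.card L →
        fixN ((A ⧸ I) × S) L = Nat.card {s : S // ∀ y : S, s * y = y * s} by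
      rw [hall L hL hcard, hall M hM ?_]
      rw [← hM.card_tgtSub, ← ‹tgtSub L = tgtSub M›, hL.card_tgtSub]
      exact hcard
    intro L hL hcard
    have hsrc := srcSub_eq_of_card hL hcard
    obtain ⟨f, hf, hv⟩ := hL.isIso
    have htgt : tgtSub L = S :=
      Subgroup.eq_of_le_of_card_ge (tgtSub_le L) (hcard.trans hL.card_tgtSub.ge)
    rw [hsrc, htgt] at hf
    obtain ⟨α, hα, hαv⟩ := exists_mem_autGroup hf
    let q : A ⧸ I := QuotientGroup.mk (⟨α, hα⟩⁻¹ : A)
    have hfix : ∀ x : (A ⧸ I) × S, L ≤ stabilizer (S × S) x ↔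
        ∀ y : S, α y = x.2 * β x.1 y * x.2⁻¹ := by
      intro x
      constructor
      · intro h y
        obtain ⟨k, hk, hky⟩ := hsrc.ge y.2
        have hky' : k.1 = y := Subtype.ext hky
        rw [← hky', ← (hmem k x).1 (h hk)]
        exact Subtype.ext ((hαv _).trans (hv k hk))
      · intro h k hk
        rw [hmem, ← h]
        exact Subtype.ext ((hv k hk).symm.trans (hαv _).symm)
    have hx1 : ∀ x : (A ⧸ I) × S, L ≤ stabilizer (S × S) x → x.1 = q := by
      intro x hx
      rw [← QuotientGroup.out_eq' x.1]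
      refine QuotientGroup.eq.2 ?_
      show ((Quotient.out x.1 : A) : MulAut S)⁻¹ * α⁻¹ ∈ autInducedBy S S
      refine (mem_autInducedBy_iff S S _).2 ⟨(x.2 : Ω)⁻¹, S.inv_mem x.2.2, fun y => ?_⟩
      have h1 := (hfix x).1 hx (α⁻¹ y)
      rw [MulAut.apply_inv_self] at h1
      show ((β x.1 (α⁻¹ y) : S) : Ω) = _
      conv_rhs => rw [h1]
      simp [mul_assoc]
    obtain ⟨s₀, hs₀⟩ : ∃ s₀ : S, ∀ y : S, α y = s₀ * β q y * s₀⁻¹ := by
      have h1 : (⟨α, hα⟩⁻¹ : A)⁻¹ * Quotient.out q ∈ I :=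
        QuotientGroup.eq.1 (QuotientGroup.out_eq' q).symm
      rw [inv_inv] at h1
      obtain ⟨g, hg, hgv⟩ := (mem_autInducedBy_iff S S _).1 h1
      refine ⟨⟨g, hg⟩, fun y => Subtype.ext ?_⟩
      have := hgv (β q y)
      simp only [Subgroup.coe_mul, Subgroup.coe_inv]
      rw [← this]
      congr 1
      show α y = α ((Quotient.out q : A).1 (((Quotient.out q : A).1)⁻¹ y))
      rw [MulAut.apply_inv_self]
    refine Nat.card_congr
      { toFun := fun x => ⟨s₀⁻¹ * x.1.2, fun y => ?_⟩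
        invFun := fun s => ⟨(q, s₀ * s.1), (hfix _).2 fun y => ?_⟩
        left_inv := fun x => Subtype.ext (Prod.ext (hx1 x.1 x.2).symm (mul_inv_cancel_left _ _))
        right_inv := fun s => Subtype.ext (inv_mul_cancel_left _ _) }
    · have h1 := (hfix x.1).1 x.2 ((β q)⁻¹ y)
      rw [hx1 x.1 x.2, MulAut.apply_inv_self, hs₀, MulAut.apply_inv_self] at h1
      have h2 : s₀ * y = x.1.2 * y * x.1.2⁻¹ * s₀ := by rw [← h1]; simp [mul_assoc]
      have h3 : y = s₀⁻¹ * (x.1.2 * y * x.1.2⁻¹ * s₀) := by rw [← h2]; simp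
      conv_rhs => rw [h3]
      simp [mul_assoc]
    · show α y = (s₀ * s.1) * β q y * (s₀ * s.1)⁻¹
      rw [hs₀, mul_inv_rev, mul_assoc s₀ s.1, s.2 (β q y)]
      simp [mul_assoc]
  · rw [← Subgroup.index_eq_card, ← hT]
    exact T.not_dvd_index

theorem goodFrom_step (hS : IsPGroup p S) (hF : F.IsSaturated p) {n : ℕ} (hn : n < Nat.card S)
    (h : GoodFrom F p (n + 1)) : GoodFrom F p n := by
  classical
  obtain ⟨X, act, hfin, hfree, hst, c, hc, hpc⟩ := h
  -- congruence targets, constant on conjugate second projections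
  choose cQ hcQ using exists_modEq hS hF hfree hst
  let crel : Setoid (Subgroup Ω) :=
    { r := fun Q R => ∃ s ∈ S, R = Q.map (MulAut.conj s).toMonoidHom
      iseqv := ⟨fun Q => ⟨1, S.one_mem, by ext; simp⟩,
        fun {Q R} ⟨s, hs, e⟩ => ⟨s⁻¹, S.inv_mem hs, by
          subst e; ext y; simp [mul_assoc]⟩,
        fun {Q R T} ⟨s, hs, e⟩ ⟨t, ht, e'⟩ => ⟨t * s, S.mul_mem ht hs, by
          subst e e'
          rw [Subgroup.map_map]
          congr 1
          ext y
          simp [mul_assoc]⟩⟩ }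
  let rep : Subgroup Ω → Subgroup Ω := fun Q => (Quotient.mk crel Q).out
  let v : Subgroup (S × S) → ℕ := fun L =>
    cQ (rep (tgtSub L)) + (Nat.card X + 1) * Nat.card (S × S)
  have hrel : ∀ (L : Subgroup (S × S)) (k : S × S),
      (L.map (MulAut.conj k).toMonoidHom).relIndex
        (Subgroup.normalizer ((L.map (MulAut.conj k).toMonoidHom : Subgroup (S × S)) : Set _)) =
      L.relIndex (Subgroup.normalizer (L : Set _)) := by
    intro L k
    rw [show Subgroup.normalizer ((L.map (MulAut.conj k).toMonoidHom : Subgroup (S × S)) :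
      Set (S × S)) = (Subgroup.normalizer (L : Set (S × S))).map (MulAut.conj k).toMonoidHom from
      (Subgroup.map_equiv_normalizer_eq L (MulAut.conj k)).symm]
    exact Subgroup.relIndex_map_map_of_injective _ _ (MulAut.conj k).injective
  have hidx : ∀ L : Subgroup (S × S),
      0 < L.relIndex (Subgroup.normalizer (L : Set _)) ∧
      L.relIndex (Subgroup.normalizer (L : Set _)) ∣ Nat.card (S × S) := fun L =>
    ⟨Nat.pos_of_ne_zero Subgroup.index_ne_zero_of_finite,
      ((Subgroup.index_dvd_card _).trans (Subgroup.card_subgroup_dvd_card _))⟩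
  have hdiv : ∀ L : Subgroup (S × S), TwDiag F L → Nat.card L = n →
      fixN X L ≤ v L ∧ L.relIndex (Subgroup.normalizer (L : Set _)) ∣ v L - fixN X L := by
    intro L hL hLn
    have hle : fixN X L ≤ v L := by
      have h1 : fixN X L ≤ Nat.card X := Finite.card_subtype_le _
      have h2 : Nat.card X + 1 ≤ (Nat.card X + 1) * Nat.card (S × S) :=
        Nat.le_mul_of_pos_right _ Nat.card_pos
      show fixN X L ≤ cQ _ + _
      omega
    refine ⟨hle, ?_⟩
    obtain ⟨s, hs, hsQ⟩ : crel.r (tgtSub L) (rep (tgtSub L)) :=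
      crel.iseqv.symm (Quotient.exact (Quotient.out_eq (Quotient.mk crel (tgtSub L))))
    let k : S × S := (1, ⟨s, hs⟩)
    have h1 := hcQ (rep (tgtSub L)) _ (hL.map_conj k)
      ((Nat.card_congr (Subgroup.equivMapOfInjective L _ (MulAut.conj k).injective).toEquiv).symm.trans
        hLn) ((tgtSub_map_conj L k).trans hsQ.symm)
    rw [fixN_map_conj, hrel] at h1
    refine (Nat.modEq_iff_dvd' hle).1 (h1.trans ?_)
    exact (Nat.modEq_iff_dvd' (Nat.le_add_right _ _)).2
      (by rw [Nat.add_sub_cancel_left]; exact (hidx L).2.mul_left _)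
  -- the added orbits
  let Cand := {L : Subgroup (S × S) // TwDiag F L ∧ Nat.card L = n}
  let lrel : Setoid Cand :=
    { r := fun L M => ∃ k, M.1 = L.1.map (MulAut.conj k).toMonoidHom
      iseqv := ⟨fun L => ⟨1, by ext; simp⟩,
        fun {L M} ⟨k, e⟩ => ⟨k⁻¹, by
          rw [e, Subgroup.map_map]
          conv_lhs => rw [← Subgroup.map_id L.1]
          congr 1
          ext y <;> simp [mul_assoc]⟩,
        fun {L M N} ⟨k, e⟩ ⟨l, e'⟩ => ⟨l * k, by
          rw [e', e, Subgroup.map_map]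
          congr 1
          ext y <;> simp [mul_assoc]⟩⟩ }
  let Lq : Quotient lrel → Subgroup (S × S) := fun q => q.out.1
  let m : Quotient lrel → ℕ := fun q =>
    (v (Lq q) - fixN X (Lq q)) / (Lq q).relIndex (Subgroup.normalizer (Lq q : Set _))
  have := Fintype.ofFinite (Quotient lrel)
  let Y := Σ i : (Σ q : Quotient lrel, Fin (m q)), (S × S) ⧸ Lq i.1
  have hstab : ∀ (y : Y), ∃ k : S × S, stabilizer (S × S) y =
      (Lq y.1.1).map (MulAut.conj k).toMonoidHom := by
    rintro ⟨i, y⟩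
    obtain ⟨k, rfl⟩ := QuotientGroup.mk_surjective y
    refine ⟨k, ?_⟩
    have h1 : stabilizer (S × S) (⟨i, (k : (S × S) ⧸ Lq i.1)⟩ : Y) =
        stabilizer (S × S) (k : (S × S) ⧸ Lq i.1) := by
      ext g
      simp only [mem_stabilizer_iff]
      exact ⟨fun h => eq_of_heq (Sigma.ext_iff.1 h).2, fun h => congrArg (Sigma.mk i) h⟩
    rw [h1, show (k : (S × S) ⧸ Lq i.1) = k • ((1 : S × S) : (S × S) ⧸ Lq i.1) by simp,
      stabilizer_smul_eq_stabilizer_map_conj, stabilizer_quotient]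
  have hYfree : TwFree F Y := fun y => by
    obtain ⟨k, hk⟩ := hstab y
    rw [hk]
    exact (Quotient.out y.1.1).2.1.map_conj k
  have hcardq : ∀ q, Nat.card (Lq q) = n := fun q => q.out.2.2
  have hYbig : ∀ L : Subgroup (S × S), n < Nat.card L → fixN Y L = 0 := by
    intro L hL
    have : IsEmpty {y : Y // L ≤ stabilizer (S × S) y} := ⟨fun y => by
      obtain ⟨k, hk⟩ := hstab y.1
      have h1 := Subgroup.card_le_of_le (hk ▸ y.2)
      rw [← Nat.card_congr (Subgroup.equivMapOfInjective _ _ (MulAut.conj k).injective).toEquiv,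
        hcardq] at h1
      omega⟩
    exact Nat.card_of_isEmpty
  have hYeq : ∀ q, fixN Y (Lq q) = m q * (Lq q).relIndex (Subgroup.normalizer (Lq q : Set _)) := by
    intro q
    have hi : ∀ (i : Σ q : Quotient lrel, Fin (m q)) (y : (S × S) ⧸ Lq i.1),
        Lq q ≤ stabilizer (S × S) (⟨i, y⟩ : Y) → i.1 = q := by
      intro i y h
      obtain ⟨k, hk⟩ := hstab ⟨i, y⟩
      rw [hk] at h
      have h2 := Subgroup.eq_of_le_of_card_ge h (by
        rw [← Nat.card_congr (Subgroup.equivMapOfInjective _ _ (MulAut.conj k).injective).toEquiv,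
          hcardq, hcardq])
      rw [← Quotient.out_eq i.1, ← Quotient.out_eq q]
      exact Quotient.sound ⟨k, h2⟩
    let e : {y : Y // Lq q ≤ stabilizer (S × S) y} ≃
        Fin (m q) × fixedPoints (Lq q) ((S × S) ⧸ Lq q) := by
      refine Equiv.symm (Equiv.ofBijective
        (fun a => ⟨⟨⟨q, a.1⟩, a.2.1⟩, fun l hl => ?_⟩) ⟨?_, ?_⟩)
      · rw [mem_stabilizer_iff]
        exact congrArg (Sigma.mk (⟨q, a.1⟩ : Σ q : Quotient lrel, Fin (m q)))
          (a.2.2 ⟨l, hl⟩)
      · rintro ⟨a, y⟩ ⟨b, z⟩ e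
        obtain ⟨e1, e2⟩ := Sigma.mk.inj (congrArg Subtype.val e)
        obtain rfl : a = b := eq_of_heq (Sigma.mk.inj e1).2
        exact Prod.ext rfl (Subtype.ext (eq_of_heq e2))
      · rintro ⟨⟨⟨q', a⟩, y⟩, hy⟩
        obtain rfl : q' = q := hi ⟨q', a⟩ y hy
        refine ⟨(a, ⟨y, fun l => ?_⟩), rfl⟩
        have := mem_stabilizer_iff.1 (hy l.2)
        exact eq_of_heq (Sigma.ext_iff.1 this).2
    rw [fixN, Nat.card_congr e, Nat.card_prod, Nat.card_fin, Subgroup.relIndex,
      Subgroup.index_eq_card]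
    exact congrArg _ (Nat.card_congr (Sylow.fixedPointsMulLeftCosetsEquivQuotient (Lq q)))
  refine ⟨X ⊕ Y, inferInstance, inferInstance, ?_, ?_, ?_⟩
  · rintro (x | y)
    · have : stabilizer (S × S) (Sum.inl x : X ⊕ Y) = stabilizer (S × S) x := by
        ext k; simp [mem_stabilizer_iff]
      rw [this]; exact hfree x
    · have : stabilizer (S × S) (Sum.inr y : X ⊕ Y) = stabilizer (S × S) y := by
        ext k; simp [mem_stabilizer_iff]
      rw [this]; exact hYfree y
  · have hadd : ∀ L : Subgroup (S × S), fixN (X ⊕ Y) L = fixN X L + fixN Y L := by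
      intro L
      rw [fixN, fixN, fixN, ← Nat.card_sum]
      refine Nat.card_congr
        { toFun := fun z => match z with
            | ⟨Sum.inl x, h⟩ => Sum.inl ⟨x, fun k hk => by
                have := mem_stabilizer_iff.1 (h hk); simpa [mem_stabilizer_iff] using this⟩
            | ⟨Sum.inr y, h⟩ => Sum.inr ⟨y, fun k hk => by
                have := mem_stabilizer_iff.1 (h hk); simpa [mem_stabilizer_iff] using this⟩
          invFun := fun z => match z with
            | Sum.inl x => ⟨Sum.inl x.1, fun k hk => by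
                have := mem_stabilizer_iff.1 (x.2 hk); simpa [mem_stabilizer_iff] using this⟩
            | Sum.inr y => ⟨Sum.inr y.1, fun k hk => by
                have := mem_stabilizer_iff.1 (y.2 hk); simpa [mem_stabilizer_iff] using this⟩
          left_inv := by rintro ⟨x | y, h⟩ <;> rfl
          right_inv := by rintro (x | y) <;> rfl }
    have hval : ∀ L : Subgroup (S × S), TwDiag F L → Nat.card L = n →
        fixN (X ⊕ Y) L = v L := by
      intro L hL hLn
      let q : Quotient lrel := Quotient.mk lrel ⟨L, hL, hLn⟩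
      obtain ⟨k, hk⟩ : ∃ k, L = (Lq q).map (MulAut.conj k).toMonoidHom :=
        Quotient.exact (Quotient.out_eq q)
      have hq := hdiv (Lq q) q.out.2.1 (hcardq q)
      have hv : v L = v (Lq q) := by
        show cQ _ + _ = cQ _ + _
        congr 2
        show Quotient.out _ = Quotient.out _
        congr 1
        refine (Quotient.sound ?_).symm
        exact ⟨k.2, k.2.2, by rw [hk, tgtSub_map_conj]⟩
      rw [hv, hk, fixN_map_conj, hadd, hYeq, Nat.div_mul_cancel hq.2]
      exact Nat.add_sub_cancel' hq.1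
    intro L M hL hM hcard htgt
    have hML : Nat.card M = Nat.card L := by rw [← hM.card_tgtSub, ← htgt, hL.card_tgtSub]
    rcases eq_or_lt_of_le hcard with he | hlt
    · rw [hval L hL he.symm, hval M hM (hML.trans he.symm)]
      show cQ _ + _ = cQ _ + _
      rw [htgt]
    · rw [hadd, hadd, hYbig L hlt, hYbig M (hML ▸ hlt), hst L M hL hM hlt htgt]
  · have hdY : p * Nat.card S ∣ Nat.card Y := by
      rw [Nat.card_sigma]
      refine Finset.dvd_sum fun i _ => ?_
      obtain ⟨a, ha⟩ := hS.exists_card_eq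
      have hn' : n ∣ Nat.card S := by
        rw [← hcardq i.1, ← (Quotient.out i.1).2.1.card_tgtSub]
        exact Subgroup.card_dvd_of_le (tgtSub_le _)
      obtain ⟨b, hb, rfl⟩ := (Nat.dvd_prime_pow Fact.out).1 (ha ▸ hn')
      have hba : b < a := by
        rw [ha] at hn
        exact (Nat.pow_lt_pow_iff_right (Fact.out : p.Prime).one_lt).1 hn
      have h2 : Nat.card ((S × S) ⧸ Lq i.1) * p ^ b = p ^ a * p ^ a := by
        rw [← hcardq i.1, ← Subgroup.card_eq_card_quotient_mul_card_subgroup, Nat.card_prod, ha]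
      refine Nat.dvd_of_mul_dvd_mul_right (pow_pos (Fact.out : p.Prime).pos b) ?_
      rw [h2, ha, ← pow_succ', ← pow_add, ← pow_add]
      exact pow_dvd_pow p (by omega)
    obtain ⟨d, hd⟩ := hdY
    refine ⟨c + p * d, by rw [Nat.card_sum, hc, hd]; ring, ?_⟩
    rwa [Nat.dvd_add_left (dvd_mul_right p d)]

/-- The biset of a saturated fusion system: a finite `S × S`-set whose stabilizers are graphs of
maps, whose fixed points of graphs depend only on the second projection, with `c * #S` points for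
some `c` prime to `p`. -/
theorem exists_biset (hS : IsPGroup p S) (hF : F.IsSaturated p) : GoodFrom F p 0 := by
  suffices h : ∀ k ≤ Nat.card S, GoodFrom F p (Nat.card S - k) by
    simpa using h _ le_rfl
  intro k hk
  induction k with
  | zero => exact goodFrom_card hS hF
  | succ k ih =>
    refine goodFrom_step hS hF (by omega) ?_
    rw [show Nat.card S - (k + 1) + 1 = Nat.card S - k by omega]
    exact ih (by omega)

end CfsgLib.Fusion
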