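import Mathlib
import Cfsg.Agent.Lib.Fusion.Biset
import Cfsg.Agent.Lib.Fusion.Hyperfocal

/-!
Transfer in saturated fusion systems, through the biset.
-/

set_option autoImplicit false

namespace CfsgLib.Fusion

open Cfsg Cfsg.FusionSystem MulAction

universe u

variable {Ω : Type u} [Group Ω] {S : Subgroup Ω} {F : FusionSystem S} {p : ℕ}
  {X : Type u} [MulAction (S × S) X]

variable (S X) in
/-- The orbits of the second factor. -/
def rOrb : Setoid X where
  r x y := ∃ s : S, ((1, s) : S × S) • x = y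
  iseqv := ⟨fun x => ⟨1, one_smul (S × S) x⟩,
    fun {x y} ⟨s, hs⟩ => ⟨s⁻¹, by subst hs; rw [smul_smul]; simp [Prod.mk_one_one]⟩,
    fun {x y z} ⟨s, hs⟩ ⟨t, ht⟩ => ⟨t * s, by
      subst hs ht; rw [smul_smul]; simp⟩⟩

theorem rOrb_smul {x y : X} (u : S) (h : (rOrb S X).r x y) :
    (rOrb S X).r (((u, 1) : S × S) • x) (((u, 1) : S × S) • y) := by
  obtain ⟨s, rfl⟩ := h
  exact ⟨s, by simp [smul_smul]⟩

/-- The action of the first factor on the orbits of the second. -/
def actQ (u : S) : Quotient (rOrb S X) → Quotient (rOrb S X) :=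
  Quotient.map (fun x => ((u, 1) : S × S) • x) fun _ _ h => rOrb_smul u h

theorem mk_smul (k : S × S) (x : X) :
    Quotient.mk (rOrb S X) (k • x) = actQ k.1 (Quotient.mk (rOrb S X) x) := by
  refine (Quotient.sound (s := rOrb S X) (show (rOrb S X).r (((k.1, 1) : S × S) • x) (k • x) from
    ⟨k.2, ?_⟩)).symm
  rw [smul_smul]
  simp

theorem actQ_mul (u v : S) (q : Quotient (rOrb S X)) : actQ (u * v) q = actQ u (actQ v q) := by
  induction q using Quotient.inductionOn with
  | h x =>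
    show Quotient.mk _ _ = Quotient.mk _ _
    dsimp only
    rw [smul_smul]
    simp

theorem actQ_one (q : Quotient (rOrb S X)) : actQ 1 q = q := by
  induction q using Quotient.inductionOn with
  | h x =>
    show Quotient.mk _ _ = Quotient.mk _ _
    dsimp only
    rw [show ((1, 1) : S × S) = 1 from rfl, one_smul]

/-- The permutation of the orbits given by an element of the first factor. -/
def permQ (u : S) : Equiv.Perm (Quotient (rOrb S X)) where
  toFun := actQ u
  invFun := actQ u⁻¹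
  left_inv q := by rw [← actQ_mul, inv_mul_cancel, actQ_one]
  right_inv q := by rw [← actQ_mul, mul_inv_cancel, actQ_one]

variable {r : Quotient (rOrb S X) → X}

theorem exists_cocycle (hr : ∀ q, Quotient.mk (rOrb S X) (r q) = q) (u : S)
    (q : Quotient (rOrb S X)) : ∃ s : S, ((u, s) : S × S) • r q = r (actQ u q) := by
  obtain ⟨s, hs⟩ := Quotient.exact (show Quotient.mk (rOrb S X) (((u, 1) : S × S) • r q) =
    Quotient.mk (rOrb S X) (r (actQ u q)) by rw [mk_smul, hr, hr])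
  exact ⟨s, by rw [← hs, smul_smul]; simp⟩

open Classical in
/-- The cocycle of a system of representatives `r`. -/
noncomputable def cocyc (r : Quotient (rOrb S X) → X) (u : S) (q : Quotient (rOrb S X)) : S :=
  if h : ∃ s : S, ((u, s) : S × S) • r q = r (actQ u q) then h.choose else 1

theorem cocyc_spec (hr : ∀ q, Quotient.mk (rOrb S X) (r q) = q) (u : S)
    (q : Quotient (rOrb S X)) : ((u, cocyc r u q) : S × S) • r q = r (actQ u q) := by
  have h := exists_cocycle hr u q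
  rw [cocyc, dif_pos h]
  exact h.choose_spec

theorem eq_of_smul_eq (hfree : TwFree F X) {a s t : S} {x : X}
    (h : ((a, s) : S × S) • x = ((a, t) : S × S) • x) : s = t := by
  have h1 : ((a, t) : S × S)⁻¹ * (a, s) ∈ stabilizer (S × S) x := by
    rw [mem_stabilizer_iff, mul_smul, h, inv_smul_smul]
  have h2 := (hfree x).eq_one_of_fst h1 (by simp)
  exact (inv_mul_eq_one.1 (congrArg (fun z : S × S => z.2) h2)).symm

theorem cocyc_eq (hfree : TwFree F X) (hr : ∀ q, Quotient.mk (rOrb S X) (r q) = q) {u s : S}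
    {q : Quotient (rOrb S X)} (h : ((u, s) : S × S) • r q = r (actQ u q)) : cocyc r u q = s :=
  eq_of_smul_eq hfree ((cocyc_spec hr u q).trans h.symm)

theorem cocyc_mul (hfree : TwFree F X) (hr : ∀ q, Quotient.mk (rOrb S X) (r q) = q) (u v : S)
    (q : Quotient (rOrb S X)) :
    cocyc r (u * v) q = cocyc r u (actQ v q) * cocyc r v q := by
  refine cocyc_eq hfree hr ?_
  rw [show ((u * v, cocyc r u (actQ v q) * cocyc r v q) : S × S) =
    (u, cocyc r u (actQ v q)) * (v, cocyc r v q) from rfl, mul_smul, cocyc_spec hr,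
    cocyc_spec hr, actQ_mul]

theorem card_eq_quotient_mul (hfree : TwFree F X) :
    Nat.card X = Nat.card (Quotient (rOrb S X)) * Nat.card S := by
  rw [← Nat.card_prod]
  refine (Nat.card_eq_of_bijective (fun z : Quotient (rOrb S X) × S =>
    ((1, z.2) : S × S) • Quotient.out z.1) ⟨?_, ?_⟩).symm
  · rintro ⟨q, s⟩ ⟨q', t⟩ e
    simp only at e
    have hq : q = q' := by
      have := congrArg (Quotient.mk (rOrb S X)) e
      simpa only [mk_smul, actQ_one, Quotient.out_eq] using this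
    subst hq
    exact Prod.ext rfl (eq_of_smul_eq hfree e)
  · intro x
    obtain ⟨s, hs⟩ := Quotient.mk_out (s := rOrb S X) x
    exact ⟨(Quotient.mk _ x, s), hs⟩

/-- Representatives adapted to a subgroup `W` of `S × S` that lies over `U` and contains the
stabilizers of suitable points. -/
theorem exists_reps (U : Subgroup S) (W : Subgroup (S × S)) (hW : ∀ k ∈ W, k.1 ∈ U)
    (hWU : ∀ u ∈ U, ∃ k ∈ W, k.1 = u)
    (hpt : ∀ x : X, ∃ k : S × S, k.1 ∈ U ∧
      ∀ l : S × S, l.1 ∈ U → l • (k • x) = k • x → l ∈ W) :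
    ∃ r : Quotient (rOrb S X) → X, (∀ q, Quotient.mk (rOrb S X) (r q) = q) ∧
      ∀ u ∈ U, ∀ q, (u, cocyc r u q) ∈ W := by
  let oU : Setoid X :=
    { r := fun x y => ∃ k : S × S, k.1 ∈ U ∧ k • x = y
      iseqv := ⟨fun x => ⟨1, U.one_mem, one_smul _ x⟩,
        fun {x y} ⟨k, hk, e⟩ => ⟨k⁻¹, U.inv_mem hk, by rw [← e, inv_smul_smul]⟩,
        fun {x y z} ⟨k, hk, e⟩ ⟨l, hl, e'⟩ => ⟨l * k, U.mul_mem hl hk, by rw [mul_smul, e, e']⟩⟩ }
  choose kp hkU hkp using hpt
  let base : X → X := fun x =>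
    kp (Quotient.out (Quotient.mk oU x)) • Quotient.out (Quotient.mk oU x)
  have hex : ∀ x : X, ∃ w ∈ W, Quotient.mk (rOrb S X) (w • base x) = Quotient.mk (rOrb S X) x := by
    intro x
    obtain ⟨k, hk, e⟩ : oU.r (base x) x :=
      oU.iseqv.trans (oU.iseqv.symm ⟨_, hkU _, rfl⟩) (Quotient.mk_out (s := oU) x)
    obtain ⟨w, hw, hwk⟩ := hWU k.1 hk
    refine ⟨w, hw, ?_⟩
    rw [mk_smul, hwk, ← mk_smul, e]
  choose wp hwW hwq using hex
  let r : Quotient (rOrb S X) → X := fun q => wp (Quotient.out q) • base (Quotient.out q)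
  have hr : ∀ q, Quotient.mk (rOrb S X) (r q) = q := fun q =>
    (hwq _).trans (Quotient.out_eq q)
  refine ⟨r, hr, fun u hu q => ?_⟩
  have hspec := cocyc_spec hr u q
  set q' := actQ u q with hq'
  have hsame : base (Quotient.out q') = base (Quotient.out q) := by
    have h1 : Quotient.mk oU (Quotient.out q') = Quotient.mk oU (Quotient.out q) := by
      refine Quotient.sound (oU.iseqv.symm ?_)
      obtain ⟨s, hs⟩ := Quotient.exact (show Quotient.mk (rOrb S X)
          (((u, 1) : S × S) • Quotient.out q) = Quotient.mk (rOrb S X) (Quotient.out q') by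
        rw [mk_smul, Quotient.out_eq, Quotient.out_eq])
      exact ⟨(1, s) * (u, 1), by simpa using hu, by rw [mul_smul, hs]⟩
    show kp _ • _ = kp _ • _
    rw [h1]
  change (u, cocyc r u q) • (wp (Quotient.out q) • base (Quotient.out q)) =
    wp (Quotient.out q') • base (Quotient.out q') at hspec
  rw [hsame, smul_smul, ← inv_smul_eq_iff, smul_smul] at hspec
  have h1 := hW _ (hwW (Quotient.out q'))
  have h2 := hW _ (hwW (Quotient.out q))
  have h3 := hkp _ ((wp (Quotient.out q'))⁻¹ * ((u, cocyc r u q) * wp (Quotient.out q)))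
    (U.mul_mem (U.inv_mem h1) (U.mul_mem hu h2)) hspec
  have h4 := W.mul_mem (W.mul_mem (hwW (Quotient.out q')) h3) (W.inv_mem (hwW (Quotient.out q)))
  simpa [mul_assoc] using h4

variable [Finite S]

/-- Points of `X` seen through a homomorphism into `S × S`. -/
def Via {G : Type*} [Group G] (_ρ : G →* S × S) (X : Type u) : Type u := X

instance {G : Type*} [Group G] (ρ : G →* S × S) : MulAction G (Via ρ X) :=
  MulAction.compHom X ρ

instance {G : Type*} [Group G] (ρ : G →* S × S) [Finite X] : Finite (Via ρ X) := ‹Finite X›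

theorem fixN_via {G : Type*} [Group G] (ρ : G →* S × S) (L : Subgroup G) :
    fixN (Via ρ X) L = fixN X (L.map ρ) := by
  refine Nat.card_congr (Equiv.subtypeEquiv (Equiv.refl X) fun x => ?_)
  rw [Subgroup.map_le_iff_le_comap]
  exact Iff.rfl

/-- A map of the system twists the points of a stable biset. -/
theorem exists_twist [Finite X] (hfree : TwFree F X) (hst : StableFrom F X 0) (P : Subgroup S)
    (ψ : P →* S) {f : Ω → Ω} (hf : IsMap F (P.map S.subtype) f)
    (hψ : ∀ x : P, (ψ x : Ω) = f (x : S)) :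
    ∃ Θ : X ≃ X, ∀ (x : P) (s : S) (a : X),
      Θ (((x : S), s) • a) = ((ψ x, s) : S × S) • Θ a := by
  let ρ₁ : P × S →* S × S := P.subtype.prodMap (MonoidHom.id S)
  let ρ₂ : P × S →* S × S := ψ.prodMap (MonoidHom.id S)
  have hfix : ∀ L : Subgroup (P × S), fixN (Via ρ₁ X) L = fixN (Via ρ₂ X) L := by
    intro L
    rw [fixN_via, fixN_via]
    obtain ⟨R, hR⟩ := hf.exists_iso
    obtain ⟨σ, hσ, hσ1, -⟩ := hR.exists_symm
    have htgt : tgtSub (L.map ρ₁) = tgtSub (L.map ρ₂) := by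
      simp only [tgtSub, Subgroup.map_map]
      congr 1
    have hsub : srcSub (L.map ρ₁) ≤ P.map S.subtype := by
      rintro _ ⟨_, ⟨k, -, rfl⟩, rfl⟩
      exact ⟨k.1, k.1.2, rfl⟩
    have h12 : TwDiag F (L.map ρ₁) → TwDiag F (L.map ρ₂) := by
      rintro ⟨e, he, hev⟩
      have hs2 : ∀ y ∈ srcSub (L.map ρ₂), y ∈ R ∧ σ y ∈ srcSub (L.map ρ₁) := by
        rintro _ ⟨_, ⟨k, hk, rfl⟩, rfl⟩
        show (ψ k.1 : Ω) ∈ R ∧ σ (ψ k.1 : Ω) ∈ srcSub (L.map ρ₁)
        rw [hψ]
        refine ⟨hR.mem ⟨k.1, k.1.2, rfl⟩, ?_⟩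
        rw [hσ1 ((k.1 : S) : Ω) ⟨k.1, k.1.2, rfl⟩]
        exact ⟨ρ₁ k, ⟨k, hk, rfl⟩, rfl⟩
      refine ⟨e ∘ σ, (hσ.isMap.mono fun y hy => (hs2 y hy).1).comp he fun y hy => (hs2 y hy).2,
        ?_⟩
      rintro _ ⟨k, hk, rfl⟩
      show e (σ (ψ k.1 : Ω)) = k.2
      rw [hψ, hσ1 ((k.1 : S) : Ω) ⟨k.1, k.1.2, rfl⟩]
      exact hev _ ⟨k, hk, rfl⟩
    have h21 : TwDiag F (L.map ρ₂) → TwDiag F (L.map ρ₁) := by
      rintro ⟨e, he, hev⟩
      refine ⟨e ∘ f, (hf.mono hsub).comp he ?_, ?_⟩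
      · rintro _ ⟨_, ⟨k, hk, rfl⟩, rfl⟩
        exact ⟨ρ₂ k, ⟨k, hk, rfl⟩, hψ k.1⟩
      · rintro _ ⟨k, hk, rfl⟩
        show e (f ((k.1 : S) : Ω)) = k.2
        rw [← hψ]
        exact hev _ ⟨k, hk, rfl⟩
    by_cases hT : TwDiag F (L.map ρ₁)
    · exact hst _ _ hT (h12 hT) (Nat.zero_le _) htgt
    · rw [fixN_eq_zero hfree hT, fixN_eq_zero hfree fun h => hT (h21 h)]
  obtain ⟨e, he⟩ := exists_equivariant_equiv hfix
  exact ⟨e, fun x s a => he (x, s) a⟩

/-- How the cocycle changes under a map of the system. -/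
theorem exists_cocyc_twist [Finite X] (hfree : TwFree F X) (hst : StableFrom F X 0)
    (hr : ∀ q, Quotient.mk (rOrb S X) (r q) = q) (P : Subgroup S)
    (ψ : P →* S) {f : Ω → Ω} (hf : IsMap F (P.map S.subtype) f)
    (hψ : ∀ x : P, (ψ x : Ω) = f (x : S)) :
    ∃ (e : Equiv.Perm (Quotient (rOrb S X))) (z : Quotient (rOrb S X) → S), ∀ (x : P) q,
      cocyc r (ψ x) (e q) = (z (actQ (x : S) q))⁻¹ * cocyc r (x : S) q * z q := by
  obtain ⟨Θ, hΘ⟩ := exists_twist hfree hst P ψ hf hψ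
  have hΘ1 : ∀ (s : S) (a : X), Θ (((1 : S), s) • a) = ((1, s) : S × S) • Θ a := fun s a => by
    have := hΘ 1 s a
    rwa [map_one, OneMemClass.coe_one] at this
  let e : Equiv.Perm (Quotient (rOrb S X)) := Quotient.congr Θ fun a b => by
    constructor
    · rintro ⟨s, rfl⟩; exact ⟨s, (hΘ1 s a).symm⟩
    · rintro ⟨s, hs⟩; exact ⟨s, Θ.injective ((hΘ1 s a).trans hs)⟩
  have hz : ∀ q, ∃ s : S, ((1, s) : S × S) • r (e q) = Θ (r q) := fun q =>
    Quotient.exact (show Quotient.mk (rOrb S X) (r (e q)) = Quotient.mk _ (Θ (r q)) by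
      rw [hr]; conv_lhs => rw [← hr q]
      rfl)
  choose z hz using hz
  refine ⟨e, z, fun x q => cocyc_eq hfree hr ?_⟩
  have h1 : ((ψ x, cocyc r (x : S) q) : S × S) • Θ (r q) = Θ (r (actQ (x : S) q)) := by
    rw [← hΘ, cocyc_spec hr]
  rw [← hz, ← hz, ← inv_smul_eq_iff, smul_smul, smul_smul] at h1
  have hact : actQ (ψ x) (e q) = e (actQ (x : S) q) := by
    conv_lhs => rw [← hr q]
    conv_rhs => rw [← hr q, ← mk_smul ((x : S), (1 : S))]
    show actQ (ψ x) (Quotient.mk _ (Θ (r q))) = Quotient.mk _ (Θ _)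
    rw [hΘ, mk_smul]
  rw [hact, ← h1]
  congr 1
  simp [mul_assoc]

end CfsgLib.Fusion
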