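import Mathlib
import Cfsg.Agent.Lib.Fusion.TransferMap
import Cfsg.Agent.Lib.Fusion.Normal
import Cfsg.Agent.Lib.Fusion.Ext
import Cfsg.Agent.Lib.Critical.Basic

/-!
The hyperfocal subgroup splits off modulo any central section, and Tate's theorem for fusion
systems.
-/

set_option autoImplicit false

namespace CfsgLib.Fusion

open Cfsg Cfsg.FusionSystem MulAction
open scoped commutatorElement

universe u

variable {Ω : Type u} [Group Ω] {S : Subgroup Ω} {F : FusionSystem S} {p : ℕ}
  [Finite S] [Fact p.Prime]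

/-- A biset with representatives count prime to `p`. -/
theorem exists_biset' (hS : IsPGroup p S) (hF : F.IsSaturated p) :
    ∃ (X : Type u) (_ : MulAction (S × S) X), Finite X ∧ TwFree F X ∧ StableFrom F X 0 ∧
      ¬ p ∣ Nat.card (Quotient (rOrb S X)) := by
  obtain ⟨X, act, hfin, hfree, hst, c, hc, hpc⟩ := exists_biset hS hF
  refine ⟨X, act, hfin, hfree, hst, ?_⟩
  have := card_eq_quotient_mul hfree
  rw [hc] at this
  rwa [← Nat.eq_of_mul_eq_mul_right Nat.card_pos this]

/-- An element fixed by all maps of the system and lying in the focal subgroup lies in the derived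
subgroup of `S`. -/
theorem mem_commutator_of_fixed_mem_focal (hS : IsPGroup p S) (hF : F.IsSaturated p) {z : Ω}
    (hzS : z ∈ S) (hfix : ∀ y ∈ Subgroup.zpowers z, ∀ (R : Subgroup Ω) (f : Ω → Ω), IsMap F R f → y ∈ R →
      f y = y)
    (hz : z ∈ F.focalSubgroup) : z ∈ ⁅S, S⁆ := by
  classical
  obtain ⟨X, _, _, hfree, hst, hpQ⟩ := exists_biset' hS hF
  have := Fintype.ofFinite (Quotient (rOrb S X))
  let zS : S := ⟨z, hzS⟩
  let δ : S →* S × S := (MonoidHom.id S).prod (MonoidHom.id S)
  obtain ⟨r, hr, hrW⟩ := exists_reps (X := X) (Subgroup.zpowers zS)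
    ((Subgroup.zpowers zS).map δ)
    (by rintro _ ⟨u, hu, rfl⟩; exact hu) (fun u hu => ⟨δ u, ⟨u, hu, rfl⟩, rfl⟩)
    (fun x => ⟨1, Subgroup.one_mem _, fun l hl hlx => by
      rw [one_smul] at hlx
      obtain ⟨f, hf, hv⟩ := hfree x
      obtain ⟨i, hi⟩ := Subgroup.mem_zpowers_iff.1 hl
      have hlst : l ∈ stabilizer (S × S) x := mem_stabilizer_iff.2 hlx
      have hzi : ((l.1 : S) : Ω) = z ^ i := by rw [← hi]; simp [zS]
      have hmemz : Subgroup.zpowers (l.1 : Ω) ≤ srcSub (stabilizer (S × S) x) :=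
        Subgroup.zpowers_le.2 (mem_srcSub hlst)
      have h2 : f (l.1 : Ω) = l.1 :=
        hfix _ (Subgroup.mem_zpowers_iff.2 ⟨i, hzi.symm⟩) _ f (hf.mono hmemz) (Subgroup.mem_zpowers _)
      exact ⟨l.1, hl, Prod.ext rfl (Subtype.ext ((hv l hlst).symm.trans h2).symm)⟩⟩)
  let θ : S →* Abelianization S := Abelianization.of
  let τ : S →* Abelianization S :=
    { toFun := fun u => ∏ q, θ (cocyc r u q)
      map_one' := by
        refine Finset.prod_eq_one fun q _ => ?_
        rw [cocyc_eq hfree hr (s := 1) (by rw [show ((1, 1) : S × S) = 1 from rfl, one_smul,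
          actQ_one]), map_one]
      map_mul' := fun u v => by
        simp only [cocyc_mul hfree hr, map_mul, Finset.prod_mul_distrib]
        congr 1
        exact Equiv.prod_comp (permQ v) (fun q => θ (cocyc r u q)) }
  have hker : ∀ (R : Subgroup Ω) (φ : R →* Ω), φ ∈ F.Hom R → ∀ x : R, ∀ (hx : (x : Ω) ∈ S)
      (hy : φ x ∈ S), τ ⟨φ x, hy⟩ = τ ⟨x, hx⟩ := by
    intro R φ hφ x hx hy
    have hR := (F.le_of_mem hφ).1
    let P : Subgroup S := R.subgroupOf S
    have hPR : P.map S.subtype = R := Subgroup.map_subgroupOf_eq_of_le hR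
    let ψ : P →* S := MonoidHom.mk'
      (fun y => ⟨φ ⟨(y : S), y.2⟩, (F.le_of_mem hφ).2 _⟩)
      fun a b => Subtype.ext (map_mul φ ⟨((a : S) : Ω), a.2⟩ ⟨((b : S) : Ω), b.2⟩)
    obtain ⟨e, w, hew⟩ := exists_cocyc_twist hfree hst hr P ψ (f := homFun φ)
      (by rw [hPR]; exact isMap_homFun hφ)
      (fun y => (homFun_apply φ (show ((y : S) : Ω) ∈ R from y.2)).symm)
    show ∏ q, θ (cocyc r ⟨φ x, hy⟩ q) = ∏ q, θ (cocyc r ⟨x, hx⟩ q)
    have hψx : (⟨φ x, hy⟩ : S) = ψ ⟨⟨x, hx⟩, x.2⟩ := rfl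
    rw [hψx, ← Equiv.prod_comp e (fun q => θ (cocyc r (ψ ⟨⟨x, hx⟩, x.2⟩) q))]
    simp only [hew, map_mul, map_inv, Finset.prod_mul_distrib, Finset.prod_inv_distrib]
    rw [show ∏ q, θ (w (actQ (⟨x, hx⟩ : S) q)) = ∏ q, θ (w q) from
      Equiv.prod_comp (permQ (⟨x, hx⟩ : S)) (fun q => θ (w q))]
    rw [mul_comm _ (∏ q, θ (cocyc r (⟨x, hx⟩ : S) q)), inv_mul_cancel_right]
  have hfoc : F.focalSubgroup ≤ τ.ker.map S.subtype := by
    refine (Subgroup.closure_le _).2 ?_
    rintro _ ⟨R, φ, x, hφ, rfl⟩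
    have hx : (x : Ω) ∈ S := (F.le_of_mem hφ).1 x.2
    have hy : φ x ∈ S := (F.le_of_mem hφ).2 x
    refine ⟨⟨x, hx⟩⁻¹ * ⟨φ x, hy⟩, ?_, rfl⟩
    rw [SetLike.mem_coe, MonoidHom.mem_ker, map_mul, map_inv, hker R φ hφ x hx hy, inv_mul_cancel]
  have hτz : τ zS = 1 := by
    obtain ⟨u, hu, e⟩ := hfoc hz
    rwa [show zS = u from Subtype.ext e.symm]
  have hpow : θ zS ^ Nat.card (Quotient (rOrb S X)) = 1 := by
    rw [← hτz]
    show _ = ∏ q, θ (cocyc r zS q)
    rw [Finset.prod_congr rfl (g := fun _ => θ zS), Finset.prod_const, Finset.card_univ,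
      Nat.card_eq_fintype_card]
    intro q _
    obtain ⟨v, -, hv⟩ := hrW zS (Subgroup.mem_zpowers _) q
    have hv1 : v = zS := congrArg (fun k : S × S => k.1) hv
    have hv2 : v = cocyc r zS q := congrArg (fun k : S × S => k.2) hv
    rw [← hv2, hv1]
  obtain ⟨a, ha⟩ := hS zS
  have h1 : θ zS = 1 := by
    rw [← pow_one (θ zS), ← Nat.Coprime.gcd_eq_one (Nat.Coprime.pow_left a
      ((Fact.out : p.Prime).coprime_iff_not_dvd.2 hpQ))]
    exact pow_gcd_eq_one.2 ⟨by rw [← map_pow, ha, map_one], hpow⟩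
  have h2 : zS ∈ commutator S := by
    rw [← Abelianization.ker_of, MonoidHom.mem_ker]
    exact h1
  rw [← Subgroup.map_subtype_commutator]
  exact ⟨zS, h2, rfl⟩

/-- The hyperfocal subgroup splits off modulo a normal subgroup `T₁` with `[T, S] ≤ T₁`. -/
theorem exists_hom_hyperfocal (hS : IsPGroup p S) (hF : F.IsSaturated p) (T₁ : Subgroup S)
    [T₁.Normal] (hcomm : ⁅(F.hyperfocalSubgroup p).subgroupOf S, (⊤ : Subgroup S)⁆ ≤ T₁) :
    ∃ d : S →* S ⧸ T₁,
      (∀ x, d x ∈ ((F.hyperfocalSubgroup p).subgroupOf S).map (QuotientGroup.mk' T₁)) ∧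
      ∀ t ∈ (F.hyperfocalSubgroup p).subgroupOf S, d t = QuotientGroup.mk' T₁ t := by
  classical
  set T := (F.hyperfocalSubgroup p).subgroupOf S with hT
  have : T.Normal := Subgroup.normal_subgroupOf_iff_le_normalizer hyperfocal_le |>.2
    le_normalizer_hyperfocal
  obtain ⟨X, _, _, hfree, hst, hpQ⟩ := exists_biset' hS hF
  have := Fintype.ofFinite (Quotient (rOrb S X))
  let π : S →* S ⧸ T₁ := QuotientGroup.mk' T₁
  have hcen : ∀ t ∈ T, π t ∈ Subgroup.center (S ⧸ T₁) := by
    intro t ht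
    refine Subgroup.mem_center_iff.2 fun y => ?_
    obtain ⟨y, rfl⟩ := QuotientGroup.mk'_surjective T₁ y
    rw [← map_mul, ← map_mul]
    refine QuotientGroup.eq.2 ?_
    have := hcomm (Subgroup.commutator_mem_commutator (T.inv_mem ht) (Subgroup.mem_top y⁻¹))
    rw [commutatorElement_def, inv_inv, inv_inv] at this
    simpa [mul_assoc] using this
  let W : Subgroup (S × S) := ((QuotientGroup.mk' T).comp (MonoidHom.fst S S)).eqLocus
    ((QuotientGroup.mk' T).comp (MonoidHom.snd S S))
  obtain ⟨r, hr, hrW⟩ := exists_reps (X := X) ⊤ W (fun _ _ => Subgroup.mem_top _)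
    (fun u _ => ⟨(u, u), rfl, rfl⟩) (fun x => by
      obtain ⟨f, hf, hv⟩ := hfree x
      obtain ⟨γ, hγ, hγv⟩ := exists_conj_mod_hyperfocal hS hF hf
      refine ⟨(1, ⟨γ, hγ⟩⁻¹), Subgroup.mem_top _, fun l _ hl => ?_⟩
      rw [← mem_stabilizer_iff, stabilizer_smul_eq_stabilizer_map_conj] at hl
      obtain ⟨k, hk, rfl⟩ := hl
      have h1 := hγv _ (mem_srcSub hk)
      rw [hv k hk] at h1
      show QuotientGroup.mk' T ((1 : S) * k.1 * 1⁻¹) =
        QuotientGroup.mk' T (⟨γ, hγ⟩⁻¹ * k.2 * ⟨γ, hγ⟩⁻¹⁻¹)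
      refine QuotientGroup.eq.2 ?_
      rw [hT, Subgroup.mem_subgroupOf]
      have h2 := conj_mem_hyperfocal (S.inv_mem hγ) h1
      convert h2 using 1
      simp only [Subgroup.coe_mul, Subgroup.coe_inv, one_mul, inv_one, mul_one, inv_inv]
      group)
  have hwmem : ∀ (u : S) q, u⁻¹ * cocyc r u q ∈ T := fun u q =>
    QuotientGroup.eq.1 (hrW u (Subgroup.mem_top _) q)
  let _ : CommGroup (Subgroup.center (S ⧸ T₁)) :=
    { (Subgroup.center (S ⧸ T₁)).toGroup with
      mul_comm := fun a b => Subtype.ext (Subgroup.mem_center_iff.1 b.2 a) }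
  let c : S → Quotient (rOrb S X) → Subgroup.center (S ⧸ T₁) := fun u q =>
    ⟨π (u⁻¹ * cocyc r u q), hcen _ (hwmem u q)⟩
  have hcmul : ∀ u v q, c (u * v) q = c u (actQ v q) * c v q := by
    intro u v q
    refine Subtype.ext ?_
    show π ((u * v)⁻¹ * cocyc r (u * v) q) =
      π (u⁻¹ * cocyc r u (actQ v q)) * π (v⁻¹ * cocyc r v q)
    rw [cocyc_mul hfree hr, map_mul π v⁻¹ (cocyc r v q),
      ← mul_assoc (π (u⁻¹ * cocyc r u (actQ v q))),
      ← (Subgroup.mem_center_iff.1 (hcen _ (hwmem u (actQ v q))) (π v⁻¹))]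
    simp [mul_assoc]
  let d₀ : S →* Subgroup.center (S ⧸ T₁) :=
    { toFun := fun u => ∏ q, c u q
      map_one' := Finset.prod_eq_one fun q _ => by
        have := hcmul 1 1 q
        rw [mul_one, actQ_one] at this
        exact mul_eq_left.1 this.symm
      map_mul' := fun u v => by
        simp only [hcmul, Finset.prod_mul_distrib]
        congr 1
        exact Equiv.prod_comp (permQ v) (fun q => c u q) }
  have hd₀mem : ∀ u, ((d₀ u : Subgroup.center (S ⧸ T₁)) : S ⧸ T₁) ∈ T.map π := by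
    intro u
    refine Finset.prod_induction (fun q => c u q)
      (fun z => ((z : Subgroup.center (S ⧸ T₁)) : S ⧸ T₁) ∈ T.map π)
      (fun a b ha hb => (T.map π).mul_mem ha hb) (by simp)
      fun q _ => ⟨_, hwmem u q, rfl⟩
  obtain ⟨a, ha⟩ := hS.exists_card_eq
  obtain ⟨m, -, hm⟩ := Nat.exists_mul_mod_eq_one_of_coprime
    (show (Nat.card (Quotient (rOrb S X))).Coprime (p ^ (a + 1)) from
      (((Fact.out : p.Prime).coprime_iff_not_dvd.2 hpQ).symm).pow_right _)
    (Nat.one_lt_pow (Nat.succ_ne_zero a) (Fact.out : p.Prime).one_lt)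
  let κ : S →* Subgroup.center (S ⧸ T₁) := (powMonoidHom m).comp d₀
  let h : S →* S ⧸ T₁ := MonoidHom.mk' (fun x => π x * (κ x : S ⧸ T₁)) fun x y => by
    rw [map_mul, map_mul, Subgroup.coe_mul,
      mul_assoc (π x) (π y), ← mul_assoc (π y) (κ x : S ⧸ T₁), Subgroup.mem_center_iff.1 (κ x).2]
    simp [mul_assoc]
  -- on `T` the map `h` is a power of the transfer
  let cw : ∀ (t : S) (_ : t ∈ T), Quotient (rOrb S X) → Subgroup.center (S ⧸ T₁) :=
    fun t ht q => ⟨π (cocyc r t q), hcen _ (by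
      simpa using T.mul_mem ht (hwmem t q))⟩
  have hform : ∀ (t : S) (ht : t ∈ T),
      h t = (((∏ q, cw t ht q) ^ m : Subgroup.center (S ⧸ T₁)) : S ⧸ T₁) := by
    intro t ht
    let ct : Subgroup.center (S ⧸ T₁) := ⟨π t, hcen t ht⟩
    have e1 : d₀ t = (ct ^ Nat.card (Quotient (rOrb S X)))⁻¹ * ∏ q, cw t ht q := by
      rw [Nat.card_eq_fintype_card, ← Finset.card_univ, ← Finset.prod_const,
        ← Finset.prod_inv_distrib, ← Finset.prod_mul_distrib]
      exact Finset.prod_congr rfl fun q _ => Subtype.ext (by simp [c, cw, ct])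
    have e2 : ct ^ (Nat.card (Quotient (rOrb S X)) * m) = ct := by
      rw [← Nat.div_add_mod (Nat.card (Quotient (rOrb S X)) * m) (p ^ (a + 1)), hm, pow_add,
        pow_mul, pow_one]
      have : ct ^ p ^ (a + 1) = 1 := Subtype.ext (by
        show π t ^ p ^ (a + 1) = 1
        rw [← map_pow, pow_succ, pow_mul, ← ha, pow_card_eq_one', one_pow, map_one])
      rw [this, one_pow, one_mul]
    show ((ct : Subgroup.center (S ⧸ T₁)) : S ⧸ T₁) * (κ t : S ⧸ T₁) = _
    rw [← Subgroup.coe_mul]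
    refine congrArg Subtype.val ?_
    show ct * d₀ t ^ m = _
    rw [e1, mul_pow, inv_pow, ← pow_mul, e2, mul_inv_cancel_left]
  -- stability on `T`
  have hstab : ∀ (R : Subgroup Ω) (f : Ω → Ω), IsMap F R f → R ≤ F.hyperfocalSubgroup p →
      ∀ x : S, (x : Ω) ∈ R → ∀ y : S, (y : Ω) = f x → h y = h x := by
    intro R f hf hRT x hx y hy
    have hR : R ≤ S := hf.le
    let P : Subgroup S := R.subgroupOf S
    have hPR : P.map S.subtype = R := Subgroup.map_subgroupOf_eq_of_le hR
    let ψ : P →* S := MonoidHom.mk' (fun z => ⟨f (z : S), hf.mem z.2⟩)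
      fun u v => Subtype.ext (hf.map_mul u.2 v.2)
    obtain ⟨e, z, hez⟩ := exists_cocyc_twist hfree hst hr P ψ (f := f) (by rw [hPR]; exact hf)
      (fun _ => rfl)
    have hxT : x ∈ T := hRT hx
    have hyψ : y = ψ ⟨x, hx⟩ := Subtype.ext hy
    have hyT : y ∈ T := by
      rw [hT, Subgroup.mem_subgroupOf, hy]
      exact isMap_mem_of_stronglyClosed (stronglyClosed_hyperfocal hS hF) hf hx (hRT hx)
    rw [hform y hyT, hform x hxT]
    congr 2
    -- the products differ by a telescoping central factor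
    let ζ : Quotient (rOrb S X) → S ⧸ T₁ := fun q => π (z q)
    have hzT : ∀ q, (z (actQ x q))⁻¹ * z q ∈ T := by
      intro q
      have h1 : cocyc r (ψ ⟨x, hx⟩) (e q) ∈ T := by
        have := T.mul_mem (hyψ ▸ hyT) (hwmem (ψ ⟨x, hx⟩) (e q))
        simpa using this
      rw [hez] at h1
      have h2 : (z q)⁻¹ * (cocyc r x q)⁻¹ * z q ∈ T := by
        have hwx : cocyc r x q ∈ T := by simpa using T.mul_mem hxT (hwmem x q)
        simpa using Subgroup.Normal.conj_mem ‹T.Normal› _ (T.inv_mem hwx) (z q)⁻¹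
      have h3 := T.mul_mem h1 h2
      simpa [mul_assoc] using h3
    let A := Subgroup.center (S ⧸ T₁)
    let k : Quotient (rOrb S X) → A := fun q =>
      ⟨(Quotient.out (QuotientGroup.mk (ζ q) : (S ⧸ T₁) ⧸ A))⁻¹ * ζ q,
        QuotientGroup.eq.1 (QuotientGroup.out_eq' _)⟩
    let dz : Quotient (rOrb S X) → A := fun q =>
      ⟨π ((z (actQ x q))⁻¹ * z q), hcen _ (hzT q)⟩
    have hdz : ∀ q, dz q = (k (actQ x q))⁻¹ * k q := by
      intro q
      have hsame : (QuotientGroup.mk (ζ (actQ x q)) : (S ⧸ T₁) ⧸ A) =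
          QuotientGroup.mk (ζ q) := by
        refine QuotientGroup.eq.2 ?_
        show (π (z (actQ x q)))⁻¹ * π (z q) ∈ A
        rw [← map_inv, ← map_mul]
        exact hcen _ (hzT q)
      refine Subtype.ext ?_
      show π ((z (actQ x q))⁻¹ * z q) = ((Quotient.out _)⁻¹ * ζ (actQ x q))⁻¹ *
        ((Quotient.out _)⁻¹ * ζ q)
      rw [hsame]
      simp [ζ, mul_assoc]
    rw [← Equiv.prod_comp e (fun q => cw y hyT q)]
    have hterm : ∀ q, cw y hyT (e q) = cw x hxT q * dz q := by
      intro q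
      refine Subtype.ext ?_
      show π (cocyc r y (e q)) = π (cocyc r x q) * π ((z (actQ x q))⁻¹ * z q)
      rw [hyψ, hez, map_mul, map_mul, map_mul π (z (actQ x q))⁻¹ (z q), ← mul_assoc]
      congr 1
      exact Subgroup.mem_center_iff.1 (cw x hxT q).2 _
    simp only [hterm, hdz, Finset.prod_mul_distrib, Finset.prod_inv_distrib]
    rw [show ∏ q, k (actQ x q) = ∏ q, k q from Equiv.prod_comp (permQ x) k, inv_mul_cancel,
      mul_one]
  -- `h` kills the hyperfocal subgroup
  have hkill : F.hyperfocalSubgroup p ≤ h.ker.map S.subtype := by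
    refine (Subgroup.closure_le _).2 ?_
    rintro _ ⟨R, α, x, hR, hα, rfl⟩
    let lift : R → S := Subgroup.inclusion hR
    have hclaim : ∀ β : F.autGroup R, β ∈ pResidual p (F.autGroup R) →
        ∀ v : R, h (lift ((β : MulAut R) v)) = h (lift v) := by
      intro β hβ
      induction hβ using Subgroup.closure_induction with
      | one => intro v; rfl
      | mul β γ _ _ hβ hγ => intro v; exact (hβ _).trans (hγ v)
      | inv β _ hβ =>
        intro v
        conv_rhs => rw [← MulAut.apply_inv_self R (β : MulAut R) v]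
        exact (hβ _).symm
      | mem β hβ =>
        let g : R → S ⧸ T₁ := fun v => h (lift ((β : MulAut R) v)) * (h (lift v))⁻¹
        have hmove : ∀ v : R, ((lift v)⁻¹ * lift ((β : MulAut R) v) : S) ∈ T := by
          intro v
          rw [hT, Subgroup.mem_subgroupOf]
          exact inv_mul_mem_hyperfocal hR (CfsgLib.Transfer.mem_pResidual_of_coprime hβ) v
        have hgc : ∀ v, g v ∈ Subgroup.center (S ⧸ T₁) := by
          intro v
          have h1 : π (lift ((β : MulAut R) v)) * (π (lift v))⁻¹ ∈ Subgroup.center (S ⧸ T₁) := by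
            have := Subgroup.Normal.conj_mem (inferInstance : (Subgroup.center (S ⧸ T₁)).Normal)
              _ (hcen _ (hmove v)) (π (lift v))
            simpa using this
          have h2 : g v = π (lift ((β : MulAut R) v)) *
              ((κ (lift ((β : MulAut R) v)) * (κ (lift v))⁻¹ : Subgroup.center (S ⧸ T₁)) : S ⧸ T₁) *
              (π (lift v))⁻¹ := by
            show π _ * (κ _ : S ⧸ T₁) * (π _ * (κ _ : S ⧸ T₁))⁻¹ = _
            simp [mul_assoc]
          rw [h2, Subgroup.mem_center_iff.1 (κ (lift ((β : MulAut R) v)) * (κ (lift v))⁻¹).2,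
            mul_assoc]
          exact Subgroup.mul_mem _ (SetLike.coe_mem _) h1
        have hginv : ∀ v, g ((β : MulAut R) v) = g v := by
          intro v
          let t : S := (lift v)⁻¹ * lift ((β : MulAut R) v)
          let w : R := v⁻¹ * (β : MulAut R) v
          have hwt : lift w = t := rfl
          have hgw : g w = 1 := by
            have hzle : Subgroup.zpowers ((w : R) : Ω) ≤ R := Subgroup.zpowers_le.2 w.2
            have hwT : ((w : R) : Ω) ∈ F.hyperfocalSubgroup p := hmove v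
            have := hstab (Subgroup.zpowers (w : Ω)) _
              (((mem_autGroup_iff hR (β : MulAut R)).1 β.2).isMap.mono hzle)
              (Subgroup.zpowers_le.2 hwT) (lift w) (Subgroup.mem_zpowers _)
              (lift ((β : MulAut R) w)) (autFun_coe _ w).symm
            show h _ * (h _)⁻¹ = 1
            rw [this, mul_inv_cancel]
          have hg_mul : ∀ u v, g (u * v) = g u * g v := by
            intro u v
            show h (lift ((β : MulAut R) (u * v))) * (h (lift (u * v)))⁻¹ =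
              g u * (h (lift ((β : MulAut R) v)) * (h (lift v))⁻¹)
            rw [map_mul, show lift (u * v) = lift u * lift v from rfl,
              show lift ((β : MulAut R) u * (β : MulAut R) v) =
                lift ((β : MulAut R) u) * lift ((β : MulAut R) v) from rfl, map_mul, map_mul,
              mul_inv_rev, mul_assoc, ← mul_assoc (h (lift ((β : MulAut R) v))),
              show h (lift ((β : MulAut R) v)) * (h (lift v))⁻¹ = g v from rfl,
              ← Subgroup.mem_center_iff.1 (hgc v) (h (lift u))⁻¹, ← mul_assoc]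
          rw [show (β : MulAut R) v = v * w by simp [w], hg_mul, hgw, mul_one]
        intro v
        have hiter : ∀ n : ℕ, h (lift (((β : MulAut R) ^ n) v)) = g v ^ n * h (lift v) := by
          intro n
          induction n with
          | zero => simp
          | succ n ih =>
            have hgn : g (((β : MulAut R) ^ n) v) = g v := by
              clear ih
              induction n with
              | zero => simp
              | succ n ih => rw [pow_succ', MulAut.mul_apply, hginv, ih]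
            rw [pow_succ', MulAut.mul_apply,
              show h (lift ((β : MulAut R) (((β : MulAut R) ^ n) v))) =
                g (((β : MulAut R) ^ n) v) * h (lift (((β : MulAut R) ^ n) v)) by simp [g],
              hgn, ih, ← mul_assoc, pow_succ']
        have hn : g v ^ orderOf β = 1 := by
          have := hiter (orderOf β)
          rw [← Subgroup.coe_pow, pow_orderOf_eq_one, OneMemClass.coe_one, MulAut.one_apply]
            at this
          exact right_eq_mul.1 this
        have hg1 : g v = 1 := by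
          obtain ⟨b, hb⟩ := (hS.to_quotient T₁) (g v)
          rw [← pow_one (g v), ← (Nat.Coprime.pow_right b hβ).gcd_eq_one]
          exact pow_gcd_eq_one.2 ⟨hn, hb⟩
        exact mul_inv_eq_one.1 hg1
    refine ⟨(lift x)⁻¹ * lift ((α : MulAut R) x), ?_, rfl⟩
    rw [SetLike.mem_coe, MonoidHom.mem_ker, map_mul, map_inv, hclaim α hα x, inv_mul_cancel]
  refine ⟨(Subgroup.center (S ⧸ T₁)).subtype.comp (invMonoidHom.comp κ), fun x => ?_, fun t ht => ?_⟩
  · show (((κ x)⁻¹ : Subgroup.center (S ⧸ T₁)) : S ⧸ T₁) ∈ T.map π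
    rw [Subgroup.coe_inv, Subgroup.inv_mem_iff, show κ x = d₀ x ^ m from rfl, Subgroup.coe_pow]
    exact Subgroup.pow_mem _ (hd₀mem x) m
  · obtain ⟨u, hu, e⟩ := hkill (show (t : Ω) ∈ F.hyperfocalSubgroup p from ht)
    obtain rfl : u = t := Subtype.ext e
    have h1 : π u * (κ u : S ⧸ T₁) = 1 := hu
    show (((κ u)⁻¹ : Subgroup.center (S ⧸ T₁)) : S ⧸ T₁) = π u
    rw [Subgroup.coe_inv]
    exact (eq_inv_of_mul_eq_one_left h1).symm

/-- A subgroup normal in a `p`-group is generated modulo `[T, S] T^p` only by itself. -/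
theorem eq_of_le_sup_commutator_pow {G : Type*} [Group G] [Finite G] {p : ℕ} [Fact p.Prime]
    (hG : IsPGroup p G) {T H : Subgroup G} [T.Normal] [H.Normal] (hHT : H ≤ T)
    (hsup : T ≤ H ⊔ ⁅T, (⊤ : Subgroup G)⁆ ⊔ Subgroup.closure {y | ∃ t ∈ T, t ^ p = y}) :
    T = H := by
  classical
  by_contra hne
  have hlt : H < T := lt_of_le_of_ne hHT (Ne.symm hne)
  obtain ⟨M, ⟨hMn, hHM, hMT⟩, hmax⟩ := (Set.toFinite
    {M : Subgroup G | M.Normal ∧ H ≤ M ∧ M < T}).exists_maximal ⟨H, ‹_›, le_rfl, hlt⟩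
  have := hMn
  let π := QuotientGroup.mk' M
  have hTbar : (T.map π).Normal := Subgroup.Normal.map ‹_› _ (QuotientGroup.mk'_surjective M)
  have hTne : T.map π ≠ ⊥ := by
    rw [Ne, Subgroup.map_eq_bot_iff, QuotientGroup.ker_mk']
    exact not_le_of_gt hMT
  obtain ⟨c, hc, hcp⟩ : ∃ c ∈ T.map π ⊓ Subgroup.center (G ⧸ M), orderOf c = p := by
    have hnt : Nontrivial ↥(T.map π ⊓ Subgroup.center (G ⧸ M)) := by
      rw [Subgroup.nontrivial_iff_ne_bot]
      intro h0
      have := (hG.to_quotient M).isNilpotent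
      exact CfsgLib.Critical.inf_center_ne_bot (T.map π) hTne h0
    have hd : p ∣ Nat.card ↥(T.map π ⊓ Subgroup.center (G ⧸ M)) := by
      obtain ⟨n, hn, e⟩ := ((hG.to_quotient M).to_subgroup _).nontrivial_iff_card.1 hnt
      exact e ▸ dvd_pow_self p (by omega)
    obtain ⟨c, hc⟩ := exists_prime_orderOf_dvd_card' p hd
    exact ⟨c, c.2, (Subgroup.orderOf_coe c).trans hc⟩
  have hCn : (Subgroup.zpowers c).Normal := ⟨fun y hy g => by
    have : y ∈ Subgroup.center (G ⧸ M) := Subgroup.zpowers_le.2 hc.2 hy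
    rwa [Subgroup.mem_center_iff.1 this g, mul_inv_cancel_right]⟩
  let M' := (Subgroup.zpowers c).comap π
  have hM'T : M' ≤ T := by
    intro y hy
    obtain ⟨t, ht, e⟩ := Subgroup.zpowers_le.2 hc.1 hy
    have : t⁻¹ * y ∈ T := hMT.le (QuotientGroup.eq.1 e)
    simpa using T.mul_mem ht this
  have hMM' : M < M' := by
    refine lt_of_le_of_ne (fun y hy => ?_) fun e => ?_
    · show π y ∈ Subgroup.zpowers c
      rw [show π y = 1 from (QuotientGroup.eq_one_iff y).2 hy]
      exact Subgroup.one_mem _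
    · obtain ⟨y, hy⟩ := QuotientGroup.mk'_surjective M c
      have : y ∈ M := e ▸ (show π y ∈ Subgroup.zpowers c by rw [show π y = c from hy]; exact Subgroup.mem_zpowers c)
      rw [show π y = 1 from (QuotientGroup.eq_one_iff y).2 this] at hy
      rw [← hy, orderOf_one] at hcp
      exact (Fact.out : p.Prime).one_lt.ne hcp
  have hM' : M' = T := by
    by_contra hne'
    exact hMM'.not_ge (hmax ⟨hCn.comap π, hHM.trans hMM'.le, lt_of_le_of_ne hM'T hne'⟩ hMM'.le)
  have hTM : T ≤ M := by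
    refine hsup.trans (sup_le (sup_le hHM (Subgroup.commutator_le.2 fun t ht g _ => ?_))
      ((Subgroup.closure_le _).2 ?_))
    · have h1 : π t ∈ Subgroup.center (G ⧸ M) :=
        Subgroup.zpowers_le.2 hc.2 (show π t ∈ _ from hM'.ge ht)
      refine (QuotientGroup.eq_one_iff _).1 ?_
      show π ⁅t, g⁆ = 1
      rw [map_commutatorElement, commutatorElement_eq_one_iff_mul_comm]
      exact (Subgroup.mem_center_iff.1 h1 _).symm
    · rintro _ ⟨t, ht, rfl⟩
      refine (QuotientGroup.eq_one_iff _).1 ?_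
      show π (t ^ p) = 1
      obtain ⟨i, hi⟩ := Subgroup.mem_zpowers_iff.1 (show π t ∈ Subgroup.zpowers c from hM'.ge ht)
      rw [map_pow, ← hi, ← zpow_natCast, ← zpow_mul, mul_comm, zpow_mul, zpow_natCast, ← hcp,
        pow_orderOf_eq_one, one_zpow]
  exact hMT.not_ge hTM

/-- Tate's theorem: a normal subgroup of `S` inside the hyperfocal subgroup that covers it modulo
the Frattini subgroup of `S` is all of it. -/
theorem hyperfocal_subgroupOf_eq (hS : IsPGroup p S) (hF : F.IsSaturated p) {H : Subgroup S}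
    [H.Normal] (hH : H ≤ (F.hyperfocalSubgroup p).subgroupOf S)
    (hT : (F.hyperfocalSubgroup p).subgroupOf S ≤ frattini S ⊔ H) :
    (F.hyperfocalSubgroup p).subgroupOf S = H := by
  set T := (F.hyperfocalSubgroup p).subgroupOf S with hTdef
  have : T.Normal := Subgroup.normal_subgroupOf_iff_le_normalizer hyperfocal_le |>.2
    le_normalizer_hyperfocal
  let P : Subgroup S := Subgroup.closure {y | ∃ t ∈ T, t ^ p = y}
  have : P.Normal := ⟨fun x hx g => by
    induction hx using Subgroup.closure_induction with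
    | one => simp
    | mem y hy =>
      obtain ⟨t, ht, rfl⟩ := hy
      exact Subgroup.subset_closure
        ⟨g * t * g⁻¹, Subgroup.Normal.conj_mem ‹T.Normal› t ht g, conj_pow⟩
    | mul y z _ _ hy hz => simpa [mul_assoc] using P.mul_mem hy hz
    | inv y _ hy => simpa [mul_assoc] using P.inv_mem hy⟩
  set T₁ := H ⊔ ⁅T, (⊤ : Subgroup S)⁆ ⊔ P with hT₁
  have hle : ⁅T, (⊤ : Subgroup S)⁆ ≤ T₁ := le_sup_right.trans le_sup_left
  obtain ⟨d, hd1, hd2⟩ := exists_hom_hyperfocal hS hF T₁ hle
  refine eq_of_le_sup_commutator_pow hS hH fun t ht => ?_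
  have hcomm : ∀ a ∈ T.map (QuotientGroup.mk' T₁), ∀ b, a * b = b * a := by
    rintro _ ⟨a, ha, rfl⟩ b
    obtain ⟨b, rfl⟩ := QuotientGroup.mk'_surjective T₁ b
    rw [← commutatorElement_eq_one_iff_mul_comm, ← map_commutatorElement]
    exact (QuotientGroup.eq_one_iff _).2
      (hle (Subgroup.commutator_mem_commutator ha (Subgroup.mem_top b)))
  have hfr : frattini S ≤ d.ker := by
    refine CfsgLib.Critical.frattini_le_of_elementary (p := p) d.ker
      (Subgroup.commutator_le.2 fun a _ b _ => ?_) fun a => ?_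
    · rw [MonoidHom.mem_ker, map_commutatorElement, commutatorElement_eq_one_iff_mul_comm]
      exact hcomm _ (hd1 a) _
    · rw [MonoidHom.mem_ker, map_pow]
      obtain ⟨u, hu, e⟩ := hd1 a
      rw [← e, ← map_pow]
      exact (QuotientGroup.eq_one_iff _).2 (Subgroup.mem_sup_right
        (Subgroup.subset_closure ⟨u, hu, rfl⟩))
  have hHk : H ≤ d.ker := fun x hx => by
    rw [MonoidHom.mem_ker, hd2 x (hH hx)]
    exact (QuotientGroup.eq_one_iff _).2 (Subgroup.mem_sup_left (Subgroup.mem_sup_left hx))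
  have h1 : d t = 1 := (sup_le hfr hHk) (hT ht)
  rw [hd2 t ht] at h1
  exact (QuotientGroup.eq_one_iff _).1 h1

/-- An element of the centre is fixed by every map defined on it. -/
theorem eq_of_mem_center {y : Ω} (hy : y ∈ F.center) {R : Subgroup Ω} {f : Ω → Ω}
    (hf : IsMap F R f) (hyR : y ∈ R) : f y = y := by
  obtain ⟨g, -, hag, hfix⟩ := (isCentral_iff.1 (isCentral_center F)).2 R f hf
  rw [← hag y hyR, hfix y hy]

/-- `foc(F) ∩ Z(F) = S' ∩ Z(F)`. -/
theorem focal_inf_center (hS : IsPGroup p S) (hF : F.IsSaturated p) :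
    F.focalSubgroup ⊓ F.center = ⁅S, S⁆ ⊓ F.center := by
  refine le_antisymm (fun z hz => ?_) ?_
  · have hzS : z ∈ S := (isCentral_center F).1 hz.2
    exact ⟨mem_commutator_of_fixed_mem_focal hS hF hzS
      (fun y hy R f hf hyR => eq_of_mem_center (Subgroup.zpowers_le.2 hz.2 hy) hf hyR) hz.1, hz.2⟩
  · refine inf_le_inf_right _ ?_
    rw [focal_eq_hyperfocal_sup hS hF]
    exact le_sup_right

end CfsgLib.Fusion
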