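import Cfsg.Agent.Lib.Fusion.Axioms

/-!
Essential subgroups, strongly `p`-embedded subgroups and Alperin's fusion theorem for saturated
fusion systems.
-/

set_option autoImplicit false

namespace CfsgLib.Fusion

open Cfsg Cfsg.FusionSystem

/-! ### Strongly `p`-embedded subgroups -/

section Group

variable {X : Type*} [Group X] [Finite X] {p : ℕ} [Fact p.Prime]

theorem not_pRankLE_zero {Q : Subgroup X} (hQ : IsPGroup p Q) (h : Q ≠ ⊥) :
    ¬ Cfsg.PRankLE p 0 Q := by
  intro hr
  have : Nontrivial Q := (Subgroup.nontrivial_iff_ne_bot Q).2 h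
  obtain ⟨k, hk, hk'⟩ := hQ.nontrivial_iff_card.1 inferInstance
  obtain ⟨x, hx⟩ := exists_prime_orderOf_dvd_card' (G := Q) p (hk' ▸ dvd_pow_self p hk.ne')
  have h1 := hr (Subgroup.zpowers x) inferInstance (fun a ha => by
    obtain ⟨n, rfl⟩ := ha
    rw [← zpow_natCast, ← zpow_mul, mul_comm, zpow_mul, zpow_natCast, ← hx, pow_orderOf_eq_one,
      one_zpow])
  rw [Nat.card_zpowers, hx, pow_zero] at h1
  exact absurd h1 (not_le.2 (Fact.out : p.Prime).one_lt)

theorem kGeneratedCore_one_le_iff {T Y : Subgroup X} (hT : IsPGroup p T) :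
    Cfsg.kGeneratedCore p 1 T ≤ Y ↔
      ∀ U : Subgroup X, U ≤ T → U ≠ ⊥ → Subgroup.normalizer (U : Set X) ≤ Y := by
  rw [Cfsg.kGeneratedCore, iSup_le_iff]
  constructor
  · intro h U hU hne
    exact h ⟨U, hU, not_pRankLE_zero (hT.to_le hU) hne⟩
  · rintro h ⟨U, hU, hr⟩
    refine h U hU fun hbot => hr fun A _ _ => ?_
    subst hbot
    rw [pow_zero]
    exact (Finite.card_le_one_iff_subsingleton.2 inferInstance)

theorem lt_inf_normalizer {U T : Subgroup X} (hT : IsPGroup p T) (hU : U ≤ T) (hne : U ≠ T) :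
    U < T ⊓ Subgroup.normalizer (U : Set X) :=
  lt_normalizerIn (S := T) hT hU hne

/-- If `E` contains the normalizers of the nontrivial subgroups of the Sylow subgroup `T`, then
it contains every element carrying a nontrivial subgroup of `T` into `T`. -/
theorem mem_of_conj_le {T : Sylow p X} {E : Subgroup X}
    (hE : ∀ U : Subgroup X, U ≤ T → U ≠ ⊥ → Subgroup.normalizer (U : Set X) ≤ E) :
    ∀ (n : ℕ) (U : Subgroup X), Nat.card T - Nat.card U = n → U ≤ T → U ≠ ⊥ →
      ∀ x : X, (∀ u ∈ U, x * u * x⁻¹ ∈ (T : Subgroup X)) → x ∈ E := by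
  intro n
  induction n using Nat.strong_induction_on with
  | _ n ih =>
  intro U hn hU hne x hx
  have hTne : (T : Subgroup X) ≠ ⊥ := fun h => hne (le_bot_iff.1 (h ▸ hU))
  rcases eq_or_ne U (T : Subgroup X) with rfl | hUT
  · exact hE _ le_rfl hne (Subgroup.mem_normalizer_fintype hx)
  · have hlt := lt_inf_normalizer T.isPGroup' hU hUT
    set A := (T : Subgroup X) ⊓ Subgroup.normalizer (U : Set X) with hA
    have hTE : (T : Subgroup X) ≤ E :=
      Subgroup.le_normalizer.trans (hE _ le_rfl hTne)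
    -- the conjugate of `A` normalizes the conjugate of `U`, hence lies in `E`
    have hU' : U.map (MulAut.conj x).toMonoidHom ≤ T := by
      rintro _ ⟨u, hu, rfl⟩
      exact hx u hu
    have hU'ne : U.map (MulAut.conj x).toMonoidHom ≠ ⊥ := fun h => hne
      ((Subgroup.map_eq_bot_iff_of_injective U (MulAut.conj x).injective).1 h)
    have hA' : A.map (MulAut.conj x).toMonoidHom ≤ E := by
      refine le_trans ?_ (hE _ hU' hU'ne)
      rintro _ ⟨a, ha, rfl⟩
      refine Subgroup.mem_normalizer_fintype ?_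
      rintro _ ⟨u, hu, rfl⟩
      exact ⟨a * u * a⁻¹, (Subgroup.mem_normalizer_iff.1 ha.2 u).1 hu, by simp [mul_assoc]⟩
    have hAp : IsPGroup p (A.map (MulAut.conj x).toMonoidHom) :=
      (T.isPGroup'.to_le inf_le_left).map _
    obtain ⟨R, hR⟩ := (hAp.of_equiv (Subgroup.subgroupOfEquivOfLe hA').symm).exists_le_sylow
    obtain ⟨e, he⟩ := MulAction.exists_smul_eq E R (T.subtype hTE)
    have key : ∀ a ∈ A, ((e : X) * x) * a * ((e : X) * x)⁻¹ ∈ (T : Subgroup X) := by
      intro a ha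
      have hm : e * ⟨x * a * x⁻¹, hA' ⟨a, ha, rfl⟩⟩ * e⁻¹ ∈ ((T.subtype hTE : Sylow p E) :
          Subgroup E) := by
        rw [← he, Sylow.coe_subgroup_smul, Subgroup.mem_pointwise_smul_iff_inv_smul_mem]
        have hm' : (⟨x * a * x⁻¹, hA' ⟨a, ha, rfl⟩⟩ : E) ∈
            (A.map (MulAut.conj x).toMonoidHom).subgroupOf E := ⟨a, ha, rfl⟩
        simpa [mul_assoc] using hR hm'
      have hm2 : (e : X) * (x * a * x⁻¹) * (e : X)⁻¹ ∈ (T : Subgroup X) := hm
      simpa [mul_assoc] using hm2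
    have hcard : Nat.card U < Nat.card A := by
      refine lt_of_le_of_ne (Subgroup.card_le_of_le hlt.le) fun h => ?_
      exact hlt.ne (Subgroup.eq_of_le_of_card_ge hlt.le h.ge)
    have hAT : Nat.card A ≤ Nat.card T := Subgroup.card_le_of_le inf_le_left
    have := ih _ (by omega) A rfl inf_le_left (fun h => hne (le_bot_iff.1 (h ▸ hlt.le))) _ key
    exact (Subgroup.mul_mem_cancel_left E e.2).1 this

/-- A strongly `p`-embedded subgroup can be conjugated over any Sylow subgroup. -/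
theorem exists_of_isStronglyPEmbedded {E : Subgroup X} (hE : Cfsg.IsStronglyPEmbedded p E)
    (T : Sylow p X) : ∃ E' : Subgroup X, E' ≠ ⊤ ∧
      ∀ U : Subgroup X, U ≤ T → U ≠ ⊥ → Subgroup.normalizer (U : Set X) ≤ E' := by
  obtain ⟨-, htop, P₀, hP₀⟩ := hE
  rw [kGeneratedCore_one_le_iff P₀.isPGroup'] at hP₀
  obtain ⟨x, hx⟩ := MulAction.exists_smul_eq X P₀ T
  refine ⟨E.map (MulAut.conj x).toMonoidHom, fun h => htop ?_, fun U hU hne n hn => ?_⟩
  · refine Subgroup.map_injective (f := (MulAut.conj x).toMonoidHom) (MulAut.conj x).injective ?_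
    rw [h]
    exact (Subgroup.map_top_of_surjective _ (MulAut.conj x).surjective).symm
  · have hU' : U.map (MulAut.conj x⁻¹).toMonoidHom ≤ P₀ := by
      rintro _ ⟨u, hu, rfl⟩
      have := hU hu
      rw [← hx, Sylow.coe_subgroup_smul, Subgroup.mem_pointwise_smul_iff_inv_smul_mem] at this
      simpa [mul_assoc] using this
    have hne' : U.map (MulAut.conj x⁻¹).toMonoidHom ≠ ⊥ := fun h => hne
      ((Subgroup.map_eq_bot_iff_of_injective U (MulAut.conj x⁻¹).injective).1 h)
    refine ⟨x⁻¹ * n * x, hP₀ _ hU' hne' ?_, by simp [mul_assoc]⟩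
    refine Subgroup.mem_normalizer_fintype ?_
    rintro _ ⟨u, hu, rfl⟩
    exact ⟨n * u * n⁻¹, (Subgroup.mem_normalizer_iff.1 hn u).1 hu, by simp [mul_assoc]⟩

/-- A group with a strongly `p`-embedded subgroup has trivial `O_p`. -/
theorem eq_bot_of_isStronglyPEmbedded {E : Subgroup X} (hE : Cfsg.IsStronglyPEmbedded p E)
    {U : Subgroup X} [U.Normal] (hU : IsPGroup p U) : U = ⊥ := by
  by_contra hne
  obtain ⟨T, hT⟩ := hU.exists_le_sylow
  obtain ⟨E', hE'top, hE'⟩ := exists_of_isStronglyPEmbedded hE T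
  apply hE'top
  rw [eq_top_iff, ← Subgroup.normalizer_eq_top (H := U)]
  exact hE' U hT hne

end Group

/-! ### Inner automorphisms and automorphisms extending to larger subgroups -/

variable {Ω : Type*} [Group Ω] {S : Subgroup Ω} {F : FusionSystem S}

theorem mem_inn_iff {P : Subgroup Ω} (α : MulAut P) :
    α ∈ Cfsg.Inn P ↔ ∃ u ∈ P, ∀ x : P, (α x : Ω) = u * x * u⁻¹ := by
  constructor
  · rintro ⟨u, rfl⟩
    exact ⟨u, u.2, fun x => by simp⟩
  · rintro ⟨u, hu, hv⟩
    exact ⟨⟨u, hu⟩, MulEquiv.ext fun x => Subtype.ext (by simp [hv x])⟩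

theorem inn_eq_autInducedBy (P : Subgroup Ω) : Cfsg.Inn P = autInducedBy P P := by
  ext α
  rw [mem_inn_iff, mem_autInducedBy_iff]

theorem inn_le_autInducedBy {P : Subgroup Ω} (hP : P ≤ S) : Cfsg.Inn P ≤ autInducedBy S P :=
  inn_eq_autInducedBy P ▸ autInducedBy_mono hP P

theorem inn_le_autGroup {P : Subgroup Ω} (hP : P ≤ S) : Cfsg.Inn P ≤ F.autGroup P :=
  (inn_le_autInducedBy hP).trans (autInducedBy_le_autGroup hP)

theorem inn_subgroupOf_normal (F : FusionSystem S) (P : Subgroup Ω) :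
    ((Cfsg.Inn P).subgroupOf (F.autGroup P)).Normal :=
  ⟨fun a ha g => (Cfsg.innNormal P).conj_mem (a : MulAut P) ha (g : MulAut P)⟩

/-- The automorphisms of `P` extending to maps on strictly larger subgroups. -/
def extSet (F : FusionSystem S) (P : Subgroup Ω) : Set (MulAut P) :=
  {α | ∃ Q : Subgroup Ω, P < Q ∧ ∃ f : Ω → Ω, IsMap F Q f ∧ ∀ x : P, (α x : Ω) = f x}

theorem extSet_eq (F : FusionSystem S) (P : Subgroup Ω) :
    extSet F P = {α : MulAut P | ∃ (Q : Subgroup Ω) (hPQ : P < Q) (φ : Q →* Ω), φ ∈ F.Hom Q ∧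
      ∀ x : P, φ (Subgroup.inclusion hPQ.le x) = α x} := by
  ext α
  constructor
  · rintro ⟨Q, hPQ, f, ⟨φ, hφ, hv⟩, hα⟩
    exact ⟨Q, hPQ, φ, hφ, fun x => by rw [hv, hα]; rfl⟩
  · rintro ⟨Q, hPQ, φ, hφ, hv⟩
    refine ⟨Q, hPQ, homFun φ, isMap_homFun hφ, fun x => ?_⟩
    rw [← hv x, homFun_apply φ (hPQ.le x.2)]
    rfl

theorem closure_extSet_le (P : Subgroup Ω) :
    Subgroup.closure (extSet F P) ≤ F.autGroup P := by
  rw [Subgroup.closure_le]
  rintro α ⟨Q, hPQ, f, hf, hv⟩
  exact mem_autGroup_of_isMap (hf.mono hPQ.le) α hv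

variable {p : ℕ} [Fact p.Prime] [Finite S]

theorem lt_nPhi_of_mem {P : Subgroup Ω} {f : Ω → Ω} (hf : IsMap F P f) {g : Ω}
    (hg : g ∈ nPhi S P f) (hgP : g ∉ P) : P < nPhi S P f :=
  lt_of_le_of_ne (le_nPhi hf) fun h => hgP (h.symm ▸ hg)

omit [Fact p.Prime] [Finite S] in
theorem mem_extSet_of_lt {P : Subgroup Ω} (hr : F.IsReceptive P) {α : MulAut P}
    (hα : α ∈ F.autGroup P) (h : P < nPhi S P (autFun α)) : α ∈ extSet F P := by
  obtain ⟨f, hf, hv⟩ := (isReceptive_iff.1 hr).2 P _ ((mem_autGroup_iff hr.1 α).1 hα)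
  exact ⟨_, h, f, hf, fun x => by rw [hv x x.2, autFun_coe]⟩

omit [Fact p.Prime] in
theorem inn_subset_extSet (hS : IsPGroup p S) [Fact p.Prime] {P : Subgroup Ω} (hP : P < S) :
    (Cfsg.Inn P : Set (MulAut P)) ⊆ extSet F P := by
  intro α hα
  obtain ⟨u, hu, hv⟩ := (mem_inn_iff α).1 hα
  exact ⟨normalizerIn S P, lt_normalizerIn hS hP.le hP.ne, _,
    isMap_conj inf_le_left (hP.le hu), hv⟩

theorem centralizerIn_le_of_closure_extSet_ne (hS : IsPGroup p S) (hF : F.IsSaturated p)
    {P : Subgroup Ω} (hP : F.IsFullyNormalized P)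
    (h : Subgroup.closure (extSet F P) ≠ F.autGroup P) : centralizerIn S P ≤ P := by
  intro g hg
  by_contra hgP
  refine h (le_antisymm (closure_extSet_le P) fun α hα => Subgroup.subset_closure
    (mem_extSet_of_lt (isReceptive_of_isFullyNormalized hS hF hP) hα ?_))
  exact lt_nPhi_of_mem ((mem_autGroup_iff hP.1 α).1 hα).isMap (centralizerIn_le_nPhi P _ hg) hgP

omit [Fact p.Prime] [Finite S] in
theorem conjAut_notMem_inn {P : Subgroup Ω} (hc : centralizerIn S P ≤ P) (hP : P ≤ S) {g : Ω}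
    (hg : g ∈ normalizerIn S P) (hgP : g ∉ P) {α : MulAut P}
    (hα : ∀ x : P, (α x : Ω) = g * x * g⁻¹) : α ∉ Cfsg.Inn P := by
  intro h
  obtain ⟨u, hu, hv⟩ := (mem_inn_iff α).1 h
  have : u⁻¹ * g ∈ centralizerIn S P :=
    ⟨S.mul_mem (S.inv_mem (hP hu)) hg.1, mul_inv_mem_centralizer fun x hx => by
      rw [← hα ⟨x, hx⟩, hv]⟩
  exact hgP ((Subgroup.mul_mem_cancel_left P (P.inv_mem hu)).1 (hc this))

/-- The outer automorphism data at a fully normalized centric subgroup. -/
theorem exists_sylow_out (hS : IsPGroup p S) (hF : F.IsSaturated p) {P : Subgroup Ω}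
    (hP : F.IsFullyNormalized P) [hn : ((Cfsg.Inn P).subgroupOf (F.autGroup P)).Normal] :
    ∃ T : Sylow p (F.autGroup P ⧸ (Cfsg.Inn P).subgroupOf (F.autGroup P)),
      ∀ a : F.autGroup P, QuotientGroup.mk' ((Cfsg.Inn P).subgroupOf (F.autGroup P)) a ∈
          (T : Subgroup (F.autGroup P ⧸ (Cfsg.Inn P).subgroupOf (F.autGroup P))) ↔
        (a : MulAut P) ∈ autInducedBy S P := by
  have := finite_of_le hP.1
  have := finite_mulAut P
  obtain ⟨-, R, hR⟩ := isFullyAutomized_of_isFullyNormalized hS hF hP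
  refine ⟨R.mapSurjective (QuotientGroup.mk'_surjective _), fun a => ?_⟩
  have hker : (QuotientGroup.mk' ((Cfsg.Inn P).subgroupOf (F.autGroup P))).ker ≤ R := by
    rw [QuotientGroup.ker_mk', hR]
    exact Subgroup.comap_mono (inn_le_autInducedBy hP.1)
  rw [Sylow.coe_mapSurjective]
  constructor
  · intro ha
    have : a ∈ ((R : Subgroup _).map (QuotientGroup.mk' _)).comap (QuotientGroup.mk' _) := ha
    rw [Subgroup.comap_map_eq_self hker, hR] at this
    exact this
  · intro ha
    exact ⟨a, hR ▸ ha, rfl⟩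

/-- For a fully normalized centric `P`, failure of generation by extendable automorphisms gives
a strongly `p`-embedded subgroup of `Out_F(P)`. -/
theorem isStronglyPEmbedded_of_ne (hS : IsPGroup p S) (hF : F.IsSaturated p) {P : Subgroup Ω}
    (hPS : P < S) (hP : F.IsFullyNormalized P) (h : Subgroup.closure (extSet F P) ≠ F.autGroup P)
    [hn : ((Cfsg.Inn P).subgroupOf (F.autGroup P)).Normal] :
    Cfsg.IsStronglyPEmbedded p (((Subgroup.closure (extSet F P)).subgroupOf (F.autGroup P)).map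
      (QuotientGroup.mk' ((Cfsg.Inn P).subgroupOf (F.autGroup P)))) := by
  have := finite_of_le hP.1
  have := finite_mulAut P
  have hc := centralizerIn_le_of_closure_extSet_ne hS hF hP h
  obtain ⟨T, hT⟩ := exists_sylow_out hS hF hP
  refine ⟨?_, fun htop => h (le_antisymm (closure_extSet_le P) fun α hα => ?_), T, ?_⟩
  · obtain ⟨g, hg, hgP⟩ := SetLike.exists_of_lt (lt_normalizerIn hS hPS.le hPS.ne)
    have hα := conjAut_mem_autInducedBy (K := S) hg.2 hg.1
    have hmem := (hT ⟨_, autInducedBy_le_autGroup hP.1 hα⟩).2 hα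
    have hne : T.toSubgroup ≠ ⊥ := fun hbot => by
      rw [hbot, Subgroup.mem_bot, QuotientGroup.mk'_apply, QuotientGroup.eq_one_iff] at hmem
      exact conjAut_notMem_inn hc hP.1 hg hgP (conjAut_apply P hg.2) hmem
    have : Nontrivial T.toSubgroup := (Subgroup.nontrivial_iff_ne_bot _).2 hne
    obtain ⟨k, hk, hk'⟩ := T.isPGroup'.nontrivial_iff_card.1 this
    exact (hk' ▸ dvd_pow_self p hk.ne').trans (Subgroup.card_subgroup_dvd_card _)
  · have hm : QuotientGroup.mk' ((Cfsg.Inn P).subgroupOf (F.autGroup P)) ⟨α, hα⟩ ∈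
        ((Subgroup.closure (extSet F P)).subgroupOf (F.autGroup P)).map
          (QuotientGroup.mk' _) := by rw [htop]; trivial
    obtain ⟨b, hb, hbe⟩ := hm
    rw [QuotientGroup.mk'_apply, QuotientGroup.mk'_apply, QuotientGroup.eq] at hbe
    have hi : (b : MulAut P)⁻¹ * α ∈ Subgroup.closure (extSet F P) :=
      Subgroup.subset_closure (inn_subset_extSet hS hPS hbe)
    simpa using Subgroup.mul_mem _ (show (b : MulAut P) ∈ Subgroup.closure (extSet F P) from hb) hi
  · rw [kGeneratedCore_one_le_iff T.isPGroup']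
    intro U hU hne n hn'
    obtain ⟨a, rfl⟩ := QuotientGroup.mk'_surjective _ n
    obtain ⟨u, hu, hu1⟩ := (Subgroup.bot_or_exists_ne_one U).resolve_left hne
    obtain ⟨c, rfl⟩ := QuotientGroup.mk'_surjective _ u
    obtain ⟨g, hg, hgv⟩ := (mem_autInducedBy_iff S P _).1 ((hT c).1 (hU hu))
    have hgN := mem_normalizerIn_of_induces hP.1 hg hgv
    have hgP : g ∉ P := fun hgP => hu1 (by
      rw [QuotientGroup.mk'_apply, QuotientGroup.eq_one_iff]
      exact (mem_inn_iff _).2 ⟨g, hgP, hgv⟩)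
    have hconj : QuotientGroup.mk' _ (a * c * a⁻¹) ∈ T.toSubgroup := by
      rw [map_mul, map_mul, map_inv]
      exact hU ((Subgroup.mem_normalizer_iff.1 hn' _).1 hu)
    obtain ⟨h', hh', hhv⟩ := (mem_autInducedBy_iff S P _).1 ((hT _).1 hconj)
    refine ⟨a, Subgroup.subset_closure
      (mem_extSet_of_lt (isReceptive_of_isFullyNormalized hS hF hP) a.2 ?_), rfl⟩
    refine lt_nPhi_of_mem ((mem_autGroup_iff hP.1 _).1 a.2).isMap
      ⟨hg, hgN.2, h', hh', fun x hx => ?_⟩ hgP
    have := hhv ((a : MulAut P) ⟨x, hx⟩)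
    rw [autFun_apply _ (conj_mem_of_mem_normalizer hgN.2 hx), autFun_apply _ hx]
    refine Eq.trans ?_ this
    simp only [Subgroup.coe_mul, Subgroup.coe_inv, MulAut.mul_apply, MulAut.inv_apply_self]
    congr 2
    exact Subtype.ext (hgv ⟨x, hx⟩).symm

theorem isEssential_of_ne (hS : IsPGroup p S) (hF : F.IsSaturated p) {P : Subgroup Ω}
    (hPS : P < S) (hP : F.IsFullyNormalized P) (h : Subgroup.closure (extSet F P) ≠ F.autGroup P) :
    F.IsEssential p P := by
  have := inn_subgroupOf_normal F P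
  exact ⟨isCentric_of_fullyCentralized hS hF (isFullyCentralized_of_isFullyNormalized hS hF hP)
    (centralizerIn_le_of_closure_extSet_ne hS hF hP h), hP, this, _,
    isStronglyPEmbedded_of_ne hS hF hPS hP h⟩

/-- At an essential subgroup the extendable automorphisms do not generate. -/
theorem closure_extSet_ne_of_isEssential (hS : IsPGroup p S) (hF : F.IsSaturated p)
    {P : Subgroup Ω} (hP : F.IsEssential p P) :
    Subgroup.closure (extSet F P) ≠ F.autGroup P := by
  obtain ⟨hcen, hfn, hn, E, hE⟩ := hP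
  have := finite_of_le hfn.1
  have := finite_mulAut P
  have hc : centralizerIn S P ≤ P := hcen.2 P (isConj_refl hfn.1)
  obtain ⟨T, hT⟩ := exists_sylow_out hS hF hfn
  obtain ⟨E', hE'top, hE'⟩ := exists_of_isStronglyPEmbedded hE T
  intro heq
  apply hE'top
  have hsub : ∀ α : MulAut P, α ∈ Subgroup.closure (extSet F P) → ∀ hα : α ∈ F.autGroup P,
      QuotientGroup.mk' ((Cfsg.Inn P).subgroupOf (F.autGroup P)) ⟨α, hα⟩ ∈ E' := by
    intro α hα
    induction hα using Subgroup.closure_induction with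
    | one => intro h1; exact (map_one (QuotientGroup.mk' ((Cfsg.Inn P).subgroupOf (F.autGroup P)))).symm ▸ E'.one_mem
    | mul β γ hβ hγ ihβ ihγ =>
      intro h
      have := E'.mul_mem (ihβ (closure_extSet_le P hβ)) (ihγ (closure_extSet_le P hγ))
      rw [← map_mul] at this
      exact this
    | inv β hβ ihβ =>
      intro h
      have := E'.inv_mem (ihβ (closure_extSet_le P hβ))
      rw [← map_inv] at this
      exact this
    | mem β hβ =>
      intro hβF
      obtain ⟨Q, hPQ, f, hf, hv⟩ := hβ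
      have hQS : Q ≤ S := hf.le
      have := finite_of_le hQS
      obtain ⟨g, hg, hgP⟩ := SetLike.exists_of_lt
        (lt_normalizerIn (hS.to_le hQS) hPQ.le hPQ.ne)
      have hgS : g ∈ normalizerIn S P := ⟨hQS hg.1, hg.2⟩
      have hPP : IsIso F P P f := ((mem_autGroup_iff hfn.1 β).1 hβF).congr fun x hx => by
        rw [autFun_apply β hx, hv]
      have hfg := hf.mem_normalizerIn hPQ.le hPP hg.1 hg.2
      have hc1 := conjAut_mem_autInducedBy (K := S) hgS.2 hgS.1
      let u := QuotientGroup.mk' ((Cfsg.Inn P).subgroupOf (F.autGroup P))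
        ⟨conjAut P hgS.2, autInducedBy_le_autGroup hfn.1 hc1⟩
      have hu : u ∈ T.toSubgroup := (hT _).2 hc1
      have hu1 : u ≠ 1 := by
        change QuotientGroup.mk' _ _ ≠ 1
        rw [Ne, QuotientGroup.mk'_apply, QuotientGroup.eq_one_iff]
        exact conjAut_notMem_inn hc hfn.1 hgS hgP (conjAut_apply P hgS.2)
      refine mem_of_conj_le hE' _ (Subgroup.zpowers u) rfl (Subgroup.zpowers_le.2 hu)
        (Subgroup.zpowers_ne_bot.2 hu1) _ fun w hw => ?_
      obtain ⟨k, rfl⟩ := hw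
      rw [← conj_zpow]
      refine Subgroup.zpow_mem _ ?_ k
      rw [← map_inv, ← map_mul, ← map_mul, hT]
      refine (mem_autInducedBy_iff S P _).2 ⟨f g, hfg.1, fun x => ?_⟩
      obtain ⟨y, rfl⟩ := β.surjective x
      simp only [Subgroup.coe_mul, Subgroup.coe_inv, MulAut.mul_apply, MulAut.inv_apply_self]
      rw [hv, hv, ← hf.map_conj hg.1 (hPQ.le y.2)]
      rfl
  rw [eq_top_iff]
  intro n _
  obtain ⟨a, rfl⟩ := QuotientGroup.mk'_surjective _ n
  exact hsub a (by rw [heq]; exact a.2) a.2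

theorem ne_of_isEssential (hS : IsPGroup p S) (hF : F.IsSaturated p) {P : Subgroup Ω}
    (hP : F.IsEssential p P) : P ≠ S := by
  intro hPS
  obtain ⟨-, hfn, hn, E, hE⟩ := hP
  have := finite_of_le hfn.1
  have := finite_mulAut P
  obtain ⟨T, hT⟩ := exists_sylow_out hS hF hfn
  have hbot : T.toSubgroup = ⊥ := by
    rw [Subgroup.eq_bot_iff_forall]
    intro u hu
    obtain ⟨a, rfl⟩ := QuotientGroup.mk'_surjective _ u
    rw [QuotientGroup.mk'_apply, QuotientGroup.eq_one_iff, Subgroup.mem_subgroupOf, mem_inn_iff]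
    obtain ⟨g, hg, hv⟩ := (mem_autInducedBy_iff S P _).1 ((hT a).1 hu)
    exact ⟨g, hPS.symm ▸ hg, hv⟩
  refine T.not_dvd_index ?_
  rw [hbot, Subgroup.index_bot]
  exact hE.1

/-- Alperin's fusion theorem: `F` is generated by the automorphism groups of `S` and of the
essential subgroups. -/
theorem le_of_autGroup_le_step (hS : IsPGroup p S) (hF : F.IsSaturated p) {E : FusionSystem S}
    (hE : ∀ P : Subgroup Ω, (P = S ∨ F.IsEssential p P) →
      (∀ (A : Subgroup Ω) (g : Ω → Ω), Nat.card P < Nat.card A → IsMap F A g → IsMap E A g) →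
      F.autGroup P ≤ E.autGroup P) :
    ∀ (P : Subgroup Ω) (f : Ω → Ω), IsMap F P f → IsMap E P f := by
  suffices h : ∀ (n : ℕ) (P : Subgroup Ω) (f : Ω → Ω), Nat.card S - Nat.card P = n →
      IsMap F P f → IsMap E P f from fun P f hf => h _ P f rfl hf
  intro n
  induction n using Nat.strong_induction_on with
  | _ n ih =>
  intro P f hn hf
  obtain ⟨Q, hQ⟩ := hf.exists_iso
  have := finite_of_le hQ.le_left
  rcases eq_or_ne P S with hPS | hne
  · subst hPS
    have hQS : Q = P := Subgroup.eq_of_le_of_card_ge hQ.le_right hQ.card_eq.ge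
    rw [hQS] at hQ
    obtain ⟨α, hα, hv⟩ := exists_mem_autGroup hQ
    refine ((mem_autGroup_iff le_rfl α).1 (hE P (Or.inl rfl) (fun A g hA hg => ?_) hα)).isMap.congr
      fun x hx => by
      rw [autFun_apply α hx, hv]
    exact absurd (Subgroup.card_le_of_le hg.le) (not_le.2 hA)
  obtain ⟨R, hPR, hR⟩ := exists_isFullyNormalized (F := F) hQ.le_left
  have ha := isFullyAutomized_of_isFullyNormalized hS hF hR
  have hr := isReceptive_of_isFullyNormalized hS hF hR
  obtain ⟨a, haN, haP, -, -⟩ := exists_map_normalizerIn hS ha hr hPR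
  obtain ⟨b, hbN, hbQ, -, -⟩ :=
    exists_map_normalizerIn hS ha hr (isConj_trans (isConj_symm hQ.isConj) hPR)
  have hbig : ∀ A : Subgroup Ω, A ≤ S → A ≠ S → Nat.card A = Nat.card P →
      Nat.card S - Nat.card (normalizerIn S A) < n := by
    intro A hA hAne hcard
    have := finite_of_le (S := S) (P := normalizerIn S A) inf_le_left
    have := finite_of_le hA
    have hlt := lt_normalizerIn hS hA hAne
    have h1 : Nat.card A < Nat.card (normalizerIn S A) := by
      refine lt_of_le_of_ne (Subgroup.card_le_of_le hlt.le) fun h => ?_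
      exact hlt.ne (Subgroup.eq_of_le_of_card_ge hlt.le h.ge)
    have h2 : Nat.card (normalizerIn S A) ≤ Nat.card S := Subgroup.card_le_of_le inf_le_left
    omega
  have hQne : Q ≠ S := fun h => hne (Subgroup.eq_of_le_of_card_ge hQ.le_left
    (h ▸ hQ.card_eq).le)
  have haE : IsIso E P R a :=
    ⟨(ih _ (hbig P hQ.le_left hne rfl) _ _ rfl haN).mono (le_normalizerIn hQ.le_left), haP.image_eq⟩
  have hbE : IsIso E Q R b :=
    ⟨(ih _ (hbig Q hQ.le_right hQne hQ.card_eq) _ _ rfl hbN).mono (le_normalizerIn hQ.le_right),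
      hbQ.image_eq⟩
  obtain ⟨a', ha', ha'1, -⟩ := haP.exists_symm
  obtain ⟨b', hb', hb'1, -⟩ := hbE.exists_symm
  obtain ⟨α, hα, hαv⟩ := exists_mem_autGroup ((ha'.comp hQ).comp hbQ)
  have hRS : R < S := lt_of_le_of_ne hR.1 fun h => hne (Subgroup.eq_of_le_of_card_ge hQ.le_left
    (by rw [← haP.card_eq, h]))
  have hαE : α ∈ E.autGroup R := by
    by_cases hgen : Subgroup.closure (extSet F R) = F.autGroup R
    · rw [← hgen] at hα
      refine (Subgroup.closure_le _).2 ?_ hα
      rintro β ⟨A, hRA, g, hg, hgv⟩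
      have := finite_of_le hg.le
      have h1 : Nat.card R < Nat.card A := by
        refine lt_of_le_of_ne (Subgroup.card_le_of_le hRA.le) fun h => ?_
        exact hRA.ne (Subgroup.eq_of_le_of_card_ge hRA.le h.ge)
      have h2 : Nat.card A ≤ Nat.card S := Subgroup.card_le_of_le hg.le
      have h3 := haP.card_eq
      exact mem_autGroup_of_isMap ((ih _ (by omega) A g rfl hg).mono hRA.le) β hgv
    · refine hE R (Or.inr (isEssential_of_ne hS hF hRS hR hgen)) (fun A g hA hg => ?_) hα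
      have h2 : Nat.card A ≤ Nat.card S := Subgroup.card_le_of_le hg.le
      have h3 := haP.card_eq
      exact ih _ (by omega) A g rfl hg
  have hαE' := (mem_autGroup_iff hR.1 α).1 hαE
  refine ((haE.comp hαE').comp hb').isMap.congr fun x hx => ?_
  show b' (autFun α (a x)) = f x
  rw [autFun_apply α (haP.mem hx), hαv]
  show b' (b (f (a' (a x)))) = f x
  rw [ha'1 x hx, hb'1 _ (hQ.mem hx)]

theorem le_of_autGroup_le (hS : IsPGroup p S) (hF : F.IsSaturated p) {E : FusionSystem S}
    (hE : ∀ P : Subgroup Ω, (P = S ∨ F.IsEssential p P) → F.autGroup P ≤ E.autGroup P) :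
    ∀ (P : Subgroup Ω) (f : Ω → Ω), IsMap F P f → IsMap E P f :=
  le_of_autGroup_le_step hS hF fun P hP _ => hE P hP

theorem le_of_autGroup_le' (hS : IsPGroup p S) (hF : F.IsSaturated p) {E : FusionSystem S}
    (hE : ∀ P : Subgroup Ω, (P = S ∨ F.IsEssential p P) → F.autGroup P ≤ E.autGroup P) :
    F ≤ E :=
  fun P φ hφ => (mem_hom_iff φ).2 (le_of_autGroup_le hS hF hE P _ (isMap_homFun hφ))

end CfsgLib.Fusion
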