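import Cfsg.Agent.Lib.Fusion.Saturation

/-!
Equivalent sets of saturation axioms.
-/

set_option autoImplicit false

namespace CfsgLib.Fusion

open Cfsg Cfsg.FusionSystem

variable {Ω : Type*} [Group Ω] {S : Subgroup Ω} {F : FusionSystem S}
variable {p : ℕ} [Fact p.Prime] [Finite S]

theorem lt_normalizerIn (hS : IsPGroup p S) {P : Subgroup Ω} (hP : P ≤ S) (hne : P ≠ S) :
    P < normalizerIn S P := by
  refine lt_of_le_of_ne (le_normalizerIn hP) fun h => ?_
  have : Group.IsNilpotent S := hS.isNilpotent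
  have hlt : P.subgroupOf S < ⊤ := by
    rw [lt_top_iff_ne_top, Ne, Subgroup.subgroupOf_eq_top]
    exact fun h' => hne (le_antisymm hP h')
  obtain ⟨g, hgn, hg⟩ := SetLike.exists_of_lt
    (Group.normalizerCondition_of_isNilpotent (P.subgroupOf S) hlt)
  apply hg
  have : (g : Ω) ∈ normalizerIn S P := by
    refine ⟨g.2, mem_normalizer_of_conj_mem hP fun x hx => ?_⟩
    have := conj_mem_of_mem_normalizer hgn (show (⟨x, hP hx⟩ : S) ∈ P.subgroupOf S from hx)
    exact this
  rw [← h] at this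
  exact this

theorem isSaturated_of_axioms
    (h1 : ∀ P : Subgroup Ω, F.IsFullyNormalized P → F.IsFullyAutomized p P ∧ F.IsReceptive P) :
    F.IsSaturated p := by
  intro P hP
  obtain ⟨Q, hQ, hQn⟩ := exists_isFullyNormalized (F := F) hP
  exact ⟨Q, hQ, h1 Q hQn⟩

/-- If `S` is fully automized and every fully normalized subgroup is receptive, then every fully
normalized subgroup is fully automized. -/
theorem isFullyAutomized_of_top_and_receptive (hS : IsPGroup p S)
    (htop : F.IsFullyAutomized p S)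
    (hrec : ∀ P : Subgroup Ω, F.IsFullyNormalized P → F.IsReceptive P) :
    ∀ (n : ℕ) (P : Subgroup Ω), Nat.card S - Nat.card P = n → F.IsFullyNormalized P →
      F.IsFullyAutomized p P := by
  intro n
  induction n using Nat.strong_induction_on with
  | _ n ih =>
  intro P hn hP
  rcases eq_or_ne P S with rfl | hne
  · exact htop
  have := finite_of_le hP.1
  have := finite_mulAut P
  have hle : autInducedBy S P ≤ F.autGroup P := autInducedBy_le_autGroup hP.1
  obtain ⟨R, hR⟩ :=
    ((isPGroup_autInducedBy hS P).of_equiv (Subgroup.subgroupOfEquivOfLe hle).symm).exists_le_sylow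
  refine ⟨hP.1, R, ?_⟩
  by_contra hcon
  have hlt : (autInducedBy S P).subgroupOf (F.autGroup P) < R := lt_of_le_of_ne hR (Ne.symm hcon)
  have : Group.IsNilpotent R := R.isPGroup'.isNilpotent
  set A := ((autInducedBy S P).subgroupOf (F.autGroup P)).subgroupOf (R : Subgroup _) with hA
  have hAt : A < ⊤ := by
    rw [lt_top_iff_ne_top, hA, Ne, Subgroup.subgroupOf_eq_top]
    exact hlt.not_ge
  obtain ⟨a, han, haA⟩ := SetLike.exists_of_lt (Group.normalizerCondition_of_isNilpotent A hAt)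
  set α : MulAut P := (((a : R) : F.autGroup P) : MulAut P) with hα
  have hαF : α ∈ F.autGroup P := SetLike.coe_mem _
  have hαA : α ∉ autInducedBy S P := haA
  obtain ⟨b, hb⟩ := R.isPGroup' a
  have hαp : α ^ p ^ b = 1 := congrArg Subtype.val (congrArg Subtype.val hb)
  -- `α` extends to the normalizer of `P`
  have hαi := (mem_autGroup_iff hP.1 α).1 hαF
  have hN : nPhi S P (autFun α) = normalizerIn S P := by
    refine le_antisymm (nPhi_le _ _) fun g hg => ?_
    have hcg := conjAut_mem_autInducedBy (K := S) hg.2 hg.1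
    have := conj_mem_of_mem_normalizer han
      (show (⟨⟨conjAut P hg.2, hle hcg⟩, hR hcg⟩ : R) ∈ A from hcg)
    obtain ⟨h, hh, hv⟩ := (mem_autInducedBy_iff S P _).1 this
    refine ⟨hg.1, hg.2, h, hh, fun x hx => ?_⟩
    have := hv (α ⟨x, hx⟩)
    rw [autFun_apply α (conj_mem_of_mem_normalizer hg.2 hx), autFun_apply α hx]
    refine Eq.trans ?_ this
    show (α _ : Ω) = ((α * conjAut P hg.2 * α⁻¹) (α ⟨x, hx⟩) : Ω)
    rw [MulAut.mul_apply, MulAut.mul_apply, MulAut.inv_apply_self]
    rfl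
  obtain ⟨f, hfm, hfv⟩ := (isReceptive_iff.1 (hrec P hP)).2 P _ hαi
  rw [hN] at hfm
  have := finite_of_le (S := S) (P := normalizerIn S P) inf_le_left
  have hfP : IsIso F P P f := hαi.congr fun x hx => (hfv x hx).symm
  have hfN : IsIso F (normalizerIn S P) (normalizerIn S P) f :=
    hfm.isIso_of_card_le
      (fun g hg => hfm.mem_normalizerIn (le_normalizerIn hP.1) hfP hg hg.2) le_rfl
  obtain ⟨ψ, hψ, hψv⟩ := exists_mem_autGroup hfN
  -- replace `ψ` by a power of `p`-power order with the same restriction to `P`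
  have := finite_mulAut (normalizerIn S P)
  obtain ⟨c, r, hr, hord⟩ := Nat.exists_eq_pow_mul_and_not_dvd (orderOf_pos ψ).ne' p
    (Fact.out : p.Prime).ne_one
  obtain ⟨m, hm1, hm0⟩ := Nat.chineseRemainder
    (((Fact.out : p.Prime).coprime_iff_not_dvd).2 hr |>.pow_left b) 1 0
  have hrestr : ∀ (k : ℕ) (x : P),
      (((ψ ^ k) ⟨x, le_normalizerIn hP.1 x.2⟩ : normalizerIn S P) : Ω) = ((α ^ k) x : Ω) := by
    intro k
    induction k with
    | zero => intro x; simp
    | succ k ih =>
      intro x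
      rw [pow_succ', pow_succ', MulAut.mul_apply, MulAut.mul_apply, hψv, ih,
        hfv _ (SetLike.coe_mem _), autFun_coe]
  have hαm : α ^ m = α := by
    have hm' : orderOf α ∣ p ^ b := orderOf_dvd_of_pow_eq_one hαp
    conv_rhs => rw [← pow_one α]
    rw [pow_eq_pow_iff_modEq]
    exact hm1.of_dvd hm'
  have hψm : (ψ ^ m) ^ p ^ c = 1 := by
    rw [← pow_mul, ← orderOf_dvd_iff_pow_eq_one, hord, mul_comm m]
    exact mul_dvd_mul_left _ (Nat.modEq_zero_iff_dvd.1 hm0)
  -- move it to a fully normalized conjugate of the normalizer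
  obtain ⟨N', hNN', hN'⟩ := exists_isFullyNormalized (F := F)
    (show normalizerIn S P ≤ S from inf_le_left)
  obtain ⟨ω, hω⟩ := isConj_iff.1 hNN'
  have hcard : Nat.card P < Nat.card (normalizerIn S P) := by
    have hlt' := lt_normalizerIn hS hP.1 hne
    refine lt_of_le_of_ne (Subgroup.card_le_of_le hlt'.le) fun h => ?_
    exact hlt'.ne (Subgroup.eq_of_le_of_card_ge hlt'.le h.ge)
  have hcN : Nat.card (normalizerIn S P) ≤ Nat.card S := Subgroup.card_le_of_le inf_le_left
  have hN'a := ih (Nat.card S - Nat.card N') (by rw [hω.card_eq]; omega) N' rfl hN'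
  obtain ⟨β, hβ, hconj⟩ := ((isFullyAutomized_iff hS).1 hN'a).2
    ((Subgroup.zpowers (ψ ^ m)).map (MulAut.congr hω.equiv).toMonoidHom)
    (by
      rintro _ ⟨γ, hγ, rfl⟩
      exact hω.congr_mem_autGroup
        ((Subgroup.zpowers_le.2 ((F.autGroup (normalizerIn S P)).pow_mem hψ m)) hγ))
    (IsPGroup.map (show IsPGroup p (Subgroup.zpowers (ψ ^ m)) from fun x => ⟨c, by
      obtain ⟨_, k, rfl⟩ := x
      apply Subtype.ext
      show ((ψ ^ m) ^ k) ^ p ^ c = 1
      rw [← zpow_natCast, ← zpow_mul, mul_comm, zpow_mul, zpow_natCast, hψm, one_zpow]⟩) _)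
  obtain ⟨g, hgS, hgv⟩ := (mem_autInducedBy_iff S N' _).1
    (hconj _ ⟨_, Subgroup.mem_zpowers _, rfl⟩)
  -- `g` normalizes the image of `P`
  have hω' : IsIso F (normalizerIn S P) N' (autFun β ∘ ω) :=
    hω.comp ((mem_autGroup_iff hN'.1 β).1 hβ)
  have hkey : ∀ y : normalizerIn S P, g * (autFun β (ω y)) * g⁻¹
      = autFun β (ω (((ψ ^ m) y : normalizerIn S P) : Ω)) := by
    intro y
    have := hgv (β (hω.equiv y))
    simp only [MulAut.mul_apply, MulAut.inv_apply_self, MulEquiv.coe_toMonoidHom] at this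
    rw [← hω.equiv_apply, autFun_coe, ← this, ← autFun_coe β, hω.congr_apply]
  obtain ⟨P', hP'⟩ := (hω'.isMap.mono (le_normalizerIn hP.1)).exists_iso
  have hN'P' : N' ≤ normalizerIn S P' := by
    intro y hy
    obtain ⟨x, hx, rfl⟩ := hω'.surj hy
    exact hω'.isMap.mem_normalizerIn (le_normalizerIn hP.1) hP' hx hx.2
  have hgP' : g ∈ normalizerIn S P' := by
    refine ⟨hgS, mem_normalizer_of_conj_mem hP'.le_right fun y hy => ?_⟩
    obtain ⟨x, hx, rfl⟩ := hP'.surj hy
    show g * autFun β (ω x) * g⁻¹ ∈ P'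
    rw [hkey ⟨x, le_normalizerIn hP.1 hx⟩, hrestr m ⟨x, hx⟩]
    exact hP'.mem (SetLike.coe_mem _)
  have := finite_of_le (S := S) (P := normalizerIn S P') inf_le_left
  have hN'eq : N' = normalizerIn S P' := Subgroup.eq_of_le_of_card_ge hN'P'
    (hω.card_eq ▸ hP.2 P' hP'.isConj)
  obtain ⟨t, ht, htg⟩ := hω'.surj (hN'eq ▸ hgP' : g ∈ N')
  refine hαA ((mem_autInducedBy_iff S P α).2 ⟨t, ht.1, fun x => ?_⟩)
  have h1 := hkey ⟨x, le_normalizerIn hP.1 x.2⟩
  rw [hrestr m x, hαm, ← htg] at h1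
  have hxN := le_normalizerIn hP.1 x.2
  refine (hω'.isMap.injOn ((normalizerIn S P).mul_mem ((normalizerIn S P).mul_mem ht hxN)
    ((normalizerIn S P).inv_mem ht)) (le_normalizerIn hP.1 (SetLike.coe_mem _)) ?_).symm
  rw [hω'.isMap.map_conj ht hxN]
  exact h1

theorem isSaturated_iff_top_automized_receptive (hS : IsPGroup p S) :
    F.IsSaturated p ↔
      F.IsFullyAutomized p S ∧ ∀ P : Subgroup Ω, F.IsFullyNormalized P → F.IsReceptive P := by
  refine ⟨fun hF => ⟨?_, fun P hP => isReceptive_of_isFullyNormalized hS hF hP⟩,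
    fun h => isSaturated_of_axioms fun P hP =>
      ⟨isFullyAutomized_of_top_and_receptive hS h.1 h.2 _ P rfl hP, h.2 P hP⟩⟩
  refine isFullyAutomized_of_isFullyNormalized hS hF ⟨le_rfl, fun Q hQ => ?_⟩
  obtain ⟨f, hf⟩ := isConj_iff.1 hQ
  have : Q = S := Subgroup.eq_of_le_of_card_ge hf.le_right hf.card_eq.ge
  rw [this]

end CfsgLib.Fusion
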