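import Mathlib
import Cfsg.Agent.Lib.Fusion.Axioms
import Cfsg.Agent.Lib.Fusion.Group

/-!
Saturation of `K`-normalizer subsystems (`N_F(Q)` and `C_F(Q)` are the extreme cases).
-/

set_option autoImplicit false

namespace CfsgLib.Fusion

open Cfsg Cfsg.FusionSystem

variable {Ω : Type*} [Group Ω] {S : Subgroup Ω}

/-- The elements of `N_S(Q')` inducing on `Q' = f(Q)` an element of `f K f⁻¹`. -/
def kNorm (S Q : Subgroup Ω) (K : Subgroup (MulAut Q)) (f : Ω → Ω) (Q' : Subgroup Ω) :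
    Subgroup Ω where
  carrier := {g | g ∈ normalizerIn S Q' ∧ ∃ k ∈ K, ∀ x ∈ Q, g * f x * g⁻¹ = f (autFun k x)}
  one_mem' := ⟨Subgroup.one_mem _, 1, K.one_mem, fun x hx => by
    rw [autFun_apply _ hx, MulAut.one_apply]; simp⟩
  mul_mem' := by
    rintro a b ⟨ha, k, hk, hav⟩ ⟨hb, l, hl, hbv⟩
    refine ⟨Subgroup.mul_mem _ ha hb, k * l, K.mul_mem hk hl, fun x hx => ?_⟩
    calc a * b * f x * (a * b)⁻¹ = a * (b * f x * b⁻¹) * a⁻¹ := by group
      _ = f (autFun k (autFun l x)) := by rw [hbv x hx, hav _ (autFun_mem l hx)]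
      _ = f (autFun (k * l) x) := by rw [autFun_apply l hx, autFun_coe, autFun_apply _ hx]; rfl
  inv_mem' := by
    rintro a ⟨ha, k, hk, hav⟩
    refine ⟨Subgroup.inv_mem _ ha, k⁻¹, K.inv_mem hk, fun x hx => ?_⟩
    have := hav _ (autFun_mem k⁻¹ hx)
    rw [autFun_apply k⁻¹ hx, autFun_coe, MulAut.apply_inv_self] at this
    rw [autFun_apply k⁻¹ hx, show f x = a * f ((k⁻¹ ⟨x, hx⟩ : Q) : Ω) * a⁻¹ from this.symm]
    group

/-- A function restricts to an element of `K` on `Q`. -/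
def KAdm {Q : Subgroup Ω} (K : Subgroup (MulAut Q)) (f : Ω → Ω) : Prop :=
  ∃ k ∈ K, ∀ x ∈ Q, f x = autFun k x

theorem KAdm.mem {Q : Subgroup Ω} {K : Subgroup (MulAut Q)} {f : Ω → Ω} (h : KAdm K f) {x : Ω}
    (hx : x ∈ Q) : f x ∈ Q := by
  obtain ⟨k, -, hk⟩ := h
  rw [hk x hx]; exact autFun_mem k hx

theorem KAdm.image_eq {Q : Subgroup Ω} {K : Subgroup (MulAut Q)} {f : Ω → Ω} (h : KAdm K f) :
    f '' (Q : Set Ω) = Q := by
  obtain ⟨k, -, hk⟩ := h
  rw [Set.image_congr hk]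
  ext y
  constructor
  · rintro ⟨x, hx, rfl⟩; exact autFun_mem k hx
  · intro hy
    exact ⟨k⁻¹ ⟨y, hy⟩, SetLike.coe_mem _, by rw [autFun_coe, MulAut.apply_inv_self]⟩

theorem KAdm.comp {Q : Subgroup Ω} {K : Subgroup (MulAut Q)} {f g : Ω → Ω} (hf : KAdm K f)
    (hg : KAdm K g) : KAdm K (g ∘ f) := by
  obtain ⟨k, hk, hkv⟩ := hf
  obtain ⟨l, hl, hlv⟩ := hg
  refine ⟨l * k, K.mul_mem hl hk, fun x hx => ?_⟩
  show g (f x) = _
  rw [hkv x hx, hlv _ (autFun_mem k hx), autFun_apply k hx, autFun_coe, autFun_apply _ hx]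
  rfl

theorem KAdm.congr {Q : Subgroup Ω} {K : Subgroup (MulAut Q)} {f g : Ω → Ω} (hf : KAdm K f)
    (h : ∀ x ∈ Q, f x = g x) : KAdm K g := by
  obtain ⟨k, hk, hkv⟩ := hf
  exact ⟨k, hk, fun x hx => by rw [← h x hx, hkv x hx]⟩

theorem KAdm.symm {Q : Subgroup Ω} {K : Subgroup (MulAut Q)} {f g : Ω → Ω} (hf : KAdm K f)
    (h : ∀ x ∈ Q, g (f x) = x) : KAdm K g := by
  obtain ⟨k, hk, hkv⟩ := hf
  refine ⟨k⁻¹, K.inv_mem hk, fun y hy => ?_⟩
  have := h _ (autFun_mem k⁻¹ hy)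
  rw [autFun_apply k⁻¹ hy, hkv _ (SetLike.coe_mem _), autFun_coe, MulAut.apply_inv_self] at this
  rw [autFun_apply k⁻¹ hy, this]

/-- The automorphisms of `R` in the system that stabilize `P` and act on `Q` through `K`. -/
def stabAut (F : FusionSystem S) (R P : Subgroup Ω) {Q : Subgroup Ω} (hQ : Q ≤ R)
    (K : Subgroup (MulAut Q)) : Subgroup (MulAut R) where
  carrier := {α | α ∈ F.autGroup R ∧ (∀ x : R, (x : Ω) ∈ P ↔ (α x : Ω) ∈ P) ∧
    ∃ k ∈ K, ∀ x : Q, (α (Subgroup.inclusion hQ x) : Ω) = (k x : Ω)}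
  one_mem' := ⟨Subgroup.one_mem _, fun x => Iff.rfl, 1, K.one_mem, fun x => rfl⟩
  mul_mem' := by
    rintro a b ⟨ha, hap, k, hk, hav⟩ ⟨hb, hbp, l, hl, hbv⟩
    refine ⟨Subgroup.mul_mem _ ha hb, fun x => (hbp x).trans (hap _), k * l, K.mul_mem hk hl,
      fun x => ?_⟩
    rw [MulAut.mul_apply, MulAut.mul_apply, ← hav (l x)]
    congr 2
    exact Subtype.ext (hbv x)
  inv_mem' := by
    rintro a ⟨ha, hap, k, hk, hav⟩
    refine ⟨Subgroup.inv_mem _ ha, fun x => ?_, k⁻¹, K.inv_mem hk, fun x => ?_⟩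
    · have := hap (a⁻¹ x)
      rw [MulAut.apply_inv_self] at this
      exact this.symm
    · have := hav (k⁻¹ x)
      rw [MulAut.apply_inv_self] at this
      have e : a (Subgroup.inclusion hQ (k⁻¹ x)) = Subgroup.inclusion hQ x := Subtype.ext this
      rw [← e, MulAut.inv_apply_self]
      rfl

theorem card_eq_card_autInducedBy_mul [Finite S] {D R : Subgroup Ω} (hDS : D ≤ S)
    (hD : D ≤ Subgroup.normalizer (R : Set Ω)) :
    Nat.card D = Nat.card (autInducedBy D R) *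
      Nat.card ↥(D ⊓ Subgroup.centralizer (R : Set Ω)) := by
  have := finite_of_le hDS
  let χ : D →* MulAut R := R.normalizerMonoidHom.comp (Subgroup.inclusion hD)
  have hr : χ.range = autInducedBy D R := by
    ext α
    rw [mem_autInducedBy_iff]
    constructor
    · rintro ⟨d, rfl⟩; exact ⟨d, d.2, fun x => rfl⟩
    · rintro ⟨g, hg, hv⟩
      exact ⟨⟨g, hg⟩, MulEquiv.ext fun x => Subtype.ext (hv x).symm⟩
  have hk : χ.ker = (D ⊓ Subgroup.centralizer (R : Set Ω)).subgroupOf D := by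
    ext d
    rw [MonoidHom.mem_ker, Subgroup.mem_subgroupOf]
    constructor
    · intro h
      exact ⟨d.2, mem_centralizer_of_conj_eq fun x hx =>
        congrArg (fun a : MulAut R => ((a ⟨x, hx⟩ : R) : Ω)) h⟩
    · intro h
      exact MulEquiv.ext fun x => Subtype.ext (conj_eq_self_of_mem_centralizer h.2 x.2)
  rw [← hr, ← Nat.card_congr (Subgroup.subgroupOfEquivOfLe
    (inf_le_left : D ⊓ Subgroup.centralizer (R : Set Ω) ≤ D)).toEquiv, ← hk,
    ← Subgroup.index_ker χ, Subgroup.index_mul_card]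

variable [Finite S] {p : ℕ} [Fact p.Prime] {F : FusionSystem S} {Q : Subgroup Ω}
  {K : Subgroup (MulAut Q)} {N : Subgroup Ω} {E : FusionSystem N}

/-- The two facts that drive the proof, at a subgroup fully normalized in the `K`-normalizer. -/
theorem kNormalizer_key (hS : IsPGroup p S) (hF : F.IsSaturated p) (hQ : Q ≤ S)
    (hN : N = kNorm S Q K id Q)
    (hE : ∀ P f, IsMap E P f ↔ P ≤ N ∧ (∀ x ∈ P, f x ∈ N) ∧
      ∃ g, IsMap F (P ⊔ Q) g ∧ (∀ x ∈ P, g x = f x) ∧ KAdm K g)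
    (hK : ∀ (Q' : Subgroup Ω) (f : Ω → Ω), IsIso F Q Q' f →
      ∃ h, IsMap F (kNorm S Q K f Q' ⊔ Q') h ∧ KAdm K (h ∘ f))
    {P : Subgroup Ω} (hP : E.IsFullyNormalized P) :
    (∀ X : Subgroup (MulAut ↥(P ⊔ Q)), X ≤ stabAut F (P ⊔ Q) P le_sup_right K → IsPGroup p X →
      Nat.card X ≤ Nat.card (autInducedBy (normalizerIn N P) (P ⊔ Q))) ∧
    autInducedBy (normalizerIn N P) (P ⊔ Q) ≤ stabAut F (P ⊔ Q) P le_sup_right K ∧
    F.IsReceptive (P ⊔ Q) := by
  have hNS : N ≤ S := by rw [hN]; exact fun g hg => hg.1.1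
  have hNQ : N ≤ Subgroup.normalizer (Q : Set Ω) := by rw [hN]; exact fun g hg => hg.1.2
  have hR : P ⊔ Q ≤ S := sup_le (hP.1.trans hNS) hQ
  set R := P ⊔ Q with hRdef
  have := finite_of_le hR
  have := finite_mulAut R
  set D := normalizerIn N P with hDdef
  have hDS : D ≤ S := inf_le_left.trans hNS
  have hDR : D ≤ Subgroup.normalizer (R : Set Ω) := fun g hg => by
    refine mem_normalizer_of_conj_mem hR fun x hx => ?_
    have hle : R.map (MulAut.conj g).toMonoidHom ≤ R := by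
      rw [hRdef, Subgroup.map_sup]
      refine sup_le_sup ?_ ?_
      · rintro _ ⟨z, hz, rfl⟩; exact conj_mem_of_mem_normalizer hg.2 hz
      · rintro _ ⟨z, hz, rfl⟩; exact conj_mem_of_mem_normalizer (hNQ hg.1) hz
    exact hle ⟨x, hx, rfl⟩
  set A := autInducedBy D R
  set L := stabAut F R P le_sup_right K
  have hAL : A ≤ L := by
    intro α hα
    obtain ⟨g, hg, hv⟩ := (mem_autInducedBy_iff D R α).1 hα
    refine ⟨autInducedBy_le_autGroup hR (autInducedBy_mono hDS R hα), fun x => ?_, ?_⟩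
    · rw [hv]
      exact Subgroup.mem_normalizer_iff.1 hg.2 x
    · have hgN : g ∈ kNorm S Q K id Q := hN ▸ hg.1
      obtain ⟨k, hk, hkv⟩ := hgN.2
      exact ⟨k, hk, fun x => by
        rw [hv, ← autFun_coe k x]; exact hkv x x.2⟩
  obtain ⟨T, hT⟩ := (((isPGroup_autInducedBy (hS.to_le hDS) R)).of_equiv
    (Subgroup.subgroupOfEquivOfLe hAL).symm).exists_le_sylow
  set Lp : Subgroup (MulAut R) := (T : Subgroup L).map L.subtype
  have hALp : A ≤ Lp := fun a ha => ⟨⟨a, hAL ha⟩, hT ha, rfl⟩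
  have hLpL : Lp ≤ L := Subgroup.map_subtype_le _
  -- move `R` to a fully normalized conjugate, taking `Lp` into `Aut_S`
  obtain ⟨R', hRR', hR'⟩ := exists_isFullyNormalized (F := F) hR
  obtain ⟨f0, hf0⟩ := isConj_iff.1 hRR'
  obtain ⟨β, hβ, hconj⟩ := ((isFullyAutomized_iff hS).1
    (isFullyAutomized_of_isFullyNormalized hS hF hR')).2
    (Lp.map (MulAut.congr hf0.equiv).toMonoidHom)
    (by rintro _ ⟨a, ha, rfl⟩; exact hf0.congr_mem_autGroup (hLpL ha).1)
    ((T.isPGroup'.map _).map _)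
  set f := autFun β ∘ f0 with hfdef
  have hf : IsIso F R R' f := hf0.comp ((mem_autGroup_iff hR'.1 β).1 hβ)
  have hind : ∀ a ∈ Lp, ∃ g ∈ normalizerIn S R', ∀ x : R, g * f x * g⁻¹ = f (a x : Ω) := by
    intro a ha
    obtain ⟨g, hg, hv⟩ := (mem_autInducedBy_iff S R' _).1 (hconj _ ⟨a, ha, rfl⟩)
    refine ⟨g, mem_normalizerIn_of_induces hR'.1 hg hv, fun x => ?_⟩
    have e := hv (β (hf0.equiv x))
    simp only [MulAut.mul_apply, MulAut.inv_apply_self, MulEquiv.coe_toMonoidHom] at e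
    show g * autFun β (f0 x) * g⁻¹ = autFun β (f0 (a x : Ω))
    rw [← hf0.congr_apply a x, ← hf0.equiv_apply, autFun_coe, autFun_coe]
    exact e.symm
  let M : Subgroup Ω :=
    { carrier := {g | g ∈ normalizerIn S R' ∧ ∃ a ∈ Lp, ∀ x : R, g * f x * g⁻¹ = f (a x : Ω)}
      one_mem' := ⟨Subgroup.one_mem _, 1, Lp.one_mem, fun x => by simp⟩
      mul_mem' := by
        rintro a b ⟨ha, k, hk, hav⟩ ⟨hb, l, hl, hbv⟩
        refine ⟨Subgroup.mul_mem _ ha hb, k * l, Lp.mul_mem hk hl, fun x => ?_⟩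
        calc a * b * f x * (a * b)⁻¹ = a * (b * f x * b⁻¹) * a⁻¹ := by group
          _ = f ((k * l) x : Ω) := by rw [hbv x, hav (l x)]; rfl
      inv_mem' := by
        rintro a ⟨ha, k, hk, hav⟩
        refine ⟨Subgroup.inv_mem _ ha, k⁻¹, Lp.inv_mem hk, fun x => ?_⟩
        have := hav (k⁻¹ x)
        rw [MulAut.apply_inv_self] at this
        rw [← this]
        group }
  obtain ⟨Q', hQ'⟩ := (hf.isMap.mono (le_sup_right : Q ≤ R)).exists_iso
  obtain ⟨h, hh, hadm⟩ := hK Q' f hQ'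
  have hMk : ∀ g ∈ M, g ∈ kNorm S Q K f Q' := by
    rintro g ⟨hg, a, ha, hav⟩
    obtain ⟨-, -, k, hk, hkv⟩ := hLpL ha
    have e : ∀ x ∈ Q, g * f x * g⁻¹ = f (autFun k x) := fun x hx => by
      rw [hav ⟨x, Subgroup.mem_sup_right hx⟩, autFun_apply k hx, ← hkv ⟨x, hx⟩]
      rfl
    refine ⟨⟨hg.1, mem_normalizer_of_conj_mem hQ'.le_right fun y hy => ?_⟩, k, hk, e⟩
    obtain ⟨x, hx, rfl⟩ := hQ'.surj hy
    rw [e x hx]
    exact hQ'.mem (autFun_mem k hx)
  have hPk : ∀ x ∈ P, f x ∈ kNorm S Q K f Q' := by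
    intro x hx
    have hxR : x ∈ R := Subgroup.mem_sup_left hx
    obtain ⟨hxn, k, hk, hkv⟩ : x ∈ kNorm S Q K id Q := hN ▸ hP.1 hx
    have e : ∀ y ∈ Q, f x * f y * (f x)⁻¹ = f (autFun k y) := fun y hy => by
      rw [← hf.isMap.map_conj hxR (Subgroup.mem_sup_right hy)]
      exact congrArg f (hkv y hy)
    refine ⟨⟨hf.isMap.mem hxR, mem_normalizer_of_conj_mem hQ'.le_right fun z hz => ?_⟩, k, hk, e⟩
    obtain ⟨y, hy, rfl⟩ := hQ'.surj hz
    rw [e y hy]
    exact hQ'.mem (autFun_mem k hy)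
  have hR'W : ∀ x ∈ R, f x ∈ kNorm S Q K f Q' ⊔ Q' := by
    intro x hx
    have hle : (R.subgroupOf R).map hf.isMap.exists_hom.choose ≤ kNorm S Q K f Q' ⊔ Q' := by
      have hv := hf.isMap.exists_hom.choose_spec.2
      rw [show R.subgroupOf R = P.subgroupOf R ⊔ Q.subgroupOf R from
        Subgroup.subgroupOf_sup le_sup_left le_sup_right, Subgroup.map_sup]
      refine sup_le_sup ?_ ?_
      · rintro _ ⟨z, hz, rfl⟩; rw [hv]; exact hPk z hz
      · rintro _ ⟨z, hz, rfl⟩; rw [hv]; exact hQ'.mem hz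
    have := hle ⟨⟨x, hx⟩, hx, rfl⟩
    rwa [hf.isMap.exists_hom.choose_spec.2] at this
  have hθ : IsMap F R (h ∘ f) := hf.isMap.comp hh hR'W
  have hθN : ∀ x ∈ P, (h ∘ f) x ∈ N := by
    intro x hx
    have hxR : x ∈ R := Subgroup.mem_sup_left hx
    obtain ⟨-, k, hk, hkv⟩ : x ∈ kNorm S Q K id Q := hN ▸ hP.1 hx
    obtain ⟨l, hl, hlv⟩ := hadm
    have e : ∀ y ∈ Q, (h ∘ f) x * y * ((h ∘ f) x)⁻¹ = autFun (l * k * l⁻¹) y := by
      intro y hy
      have hy' := autFun_mem l⁻¹ hy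
      have e1 : y = (h ∘ f) (autFun l⁻¹ y) := by
        rw [hlv _ hy', autFun_apply l⁻¹ hy, autFun_coe, MulAut.apply_inv_self]
      conv_lhs => rw [e1]
      rw [← hθ.map_conj hxR (Subgroup.mem_sup_right hy'),
        show x * autFun l⁻¹ y * x⁻¹ = autFun k (autFun l⁻¹ y) from hkv _ hy',
        hlv _ (autFun_mem k hy'), autFun_apply l⁻¹ hy, autFun_coe, autFun_coe, autFun_apply _ hy]
      rfl
    rw [hN]
    refine ⟨⟨hθ.mem hxR, mem_normalizer_of_conj_mem hQ fun y hy => ?_⟩, l * k * l⁻¹,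
      K.mul_mem (K.mul_mem hl hk) (K.inv_mem hl), fun y hy => e y hy⟩
    rw [e y hy]
    exact autFun_mem _ hy
  have hEmap : IsMap E P (h ∘ f) := (hE P _).2 ⟨hP.1, hθN, _, hθ, fun x _ => rfl, hadm⟩
  obtain ⟨P'', hP''⟩ := hEmap.exists_iso
  have hMS : M ≤ S := fun g hg => hg.1.1
  have hMW : ∀ g ∈ M, g ∈ kNorm S Q K f Q' ⊔ Q' := fun g hg => Subgroup.mem_sup_left (hMk g hg)
  have hMD : ∀ g ∈ M, h g ∈ normalizerIn N P'' := by
    intro g hgM
    obtain ⟨-, a, ha, hav⟩ := id hgM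
    obtain ⟨-, hap, k, hk, hkv⟩ := hLpL ha
    obtain ⟨l, hl, hlv⟩ := id hadm
    have key : ∀ x : R, h g * (h ∘ f) x * (h g)⁻¹ = (h ∘ f) (a x : Ω) := by
      intro x
      show h g * h (f x) * (h g)⁻¹ = h (f (a x : Ω))
      rw [← hh.map_conj (hMW g hgM) (hR'W x x.2), hav x]
    have e : ∀ y ∈ Q, h g * y * (h g)⁻¹ = autFun (l * k * l⁻¹) y := by
      intro y hy
      have hy' := autFun_mem l⁻¹ hy
      have e1 : y = (h ∘ f) (autFun l⁻¹ y) := by
        rw [hlv _ hy', autFun_apply l⁻¹ hy, autFun_coe, MulAut.apply_inv_self]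
      conv_lhs => rw [e1]
      rw [key ⟨_, Subgroup.mem_sup_right hy'⟩,
        show (a ⟨autFun l⁻¹ y, Subgroup.mem_sup_right hy'⟩ : Ω) = autFun k (autFun l⁻¹ y) by
          rw [autFun_apply k hy', ← hkv ⟨_, hy'⟩]; rfl,
        hlv _ (autFun_mem k hy'), autFun_apply l⁻¹ hy, autFun_coe, autFun_coe, autFun_apply _ hy]
      rfl
    refine ⟨?_, mem_normalizer_of_conj_mem (hP''.le_right.trans hNS) fun z hz => ?_⟩
    · rw [hN]
      refine ⟨⟨hh.mem (hMW g hgM), mem_normalizer_of_conj_mem hQ fun y hy => ?_⟩, l * k * l⁻¹,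
        K.mul_mem (K.mul_mem hl hk) (K.inv_mem hl), fun y hy => e y hy⟩
      rw [e y hy]
      exact autFun_mem _ hy
    · obtain ⟨x, hx, rfl⟩ := hP''.surj hz
      rw [key ⟨x, Subgroup.mem_sup_left hx⟩]
      exact hP''.mem ((hap _).1 hx)
  have hDfin : Finite ↥(normalizerIn N P'') :=
    finite_of_le (inf_le_left.trans hNS : normalizerIn N P'' ≤ S)
  have hcard : Nat.card M ≤ Nat.card D :=
    ((hh.mono fun g hg => hMW g hg).card_le hMD).trans (hP.2 P'' hP''.isConj)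
  have hMR' : M ≤ Subgroup.normalizer (R' : Set Ω) := fun g hg => hg.1.2
  have hAut : autInducedBy M R' = Lp.map (MulAut.congr hf.equiv).toMonoidHom := by
    ext α
    rw [mem_autInducedBy_iff]
    constructor
    · rintro ⟨g, ⟨hg, a, ha, hav⟩, hv⟩
      refine ⟨a, ha, MulEquiv.ext fun y => Subtype.ext ?_⟩
      obtain ⟨x, rfl⟩ := hf.equiv.surjective y
      show (MulAut.congr hf.equiv a (hf.equiv x) : Ω) = _
      rw [hf.congr_apply, hv, ← hav x, hf.equiv_apply]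
    · rintro ⟨a, ha, rfl⟩
      obtain ⟨g, hg, hav⟩ := hind a ha
      refine ⟨g, ⟨hg, a, ha, hav⟩, fun y => ?_⟩
      obtain ⟨x, rfl⟩ := hf.equiv.surjective y
      show (MulAut.congr hf.equiv a (hf.equiv x) : Ω) = _
      rw [hf.congr_apply, hf.equiv_apply, hav x]
  have hMC : M ⊓ Subgroup.centralizer (R' : Set Ω) = centralizerIn S R' := by
    refine le_antisymm (inf_le_inf_right _ hMS) fun g hg => ⟨⟨centralizerIn_le_normalizerIn S R' hg,
      1, Lp.one_mem, fun x => ?_⟩, hg.2⟩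
    exact conj_eq_self_of_mem_centralizer hg.2 (hf.mem x.2)
  have hDC : D ⊓ Subgroup.centralizer (R : Set Ω) = centralizerIn S R := by
    refine le_antisymm (inf_le_inf_right _ hDS) fun g hg => ⟨⟨?_, ?_⟩, hg.2⟩
    · rw [hN]
      refine ⟨⟨hg.1, mem_normalizer_of_conj_mem hQ fun y hy => ?_⟩, 1, K.one_mem, fun y hy => ?_⟩
      · rw [conj_eq_self_of_mem_centralizer hg.2 (Subgroup.mem_sup_right hy)]; exact hy
      · show g * y * g⁻¹ = autFun 1 y
        rw [conj_eq_self_of_mem_centralizer hg.2 (Subgroup.mem_sup_right hy), autFun_apply _ hy]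
        rfl
    · refine mem_normalizer_of_conj_mem (hP.1.trans hNS) fun y hy => ?_
      rw [conj_eq_self_of_mem_centralizer hg.2 (Subgroup.mem_sup_left hy)]; exact hy
  have e1 := card_eq_card_autInducedBy_mul hMS hMR'
  have e2 := card_eq_card_autInducedBy_mul hDS hDR
  rw [hAut, Subgroup.card_map_of_injective
    (MulEquiv.injective (MulAut.congr hf.equiv)), hMC] at e1
  rw [hDC] at e2
  have hfc' := isFullyCentralized_of_isFullyNormalized hS hF hR'
  have hCle : Nat.card (centralizerIn S R) ≤ Nat.card (centralizerIn S R') :=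
    hfc'.2 R (isConj_symm hRR')
  have hAle : Nat.card A ≤ Nat.card Lp := Subgroup.card_le_of_le hALp
  have := finite_of_le (S := S) (P := centralizerIn S R) inf_le_left
  have := finite_of_le (S := S) (P := centralizerIn S R') inf_le_left
  have hA0 : 0 < Nat.card A := Nat.card_pos
  have hC0 : 0 < Nat.card (centralizerIn S R) := Nat.card_pos
  have hle : Nat.card Lp * Nat.card (centralizerIn S R') ≤ Nat.card A * Nat.card (centralizerIn S R) := by
    rw [← e1, ← e2]; exact hcard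
  have hLA : Nat.card Lp ≤ Nat.card A := by
    by_contra hlt
    have : Nat.card A * Nat.card (centralizerIn S R) < Nat.card Lp * Nat.card (centralizerIn S R') :=
      Nat.mul_lt_mul_of_lt_of_le (not_le.1 hlt) hCle (hC0.trans_le hCle)
    omega
  have hCC : Nat.card (centralizerIn S R') ≤ Nat.card (centralizerIn S R) :=
    Nat.le_of_mul_le_mul_left (le_trans (Nat.mul_le_mul_right _ hAle) hle) hA0
  refine ⟨fun X hX hXp => ?_, hAL, ?_⟩
  · obtain ⟨U, hU⟩ := (hXp.of_equiv (Subgroup.subgroupOfEquivOfLe hX).symm).exists_le_sylow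
    calc Nat.card X = Nat.card (X.subgroupOf L) :=
          (Nat.card_congr (Subgroup.subgroupOfEquivOfLe hX).toEquiv).symm
      _ ≤ Nat.card U := Subgroup.card_le_of_le hU
      _ = Nat.card T := by rw [U.card_eq_multiplicity, T.card_eq_multiplicity]
      _ = Nat.card Lp := (Subgroup.card_map_of_injective L.subtype_injective).symm
      _ ≤ Nat.card A := hLA
  · exact isReceptive_of_isFullyCentralized hS hF ⟨hR, fun R'' hR'' =>
      (hfc'.2 R'' (isConj_trans (isConj_symm hRR') hR'')).trans hCC⟩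

/-- The `K`-normalizer system is saturated. -/
theorem isSaturated_kNormalizer (hS : IsPGroup p S) (hF : F.IsSaturated p) (hQ : Q ≤ S)
    (hN : N = kNorm S Q K id Q)
    (hE : ∀ P f, IsMap E P f ↔ P ≤ N ∧ (∀ x ∈ P, f x ∈ N) ∧
      ∃ g, IsMap F (P ⊔ Q) g ∧ (∀ x ∈ P, g x = f x) ∧ KAdm K g)
    (hK : ∀ (Q' : Subgroup Ω) (f : Ω → Ω), IsIso F Q Q' f →
      ∃ h, IsMap F (kNorm S Q K f Q' ⊔ Q') h ∧ KAdm K (h ∘ f)) :
    E.IsSaturated p := by
  have hNS : N ≤ S := by rw [hN]; exact fun g hg => hg.1.1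
  have hNQ : N ≤ Subgroup.normalizer (Q : Set Ω) := by rw [hN]; exact fun g hg => hg.1.2
  have := finite_of_le hNS
  have hNp : IsPGroup p N := hS.to_le hNS
  refine (isSaturated_iff_top_automized_receptive hNp).2 ⟨?_, fun P hP => ?_⟩
  · have hNfn : E.IsFullyNormalized N := by
      refine ⟨le_rfl, fun N' hN' => ?_⟩
      obtain ⟨f, hf⟩ := isConj_iff.1 hN'
      rw [Subgroup.eq_of_le_of_card_ge hf.le_right hf.card_eq.ge]
    obtain ⟨hmax, hAL, -⟩ := kNormalizer_key hS hF hQ hN hE hK hNfn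
    have hR : N ⊔ Q ≤ S := sup_le hNS hQ
    have := finite_of_le hR
    have := finite_mulAut (↥(N ⊔ Q))
    set L := stabAut F (N ⊔ Q) N le_sup_right K
    have hmem : ∀ a ∈ L, ∀ x ∈ N, autFun a x ∈ N := fun a ha x hx => by
      rw [autFun_apply a (Subgroup.mem_sup_left hx)]
      exact (ha.2.1 _).1 hx
    have hEres : ∀ a ∈ L, IsIso E N N (autFun a) := by
      intro a ha
      obtain ⟨-, -, k, hk, hkv⟩ := id ha
      have h1 : IsMap E N (autFun a) := (hE N _).2 ⟨le_rfl, hmem a ha, autFun a,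
        ((mem_autGroup_iff hR a).1 ha.1).isMap, fun x _ => rfl, k, hk, fun x hx => by
          rw [autFun_apply a (Subgroup.mem_sup_right hx), autFun_apply k hx, ← hkv ⟨x, hx⟩]
          rfl⟩
      exact h1.isIso_of_card_le (hmem a ha) le_rfl
    choose res hres hresv using fun a : L => exists_mem_autGroup (hEres a a.2)
    let χ : L →* E.autGroup N := MonoidHom.mk' (fun a => ⟨res a, hres a⟩) fun a b => by
      refine Subtype.ext (MulEquiv.ext fun x => Subtype.ext ?_)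
      show (res (a * b) x : Ω) = (res a (res b x) : Ω)
      rw [hresv, hresv, hresv, autFun_apply _ (Subgroup.mem_sup_left x.2),
        autFun_apply (b : MulAut ↥(N ⊔ Q)) (Subgroup.mem_sup_left x.2), autFun_coe]
      rfl
    have hχ : Function.Surjective χ := by
      rintro ⟨a, ha⟩
      have ha' := (mem_autGroup_iff le_rfl a).1 ha
      obtain ⟨-, -, g, hg, hga, hadm⟩ := (hE N _).1 ha'.isMap
      have hgR : ∀ x ∈ N ⊔ Q, g x ∈ N ⊔ Q := by
        intro x hx
        rw [← SetLike.mem_coe, Subgroup.coe_mul_of_left_le_normalizer_right _ _ hNQ] at hx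
        obtain ⟨u, hu, v, hv, rfl⟩ := hx
        show g (u * v) ∈ N ⊔ Q
        rw [hg.map_mul (Subgroup.mem_sup_left hu) (Subgroup.mem_sup_right hv), hga u hu]
        exact Subgroup.mul_mem_sup (autFun_mem a hu) (hadm.mem hv)
      obtain ⟨b, hb, hbv⟩ := exists_mem_autGroup (hg.isIso_of_card_le hgR le_rfl)
      obtain ⟨k, hk, hkv⟩ := hadm
      have hbN : ∀ x : ↥(N ⊔ Q), (x : Ω) ∈ N ↔ (b x : Ω) ∈ N := fun x => by
        rw [hbv]
        refine ⟨fun hx => hga x hx ▸ autFun_mem a hx, fun hx => ?_⟩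
        obtain ⟨y, hy, hyx⟩ := ha'.surj hx
        rw [← hga y hy] at hyx
        exact hg.injOn (Subgroup.mem_sup_left hy) x.2 hyx ▸ hy
      refine ⟨⟨b, hb, hbN, k, hk, fun x => ?_⟩, Subtype.ext (MulEquiv.ext fun x => Subtype.ext ?_)⟩
      · rw [hbv, ← autFun_coe k x]; exact hkv x x.2
      · show (res _ x : Ω) = (a x : Ω)
        rw [hresv]
        show autFun b x = _
        rw [autFun_apply b (Subgroup.mem_sup_left x.2), hbv, hga x x.2, autFun_coe]
    obtain ⟨T, hT⟩ := (exists_sylow_eq_iff (isPGroup_autInducedBy (hS.to_le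
      (inf_le_left.trans hNS)) _) hAL).2 hmax
    refine ⟨le_rfl, T.mapSurjective hχ, ?_⟩
    rw [Sylow.coe_mapSurjective, hT]
    ext ⟨a, ha⟩
    rw [Subgroup.mem_subgroupOf]
    constructor
    · rintro ⟨b, hb, hbe⟩
      obtain ⟨g, hg, hv⟩ := (mem_autInducedBy_iff _ _ _).1 hb
      refine (mem_autInducedBy_iff _ _ _).2 ⟨g, hg.1, fun x => ?_⟩
      have ea : res b = a := congrArg Subtype.val hbe
      show (a x : Ω) = _
      rw [← ea, hresv, autFun_apply _ (Subgroup.mem_sup_left x.2)]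
      exact hv _
    · intro ha'
      obtain ⟨g, hg, hv⟩ := (mem_autInducedBy_iff _ _ _).1 ha'
      have hgR : g ∈ Subgroup.normalizer ((N ⊔ Q : Subgroup Ω) : Set Ω) :=
        Subgroup.le_normalizer (Subgroup.mem_sup_left hg)
      have hgD : g ∈ normalizerIn N N := ⟨hg, Subgroup.le_normalizer hg⟩
      have hb := conjAut_mem_autInducedBy (K := normalizerIn N N) hgR hgD
      refine ⟨⟨_, hAL hb⟩, hb, Subtype.ext (MulEquiv.ext fun x => Subtype.ext ?_)⟩
      show (res _ x : Ω) = (a x : Ω)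
      rw [hresv, autFun_apply _ (Subgroup.mem_sup_left x.2)]
      exact (hv x).symm
  · obtain ⟨hmax, hAL, hrec⟩ := kNormalizer_key hS hF hQ hN hE hK hP
    have hR : P ⊔ Q ≤ S := sup_le (hP.1.trans hNS) hQ
    set R := P ⊔ Q with hRdef
    have := finite_of_le hR
    have := finite_mulAut R
    refine isReceptive_iff.2 ⟨hP.1, fun P₀ φ hφ => ?_⟩
    obtain ⟨-, hφN, ψ, hψ, hψφ, hadm⟩ := (hE P₀ φ).1 hφ.isMap
    set R₀ := P₀ ⊔ Q with hR₀def
    have hR₀ : R₀ ≤ S := hψ.le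
    have hψR : IsIso F R₀ R ψ := by
      refine ⟨hψ, ?_⟩
      obtain ⟨R1, hR1⟩ := hψ.exists_iso
      rw [hR1.image_eq]
      congr 1
      refine le_antisymm (fun y hy => ?_) (sup_le (fun y hy => ?_) fun y hy => ?_)
      · obtain ⟨x, hx, rfl⟩ := hR1.surj hy
        rw [← SetLike.mem_coe, hR₀def, Subgroup.coe_mul_of_left_le_normalizer_right _ _
          (hφ.le_left.trans hNQ)] at hx
        obtain ⟨u, hu, v, hv, rfl⟩ := hx
        show ψ (u * v) ∈ R
        rw [hψ.map_mul (Subgroup.mem_sup_left hu) (Subgroup.mem_sup_right hv), hψφ u hu]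
        exact Subgroup.mul_mem_sup (hφ.mem hu) (hadm.mem hv)
      · obtain ⟨x, hx, rfl⟩ := hφ.surj hy
        rw [← hψφ x hx]
        exact hR1.mem (Subgroup.mem_sup_left hx)
      · obtain ⟨x, hx, rfl⟩ := hadm.image_eq.ge hy
        exact hR1.mem (Subgroup.mem_sup_right hx)
    set G₀ := nPhi N P₀ φ
    have hG₀R : ∀ g ∈ G₀, g ∈ Subgroup.normalizer (R₀ : Set Ω) := fun g hg => by
      refine mem_normalizer_of_conj_mem hR₀ fun x hx => ?_
      have hle : R₀.map (MulAut.conj g).toMonoidHom ≤ R₀ := by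
        rw [hR₀def, Subgroup.map_sup]
        refine sup_le_sup ?_ ?_
        · rintro _ ⟨z, hz, rfl⟩; exact conj_mem_of_mem_normalizer hg.2.1 hz
        · rintro _ ⟨z, hz, rfl⟩; exact conj_mem_of_mem_normalizer (hNQ hg.1) hz
      exact hle ⟨x, hx, rfl⟩
    set L := stabAut F R P le_sup_right K
    let L₂ : Subgroup (MulAut R) :=
      { carrier := {a | a ∈ L ∧ ∃ g ∈ normalizerIn N P, ∀ x : R, (x : Ω) ∈ P →
          (a x : Ω) = g * x * g⁻¹}
        one_mem' := ⟨L.one_mem, 1, Subgroup.one_mem _, fun x _ => by simp⟩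
        mul_mem' := by
          rintro a b ⟨ha, g, hg, hav⟩ ⟨hb, g', hg', hbv⟩
          refine ⟨L.mul_mem ha hb, g * g', Subgroup.mul_mem _ hg hg', fun x hx => ?_⟩
          rw [MulAut.mul_apply, hav _ ((hb.2.1 x).1 hx), hbv x hx]
          group
        inv_mem' := by
          rintro a ⟨ha, g, hg, hav⟩
          refine ⟨L.inv_mem ha, g⁻¹, Subgroup.inv_mem _ hg, fun x hx => ?_⟩
          have := hav (a⁻¹ x) (((L.inv_mem ha).2.1 x).1 hx)
          rw [MulAut.apply_inv_self] at this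
          rw [this]
          group }
    have hX : (autInducedBy G₀ R₀).map (MulAut.congr hψR.equiv).toMonoidHom ≤ L₂ := by
      rintro _ ⟨a, ha, rfl⟩
      obtain ⟨g, hg, hv⟩ := (mem_autInducedBy_iff _ _ _).1 ha
      obtain ⟨hgN, hgP, c, hc, hcv⟩ := hg
      have hcN : c ∈ normalizerIn N P := by
        refine ⟨hc, mem_normalizer_of_conj_mem (hP.1.trans hNS) fun y hy => ?_⟩
        obtain ⟨x, hx, rfl⟩ := hφ.surj hy
        rw [← hcv x hx]
        exact hφ.mem (conj_mem_of_mem_normalizer hgP hx)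
      have hval : ∀ x : R₀, (MulAut.congr hψR.equiv a (hψR.equiv x) : Ω) = ψ (g * x * g⁻¹) :=
        fun x => by rw [hψR.congr_apply, hv]
      have hvalP : ∀ x : R, (x : Ω) ∈ P →
          (MulAut.congr hψR.equiv a x : Ω) = c * x * c⁻¹ := by
        intro y hy
        obtain ⟨x, rfl⟩ := hψR.equiv.surjective y
        rw [hψR.equiv_apply] at hy
        obtain ⟨u, hu, hue⟩ := hφ.surj hy
        rw [← hψφ u hu] at hue
        have hxe : u = x := hψ.injOn (Subgroup.mem_sup_left hu) x.2 hue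
        rw [hval, hψR.equiv_apply, ← hxe, hψφ _ (conj_mem_of_mem_normalizer hgP hu), hψφ u hu]
        exact hcv u hu
      refine ⟨⟨hψR.congr_mem_autGroup (mem_autGroup_of_isMap
        (isMap_conj hR₀ (hNS hgN)) a hv), fun y => ⟨fun hy => ?_, fun hy => ?_⟩, ?_⟩, c, hcN, hvalP⟩
      · show (MulAut.congr hψR.equiv a y : Ω) ∈ P
        rw [hvalP y hy]; exact conj_mem_of_mem_normalizer hcN.2 hy
      · obtain ⟨x, rfl⟩ := hψR.equiv.surjective y
        change (MulAut.congr hψR.equiv a (hψR.equiv x) : Ω) ∈ P at hy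
        rw [hval] at hy
        rw [hψR.equiv_apply]
        obtain ⟨u, hu, hue⟩ := hφ.surj hy
        rw [← hψφ u hu] at hue
        have hgx : g * x * g⁻¹ ∈ R₀ := conj_mem_of_mem_normalizer
          (hG₀R g ⟨hgN, hgP, c, hc, hcv⟩) x.2
        have hxe : u = g * x * g⁻¹ := hψ.injOn (Subgroup.mem_sup_left hu) hgx hue
        have hx' : (x : Ω) ∈ P₀ := by
          have := conj_mem_of_mem_normalizer (Subgroup.inv_mem _ hgP) hu
          rwa [hxe, show g⁻¹ * (g * x * g⁻¹) * g⁻¹⁻¹ = (x : Ω) by group] at this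
        rw [hψφ _ hx']
        exact hφ.mem hx'
      · obtain ⟨-, k, hk, hkv⟩ : g ∈ kNorm S Q K id Q := hN ▸ hgN
        obtain ⟨l, hl, hlv⟩ := id hadm
        refine ⟨l * k * l⁻¹, K.mul_mem (K.mul_mem hl hk) (K.inv_mem hl), fun y => ?_⟩
        have hy' := (l⁻¹ y).2
        have e1 : Subgroup.inclusion (le_sup_right : Q ≤ R) y =
            hψR.equiv ⟨_, Subgroup.mem_sup_right hy'⟩ := by
          refine Subtype.ext ?_
          rw [hψR.equiv_apply, hlv _ hy', autFun_coe, MulAut.apply_inv_self]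
          rfl
        show (MulAut.congr hψR.equiv a (Subgroup.inclusion (le_sup_right : Q ≤ R) y) : Ω) = _
        rw [e1, hval]
        show ψ (g * (l⁻¹ y : Ω) * g⁻¹) = _
        rw [show g * (l⁻¹ y : Ω) * g⁻¹ = autFun k (l⁻¹ y : Ω) from hkv _ hy',
          hlv _ (autFun_mem k hy'), autFun_coe, autFun_coe]
        rfl
    have hAL₂ : autInducedBy (normalizerIn N P) R ≤ L₂ := fun a ha => by
      obtain ⟨g, hg, hv⟩ := (mem_autInducedBy_iff _ _ _).1 ha
      exact ⟨hAL ha, g, hg, fun x _ => hv x⟩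
    obtain ⟨T, hT⟩ := (exists_sylow_eq_iff (isPGroup_autInducedBy (hS.to_le
      (inf_le_left.trans hNS)) _) hAL₂).2 fun X hX' hXp => hmax X (fun x hx => (hX' hx).1) hXp
    obtain ⟨U, hU⟩ := (((isPGroup_autInducedBy (hS.to_le ((nPhi_le_self P₀ φ).trans hNS))
      R₀).map _).of_equiv (Subgroup.subgroupOfEquivOfLe hX).symm).exists_le_sylow
    obtain ⟨y, hy⟩ := MulAction.exists_smul_eq L₂ U T
    obtain ⟨hyL, g₀, hg₀, hy₀⟩ := y.2
    have hg₀R : g₀ ∈ Subgroup.normalizer (R : Set Ω) := by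
      refine mem_normalizer_of_conj_mem hR fun x hx => ?_
      have hle : R.map (MulAut.conj g₀).toMonoidHom ≤ R := by
        rw [hRdef, Subgroup.map_sup]
        refine sup_le_sup ?_ ?_
        · rintro _ ⟨z, hz, rfl⟩; exact conj_mem_of_mem_normalizer hg₀.2 hz
        · rintro _ ⟨z, hz, rfl⟩; exact conj_mem_of_mem_normalizer (hNQ hg₀.1) hz
      exact hle ⟨x, hx, rfl⟩
    have hc₀ := conjAut_mem_autInducedBy (K := normalizerIn N P) hg₀R hg₀
    set χ := (conjAut R hg₀R)⁻¹ * (y : MulAut R)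
    have hχL : χ ∈ L := L.mul_mem (L.inv_mem (hAL hc₀)) hyL
    have hχP : ∀ x : R, (x : Ω) ∈ P → (χ x : Ω) = x := by
      intro x hx
      have e : conjAut R hg₀R x = (y : MulAut R) x := Subtype.ext (hy₀ x hx).symm
      show (((conjAut R hg₀R)⁻¹ ((y : MulAut R) x) : R) : Ω) = x
      rw [← e, MulAut.inv_apply_self]
    have hconjX : ∀ a ∈ autInducedBy G₀ R₀, χ * MulAut.congr hψR.equiv a * χ⁻¹ ∈
        autInducedBy (normalizerIn N P) R := by
      intro a ha
      have haX : MulAut.congr hψR.equiv a ∈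
          (autInducedBy G₀ R₀).map (MulAut.congr hψR.equiv).toMonoidHom := ⟨a, ha, rfl⟩
      have hmem : (y : L₂) * ⟨_, hX haX⟩ * y⁻¹ ∈ (T : Subgroup L₂) := by
        rw [← hy, Sylow.coe_subgroup_smul, Subgroup.mem_pointwise_smul_iff_inv_smul_mem]
        simpa [mul_assoc] using hU (show (⟨_, hX haX⟩ : L₂) ∈ Subgroup.subgroupOf _ L₂ from haX)
      rw [hT] at hmem
      have := (autInducedBy (normalizerIn N P) R).mul_mem
        ((autInducedBy (normalizerIn N P) R).mul_mem (Subgroup.inv_mem _ hc₀) hmem) hc₀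
      simp only [χ, mul_inv_rev, inv_inv]
      simpa [mul_assoc] using this
    have hψ' : IsIso F R₀ R (autFun χ ∘ ψ) := hψR.comp ((mem_autGroup_iff hR χ).1 hχL.1)
    obtain ⟨f', hf', hf'v⟩ := (isReceptive_iff.1 hrec).2 R₀ _ hψ'
    have hG₀le : G₀ ⊔ Q ≤ nPhi S R₀ (autFun χ ∘ ψ) := by
      refine sup_le (fun g hg => ?_) fun q hq => le_nPhi hψ'.isMap (Subgroup.mem_sup_right hq)
      have hgR := hG₀R g hg
      obtain ⟨d, hd, hdv⟩ := (mem_autInducedBy_iff _ _ _).1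
        (hconjX _ (conjAut_mem_autInducedBy hgR hg))
      refine ⟨hNS hg.1, hgR, d, hNS hd.1, fun x hx => ?_⟩
      have e := hdv (χ (hψR.equiv ⟨x, hx⟩))
      simp only [MulAut.mul_apply, MulAut.inv_apply_self] at e
      show autFun χ (ψ (g * x * g⁻¹)) = d * autFun χ (ψ x) * d⁻¹
      have e2 : ψ (g * x * g⁻¹) =
          (MulAut.congr hψR.equiv (conjAut R₀ hgR) (hψR.equiv ⟨x, hx⟩) : Ω) := by
        rw [hψR.congr_apply]; rfl
      rw [e2, autFun_coe, e, ← hψR.equiv_apply ⟨x, hx⟩, autFun_coe]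
    have hχQ : KAdm K (autFun χ) := by
      obtain ⟨-, -, k, hk, hkv⟩ := hχL
      exact ⟨k, hk, fun x hx => by
        rw [autFun_apply χ (Subgroup.mem_sup_right hx), autFun_apply k hx, ← hkv ⟨x, hx⟩]; rfl⟩
    have hadm' : KAdm K f' := (hadm.comp hχQ).congr fun x hx =>
      (hf'v x (Subgroup.mem_sup_right hx)).symm
    refine ⟨f', (hE G₀ f').2 ⟨nPhi_le_self _ _, fun g hg => ?_, f', hf'.mono hG₀le, fun x _ => rfl,
      hadm'⟩, fun x hx => ?_⟩
    · have hgD := hG₀le (Subgroup.mem_sup_left hg)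
      obtain ⟨-, k, hk, hkv⟩ : g ∈ kNorm S Q K id Q := hN ▸ hg.1
      obtain ⟨l, hl, hlv⟩ := id hadm'
      have e : ∀ z ∈ Q, f' g * z * (f' g)⁻¹ = autFun (l * k * l⁻¹) z := by
        intro z hz
        have hz' := autFun_mem l⁻¹ hz
        have e1 : z = f' (autFun l⁻¹ z) := by
          rw [hlv _ hz', autFun_apply l⁻¹ hz, autFun_coe, MulAut.apply_inv_self]
        conv_lhs => rw [e1]
        rw [← hf'.map_conj hgD (hG₀le (Subgroup.mem_sup_right hz')),
          show g * autFun l⁻¹ z * g⁻¹ = autFun k (autFun l⁻¹ z) from hkv _ hz',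
          hlv _ (autFun_mem k hz'), autFun_apply l⁻¹ hz, autFun_coe, autFun_coe,
          autFun_apply _ hz]
        rfl
      rw [hN]
      refine ⟨⟨hf'.mem hgD, mem_normalizer_of_conj_mem hQ fun z hz => ?_⟩, l * k * l⁻¹,
        K.mul_mem (K.mul_mem hl hk) (K.inv_mem hl), fun z hz => e z hz⟩
      rw [e z hz]
      exact autFun_mem _ hz
    · have hxR := Subgroup.mem_sup_left (T := Q) hx
      rw [hf'v x hxR]
      show autFun χ (ψ x) = φ x
      rw [hψφ x hx, autFun_apply χ (Subgroup.mem_sup_left (hφ.mem hx))]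
      exact hχP _ (hφ.mem hx)

end CfsgLib.Fusion
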