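import Mathlib
import Cfsg.Agent.Lib.Fusion.PStableNormalizer

/-!
Up to conjugation, all automorphisms of a subgroup extend to a fully normalized centric radical
subgroup containing it.
-/

set_option autoImplicit false

namespace CfsgLib.Fusion

open Cfsg Cfsg.FusionSystem

variable {Ω : Type*} [Group Ω] {S : Subgroup Ω} {F : FusionSystem S} {p : ℕ}

/-- Every automorphism of `Q` in the system extends to one of `R`. -/
def Extends (F : FusionSystem S) (Q R : Subgroup Ω) : Prop :=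
  Q ≤ R ∧ F.IsCentric R ∧
    ∀ f : Ω → Ω, IsIso F Q Q f → ∃ f', IsIso F R R f' ∧ ∀ x ∈ Q, f' x = f x

theorem isCentric_of_isConj {P P' : Subgroup Ω} (h : F.IsCentric P) (hc : F.IsConj P P') :
    F.IsCentric P' :=
  ⟨(le_of_isConj hc).2, fun Q hQ => h.2 Q (isConj_trans hc hQ)⟩

variable [Finite S] [Fact p.Prime]

theorem extends_mul_centralizerIn (hS : IsPGroup p S) (hF : F.IsSaturated p) {Q : Subgroup Ω}
    (hQ : F.IsFullyNormalized Q) : Extends F Q (Q ⊔ centralizerIn S Q) := by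
  have hr := isReceptive_of_isFullyNormalized hS hF hQ
  have hfc := isFullyCentralized_of_isFullyNormalized hS hF hQ
  have hle : Q ⊔ centralizerIn S Q ≤ S := sup_le hQ.1 inf_le_left
  refine ⟨le_sup_left, ⟨hle, fun R hR => ?_⟩, fun f hf => ?_⟩
  · obtain ⟨f, hf⟩ := isConj_iff.1 hR
    obtain ⟨Q', hQ'⟩ := (hf.isMap.mono le_sup_left).exists_iso
    have hQ'R : Q' ≤ R := fun y hy => by
      obtain ⟨x, hx, rfl⟩ := hQ'.surj hy
      exact hf.mem (Subgroup.mem_sup_left hx)
    have := finite_of_le (S := S) (P := centralizerIn S Q') inf_le_left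
    have hC : IsIso F (centralizerIn S Q) (centralizerIn S Q') f :=
      (hf.isMap.mono le_sup_right).isIso_of_card_le (fun c hc =>
          hf.isMap.mem_centralizerIn le_sup_left hQ' (Subgroup.mem_sup_right hc) hc.2)
        (hfc.2 Q' hQ'.isConj)
    refine le_trans (inf_le_inf_left _ (Subgroup.centralizer_le
      (show (Q' : Set Ω) ⊆ R from hQ'R))) fun c hc => ?_
    obtain ⟨x, hx, rfl⟩ := hC.surj hc
    exact hf.mem (Subgroup.mem_sup_right hx)
  · obtain ⟨f', hf', hv⟩ := (isReceptive_iff.1 hr).2 Q f hf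
    have hRN : Q ⊔ centralizerIn S Q ≤ nPhi S Q f :=
      sup_le (le_nPhi hf.isMap) (centralizerIn_le_nPhi Q f)
    have hm := hf'.mono hRN
    obtain ⟨R', hR'⟩ := hm.exists_iso
    have := finite_of_le hle
    refine ⟨f', hm.isIso_of_card_le (fun x hx => ?_) le_rfl, hv⟩
    have hn : centralizerIn S Q ≤ Subgroup.normalizer (Q : Set Ω) :=
      inf_le_right.trans (Subgroup.centralizer_le_normalizer _)
    have hx' : x ∈ ((Q ⊔ centralizerIn S Q : Subgroup Ω) : Set Ω) := hx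
    rw [Subgroup.coe_mul_of_right_le_normalizer_left _ _ hn] at hx'
    obtain ⟨q, hq, c, hc, rfl⟩ := hx'
    rw [hf'.map_mul (hRN (Subgroup.mem_sup_left hq)) (hRN (Subgroup.mem_sup_right hc))]
    refine Subgroup.mul_mem _ (Subgroup.mem_sup_left (by rw [hv q hq]; exact hf.mem hq))
      (Subgroup.mem_sup_right ?_)
    exact hf'.mem_centralizerIn (le_nPhi hf.isMap) (hf.congr fun x hx => (hv x hx).symm)
      (centralizerIn_le_nPhi Q f hc) hc.2

omit [Finite S] [Fact p.Prime] in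
theorem extends_transport {Q R R' : Subgroup Ω} {h : Ω → Ω} (hE : Extends F Q R)
    (hh : IsIso F R R' h) : ∃ Q', F.IsConj Q Q' ∧ Extends F Q' R' := by
  obtain ⟨g, hg, hgh, hhg⟩ := hh.exists_symm
  obtain ⟨Q', hQ'⟩ := (hh.isMap.mono hE.1).exists_iso
  have hQR : Q' ≤ R' := fun y hy => by
    obtain ⟨x, hx, rfl⟩ := hQ'.surj hy
    exact hh.mem (hE.1 hx)
  refine ⟨Q', hQ'.isConj, hQR, isCentric_of_isConj hE.2.1 hh.isConj, fun f hf => ?_⟩
  have hgQ : IsIso F Q' Q g := by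
    refine ⟨hg.isMap.mono hQR, ?_⟩
    rw [← hQ'.image_eq, Set.image_image]
    ext x
    constructor
    · rintro ⟨y, hy, rfl⟩; show g (h y) ∈ Q; rw [hgh y (hE.1 hy)]; exact hy
    · intro hx; exact ⟨x, hx, hgh x (hE.1 hx)⟩
  obtain ⟨f', hf', hv⟩ := hE.2.2 _ ((hQ'.comp hf).comp hgQ)
  refine ⟨_, (hg.comp hf').comp hh, fun y hy => ?_⟩
  obtain ⟨x, hx, rfl⟩ := hQ'.surj hy
  show h (f' (g (h x))) = f (h x)
  rw [hgh x (hE.1 hx), hv x hx]
  show h (g (f (h x))) = f (h x)
  exact hhg _ (hQR (hf.mem hy))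

/-- The preimage in `N_S(R)` of `O_p(Aut_F(R))`. -/
noncomputable def radStep (F : FusionSystem S) (p : ℕ) (R : Subgroup Ω) : Subgroup Ω :=
  (((Cfsg.pCore p (F.autGroup R)).map (F.autGroup R).subtype).comap
    R.normalizerMonoidHom).map (Subgroup.normalizer (R : Set Ω)).subtype ⊓ S

omit [Finite S] [Fact p.Prime] in
theorem mem_radStep {R : Subgroup Ω} {g : Ω} (hg : g ∈ Subgroup.normalizer (R : Set Ω)) :
    g ∈ radStep F p R ↔ g ∈ S ∧
      conjAut R hg ∈ (Cfsg.pCore p (F.autGroup R)).map (F.autGroup R).subtype := by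
  constructor
  · rintro ⟨⟨g', hg', rfl⟩, hS⟩
    exact ⟨hS, hg'⟩
  · rintro ⟨hS, h⟩
    exact ⟨⟨⟨g, hg⟩, h, rfl⟩, hS⟩

omit [Finite S] [Fact p.Prime] in
theorem radStep_le_normalizerIn (R : Subgroup Ω) : radStep F p R ≤ normalizerIn S R :=
  fun _ hg => ⟨hg.2, Subgroup.map_subtype_le _ hg.1⟩

theorem le_radStep (hS : IsPGroup p S) {R : Subgroup Ω} (hR : R ≤ S) : R ≤ radStep F p R := by
  intro g hg
  have := finite_of_le hR
  refine (mem_radStep (Subgroup.le_normalizer hg)).2 ⟨hR hg, ?_⟩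
  have hn := inn_subgroupOf_normal F R
  have hp : IsPGroup p (Cfsg.Inn R) := by
    rw [inn_eq_autInducedBy]; exact isPGroup_autInducedBy (hS.to_le hR) R
  have hI := inn_le_autGroup (F := F) hR
  have hmem : conjAut R (Subgroup.le_normalizer hg) ∈ Cfsg.Inn R := by
    rw [inn_eq_autInducedBy]; exact conjAut_mem_autInducedBy _ hg
  exact ⟨⟨_, hI hmem⟩, CfsgLib.Fitting.le_pCore hn
    (hp.of_equiv (Subgroup.subgroupOfEquivOfLe hI).symm) hmem, rfl⟩

theorem extends_radStep (hS : IsPGroup p S) (hF : F.IsSaturated p) {Q R : Subgroup Ω}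
    (hE : Extends F Q R) (hR : F.IsFullyNormalized R) : Extends F Q (radStep F p R) := by
  have hRle := le_radStep (F := F) hS hR.1
  have hle : radStep F p R ≤ S := inf_le_right
  refine ⟨hE.1.trans hRle, isCentric_of_le hE.2.1 hRle hle, fun f hf => ?_⟩
  obtain ⟨h, hh, hv⟩ := hE.2.2 f hf
  obtain ⟨α, hα, hαv⟩ := exists_mem_autGroup hh
  have := finite_of_le hR.1
  have := finite_mulAut R
  obtain ⟨T, hT⟩ := (isFullyAutomized_of_isFullyNormalized hS hF hR).2
  have hcore : ∀ β : F.autGroup R, β ∈ Cfsg.pCore p (F.autGroup R) →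
      (β : MulAut R) ∈ autInducedBy S R := fun β hβ => by
    haveI := CfsgLib.Fitting.pCore_normal (G := F.autGroup R) p
    have hb := IsPGroup.le_sylow_of_normal (CfsgLib.Fitting.pCore_isPGroup p) T hβ
    rw [hT] at hb
    exact hb
  have key : ∀ g, g ∈ radStep F p R → ∃ k ∈ radStep F p R,
      ∀ x ∈ R, h (g * x * g⁻¹) = k * h x * k⁻¹ := by
    intro g hg
    have hgn := (radStep_le_normalizerIn R hg).2
    obtain ⟨β, hβ, hβg⟩ := ((mem_radStep hgn).1 hg).2
    have hβ' := (CfsgLib.Fitting.pCore_normal (G := F.autGroup R) p).conj_mem β hβ ⟨α, hα⟩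
    obtain ⟨k, hk, hkv⟩ := (mem_autInducedBy_iff _ _ _).1 (hcore _ hβ')
    have hkn : k ∈ Subgroup.normalizer (R : Set Ω) := by
      refine mem_normalizer_of_conj_mem hR.1 fun x hx => ?_
      rw [← hkv ⟨x, hx⟩]
      exact SetLike.coe_mem _
    refine ⟨k, (mem_radStep hkn).2 ⟨hk, _, hβ', ?_⟩, fun x hx => ?_⟩
    · exact MulEquiv.ext fun x => Subtype.ext (hkv x)
    · have h1 := hkv (α ⟨x, hx⟩)
      rw [hαv ⟨x, hx⟩] at h1
      refine Eq.trans ?_ h1
      show h (g * x * g⁻¹) =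
        ((α * (β : MulAut R) * α⁻¹) (α ⟨x, hx⟩) : R)
      rw [MulAut.mul_apply, MulAut.mul_apply, MulAut.inv_apply_self, hαv]
      congr 1
      rw [show (β : MulAut R) = conjAut R hgn from hβg, conjAut_apply]
  have hN : radStep F p R ≤ nPhi S R h := fun g hg => by
    obtain ⟨k, hk, hkv⟩ := key g hg
    exact ⟨hle hg, (radStep_le_normalizerIn R hg).2, k, hle hk, hkv⟩
  obtain ⟨h', hh', hv'⟩ := (isReceptive_iff.1 (isReceptive_of_isFullyNormalized hS hF hR)).2 R h hh
  have := finite_of_le hle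
  refine ⟨h', (hh'.mono hN).isIso_of_card_le (fun g hg => ?_) le_rfl,
    fun x hx => by rw [hv' x (hE.1 hx), hv x hx]⟩
  obtain ⟨k, hk, hkv⟩ := key g hg
  have hc : k⁻¹ * h' g ∈ centralizerIn S R := by
    refine ⟨S.mul_mem (S.inv_mem (hle hk)) ((hh'.mono hN).mem hg),
      mul_inv_mem_centralizer fun y hy => ?_⟩
    obtain ⟨x, hx, rfl⟩ := hh.surj hy
    have hgn := (radStep_le_normalizerIn R hg).2
    rw [← hkv x hx, ← hv' x hx, ← hv' _ (conj_mem_of_mem_normalizer hgn hx)]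
    exact (hh'.map_conj (hN hg) (le_nPhi hh.isMap hx)).symm
  have := Subgroup.mul_mem _ hk (hRle (hE.2.1.2 R (isConj_refl hR.1) hc))
  rwa [mul_inv_cancel_left] at this

theorem isRadical_of_radStep_le (hS : IsPGroup p S) (hF : F.IsSaturated p) {R : Subgroup Ω}
    (hR : F.IsFullyNormalized R) (h : radStep F p R ≤ R) : F.IsRadical p R := by
  have := finite_of_le hR.1
  have := finite_mulAut R
  refine ⟨hR.1, le_antisymm ?_ ?_⟩
  · rintro _ ⟨β, hβ, rfl⟩
    obtain ⟨T, hT⟩ := (isFullyAutomized_of_isFullyNormalized hS hF hR).2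
    haveI := CfsgLib.Fitting.pCore_normal (G := F.autGroup R) p
    have hb := IsPGroup.le_sylow_of_normal (CfsgLib.Fitting.pCore_isPGroup p) T hβ
    rw [hT] at hb
    obtain ⟨g, hg, hgv⟩ := (mem_autInducedBy_iff _ _ _).1 hb
    have hgn : g ∈ Subgroup.normalizer (R : Set Ω) := by
      refine mem_normalizer_of_conj_mem hR.1 fun x hx => ?_
      rw [← hgv ⟨x, hx⟩]
      exact SetLike.coe_mem _
    have hgR : g ∈ R :=
      h ((mem_radStep hgn).2 ⟨hg, β, hβ, MulEquiv.ext fun x => Subtype.ext (hgv x)⟩)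
    exact (mem_inn_iff _).2 ⟨g, hgR, fun x => hgv x⟩
  · intro β hβ
    obtain ⟨g, hg, hgv⟩ := (mem_inn_iff β).1 hβ
    obtain ⟨γ, hγ, hγv⟩ := ((mem_radStep (Subgroup.le_normalizer hg)).1
      (le_radStep hS hR.1 hg)).2
    exact ⟨γ, hγ, hγv.trans (MulEquiv.ext fun x => Subtype.ext (hgv x).symm)⟩

theorem exists_centric_radical_extension (hS : IsPGroup p S) (hF : F.IsSaturated p)
    {Q : Subgroup Ω} (hQ : F.IsFullyNormalized Q) :
    ∃ Q' R : Subgroup Ω, F.IsConj Q Q' ∧ F.IsFullyNormalized R ∧ F.IsRadical p R ∧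
      Extends F Q' R := by
  obtain ⟨R, ⟨Q', hc, hE⟩, hmax⟩ := Set.exists_max_image
    {R : Subgroup Ω | ∃ Q', F.IsConj Q Q' ∧ Extends F Q' R} (fun R => Nat.card R)
    (finite_subgroups_le _ fun R ⟨_, _, hE⟩ => hE.2.1.1)
    ⟨_, Q, isConj_refl hQ.1, extends_mul_centralizerIn hS hF hQ⟩
  obtain ⟨R', hRR', hR'⟩ := exists_isFullyNormalized (F := F) hE.2.1.1
  obtain ⟨h, hh⟩ := isConj_iff.1 hRR'
  obtain ⟨Q'', hc', hE'⟩ := extends_transport hE hh
  refine ⟨Q'', R', isConj_trans hc hc', hR', isRadical_of_radStep_le hS hF hR' ?_, hE'⟩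
  have hE'' := extends_radStep hS hF hE' hR'
  have hcard := hmax _ ⟨Q'', isConj_trans hc hc', hE''⟩
  have := finite_of_le hE''.2.1.1
  exact (Subgroup.eq_of_le_of_card_ge (le_radStep hS hR'.1) (by rw [hh.card_eq]; exact hcard)).ge

/-- Stability in the normalizer systems of the centric radical subgroups suffices. -/
theorem stableAtSubgroup_of_radical (hS : IsPGroup p S) (hF : F.IsSaturated p)
    (h : ∀ R : Subgroup Ω, F.IsFullyNormalized R → F.IsCentric R → F.IsRadical p R →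
      ∀ N : FusionSystem (normalizerIn S R), F.IsNormalizerSystem R N →
      ∀ P : Subgroup Ω, N.IsFullyNormalized P → StableAtSubgroup N p P)
    {Q : Subgroup Ω} (hQ : F.IsFullyNormalized Q) : StableAtSubgroup F p Q := by
  obtain ⟨Q', R, hc, hR, hrad, hQR, hcen, hext⟩ := exists_centric_radical_extension hS hF hQ
  refine stableAtSubgroup_of_isConj hc ?_
  set N := normalizerSystem F R hR.1
  have hQN : Q' ≤ normalizerIn S R := hQR.trans (le_normalizerIn hR.1)
  have := finite_of_le (S := S) (P := normalizerIn S R) inf_le_left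
  obtain ⟨P, hP, hPn⟩ := exists_isFullyNormalized (F := N) hQN
  have hst : StableAtSubgroup N p Q' :=
    stableAtSubgroup_of_isConj hP (h R hR hcen hrad N (fun _ => rfl) P hPn)
  have hQS : Q' ≤ S := hQR.trans hR.1
  have heq : N.autGroup Q' = F.autGroup Q' := by
    ext α
    constructor
    · intro hα
      obtain ⟨φ, hφ, hv⟩ := ((mem_autGroup_iff hQN α).1 hα).isMap
      exact mem_autGroup_of_isMap ⟨φ, hφ.1, hv⟩ α fun x => (autFun_coe α x).symm
    · intro hα
      have hiso := (mem_autGroup_iff hQS α).1 hα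
      obtain ⟨φ, hφ, hv⟩ := hiso.isMap
      obtain ⟨f', hf', hfv⟩ := hext _ hiso
      obtain ⟨ψ, hψ, hw⟩ := (hf'.isMap.mono (sup_le hQR le_rfl)).exists_hom
      refine mem_autGroup_of_isMap (F := N) (f := autFun α)
        ⟨φ, ⟨hφ, hQN, fun x => ?_, ψ, hψ, fun x => ?_, ?_⟩, hv⟩ α fun x => (autFun_coe α x).symm
      · rw [hv]; exact hQN (autFun_mem α x.2)
      · rw [hw, hv]; exact hfv x x.2
      · exact (map_subgroupOf_eq_iff le_sup_right ψ hw).2 hf'.image_eq
  unfold StableAtSubgroup at hst ⊢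
  rw [heq] at hst
  exact hst

end CfsgLib.Fusion
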