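import Cfsg.Agent.Lib.Fusion.Normal

/-!
Series criteria for normality.
-/

set_option autoImplicit false

namespace CfsgLib.Fusion

open Cfsg Cfsg.FusionSystem
open scoped commutatorElement

variable {Ω : Type*} [Group Ω] {S : Subgroup Ω} {F : FusionSystem S}
variable {p : ℕ} [Fact p.Prime] [Finite S]

/-- A central series of a `p`-subgroup by characteristic subgroups. -/
theorem exists_char_series (hS : IsPGroup p S) {Q : Subgroup Ω} (hQ : Q ≤ S) :
    ∃ (n : ℕ) (Qs : ℕ → Subgroup Ω), Qs 0 = ⊥ ∧ Qs n = Q ∧ Monotone Qs ∧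
      (∀ i, Qs i ≤ Q ∧ ((Qs i).subgroupOf Q).Characteristic) ∧
      ∀ i < n, ∀ g ∈ Q, ∀ x ∈ Qs (i + 1), g * x * g⁻¹ * x⁻¹ ∈ Qs i := by
  have := finite_of_le hQ
  have : Group.IsNilpotent Q := (hS.to_le hQ).isNilpotent
  refine ⟨Group.nilpotencyClass Q, fun i =>
    ((⊤ : Subgroup Q).lowerCentralSeries (Group.nilpotencyClass Q - i)).map Q.subtype, ?_, ?_,
    fun i j h => Subgroup.map_mono (Subgroup.lowerCentralSeries_antitone _ (Nat.sub_le_sub_left h _)),
    fun i => ⟨Subgroup.map_subtype_le _, ?_⟩, ?_⟩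
  · simp
  · simp [← MonoidHom.range_eq_map]
  · rw [Subgroup.subgroupOf, Subgroup.comap_map_eq_self_of_injective Q.subtype_injective]
    infer_instance
  · rintro i hi g hg _ ⟨x, hx, rfl⟩
    refine ⟨⁅(⟨g, hg⟩ : Q), x⁆, ?_, rfl⟩
    rw [show Group.nilpotencyClass Q - i = Group.nilpotencyClass Q - (i + 1) + 1 by omega,
      Subgroup.lowerCentralSeries_succ, ← commutatorElement_inv]
    exact Subgroup.inv_mem _ (Subgroup.commutator_mem_commutator hx (Subgroup.mem_top _))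

theorem isNormal_iff_series (hS : IsPGroup p S) (hF : F.IsSaturated p) {Q : Subgroup Ω} :
    F.IsNormal Q ↔ ∃ (n : ℕ) (Qs : Fin (n + 1) → Subgroup Ω), Qs 0 = ⊥ ∧ Qs (Fin.last n) = Q ∧
      Monotone Qs ∧ ∀ i : Fin n, F.StronglyClosed (Qs i.succ) ∧
        ⁅Q, Qs i.succ⁆ ≤ Qs (Fin.castSucc i) := by
  constructor
  · intro hQ
    obtain ⟨n, Qs, h0, hn, hm, hchar, hcomm⟩ := exists_char_series hS hQ.1
    refine ⟨n, fun i => Qs i, by simpa using h0, by simpa using hn, fun i j h => hm h,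
      fun i => ⟨stronglyClosed_of_isNormal
        (isNormal_of_characteristic F hQ (hchar _).1 (hchar _).2), ?_⟩⟩
    rw [Subgroup.commutator_le]
    intro g hg x hx
    exact hcomm i i.2 g hg x (by simpa using hx)
  · rintro ⟨n, Qs, h0, hn, hm, h⟩
    let Q' : ℕ → Subgroup Ω := fun i => if hi : i < n + 1 then Qs ⟨i, hi⟩ else Q
    have hQ' : ∀ (i : ℕ) (hi : i < n + 1), Q' i = Qs ⟨i, hi⟩ := fun i hi => dif_pos hi
    refine isNormal_of_series hS hF n Q' ((hQ' 0 (Nat.succ_pos n)).trans h0)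
      ((hQ' n (Nat.lt_succ_self n)).trans hn) (fun i hi => ?_) (fun i hi => ?_)
      fun i hi g hg x hx => ?_
    · rw [hQ' i (by omega), hQ' (i + 1) (by omega)]
      exact hm (Nat.le_succ i)
    · rw [hQ' i (by omega)]
      rcases i with _ | i
      · exact (show Qs ⟨0, _⟩ = ⊥ from h0).symm ▸ stronglyClosed_of_isNormal (isNormal_bot F)
      · exact (h ⟨i, by omega⟩).1
    · rw [hQ' i (by omega)]
      rw [hQ' (i + 1) (by omega)] at hx
      exact (h ⟨i, hi⟩).2 (Subgroup.commutator_mem_commutator hg hx)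

/-- A subgroup whose internal fusion is induced by automorphisms of it is normal. -/
theorem isNormal_of_extend (hS : IsPGroup p S) (hF : F.IsSaturated p) {R : Subgroup Ω}
    (hR : R ≤ S) (h : ∀ (P : Subgroup Ω) (f : Ω → Ω), P ≤ R → IsMap F P f →
      ∃ α ∈ F.autGroup R, ∀ x ∈ P, autFun α x = f x) : F.IsNormal R := by
  obtain ⟨n, Qs, h0, hn, hm, hchar, hcomm⟩ := exists_char_series hS hR
  refine isNormal_of_series hS hF n Qs h0 hn (fun i _ => hm (Nat.le_succ i))
    (fun i _ => stronglyClosed_iff.2 ⟨(hchar i).1.trans hR, fun P f hf x hx hxi => ?_⟩) hcomm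
  obtain ⟨α, -, hα⟩ := h _ f inf_le_right (hf.mono (inf_le_left : P ⊓ R ≤ P))
  have hxR := (hchar i).1 hxi
  rw [← hα x ⟨hx, hxR⟩, autFun_apply α hxR]
  exact (Subgroup.characteristic_iff_map_le.1 (hchar i).2 α)
    ⟨(⟨x, hxR⟩ : R), hxi, rfl⟩

end CfsgLib.Fusion
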