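import Cfsg.Agent.Lib.Fusion.Saturation

/-!
Invariant subsystems, in the language of function-valued maps.
-/

set_option autoImplicit false

namespace CfsgLib.Fusion

open Cfsg Cfsg.FusionSystem

variable {Ω : Type*} [Group Ω] {S T : Subgroup Ω} {F : FusionSystem S} {E : FusionSystem T}

theorem isMap_of_subsystem (h : E.IsSubsystemOf F) {P : Subgroup Ω} {f : Ω → Ω}
    (hf : IsMap E P f) : IsMap F P f := by
  obtain ⟨φ, hφ, hv⟩ := hf
  exact ⟨φ, h P hφ, hv⟩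

theorem IsIso.of_subsystem (h : E.IsSubsystemOf F) {P Q : Subgroup Ω} {f : Ω → Ω}
    (hf : IsIso E P Q f) : IsIso F P Q f :=
  ⟨isMap_of_subsystem h hf.isMap, hf.image_eq⟩

theorem isConj_of_subsystem (h : E.IsSubsystemOf F) {P Q : Subgroup Ω} (hc : E.IsConj P Q) :
    F.IsConj P Q := by
  obtain ⟨f, hf⟩ := isConj_iff.1 hc
  exact (hf.of_subsystem h).isConj

theorem isCentric_of_subsystem {E : FusionSystem S} (h : E.IsSubsystemOf F) {P : Subgroup Ω}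
    (hP : F.IsCentric P) : E.IsCentric P :=
  ⟨hP.1, fun Q hQ => hP.2 Q (isConj_of_subsystem h hQ)⟩

/-- The Frattini condition of an invariant subsystem. -/
theorem exists_frattini (h : E.IsInvariantIn F) {P : Subgroup Ω} (hP : P ≤ T) {f : Ω → Ω}
    (hf : IsMap F P f) :
    ∃ a ∈ F.autGroup T, ∃ f₀, IsMap E P f₀ ∧ ∀ x ∈ P, f x = autFun a (f₀ x) := by
  obtain ⟨φ, hφ, hv⟩ := hf
  obtain ⟨a, ha, φ₀, hφ₀, h₀⟩ := h.2.2.2 P hP φ hφ
  refine ⟨a, ha, homFun φ₀, isMap_homFun hφ₀, fun x hx => ?_⟩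
  have hm : φ₀ ⟨x, hx⟩ ∈ T := (E.le_of_mem hφ₀).2 _
  rw [homFun_apply φ₀ hx, autFun_apply a hm, ← hv ⟨x, hx⟩]
  exact h₀ ⟨x, hx⟩ hm

/-- Invariance of an invariant subsystem under `Aut_F(T)`. -/
theorem exists_transport (h : E.IsInvariantIn F) {P P' : Subgroup Ω} {f : Ω → Ω}
    (hf : IsMap E P f) {a : MulAut T} (ha : a ∈ F.autGroup T)
    (hP' : autFun a '' (P : Set Ω) = P') :
    ∃ f', IsMap E P' f' ∧ ∀ x ∈ P, f' (autFun a x) = autFun a (f x) := by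
  have hPT : P ≤ T := hf.le
  obtain ⟨φ, hφ, hv⟩ := hf
  obtain ⟨χ, hχ, hχv⟩ := h.2.2.1 P hPT φ hφ a ha
  have hQ : (P.subgroupOf T).map (T.subtype.comp a.toMonoidHom) = P' := by
    apply SetLike.coe_injective
    rw [← hP']
    ext y
    constructor
    · rintro ⟨x, hx, rfl⟩
      exact ⟨x, hx, autFun_coe a x⟩
    · rintro ⟨x, hx, rfl⟩
      exact ⟨⟨x, hPT hx⟩, hx, (autFun_apply a (hPT hx)).symm⟩
  refine ⟨homFun χ, (isMap_homFun hχ).mono hQ.ge, fun x hx => ?_⟩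
  have hm : φ ⟨x, hx⟩ ∈ T := (E.le_of_mem hφ).2 _
  have hmem : ((a ⟨x, hPT hx⟩ : T) : Ω) ∈ (P.subgroupOf T).map (T.subtype.comp a.toMonoidHom) :=
    ⟨⟨x, hPT hx⟩, hx, rfl⟩
  rw [autFun_apply a (hPT hx), homFun_apply χ hmem, ← hv ⟨x, hx⟩, autFun_apply a hm]
  exact hχv ⟨x, hx⟩ hm hmem

/-- For an invariant subsystem on `S` itself the automizers are normal. -/
theorem conj_mem_autGroup {E : FusionSystem S} (h : E.IsInvariantIn F) {P : Subgroup Ω}
    (hP : P ≤ S) {φ α : MulAut P} (hφ : φ ∈ F.autGroup P) (hα : α ∈ E.autGroup P) :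
    φ * α * φ⁻¹ ∈ E.autGroup P := by
  have hφ' := (mem_autGroup_iff hP φ).1 hφ
  obtain ⟨a, ha, f₀, hf₀, hv⟩ := exists_frattini h hP hφ'.isMap
  obtain ⟨Q, hQ⟩ := hf₀.exists_iso
  have hb := (mem_autGroup_iff hQ.le_right _).1 (hQ.congr_mem_autGroup hα)
  have him : autFun a '' (Q : Set Ω) = P := by
    rw [← hQ.image_eq, Set.image_image]
    exact (Set.image_congr fun x hx => (hv x hx).symm).trans hφ'.image_eq
  obtain ⟨f', hf', hf'v⟩ := exists_transport h hb.isMap ha him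
  refine mem_autGroup_of_isMap hf' _ fun y => ?_
  obtain ⟨x, rfl⟩ := φ.surjective y
  rw [MulAut.mul_apply, MulAut.mul_apply, MulAut.inv_apply_self, ← autFun_coe φ x, hv x x.2,
    hf'v _ (hQ.mem x.2), ← hQ.equiv_apply x, autFun_coe, hQ.congr_apply α x,
    ← autFun_coe φ, hv _ (SetLike.coe_mem _)]

end CfsgLib.Fusion
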