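import Mathlib
import Cfsg.Agent.Lib.Fusion.Invariant
import Cfsg.Agent.Lib.Fusion.Group

/-!
Isomorphisms of fusion systems between different ambient groups, given by a pair of functions.
-/

set_option autoImplicit false

namespace CfsgLib.Fusion

open Cfsg Cfsg.FusionSystem

variable {Ω Ω' : Type*} [Group Ω] [Group Ω'] {S : Subgroup Ω} {S' : Subgroup Ω'}

/-- `j` and `k` are inverse isomorphisms between the fusion systems `F` and `F'`. -/
structure Transport (F : FusionSystem S) (F' : FusionSystem S') (j : Ω → Ω') (k : Ω' → Ω) :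
    Prop where
  j_mem : ∀ x ∈ S, j x ∈ S'
  k_mem : ∀ y ∈ S', k y ∈ S
  kj : ∀ x ∈ S, k (j x) = x
  jk : ∀ y ∈ S', j (k y) = y
  j_mul : ∀ x ∈ S, ∀ y ∈ S, j (x * y) = j x * j y
  map : ∀ (P : Subgroup Ω) (f : Ω → Ω) (P' : Subgroup Ω'), IsMap F P f →
    (P' : Set Ω') = j '' P → IsMap F' P' (fun y => j (f (k y)))
  mapBack : ∀ (P' : Subgroup Ω') (f : Ω' → Ω') (P : Subgroup Ω), IsMap F' P' f →
    (P : Set Ω) = k '' P' → IsMap F P (fun x => k (f (j x)))

namespace Transport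

variable {F : FusionSystem S} {F' : FusionSystem S'} {j : Ω → Ω'} {k : Ω' → Ω}
  (h : Transport F F' j k)

include h

theorem k_mul (x : Ω') (hx : x ∈ S') (y : Ω') (hy : y ∈ S') : k (x * y) = k x * k y := by
  have e := h.j_mul _ (h.k_mem x hx) _ (h.k_mem y hy)
  rw [h.jk x hx, h.jk y hy] at e
  rw [← e, h.kj _ (S.mul_mem (h.k_mem x hx) (h.k_mem y hy))]

theorem symm : Transport F' F k j :=
  ⟨h.k_mem, h.j_mem, h.jk, h.kj, h.k_mul, h.mapBack, h.map⟩

theorem j_one : j 1 = 1 := by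
  have e := h.j_mul 1 S.one_mem 1 S.one_mem
  rw [mul_one] at e
  exact mul_eq_left.1 e.symm

theorem j_inv {x : Ω} (hx : x ∈ S) : j x⁻¹ = (j x)⁻¹ := by
  refine eq_inv_of_mul_eq_one_left ?_
  rw [← h.j_mul _ (S.inv_mem hx) _ hx, inv_mul_cancel, h.j_one]

theorem j_conj {x y : Ω} (hx : x ∈ S) (hy : y ∈ S) :
    j (x * y * x⁻¹) = j x * j y * (j x)⁻¹ := by
  rw [h.j_mul _ (S.mul_mem hx hy) _ (S.inv_mem hx), h.j_mul _ hx _ hy, h.j_inv hx]

theorem j_inj {x y : Ω} (hx : x ∈ S) (hy : y ∈ S) (e : j x = j y) : x = y := by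
  rw [← h.kj x hx, e, h.kj y hy]

/-- The homomorphism on `S` underlying a transport. -/
def hom : S →* Ω' where
  toFun x := j x
  map_one' := h.j_one
  map_mul' x y := h.j_mul x x.2 y y.2

omit h in
/-- The image of a subgroup under a transport. -/
def img (h : Transport F F' j k) (P : Subgroup Ω) : Subgroup Ω' := (P.subgroupOf S).map h.hom

theorem mem_img_iff' {P : Subgroup Ω} {y : Ω'} :
    y ∈ h.img P ↔ ∃ x ∈ P, x ∈ S ∧ j x = y := by
  constructor
  · rintro ⟨x, hx, rfl⟩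
    exact ⟨x, hx, x.2, rfl⟩
  · rintro ⟨x, hx, hxS, rfl⟩
    exact ⟨⟨x, hxS⟩, hx, rfl⟩

theorem mem_img {P : Subgroup Ω} (hP : P ≤ S) {x : Ω} (hx : x ∈ P) : j x ∈ h.img P :=
  h.mem_img_iff'.2 ⟨x, hx, hP hx, rfl⟩

theorem coe_img {P : Subgroup Ω} (hP : P ≤ S) : (h.img P : Set Ω') = j '' P := by
  ext y
  rw [SetLike.mem_coe, h.mem_img_iff']
  exact ⟨fun ⟨x, hx, _, e⟩ => ⟨x, hx, e⟩, fun ⟨x, hx, e⟩ => ⟨x, hx, hP hx, e⟩⟩

theorem img_le (P : Subgroup Ω) : h.img P ≤ S' := fun y hy => by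
  obtain ⟨x, -, hxS, rfl⟩ := h.mem_img_iff'.1 hy
  exact h.j_mem x hxS

theorem mem_img_iff {P : Subgroup Ω} {x : Ω} (hx : x ∈ S) : j x ∈ h.img P ↔ x ∈ P := by
  refine ⟨fun hj => ?_, fun hP => h.mem_img_iff'.2 ⟨x, hP, hx, rfl⟩⟩
  obtain ⟨x', hx', hxS', e⟩ := h.mem_img_iff'.1 hj
  rwa [← h.j_inj hxS' hx e]

theorem k_mem_of_mem_img {P : Subgroup Ω} {y : Ω'} (hy : y ∈ h.img P) : k y ∈ P := by
  obtain ⟨x, hx, hxS, rfl⟩ := h.mem_img_iff'.1 hy
  rwa [h.kj x hxS]

theorem img_mono {P Q : Subgroup Ω} (hle : P ≤ Q) : h.img P ≤ h.img Q :=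
  fun _ hy => by
    obtain ⟨x, hx, hxS, rfl⟩ := h.mem_img_iff'.1 hy
    exact h.mem_img_iff'.2 ⟨x, hle hx, hxS, rfl⟩

theorem img_img {P : Subgroup Ω} (hP : P ≤ S) : h.symm.img (h.img P) = P := by
  ext x
  rw [h.symm.mem_img_iff']
  constructor
  · rintro ⟨y, hy, -, rfl⟩
    exact h.k_mem_of_mem_img hy
  · intro hx
    exact ⟨j x, h.mem_img hP hx, h.j_mem x (hP hx), h.kj x (hP hx)⟩

theorem img_symm_img {P' : Subgroup Ω'} (hP : P' ≤ S') : h.img (h.symm.img P') = P' :=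
  h.symm.img_img hP

theorem img_top : h.img S = S' := by
  refine le_antisymm (h.img_le S) fun y hy => ?_
  rw [← h.jk y hy]
  exact h.mem_img le_rfl (h.k_mem y hy)

theorem isMap {P : Subgroup Ω} {f : Ω → Ω} (hf : IsMap F P f) :
    IsMap F' (h.img P) (fun y => j (f (k y))) :=
  h.map P f _ hf (h.coe_img hf.le)

theorem isIso {P Q : Subgroup Ω} {f : Ω → Ω} (hf : IsIso F P Q f) :
    IsIso F' (h.img P) (h.img Q) (fun y => j (f (k y))) := by
  refine ⟨h.isMap hf.isMap, ?_⟩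
  rw [h.coe_img hf.le_left, h.coe_img hf.le_right, ← hf.image_eq, Set.image_image, Set.image_image]
  exact Set.image_congr fun x hx => by rw [h.kj x (hf.le_left hx)]

theorem isConj {P Q : Subgroup Ω} (hc : F.IsConj P Q) : F'.IsConj (h.img P) (h.img Q) := by
  obtain ⟨f, hf⟩ := isConj_iff.1 hc
  exact (h.isIso hf).isConj

/-- The isomorphism from `P` onto its image. -/
noncomputable def equiv {P : Subgroup Ω} (hP : P ≤ S) : P ≃* h.img P where
  toFun x := ⟨j x, h.mem_img hP x.2⟩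
  invFun y := ⟨k y, h.k_mem_of_mem_img y.2⟩
  left_inv x := Subtype.ext (h.kj x (hP x.2))
  right_inv y := Subtype.ext (h.jk y (h.img_le P y.2))
  map_mul' x y := Subtype.ext (h.j_mul x (hP x.2) y (hP y.2))

theorem congr_equiv_apply {P : Subgroup Ω} (hP : P ≤ S) (α : MulAut P) (y : h.img P) :
    (MulAut.congr (h.equiv hP) α y : Ω') = j (autFun α (k y)) := by
  rw [autFun_apply α (h.k_mem_of_mem_img y.2)]
  rfl

theorem congr_mem_autGroup {P : Subgroup Ω} (hP : P ≤ S) {α : MulAut P}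
    (hα : α ∈ F.autGroup P) : MulAut.congr (h.equiv hP) α ∈ F'.autGroup (h.img P) :=
  mem_autGroup_of_isMap (h.isMap ((mem_autGroup_iff hP α).1 hα).isMap) _ (h.congr_equiv_apply hP α)

theorem congr_symm_mem_autGroup {P : Subgroup Ω} (hP : P ≤ S) {β : MulAut (h.img P)}
    (hβ : β ∈ F'.autGroup (h.img P)) :
    (MulAut.congr (h.equiv hP)).symm β ∈ F.autGroup P := by
  have hm := h.symm.isMap ((mem_autGroup_iff (h.img_le P) β).1 hβ).isMap
  rw [h.img_img hP] at hm
  refine mem_autGroup_of_isMap hm _ fun x => ?_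
  show (((h.equiv hP).symm (β (h.equiv hP x)) : P) : Ω) = k (autFun β (j x))
  rw [autFun_apply β (h.mem_img hP x.2)]
  rfl

theorem congr_mem_autInducedBy {P : Subgroup Ω} (hP : P ≤ S) {α : MulAut P}
    (hα : α ∈ autInducedBy S P) : MulAut.congr (h.equiv hP) α ∈ autInducedBy S' (h.img P) := by
  obtain ⟨g, hg, hv⟩ := (mem_autInducedBy_iff S P α).1 hα
  refine (mem_autInducedBy_iff _ _ _).2 ⟨j g, h.j_mem g hg, fun y => ?_⟩
  have hk := h.k_mem_of_mem_img y.2
  rw [h.congr_equiv_apply hP, autFun_apply α hk, hv, h.j_conj hg (hP hk), h.jk y (h.img_le P y.2)]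

theorem mem_normalizer [Finite S'] {P : Subgroup Ω} (hP : P ≤ S) {g : Ω} (hg : g ∈ S)
    (hn : g ∈ Subgroup.normalizer (P : Set Ω)) :
    j g ∈ Subgroup.normalizer (h.img P : Set Ω') := by
  refine mem_normalizer_of_conj_mem (h.img_le P) fun y hy => ?_
  obtain ⟨x, hx, hxS, rfl⟩ := h.mem_img_iff'.1 hy
  rw [← h.j_conj hg hxS]
  exact h.mem_img hP (conj_mem_of_mem_normalizer hn hx)

theorem isReceptive [Finite S] {Q : Subgroup Ω} (hQ : F.IsReceptive Q) :
    F'.IsReceptive (h.img Q) := by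
  obtain ⟨hQS, hext⟩ := isReceptive_iff.1 hQ
  refine isReceptive_iff.2 ⟨h.img_le Q, fun P' f' hf' => ?_⟩
  have hP' := hf'.le_left
  have hf := h.symm.isIso hf'
  rw [h.img_img hQS] at hf
  set P := h.symm.img P' with hPdef
  obtain ⟨f1, hf1, hv⟩ := hext P _ hf
  have hP : P ≤ S := h.symm.img_le P'
  have hN : nPhi S' P' f' ≤ h.img (nPhi S P fun x => k (f' (j x))) := by
    rintro g ⟨hg, hgn, c, hc, hcv⟩
    rw [← h.jk g hg]
    refine h.mem_img (nPhi_le_self _ _) ?_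
    refine ⟨h.k_mem g hg, h.symm.mem_normalizer hP' hg hgn, k c, h.k_mem c hc, fun x hx => ?_⟩
    have hxS := hP hx
    have hjx : j x ∈ P' := h.symm.k_mem_of_mem_img hx
    show k (f' (j (k g * x * (k g)⁻¹))) = k c * k (f' (j x)) * (k c)⁻¹
    rw [h.j_conj (h.k_mem g hg) hxS, h.jk g hg, hcv _ hjx,
      h.symm.j_conj hc (hf'.isMap.mem hjx)]
  refine ⟨fun y => j (f1 (k y)), (h.isMap hf1).mono hN, fun y hy => ?_⟩
  have hyS := hP' hy
  show j (f1 (k y)) = f' y
  rw [hv _ (h.symm.mem_img hP' hy)]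
  show j (k (f' (j (k y)))) = f' y
  rw [h.jk y hyS, h.jk _ (hf'.isMap.mem hy)]

theorem isFullyAutomized [Finite S] [Finite S'] {p : ℕ} [Fact p.Prime] (hS : IsPGroup p S)
    (hS' : IsPGroup p S') {P : Subgroup Ω} (hP : F.IsFullyAutomized p P) :
    F'.IsFullyAutomized p (h.img P) := by
  obtain ⟨hPS, hA⟩ := (isFullyAutomized_iff hS).1 hP
  refine (isFullyAutomized_iff hS').2 ⟨h.img_le P, fun A hle hAp => ?_⟩
  set e := MulAut.congr (h.equiv hPS)
  obtain ⟨β, hβ, hconj⟩ := hA (A.map e.symm.toMonoidHom)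
    (by rintro _ ⟨a, ha, rfl⟩; exact h.congr_symm_mem_autGroup hPS (hle ha)) (hAp.map _)
  refine ⟨e β, h.congr_mem_autGroup hPS hβ, fun a ha => ?_⟩
  have := h.congr_mem_autInducedBy hPS (hconj _ ⟨a, ha, rfl⟩)
  rw [map_mul, map_mul, map_inv] at this
  have ea : e (e.symm.toMonoidHom a) = a := e.apply_symm_apply a
  rwa [ea] at this

/-- Saturation is invariant under isomorphism. -/
theorem isSaturated [Finite S] [Finite S'] {p : ℕ} [Fact p.Prime] (hS : IsPGroup p S)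
    (hF : F.IsSaturated p) : F'.IsSaturated p := by
  have hS' : IsPGroup p S' := by
    rintro ⟨y, hy⟩
    obtain ⟨n, hn⟩ := hS ⟨k y, h.k_mem y hy⟩
    refine ⟨n, Subtype.ext ?_⟩
    have e := congrArg h.hom hn
    rw [map_pow, map_one] at e
    have ey : h.hom ⟨k y, h.k_mem y hy⟩ = y := h.jk y hy
    rw [ey] at e
    exact e
  intro P' hP'
  obtain ⟨Q, hc, ha, hr⟩ := hF _ (h.symm.img_le P')
  refine ⟨h.img Q, ?_, h.isFullyAutomized hS hS' ha, h.isReceptive hr⟩
  simpa [h.img_symm_img hP'] using h.isConj hc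

theorem stronglyClosed {T : Subgroup Ω} (hT : F.StronglyClosed T) :
    F'.StronglyClosed (h.img T) := by
  refine ⟨h.img_le T, fun R hR φ hφ x => ?_⟩
  have hm := h.symm.isMap (isMap_homFun hφ)
  have hle : h.symm.img R ≤ T := (h.symm.img_mono hR).trans_eq (h.img_img hT.1)
  have hxS : (x : Ω') ∈ S' := (h.img_le T) (hR x.2)
  obtain ⟨ψ, hψ, hv⟩ := hm
  have hkx : k x ∈ h.symm.img R := h.symm.mem_img (hR.trans (h.img_le T)) x.2
  have := hT.2 _ hle ψ hψ ⟨k x, hkx⟩
  rw [hv] at this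
  have e := h.mem_img hT.1 this
  simp only [h.jk x hxS, homFun_coe] at e
  rwa [h.jk _ ((F'.le_of_mem hφ).2 x)] at e

end Transport

/-- Equality of fusion systems seen through function-valued maps. -/
theorem hom_eq_of_isMap_iff {F G : FusionSystem S} {P : Subgroup Ω}
    (h : ∀ f, IsMap F P f ↔ IsMap G P f) : F.Hom P = G.Hom P := by
  ext φ
  rw [mem_hom_iff, mem_hom_iff, h]

namespace Transport

variable {F : FusionSystem S} {F' : FusionSystem S'} {j : Ω → Ω'} {k : Ω' → Ω}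
  (h : Transport F F' j k)

/-- The system corresponding to a system `E` over `T ≤ S`. -/
def push {T : Subgroup Ω} (E : FusionSystem T) (hT : T ≤ S) : FusionSystem (h.img T) where
  Hom P' := {φ | P' ≤ h.img T ∧
    ∃ f, IsMap E (h.symm.img P') f ∧ ∀ y : P', φ y = j (f (k y))}
  le_of_mem := by
    rintro P' φ ⟨hP', f, hf, hv⟩
    refine ⟨hP', fun y => ?_⟩
    rw [hv]
    exact h.mem_img hT (hf.mem (h.symm.mem_img (hP'.trans (h.img_le T)) y.2))
  injective_of_mem := by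
    rintro P' φ ⟨hP', f, hf, hv⟩ a b hab
    have hS' := hP'.trans (h.img_le T)
    have ha := h.symm.mem_img hS' a.2
    have hb := h.symm.mem_img hS' b.2
    rw [hv, hv] at hab
    have e := hf.injOn ha hb (h.j_inj (hT (hf.mem ha)) (hT (hf.mem hb)) hab)
    exact Subtype.ext (h.symm.j_inj (hS' a.2) (hS' b.2) e)
  conj_mem := by
    intro P' g hP' hg
    have hgT := h.k_mem_of_mem_img hg
    refine ⟨hP', fun x => k g * x * (k g)⁻¹, isMap_conj ?_ hgT, fun y => ?_⟩
    · exact (h.symm.img_mono hP').trans_eq (h.img_img hT)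
    · show g * (y : Ω') * g⁻¹ = _
      have hy := h.img_le T (hP' y.2)
      rw [h.j_conj (hT hgT) (h.k_mem y hy), h.jk y hy, h.jk g (h.img_le T hg)]
  comp_mem := by
    rintro P' Q' φ ψ ⟨hP', f, hf, hv⟩ ⟨hQ', g, hg, hw⟩ hPQ
    have hm : ∀ y : P', f (k y) ∈ h.symm.img Q' := fun y => by
      have := h.symm.mem_img (hQ'.trans (h.img_le T)) (hPQ y)
      rwa [hv, h.kj _ (hT (hf.mem (h.symm.mem_img (hP'.trans (h.img_le T)) y.2)))] at this
    refine ⟨hP', g ∘ f, hf.comp hg fun x hx => ?_, fun y => ?_⟩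
    · obtain ⟨y, hy, -, rfl⟩ := h.symm.mem_img_iff'.1 hx
      exact hm ⟨y, hy⟩
    · show ψ ⟨φ y, hPQ y⟩ = j (g (f (k y)))
      rw [hw]
      congr 2
      show k (φ y) = _
      rw [hv, h.kj _ (hT (hf.mem (h.symm.mem_img (hP'.trans (h.img_le T)) y.2)))]
  inv_mem := by
    rintro P' φ ⟨hP', f, hf, hv⟩
    have hS' := hP'.trans (h.img_le T)
    have hker : Function.Injective φ := fun a b hab => by
      have ha := h.symm.mem_img hS' a.2
      have hb := h.symm.mem_img hS' b.2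
      rw [hv, hv] at hab
      exact Subtype.ext (h.symm.j_inj (hS' a.2) (hS' b.2)
        (hf.injOn ha hb (h.j_inj (hT (hf.mem ha)) (hT (hf.mem hb)) hab)))
    obtain ⟨Q, hQ⟩ := hf.exists_iso
    obtain ⟨g, hg, hg1, -⟩ := hQ.exists_symm
    refine ⟨P'.subtype.comp (MonoidHom.ofInjective hker).symm.toMonoidHom, ⟨?_, g, hg.isMap.mono ?_, ?_⟩,
      fun x => ?_⟩
    · rintro _ ⟨y, rfl⟩
      rw [hv]
      exact h.mem_img hT (hf.mem (h.symm.mem_img hS' y.2))
    · intro x hx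
      obtain ⟨_, ⟨y, rfl⟩, -, rfl⟩ := h.symm.mem_img_iff'.1 hx
      have hm := h.symm.mem_img hS' y.2
      rw [hv, h.kj _ (hT (hf.mem hm))]
      exact hQ.mem hm
    · rintro ⟨_, y, rfl⟩
      have hm := h.symm.mem_img hS' y.2
      have e : ((MonoidHom.ofInjective hker).symm ⟨φ y, y, rfl⟩ : P') = y :=
        (MonoidHom.ofInjective hker).symm_apply_apply y
      show (((MonoidHom.ofInjective hker).symm ⟨φ y, y, rfl⟩ : P') : Ω') = j (g (k (φ y)))
      rw [e, hv, h.kj _ (hT (hf.mem hm)), hg1 _ hm, h.jk y (hS' y.2)]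
    · exact congrArg Subtype.val ((MonoidHom.ofInjective hker).symm_apply_apply x)

theorem isMap_push_iff {T : Subgroup Ω} {E : FusionSystem T} {hT : T ≤ S} {P' : Subgroup Ω'}
    {f : Ω' → Ω'} : IsMap (h.push E hT) P' f ↔ P' ≤ h.img T ∧
      ∃ g, IsMap E (h.symm.img P') g ∧ ∀ y ∈ P', f y = j (g (k y)) := by
  constructor
  · rintro ⟨φ, ⟨hP', g, hg, hv⟩, hw⟩
    exact ⟨hP', g, hg, fun y hy => (hw ⟨y, hy⟩).symm.trans (hv ⟨y, hy⟩)⟩
  · rintro ⟨hP', g, hg, hv⟩
    have hS' := hP'.trans (h.img_le T)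
    refine ⟨MonoidHom.mk' (fun y : P' => j (g (k y))) fun a b => ?_, ⟨hP', g, hg, fun y => rfl⟩,
      fun y => (hv y y.2).symm⟩
    have ha := h.symm.mem_img hS' a.2
    have hb := h.symm.mem_img hS' b.2
    show j (g (k ((a : Ω') * b))) = j (g (k a)) * j (g (k b))
    rw [h.k_mul _ (hS' a.2) _ (hS' b.2), hg.map_mul ha hb,
      h.j_mul _ (hT (hg.mem ha)) _ (hT (hg.mem hb))]

include h in
theorem transport_push {T : Subgroup Ω} (E : FusionSystem T) (hT : T ≤ S) :
    Transport E (h.push E hT) j k where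
  j_mem _ hx := h.mem_img hT hx
  k_mem _ hy := h.k_mem_of_mem_img hy
  kj x hx := h.kj x (hT hx)
  jk y hy := h.jk y (h.img_le T hy)
  j_mul x hx y hy := h.j_mul x (hT hx) y (hT hy)
  map P f P' hf he := by
    have hPS : P ≤ S := hf.le.trans hT
    have e : P' = h.img P := SetLike.coe_injective (he.trans (h.coe_img hPS).symm)
    subst e
    refine h.isMap_push_iff.2 ⟨h.img_mono hf.le, f, ?_, fun y _ => rfl⟩
    rw [h.img_img hPS]; exact hf
  mapBack P' f P hf he := by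
    obtain ⟨hP', g, hg, hv⟩ := h.isMap_push_iff.1 hf
    have hS' := hP'.trans (h.img_le T)
    have e : P = h.symm.img P' := SetLike.coe_injective (he.trans (h.symm.coe_img hS').symm)
    subst e
    refine hg.congr fun x hx => ?_
    have hxS := h.symm.img_le P' hx
    rw [hv _ (h.symm.k_mem_of_mem_img hx), h.kj x hxS, h.kj _ (hT (hg.mem hx))]

include h in
theorem isSubsystemOf_push {T : Subgroup Ω} {E : FusionSystem T} (hT : T ≤ S)
    (hsub : E.IsSubsystemOf F) : (h.push E hT).IsSubsystemOf F' := by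
  intro P' φ hφ
  obtain ⟨hP', g, hg, hv⟩ := h.isMap_push_iff.1 (isMap_homFun hφ)
  refine mem_hom_of_isMap (f := fun y => j (g (k y))) ?_ fun y => ?_
  · have := h.isMap (isMap_of_subsystem hsub hg)
    rwa [h.img_symm_img (hP'.trans (h.img_le T))] at this
  · rw [← hv _ y.2, homFun_coe]

include h in
theorem isInvariantIn_push {T : Subgroup Ω} {E : FusionSystem T} (hE : E.IsInvariantIn F) :
    (h.push E hE.2.1.1).IsInvariantIn F' := by
  have hT := hE.2.1.1
  refine ⟨h.isSubsystemOf_push hT hE.1, h.stronglyClosed hE.2.1, ?_, ?_⟩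
  · intro P' hP' φ hφ α hα
    obtain ⟨-, g, hg, hv⟩ := h.isMap_push_iff.1 (isMap_homFun hφ)
    set a := (MulAut.congr (h.equiv hT)).symm α
    have ha : a ∈ F.autGroup T := h.congr_symm_mem_autGroup hT hα
    have hS' := hP'.trans (h.img_le T)
    have haut : ∀ x ∈ T, autFun α (j x) = j (autFun a x) := by
      intro x hx
      have e := h.congr_equiv_apply hT a ⟨j x, h.mem_img hT hx⟩
      simp only [a, MulEquiv.apply_symm_apply] at e
      rw [autFun_apply α (h.mem_img hT hx)]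
      refine e.trans ?_
      show j (autFun a (k (j x))) = _
      rw [h.kj x (hT hx)]
    set R := (P'.subgroupOf (h.img T)).map ((h.img T).subtype.comp α.toMonoidHom)
    have hR : R ≤ h.img T := by rintro _ ⟨y, -, rfl⟩; exact SetLike.coe_mem _
    have him : autFun a '' (h.symm.img P' : Set Ω) = h.symm.img R := by
      rw [h.symm.coe_img hS', h.symm.coe_img (hR.trans (h.img_le T))]
      ext x
      constructor
      · rintro ⟨_, ⟨y, hy, rfl⟩, rfl⟩
        refine ⟨autFun α y, ⟨⟨y, hP' hy⟩, hy, (autFun_apply α (hP' hy)).symm⟩, ?_⟩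
        have hky := h.k_mem_of_mem_img (hP' hy)
        conv_lhs => rw [← h.jk y (hS' hy), haut _ hky, h.kj _ (hT (autFun_mem a hky))]
      · rintro ⟨_, ⟨y, hy, rfl⟩, rfl⟩
        refine ⟨k y, ⟨y, hy, rfl⟩, ?_⟩
        have hky := h.k_mem_of_mem_img y.2
        show _ = k (α y : Ω')
        rw [← autFun_coe α y, ← h.jk (y : Ω') (h.img_le T y.2), haut _ hky,
          h.kj _ (hT (autFun_mem a hky)), h.jk (y : Ω') (h.img_le T y.2)]
    obtain ⟨g', hg', hg'v⟩ := exists_transport hE hg ha him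
    obtain ⟨χ, hχ, hχv⟩ := (h.isMap_push_iff.2 ⟨hR, g', hg', fun y _ => rfl⟩ :
      IsMap (h.push E hT) R fun y => j (g' (k y))).exists_hom
    refine ⟨χ, hχ, fun x hφx hαx => ?_⟩
    rw [hχv]
    have hkx := h.k_mem_of_mem_img (hP' x.2)
    have hgx := hg.mem (h.symm.mem_img hS' x.2)
    show j (g' (k (α ⟨x, hP' x.2⟩ : Ω'))) = _
    rw [← autFun_apply α (hP' x.2), ← autFun_apply α hφx, ← homFun_coe φ x, hv _ x.2, haut _ hgx,
      ← h.jk (x : Ω') (hS' x.2), haut _ hkx, h.kj _ (hT (autFun_mem a hkx)),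
      hg'v _ (h.symm.mem_img hS' x.2), h.jk (x : Ω') (hS' x.2)]
  · intro P' hP' φ hφ
    have hS' := hP'.trans (h.img_le T)
    have hm := h.symm.isMap (isMap_homFun hφ)
    obtain ⟨a, ha, g, hg, hgv⟩ :=
      exists_frattini hE ((h.symm.img_mono hP').trans_eq (h.img_img hT)) hm
    obtain ⟨φ₀, hφ₀, h0⟩ := (h.isMap_push_iff.2 ⟨hP', g, hg, fun y _ => rfl⟩ :
      IsMap (h.push E hT) P' fun y => j (g (k y))).exists_hom
    refine ⟨MulAut.congr (h.equiv hT) a, h.congr_mem_autGroup hT ha, φ₀, hφ₀, fun x hx => ?_⟩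
    have hgx := hg.mem (h.symm.mem_img hS' x.2)
    have e := hgv _ (h.symm.mem_img hS' x.2)
    rw [h.congr_equiv_apply hT]
    show φ x = j (autFun a (k (φ₀ x)))
    rw [h0, h.kj _ (hT hgx), ← e]
    show φ x = j (k (homFun φ (j (k x))))
    rw [h.jk (x : Ω') (hS' x.2), homFun_coe, h.jk _ ((F'.le_of_mem hφ).2 x)]

include h in
theorem isNormalIn_push [Finite S] [Finite S'] {p : ℕ} [Fact p.Prime] (hS : IsPGroup p S)
    {T : Subgroup Ω} {E : FusionSystem T} (hE : E.IsNormalIn F p) :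
    (h.push E hE.1.2.2.2.1.1).IsNormalIn F' p := by
  obtain ⟨⟨hEs, hFs, hinv⟩, hext⟩ := hE
  have hT := hinv.2.1.1
  have : Finite T := finite_of_le hT
  have : Finite (h.img T) := finite_of_le (h.img_le T)
  refine ⟨⟨(h.transport_push E hT).isSaturated (hS.to_le hT) hEs, h.isSaturated hS hFs,
    h.isInvariantIn_push hinv⟩, fun α hα => ?_⟩
  have hT' := h.transport_push E hT
  set a := (MulAut.congr (h.equiv hT)).symm α
  have hm := hT'.symm.isMap ((mem_autGroup_iff le_rfl α).1 hα).isMap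
  rw [show hT'.symm.img (h.img T) = h.symm.img (h.img T) by
    refine le_antisymm ?_ ?_ <;> intro x hx
    · obtain ⟨y, hy, hyT, rfl⟩ := hT'.symm.mem_img_iff'.1 hx
      exact h.symm.mem_img (h.img_le T) hy
    · obtain ⟨y, hy, -, rfl⟩ := h.symm.mem_img_iff'.1 hx
      exact hT'.symm.mem_img le_rfl hy, h.img_img hT] at hm
  have ha : a ∈ E.autGroup T := mem_autGroup_of_isMap hm a fun x => by
    show (((h.equiv hT).symm (α (h.equiv hT x)) : T) : Ω) = k (autFun α (j x))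
    rw [autFun_apply α (h.mem_img hT x.2)]
    rfl
  set U := T ⊔ centralizerIn S T with hUdef
  obtain ⟨β, hβ, hβ1, hβ2⟩ := hext a ha
  have hU : U ≤ S := sup_le hT inf_le_left
  have hcen : ∀ c ∈ S', c ∈ Subgroup.centralizer (h.img T : Set Ω') →
      k c ∈ centralizerIn S T := by
    intro c hc hcc
    refine ⟨h.k_mem c hc, fun x hx => ?_⟩
    have e := congrArg k (hcc (j x) (h.mem_img hT hx))
    have hjx := h.j_mem x (hT hx)
    rwa [h.k_mul _ hjx _ hc, h.k_mul _ hc _ hjx, h.kj x (hT hx)] at e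
  have hUimg : h.img T ⊔ centralizerIn S' (h.img T) = h.img U := by
    refine le_antisymm (sup_le (h.img_mono le_sup_left) ?_) ?_
    · rintro c ⟨hc, hcc⟩
      rw [← h.jk c hc]
      exact h.mem_img hU (Subgroup.mem_sup_right (hcen c hc hcc))
    · intro y hy
      obtain ⟨⟨x, hxS⟩, hx, rfl⟩ := hy
      have hle : U.subgroupOf S ≤ (h.img T ⊔ centralizerIn S' (h.img T)).comap h.hom := by
        have hCS : centralizerIn S T ≤ S := inf_le_left
        rw [hUdef, Subgroup.subgroupOf_sup hT hCS]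
        refine sup_le (fun z hz => Subgroup.mem_sup_left ?_) fun z hz => Subgroup.mem_sup_right ?_
        · exact h.mem_img hT hz
        · refine ⟨h.j_mem z z.2, ?_⟩
          rintro y hy
          obtain ⟨x', hx', hxS', rfl⟩ := h.mem_img_iff'.1 hy
          show j x' * j z = j z * j x'
          rw [← h.j_mul _ hxS' _ z.2, ← h.j_mul _ z.2 _ hxS',
            show x' * (z : Ω) = (z : Ω) * x' from hz.2 x' hx']
      exact hle hx
  have hβm := h.isIso ((mem_autGroup_iff hU β).1 hβ)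
  rw [← hUimg] at hβm
  obtain ⟨b, hb, hbv⟩ := exists_mem_autGroup hβm
  refine ⟨b, hb, fun y => ?_, fun c hc => ?_⟩
  · rw [hbv]
    show j (autFun β (k y)) = (α y : Ω')
    have hky := h.k_mem_of_mem_img y.2
    have e := hβ1 ⟨k y, hky⟩
    rw [autFun_apply β (Subgroup.mem_sup_left hky)]
    erw [e]
    show j (((h.equiv hT).symm (α (h.equiv hT ⟨k y, hky⟩)) : T) : Ω) = _
    have hy' : h.equiv hT ⟨k y, hky⟩ = y := Subtype.ext (h.jk y (h.img_le T y.2))
    rw [hy']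
    show j (k (α y : Ω')) = _
    rw [h.jk _ (h.img_le T (SetLike.coe_mem _))]
  · have hkc := hcen c hc.1 hc.2
    have hkU : k c ∈ U := Subgroup.mem_sup_right hkc
    have e := hβ2 ⟨k c, hkU⟩ hkc
    rw [hbv]
    show (c : Ω')⁻¹ * j (autFun β (k c)) ∈ _
    rw [autFun_apply β hkU]
    set d := ((β ⟨k c, hkU⟩ : U) : Ω)
    have hd : d ∈ S := hU (SetLike.coe_mem _)
    have e2 : (c : Ω')⁻¹ * j d = j ((k c)⁻¹ * d) := by
      rw [h.j_mul _ (S.inv_mem hkc.1) _ hd, h.j_inv hkc.1, h.jk _ hc.1]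
    rw [e2]
    refine ⟨h.mem_img hT e.1, fun y hy => ?_⟩
    obtain ⟨x, hx, hxS, rfl⟩ := h.mem_img_iff'.1 hy
    show j x * j ((k c)⁻¹ * d) = j ((k c)⁻¹ * d) * j x
    rw [← h.j_mul _ hxS _ (hT e.1), ← h.j_mul _ (hT e.1) _ hxS, e.2 x hx]

include h in
/-- Simplicity is invariant under isomorphism. -/
theorem isSimple [Finite S] [Finite S'] {p : ℕ} [Fact p.Prime] (hS : IsPGroup p S)
    (hF : F.IsSimple p) : F'.IsSimple p := by
  have hS' : IsPGroup p S' := by
    rintro ⟨y, hy⟩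
    obtain ⟨n, hn⟩ := hS ⟨k y, h.k_mem y hy⟩
    refine ⟨n, Subtype.ext ?_⟩
    have e := congrArg h.hom hn
    rw [map_pow, map_one, show h.hom ⟨k y, h.k_mem y hy⟩ = y from h.jk y hy] at e
    exact e
  obtain ⟨hsat, hne, hall⟩ := hF
  refine ⟨h.isSaturated hS hsat, fun h1 => hne ?_, fun T E hE => ?_⟩
  · rw [eq_bot_iff]
    intro x hx
    have := h.j_mem x hx
    rw [h1, Subgroup.mem_bot] at this
    exact Subgroup.mem_bot.2 (h.j_inj hx S.one_mem (this.trans h.j_one.symm))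
  · have hT' := hE.1.2.2.2.1.1
    rcases hall _ _ (h.symm.isNormalIn_push hS' hE) with hb | ⟨hb, heq⟩
    · refine Or.inl (eq_bot_iff.2 fun y hy => ?_)
      have := h.symm.mem_img hT' hy
      rw [hb, Subgroup.mem_bot] at this
      rw [← h.jk y (hT' hy), this, h.j_one]
      exact Subgroup.one_mem _
    · have hTS : T = S' := by rw [← h.img_symm_img hT', hb, h.img_top]
      refine Or.inr ⟨hTS, fun P => Set.Subset.antisymm (hE.1.2.2.1 P) fun φ hφ => ?_⟩
      have hP := (F'.le_of_mem hφ).1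
      obtain ⟨ψ, hψ, hψv⟩ := h.symm.isMap (isMap_homFun hφ)
      rw [← heq] at hψ
      obtain ⟨-, g, hg, hgv⟩ := hψ
      rw [show h.symm.symm.img (h.symm.img P) = P from h.img_symm_img hP] at hg
      refine mem_hom_of_isMap hg fun y => ?_
      have hy : k (y : Ω') ∈ h.symm.img P := h.symm.mem_img hP y.2
      have e := (hgv ⟨k y, hy⟩).symm.trans (hψv ⟨k y, hy⟩)
      simp only [h.jk (y : Ω') (hP y.2), homFun_coe] at e
      exact (h.symm.j_inj (hT' (hg.mem y.2)) ((F'.le_of_mem hφ).2 y) e).symm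

end Transport

end CfsgLib.Fusion
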