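import Mathlib
import Cfsg.Agent.Lib.Fusion.Transport

/-!
Transports from realizations; fusion systems of subgroups; the normal subsystem of a normal subgroup.
-/

set_option autoImplicit false

namespace CfsgLib.Fusion

open Cfsg Cfsg.FusionSystem

section Realized

variable {Ω G : Type*} [Group Ω] [Group G] {S : Subgroup Ω} {F : FusionSystem S}

open Classical in
/-- A homomorphism on `S` as a function on the ambient group. -/
noncomputable def homExt (ι : S →* G) : Ω → G := fun x => if hx : x ∈ S then ι ⟨x, hx⟩ else 1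

theorem homExt_apply (ι : S →* G) {x : Ω} (hx : x ∈ S) : homExt ι x = ι ⟨x, hx⟩ := by
  rw [homExt, dif_pos hx]

theorem exists_transport_of_realized (ι : S →* G) (h : F.IsRealizedBy ι) :
    ∃ k, Transport F (groupFusionSystem ι.range) (homExt ι) k := by
  obtain ⟨hinj, hiff⟩ := h
  classical
  let k : G → Ω := fun y => if hy : y ∈ ι.range then ((Classical.choose hy : S) : Ω) else 1
  have hk : ∀ x : S, k (ι x) = x := fun x => by
    have hy : ι x ∈ ι.range := ⟨x, rfl⟩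
    show dite _ _ _ = _
    rw [dif_pos hy]
    exact congrArg Subtype.val (hinj (Classical.choose_spec hy))
  refine ⟨k, fun x hx => ?_, ?_, fun x hx => ?_, ?_, fun x hx y hy => ?_, ?_, ?_⟩
  · rw [homExt_apply ι hx]; exact ⟨_, rfl⟩
  · rintro _ ⟨x, rfl⟩
    rw [hk]; exact x.2
  · rw [homExt_apply ι hx, hk]
  · rintro _ ⟨x, rfl⟩
    rw [hk, homExt_apply ι x.2]
  · rw [homExt_apply ι hx, homExt_apply ι hy, homExt_apply ι (S.mul_mem hx hy), ← map_mul]
    rfl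
  · intro P f P' hf he
    obtain ⟨φ, hφ, hv⟩ := hf
    obtain ⟨g, hg⟩ := (hiff P (F.le_of_mem hφ).1 φ (F.le_of_mem hφ).2).1 hφ
    refine isMap_group_iff.2 ⟨?_, ?_, g, ?_⟩
    · intro y hy
      obtain ⟨x, hx, rfl⟩ := he.subset hy
      rw [homExt_apply ι ((F.le_of_mem hφ).1 hx)]
      exact ⟨_, rfl⟩
    all_goals intro y hy
    all_goals obtain ⟨x, hx, rfl⟩ := he.subset hy
    all_goals rw [homExt_apply ι ((F.le_of_mem hφ).1 hx), hk]
    all_goals rw [← hv ⟨x, hx⟩, homExt_apply ι ((F.le_of_mem hφ).2 _)]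
    · exact ⟨_, rfl⟩
    · exact hg ⟨x, hx⟩
  · intro P' f P hf he
    obtain ⟨hP', hfR, g, hg⟩ := isMap_group_iff.1 hf
    have hP : P ≤ S := fun x hx => by
      obtain ⟨y, hy, rfl⟩ := he.subset hx
      obtain ⟨z, rfl⟩ := hP' hy
      rw [hk]; exact z.2
    have hmem : ∀ x ∈ P, ∃ z : S, (z : Ω) = x ∧ ι z ∈ P' := fun x hx => by
      obtain ⟨y, hy, rfl⟩ := he.subset hx
      obtain ⟨z, rfl⟩ := hP' hy
      exact ⟨z, (hk z).symm, hy⟩
    have hval : ∀ x : P, ι ⟨x, hP x.2⟩ ∈ P' := fun x => by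
      obtain ⟨z, hz, hz'⟩ := hmem x x.2
      rwa [show (⟨x, hP x.2⟩ : S) = z from Subtype.ext hz.symm]
    choose w hw using fun x : P => hfR _ (hval x)
    let φ : P →* Ω := MonoidHom.mk' (fun x => (w x : Ω)) fun a b => by
      rw [← Subgroup.coe_mul]
      congr 1
      refine hinj ?_
      rw [map_mul, hw, hw, hw, hg _ (hval _), hg _ (hval _), hg _ (hval _),
        show (⟨((a * b : P) : Ω), hP (a * b).2⟩ : S) = ⟨a, hP a.2⟩ * ⟨b, hP b.2⟩ from rfl, map_mul]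
      group
    have hφ : φ ∈ F.Hom P := (hiff P hP φ fun x => (w x).2).2 ⟨g, fun x =>
      (hw x).trans (hg _ (hval x))⟩
    refine ⟨φ, hφ, fun x => ?_⟩
    show (w x : Ω) = k (f (homExt ι x))
    rw [homExt_apply ι (hP x.2), ← hw x, hk]

end Realized

section Subgroups

variable {G : Type*} [Group G]

theorem isMap_fsos_iff {H T : Subgroup G} {hTH : T ≤ H} {P : Subgroup G} {f : G → G} :
    IsMap (fusionSystemOfSubgroup H T hTH) P f ↔
      P ≤ T ∧ (∀ x ∈ P, f x ∈ T) ∧ ∃ g ∈ H, ∀ x ∈ P, f x = g * x * g⁻¹ := by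
  constructor
  · rintro ⟨φ, ⟨hP, hT, g, hg, hv⟩, hw⟩
    exact ⟨hP, fun x hx => hw ⟨x, hx⟩ ▸ hT _, g, hg, fun x hx => by rw [← hw ⟨x, hx⟩, hv]⟩
  · rintro ⟨hP, hT, g, hg, hv⟩
    refine ⟨conjHom P g, ⟨hP, fun x => ?_, g, hg, fun x => rfl⟩, fun x => (hv x x.2).symm⟩
    show g * (x : G) * g⁻¹ ∈ T
    rw [← hv x x.2]
    exact hT x x.2

theorem transport_fsos (H T : Subgroup G) (hTH : T ≤ H) :
    ∃ k, Transport (groupFusionSystem (T.subgroupOf H)) (fusionSystemOfSubgroup H T hTH)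
      Subtype.val k := by
  classical
  refine ⟨fun y => if hy : y ∈ H then ⟨y, hy⟩ else 1, fun x hx => hx, fun y hy => ?_,
    fun x _ => ?_, fun y hy => ?_, fun x _ y _ => rfl, ?_, ?_⟩
  · rw [dif_pos (hTH hy)]; exact hy
  · rw [dif_pos x.2]
  · rw [dif_pos (hTH hy)]
  · intro P f P' hf he
    obtain ⟨hP, hfT, g, hg⟩ := isMap_group_iff.1 hf
    refine isMap_fsos_iff.2 ⟨?_, ?_, g, g.2, ?_⟩
    all_goals intro y hy
    all_goals obtain ⟨x, hx, rfl⟩ := he.subset hy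
    · exact hP hx
    all_goals rw [dif_pos x.2]
    · exact hfT x hx
    · show (f x : G) = _
      rw [hg x hx]
      rfl
  · intro P' f P hf he
    obtain ⟨hP', hfT, g, hg, hv⟩ := isMap_fsos_iff.1 hf
    refine isMap_group_iff.2 ⟨?_, ?_, ⟨g, hg⟩, ?_⟩
    all_goals intro x hx
    all_goals obtain ⟨y, hy, rfl⟩ := he.subset hx
    all_goals simp only [dif_pos (hTH (hP' hy)), Subgroup.mem_subgroupOf]
    · exact hP' hy
    all_goals simp only [dif_pos (hTH (hfT y hy))]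
    · exact hfT y hy
    · exact Subtype.ext (hv y hy)

variable [Finite G] {p : ℕ} [Fact p.Prime]

theorem isSaturated_fsos {H T : Subgroup G} (hTH : T ≤ H) (hT : IsPGroup p T)
    (hmax : ∀ U : Subgroup G, U ≤ H → IsPGroup p U → Nat.card U ≤ Nat.card T) :
    (fusionSystemOfSubgroup H T hTH).IsSaturated p := by
  obtain ⟨R, hR⟩ := (exists_sylow_eq_iff hT hTH).2 hmax
  obtain ⟨k, hk⟩ := transport_fsos H T hTH
  refine hk.isSaturated (hT.of_equiv (Subgroup.subgroupOfEquivOfLe hTH).symm) ?_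
  rw [← hR]
  exact isSaturated_group R

theorem card_le_inf_of_normal (S : Sylow p G) (H : Subgroup G) [H.Normal] {U : Subgroup G}
    (hU : U ≤ H) (hUp : IsPGroup p U) : Nat.card U ≤ Nat.card ↥((S : Subgroup G) ⊓ H) := by
  obtain ⟨g, hg⟩ := exists_conj_le_sylow S hUp
  rw [← card_map_conj U g]
  refine Subgroup.card_le_of_le (le_inf hg ?_)
  rintro _ ⟨x, hx, rfl⟩
  exact Subgroup.Normal.conj_mem inferInstance x (hU hx) g

/-- The Frattini argument: `G = N_G(S ⊓ H) H`. -/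
theorem exists_mul_of_normal (S : Sylow p G) (H : Subgroup G) [hH : H.Normal] (g : G) :
    ∃ h ∈ H, g * h⁻¹ ∈ Subgroup.normalizer (((S : Subgroup G) ⊓ H : Subgroup G) : Set G) := by
  set T := (S : Subgroup G) ⊓ H
  have hT : IsPGroup p T := S.isPGroup'.to_le inf_le_left
  obtain ⟨R, hR⟩ := (exists_sylow_eq_iff hT (inf_le_right : T ≤ H)).2
    fun U hU hUp => card_le_inf_of_normal S H hU hUp
  have hUH : T.map (MulAut.conj g⁻¹).toMonoidHom ≤ H := by
    rintro _ ⟨x, hx, rfl⟩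
    exact hH.conj_mem x hx.2 g⁻¹
  obtain ⟨h, hh⟩ := exists_conj_le_sylow R
    ((hT.map (MulAut.conj g⁻¹).toMonoidHom).of_equiv (Subgroup.subgroupOfEquivOfLe hUH).symm)
  refine ⟨h, h.2, ?_⟩
  have key : ∀ x ∈ T, (g * (h : G)⁻¹)⁻¹ * x * (g * (h : G)⁻¹) ∈ T := by
    intro x hx
    have hxm : g⁻¹ * x * g⁻¹⁻¹ ∈ T.map (MulAut.conj g⁻¹).toMonoidHom := ⟨x, hx, rfl⟩
    have hm := hh ⟨⟨_, hUH hxm⟩, hxm, rfl⟩
    rw [hR] at hm
    have hm' : (h : G) * (g⁻¹ * x * g⁻¹⁻¹) * (h : G)⁻¹ ∈ T := hm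
    rw [show (g * (h : G)⁻¹)⁻¹ * x * (g * (h : G)⁻¹)
      = (h : G) * (g⁻¹ * x * g⁻¹⁻¹) * (h : G)⁻¹ by group]
    exact hm'
  have hn : (g * (h : G)⁻¹)⁻¹ ∈ Subgroup.normalizer (T : Set G) :=
    Subgroup.mem_normalizer_fintype fun n hn => by
      rw [inv_inv]; exact key n hn
  rw [← inv_inv (g * (h : G)⁻¹)]
  exact Subgroup.inv_mem _ hn

theorem isInvariantIn_fsos (S : Sylow p G) (H : Subgroup G) [hH : H.Normal] :
    (fusionSystemOfSubgroup H ((S : Subgroup G) ⊓ H) inf_le_right).IsInvariantIn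
      (groupFusionSystem (S : Subgroup G)) := by
  have hTS : (S : Subgroup G) ⊓ H ≤ S := inf_le_left
  refine ⟨fun P φ ⟨hP, hv, g, _, hg⟩ => ⟨hP.trans hTS, fun x => hTS (hv x), g, hg⟩,
    ⟨hTS, fun R hR φ hφ x => ?_⟩, fun P hPT φ hφ α hα => ?_, fun P hPT φ hφ => ?_⟩
  · obtain ⟨-, hS, g, hg⟩ := hφ
    exact ⟨hS x, hg x ▸ hH.conj_mem _ (hR x.2).2 g⟩
  · obtain ⟨-, hv, g, hgH, hg⟩ := hφ
    rw [autGroup_groupFusionSystem S hTS, mem_autInducedBy_iff] at hα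
    obtain ⟨a, -, ha⟩ := hα
    refine ⟨conjHom _ (a * g * a⁻¹), ⟨?_, ?_, _, hH.conj_mem g hgH a, fun x => rfl⟩, ?_⟩
    · rintro _ ⟨y, -, rfl⟩; exact SetLike.coe_mem _
    · rintro ⟨_, y, hy, rfl⟩
      show a * g * a⁻¹ * (α y : G) * (a * g * a⁻¹)⁻¹ ∈ _
      have e : a * g * a⁻¹ * (α y : G) * (a * g * a⁻¹)⁻¹ = (α ⟨φ ⟨y, hy⟩, hv _⟩ : G) := by
        rw [ha, ha]
        show _ = a * φ ⟨y, hy⟩ * a⁻¹
        rw [hg]
        group
      rw [e]
      exact SetLike.coe_mem _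
    · intro x hφx hαx
      show a * g * a⁻¹ * (α ⟨x, hPT x.2⟩ : G) * (a * g * a⁻¹)⁻¹ = _
      rw [ha, ha]
      show _ = a * φ x * a⁻¹
      rw [hg]
      group
  · obtain ⟨-, hv, g, hg⟩ := hφ
    obtain ⟨h, hh, hn⟩ := exists_mul_of_normal S H g
    refine ⟨conjAut _ hn, ?_, conjHom P h, ⟨hPT, fun x => ?_, h, hh, fun x => rfl⟩, fun x hx => ?_⟩
    · rw [autGroup_groupFusionSystem S hTS]
      exact conjAut_mem_autInducedBy hn (Subgroup.mem_top _)
    · show h * (x : G) * h⁻¹ ∈ _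
      have hgx : g * (x : G) * g⁻¹ ∈ (S : Subgroup G) ⊓ H :=
        ⟨hg x ▸ hv x, hH.conj_mem _ (hPT x.2).2 g⟩
      have := conj_mem_of_mem_normalizer (Subgroup.inv_mem _ hn) hgx
      rwa [show (g * h⁻¹)⁻¹ * (g * (x : G) * g⁻¹) * (g * h⁻¹)⁻¹⁻¹ = h * (x : G) * h⁻¹ by group]
        at this
    · rw [conjAut_apply, hg]
      show _ = g * h⁻¹ * (h * (x : G) * h⁻¹) * (g * h⁻¹)⁻¹
      group

/-- A normal subgroup gives a normal subsystem. -/
theorem isNormalIn_fsos (S : Sylow p G) (H : Subgroup G) [hH : H.Normal] :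
    (fusionSystemOfSubgroup H ((S : Subgroup G) ⊓ H) inf_le_right).IsNormalIn
      (groupFusionSystem (S : Subgroup G)) p := by
  set T := (S : Subgroup G) ⊓ H with hTdef
  have hTS : T ≤ S := inf_le_left
  refine ⟨⟨isSaturated_fsos inf_le_right (S.isPGroup'.to_le hTS)
    fun U hU hUp => card_le_inf_of_normal S H hU hUp, isSaturated_group S,
    isInvariantIn_fsos S H⟩, fun α hα => ?_⟩
  obtain ⟨-, -, h, hh, hv⟩ := isMap_fsos_iff.1 ((mem_autGroup_iff le_rfl α).1 hα).isMap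
  have hα' : ∀ x : T, (α x : G) = h * x * h⁻¹ := fun x => by rw [← autFun_coe α, hv x x.2]
  have hhN : h ∈ Subgroup.normalizer (T : Set G) :=
    Subgroup.mem_normalizer_fintype fun x hx => hα' ⟨x, hx⟩ ▸ SetLike.coe_mem _
  have hTfn : (groupFusionSystem (S : Subgroup G)).IsFullyNormalized T := by
    refine (isFullyNormalized_group_iff S hTS).2 fun U _ hU => ?_
    have hnorm : normalizerIn (S : Subgroup G) T = S := by
      refine inf_eq_left.2 fun s hs => Subgroup.mem_normalizer_fintype fun x hx => ?_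
      exact ⟨(S : Subgroup G).mul_mem ((S : Subgroup G).mul_mem hs hx.1)
        ((S : Subgroup G).inv_mem hs), hH.conj_mem x hx.2 s⟩
    obtain ⟨g, hg⟩ := exists_conj_le_sylow S hU
    rw [hnorm, ← card_map_conj U g]
    exact Subgroup.card_le_of_le hg
  set C := Subgroup.centralizer (T : Set G)
  set R := centralizerIn (S : Subgroup G) T
  have hmaxR := (isFullyCentralized_group_iff S hTS).1
    (isFullyCentralized_group_of_normalized S hTS hTfn)
  have hRp : IsPGroup p R := S.isPGroup'.to_le inf_le_left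
  set K := C ⊓ H
  have hRK : R ≤ Subgroup.normalizer (K : Set G) := fun r hr =>
    Subgroup.mem_normalizer_fintype fun x hx =>
      ⟨C.mul_mem (C.mul_mem hr.2 hx.1) (C.inv_mem hr.2), hH.conj_mem x hx.2 r⟩
  set X := R ⊔ K
  have hXC : X ≤ C := sup_le inf_le_right inf_le_left
  obtain ⟨Q, hQ⟩ := (exists_sylow_eq_iff hRp (le_sup_left : R ≤ X)).2
    fun U hU hUp => hmaxR U (hU.trans hXC) hUp
  have hconjC : ∀ x ∈ C, h * x * h⁻¹ ∈ C := by
    intro x hx t ht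
    have ht' := conj_mem_of_mem_normalizer (Subgroup.inv_mem _ hhN) ht
    calc t * (h * x * h⁻¹) = h * ((h⁻¹ * t * h⁻¹⁻¹) * x) * h⁻¹ := by group
      _ = h * (x * (h⁻¹ * t * h⁻¹⁻¹)) * h⁻¹ := by rw [hx _ ht']
      _ = h * x * h⁻¹ * t := by group
  have hRX : R.map (MulAut.conj h).toMonoidHom ≤ X := by
    rintro _ ⟨x, hx, rfl⟩
    have hc : h * x * h⁻¹ * x⁻¹ ∈ K := ⟨C.mul_mem (hconjC x hx.2) (C.inv_mem hx.2), by
      rw [show h * x * h⁻¹ * x⁻¹ = h * (x * h⁻¹ * x⁻¹) by group]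
      exact H.mul_mem hh (hH.conj_mem _ (H.inv_mem hh) x)⟩
    show h * x * h⁻¹ ∈ X
    rw [show h * x * h⁻¹ = (h * x * h⁻¹ * x⁻¹) * x by group]
    exact X.mul_mem (Subgroup.mem_sup_right hc) (Subgroup.mem_sup_left hx)
  obtain ⟨y, hy⟩ := exists_conj_le_sylow Q
    ((hRp.map (MulAut.conj h).toMonoidHom).of_equiv (Subgroup.subgroupOfEquivOfLe hRX).symm)
  have hym : (y : G) ∈ ((R ⊔ K : Subgroup G) : Set G) := y.2
  rw [Subgroup.coe_mul_of_left_le_normalizer_right _ _ hRK] at hym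
  obtain ⟨r, hr, c, hc, hrc⟩ := hym
  have hch : ∀ x ∈ R, (c * h) * x * (c * h)⁻¹ ∈ R := by
    intro x hx
    have hxm : h * x * h⁻¹ ∈ R.map (MulAut.conj h).toMonoidHom := ⟨x, hx, rfl⟩
    have hm := hy ⟨⟨_, hRX hxm⟩, hxm, rfl⟩
    rw [hQ] at hm
    have hm' : (y : G) * (h * x * h⁻¹) * (y : G)⁻¹ ∈ R := hm
    have e := R.mul_mem (R.mul_mem (R.inv_mem hr) hm') hr
    rw [← hrc] at e
    rwa [show r⁻¹ * (r * c * (h * x * h⁻¹) * (r * c)⁻¹) * r = (c * h) * x * (c * h)⁻¹ by group] at e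
  have hact : ∀ t ∈ T, (c * h) * t * (c * h)⁻¹ = h * t * h⁻¹ := by
    intro t ht
    rw [show (c * h) * t * (c * h)⁻¹ = c * (h * t * h⁻¹) * c⁻¹ by group,
      conj_eq_self_of_mem_centralizer hc.1 (conj_mem_of_mem_normalizer hhN ht)]
  have hchT : c * h ∈ Subgroup.normalizer (T : Set G) :=
    Subgroup.mem_normalizer_fintype fun t ht => by
      show c * h * t * (c * h)⁻¹ ∈ T
      rw [hact t ht]; exact conj_mem_of_mem_normalizer hhN ht
  have hU : T ⊔ R ≤ (S : Subgroup G) := sup_le hTS inf_le_left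
  have hn : c * h ∈ Subgroup.normalizer ((T ⊔ R : Subgroup G) : Set G) := by
    refine Subgroup.mem_normalizer_fintype fun x hx => ?_
    have hle : (T ⊔ R).map (MulAut.conj (c * h)).toMonoidHom ≤ T ⊔ R := by
      rw [Subgroup.map_sup]
      refine sup_le_sup ?_ ?_
      · rintro _ ⟨z, hz, rfl⟩; exact conj_mem_of_mem_normalizer hchT hz
      · rintro _ ⟨z, hz, rfl⟩; exact hch z hz
    exact hle ⟨x, hx, rfl⟩
  refine ⟨conjAut _ hn, ?_, fun x => ?_, fun z hz => ?_⟩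
  · rw [autGroup_groupFusionSystem S hU]
    exact conjAut_mem_autInducedBy hn (Subgroup.mem_top _)
  · rw [conjAut_apply, hα']
    exact hact x x.2
  · rw [conjAut_apply]
    have h1 : (z : G)⁻¹ * (c * h * z * (c * h)⁻¹) ∈ R := R.mul_mem (R.inv_mem hz) (hch _ hz)
    have h2 : (z : G)⁻¹ * (c * h * z * (c * h)⁻¹) ∈ H := by
      have hchH : c * h ∈ H := H.mul_mem hc.2 hh
      rw [show (z : G)⁻¹ * (c * h * z * (c * h)⁻¹)
        = (z : G)⁻¹ * (c * h) * (z : G)⁻¹⁻¹ * (c * h)⁻¹ by group]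
      exact H.mul_mem (hH.conj_mem _ hchH _) (H.inv_mem hchH)
    exact ⟨⟨h1.1, h2⟩, h1.2⟩

end Subgroups

end CfsgLib.Fusion
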