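import Mathlib
import Cfsg.Agent.Lib.Fusion.TransportGroup
import Cfsg.Agent.Lib.Fusion.NormalSeries
import Cfsg.Agent.Lib.Fitting.Basic

/-!
A system with a model is constrained.
-/

set_option autoImplicit false

namespace CfsgLib.Fusion

open Cfsg Cfsg.FusionSystem

variable {Ω : Type*} [Group Ω] {S : Subgroup Ω} [Finite S] {p : ℕ} [Fact p.Prime]
variable {G : Type*} [Group G] [Finite G]

theorem isSaturated_of_realized (hS : IsPGroup p S) (F : FusionSystem S) (ι : S →* G)
    (h : F.IsRealizedBy ι) (T : Sylow p G) (hT : (T : Subgroup G) = ι.range) :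
    F.IsSaturated p := by
  obtain ⟨k, hk⟩ := exists_transport_of_realized ι h
  have hR : IsPGroup p ι.range := hS.of_surjective ι.rangeRestrict ι.rangeRestrict_surjective
  refine hk.symm.isSaturated hR ?_
  rw [← hT]
  exact isSaturated_group T

theorem isConstrained_of_model (hS : IsPGroup p S) (F : FusionSystem S) (ι : S →* G)
    (h : F.IsRealizedBy ι) (T : Sylow p G) (hT : (T : Subgroup G) = ι.range)
    (hc : Subgroup.centralizer ((pCore p G : Subgroup G) : Set G) ≤ pCore p G) :
    F.IsConstrained p := by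
  have hsat := isSaturated_of_realized hS F ι h T hT
  obtain ⟨k, hk⟩ := exists_transport_of_realized ι h
  have hN : (pCore p G).Normal := CfsgLib.Fitting.pCore_normal p
  have hle : pCore p G ≤ ι.range := by
    rw [← hT]
    intro x hx
    obtain ⟨g, hg⟩ := exists_conj_le_sylow T (CfsgLib.Fitting.pCore_isPGroup (G := G) p)
    have := hg ⟨g⁻¹ * x * g, by simpa using hN.conj_mem x hx g⁻¹, rfl⟩
    simpa [mul_assoc] using this
  set Q := hk.symm.img (pCore p G)
  have hQS : Q ≤ S := hk.symm.img_le _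
  have hQn : F.IsNormal Q := by
    refine isNormal_of_extend hS hsat hQS fun P f hP hf => ?_
    obtain ⟨-, -, g, hg⟩ := isMap_group_iff.1 (hk.isMap hf)
    have him : (fun x => g * x * g⁻¹) '' (pCore p G : Set G) = pCore p G := by
      ext y
      constructor
      · rintro ⟨x, hx, rfl⟩; exact hN.conj_mem x hx g
      · intro hy
        exact ⟨g⁻¹ * y * g⁻¹⁻¹, hN.conj_mem y hy g⁻¹, by group⟩
    have hiso : IsIso (groupFusionSystem ι.range) (pCore p G) (pCore p G) (fun x => g * x * g⁻¹) :=
      ⟨isMap_group_of_conj g hle fun x hx => hle (hN.conj_mem x hx g), him⟩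
    obtain ⟨α, hα, hv⟩ := exists_mem_autGroup (hk.symm.isIso hiso)
    refine ⟨α, hα, fun x hx => ?_⟩
    have hxS := hf.le hx
    rw [autFun_apply α (hP hx), hv, ← hg _ (hk.mem_img hf.le hx), hk.kj x hxS,
      hk.kj _ (hf.mem hx)]
  refine ⟨hsat, Q, hQn, hQS, fun Q' hQ' => ?_⟩
  obtain ⟨f, hf⟩ := isConj_iff.1 hQ'
  have he : Q = Q' := SetLike.coe_injective ((image_eq_of_mem hQS hf.isMap le_rfl fun x hx =>
    isMap_mem_of_stronglyClosed (stronglyClosed_of_isNormal hQn) hf.isMap hx hx).symm.trans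
      hf.image_eq)
  subst he
  rintro c ⟨hcS, hcc⟩
  rw [← hk.kj c hcS]
  refine hk.symm.mem_img hle (hc fun y hy => ?_)
  have hyr := hle hy
  have e := congrArg (homExt ι) (hcc (k y) (hk.symm.mem_img hle hy))
  rwa [hk.j_mul _ (hk.k_mem y hyr) _ hcS, hk.j_mul _ hcS _ (hk.k_mem y hyr), hk.jk y hyr] at e

end CfsgLib.Fusion
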