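import Mathlib
import Cfsg.Agent.Lib.Fusion.Normal

/-!
Maps agreeing on a centric subgroup differ by conjugation by an element of its centre.
-/

set_option autoImplicit false

namespace CfsgLib.Fusion

open Cfsg Cfsg.FusionSystem

variable {Ω : Type*} [Group Ω] {S : Subgroup Ω} {F : FusionSystem S} {p : ℕ}
variable [Finite S] [Fact p.Prime]

/-- An automorphism of `N` fixing a centric `Q ⊴ N` pointwise is conjugation by an element of
`Z(Q)`. -/
theorem exists_conj_of_fix_centric (hS : IsPGroup p S) (hF : F.IsSaturated p) {Q N : Subgroup Ω}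
    (hQN : Q ≤ N) (hQn : N ≤ Subgroup.normalizer (Q : Set Ω)) (hQ : F.IsCentric Q)
    {a : Ω → Ω} (ha : IsIso F N N a) (hfix : ∀ x ∈ Q, a x = x)
    (hmod : ∀ x ∈ N, x⁻¹ * a x ∈ Q) :
    ∃ z ∈ Q, z ∈ Subgroup.centralizer (Q : Set Ω) ∧ ∀ x ∈ N, a x = z * x * z⁻¹ := by
  have hN := ha.le_left
  have := finite_of_le hN
  obtain ⟨N', hc, hN'⟩ := exists_isFullyNormalized (F := F) hN
  obtain ⟨h, hh⟩ := isConj_iff.1 hc
  have := finite_of_le hN'.1
  have := finite_mulAut N'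
  have := finite_mulAut N
  obtain ⟨α, hα, hαv⟩ := exists_mem_autGroup ha
  -- `α` is a `p`-element
  let L : ℕ → Subgroup N := fun i => if i = 0 then ⊥ else if i = 1 then Q.subgroupOf N else ⊤
  have hLp : IsPGroup p (Subgroup.zpowers α) := by
    have hK : ∀ β ∈ Subgroup.zpowers α, (∀ x : N, (x : Ω) ∈ Q → β x = x) ∧
        ∀ x : N, ((x⁻¹ * β x : N) : Ω) ∈ Q := by
      intro β hβ
      rw [Subgroup.zpowers_eq_closure] at hβ
      induction hβ using Subgroup.closure_induction with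
      | mem β hβ =>
        rw [Set.mem_singleton_iff] at hβ
        subst hβ
        refine ⟨fun x hx => Subtype.ext (by rw [hαv, hfix _ hx]), fun x => ?_⟩
        rw [Subgroup.coe_mul, Subgroup.coe_inv, hαv]
        exact hmod x x.2
      | one => exact ⟨fun x _ => rfl, fun x => by simp⟩
      | mul β γ _ _ hβ hγ =>
        refine ⟨fun x hx => by rw [MulAut.mul_apply, hγ.1 x hx, hβ.1 x hx], fun x => ?_⟩
        rw [MulAut.mul_apply, show x⁻¹ * β (γ x) = (x⁻¹ * γ x) * ((γ x)⁻¹ * β (γ x)) by group,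
          Subgroup.coe_mul]
        exact Q.mul_mem (hγ.2 x) (hβ.2 (γ x))
      | inv β _ hβ =>
        refine ⟨fun x hx => ?_, fun x => ?_⟩
        · conv_lhs => rw [← hβ.1 x hx, MulAut.inv_apply_self]
        · have h1 := Q.inv_mem (hβ.2 (β⁻¹ x))
          rw [MulAut.apply_inv_self] at h1
          simpa [mul_inv_rev] using h1
    refine isPGroup_of_stabilizes_series (hS.to_le hN) L 2 (if_pos rfl) (by simp [L]) _
      fun β hβ i hi x hx => ?_
    interval_cases i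
    · simp only [L, if_neg one_ne_zero, if_pos rfl, zero_add] at hx
      simp only [L, if_pos rfl, Subgroup.mem_bot]
      rw [(hK β hβ).1 x hx, inv_mul_cancel]
    · simp only [L, if_neg one_ne_zero, if_pos rfl]
      exact (hK β hβ).2 x
  have hα'mem := hh.congr_mem_autGroup hα
  set α' := MulAut.congr hh.equiv α with hα'def
  obtain ⟨β, hβ, hconj⟩ := ((isFullyAutomized_iff hS).1
    (isFullyAutomized_of_isFullyNormalized hS hF hN')).2
    ((Subgroup.zpowers α).map (MulAut.congr hh.equiv).toMonoidHom)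
    (by
      rw [MonoidHom.map_zpowers, Subgroup.zpowers_le]
      exact hα'mem)
    (hLp.map _)
  obtain ⟨s, hs, hsv⟩ := (mem_autInducedBy_iff S N' _).1
    (hconj α' ⟨α, Subgroup.mem_zpowers α, rfl⟩)
  -- the iso `N → N'` twisted by `β`
  obtain ⟨k, hk, hk1, hk2⟩ := ((hh.comp ((mem_autGroup_iff hN'.1 β).1 hβ))).exists_symm
  set h' := autFun β ∘ h with hh'
  have hh'iso : IsIso F N N' h' := hh.comp ((mem_autGroup_iff hN'.1 β).1 hβ)
  have hkey : ∀ x ∈ N, h' (a x) = s * h' x * s⁻¹ := by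
    intro x hx
    have h1 := hsv (β (hh.equiv ⟨x, hx⟩))
    rw [MulAut.mul_apply, MulAut.mul_apply, MulAut.inv_apply_self] at h1
    have e1 : hh.equiv ⟨x, hx⟩ = ⟨h x, hh.mem hx⟩ := rfl
    have e2 : α' ⟨h x, hh.mem hx⟩ = ⟨h (a x), hh.mem (ha.mem hx)⟩ :=
      Subtype.ext (by rw [← e1, hα'def, hh.congr_apply, hαv])
    rw [e1, e2] at h1
    show autFun β (h (a x)) = s * autFun β (h x) * s⁻¹
    rw [autFun_apply β (hh.mem hx), autFun_apply β (hh.mem (ha.mem hx))]
    exact h1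
  obtain ⟨Q', hQ'⟩ := (hh'iso.isMap.mono hQN).exists_iso
  have hsc : s ∈ centralizerIn S Q' := by
    refine ⟨hs, mem_centralizer_of_conj_eq fun y hy => ?_⟩
    obtain ⟨x, hx, rfl⟩ := hQ'.surj hy
    rw [← hkey x (hQN hx), hfix x hx]
  obtain ⟨z, hz, rfl⟩ := hQ'.surj ((hQ.2 Q' hQ'.isConj) hsc)
  refine ⟨z, hz, mem_centralizer_of_conj_eq fun y hy => ?_, fun x hx => ?_⟩
  · refine hh'iso.isMap.injOn (hQN (Q.mul_mem (Q.mul_mem hz hy) (Q.inv_mem hz))) (hQN hy) ?_
    rw [hh'iso.isMap.map_conj (hQN hz) (hQN hy)]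
    exact conj_eq_self_of_mem_centralizer hsc.2 (hQ'.mem hy)
  · refine hh'iso.isMap.injOn (ha.mem hx)
      (N.mul_mem (N.mul_mem (hQN hz) hx) (N.inv_mem (hQN hz))) ?_
    rw [hh'iso.isMap.map_conj (hQN hz) hx, hkey x hx]

theorem exists_center_of_agree (hS : IsPGroup p S) (hF : F.IsSaturated p) {P : Subgroup Ω}
    {f g : Ω → Ω} (hf : IsMap F P f) (hg : IsMap F P g) :
    ∀ (n : ℕ) (Q : Subgroup Ω), Nat.card P - Nat.card Q = n → Q ≤ P → F.IsCentric Q →
      (∀ x ∈ Q, f x = g x) →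
      ∃ z ∈ Q, z ∈ Subgroup.centralizer (Q : Set Ω) ∧ ∀ y ∈ P, g y = f (z * y * z⁻¹) := by
  intro n
  induction n using Nat.strong_induction_on generalizing f with
  | _ n ih =>
  intro Q hn hQP hQ hag
  have hPS := hf.le
  have := finite_of_le hPS
  rcases eq_or_ne Q P with rfl | hne
  · exact ⟨1, Q.one_mem, Subgroup.one_mem _, fun y hy => by simp [hag y hy]⟩
  set N := P ⊓ Subgroup.normalizer (Q : Set Ω) with hNdef
  have hlt : Q < N := lt_normalizerIn (S := P) (hS.to_le hPS) hQP hne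
  have := finite_of_le (S := P) (P := N) inf_le_left
  have hNP : N ≤ P := inf_le_left
  obtain ⟨R, hR⟩ := (hf.mono hNP).exists_iso
  obtain ⟨Qi, hQi⟩ := (hf.mono hQP).exists_iso
  have := finite_of_le hR.le_right
  have hmod : ∀ y ∈ N, (f y)⁻¹ * g y ∈ Qi := fun y hy => by
    refine hQ.2 Qi hQi.isConj ⟨S.mul_mem (S.inv_mem (hf.mem (hNP hy))) (hg.mem (hNP hy)),
      mul_inv_mem_centralizer fun w hw => ?_⟩
    obtain ⟨x, hx, rfl⟩ := hQi.surj hw
    rw [← hf.map_conj (hNP hy) (hQP hx)]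
    conv_lhs => rw [hag x hx]
    rw [← hg.map_conj (hNP hy) (hQP hx)]
    exact (hag _ ((Subgroup.mem_normalizer_iff.1 hy.2 x).1 hx)).symm
  have hgR : IsIso F N R g := (hg.mono hNP).isIso_of_card_le (fun y hy => by
      obtain ⟨x, hx, hxe⟩ := hQi.surj (hmod y hy)
      have h1 : g y = f (y * x) := by
        rw [hf.map_mul (hNP hy) (hQP hx), hxe, mul_inv_cancel_left]
      rw [h1]
      exact hR.mem (N.mul_mem hy (hlt.le hx))) hR.card_eq.le
  obtain ⟨r, hr, hr1, hr2⟩ := hR.exists_symm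
  have hd : ∀ y ∈ N, f (r (g y)) = g y := fun y hy => hr2 _ (hgR.mem hy)
  obtain ⟨z, hz, hzc, hzv⟩ := exists_conj_of_fix_centric hS hF hlt.le inf_le_right hQ
    (hgR.comp hr) (fun x hx => by
      show r (g x) = x
      rw [← hag x hx, hr1 x (hlt.le hx)]) (fun y hy => by
      obtain ⟨x, hx, hxe⟩ := hQi.surj (hmod y hy)
      show y⁻¹ * r (g y) ∈ Q
      have h1 : g y = f (y * x) := by
        rw [hf.map_mul (hNP hy) (hQP hx), hxe, mul_inv_cancel_left]
      rw [h1, hr1 _ (N.mul_mem hy (hlt.le hx)), inv_mul_cancel_left]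
      exact hx)
  have hzP := hQP hz
  have hconjP : ∀ y ∈ P, z * y * z⁻¹ ∈ P := fun y hy =>
    P.mul_mem (P.mul_mem hzP hy) (P.inv_mem hzP)
  have hf' : IsMap F P (f ∘ fun y => z * y * z⁻¹) :=
    (isMap_conj hPS (hPS hzP)).comp hf hconjP
  have hcard : Nat.card Q < Nat.card N :=
    lt_of_le_of_ne (Subgroup.card_le_of_le hlt.le)
      fun h => hlt.ne (Subgroup.eq_of_le_of_card_ge hlt.le h.ge)
  have hcN : Nat.card N ≤ Nat.card P := Subgroup.card_le_of_le hNP
  obtain ⟨w, hw, hwc, hwv⟩ := ih _ (by omega) hf' N rfl hNP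
    (isCentric_of_le hQ hlt.le (hNP.trans hPS)) fun y hy => by
      show f (z * y * z⁻¹) = g y
      rw [← hzv y hy]
      exact hd y hy
  have hwQc : w ∈ Subgroup.centralizer (Q : Set Ω) := Subgroup.centralizer_le hlt.le hwc
  have hwQ : w ∈ Q := hQ.2 Q (isConj_refl hQ.1) ⟨hPS (hNP hw), hwQc⟩
  refine ⟨z * w, Q.mul_mem hz hwQ, Subgroup.mul_mem _ hzc hwQc, fun y hy => ?_⟩
  rw [hwv y hy]
  show f (z * (w * y * w⁻¹) * z⁻¹) = f (z * w * y * (z * w)⁻¹)
  congr 1
  group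

end CfsgLib.Fusion
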