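import Mathlib
import Cfsg.Agent.Lib.Fusion.AgreeCentric
import Cfsg.Agent.Lib.Fusion.Normal
import Cfsg.Agent.Lib.Fusion.Group

/-!
Set-up for models of constrained systems: a normal centric subgroup, and coherent sections over
the cosets of `Aut_S(Q)` in `Aut_F(Q)`.
-/

set_option autoImplicit false

namespace CfsgLib.Fusion

open Cfsg Cfsg.FusionSystem

/-- Propagation along orbits of a solution of a twisted intertwining equation. -/
theorem exists_intertwiner {R C M : Type*} [Group R] [Group M] [MulAction R C] (a b : R → C → M)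
    (ha : ∀ x y c, a (x * y) c = a x (y • c) * a y c)
    (hb : ∀ x y c, b (x * y) c = b x (y • c) * b y c)
    (Good : C → M → Prop) (hGood : ∀ x c m, Good c m → Good (x • c) (b x c * m * (a x c)⁻¹))
    (hbase : ∀ c, ∃ m, Good c m ∧ ∀ x : R, x • c = c → b x c * m = m * a x c) :
    ∃ d : C → M, (∀ c, Good c (d c)) ∧ ∀ x c, d (x • c) * a x c = b x c * d c := by
  classical
  let rep : C → C := fun c => (Quotient.mk (MulAction.orbitRel R C) c).out
  have hrep : ∀ c, c ∈ MulAction.orbit R (rep c) := fun c =>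
    MulAction.mem_orbit_symm.1 (Quotient.mk_out (s := MulAction.orbitRel R C) c)
  choose t ht using hrep
  have ht' : ∀ c, t c • rep c = c := ht
  choose m hm hmv using hbase
  have hrx : ∀ (x : R) c, rep (x • c) = rep c := fun x c =>
    congrArg Quotient.out (Quotient.sound (⟨x, rfl⟩ : x • c ∈ MulAction.orbit R c))
  refine ⟨fun c => b (t c) (rep c) * m (rep c) * (a (t c) (rep c))⁻¹, fun c => ?_, fun x c => ?_⟩
  · have h := hGood (t c) (rep c) _ (hm (rep c))
    rwa [ht'] at h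
  · have hy : ((t (x • c))⁻¹ * x * t c) • rep c = rep c := by
      rw [mul_smul, mul_smul, ht', inv_smul_eq_iff]
      conv_lhs => rw [← ht' (x • c), hrx x c]
    have e1 : x * t c = t (x • c) * ((t (x • c))⁻¹ * x * t c) := by group
    have ea := ha x (t c) (rep c)
    have eb := hb x (t c) (rep c)
    rw [e1, ha, hy, ht'] at ea
    rw [e1, hb, hy, ht'] at eb
    have hmy := hmv (rep c) _ hy
    show b (t (x • c)) (rep (x • c)) * m (rep (x • c)) * (a (t (x • c)) (rep (x • c)))⁻¹ * a x c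
      = b x c * (b (t c) (rep c) * m (rep c) * (a (t c) (rep c))⁻¹)
    rw [hrx]
    have ea' : a x c = a (t (x • c)) (rep c) * a ((t (x • c))⁻¹ * x * t c) (rep c)
        * (a (t c) (rep c))⁻¹ := by rw [ea, mul_inv_cancel_right]
    have eb' : b x c = b (t (x • c)) (rep c) * b ((t (x • c))⁻¹ * x * t c) (rep c)
        * (b (t c) (rep c))⁻¹ := by rw [eb, mul_inv_cancel_right]
    rw [ea', eb']
    have hm' : b ((t (x • c))⁻¹ * x * t c) (rep c)
        = m (rep c) * a ((t (x • c))⁻¹ * x * t c) (rep c) * (m (rep c))⁻¹ :=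
      eq_mul_inv_of_mul_eq hmy
    rw [hm']
    group

variable {Ω : Type*} [Group Ω] {S : Subgroup Ω}

/-- `Q` is a normal centric subgroup of the saturated system `F`. -/
structure CentricNormal (F : FusionSystem S) (p : ℕ) (Q : Subgroup Ω) : Prop where
  hS : IsPGroup p S
  hF : F.IsSaturated p
  hn : F.IsNormal Q
  hc : F.IsCentric Q

namespace CentricNormal

variable [Finite S] {F : FusionSystem S} {p : ℕ} {Q : Subgroup Ω} (h : CentricNormal F p Q)

include h

theorem le : Q ≤ S := h.hn.1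

theorem le_normalizer : S ≤ Subgroup.normalizer (Q : Set Ω) := le_normalizer_of_isNormal h.hn

theorem image_eq {P : Subgroup Ω} {f : Ω → Ω} (hf : IsMap F P f) (hQP : Q ≤ P) :
    f '' (Q : Set Ω) = Q :=
  image_eq_of_mem h.le hf hQP fun _ hx =>
    isMap_mem_of_stronglyClosed (stronglyClosed_of_isNormal h.hn) hf (hQP hx) hx

theorem isIso {P : Subgroup Ω} {f : Ω → Ω} (hf : IsMap F P f) (hQP : Q ≤ P) : IsIso F Q Q f :=
  ⟨hf.mono hQP, h.image_eq hf hQP⟩

/-- Conjugation `S → Aut_F(Q)`. -/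
def conjQ : S →* ↥(F.autGroup Q) :=
  (Q.normalizerMonoidHom.comp (Subgroup.inclusion h.le_normalizer)).codRestrict (F.autGroup Q)
    fun u => autInducedBy_le_autGroup h.le ((mem_autInducedBy_iff S Q _).2 ⟨u, u.2, fun _ => rfl⟩)

theorem conjQ_apply (u : S) (x : Q) :
    (((h.conjQ u : MulAut Q) x : Q) : Ω) = u * x * (u : Ω)⁻¹ := rfl

theorem conjQ_eq_one_iff (u : S) :
    h.conjQ u = 1 ↔ (u : Ω) ∈ Subgroup.centralizer (Q : Set Ω) := by
  constructor
  · intro e
    exact mem_centralizer_of_conj_eq fun x hx => by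
      have := congrArg (fun a : ↥(F.autGroup Q) => (((a : MulAut Q) ⟨x, hx⟩ : Q) : Ω)) e
      exact this
  · intro e
    refine Subtype.ext (MulEquiv.ext fun x => Subtype.ext ?_)
    exact conj_eq_self_of_mem_centralizer e x.2

theorem mem_of_conjQ_eq_one {u : S} (e : h.conjQ u = 1) : (u : Ω) ∈ Q :=
  h.hc.2 Q (isConj_refl h.le) ⟨u.2, (h.conjQ_eq_one_iff u).1 e⟩

theorem mem_range_conjQ_iff (a : ↥(F.autGroup Q)) :
    a ∈ h.conjQ.range ↔ (a : MulAut Q) ∈ autInducedBy S Q := by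
  rw [mem_autInducedBy_iff]
  constructor
  · rintro ⟨u, rfl⟩
    exact ⟨u, u.2, fun x => rfl⟩
  · rintro ⟨g, hg, hv⟩
    exact ⟨⟨g, hg⟩, Subtype.ext (MulEquiv.ext fun x => Subtype.ext (hv x).symm)⟩

theorem isFullyNormalized : F.IsFullyNormalized Q := by
  refine ⟨h.le, fun Q' hQ' => ?_⟩
  obtain ⟨f, hf⟩ := isConj_iff.1 hQ'
  have e : Q' = Q :=
    SetLike.coe_injective (hf.image_eq.symm.trans (h.image_eq hf.isMap le_rfl))
  rw [e]

theorem coprime_index [Fact p.Prime] : (h.conjQ.range.index).Coprime p := by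
  have := finite_of_le h.le
  have := finite_mulAut Q
  obtain ⟨-, R, hR⟩ := isFullyAutomized_of_isFullyNormalized h.hS h.hF h.isFullyNormalized
  have e : h.conjQ.range = (R : Subgroup (F.autGroup Q)) := by
    ext a
    rw [hR, Subgroup.mem_subgroupOf, h.mem_range_conjQ_iff]
  rw [e]
  exact ((Fact.out : p.Prime).coprime_iff_not_dvd.2 R.not_dvd_index).symm

/-- A conjugate of `conjQ` under an automorphism, evaluated. -/
theorem autFun_comm {P : Subgroup Ω} {f : Ω → Ω} (hf : IsMap F P f) (hQP : Q ≤ P)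
    {a : ↥(F.autGroup Q)} (ha : ∀ x : Q, f x = ((a : MulAut Q) x : Ω)) {u : Ω} (hu : u ∈ P) :
    h.conjQ ⟨f u, hf.mem hu⟩ * a = a * h.conjQ ⟨u, hf.le hu⟩ := by
  refine Subtype.ext (MulEquiv.ext fun x => Subtype.ext ?_)
  show f u * ((a : MulAut Q) x : Ω) * (f u)⁻¹ = ((a : MulAut Q) (_ : Q) : Ω)
  rw [← ha, ← ha, ← hf.map_conj hu (hQP x.2)]
  rfl

theorem exists_aut {P : Subgroup Ω} {f : Ω → Ω} (hf : IsMap F P f) (hQP : Q ≤ P) :
    ∃ a : ↥(F.autGroup Q), ∀ x : Q, f x = ((a : MulAut Q) x : Ω) := by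
  obtain ⟨a, ha, hv⟩ := exists_mem_autGroup (h.isIso hf hQP)
  exact ⟨⟨a, ha⟩, fun x => (hv x).symm⟩

/-- Extension of an automorphism of `Q` over the subgroup where it is compatible with `S`. -/
theorem exists_ext [Fact p.Prime] (a : ↥(F.autGroup Q)) {U : Subgroup Ω} (hU : U ≤ S)
    (hcomp : ∀ u : U, a * h.conjQ ⟨u, hU u.2⟩ * a⁻¹ ∈ h.conjQ.range) :
    ∃ f, IsMap F U f ∧ ∀ x ∈ Q, x ∈ U → f x = autFun (a : MulAut Q) x := by
  obtain ⟨f, hf, hv⟩ := (isReceptive_iff.1 (isReceptive_of_isFullyNormalized h.hS h.hF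
    h.isFullyNormalized)).2 Q _ ((mem_autGroup_iff h.le (a : MulAut Q)).1 a.2)
  refine ⟨f, hf.mono fun u hu => ⟨hU hu, h.le_normalizer (hU hu), ?_⟩, fun x hx _ => hv x hx⟩
  obtain ⟨g, hg⟩ := hcomp ⟨u, hu⟩
  refine ⟨g, g.2, fun x hx => ?_⟩
  have e := congrArg (fun b : ↥(F.autGroup Q) =>
    (((b : MulAut Q) ((a : MulAut Q) ⟨x, hx⟩) : Q) : Ω)) hg
  simp only [Subgroup.coe_mul, Subgroup.coe_inv, MulAut.mul_apply, MulAut.inv_apply_self] at e
  rw [autFun_apply _ (conj_mem_of_mem_normalizer (h.le_normalizer (hU hu)) hx), autFun_apply _ hx]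
  exact e.symm

end CentricNormal

/-- The cosets of `Aut_S(Q)` in `Aut_F(Q)`. -/
abbrev CosetsQ [Finite S] {F : FusionSystem S} {p : ℕ} {Q : Subgroup Ω}
    (h : CentricNormal F p Q) :=
  ↥(F.autGroup Q) ⧸ h.conjQ.range

/-- Coherent sections over the cosets of `Aut_S(Q)` in `Aut_F(Q)`. -/
structure Sections [Finite S] {F : FusionSystem S} {p : ℕ} {Q : Subgroup Ω}
    (h : CentricNormal F p Q) where
  s : CosetsQ h → ↥(F.autGroup Q)
  hs : ∀ c, QuotientGroup.mk (s c) = c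
  v : S → CosetsQ h → S
  conjQ_v : ∀ u c, h.conjQ (v u c) = (s (h.conjQ u • c))⁻¹ * h.conjQ u * s c
  v_mul : ∀ u u' c, v (u * u') c = v u (h.conjQ u' • c) * v u' c
  isMap_v : ∀ (c : CosetsQ h) (P : Subgroup Ω) (hP : P ≤ S),
    (∀ x : P, h.conjQ ⟨x, hP x.2⟩ • c = c) →
    ∃ f, IsMap F P f ∧ ∀ x : P, f x = (v ⟨x, hP x.2⟩ c : Ω)
  v_Q : ∀ (q : S) (hq : (q : Ω) ∈ Q) c,
    (v q c : Ω) = (((s c)⁻¹ : ↥(F.autGroup Q)) : MulAut Q) ⟨q, hq⟩

namespace CentricNormal

variable [Finite S] {F : FusionSystem S} {p : ℕ} {Q : Subgroup Ω} (h : CentricNormal F p Q)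

theorem smul_eq_of_mem (q : S) (hq : (q : Ω) ∈ Q) (c : CosetsQ h) : h.conjQ q • c = c := by
  obtain ⟨a, rfl⟩ := QuotientGroup.mk_surjective c
  rw [MulAction.Quotient.smul_mk, smul_eq_mul, QuotientGroup.eq, h.mem_range_conjQ_iff,
    mem_autInducedBy_iff]
  refine ⟨(((a : MulAut Q)⁻¹ ⟨(q : Ω)⁻¹, Q.inv_mem hq⟩ : Q) : Ω), h.le (SetLike.coe_mem _),
    fun x => ?_⟩
  have e : (((h.conjQ q * a)⁻¹ * a : ↥(F.autGroup Q)) : MulAut Q) x
      = (a : MulAut Q)⁻¹ (⟨(q : Ω)⁻¹, Q.inv_mem hq⟩ * (a : MulAut Q) x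
        * (⟨(q : Ω)⁻¹, Q.inv_mem hq⟩)⁻¹) := by
    rw [mul_inv_rev, ← map_inv h.conjQ, Subgroup.coe_mul, Subgroup.coe_mul, Subgroup.coe_inv,
      MulAut.mul_apply, MulAut.mul_apply]
    congr 1
  rw [e, map_mul, map_mul, MulAut.inv_apply_self, map_inv]
  rfl

/-- Coherent sections exist. -/
theorem exists_sections [Fact p.Prime] : Nonempty (Sections h) := by
  classical
  letI : MulAction S (CosetsQ h) := MulAction.compHom _ h.conjQ
  let rep : CosetsQ h → CosetsQ h := fun c => (Quotient.mk (MulAction.orbitRel S _) c).out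
  have hrep : ∀ c, c ∈ MulAction.orbit S (rep c) := fun c =>
    MulAction.mem_orbit_symm.1 (Quotient.mk_out (s := MulAction.orbitRel S (CosetsQ h)) c)
  choose t ht using hrep
  have ht' : ∀ c, h.conjQ (t c) • rep c = c := ht
  have hrx : ∀ (x : S) c, rep (h.conjQ x • c) = rep c := fun x c =>
    congrArg Quotient.out
      (Quotient.sound (⟨x, rfl⟩ : h.conjQ x • c ∈ MulAction.orbit S c))
  let U : CosetsQ h → Subgroup Ω := fun c => (MulAction.stabilizer S c).map S.subtype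
  have hU : ∀ c, U c ≤ S := fun c => Subgroup.map_subtype_le _
  have hUm : ∀ c (u : S), h.conjQ u • c = c → (u : Ω) ∈ U c := fun c u e => ⟨u, e, rfl⟩
  have hcomp : ∀ c (u : U c), (Quotient.out c)⁻¹ * h.conjQ ⟨u, hU c u.2⟩ * Quotient.out c ∈
      h.conjQ.range := by
    rintro c ⟨_, u, hu, rfl⟩
    show (Quotient.out c)⁻¹ * h.conjQ u * Quotient.out c ∈ h.conjQ.range
    rw [mul_assoc, ← QuotientGroup.eq]
    have e : h.conjQ u • c = c := hu
    rw [← Quotient.out_eq c] at e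
    exact e.symm
  choose f hf hfQ using fun c : CosetsQ h => h.exists_ext (Quotient.out c)⁻¹ (hU c)
    (fun u => by simpa only [inv_inv] using hcomp c u)
  have hQU : ∀ c, Q ≤ U c := fun c q hq => hUm c ⟨q, h.le hq⟩ (h.smul_eq_of_mem ⟨q, h.le hq⟩ hq c)
  have hconj : ∀ c (u : Ω) (hu : u ∈ U c), h.conjQ ⟨f c u, (hf c).mem hu⟩
      = (Quotient.out c)⁻¹ * h.conjQ ⟨u, hU c hu⟩ * Quotient.out c := fun c u hu => by
    have e := h.autFun_comm (hf c) (hQU c) (a := (Quotient.out c)⁻¹)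
      (fun x => by rw [hfQ c x x.2 (hQU c x.2), autFun_coe]) hu
    rw [← eq_mul_inv_iff_mul_eq, inv_inv] at e
    exact e
  have hmem : ∀ (u : S) c, ((t (h.conjQ u • c))⁻¹ * u * t c : S) |> fun y =>
      h.conjQ y • rep c = rep c := fun u c => by
    show h.conjQ ((t (h.conjQ u • c))⁻¹ * u * t c) • rep c = rep c
    rw [map_mul, map_mul, mul_smul, mul_smul, ht', map_inv, inv_smul_eq_iff]
    conv_lhs => rw [← ht' (h.conjQ u • c), hrx u c]
  let v : S → CosetsQ h → S := fun u c =>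
    ⟨f (rep c) ((t (h.conjQ u • c))⁻¹ * u * t c : S), (hf _).mem (hUm _ _ (hmem u c))⟩
  refine ⟨{ s := fun c => h.conjQ (t c) * Quotient.out (rep c), hs := fun c => ?_, v := v,
            conjQ_v := fun u c => ?_, v_mul := fun u u' c => ?_, isMap_v := fun c P hP hfix => ?_,
            v_Q := fun q hq c => ?_ }⟩
  · rw [← smul_eq_mul, ← MulAction.Quotient.smul_mk]
    conv_rhs => rw [← ht' c]
    exact congrArg _ (Quotient.out_eq (rep c))
  · show h.conjQ (v u c) = _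
    rw [hconj (rep c) _ (hUm _ _ (hmem u c)), Subtype.coe_eta, map_mul, map_mul, map_inv, hrx u c]
    group
  · refine Subtype.ext ?_
    show f (rep c) ((t (h.conjQ (u * u') • c))⁻¹ * (u * u') * t c : S)
      = f (rep (h.conjQ u' • c)) ((t (h.conjQ u • h.conjQ u' • c))⁻¹ * u * t (h.conjQ u' • c) : S)
        * f (rep c) ((t (h.conjQ u' • c))⁻¹ * u' * t c : S)
    have hm := hmem u (h.conjQ u' • c)
    simp only [hrx] at hm
    rw [hrx, ← (hf _).map_mul (hUm _ _ hm) (hUm _ _ (hmem u' c)), ← Subgroup.coe_mul, ← mul_smul,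
      ← map_mul]
    congr 2
    group
  · have hmap : IsMap F P fun x => ((t c : S) : Ω)⁻¹ * x * ((t c : S) : Ω)⁻¹⁻¹ :=
      isMap_conj hP (S.inv_mem (t c).2)
    refine ⟨_, hmap.comp (hf (rep c)) fun x hx => ?_, fun x => ?_⟩
    · have e := hUm (rep c) _ (hmem ⟨x, hP hx⟩ c)
      rw [hfix ⟨x, hx⟩] at e
      simpa using e
    · show f (rep c) _ = f (rep c) ((t (h.conjQ ⟨x, hP x.2⟩ • c))⁻¹ * ⟨x, hP x.2⟩ * t c : S)
      rw [hfix x]
      simp
  · show f (rep c) ((t (h.conjQ q • c))⁻¹ * q * t c : S) = _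
    rw [h.smul_eq_of_mem q hq c]
    have hq' : ((t c)⁻¹ : Ω) * q * (t c : Ω) ∈ Q := by
      simpa using conj_mem_of_mem_normalizer (h.le_normalizer ((t c)⁻¹).2) hq
    simp only [Subgroup.coe_mul, Subgroup.coe_inv]
    rw [hfQ (rep c) _ hq' (hQU _ hq'), autFun_apply _ hq', Subgroup.coe_inv, mul_inv_rev,
      MulAut.mul_apply]
    congr 2
    refine Subtype.ext ?_
    have e := h.conjQ_apply (t c)⁻¹ ⟨q, hq⟩
    rw [map_inv] at e
    simp only [Subgroup.coe_inv, inv_inv] at e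
    exact e.symm

end CentricNormal

end CfsgLib.Fusion
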