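import Mathlib
import Cfsg.Agent.Lib.Fusion.ModelSetup
import Cfsg.Agent.Lib.Fitting.Basic

/-!
A constrained fusion system has a model.
-/

set_option autoImplicit false

namespace CfsgLib.Fusion

open Cfsg Cfsg.FusionSystem

universe u

variable {Ω : Type u} [Group Ω] {S : Subgroup Ω} [Finite S] {F : FusionSystem S} {p : ℕ}
  {Q : Subgroup Ω} {h : CentricNormal F p Q} (σ : Sections h)

namespace Sections

/-- The wreath product in which the model lives. -/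
abbrev Wr (_σ : Sections h) :=
  SemidirectProduct (CosetsQ h → S) ↥(F.autGroup Q) mulAutArrow

variable {σ}

/-- The left component, indexed by sources. -/
def lf (x : σ.Wr) (c : CosetsQ h) : S := x.left (x.right • c)

theorem arrow_apply (a : ↥(F.autGroup Q)) (f : CosetsQ h → S) (d : CosetsQ h) :
    mulAutArrow a f d = f (a⁻¹ • d) := rfl

theorem lf_mul (x y : σ.Wr) (c : CosetsQ h) : lf (x * y) c = lf x (y.right • c) * lf y c := by
  simp only [lf, SemidirectProduct.mul_left, SemidirectProduct.mul_right, Pi.mul_apply,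
    arrow_apply, mul_smul, inv_smul_smul]

theorem lf_one (c : CosetsQ h) : lf (1 : σ.Wr) c = 1 := rfl

theorem wr_ext {x y : σ.Wr} (h1 : x.right = y.right) (h2 : ∀ c, lf x c = lf y c) : x = y := by
  refine SemidirectProduct.ext (funext fun d => ?_) h1
  have e := h2 (x.right⁻¹ • d)
  simp only [lf, ← h1, smul_inv_smul] at e
  exact e

variable (σ)

/-- The subgroup of the wreath product compatible with the action on `Q`. -/
def frame : Subgroup σ.Wr where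
  carrier := {x | ∀ c, h.conjQ (lf x c) = (σ.s (x.right • c))⁻¹ * x.right * σ.s c}
  one_mem' c := by rw [lf_one]; simp
  mul_mem' := by
    intro x y hx hy c
    rw [lf_mul, map_mul, hx, hy, SemidirectProduct.mul_right, mul_smul]
    group
  inv_mem' := by
    intro x hx c
    have e : lf (x * x⁻¹) c = 1 := by rw [mul_inv_cancel, lf_one]
    rw [lf_mul] at e
    rw [eq_inv_of_mul_eq_one_right e, map_inv, hx, SemidirectProduct.inv_right, smul_inv_smul]
    group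

/-- The embedding of `S` in the wreath product. -/
def toWr : S →* σ.Wr :=
  MonoidHom.mk' (fun u => ⟨fun d => σ.v u ((h.conjQ u)⁻¹ • d), h.conjQ u⟩) fun u u' => by
    refine wr_ext (map_mul h.conjQ u u') fun c => ?_
    rw [lf_mul]
    simp only [lf, inv_smul_smul]
    exact σ.v_mul u u' c

theorem toWr_right (u : S) : (σ.toWr u).right = h.conjQ u := rfl

theorem lf_toWr (u : S) (c : CosetsQ h) : lf (σ.toWr u) c = σ.v u c := by
  show σ.v u ((h.conjQ u)⁻¹ • h.conjQ u • c) = _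
  rw [inv_smul_smul]

theorem toWr_mem (u : S) : σ.toWr u ∈ σ.frame := fun c => by
  rw [lf_toWr, toWr_right, σ.conjQ_v]

/-- The embedding of `S` in the frame. -/
def toFrame : S →* ↥σ.frame := σ.toWr.codRestrict σ.frame σ.toWr_mem

/-- The projection of the frame onto `Aut_F(Q)`. -/
def frameHom : ↥σ.frame →* ↥(F.autGroup Q) := SemidirectProduct.rightHom.comp σ.frame.subtype

theorem frameHom_surjective : Function.Surjective σ.frameHom := by
  intro a
  have hm : ∀ c, (σ.s (a • c))⁻¹ * a * σ.s c ∈ h.conjQ.range := fun c => by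
    rw [mul_assoc, ← QuotientGroup.eq, ← smul_eq_mul, ← MulAction.Quotient.smul_mk, σ.hs, σ.hs]
  choose m hm' using hm
  refine ⟨⟨⟨fun d => m (a⁻¹ • d), a⟩, fun c => ?_⟩, rfl⟩
  simp only [lf, inv_smul_smul]
  exact hm' c

end Sections

namespace CentricNormal

variable (h)

theorem ker_mem_centralizer (z : h.conjQ.ker) :
    ((z : S) : Ω) ∈ Subgroup.centralizer (Q : Set Ω) :=
  (h.conjQ_eq_one_iff (z : S)).1 (MonoidHom.mem_ker.1 z.2)

theorem ker_mem (z : h.conjQ.ker) : ((z : S) : Ω) ∈ Q :=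
  h.mem_of_conjQ_eq_one (MonoidHom.mem_ker.1 z.2)

theorem commute_ker (z z' : h.conjQ.ker) : z * z' = z' * z := by
  refine Subtype.ext (Subtype.ext ?_)
  exact (h.ker_mem_centralizer z ((z' : S) : Ω) (h.ker_mem z')).symm

instance : CommGroup h.conjQ.ker :=
  { (inferInstance : Group h.conjQ.ker) with mul_comm := h.commute_ker }

/-- The action of `Aut_F(Q)` on `Z(Q)`. -/
def act (a : ↥(F.autGroup Q)) : h.conjQ.ker →* h.conjQ.ker where
  toFun z := ⟨⟨((a : MulAut Q) ⟨((z : S) : Ω), (h.ker_mem z)⟩ : Q),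
    h.le (SetLike.coe_mem _)⟩, by
    rw [MonoidHom.mem_ker, h.conjQ_eq_one_iff]
    intro x hx
    obtain ⟨y, hy⟩ := (a : MulAut Q).surjective ⟨x, hx⟩
    have hxy : x = (((a : MulAut Q) y : Q) : Ω) := (congrArg Subtype.val hy).symm
    rw [hxy]
    show ((((a : MulAut Q) y * (a : MulAut Q) ⟨((z : S) : Ω), h.ker_mem z⟩ : Q)) : Ω)
      = (((a : MulAut Q) ⟨((z : S) : Ω), h.ker_mem z⟩ * (a : MulAut Q) y : Q) : Ω)
    rw [← map_mul, ← map_mul]
    congr 2
    exact Subtype.ext (h.ker_mem_centralizer z y y.2)⟩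
  map_one' := Subtype.ext (Subtype.ext (by
    show (((a : MulAut Q) ⟨1, _⟩ : Q) : Ω) = 1
    exact congrArg Subtype.val (map_one (a : MulAut Q))))
  map_mul' z z' := Subtype.ext (Subtype.ext (by
    show (((a : MulAut Q) _ : Q) : Ω) = ((a : MulAut Q) _ : Q) * ((a : MulAut Q) _ : Q)
    rw [← Subgroup.coe_mul, ← map_mul]
    rfl))

theorem act_mul (a b : ↥(F.autGroup Q)) (z : h.conjQ.ker) :
    h.act (a * b) z = h.act a (h.act b z) := rfl

theorem act_one (z : h.conjQ.ker) : h.act 1 z = z := rfl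

theorem coe_act_conjQ (u : S) (z : h.conjQ.ker) :
    ((h.act (h.conjQ u) z : h.conjQ.ker) : S) = u * z * u⁻¹ :=
  Subtype.ext (h.conjQ_apply u _)

theorem isPGroup_ker : IsPGroup p h.conjQ.ker := h.hS.to_subgroup _

theorem exists_pow_card_cosets [Fact p.Prime] [Fintype (CosetsQ h)] (z : h.conjQ.ker) :
    ∃ y : h.conjQ.ker, y ^ Fintype.card (CosetsQ h) = z := by
  obtain ⟨k, hk⟩ := h.isPGroup_ker z
  have hm : (Fintype.card (CosetsQ h)).Coprime p := by
    rw [← Nat.card_eq_fintype_card]; exact h.coprime_index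
  obtain ⟨j, hj⟩ := exists_pow_eq_self_of_coprime (x := z)
    ((hm.pow_right k).coprime_dvd_right (orderOf_dvd_of_pow_eq_one hk))
  exact ⟨z ^ j, by rw [← pow_mul, mul_comm, pow_mul, hj]⟩

theorem eq_one_of_pow_card_cosets [Fact p.Prime] [Fintype (CosetsQ h)] {z : h.conjQ.ker}
    (hz : z ^ Fintype.card (CosetsQ h) = 1) : z = 1 := by
  obtain ⟨k, hk⟩ := h.isPGroup_ker z
  have hm : (Fintype.card (CosetsQ h)).Coprime p := by
    rw [← Nat.card_eq_fintype_card]; exact h.coprime_index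
  rw [← orderOf_eq_one_iff]
  exact Nat.eq_one_of_dvd_coprimes (hm.pow_right k) (orderOf_dvd_of_pow_eq_one hz)
    (orderOf_dvd_of_pow_eq_one hk)

end CentricNormal

namespace Sections

variable [Fintype (CosetsQ h)]

/-- The components of a kernel element lie in `Z(Q)`. -/
theorem lf_mem_ker (x : σ.frameHom.ker) (c : CosetsQ h) :
    lf ((x : σ.frame) : σ.Wr) c ∈ h.conjQ.ker := by
  have e : ((x : σ.frame) : σ.Wr).right = 1 := x.2
  rw [MonoidHom.mem_ker, (x : σ.frame).2 c, e, one_smul, mul_one, inv_mul_cancel]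

/-- The twisted product on the kernel. -/
def chi : σ.frameHom.ker →* h.conjQ.ker :=
  MonoidHom.mk' (fun x => ∏ c, h.act (σ.s c) ⟨_, σ.lf_mem_ker x c⟩) fun x y => by
    rw [← Finset.prod_mul_distrib]
    refine Finset.prod_congr rfl fun c _ => ?_
    rw [← map_mul]
    congr 1
    refine Subtype.ext ?_
    show lf (((x : σ.frame) : σ.Wr) * ((y : σ.frame) : σ.Wr)) c = _
    rw [lf_mul, show ((y : σ.frame) : σ.Wr).right = 1 from y.2, one_smul]
    rfl

theorem chi_conj (g : σ.frame) (x : σ.frameHom.ker)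
    (hx : g * (x : σ.frame) * g⁻¹ ∈ σ.frameHom.ker) :
    σ.chi ⟨_, hx⟩ = h.act (σ.frameHom g) (σ.chi x) := by
  show ∏ c, h.act (σ.s c) _ = h.act _ (∏ c, _)
  rw [map_prod]
  refine (Fintype.prod_equiv (MulAction.toPerm (σ.frameHom g)) _ _ fun c => ?_).symm
  show h.act (σ.frameHom g) (h.act (σ.s c) ⟨_, σ.lf_mem_ker x c⟩)
    = h.act (σ.s (σ.frameHom g • c)) ⟨_, σ.lf_mem_ker ⟨_, hx⟩ (σ.frameHom g • c)⟩
  have e1 : σ.frameHom g * σ.s c = σ.s (σ.frameHom g • c) * h.conjQ (lf (g : σ.Wr) c) := by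
    rw [g.2 c]
    show _ = σ.s ((g : σ.Wr).right • c) * ((σ.s ((g : σ.Wr).right • c))⁻¹ * _ * _)
    rw [mul_assoc, mul_inv_cancel_left]
    rfl
  rw [← h.act_mul, e1, h.act_mul]
  congr 1
  refine Subtype.ext ?_
  rw [h.coe_act_conjQ]
  show lf (g : σ.Wr) c * lf ((x : σ.frame) : σ.Wr) c * (lf (g : σ.Wr) c)⁻¹
    = lf ((g * (x : σ.frame) * g⁻¹ : σ.frame) : σ.Wr) ((g : σ.Wr).right • c)
  have e2 : lf (((g * (x : σ.frame) * g⁻¹ : σ.frame) : σ.Wr) * (g : σ.Wr)) c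
      = lf ((g : σ.Wr) * ((x : σ.frame) : σ.Wr)) c := by
    congr 1
    rw [← Subgroup.coe_mul, inv_mul_cancel_right]
    rfl
  rw [lf_mul, lf_mul, show ((x : σ.frame) : σ.Wr).right = 1 from x.2, one_smul] at e2
  rw [← e2, mul_inv_cancel_right]

/-- The kernel that cuts the frame down to the model. -/
def cut : Subgroup σ.frame := σ.chi.ker.map σ.frameHom.ker.subtype

instance cut_normal : σ.cut.Normal where
  conj_mem := by
    rintro _ ⟨x, hx, rfl⟩ g
    refine ⟨⟨g * (x : σ.frame) * g⁻¹, (inferInstance : σ.frameHom.ker.Normal).conj_mem _ x.2 g⟩,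
      ?_, rfl⟩
    rw [SetLike.mem_coe, MonoidHom.mem_ker] at hx ⊢
    rw [chi_conj, hx, map_one]

/-- The model. -/
abbrev Model := ↥σ.frame ⧸ σ.cut

/-- The embedding of `S` in the model. -/
def incl : S →* σ.Model := (QuotientGroup.mk' σ.cut).comp σ.toFrame

/-- The projection of the model onto `Aut_F(Q)`. -/
def proj : σ.Model →* ↥(F.autGroup Q) :=
  QuotientGroup.lift σ.cut σ.frameHom (by rintro _ ⟨x, -, rfl⟩; exact x.2)

theorem proj_mk (g : σ.frame) : σ.proj (QuotientGroup.mk g) = σ.frameHom g := rfl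

theorem proj_incl (u : S) : σ.proj (σ.incl u) = h.conjQ u := rfl

theorem proj_surjective : Function.Surjective σ.proj := fun a => by
  obtain ⟨g, hg⟩ := σ.frameHom_surjective a
  exact ⟨QuotientGroup.mk g, hg⟩

theorem toFrame_mem_ker (z : h.conjQ.ker) : σ.toFrame z ∈ σ.frameHom.ker := z.2

theorem chi_toFrame (z : h.conjQ.ker) :
    σ.chi ⟨_, σ.toFrame_mem_ker z⟩ = z ^ Fintype.card (CosetsQ h) := by
  show ∏ c, h.act (σ.s c) _ = _
  rw [Finset.prod_congr rfl (g := fun _ => z) fun c _ => ?_, Finset.prod_const, Finset.card_univ]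
  have hzQ := (h.ker_mem z)
  have e : h.act (σ.s c) (h.act (σ.s c)⁻¹ z) = z := by
    rw [← h.act_mul, mul_inv_cancel, h.act_one]
  refine Eq.trans ?_ e
  congr 1
  refine Subtype.ext (Subtype.ext ?_)
  show (lf (σ.toWr (z : S)) c : Ω) = _
  rw [lf_toWr, σ.v_Q _ hzQ]
  rfl

variable [Fact p.Prime]

theorem exists_eq_incl {γ : σ.Model} (hγ : σ.proj γ = 1) :
    ∃ z : h.conjQ.ker, γ = σ.incl z := by
  obtain ⟨g, rfl⟩ := QuotientGroup.mk_surjective γ
  rw [proj_mk] at hγ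
  let x : σ.frameHom.ker := ⟨g, MonoidHom.mem_ker.2 hγ⟩
  obtain ⟨z, hz⟩ := h.exists_pow_card_cosets (σ.chi x)
  let y : σ.frameHom.ker := ⟨σ.toFrame z, σ.toFrame_mem_ker z⟩
  have hk : x⁻¹ * y ∈ σ.chi.ker := by
    rw [MonoidHom.mem_ker, map_mul, map_inv, chi_toFrame, hz, inv_mul_cancel]
  have hm : g⁻¹ * σ.toFrame z ∈ σ.cut := Subgroup.mem_map_of_mem σ.frameHom.ker.subtype hk
  refine ⟨z, ?_⟩
  show (QuotientGroup.mk g : σ.Model) = QuotientGroup.mk (σ.toFrame (z : S))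
  exact QuotientGroup.eq.2 hm

theorem incl_injective : Function.Injective σ.incl := by
  refine (injective_iff_map_eq_one _).2 fun u hu => ?_
  have hk : u ∈ h.conjQ.ker := by
    rw [MonoidHom.mem_ker, ← σ.proj_incl, hu, map_one]
  obtain ⟨x, hx, hxu⟩ := (QuotientGroup.eq_one_iff (σ.toFrame u)).1 hu
  have e : σ.chi ⟨_, σ.toFrame_mem_ker ⟨u, hk⟩⟩ = 1 := by
    rw [show (⟨_, σ.toFrame_mem_ker ⟨u, hk⟩⟩ : σ.frameHom.ker) = x from Subtype.ext hxu.symm]
    exact hx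
  rw [chi_toFrame] at e
  exact congrArg Subtype.val (h.eq_one_of_pow_card_cosets e)

theorem conj_incl (γ : σ.Model) (q : S) (hq : (q : Ω) ∈ Q) :
    γ * σ.incl q * γ⁻¹ =
      σ.incl ⟨((σ.proj γ : MulAut Q) ⟨q, hq⟩ : Q), h.le (SetLike.coe_mem _)⟩ := by
  obtain ⟨g, rfl⟩ := QuotientGroup.mk_surjective γ
  rw [proj_mk]
  set a := σ.frameHom g
  set q' : S := ⟨((a : MulAut Q) ⟨q, hq⟩ : Q), h.le (SetLike.coe_mem _)⟩
  have hq' : (q' : Ω) ∈ Q := SetLike.coe_mem _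
  have hcomm : h.conjQ q' * a = a * h.conjQ q := by
    refine Subtype.ext (MulEquiv.ext fun x => Subtype.ext ?_)
    show (q' : Ω) * ((a : MulAut Q) x : Ω) * (q' : Ω)⁻¹ = ((a : MulAut Q) _ : Q)
    have : ((h.conjQ q : MulAut Q) x) = ⟨q, hq⟩ * x * (⟨q, hq⟩ : Q)⁻¹ := Subtype.ext rfl
    refine Eq.trans ?_ (congrArg (fun y : Q => (((a : MulAut Q) y : Q) : Ω)) this).symm
    simp only [map_mul, map_inv, Subgroup.coe_mul, Subgroup.coe_inv]
    rfl
  have key : g * σ.toFrame q = σ.toFrame q' * g := by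
    refine Subtype.ext (wr_ext hcomm.symm fun c => ?_)
    show lf ((g : σ.Wr) * σ.toWr q) c = lf (σ.toWr q' * (g : σ.Wr)) c
    rw [lf_mul, lf_mul, toWr_right, h.smul_eq_of_mem q hq c, lf_toWr, lf_toWr]
    refine Subtype.ext ?_
    rw [Subgroup.coe_mul, Subgroup.coe_mul, σ.v_Q q hq, σ.v_Q q' hq']
    have hw := congrArg (fun b : ↥(F.autGroup Q) =>
      (((b : MulAut Q) (((σ.s c)⁻¹ : ↥(F.autGroup Q)).1 ⟨q, hq⟩)) : Q)) (g.2 c)
    simp only [Subgroup.coe_mul, Subgroup.coe_inv, MulAut.mul_apply, MulAut.apply_inv_self] at hw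
    have hw' := congrArg Subtype.val hw
    rw [h.conjQ_apply] at hw'
    exact mul_inv_eq_iff_eq_mul.1 hw'
  show (QuotientGroup.mk g : σ.Model) * QuotientGroup.mk (σ.toFrame q) * (QuotientGroup.mk g)⁻¹
    = QuotientGroup.mk (σ.toFrame q')
  rw [← QuotientGroup.mk_mul, key, QuotientGroup.mk_mul, mul_inv_cancel_right]

/-- Every map on an overgroup of `Q` is induced by an element of the model. -/
theorem exists_lift {R : Subgroup Ω} {f : Ω → Ω} (hf : IsMap F R f) (hQR : Q ≤ R)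
    {a : ↥(F.autGroup Q)} (ha : ∀ x : Q, f x = ((a : MulAut Q) x : Ω)) :
    ∃ γ : σ.Model, σ.proj γ = a ∧ ∀ x : R,
      γ * σ.incl ⟨x, hf.le x.2⟩ * γ⁻¹ = σ.incl ⟨f x, hf.mem x.2⟩ := by
  have hRS := hf.le
  letI : MulAction R (CosetsQ h) :=
    MulAction.compHom _ (h.conjQ.comp (Subgroup.inclusion hRS))
  have hcomm : ∀ x : R, h.conjQ ⟨f x, hf.mem x.2⟩ * a = a * h.conjQ ⟨x, hRS x.2⟩ :=
    fun x => h.autFun_comm hf hQR ha x.2
  have hfmul : ∀ x y : R, (⟨f (x * y : R), hf.mem (x * y).2⟩ : S)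
      = ⟨f x, hf.mem x.2⟩ * ⟨f y, hf.mem y.2⟩ :=
    fun x y => Subtype.ext (hf.map_mul x.2 y.2)
  have hbc : ∀ (x y : R) c, σ.v ⟨f (x * y : R), hf.mem (x * y).2⟩ (a • c)
      = σ.v ⟨f x, hf.mem x.2⟩ (a • (y • c)) * σ.v ⟨f y, hf.mem y.2⟩ (a • c) := by
    intro x y c
    rw [hfmul, σ.v_mul, ← mul_smul, hcomm y, mul_smul]
    rfl
  obtain ⟨d, hd, hdv⟩ := exists_intertwiner (R := R) (C := CosetsQ h) (M := S)
    (fun x c => σ.v ⟨x, hRS x.2⟩ c) (fun x c => σ.v ⟨f x, hf.mem x.2⟩ (a • c))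
    (fun x y c => σ.v_mul ⟨x, hRS x.2⟩ ⟨y, hRS y.2⟩ c) hbc
    (fun c m => h.conjQ m = (σ.s (a • c))⁻¹ * a * σ.s c)
    (fun x c m hm => by
      show h.conjQ _ = _
      rw [map_mul, map_mul, map_inv, hm, σ.conjQ_v, σ.conjQ_v, ← mul_smul, hcomm x, mul_smul,
        show x • c = h.conjQ ⟨x, hRS x.2⟩ • c from rfl]
      have e := hcomm x
      rw [← eq_mul_inv_iff_mul_eq] at e
      rw [e]
      group)
    (fun c => by
      obtain ⟨m₀, hm₀⟩ : (σ.s (a • c))⁻¹ * a * σ.s c ∈ h.conjQ.range := by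
        rw [mul_assoc, ← QuotientGroup.eq, ← smul_eq_mul, ← MulAction.Quotient.smul_mk,
          σ.hs, σ.hs]
      let Rc : Subgroup Ω := (MulAction.stabilizer R c).map R.subtype
      have hRcR : Rc ≤ R := Subgroup.map_subtype_le _
      have hRcS : Rc ≤ S := hRcR.trans hRS
      have hRcm : ∀ (x : Ω) (hx : x ∈ Rc), h.conjQ ⟨x, hRcS hx⟩ • c = c := by
        rintro _ ⟨y, hy, rfl⟩
        exact hy
      have hQRc : Q ≤ Rc := fun q hq =>
        ⟨⟨q, hQR hq⟩, h.smul_eq_of_mem ⟨q, hRS (hQR hq)⟩ hq c, rfl⟩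
      obtain ⟨P', hP'⟩ := (hf.mono hRcR).exists_iso
      obtain ⟨f₁, hf₁, hf₁v⟩ := σ.isMap_v c Rc hRcS fun x => hRcm x x.2
      obtain ⟨f₃, hf₃, hf₃v⟩ := σ.isMap_v (a • c) P' hP'.le_right fun y => by
        obtain ⟨x, hx, hxy⟩ := hP'.surj y.2
        rw [show (⟨(y : Ω), hP'.le_right y.2⟩ : S) = ⟨f x, hf.mem (hRcR hx)⟩ from
          Subtype.ext hxy.symm, ← mul_smul, hcomm ⟨x, hRcR hx⟩, mul_smul, hRcm x hx]
      obtain ⟨T, hT⟩ := ((hf.mono hRcR).comp hf₃ fun x hx => hP'.mem hx).exists_iso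
      have hf₂ := ((hf.mono hRcR).comp hf₃ fun x hx => hP'.mem hx).comp
        (isMap_conj hT.le_right (S.inv_mem m₀.2)) fun x hx => hT.mem hx
      obtain ⟨z, hzQ, hzc, hzv⟩ := exists_center_of_agree h.hS h.hF hf₁ hf₂ _ Q rfl hQRc h.hc
        fun x hx => by
          show f₁ x = (m₀ : Ω)⁻¹ * f₃ (f x) * ((m₀ : Ω)⁻¹)⁻¹
          rw [hf₁v ⟨x, hQRc hx⟩, hf₃v ⟨f x, hP'.mem (hQRc hx)⟩]
          have hfx : f x ∈ Q := by rw [ha ⟨x, hx⟩]; exact SetLike.coe_mem _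
          rw [σ.v_Q _ hx, σ.v_Q _ hfx]
          have e := congrArg (fun b : ↥(F.autGroup Q) =>
            (((b⁻¹ : ↥(F.autGroup Q)) : MulAut Q)
              (((σ.s (a • c))⁻¹ : ↥(F.autGroup Q)).1 ⟨f x, hfx⟩) : Q)) hm₀
          simp only [← map_inv h.conjQ, mul_inv_rev, inv_inv, Subgroup.coe_mul, Subgroup.coe_inv,
            MulAut.mul_apply, MulAut.apply_inv_self] at e
          have e' := congrArg Subtype.val e
          rw [h.conjQ_apply] at e'
          simp only [Subgroup.coe_inv] at e'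
          refine Eq.trans ?_ e'.symm
          congr 2
          refine (a : MulAut Q).injective (Subtype.ext ?_)
          rw [MulAut.apply_inv_self]
          exact (ha ⟨x, hx⟩).symm
      have hzR : z ∈ Rc := hQRc hzQ
      have hzker : h.conjQ ⟨z, hRcS hzR⟩ = 1 := (h.conjQ_eq_one_iff _).2 hzc
      refine ⟨m₀ * σ.v ⟨z, hRcS hzR⟩ c, ?_, fun y hy => ?_⟩
      · rw [map_mul, hm₀, σ.conjQ_v, hzker, one_smul]
        group
      · have hyR : (y : Ω) ∈ Rc := ⟨y, hy, rfl⟩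
        have hzy : z * (y : Ω) * z⁻¹ ∈ Rc := Rc.mul_mem (Rc.mul_mem hzR hyR) (Rc.inv_mem hzR)
        have e : (m₀ : Ω)⁻¹ * f₃ (f y) * ((m₀ : Ω)⁻¹)⁻¹
            = f₁ z * f₁ y * (f₁ z)⁻¹ := by
          rw [← hf₁.map_conj hzR hyR]
          exact hzv y hyR
        rw [hf₁v ⟨z, hzR⟩, hf₁v ⟨y, hyR⟩, hf₃v ⟨f y, hP'.mem hyR⟩, inv_inv] at e
        refine Subtype.ext ?_
        show (σ.v ⟨f y, hf.mem y.2⟩ (a • c) : Ω) * ((m₀ : Ω) * (σ.v ⟨z, hRcS hzR⟩ c : Ω))
          = (m₀ : Ω) * (σ.v ⟨z, hRcS hzR⟩ c : Ω) * (σ.v ⟨y, hRS y.2⟩ c : Ω)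
        calc (σ.v ⟨f y, hf.mem y.2⟩ (a • c) : Ω) * ((m₀ : Ω) * (σ.v ⟨z, hRcS hzR⟩ c : Ω))
            = (m₀ : Ω) * ((m₀ : Ω)⁻¹ * (σ.v ⟨f y, hf.mem y.2⟩ (a • c) : Ω) * (m₀ : Ω))
                * (σ.v ⟨z, hRcS hzR⟩ c : Ω) := by group
          _ = _ := by rw [e]; group)
  have hg : (⟨fun e => d (a⁻¹ • e), a⟩ : σ.Wr) ∈ σ.frame := fun c => by
    simp only [lf, inv_smul_smul]
    exact hd c
  refine ⟨QuotientGroup.mk ⟨_, hg⟩, rfl, fun x => ?_⟩
  rw [mul_inv_eq_iff_eq_mul]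
  show (QuotientGroup.mk _ : σ.Model) * QuotientGroup.mk (σ.toFrame _)
    = QuotientGroup.mk (σ.toFrame _) * QuotientGroup.mk _
  rw [← QuotientGroup.mk_mul, ← QuotientGroup.mk_mul]
  congr 1
  refine Subtype.ext (wr_ext (hcomm x).symm fun c => ?_)
  show lf ((⟨fun e => d (a⁻¹ • e), a⟩ : σ.Wr) * σ.toWr _) c
    = lf (σ.toWr _ * (⟨fun e => d (a⁻¹ • e), a⟩ : σ.Wr)) c
  rw [lf_mul, lf_mul, lf_toWr, lf_toWr, toWr_right]
  simp only [lf, inv_smul_smul]
  exact hdv x c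

theorem isRealizedBy : F.IsRealizedBy σ.incl := by
  refine ⟨σ.incl_injective, fun P hP φ hφ => ⟨fun hm => ?_, fun ⟨γ, hγ⟩ => ?_⟩⟩
  · obtain ⟨f, hf, hfv, -⟩ := (isNormal_iff.1 h.hn).2 P _ (isMap_homFun hm)
    obtain ⟨a, ha⟩ := h.exists_aut hf le_sup_right
    obtain ⟨γ, -, hγ⟩ := σ.exists_lift hf le_sup_right ha
    refine ⟨γ, fun x => ?_⟩
    rw [show (⟨φ x, hφ x⟩ : S) = ⟨f x, hf.mem (Subgroup.mem_sup_left x.2)⟩ from
      Subtype.ext ((hfv x x.2).trans (homFun_coe φ x)).symm]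
    exact (hγ ⟨x, Subgroup.mem_sup_left x.2⟩).symm
  · have hR : P ⊔ Q ≤ S := sup_le hP h.le
    set a := σ.proj γ
    have hcomp : ∀ u : ↥(P ⊔ Q), a * h.conjQ ⟨u, hR u.2⟩ * a⁻¹ ∈ h.conjQ.range := by
      let W : Subgroup S := h.conjQ.range.comap ((MulAut.conj a).toMonoidHom.comp h.conjQ)
      have hW : (P ⊔ Q).subgroupOf S ≤ W := by
        rw [Subgroup.subgroupOf_sup hP h.le]
        refine sup_le (fun u hu => ?_) fun u hu => ?_
        · refine ⟨⟨φ ⟨u, hu⟩, hφ _⟩, ?_⟩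
          show _ = a * h.conjQ u * a⁻¹
          rw [← σ.proj_incl, hγ ⟨u, hu⟩, map_mul, map_mul, map_inv, σ.proj_incl]
        · refine ⟨⟨((a : MulAut Q) ⟨u, hu⟩ : Q), h.le (SetLike.coe_mem _)⟩, ?_⟩
          show _ = a * h.conjQ u * a⁻¹
          rw [← σ.proj_incl, ← σ.conj_incl γ u hu, map_mul, map_mul, map_inv, σ.proj_incl]
      exact fun u => hW (show (⟨u, hR u.2⟩ : S) ∈ (P ⊔ Q).subgroupOf S from u.2)
    obtain ⟨f, hf, hfQ⟩ := h.exists_ext a hR hcomp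
    obtain ⟨g, hg, hgv⟩ := σ.exists_lift hf le_sup_right (a := a) fun x => by
      rw [hfQ x x.2 (Subgroup.mem_sup_right x.2), autFun_coe]
    obtain ⟨z, hz⟩ := σ.exists_eq_incl (γ := g⁻¹ * γ) (by
      rw [map_mul, map_inv, hg, inv_mul_cancel])
    rw [inv_mul_eq_iff_eq_mul] at hz
    have hzR : ((z : S) : Ω) ∈ P ⊔ Q := Subgroup.mem_sup_right ((h.ker_mem z))
    have hconj : ∀ x ∈ P, ((z : S) : Ω) * x * ((z : S) : Ω)⁻¹ ∈ P ⊔ Q := fun x hx =>
      Subgroup.mul_mem _ (Subgroup.mul_mem _ hzR (Subgroup.mem_sup_left hx))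
        (Subgroup.inv_mem _ hzR)
    refine mem_hom_of_isMap ((isMap_conj hP (z : S).2).comp hf hconj) fun x => ?_
    have e : σ.incl ⟨φ x, hφ x⟩ = σ.incl ⟨f _, hf.mem (hconj x x.2)⟩ := by
      rw [hγ x, hz, ← hgv ⟨_, hconj x x.2⟩,
        show (⟨((z : S) : Ω) * x * ((z : S) : Ω)⁻¹, hR (hconj x x.2)⟩ : S)
          = (z : S) * ⟨x, hP x.2⟩ * (z : S)⁻¹ from rfl, map_mul, map_mul, map_inv]
      group
    exact congrArg Subtype.val (σ.incl_injective e)

theorem finite_model : Finite σ.Model := by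
  have := finite_of_le h.le
  have := finite_mulAut Q
  have : Finite σ.Wr := Finite.of_equiv _ SemidirectProduct.equivProd.symm
  exact inferInstance

theorem exists_sylow_eq : ∃ T : Sylow p σ.Model, (T : Subgroup σ.Model) = σ.incl.range := by
  have := finite_of_le h.le
  have := finite_mulAut Q
  have := σ.finite_model
  have hker : σ.proj.ker = h.conjQ.ker.map σ.incl := by
    ext γ
    constructor
    · intro hγ
      obtain ⟨z, rfl⟩ := σ.exists_eq_incl hγ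
      exact ⟨z, z.2, rfl⟩
    · rintro ⟨z, hz, rfl⟩
      exact hz
  have e1 := Subgroup.index_mul_card σ.proj.ker
  rw [hker, Subgroup.card_map_of_injective σ.incl_injective, ← hker, Subgroup.index_ker,
    MonoidHom.range_eq_top.2 σ.proj_surjective, Subgroup.card_top] at e1
  have e2 := Subgroup.index_mul_card σ.incl.range
  have e3 : Nat.card σ.incl.range = Nat.card h.conjQ.range * Nat.card h.conjQ.ker := by
    rw [← Nat.card_congr (MonoidHom.ofInjective σ.incl_injective).toEquiv,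
      ← Subgroup.index_mul_card h.conjQ.ker, Subgroup.index_ker]
  rw [← e1, e3, ← Subgroup.index_mul_card h.conjQ.range] at e2
  have hpos : 0 < Nat.card h.conjQ.range * Nat.card h.conjQ.ker :=
    Nat.mul_pos Nat.card_pos Nat.card_pos
  have hidx : σ.incl.range.index = h.conjQ.range.index :=
    Nat.eq_of_mul_eq_mul_right hpos (by rw [e2]; ring)
  exact ⟨(h.hS.of_surjective σ.incl.rangeRestrict σ.incl.rangeRestrict_surjective).toSylow
    (hidx ▸ (Fact.out : p.Prime).coprime_iff_not_dvd.1 h.coprime_index.symm), rfl⟩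

theorem isModel : F.IsModel p σ.Model σ.incl := by
  refine ⟨σ.finite_model, σ.isRealizedBy, σ.exists_sylow_eq, fun γ hγ => ?_⟩
  set O : Subgroup σ.Model := (Q.subgroupOf S).map σ.incl
  have hOn : O.Normal := ⟨by
    rintro _ ⟨q, hq, rfl⟩ g
    rw [σ.conj_incl g q hq]
    exact ⟨⟨((σ.proj g : MulAut Q) ⟨q, hq⟩ : Q), h.le (SetLike.coe_mem _)⟩,
      SetLike.coe_mem ((σ.proj g : MulAut Q) ⟨q, hq⟩), rfl⟩⟩
  have hOp : IsPGroup p O := (h.hS.to_subgroup _).map _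
  have hOle : O ≤ pCore p σ.Model := le_sSup ⟨hOn, hOp⟩
  refine hOle ?_
  have hproj : σ.proj γ = 1 := by
    refine Subtype.ext (MulEquiv.ext fun x => Subtype.ext ?_)
    have hxm : σ.incl ⟨x, h.le x.2⟩ ∈ O := ⟨_, x.2, rfl⟩
    have e := hγ _ (hOle hxm)
    have e2 : γ * σ.incl ⟨x, h.le x.2⟩ * γ⁻¹ = σ.incl ⟨x, h.le x.2⟩ := by
      rw [← e, mul_inv_cancel_right]
    rw [σ.conj_incl γ ⟨x, h.le x.2⟩ x.2] at e2
    exact congrArg (fun u : S => (u : Ω)) (σ.incl_injective e2)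
  obtain ⟨z, rfl⟩ := σ.exists_eq_incl hproj
  exact ⟨z, (h.ker_mem z), rfl⟩

end Sections

/-- A constrained system has a model. -/
theorem exists_model [Fact p.Prime] (hS : IsPGroup p S) (hF : F.IsConstrained p) :
    ∃ (G : Type u) (_ : Group G) (ι : S →* G), F.IsModel p G ι := by
  obtain ⟨hsat, Q, hn, hc⟩ := hF
  have h : CentricNormal F p Q := ⟨hS, hsat, hn, hc⟩
  obtain ⟨σ⟩ := h.exists_sections
  have := finite_of_le h.le
  have := finite_mulAut Q
  letI := Fintype.ofFinite (CosetsQ h)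
  exact ⟨σ.Model, inferInstance, σ.incl, σ.isModel⟩

end CfsgLib.Fusion
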