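import Mathlib
import Cfsg.Agent.Lib.Fusion.ModelExists
import Cfsg.Agent.Lib.Fusion.TransportGroup

/-!
Uniqueness of models, and automorphisms of a model fixing the Sylow subgroup.
-/

set_option autoImplicit false

namespace CfsgLib.Fusion

open Cfsg Cfsg.FusionSystem

universe u v

variable {Ω : Type u} [Group Ω] {S : Subgroup Ω} [Finite S] {F : FusionSystem S} {p : ℕ}
  [Fact p.Prime] {Q : Subgroup Ω} {G : Type v} [Group G] {ι : S →* G}

/-- A normal `p`-subgroup lies in every Sylow subgroup. -/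
theorem le_sylow_of_normal_pGroup [Finite G] (T : Sylow p G) {N : Subgroup G} (hN : N.Normal)
    (hp : IsPGroup p N) : N ≤ (T : Subgroup G) := by
  obtain ⟨g, hg⟩ := exists_conj_le_sylow T hp
  intro x hx
  have := hg ⟨g⁻¹ * x * g⁻¹⁻¹, hN.conj_mem x hx g⁻¹, rfl⟩
  simpa [mul_assoc] using this

theorem pCore_le_range (hG : F.IsModel p G ι) : pCore p G ≤ ι.range := by
  obtain ⟨hfin, -, ⟨T, hT⟩, -⟩ := hG
  rw [← hT]
  exact le_sylow_of_normal_pGroup T (CfsgLib.Fitting.pCore_normal p)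
    (CfsgLib.Fitting.pCore_isPGroup p)

/-- The image of a normal subgroup of the system is normal in every model. -/
theorem normal_map_of_isModel (hG : F.IsModel p G ι) (hn : F.IsNormal Q) :
    ((Q.subgroupOf S).map ι).Normal := by
  have hOle := pCore_le_range hG
  obtain ⟨hfin, ⟨hinj, hiff⟩, -, hc⟩ := hG
  refine ⟨fun y hy g => ?_⟩
  obtain ⟨q, hq, rfl⟩ := hy
  set O := pCore p G
  have hON : O.Normal := CfsgLib.Fitting.pCore_normal p
  let P : Subgroup Ω := (O.comap ι).map S.subtype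
  have hP : P ≤ S := Subgroup.map_subtype_le _
  have hPm : ∀ x : P, ι ⟨x, hP x.2⟩ ∈ O := by
    rintro ⟨_, u, hu, rfl⟩; exact hu
  choose w hw using fun x : P => hOle (hON.conj_mem _ (hPm x) g)
  let φ : P →* Ω := MonoidHom.mk' (fun x => (w x : Ω)) fun a b => by
    rw [← Subgroup.coe_mul]
    congr 1
    refine hinj ?_
    rw [map_mul, hw, hw, hw,
      show (⟨((a * b : P) : Ω), hP (a * b).2⟩ : S) = ⟨a, hP a.2⟩ * ⟨b, hP b.2⟩ from rfl, map_mul]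
    group
  have hφ : φ ∈ F.Hom P := (hiff P hP φ fun x => (w x).2).2 ⟨g, hw⟩
  obtain ⟨f, hf, hfP, hfQ⟩ := (isNormal_iff.1 hn).2 P _ (isMap_homFun hφ)
  obtain ⟨φ', hφ', hv⟩ := hf
  obtain ⟨g', hg'⟩ := (hiff _ (F.le_of_mem hφ').1 φ' (F.le_of_mem hφ').2).1 hφ'
  have hcen : g'⁻¹ * g ∈ Subgroup.centralizer (O : Set G) := by
    refine mem_centralizer_of_conj_eq fun y hy => ?_
    obtain ⟨u, rfl⟩ := hOle hy
    have huP : (u : Ω) ∈ P := ⟨u, hy, rfl⟩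
    have e1 := hg' ⟨u, Subgroup.mem_sup_left huP⟩
    have e2 : (⟨φ' ⟨u, Subgroup.mem_sup_left huP⟩, (F.le_of_mem hφ').2 _⟩ : S) = w ⟨u, huP⟩ :=
      Subtype.ext ((hv _).trans ((hfP u huP).trans (homFun_apply φ huP)))
    rw [e2, hw] at e1
    have e1' : g * ι u * g⁻¹ = g' * ι u * g'⁻¹ := e1
    calc g'⁻¹ * g * ι u * (g'⁻¹ * g)⁻¹ = g'⁻¹ * (g * ι u * g⁻¹) * g' := by group
      _ = ι u := by rw [e1']; group
  obtain ⟨c, hc'⟩ := hOle (hc hcen)
  have hq' : (c : Ω) * q * (c : Ω)⁻¹ ∈ P ⊔ Q :=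
    Subgroup.mem_sup_right (isMap_mem_of_stronglyClosed (stronglyClosed_of_isNormal hn)
      (isMap_conj le_rfl c.2) q.2 hq)
  have hq'Q : (c : Ω) * q * (c : Ω)⁻¹ ∈ Q :=
    isMap_mem_of_stronglyClosed (stronglyClosed_of_isNormal hn) (isMap_conj le_rfl c.2) q.2 hq
  refine ⟨⟨f ((c : Ω) * q * (c : Ω)⁻¹), hv ⟨_, hq'⟩ ▸ (F.le_of_mem hφ').2 _⟩,
    hfQ.subset ⟨_, hq'Q, rfl⟩, ?_⟩
  have e := hg' ⟨_, hq'⟩
  rw [show (⟨φ' ⟨_, hq'⟩, (F.le_of_mem hφ').2 _⟩ : S)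
    = ⟨f ((c : Ω) * q * (c : Ω)⁻¹), hv ⟨_, hq'⟩ ▸ (F.le_of_mem hφ').2 _⟩ from
      Subtype.ext (hv ⟨_, hq'⟩)] at e
  rw [e, show (⟨(c : Ω) * q * (c : Ω)⁻¹, (F.le_of_mem hφ').1 hq'⟩ : S) = c * q * c⁻¹ from rfl,
    map_mul, map_mul, map_inv, hc']
  group

namespace CentricNormal

variable (h : CentricNormal F p Q)

/-- The centralizer of `Q` in a model is `Z(Q)`. -/
theorem centralizer_le (hG : F.IsModel p G ι) :
    Subgroup.centralizer (((Q.subgroupOf S).map ι : Subgroup G) : Set G)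
      ≤ h.conjQ.ker.map ι := by
  have hOle := pCore_le_range hG
  have hQn := normal_map_of_isModel hG h.hn
  obtain ⟨hfin, ⟨hinj, -⟩, ⟨T, hT⟩, hc⟩ := hG
  set O := pCore p G
  have hOp : IsPGroup p O := CfsgLib.Fitting.pCore_isPGroup p
  have hON : O.Normal := CfsgLib.Fitting.pCore_normal p
  set C := Subgroup.centralizer (((Q.subgroupOf S).map ι : Subgroup G) : Set G)
  have hCn : C.Normal := inferInstance
  have hCr : ∀ x ∈ C, x ∈ ι.range → x ∈ h.conjQ.ker.map ι := by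
    rintro _ hx ⟨u, rfl⟩
    refine ⟨u, ?_, rfl⟩
    rw [SetLike.mem_coe, MonoidHom.mem_ker, h.conjQ_eq_one_iff]
    intro y hy
    have e := hx _ ⟨⟨y, h.le hy⟩, hy, rfl⟩
    rw [← map_mul, ← map_mul] at e
    exact congrArg (fun w : S => (w : Ω)) (hinj e)
  have hkey : ∀ c ∈ C, (orderOf c).Coprime p → c = 1 := by
    intro c hcC hord
    have hcO : c ∈ Subgroup.centralizer (O : Set G) := by
      refine mem_centralizer_of_conj_eq fun x hx => ?_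
      set t := c * x * c⁻¹ * x⁻¹ with ht
      have htO : t ∈ O := O.mul_mem (hON.conj_mem x hx c) (O.inv_mem hx)
      have htC : t ∈ C := by
        rw [ht, show c * x * c⁻¹ * x⁻¹ = c * (x * c⁻¹ * x⁻¹) by group]
        exact C.mul_mem hcC (hCn.conj_mem _ (C.inv_mem hcC) x)
      obtain ⟨z, hz, hze⟩ := hCr t htC (hOle htO)
      have hzQ : t ∈ (Q.subgroupOf S).map ι :=
        ⟨z, h.mem_of_conjQ_eq_one hz, hze⟩
      have hct : c * t = t * c := (hcC t hzQ).symm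
      have hpow : ∀ n : ℕ, c ^ n * x * (c ^ n)⁻¹ = t ^ n * x := by
        intro n
        induction n with
        | zero => simp
        | succ n ih =>
          have hcomm : c * t ^ n = t ^ n * c := (Commute.pow_right hct n).eq
          calc c ^ (n + 1) * x * (c ^ (n + 1))⁻¹ = c * (c ^ n * x * (c ^ n)⁻¹) * c⁻¹ := by
                rw [pow_succ']; group
            _ = c * t ^ n * x * c⁻¹ := by rw [ih]; group
            _ = t ^ n * (c * x * c⁻¹ * x⁻¹) * x := by rw [hcomm]; group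
            _ = t ^ (n + 1) * x := by rw [← ht, pow_succ]
      have h1 := hpow (orderOf c)
      rw [pow_orderOf_eq_one, one_mul, inv_one, mul_one, eq_comm, mul_eq_right] at h1
      obtain ⟨k, hk⟩ := hOp ⟨t, htO⟩
      have hk' : t ^ p ^ k = 1 := congrArg Subtype.val hk
      have t1 : t = 1 := orderOf_eq_one_iff.1 (Nat.eq_one_of_dvd_coprimes (hord.pow_right k)
        (orderOf_dvd_of_pow_eq_one h1) (orderOf_dvd_of_pow_eq_one hk'))
      rw [ht, mul_inv_eq_one] at t1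
      exact t1
    obtain ⟨k, hk⟩ := hOp ⟨c, hc hcO⟩
    exact orderOf_eq_one_iff.1 (Nat.eq_one_of_dvd_coprimes (hord.pow_right k) dvd_rfl
      (orderOf_dvd_of_pow_eq_one (congrArg Subtype.val hk : c ^ p ^ k = 1)))
  have hCp : IsPGroup p C := by
    rintro ⟨c, hc'⟩
    refine ⟨(orderOf c).factorization p, Subtype.ext ?_⟩
    show c ^ p ^ (orderOf c).factorization p = 1
    refine hkey _ (C.pow_mem hc' _) ?_
    have hpos : orderOf c ≠ 0 := (orderOf_pos c).ne'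
    rw [orderOf_pow, Nat.gcd_eq_right (Nat.ordProj_dvd _ _)]
    exact ((Fact.out : p.Prime).coprime_iff_not_dvd.2
      (Nat.not_dvd_ordCompl Fact.out hpos)).symm
  exact fun x hx => hCr x hx (hT ▸ le_sylow_of_normal_pGroup T hCn hCp hx)

/-- The action of a model on `Q`. -/
theorem exists_action (hG : F.IsModel p G ι) :
    ∃ ρ : G →* ↥(F.autGroup Q), (∀ u, ρ (ι u) = h.conjQ u) ∧ Function.Surjective ρ ∧
      (∀ (g : G) (q : S) (hq : (q : Ω) ∈ Q), g * ι q * g⁻¹ =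
        ι ⟨((ρ g : MulAut Q) ⟨q, hq⟩ : Q), h.le (SetLike.coe_mem _)⟩) ∧
      ∀ g, ρ g = 1 → ∃ z ∈ h.conjQ.ker, ι z = g := by
  have hcent := h.centralizer_le hG
  have hQn := normal_map_of_isModel hG h.hn
  obtain ⟨hfin, ⟨hinj, hiff⟩, -, -⟩ := hG
  have hA : ∀ g : G, ∃ a : ↥(F.autGroup Q), ∀ x : Q, g * ι ⟨x, h.le x.2⟩ * g⁻¹
      = ι ⟨((a : MulAut Q) x : Q), h.le (SetLike.coe_mem _)⟩ := by
    intro g
    choose w hw hw' using fun x : Q =>
      hQn.conj_mem _ (⟨⟨x, h.le x.2⟩, x.2, rfl⟩ : ι ⟨x, h.le x.2⟩ ∈ (Q.subgroupOf S).map ι) g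
    let φ : Q →* Ω := MonoidHom.mk' (fun x => (w x : Ω)) fun a b => by
      rw [← Subgroup.coe_mul]
      congr 1
      refine hinj ?_
      rw [map_mul, hw', hw', hw',
        show (⟨((a * b : Q) : Ω), h.le (a * b).2⟩ : S) = ⟨a, h.le a.2⟩ * ⟨b, h.le b.2⟩ from rfl,
        map_mul]
      group
    have hφ : φ ∈ F.Hom Q := (hiff Q h.le φ fun x => (w x).2).2 ⟨g, hw'⟩
    obtain ⟨a, ha⟩ := h.exists_aut (isMap_homFun hφ) le_rfl
    refine ⟨a, fun x => ?_⟩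
    rw [← hw' x]
    congr 1
    refine Subtype.ext ?_
    show (w x : Ω) = ((a : MulAut Q) x : Q)
    rw [← ha x, homFun_coe]
    rfl
  have huniq : ∀ (g : G) (a b : ↥(F.autGroup Q)),
      (∀ x : Q, g * ι ⟨x, h.le x.2⟩ * g⁻¹
        = ι ⟨((a : MulAut Q) x : Q), h.le (SetLike.coe_mem _)⟩) →
      (∀ x : Q, g * ι ⟨x, h.le x.2⟩ * g⁻¹
        = ι ⟨((b : MulAut Q) x : Q), h.le (SetLike.coe_mem _)⟩) → a = b := fun g a b ha hb =>
    Subtype.ext (MulEquiv.ext fun x => Subtype.ext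
      (congrArg (fun w : S => (w : Ω)) (hinj ((ha x).symm.trans (hb x)))))
  choose r hr using hA
  refine ⟨MonoidHom.mk' r fun g g' => huniq (g * g') _ _ (hr _) fun x => ?_, fun u => ?_,
    fun a => ?_, fun g q hq => hr g ⟨q, hq⟩, fun g hg => ?_⟩
  · have e := hr g ((r g' : MulAut Q) x)
    rw [show ι ⟨(((r g' : MulAut Q) x : Q) : Ω), h.le (SetLike.coe_mem _)⟩
      = g' * ι ⟨x, h.le x.2⟩ * g'⁻¹ from (hr g' x).symm] at e
    rw [show g * g' * ι ⟨x, h.le x.2⟩ * (g * g')⁻¹ = g * (g' * ι ⟨x, h.le x.2⟩ * g'⁻¹) * g⁻¹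
      by group, e]
    rfl
  · refine huniq (ι u) _ _ (hr _) fun x => ?_
    rw [← map_inv, ← map_mul, ← map_mul]
    congr 1
  · obtain ⟨φ, hφ, hv⟩ := ((mem_autGroup_iff h.le (a : MulAut Q)).1 a.2).isMap
    obtain ⟨g, hg⟩ := (hiff Q h.le φ (F.le_of_mem hφ).2).1 hφ
    refine ⟨g, huniq g _ _ (hr g) fun x => ?_⟩
    rw [← hg x]
    congr 1
    refine Subtype.ext ?_
    show φ x = _
    rw [hv, autFun_coe]
  · obtain ⟨z, hz, hze⟩ := hcent (show g ∈ Subgroup.centralizer _ from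
      mem_centralizer_of_conj_eq (by
        rintro _ ⟨q, hq, rfl⟩
        have e := hr g ⟨q, hq⟩
        have hg' : r g = 1 := hg
        rw [hg'] at e
        exact e))
    exact ⟨z, hz, hze⟩

/-- The map into the standard model attached to a coherent family of lifts. -/
theorem exists_hom_of_family (σ : Sections h) [Fintype (CosetsQ h)] (hinj : Function.Injective ι)
    (ρ : G →* ↥(F.autGroup Q)) (hρι : ∀ u, ρ (ι u) = h.conjQ u)
    (hρker : ∀ g, ρ g = 1 → ∃ z ∈ h.conjQ.ker, ι z = g)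
    (d : CosetsQ h → G) (hd : ∀ c, ρ (d c) = σ.s c)
    (hdv : ∀ u c, d (h.conjQ u • c) * ι (σ.v u c) = ι u * d c) :
    ∃ (θ : G → CosetsQ h → S) (Θ : G →* σ.Model),
      (∀ g c, ι (θ g c) = (d (ρ g • c))⁻¹ * g * d c) ∧
      (∀ g, σ.proj (Θ g) = ρ g) ∧ (∀ u, Θ (ι u) = σ.incl u) ∧
      ∀ g, ∃ x : σ.frame, (QuotientGroup.mk x : σ.Model) = Θ g ∧ (x : σ.Wr).right = ρ g ∧
        ∀ c, Sections.lf (x : σ.Wr) c = θ g c := by
  have hmem : ∀ g c, ∃ u : S, ι u = (d (ρ g • c))⁻¹ * g * d c := by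
    intro g c
    obtain ⟨m, hm⟩ : (σ.s (ρ g • c))⁻¹ * ρ g * σ.s c ∈ h.conjQ.range := by
      rw [mul_assoc, ← QuotientGroup.eq, ← smul_eq_mul, ← MulAction.Quotient.smul_mk, σ.hs, σ.hs]
    obtain ⟨z, -, hz⟩ := hρker ((ι m)⁻¹ * ((d (ρ g • c))⁻¹ * g * d c)) (by
      rw [map_mul, map_inv, hρι, hm, map_mul, map_mul, map_inv, hd, hd, inv_mul_cancel])
    exact ⟨m * z, by rw [map_mul, hz, mul_inv_cancel_left]⟩
  choose θ hθ using hmem
  have hfr : ∀ g, (⟨fun e => θ g ((ρ g)⁻¹ • e), ρ g⟩ : σ.Wr) ∈ σ.frame := by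
    intro g c
    simp only [Sections.lf, inv_smul_smul]
    rw [← hρι, hθ, map_mul, map_mul, map_inv, hd, hd]
  let Θ₀ : G →* σ.frame := MonoidHom.mk' (fun g => ⟨_, hfr g⟩) fun g g' => by
    refine Subtype.ext (Sections.wr_ext (map_mul ρ g g') fun c => ?_)
    show Sections.lf _ c = Sections.lf (_ * _) c
    rw [Sections.lf_mul]
    simp only [Sections.lf, inv_smul_smul]
    refine hinj ?_
    rw [map_mul, hθ, hθ, hθ, map_mul, mul_smul]
    group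
  refine ⟨θ, (QuotientGroup.mk' σ.cut).comp Θ₀, hθ, fun g => rfl, fun u => ?_,
    fun g => ⟨Θ₀ g, rfl, rfl, fun c => ?_⟩⟩
  · show (QuotientGroup.mk (Θ₀ (ι u)) : σ.Model) = QuotientGroup.mk (σ.toFrame u)
    congr 1
    refine Subtype.ext (Sections.wr_ext (hρι u) fun c => ?_)
    show Sections.lf (⟨fun e => θ (ι u) ((ρ (ι u))⁻¹ • e), ρ (ι u)⟩ : σ.Wr) c = Sections.lf (σ.toWr u) c
    rw [Sections.lf_toWr]
    simp only [Sections.lf, inv_smul_smul]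
    refine hinj ?_
    rw [hθ, hρι, mul_assoc, ← hdv, inv_mul_cancel_left]
  · show Sections.lf (⟨fun e => θ g ((ρ g)⁻¹ • e), ρ g⟩ : σ.Wr) c = θ g c
    simp only [Sections.lf, inv_smul_smul]

theorem exists_family (σ : Sections h) (hG : F.IsModel p G ι) (ρ : G →* ↥(F.autGroup Q))
    (hρι : ∀ u, ρ (ι u) = h.conjQ u)
    (hρQ : ∀ (g : G) (q : S) (hq : (q : Ω) ∈ Q), g * ι q * g⁻¹ =
        ι ⟨((ρ g : MulAut Q) ⟨q, hq⟩ : Q), h.le (SetLike.coe_mem _)⟩) :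
    ∃ d : CosetsQ h → G, (∀ c, ρ (d c) = σ.s c) ∧
      ∀ u c, d (h.conjQ u • c) * ι (σ.v u c) = ι u * d c := by
  obtain ⟨hfin, ⟨hinj, hiff⟩, -, -⟩ := hG
  letI : MulAction S (CosetsQ h) := MulAction.compHom _ h.conjQ
  refine exists_intertwiner (R := S) (fun u c => ι (σ.v u c)) (fun u _ => ι u)
    (fun x y c => by rw [σ.v_mul, map_mul]; rfl) (fun x y _ => map_mul ι x y)
    (fun c m => ρ m = σ.s c) (fun x c m hm => ?_) fun c => ?_
  · show ρ (ι x * m * (ι (σ.v x c))⁻¹) = σ.s (h.conjQ x • c)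
    rw [map_mul, map_mul, map_inv, hρι, hρι, hm, σ.conjQ_v]
    group
  · let U : Subgroup Ω := (MulAction.stabilizer S c).map S.subtype
    have hU : U ≤ S := Subgroup.map_subtype_le _
    obtain ⟨f, ⟨φ, hφ, hφf⟩, hfv⟩ := σ.isMap_v c U hU (by rintro ⟨_, u, hu, rfl⟩; exact hu)
    obtain ⟨g, hg⟩ := (hiff U hU φ (F.le_of_mem hφ).2).1 hφ
    have hgv : ∀ x : U, g * ι ⟨x, hU x.2⟩ * g⁻¹ = ι (σ.v ⟨x, hU x.2⟩ c) := fun x => by
      rw [← hg x]
      congr 1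
      exact Subtype.ext ((hφf x).trans (hfv x))
    have hρg : ρ g = (σ.s c)⁻¹ := by
      refine Subtype.ext (MulEquiv.ext fun x => Subtype.ext ?_)
      have hxU : (x : Ω) ∈ U :=
        ⟨⟨x, h.le x.2⟩, h.smul_eq_of_mem ⟨x, h.le x.2⟩ x.2 c, rfl⟩
      have e := (hρQ g ⟨x, h.le x.2⟩ x.2).symm.trans (hgv ⟨x, hxU⟩)
      have e' := congrArg (fun w : S => (w : Ω)) (hinj e)
      exact e'.trans (σ.v_Q _ x.2 c)
    refine ⟨g⁻¹, by rw [map_inv, hρg, inv_inv], fun x hx => ?_⟩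
    have e := hgv ⟨x, x, hx, rfl⟩
    show ι x * g⁻¹ = g⁻¹ * ι (σ.v x c)
    rw [show (⟨((x : S) : Ω), _⟩ : S) = x from rfl] at e
    rw [← e]
    group

theorem exists_equiv_model (σ : Sections h) [Fintype (CosetsQ h)] (hG : F.IsModel p G ι) :
    ∃ Θ : G ≃* σ.Model, ∀ u, Θ (ι u) = σ.incl u := by
  obtain ⟨ρ, hρι, hρs, hρQ, hρker⟩ := h.exists_action hG
  obtain ⟨d, hd, hdv⟩ := h.exists_family σ hG ρ hρι hρQ
  obtain ⟨θ, Θ, -, hproj, hΘι, -⟩ :=
    h.exists_hom_of_family σ hG.2.1.1 ρ hρι hρker d hd hdv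
  refine ⟨MulEquiv.ofBijective Θ ⟨?_, fun γ => ?_⟩, hΘι⟩
  · refine (injective_iff_map_eq_one _).2 fun g hg => ?_
    obtain ⟨z, -, rfl⟩ := hρker g (by rw [← hproj, hg, map_one])
    rw [hΘι, ← map_one σ.incl] at hg
    rw [σ.incl_injective hg, map_one]
  · obtain ⟨g, hg⟩ := hρs (σ.proj γ)
    obtain ⟨z, hz⟩ := σ.exists_eq_incl (γ := (Θ g)⁻¹ * γ) (by
      rw [map_mul, map_inv, hproj, hg, inv_mul_cancel])
    exact ⟨g * ι z, by rw [map_mul, hΘι, ← hz, mul_inv_cancel_left]⟩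

end CentricNormal

theorem exists_equiv_of_models (hS : IsPGroup p S) (hF : F.IsConstrained p) {G₂ : Type*}
    [Group G₂] {ι₂ : S →* G₂} (h₁ : F.IsModel p G ι) (h₂ : F.IsModel p G₂ ι₂) :
    ∃ φ : G ≃* G₂, ∀ x : S, φ (ι x) = ι₂ x := by
  obtain ⟨hsat, Q, hn, hc⟩ := hF
  have h : CentricNormal F p Q := ⟨hS, hsat, hn, hc⟩
  obtain ⟨σ⟩ := h.exists_sections
  have := finite_of_le h.le
  have := finite_mulAut Q
  letI := Fintype.ofFinite (CosetsQ h)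
  obtain ⟨Θ₁, e₁⟩ := h.exists_equiv_model σ h₁
  obtain ⟨Θ₂, e₂⟩ := h.exists_equiv_model σ h₂
  exact ⟨Θ₁.trans Θ₂.symm, fun x => by
    rw [MulEquiv.trans_apply, e₁, ← e₂, MulEquiv.symm_apply_apply]⟩

theorem exists_center_of_model_aut (hS : IsPGroup p S) (hF : F.IsConstrained p)
    (hG : F.IsModel p G ι) (ψ : G ≃* G) (hψ : ∀ x : S, ψ (ι x) = ι x) :
    ∃ z : S, z ∈ Subgroup.center S ∧ ∀ g : G, ψ g = ι z * g * (ι z)⁻¹ := by
  obtain ⟨hsat, Q, hn, hc⟩ := hF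
  have h : CentricNormal F p Q := ⟨hS, hsat, hn, hc⟩
  obtain ⟨σ⟩ := h.exists_sections
  have := finite_of_le h.le
  have := finite_mulAut Q
  letI := Fintype.ofFinite (CosetsQ h)
  obtain ⟨ρ, hρι, hρs, hρQ, hρker⟩ := h.exists_action hG
  have hinj := hG.2.1.1
  obtain ⟨d, hd, hdv⟩ := h.exists_family σ hG ρ hρι hρQ
  have hρψ : ∀ g, ρ (ψ g) = ρ g := fun g => by
    refine Subtype.ext (MulEquiv.ext fun x => Subtype.ext ?_)
    have e := congrArg ψ (hρQ g ⟨x, h.le x.2⟩ x.2)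
    rw [map_mul, map_mul, map_inv, hψ, hψ, hρQ (ψ g) ⟨x, h.le x.2⟩ x.2] at e
    exact congrArg (fun w : S => (w : Ω)) (hinj e)
  obtain ⟨θ, Θ, hθ, hproj, hΘι, hΘ⟩ := h.exists_hom_of_family σ hinj ρ hρι hρker d hd hdv
  have hd' : ∀ c, ρ (ψ (d c)) = σ.s c := fun c => by rw [hρψ, hd]
  have hdv' : ∀ u c, ψ (d (h.conjQ u • c)) * ι (σ.v u c) = ι u * ψ (d c) := fun u c => by
    have e := congrArg ψ (hdv u c)
    rwa [map_mul, map_mul, hψ, hψ] at e
  obtain ⟨θ', Θ', hθ', hproj', hΘι', hΘ'⟩ :=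
    h.exists_hom_of_family σ hinj ρ hρι hρker (fun c => ψ (d c)) hd' hdv'
  -- the two families differ by an element of the kernel
  choose z hz hze using fun c => hρker ((d c)⁻¹ * ψ (d c)) (by
    rw [map_mul, map_inv, hd, hd', inv_mul_cancel])
  have hVm : (⟨fun c => z c, 1⟩ : σ.Wr) ∈ σ.frame := fun c => by
    show h.conjQ (z ((1 : ↥(F.autGroup Q)) • c)) = _
    rw [MonoidHom.mem_ker.1 (hz _), one_smul, mul_one, inv_mul_cancel]
  obtain ⟨z₀, hz₀⟩ := σ.exists_eq_incl (γ := QuotientGroup.mk ⟨_, hVm⟩) rfl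
  have hconj : ∀ g, Θ g * σ.incl z₀ = σ.incl z₀ * Θ' g := by
    intro g
    obtain ⟨x, hx, hxr, hxl⟩ := hΘ g
    obtain ⟨x', hx', hxr', hxl'⟩ := hΘ' g
    rw [← hz₀, ← hx, ← hx', ← QuotientGroup.mk_mul, ← QuotientGroup.mk_mul]
    congr 1
    refine Subtype.ext (Sections.wr_ext ?_ fun c => ?_)
    · show (x : σ.Wr).right * 1 = 1 * (x' : σ.Wr).right
      rw [mul_one, one_mul, hxr, hxr']
    show Sections.lf ((x : σ.Wr) * ⟨fun c => z c, 1⟩) c
      = Sections.lf ((⟨fun c => z c, 1⟩ : σ.Wr) * (x' : σ.Wr)) c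
    rw [Sections.lf_mul, Sections.lf_mul, hxl', hxr']
    simp only [one_smul, hxl]
    show θ g c * z ((1 : ↥(F.autGroup Q)) • c) = z ((1 : ↥(F.autGroup Q)) • ρ g • c) * θ' g c
    rw [one_smul, one_smul]
    refine hinj ?_
    rw [map_mul, map_mul, hθ, hθ', hze, hze]
    group
  have hΘinj : Function.Injective Θ := (injective_iff_map_eq_one _).2 fun g hg => by
    obtain ⟨w, -, rfl⟩ := hρker g (by rw [← hproj, hg, map_one])
    rw [hΘι, ← map_one σ.incl] at hg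
    rw [σ.incl_injective hg, map_one]
  -- `Θ' ∘ ψ = Θ`
  have hψΘ : ∀ g, Θ' (ψ g) = Θ g := by
    intro g
    obtain ⟨x, hx, hxr, hxl⟩ := hΘ g
    obtain ⟨x', hx', hxr', hxl'⟩ := hΘ' (ψ g)
    rw [← hx, ← hx']
    congr 1
    refine Subtype.ext (Sections.wr_ext (hxr'.trans ((hρψ g).trans hxr.symm)) fun c => ?_)
    rw [hxl', hxl]
    refine hinj ?_
    rw [hθ', hρψ, ← map_inv, ← map_mul, ← map_mul, ← hθ, hψ]
  have hmain : ∀ g, ψ g = ι z₀ * g * (ι z₀)⁻¹ := fun g => hΘinj (by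
    have e := hconj (ψ g)
    rw [hψΘ] at e
    rw [map_mul, map_mul, map_inv, hΘι, ← e, mul_inv_cancel_right])
  refine ⟨z₀, Subgroup.mem_center_iff.2 fun u => hinj ?_, hmain⟩
  have e := (hψ u).symm.trans (hmain (ι u))
  rw [eq_mul_inv_iff_mul_eq] at e
  rw [map_mul, map_mul, e]

end CfsgLib.Fusion
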