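import Cfsg.Agent.Lib.Fusion.KNormalizer
import Cfsg.Agent.Lib.Fusion.Normal

/-!
Normalizer and centralizer systems are saturated.
-/

set_option autoImplicit false

namespace CfsgLib.Fusion

open Cfsg Cfsg.FusionSystem

variable {Ω : Type*} [Group Ω] {S : Subgroup Ω} {F : FusionSystem S} {Q : Subgroup Ω}

theorem isMap_normalizerSystem_iff {E : FusionSystem (normalizerIn S Q)}
    (hE : F.IsNormalizerSystem Q E) {P : Subgroup Ω} {f : Ω → Ω} :
    IsMap E P f ↔ P ≤ normalizerIn S Q ∧ (∀ x ∈ P, f x ∈ normalizerIn S Q) ∧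
      ∃ g, IsMap F (P ⊔ Q) g ∧ (∀ x ∈ P, g x = f x) ∧ g '' (Q : Set Ω) = Q := by
  constructor
  · rintro ⟨φ, hφ, hv⟩
    rw [hE] at hφ
    obtain ⟨-, hP, hv', ψ, hψ, hag, hQ⟩ := hφ
    refine ⟨hP, fun x hx => hv ⟨x, hx⟩ ▸ hv' _, homFun ψ, isMap_homFun hψ, fun x hx => ?_,
      (map_subgroupOf_eq_iff le_sup_right ψ fun x => (homFun_coe ψ x).symm).1 hQ⟩
    rw [homFun_apply ψ (Subgroup.mem_sup_left hx), ← hv ⟨x, hx⟩, ← hag ⟨x, hx⟩]
    rfl
  · rintro ⟨hP, hv, g, hg, hag, hQ⟩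
    obtain ⟨φ, hφ, hφv⟩ := (hg.mono le_sup_left).congr hag
    obtain ⟨ψ, hψ, hψv⟩ := hg
    refine ⟨φ, ?_, hφv⟩
    rw [hE]
    refine ⟨hφ, hP, fun x => hφv x ▸ hv x x.2, ψ, hψ, fun x => ?_,
      (map_subgroupOf_eq_iff le_sup_right ψ hψv).2 hQ⟩
    rw [hψv, hφv]
    exact hag x x.2

theorem isMap_centralizerSystem_iff {E : FusionSystem (centralizerIn S Q)}
    (hE : F.IsCentralizerSystem Q E) {P : Subgroup Ω} {f : Ω → Ω} :
    IsMap E P f ↔ P ≤ centralizerIn S Q ∧ (∀ x ∈ P, f x ∈ centralizerIn S Q) ∧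
      ∃ g, IsMap F (P ⊔ Q) g ∧ (∀ x ∈ P, g x = f x) ∧ ∀ x ∈ Q, g x = x := by
  constructor
  · rintro ⟨φ, hφ, hv⟩
    rw [hE] at hφ
    obtain ⟨-, hP, hv', ψ, hψ, hag, hQ⟩ := hφ
    refine ⟨hP, fun x hx => hv ⟨x, hx⟩ ▸ hv' _, homFun ψ, isMap_homFun hψ, fun x hx => ?_,
      fun x hx => ?_⟩
    · rw [homFun_apply ψ (Subgroup.mem_sup_left hx), ← hv ⟨x, hx⟩, ← hag ⟨x, hx⟩]
      rfl
    · rw [homFun_apply ψ (Subgroup.mem_sup_right hx)]
      exact hQ ⟨x, hx⟩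
  · rintro ⟨hP, hv, g, hg, hag, hQ⟩
    obtain ⟨φ, hφ, hφv⟩ := (hg.mono le_sup_left).congr hag
    obtain ⟨ψ, hψ, hψv⟩ := hg
    refine ⟨φ, ?_, hφv⟩
    rw [hE]
    refine ⟨hφ, hP, fun x => hφv x ▸ hv x x.2, ψ, hψ, fun x => ?_, fun x => ?_⟩
    · rw [hψv, hφv]
      exact hag x x.2
    · rw [hψv]
      exact hQ x x.2

variable [Finite S] {p : ℕ} [Fact p.Prime]

theorem isSaturated_normalizerSystem (hS : IsPGroup p S) (hF : F.IsSaturated p)
    (hQ : F.IsFullyNormalized Q) {E : FusionSystem (normalizerIn S Q)}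
    (hE : F.IsNormalizerSystem Q E) : E.IsSaturated p := by
  have hQS := hQ.1
  refine isSaturated_kNormalizer (K := (⊤ : Subgroup (MulAut Q))) hS hF hQS ?_ ?_ ?_
  · ext g
    constructor
    · intro hg
      refine ⟨hg, conjAut Q hg.2, Subgroup.mem_top _, fun x hx => ?_⟩
      show g * x * g⁻¹ = autFun (conjAut Q hg.2) x
      rw [autFun_apply _ hx, conjAut_apply]
    · exact fun hg => hg.1
  · intro P f
    rw [isMap_normalizerSystem_iff hE]
    refine ⟨fun ⟨h1, h2, g, hg, hag, hQg⟩ => ⟨h1, h2, g, hg, hag, ?_⟩,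
      fun ⟨h1, h2, g, hg, hag, hadm⟩ => ⟨h1, h2, g, hg, hag, hadm.image_eq⟩⟩
    obtain ⟨k, -, hk⟩ := exists_mem_autGroup (⟨hg.mono le_sup_right, hQg⟩ : IsIso F Q Q g)
    exact ⟨k, Subgroup.mem_top k, fun x hx => by rw [autFun_apply k hx, hk]⟩
  · intro Q' f hf
    obtain ⟨h, hh, hiso, -, -⟩ := exists_map_normalizerIn hS
      (isFullyAutomized_of_isFullyNormalized hS hF hQ)
      (isReceptive_of_isFullyNormalized hS hF hQ) (isConj_symm hf.isConj)
    refine ⟨h, hh.mono (sup_le (fun g hg => hg.1) (le_normalizerIn hf.le_right)), ?_⟩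
    obtain ⟨k, -, hk⟩ := exists_mem_autGroup (hf.comp hiso)
    exact ⟨k, Subgroup.mem_top k, fun x hx => by rw [autFun_apply k hx, hk]⟩

theorem isSaturated_centralizerSystem (hS : IsPGroup p S) (hF : F.IsSaturated p)
    (hQ : F.IsFullyCentralized Q) {E : FusionSystem (centralizerIn S Q)}
    (hE : F.IsCentralizerSystem Q E) : E.IsSaturated p := by
  have hQS := hQ.1
  refine isSaturated_kNormalizer (K := (⊥ : Subgroup (MulAut Q))) hS hF hQS ?_ ?_ ?_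
  · ext g
    constructor
    · intro hg
      refine ⟨centralizerIn_le_normalizerIn S Q hg, 1, Subgroup.one_mem _, fun x hx => ?_⟩
      show g * x * g⁻¹ = autFun 1 x
      rw [autFun_apply _ hx, conj_eq_self_of_mem_centralizer hg.2 hx]
      rfl
    · rintro ⟨hg, k, hk, hkv⟩
      rw [Subgroup.mem_bot] at hk
      subst hk
      refine ⟨hg.1, mem_centralizer_of_conj_eq fun x hx => ?_⟩
      rw [show g * x * g⁻¹ = autFun 1 x from hkv x hx, autFun_apply _ hx]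
      rfl
  · intro P f
    rw [isMap_centralizerSystem_iff hE]
    refine ⟨fun ⟨h1, h2, g, hg, hag, hQg⟩ => ⟨h1, h2, g, hg, hag, 1, Subgroup.one_mem _,
      fun x hx => by rw [hQg x hx, autFun_apply _ hx]; rfl⟩,
      fun ⟨h1, h2, g, hg, hag, k, hk, hkv⟩ => ⟨h1, h2, g, hg, hag, fun x hx => ?_⟩⟩
    rw [Subgroup.mem_bot] at hk
    rw [hkv x hx, hk, autFun_apply _ hx]
    rfl
  · intro Q' f hf
    obtain ⟨f', hf', hf'1, -⟩ := hf.exists_symm
    obtain ⟨h, hh, hv⟩ :=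
      (isReceptive_iff.1 (isReceptive_of_isFullyCentralized hS hF hQ)).2 Q' f' hf'
    refine ⟨h, hh.mono (sup_le (fun g hg => centralizerIn_le_nPhi Q' f' ?_) (le_nPhi hf'.isMap)),
      1, Subgroup.one_mem _, fun x hx => ?_⟩
    · obtain ⟨hg1, k, hk, hkv⟩ := hg
      rw [Subgroup.mem_bot] at hk
      subst hk
      refine ⟨hg1.1, mem_centralizer_of_conj_eq fun y hy => ?_⟩
      obtain ⟨x, hx, rfl⟩ := hf.surj hy
      rw [hkv x hx, autFun_apply _ hx]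
      rfl
    · show h (f x) = autFun 1 x
      rw [hv _ (hf.mem hx), hf'1 x hx, autFun_apply _ hx]
      rfl

end CfsgLib.Fusion
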