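import Mathlib
import Cfsg.Agent.Lib.Fusion.NormalizerSaturated
import Cfsg.Agent.Lib.Fusion.ModelUnique

/-!
Normalizer systems of fully normalized centric subgroups; models at radical subgroups.
-/

set_option autoImplicit false

namespace CfsgLib.Fusion

open Cfsg Cfsg.FusionSystem

universe u v

variable {Ω : Type u} [Group Ω] {S : Subgroup Ω} [Finite S] {F : FusionSystem S} {p : ℕ}
  [Fact p.Prime] {R : Subgroup Ω} {E : FusionSystem (normalizerIn S R)}

omit [Fact p.Prime] in
theorem isNormal_normalizerSystem (hR : R ≤ S) (hE : F.IsNormalizerSystem R E) : E.IsNormal R := by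
  refine isNormal_iff.2 ⟨le_normalizerIn hR, fun P f hf => ?_⟩
  obtain ⟨hP, hfN, g, hg, hgf, hgR⟩ := (isMap_normalizerSystem_iff hE).1 hf
  refine ⟨g, (isMap_normalizerSystem_iff hE).2
    ⟨sup_le hP (le_normalizerIn hR), fun x hx => ?_, g, ?_, fun y _ => rfl, hgR⟩, hgf, hgR⟩
  · exact hg.mem_normalizerIn le_sup_right ⟨hg.mono le_sup_right, hgR⟩ hx
      ((sup_le hP (le_normalizerIn hR) : P ⊔ R ≤ normalizerIn S R) hx).2
  · rw [sup_assoc, sup_idem]; exact hg

omit [Fact p.Prime] in
theorem autGroup_normalizerSystem (hR : R ≤ S) (hE : F.IsNormalizerSystem R E) :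
    E.autGroup R = F.autGroup R := by
  ext α
  rw [mem_autGroup_iff (le_normalizerIn hR), mem_autGroup_iff hR]
  constructor
  · intro h
    obtain ⟨-, -, g, hg, hgf, -⟩ := (isMap_normalizerSystem_iff hE).1 h.isMap
    exact ⟨(hg.mono le_sup_left).congr hgf, h.image_eq⟩
  · intro h
    refine ⟨(isMap_normalizerSystem_iff hE).2 ⟨le_normalizerIn hR,
      fun x hx => le_normalizerIn hR (h.mem hx), autFun α, ?_, fun x _ => rfl, h.image_eq⟩,
      h.image_eq⟩
    rw [sup_idem]; exact h.isMap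

theorem centricNormal_normalizerSystem (hS : IsPGroup p S) (hF : F.IsSaturated p)
    (hRn : F.IsFullyNormalized R) (hRc : F.IsCentric R) (hE : F.IsNormalizerSystem R E) :
    @CentricNormal Ω _ (normalizerIn S R) E p R := by
  have := finite_of_le (S := S) (P := normalizerIn S R) inf_le_left
  have hn := isNormal_normalizerSystem hRn.1 hE
  refine ⟨hS.to_le inf_le_left, isSaturated_normalizerSystem hS hF hRn hE, hn,
    le_normalizerIn hRn.1, fun R' hR' => ?_⟩
  obtain ⟨f, hf⟩ := isConj_iff.1 hR'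
  have he : R' = R := SetLike.coe_injective (hf.image_eq.symm.trans
    (image_eq_of_mem (le_normalizerIn hRn.1) hf.isMap le_rfl fun x hx =>
      isMap_mem_of_stronglyClosed (stronglyClosed_of_isNormal hn) hf.isMap hx hx))
  rw [he]
  exact fun x hx => hRc.2 R (isConj_refl hRn.1) ⟨(inf_le_left : normalizerIn S R ≤ S) hx.1, hx.2⟩

theorem pCore_model_eq (hS : IsPGroup p S) (hF : F.IsSaturated p) (hRn : F.IsFullyNormalized R)
    (hRc : F.IsCentric R) (hRr : F.IsRadical p R) (hE : F.IsNormalizerSystem R E)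
    {G : Type v} [Group G] {ι : ↥(normalizerIn S R) →* G} (hG : E.IsModel p G ι) :
    (pCore p G : Subgroup G) = (R.subgroupOf (normalizerIn S R)).map ι := by
  have := finite_of_le (S := S) (P := normalizerIn S R) inf_le_left
  have h := centricNormal_normalizerSystem hS hF hRn hRc hE
  obtain ⟨ρ, hρι, hρs, -, hρker⟩ := h.exists_action hG
  have : Finite G := hG.1
  refine le_antisymm (fun g hg => ?_)
    (CfsgLib.Fitting.le_pCore (normal_map_of_isModel hG h.hn) ((h.hS.to_subgroup _).map _))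
  have h1 : ρ g ∈ pCore p ↥(E.autGroup R) :=
    CfsgLib.Fitting.le_pCore (N := (pCore p G).map ρ)
      ((CfsgLib.Fitting.pCore_normal p).map ρ hρs) ((CfsgLib.Fitting.pCore_isPGroup p).map ρ)
      ⟨g, hg, rfl⟩
  have hAeq := autGroup_normalizerSystem (F := F) hRn.1 hE
  have h2 : ((ρ g : ↥(E.autGroup R)) : MulAut R) ∈
      (pCore p ↥(F.autGroup R)).map (F.autGroup R).subtype := by
    rw [← hAeq]; exact ⟨ρ g, h1, rfl⟩
  rw [hRr.2] at h2
  obtain ⟨r, hr, hrv⟩ := (mem_inn_iff _).1 h2
  set u : ↥(normalizerIn S R) := ⟨r, le_normalizerIn hRn.1 hr⟩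
  obtain ⟨z, hz, hze⟩ := hρker ((ι u)⁻¹ * g) (by
    rw [map_mul, map_inv, hρι, inv_mul_eq_one]
    exact Subtype.ext (MulEquiv.ext fun x => Subtype.ext (hrv x).symm))
  refine ⟨u * z, ?_, by rw [map_mul, hze, mul_inv_cancel_left]⟩
  exact R.mul_mem hr (h.mem_of_conjQ_eq_one hz)

end CfsgLib.Fusion
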