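import Mathlib
import Cfsg.Agent.Lib.Fusion.RadicalNormalizer
import Cfsg.Agent.Lib.Fusion.KNormalizer
import Cfsg.Agent.Lib.Fusion.Model
import Cfsg.Agent.Lib.Fusion.RadicalExt

/-!
The model of a two-subgroup stabiliser system embeds in the model at the join of the two subgroups.
-/

set_option autoImplicit false

namespace CfsgLib.Fusion

open Cfsg Cfsg.FusionSystem

universe u v

section Realized

variable {Ω G : Type*} [Group Ω] [Group G] {S : Subgroup Ω} {F : FusionSystem S} {ι : S →* G}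

theorem homExt_mul (ι : S →* G) {x y : Ω} (hx : x ∈ S) (hy : y ∈ S) :
    homExt ι (x * y) = homExt ι x * homExt ι y := by
  rw [homExt_apply ι hx, homExt_apply ι hy, homExt_apply ι (S.mul_mem hx hy), ← map_mul]
  rfl

theorem homExt_inj (h : Function.Injective ι) {x y : Ω} (hx : x ∈ S) (hy : y ∈ S)
    (e : homExt ι x = homExt ι y) : x = y := by
  rw [homExt_apply ι hx, homExt_apply ι hy] at e
  exact congrArg Subtype.val (h e)

theorem exists_conj_of_isMap (h : F.IsRealizedBy ι) {P : Subgroup Ω} {f : Ω → Ω}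
    (hf : IsMap F P f) : ∃ g : G, ∀ x ∈ P, homExt ι (f x) = g * homExt ι x * g⁻¹ := by
  obtain ⟨φ, hφ, hv⟩ := hf
  obtain ⟨g, hg⟩ := (h.2 P (F.le_of_mem hφ).1 φ (F.le_of_mem hφ).2).1 hφ
  refine ⟨g, fun x hx => ?_⟩
  rw [← hv ⟨x, hx⟩, homExt_apply ι ((F.le_of_mem hφ).1 hx), homExt_apply ι ((F.le_of_mem hφ).2 _)]
  exact hg ⟨x, hx⟩

theorem isMap_of_conj (h : F.IsRealizedBy ι) {P : Subgroup Ω} {f : Ω → Ω} (hP : P ≤ S)
    (hf : ∀ x ∈ P, f x ∈ S) {g : G}
    (hg : ∀ x ∈ P, homExt ι (f x) = g * homExt ι x * g⁻¹) : IsMap F P f := by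
  have hmul : ∀ a b : P, f ((a * b : P) : Ω) = f a * f b := fun a b => by
    refine homExt_inj h.1 (hf _ (a * b).2) (S.mul_mem (hf _ a.2) (hf _ b.2)) ?_
    rw [hg _ (a * b).2, homExt_mul ι (hf _ a.2) (hf _ b.2), hg _ a.2, hg _ b.2, Subgroup.coe_mul,
      homExt_mul ι (hP a.2) (hP b.2)]
    group
  refine ⟨MonoidHom.mk' (fun x : P => f x) hmul, ?_, fun x => rfl⟩
  refine (h.2 P hP _ fun x => hf x x.2).2 ⟨g, fun x => ?_⟩
  have := hg x x.2
  rwa [homExt_apply ι (hP x.2), homExt_apply ι (hf x x.2)] at this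

end Realized

/-- A coprime automorphism fixing a subgroup that contains its centralizer is trivial. -/
theorem fixed_of_coprime_of_centralizer_le {G : Type*} [Group G] [Finite G] {p : ℕ}
    [Fact p.Prime] {U B : Subgroup G} (hU : IsPGroup p U) {x : G}
    (hx : x ∈ Subgroup.normalizer (U : Set G)) (hord : (orderOf x).Coprime p) (hBU : B ≤ U)
    (hxB : ∀ b ∈ B, x * b = b * x)
    (hC : ∀ d ∈ U, d ∈ Subgroup.centralizer (B : Set G) → d ∈ B) :
    ∀ y ∈ U, x * y = y * x := by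
  let X : Subgroup G := U ⊓ Subgroup.centralizer ({x} : Set G)
  have hBX : B ≤ X := fun b hb => ⟨hBU hb, fun z hz => by rw [Set.mem_singleton_iff.1 hz]; exact hxB b hb⟩
  rcases eq_or_ne X U with he | hne
  · intro y hy
    rw [← he] at hy
    exact hy.2 x rfl
  exfalso
  obtain ⟨n, hn, hnX⟩ := SetLike.exists_of_lt (lt_normalizerIn hU inf_le_left hne)
  have hxn : ∀ y ∈ U, x * y * x⁻¹ ∈ U := fun y hy => conj_mem_of_mem_normalizer hx hy
  have hfix : ∀ y ∈ X, x * y * x⁻¹ = y := fun y hy => by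
    rw [hy.2 x rfl, mul_inv_cancel_right]
  set d := n⁻¹ * (x * n * x⁻¹) with hd
  have hdU : d ∈ U := U.mul_mem (U.inv_mem hn.1) (hxn n hn.1)
  have hdB : d ∈ B := by
    refine hC d hdU (mem_centralizer_of_conj_eq fun b hb => ?_)
    have hnb : n * b * n⁻¹ ∈ X := conj_mem_of_mem_normalizer hn.2 (hBX hb)
    have e1 : x⁻¹ * b * x = b := by
      rw [mul_assoc, ← hxB b hb, inv_mul_cancel_left]
    calc d * b * d⁻¹ = n⁻¹ * (x * (n * (x⁻¹ * b * x) * n⁻¹) * x⁻¹) * n := by rw [hd]; group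
      _ = b := by rw [e1, hfix _ hnb]; group
  have hpow : ∀ k : ℕ, x ^ k * n * (x ^ k)⁻¹ = n * d ^ k := by
    intro k
    induction k with
    | zero => simp
    | succ k ih =>
      calc x ^ (k + 1) * n * (x ^ (k + 1))⁻¹ = x * (x ^ k * n * (x ^ k)⁻¹) * x⁻¹ := by
            rw [pow_succ']; group
        _ = (x * n * x⁻¹) * (x * d ^ k * x⁻¹) := by rw [ih]; group
        _ = n * d * d ^ k := by
            rw [hfix _ (X.pow_mem (hBX hdB) k), hd]; group
        _ = n * d ^ (k + 1) := by rw [pow_succ', mul_assoc]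
  have h1 := hpow (orderOf x)
  rw [pow_orderOf_eq_one, one_mul, inv_one, mul_one, left_eq_mul] at h1
  obtain ⟨j, hj⟩ := hU ⟨d, hdU⟩
  have hj' : d ^ p ^ j = 1 := congrArg Subtype.val hj
  have hd1 : d = 1 := by
    exact orderOf_eq_one_iff.1 (Nat.eq_one_of_dvd_coprimes (Nat.Coprime.pow_right j hord)
      (orderOf_dvd_of_pow_eq_one h1) (orderOf_dvd_of_pow_eq_one hj'))
  refine hnX ⟨hn.1, fun z hz => ?_⟩
  rw [Set.mem_singleton_iff.1 hz]
  rw [hd, inv_mul_eq_one, eq_comm, mul_inv_eq_iff_eq_mul] at hd1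
  exact hd1

/-- A group all whose elements of order prime to `p` are trivial is a `p`-group. -/
theorem isPGroup_of_coprime_trivial {G : Type*} [Group G] [Finite G] {p : ℕ} [Fact p.Prime]
    {C : Subgroup G} (h : ∀ x ∈ C, (orderOf x).Coprime p → x = 1) : IsPGroup p C := by
  rintro ⟨x, hx⟩
  obtain ⟨k, m, hpm, hkm⟩ := Nat.exists_eq_pow_mul_and_not_dvd (orderOf_pos x).ne' p
    (Fact.out : p.Prime).ne_one
  refine ⟨k, Subtype.ext (h _ (C.pow_mem hx _) ?_)⟩
  show (orderOf (x ^ p ^ k)).Coprime p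
  rw [orderOf_pow_of_dvd (pow_ne_zero k (Fact.out : p.Prime).ne_zero) (hkm ▸ dvd_mul_right _ _),
    hkm, Nat.mul_div_cancel_left _ (pow_pos (Fact.out : p.Prime).pos k)]
  exact ((Fact.out : p.Prime).coprime_iff_not_dvd.2 hpm).symm

variable {Ω : Type u} [Group Ω] {S : Subgroup Ω} [Finite S] {F : FusionSystem S} {p : ℕ}
  [Fact p.Prime]

/-- The maps fixing `A` and `B`, acting on `A` through `K`. -/
def StabAdm {A : Subgroup Ω} (K : Subgroup (MulAut A)) (B : Subgroup Ω) (g : Ω → Ω) : Prop :=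
  g '' (A : Set Ω) = A ∧ g '' (B : Set Ω) = B ∧ KAdm K g

variable {A B W : Subgroup Ω} {K : Subgroup (MulAut A)}

omit [Finite S] [Fact p.Prime] in
theorem StabAdm.mem {h : Ω → Ω} (hs : StabAdm K B h) (hh : IsMap F (A ⊔ B) h) :
    ∀ x ∈ A ⊔ B, h x ∈ A ⊔ B := by
  intro x hx
  rw [Subgroup.sup_eq_closure] at hx
  induction hx using Subgroup.closure_induction with
  | mem y hy =>
    rcases hy with hy | hy
    · exact Subgroup.mem_sup_left (hs.1.subset ⟨y, hy, rfl⟩)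
    · exact Subgroup.mem_sup_right (hs.2.1.subset ⟨y, hy, rfl⟩)
  | one => rw [hh.map_one]; exact Subgroup.one_mem _
  | mul a b ha hb iha ihb =>
    rw [← Subgroup.sup_eq_closure] at ha hb
    rw [hh.map_mul ha hb]; exact Subgroup.mul_mem _ iha ihb
  | inv a ha iha =>
    rw [← Subgroup.sup_eq_closure] at ha
    rw [hh.map_inv ha]; exact Subgroup.inv_mem _ iha

omit [Finite S] [Fact p.Prime] in
theorem StabAdm.comp {g h : Ω → Ω} (hg : StabAdm K B g) (hh : StabAdm K B h) :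
    StabAdm K B (h ∘ g) :=
  ⟨by rw [Set.image_comp, hg.1, hh.1], by rw [Set.image_comp, hg.2.1, hh.2.1],
    hg.2.2.comp hh.2.2⟩

omit [Finite S] [Fact p.Prime] in
theorem StabAdm.congr {g h : Ω → Ω} (hg : StabAdm K B g) (e : ∀ x ∈ A ⊔ B, g x = h x) :
    StabAdm K B h := by
  refine ⟨?_, ?_, hg.2.2.congr fun x hx => e x (Subgroup.mem_sup_left hx)⟩
  · rw [← Set.image_congr fun x hx => e x (Subgroup.mem_sup_left hx)]; exact hg.1
  · rw [← Set.image_congr fun x hx => e x (Subgroup.mem_sup_right hx)]; exact hg.2.1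

/-- The model of the stabiliser of `A` and `B` is a subgroup of the model at `A ⊔ B`. -/
theorem exists_embedding_stabilizer_model (hS : IsPGroup p S) (hF : F.IsSaturated p)
    (hA : A ≤ S) (hBW : B ≤ W)
    (hW : ∀ w, w ∈ W ↔ w ∈ S ∧ StabAdm K B (fun x => w * x * w⁻¹))
    (hc : F.IsCentric (A ⊔ B))
    (hCB : ∀ x ∈ normalizerIn S A, x ∈ Subgroup.centralizer (B : Set Ω) → x ∈ B)
    (hAn : B ≤ normalizerIn S A)
    (hmax : ∀ (f : Ω → Ω) (Y : Subgroup Ω), IsMap F (W ⊔ (A ⊔ B)) f → Y ≤ S →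
      (∀ y ∈ Y, ∃ h, IsMap F (A ⊔ B) h ∧ StabAdm K B h ∧
        ∀ x ∈ A ⊔ B, y * f x * y⁻¹ = f (h x)) → Nat.card Y ≤ Nat.card W)
    (M : FusionSystem W)
    (hM : ∀ P f, IsMap M P f ↔ P ≤ W ∧ (∀ x ∈ P, f x ∈ W) ∧
      ∃ g, IsMap F (P ⊔ (A ⊔ B)) g ∧ (∀ x ∈ P, g x = f x) ∧ StabAdm K B g)
    {L : Type v} [Group L] {ι : W →* L} (hL : M.IsModel p L ι) :
    ∃ U' : Subgroup Ω, F.IsFullyNormalized U' ∧ F.IsCentric U' ∧ F.IsConj (A ⊔ B) U' ∧
      ∃ (N : FusionSystem (normalizerIn S U')) (G : Type u) (_ : Group G)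
        (ι' : ↥(normalizerIn S U') →* G),
        F.IsNormalizerSystem U' N ∧ N.IsModel p G ι' ∧
        ∃ e : L →* G, Function.Injective e := by
  have hWS : W ≤ S := fun w hw => ((hW w).1 hw).1
  have hBS : B ≤ S := hBW.trans hWS
  have hUS : A ⊔ B ≤ S := sup_le hA hBS
  have hWn : W ≤ normalizerIn S (A ⊔ B) := fun w hw => ⟨hWS hw,
    mem_normalizer_of_conj_mem hUS
      (((hW w).1 hw).2.mem (isMap_conj (F := F) hUS (hWS hw)))⟩
  have hUn : A ⊔ B ≤ normalizerIn S (A ⊔ B) := le_normalizerIn hUS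
  obtain ⟨U', hUU', hU'⟩ := exists_isFullyNormalized (F := F) hUS
  obtain ⟨α, hα, hαi, hαN, -⟩ := exists_map_normalizerIn hS
    (isFullyAutomized_of_isFullyNormalized hS hF hU')
    (isReceptive_of_isFullyNormalized hS hF hU') hUU'
  have hU'c := isCentric_of_isConj hc hUU'
  obtain ⟨E, hE⟩ : ∃ E, F.IsNormalizerSystem U' E :=
    ⟨normalizerSystem F U' hU'.1, fun _ => rfl⟩
  have hCN := centricNormal_normalizerSystem hS hF hU' hU'c hE
  have := finite_of_le (S := S) (P := normalizerIn S U') inf_le_left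
  have := finite_of_le hWS
  have := finite_of_le hUS
  obtain ⟨G, _, ι', hG⟩ := exists_model hCN.hS
    (⟨hCN.hF, U', hCN.hn, hCN.hc⟩ : E.IsConstrained p)
  have : Finite G := hG.1
  obtain ⟨T₀, hT₀⟩ := hG.2.2.1
  have hU'T : U' ≤ normalizerIn S U' := le_normalizerIn hU'.1
  have hinj := hG.2.1.1
  -- the embedding of `N_S(A ⊔ B)` in the model
  set q : Ω → G := fun x => homExt ι' (α x) with hq
  have hqmul : ∀ {x y : Ω}, x ∈ normalizerIn S (A ⊔ B) → y ∈ normalizerIn S (A ⊔ B) →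
      q (x * y) = q x * q y := by
    intro x y hx hy
    show homExt ι' (α (x * y)) = _
    rw [hα.map_mul hx hy, homExt_mul ι' (hαN x hx) (hαN y hy)]
  have hqinj : ∀ {x y : Ω}, x ∈ normalizerIn S (A ⊔ B) → y ∈ normalizerIn S (A ⊔ B) →
      q x = q y → x = y := fun {x y} hx hy e =>
    hα.injOn hx hy (homExt_inj hinj (hαN x hx) (hαN y hy) e)
  let j : W →* G := MonoidHom.mk' (fun w => q w) fun a b => hqmul (hWn a.2) (hWn b.2)
  have hjinj : Function.Injective j := fun a b e => Subtype.ext (hqinj (hWn a.2) (hWn b.2) e)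
  have hαsymm := hαi.exists_symm
  obtain ⟨β, hβ, hβ1, hβ2⟩ := hαsymm
  -- the stabiliser inside the model
  let Hset : Set G := {γ | ∃ h, IsMap F (A ⊔ B) h ∧ StabAdm K B h ∧
    ∀ x ∈ A ⊔ B, γ * q x * γ⁻¹ = q (h x)}
  have hmulH : ∀ {a b : G}, a ∈ Hset → b ∈ Hset → a * b ∈ Hset := by
    rintro a b ⟨ha, hha, hsa, hva⟩ ⟨hb, hhb, hsb, hvb⟩
    refine ⟨ha ∘ hb, hhb.comp hha (hsb.mem hhb), hsb.comp hsa, fun x hx => ?_⟩
    show a * b * q x * (a * b)⁻¹ = q (ha (hb x))
    rw [← hva _ (hsb.mem hhb x hx), ← hvb x hx]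
    group
  have honeH : (1 : G) ∈ Hset := ⟨id, isMap_id hUS, ⟨Set.image_id _, Set.image_id _,
    1, K.one_mem, fun x hx => by rw [autFun_apply _ hx]; rfl⟩, fun x _ => by simp⟩
  let H : Subgroup G :=
    { carrier := Hset
      one_mem' := honeH
      mul_mem' := hmulH
      inv_mem' := fun {a} ha => by
        have hp : ∀ k : ℕ, a ^ k ∈ Hset := by
          intro k
          induction k with
          | zero => rw [pow_zero]; exact honeH
          | succ k ih => rw [pow_succ]; exact hmulH ih ha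
        have e : a⁻¹ = a ^ (orderOf a - 1) := by
          rw [inv_eq_iff_mul_eq_one, ← pow_succ', Nat.sub_add_cancel (orderOf_pos a),
            pow_orderOf_eq_one]
        rw [e]; exact hp _ }
  have hjH : ∀ w : W, j w ∈ H := fun w => by
    refine ⟨fun x => w * x * (w : Ω)⁻¹, isMap_conj hUS (hWS w.2), ((hW w).1 w.2).2,
      fun x hx => ?_⟩
    show q w * q x * (q w)⁻¹ = q (w * x * (w : Ω)⁻¹)
    have h1 : (w : Ω) * x ∈ normalizerIn S (A ⊔ B) := Subgroup.mul_mem _ (hWn w.2) (hUn hx)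
    rw [mul_inv_eq_iff_eq_mul, ← hqmul (hWn w.2) (hUn hx),
      ← hqmul (Subgroup.mul_mem _ h1 (Subgroup.inv_mem _ (hWn w.2))) (hWn w.2),
      inv_mul_cancel_right]
  have hU'n := normal_map_of_isModel hG hCN.hn
  let jH : W →* H := j.codRestrict H hjH
  have hjHinj : Function.Injective jH := fun a b e => hjinj (congrArg Subtype.val e)
  have hWp : IsPGroup p jH.range :=
    (hS.to_le hWS).of_surjective jH.rangeRestrict jH.rangeRestrict_surjective
  obtain ⟨P₀, hP₀⟩ := hWp.exists_le_sylow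
  have hsyl : jH.range = (P₀ : Subgroup H) := by
    obtain ⟨g, hg⟩ := exists_conj_le_sylow T₀ (P₀.isPGroup'.map H.subtype)
    refine Subgroup.eq_of_le_of_card_ge hP₀ ?_
    set Q₁ := ((P₀ : Subgroup H).map H.subtype).map (MulAut.conj g).toMonoidHom with hQ₁
    have hQ₁r : Q₁ ≤ ι'.range := by rw [← hT₀]; exact hg
    let Y : Subgroup Ω := (Q₁.comap ι').map (normalizerIn S U').subtype
    have hYc : Nat.card Y = Nat.card (P₀ : Subgroup H) := by
      rw [← Nat.card_congr (Subgroup.equivMapOfInjective (Q₁.comap ι') _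
          (normalizerIn S U').subtype_injective).toEquiv,
        Nat.card_congr ((Subgroup.equivMapOfInjective (Q₁.comap ι') ι' hinj).toEquiv),
        Subgroup.map_comap_eq_self hQ₁r, hQ₁,
        ← Nat.card_congr (Subgroup.equivMapOfInjective _ _ (MulAut.conj g).injective).toEquiv,
        ← Nat.card_congr (Subgroup.equivMapOfInjective (P₀ : Subgroup H) _
          H.subtype_injective).toEquiv]
    -- conjugation by `g` on the image of `W ⊔ (A ⊔ B)`
    let D : Subgroup G := ι'.range.comap (MulAut.conj g).toMonoidHom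
    have hD : ∀ x ∈ W ⊔ (A ⊔ B), q x ∈ D := by
      intro x hx
      have hx' : (⟨x, sup_le hWn hUn hx⟩ : ↥(normalizerIn S (A ⊔ B))) ∈
          (W ⊔ (A ⊔ B)).subgroupOf (normalizerIn S (A ⊔ B)) := hx
      let qh : ↥(normalizerIn S (A ⊔ B)) →* G :=
        MonoidHom.mk' (fun y => q y) fun a b => hqmul a.2 b.2
      have hle : (W ⊔ (A ⊔ B)).subgroupOf (normalizerIn S (A ⊔ B)) ≤ D.comap qh := by
        rw [Subgroup.subgroupOf_sup hWn hUn]
        refine sup_le (fun y hy => ?_) fun y hy => ?_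
        · exact hQ₁r ⟨q y, ⟨jH ⟨y, hy⟩, hP₀ ⟨⟨y, hy⟩, rfl⟩, rfl⟩, rfl⟩
        · have hyU : α y ∈ U' := hαi.mem hy
          have h1 : homExt ι' (α y) ∈ (U'.subgroupOf (normalizerIn S U')).map ι' := by
            rw [homExt_apply ι' (hU'T hyU)]
            exact ⟨_, hyU, rfl⟩
          obtain ⟨z, -, hz⟩ := hU'n.conj_mem _ h1 g
          exact ⟨z, hz⟩
      exact hle hx'
    choose! w hw using fun (x : Ω) (hx : x ∈ W ⊔ (A ⊔ B)) => hD x hx
    have hw' : ∀ x ∈ W ⊔ (A ⊔ B), homExt ι' (w x : Ω) = g * q x * g⁻¹ := fun x hx => by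
      rw [homExt_apply ι' (w x).2]; exact hw x hx
    obtain ⟨I, hI⟩ := (hα.mono (sup_le hWn hUn)).exists_iso
    obtain ⟨α', hα', hα'1, hα'2⟩ := hI.exists_symm
    have hIT : I ≤ normalizerIn S U' := fun z hz => by
      obtain ⟨x, hx, rfl⟩ := hI.surj hz
      exact hαN x (sup_le hWn hUn hx)
    have hfE : IsMap E I (fun z => (w (α' z) : Ω)) := by
      refine isMap_of_conj hG.2.1 hIT (fun z _ => (w (α' z)).2) (g := g) fun z hz => ?_
      rw [hw' _ (hα'.mem hz)]
      show g * homExt ι' (α (α' z)) * g⁻¹ = _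
      rw [hα'2 z hz]
    obtain ⟨-, -, g', hg', hg'e, -⟩ := (isMap_normalizerSystem_iff hE).1 hfE
    have hf : IsMap F (W ⊔ (A ⊔ B)) (fun x => (w x : Ω)) := by
      refine ((hα.mono (sup_le hWn hUn)).comp ((hg'.mono le_sup_left).congr hg'e)
        fun x hx => hI.mem hx).congr fun x hx => ?_
      show (w (α' (α x)) : Ω) = w x
      rw [hα'1 x hx]
    have := hmax _ Y hf (fun y hy => by
      obtain ⟨z, -, rfl⟩ := hy
      exact (inf_le_left : normalizerIn S U' ≤ S) z.2) fun y hy => by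
      obtain ⟨z, hz, rfl⟩ := hy
      obtain ⟨π, hπ, hπe⟩ := hz
      obtain ⟨π₀, -, rfl⟩ := hπ
      obtain ⟨h, hh, hs, hv⟩ := π₀.2
      refine ⟨h, hh, hs, fun x hx => ?_⟩
      have hxW : x ∈ W ⊔ (A ⊔ B) := Subgroup.mem_sup_right hx
      have hhW : h x ∈ W ⊔ (A ⊔ B) := Subgroup.mem_sup_right (hs.mem hh x hx)
      refine congrArg Subtype.val (hinj (a₁ := z * w x * z⁻¹) (a₂ := w (h x)) ?_)
      rw [map_mul, map_mul, map_inv, hw x hxW, hw _ hhW, ← hπe, ← hv x hx]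
      show g * (π₀ : G) * g⁻¹ * _ * (g * (π₀ : G) * g⁻¹)⁻¹ = _
      simp only [MulEquiv.coe_toMonoidHom, MulAut.conj_apply]
      group
    rw [← hYc]
    exact this.trans (Nat.card_congr (MonoidHom.ofInjective hjHinj).toEquiv).le
  -- the centralizer of the image of `B`
  let B₀ : Subgroup H := (B.subgroupOf W).map jH
  have hB₀n : B₀.Normal := ⟨by
    rintro _ ⟨b, hb, rfl⟩ γ
    obtain ⟨h, hh, hs, hv⟩ := γ.2
    have hbU : (b : Ω) ∈ A ⊔ B := Subgroup.mem_sup_right hb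
    refine ⟨⟨h b, hBW (hs.2.1.subset ⟨b, hb, rfl⟩)⟩, hs.2.1.subset ⟨b, hb, rfl⟩,
      Subtype.ext ?_⟩
    exact (hv b hbU).symm⟩
  have hB₀p : IsPGroup p B₀ := ((hS.to_le hWS).to_subgroup _).map _
  have hU'p : IsPGroup p ((U'.subgroupOf (normalizerIn S U')).map ι') :=
    (hCN.hS.to_subgroup _).map _
  have hCp : IsPGroup p ((Subgroup.centralizer (B₀ : Set H)).map H.subtype) := by
    refine isPGroup_of_coprime_trivial ?_
    rintro x ⟨x₀, hx₀, rfl⟩ hord
    have hfix := fixed_of_coprime_of_centralizer_le (B := B₀.map H.subtype) hU'p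
      (x := (x₀ : G)) (by rw [Subgroup.normalizer_eq_top_iff.2 hU'n]; exact Subgroup.mem_top _)
      hord ?_ ?_ ?_
    · have hxC : (x₀ : G) ∈ Subgroup.centralizer
          (((U'.subgroupOf (normalizerIn S U')).map ι' : Subgroup G) : Set G) :=
        fun y hy => (hfix y hy).symm
      obtain ⟨z, -, hz⟩ := hCN.centralizer_le hG hxC
      have hzp : IsPGroup p ι'.range :=
        hCN.hS.of_surjective ι'.rangeRestrict ι'.rangeRestrict_surjective
      obtain ⟨k, hk⟩ := hzp ⟨(x₀ : G), z, hz⟩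
      exact orderOf_eq_one_iff.1 (Nat.eq_one_of_dvd_coprimes (hord.pow_right k) dvd_rfl
        (orderOf_dvd_of_pow_eq_one (congrArg Subtype.val hk)))
    · rintro _ ⟨_, ⟨b, hb, rfl⟩, rfl⟩
      have hbU : α (b : Ω) ∈ U' := hαi.mem (Subgroup.mem_sup_right hb)
      show homExt ι' (α (b : Ω)) ∈ _
      rw [homExt_apply ι' (hU'T hbU)]
      exact ⟨_, hbU, rfl⟩
    · rintro _ ⟨b, hb, rfl⟩
      exact (congrArg Subtype.val (hx₀ b hb)).symm
    · rintro _ ⟨d, hd, rfl⟩ hdC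
      obtain ⟨c, hc, hce⟩ := hαi.surj hd
      have hd' : ι' d = q c := by
        show _ = homExt ι' (α c)
        rw [hce]; exact (homExt_apply ι' d.2).symm
      have hcB : c ∈ B := by
        refine hCB c ?_ (mem_centralizer_of_conj_eq fun b hb => ?_)
        · have hA' : A ≤ normalizerIn S A := le_normalizerIn hA
          exact sup_le hA' hAn hc
        · have hbU : b ∈ A ⊔ B := Subgroup.mem_sup_right hb
          have h2 := hdC (q b) ⟨jH ⟨b, hBW hb⟩, ⟨⟨b, hBW hb⟩, hb, rfl⟩, rfl⟩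
          rw [hd', ← hqmul (hUn hbU) (hUn hc), ← hqmul (hUn hc) (hUn hbU)] at h2
          have h3 := hqinj (Subgroup.mul_mem _ (hUn hbU) (hUn hc))
            (Subgroup.mul_mem _ (hUn hc) (hUn hbU)) h2
          rw [← h3, mul_inv_cancel_right]
      exact ⟨jH ⟨c, hBW hcB⟩, ⟨⟨c, hBW hcB⟩, hcB, rfl⟩, hd'.symm⟩
  have hC₀ : Subgroup.centralizer (B₀ : Set H) ≤ B₀ := by
    have h1 : IsPGroup p (Subgroup.centralizer (B₀ : Set H)) :=
      hCp.of_equiv (Subgroup.equivMapOfInjective _ _ H.subtype_injective).symm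
    have h2 : (Subgroup.centralizer (B₀ : Set H)).Normal := inferInstance
    intro x hx
    have h3 := le_sylow_of_normal_pGroup P₀ h2 h1 hx
    rw [← hsyl] at h3
    obtain ⟨w, rfl⟩ := h3
    refine ⟨w, hCB w ⟨hWS w.2, mem_normalizer_of_conj_mem hA fun a ha =>
        ((hW w).1 w.2).2.2.2.mem ha⟩ (mem_centralizer_of_conj_eq fun b hb => ?_), rfl⟩
    have h4 := hjHinj (a₁ := ⟨b, hBW hb⟩ * w) (a₂ := w * ⟨b, hBW hb⟩)
      (by rw [map_mul, map_mul]; exact hx _ ⟨⟨b, hBW hb⟩, hb, rfl⟩)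
    have h5 : b * (w : Ω) = w * b := congrArg Subtype.val h4
    rw [← h5, mul_inv_cancel_right]
  have hOB : B₀ ≤ pCore p H := CfsgLib.Fitting.le_pCore hB₀n hB₀p
  have hmodel : M.IsModel p H jH := by
    refine ⟨inferInstance, ⟨hjHinj, fun P hP φ hφ => ⟨fun hm => ?_, ?_⟩⟩, ⟨P₀, hsyl.symm⟩,
      ((Subgroup.centralizer_le (show (B₀ : Set H) ⊆ pCore p H from hOB)).trans hC₀).trans hOB⟩
    · obtain ⟨-, -, g, hg, hgφ, hgs⟩ := (hM P _).1 (isMap_homFun hm)
      have hgU : IsMap F (A ⊔ B) g := hg.mono le_sup_right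
      have hPn : P ⊔ (A ⊔ B) ≤ normalizerIn S (A ⊔ B) := sup_le (hP.trans hWn) hUn
      have hgn : ∀ x ∈ P ⊔ (A ⊔ B), g x ∈ normalizerIn S (A ⊔ B) := fun x hx =>
        hg.mem_normalizerIn le_sup_right (hgU.isIso_of_card_le (hgs.mem hgU) le_rfl) hx
          (hPn hx).2
      obtain ⟨I, hI⟩ := (hα.mono hPn).exists_iso
      obtain ⟨α', hα', hα'1, hα'2⟩ := hI.exists_symm
      have hUI : U' ≤ I := fun z hz => by
        obtain ⟨x, hx, rfl⟩ := hαi.surj hz
        exact hI.mem (Subgroup.mem_sup_right hx)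
      have hIT : I ≤ normalizerIn S U' := fun z hz => by
        obtain ⟨x, hx, rfl⟩ := hI.surj hz
        exact hαN x (hPn hx)
      have hcomp : IsMap F I (α ∘ g ∘ α') :=
        (hα'.isMap.comp hg fun z hz => hα'.mem hz).comp hα fun z hz => hgn _ (hα'.mem hz)
      have hmE : IsMap E I (α ∘ g ∘ α') := by
        refine (isMap_normalizerSystem_iff hE).2 ⟨hIT, fun z hz => hαN _ (hgn _ (hα'.mem hz)),
          α ∘ g ∘ α', by rwa [sup_eq_left.2 hUI], fun _ _ => rfl,
          image_eq_of_mem hU'.1 hcomp hUI fun z hz => ?_⟩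
        obtain ⟨x, hx, rfl⟩ := hαi.surj hz
        show α (g (α' (α x))) ∈ U'
        rw [hα'1 x (Subgroup.mem_sup_right hx)]
        exact hαi.mem (hgs.mem hgU x hx)
      obtain ⟨γ, hγ⟩ := exists_conj_of_isMap hG.2.1 hmE
      have hγ' : ∀ x ∈ P ⊔ (A ⊔ B), γ * q x * γ⁻¹ = q (g x) := fun x hx => by
        have := hγ (α x) (hI.mem hx)
        show γ * homExt ι' (α x) * γ⁻¹ = homExt ι' (α (g x))
        rw [← this]
        show homExt ι' (α (g (α' (α x)))) = _
        rw [hα'1 x hx]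
      refine ⟨⟨γ, g, hgU, hgs, fun x hx => hγ' x (Subgroup.mem_sup_right hx)⟩, fun x => ?_⟩
      refine Subtype.ext ?_
      show q (φ x : Ω) = γ * q (x : Ω) * γ⁻¹
      rw [hγ' x (Subgroup.mem_sup_left x.2), hgφ x x.2, homFun_coe]
    · rintro ⟨γ, hγ⟩
      obtain ⟨h, hh, hs, hv⟩ := γ.2
      have hPn : P ⊔ (A ⊔ B) ≤ normalizerIn S (A ⊔ B) := sup_le (hP.trans hWn) hUn
      obtain ⟨I, hI⟩ := (hα.mono hPn).exists_iso
      obtain ⟨α', hα', hα'1, hα'2⟩ := hI.exists_symm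
      have hIT : I ≤ normalizerIn S U' := fun z hz => by
        obtain ⟨x, hx, rfl⟩ := hI.surj hz
        exact hαN x (hPn hx)
      obtain ⟨J, hJ⟩ := (hα.mono (sup_le hWn hUn)).exists_iso
      obtain ⟨α'', hα'', hα''1, hα''2⟩ := hJ.exists_symm
      let qh : ↥(normalizerIn S (A ⊔ B)) →* G :=
        MonoidHom.mk' (fun y => q y) fun a b => hqmul a.2 b.2
      let D : Subgroup G :=
        (((W ⊔ (A ⊔ B)).subgroupOf (normalizerIn S (A ⊔ B))).map qh).comap
          (MulAut.conj (γ : G)).toMonoidHom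
      have hle : (P ⊔ (A ⊔ B)).subgroupOf (normalizerIn S (A ⊔ B)) ≤ D.comap qh := by
        rw [Subgroup.subgroupOf_sup (hP.trans hWn) hUn]
        refine sup_le (fun y hy => ?_) fun y hy => ?_
        · exact ⟨⟨φ ⟨y, hy⟩, hWn (hφ _)⟩, Subgroup.mem_sup_left (hφ _),
            congrArg Subtype.val (hγ ⟨y, hy⟩)⟩
        · exact ⟨⟨h y, hUn (hs.mem hh y hy)⟩, Subgroup.mem_sup_right (hs.mem hh y hy),
            (hv y hy).symm⟩
      choose! w hwm hw using fun (x : Ω) (hx : x ∈ P ⊔ (A ⊔ B)) =>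
        hle (show (⟨x, hPn hx⟩ : ↥(normalizerIn S (A ⊔ B))) ∈ _ from hx)
      have hwI : IsMap E I (fun z => α (w (α' z) : Ω)) := by
        refine isMap_of_conj hG.2.1 hIT (fun z _ => hαN _ (w (α' z)).2) (g := (γ : G))
          fun z hz => ?_
        rw [show homExt ι' (α (w (α' z) : Ω)) = (γ : G) * q (α' z) * (γ : G)⁻¹ from
          hw _ (hα'.mem hz)]
        show _ * homExt ι' (α (α' z)) * _ = _
        rw [hα'2 z hz]
      obtain ⟨-, -, g', hg', hg'e, -⟩ := (isMap_normalizerSystem_iff hE).1 hwI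
      have hm1 : IsMap F I (fun z => α (w (α' z) : Ω)) := (hg'.mono le_sup_left).congr hg'e
      have hm2 : IsMap F (P ⊔ (A ⊔ B)) (fun x => (w x : Ω)) := by
        refine (((hα.mono hPn).comp hm1 fun x hx => hI.mem hx).comp hα''.isMap
          fun x hx => ?_).congr fun x hx => ?_
        · show α (w (α' (α x)) : Ω) ∈ J
          rw [hα'1 x hx]
          exact hJ.mem (hwm x hx)
        · show α'' (α (w (α' (α x)) : Ω)) = w x
          rw [hα'1 x hx]
          exact hα''1 _ (hwm x hx)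
      rw [mem_hom_iff]
      refine (hM P _).2 ⟨hP, fun x hx => ?_, fun x => (w x : Ω), hm2, fun x hx => ?_,
        hs.congr fun x hx => ?_⟩
      · rw [homFun_apply φ hx]; exact hφ _
      · rw [homFun_apply φ hx]
        refine hqinj (w x).2 (hWn (hφ _)) ?_
        exact (hw x (Subgroup.mem_sup_left hx)).trans (congrArg Subtype.val (hγ ⟨x, hx⟩)).symm
      · refine hqinj (hUn (hs.mem hh x hx)) (w x).2 ?_
        exact (hv x hx).symm.trans (hw x (Subgroup.mem_sup_right hx)).symm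
  have hcon : M.IsConstrained p :=
    isConstrained_of_model (hS.to_le hWS) M jH hmodel.2.1 P₀ hsyl.symm hmodel.2.2.2
  obtain ⟨e, -⟩ := exists_equiv_of_models (hS.to_le hWS) hcon hL hmodel
  exact ⟨U', hU', hU'c, hUU', E, G, inferInstance, ι', hE, hG,
    H.subtype.comp e.toMonoidHom, H.subtype_injective.comp e.injective⟩

end CfsgLib.Fusion
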