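import Mathlib
import Cfsg.Agent.Lib.Fusion.StabilizerModel
import Cfsg.Agent.Lib.Offender.Involves
import Cfsg.Prelude.Def_FusionReduction

/-!
Systems whose local models avoid a section: inheritance by normalizers; radical subgroups suffice.
-/

set_option autoImplicit false

namespace CfsgLib.Fusion

open Cfsg Cfsg.FusionSystem

universe u v

variable {Ω : Type u} [Group Ω] {S : Subgroup Ω} [Finite S] {F : FusionSystem S} {p : ℕ}
  [Fact p.Prime]

omit [Finite S] [Fact p.Prime] in
theorem kAdm_top {A : Subgroup Ω} {g : Ω → Ω} (hg : IsMap F A g)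
    (hgA : g '' (A : Set Ω) = A) : KAdm (⊤ : Subgroup (MulAut A)) g := by
  obtain ⟨k, -, hk⟩ := exists_mem_autGroup (⟨hg, hgA⟩ : IsIso F A A g)
  exact ⟨k, Subgroup.mem_top k, fun x hx => by rw [autFun_apply k hx, hk]⟩

omit [Fact p.Prime] in
theorem image_conj_eq {A : Subgroup Ω} (hA : A ≤ S) {w : Ω}
    (hw : w ∈ Subgroup.normalizer (A : Set Ω)) (hwS : w ∈ S) :
    (fun x => w * x * w⁻¹) '' (A : Set Ω) = A :=
  image_eq_of_mem hA (isMap_conj (F := Cfsg.innerFusionSystem S) hA hwS) le_rfl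
    fun _ hx => conj_mem_of_mem_normalizer hw hx

omit [Fact p.Prime] in
theorem mem_normalizer_of_image {A : Subgroup Ω} (hA : A ≤ S) {w : Ω}
    (hw : (fun x => w * x * w⁻¹) '' (A : Set Ω) = A) : w ∈ Subgroup.normalizer (A : Set Ω) :=
  mem_normalizer_of_conj_mem hA fun x hx => hw.subset ⟨x, hx, rfl⟩

variable {H : Type v} [Group H]

/-- Normalizers of fully normalized subgroups inherit section freeness. -/
theorem isSectionFree_normalizerSystem (hS : IsPGroup p S) (hF : F.IsSaturated p)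
    (hfree : F.IsSectionFree p H) {Q : Subgroup Ω} (hQ : F.IsFullyNormalized Q)
    {N : FusionSystem (normalizerIn S Q)} (hN : F.IsNormalizerSystem Q N) :
    N.IsSectionFree p H := by
  intro R hR hRc M hM L _ ι hL hinv
  have hQS := hQ.1
  have hT : normalizerIn S Q ≤ S := inf_le_left
  have := finite_of_le hT
  have hRT := hR.1
  have hRS : R ≤ S := hRT.trans hT
  have hUS : Q ⊔ R ≤ S := sup_le hQS hRS
  have hUT : Q ⊔ R ≤ normalizerIn S Q := sup_le (le_normalizerIn hQS) hRT
  have hW : normalizerIn (normalizerIn S Q) R ≤ normalizerIn S Q := inf_le_left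
  -- maps near `Q` can be moved into the normalizer system
  have hmove : ∀ {D : Subgroup Ω} {f : Ω → Ω}, IsMap F D f → Q ⊔ R ≤ D →
      D ≤ normalizerIn S Q → ∃ (Q'' : Subgroup Ω) (ψ : Ω → Ω),
        IsIso F Q Q'' f ∧ IsMap F (normalizerIn S Q'') ψ ∧
        (∀ z ∈ normalizerIn S Q'', ψ z ∈ normalizerIn S Q) ∧
        (∀ x ∈ D, f x ∈ normalizerIn S Q'') ∧ IsMap N R (ψ ∘ f) := by
    intro D f hf hle hD
    obtain ⟨Q'', hQ''⟩ := (hf.mono (le_sup_left.trans hle)).exists_iso
    obtain ⟨ψ, hψ, hψi, hψN, -⟩ := exists_map_normalizerIn hS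
      (isFullyAutomized_of_isFullyNormalized hS hF hQ)
      (isReceptive_of_isFullyNormalized hS hF hQ) (isConj_symm hQ''.isConj)
    have hfD : ∀ x ∈ D, f x ∈ normalizerIn S Q'' := fun x hx =>
      hf.mem_normalizerIn (le_sup_left.trans hle) hQ'' hx (hD hx).2
    refine ⟨Q'', ψ, hQ'', hψ, hψN, hfD, (isMap_normalizerSystem_iff hN).2
      ⟨hRT, fun x hx => hψN _ (hfD x (hle (Subgroup.mem_sup_right hx))), ψ ∘ f, ?_,
        fun _ _ => rfl, ?_⟩⟩
    · rw [sup_comm]
      exact (hf.mono hle).comp hψ fun x hx => hfD x (hle hx)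
    · rw [Set.image_comp, hQ''.image_eq, hψi.image_eq]
  have hc : F.IsCentric (Q ⊔ R) := by
    refine ⟨hUS, fun U'' hU'' c hc => ?_⟩
    obtain ⟨f, hf⟩ := isConj_iff.1 hU''
    obtain ⟨Q'', ψ, hQ'', hψ, hψN, hfD, hm⟩ := hmove hf.isMap le_rfl hUT
    obtain ⟨R₂, hR₂⟩ := hm.exists_iso
    have hcn : c ∈ normalizerIn S Q'' := ⟨hc.1, Subgroup.centralizer_le_normalizer _
      (Subgroup.centralizer_le (show (Q'' : Set Ω) ⊆ U'' from fun z hz => by
        obtain ⟨x, hx, rfl⟩ := hQ''.surj hz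
        exact hf.mem (Subgroup.mem_sup_left hx)) hc.2)⟩
    have hcR : ψ c ∈ R₂ := by
      refine hRc.2 R₂ hR₂.isConj ⟨hψN c hcn, mem_centralizer_of_conj_eq fun z hz => ?_⟩
      obtain ⟨x, hx, rfl⟩ := hR₂.surj hz
      have hxD := hfD x (Subgroup.mem_sup_right hx)
      show ψ c * ψ (f x) * (ψ c)⁻¹ = ψ (f x)
      rw [← hψ.map_conj hcn hxD,
        conj_eq_self_of_mem_centralizer hc.2 (hf.mem (Subgroup.mem_sup_right hx))]
    obtain ⟨r, hr, hrc⟩ := hR₂.surj hcR
    rw [hψ.injOn hcn (hfD r (Subgroup.mem_sup_right hr)) hrc.symm]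
    exact hf.mem (Subgroup.mem_sup_right hr)
  obtain ⟨U', hU', hU'c, -, N', G, hG0, ι', hN', hG, e, he⟩ :=
    exists_embedding_stabilizer_model (A := Q) (B := R)
      (W := normalizerIn (normalizerIn S Q) R) (K := (⊤ : Subgroup (MulAut Q))) hS hF hQS
      (le_normalizerIn hRT)
      (fun w => by
        constructor
        · rintro ⟨⟨hwS, hwQ⟩, hwR⟩
          exact ⟨hwS, image_conj_eq hQS hwQ hwS, image_conj_eq hRS hwR hwS,
            kAdm_top (isMap_conj (F := F) hQS hwS) (image_conj_eq hQS hwQ hwS)⟩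
        · rintro ⟨hwS, hwQ, hwR, -⟩
          exact ⟨⟨hwS, mem_normalizer_of_image hQS hwQ⟩,
            mem_normalizer_of_image hRS hwR⟩)
      hc (fun x hx hxc => hRc.2 R (isConj_refl hRT) ⟨hx, hxc⟩) hRT
      (fun f Y hf hY hYv => by
        obtain ⟨Q'', ψ, hQ'', hψ, hψN, hfD, hm⟩ :=
          hmove hf le_sup_right (sup_le hW hUT)
        obtain ⟨R₃, hR₃⟩ := hm.exists_iso
        have hYn : Y ≤ normalizerIn S Q'' := fun y hy => by
          obtain ⟨h, hh, hs, hv⟩ := hYv y hy
          refine ⟨hY hy, mem_normalizer_of_conj_mem hQ''.le_right fun z hz => ?_⟩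
          obtain ⟨x, hx, rfl⟩ := hQ''.surj hz
          rw [hv x (Subgroup.mem_sup_left hx)]
          exact hQ''.mem (hs.1.subset ⟨x, hx, rfl⟩)
        have hle : ∀ y ∈ Y, ψ y ∈ normalizerIn (normalizerIn S Q) R₃ := fun y hy => by
          refine ⟨hψN y (hYn hy), mem_normalizer_of_conj_mem (hR₃.le_right.trans hT)
            fun z hz => ?_⟩
          obtain ⟨x, hx, rfl⟩ := hR₃.surj hz
          obtain ⟨h, hh, hs, hv⟩ := hYv y hy
          have hxU : x ∈ Q ⊔ R := Subgroup.mem_sup_right hx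
          show ψ y * ψ (f x) * (ψ y)⁻¹ ∈ R₃
          rw [← hψ.map_conj (hYn hy) (hfD x (Subgroup.mem_sup_right hxU)), hv x hxU]
          exact hR₃.mem (hs.2.1.subset ⟨x, hx, rfl⟩)
        haveI : Finite ↥(normalizerIn (normalizerIn S Q) R₃) :=
          finite_of_le (inf_le_left : normalizerIn (normalizerIn S Q) R₃ ≤ normalizerIn S Q)
        exact ((hψ.mono hYn).card_le hle).trans (hR.2 R₃ hR₃.isConj))
      M
      (fun P f => by
        rw [isMap_normalizerSystem_iff hM]
        constructor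
        · rintro ⟨hP, hv, g, hg, hgf, hgR⟩
          obtain ⟨-, -, g', hg', hgg, hgQ⟩ := (isMap_normalizerSystem_iff hN).1 hg
          refine ⟨hP, hv, g', ?_, fun x hx => by rw [hgg x (Subgroup.mem_sup_left hx), hgf x hx],
            hgQ, ?_, kAdm_top (hg'.mono le_sup_right) hgQ⟩
          · rwa [show P ⊔ (Q ⊔ R) = P ⊔ R ⊔ Q by rw [sup_comm Q R, sup_assoc]]
          · rw [Set.image_congr fun x hx => hgg x (Subgroup.mem_sup_right hx)]; exact hgR
        · rintro ⟨hP, hv, g, hg, hgf, hgQ, hgR, -⟩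
          have hD : P ⊔ R ≤ normalizerIn S Q := sup_le (hP.trans hW) hRT
          have hiso : IsIso F Q Q g := ⟨hg.mono (le_sup_left.trans le_sup_right), hgQ⟩
          refine ⟨hP, hv, g, (isMap_normalizerSystem_iff hN).2 ⟨hD, fun x hx =>
            hg.mem_normalizerIn (le_sup_left.trans le_sup_right) hiso
              ((sup_le_sup_left le_sup_right P : P ⊔ R ≤ P ⊔ (Q ⊔ R)) hx) (hD hx).2,
            g, ?_, fun _ _ => rfl, hgQ⟩, hgf, hgR⟩
          rwa [show P ⊔ R ⊔ Q = P ⊔ (Q ⊔ R) by rw [sup_comm Q R, sup_assoc]])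
      hL
  exact hfree U' hU' hU'c N' hN' G ι' hG (CfsgLib.Offender.involves_of_injective e he hinv)

/-- It is enough to look at the radical centric subgroups. -/
theorem isSectionFree_of_radical (hS : IsPGroup p S) (hF : F.IsSaturated p)
    (h : ∀ Q : Subgroup Ω, F.IsFullyNormalized Q → F.IsCentric Q → F.IsRadical p Q →
      ∀ N : FusionSystem (normalizerIn S Q), F.IsNormalizerSystem Q N →
        ∀ (L : Type u) [Group L] (ι : ↥(normalizerIn S Q) →* L), N.IsModel p L ι →
          ¬ Cfsg.Involves H L) : F.IsSectionFree p H := by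
  suffices key : ∀ (n : ℕ) (Q : Subgroup Ω), Nat.card S - Nat.card Q = n →
      F.IsFullyNormalized Q → F.IsCentric Q →
      ∀ N : FusionSystem (normalizerIn S Q), F.IsNormalizerSystem Q N →
        ∀ (L : Type u) [Group L] (ι : ↥(normalizerIn S Q) →* L), N.IsModel p L ι →
          ¬ Cfsg.Involves H L from
    fun Q hQ hQc N hN L _ ι hL => key _ Q rfl hQ hQc N hN L ι hL
  intro n
  induction n using Nat.strong_induction_on with
  | _ n ih =>
  intro Q hn hQ hQc N hN L _ ι hL
  by_cases hrad : F.IsRadical p Q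
  · exact h Q hQ hQc hrad N hN L ι hL
  intro hinv
  have hQS := hQ.1
  set R₁ := radStep F p Q with hR₁
  have hQR : Q ≤ R₁ := le_radStep hS hQS
  have hR₁S : R₁ ≤ S := inf_le_right
  have hR₁n : R₁ ≤ normalizerIn S Q := radStep_le_normalizerIn Q
  have hU : R₁ ⊔ Q = R₁ := sup_eq_left.2 hQR
  have hinvR : ∀ {g : Ω → Ω}, IsMap F R₁ g → g '' (Q : Set Ω) = Q → g '' (R₁ : Set Ω) = R₁ := by
    intro g hg hgQ
    refine image_eq_of_mem hR₁S hg le_rfl fun x hx => ?_
    have hiso : IsIso F Q Q g := ⟨hg.mono hQR, hgQ⟩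
    obtain ⟨α, hα, hαv⟩ := exists_mem_autGroup hiso
    have hgx : g x ∈ normalizerIn S Q := hg.mem_normalizerIn hQR hiso hx (hR₁n hx).2
    refine (mem_radStep hgx.2).2 ⟨hgx.1, ?_⟩
    obtain ⟨β, hβ, hβx⟩ := ((mem_radStep (hR₁n hx).2).1 hx).2
    refine ⟨_, (CfsgLib.Fitting.pCore_normal (G := F.autGroup Q) p).conj_mem β hβ ⟨α, hα⟩, ?_⟩
    refine MulEquiv.ext fun y => ?_
    obtain ⟨z, rfl⟩ := α.surjective y
    refine Subtype.ext ?_
    show ((((α * (β : MulAut Q) * α⁻¹) (α z)) : Q) : Ω) = _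
    rw [MulAut.mul_apply, MulAut.mul_apply, MulAut.inv_apply_self, conjAut_apply, hαv, hαv,
      show (β : MulAut Q) = conjAut Q (hR₁n hx).2 from hβx, conjAut_apply,
      hg.map_conj hx (hQR z.2)]
  have hlt : Nat.card Q < Nat.card R₁ := by
    have := finite_of_le hR₁S
    refine lt_of_le_of_ne (Subgroup.card_le_of_le hQR) fun e => hrad ?_
    exact isRadical_of_radStep_le hS hF hQ (Subgroup.eq_of_le_of_card_ge hQR e.ge).ge
  obtain ⟨U', hU', hU'c, hUU', N', G, hG0, ι', hN', hG, e, he⟩ :=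
    exists_embedding_stabilizer_model (A := R₁) (B := Q) (W := normalizerIn S Q)
      (K := (⊤ : Subgroup (MulAut R₁))) hS hF hR₁S (le_normalizerIn hQS)
      (fun w => by
        constructor
        · rintro ⟨hwS, hwQ⟩
          have h1 := image_conj_eq hQS hwQ hwS
          have h2 := hinvR (isMap_conj hR₁S hwS) h1
          exact ⟨hwS, h2, h1, kAdm_top (isMap_conj (F := F) hR₁S hwS) h2⟩
        · rintro ⟨hwS, -, hwQ, -⟩
          exact ⟨hwS, mem_normalizer_of_image hQS hwQ⟩)
      (by rw [hU]; exact isCentric_of_le hQc hQR hR₁S)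
      (fun x hx hxc => hQc.2 Q (isConj_refl hQS) ⟨hx.1, hxc⟩)
      (hQR.trans (le_normalizerIn hR₁S))
      (fun f Y hf hY hYv => by
        rw [hU] at hf
        obtain ⟨Q'', hQ''⟩ := (hf.mono (hQR.trans le_sup_right)).exists_iso
        haveI : Finite ↥(normalizerIn S Q'') :=
          finite_of_le (inf_le_left : normalizerIn S Q'' ≤ S)
        suffices hle : Y ≤ normalizerIn S Q'' from
          (Subgroup.card_le_of_le hle).trans (hQ.2 Q'' hQ''.isConj)
        intro y hy
        refine ⟨hY hy, ?_⟩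
        obtain ⟨g, hg, hs, hv⟩ := hYv y hy
        refine mem_normalizer_of_conj_mem hQ''.le_right fun z hz => ?_
        obtain ⟨x, hx, rfl⟩ := hQ''.surj hz
        rw [hv x (Subgroup.mem_sup_right hx)]
        exact hQ''.mem (hs.2.1.subset ⟨x, hx, rfl⟩))
      N
      (fun P f => by
        rw [isMap_normalizerSystem_iff hN, hU]
        constructor
        · rintro ⟨hP, hv, g, hg, hgf, hgQ⟩
          -- extend to `P ⊔ R₁`
          obtain ⟨a, hai⟩ : ∃ a, IsIso F Q Q a ∧ ∀ x ∈ Q, a x = g x :=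
            ⟨g, ⟨hg.mono le_sup_right, hgQ⟩, fun _ _ => rfl⟩
          have hle : P ⊔ R₁ ≤ nPhi S Q g := by
            refine sup_le (fun x hx => ?_) fun x hx => ?_
            · refine ⟨(hP hx).1, (hP hx).2, g x, hg.mem (Subgroup.mem_sup_left hx),
                fun y hy => hg.map_conj (Subgroup.mem_sup_left hx) (Subgroup.mem_sup_right hy)⟩
            · obtain ⟨α, hα, hαv⟩ := exists_mem_autGroup
                (⟨hg.mono le_sup_right, hgQ⟩ : IsIso F Q Q g)
              obtain ⟨β, hβ, hβx⟩ := ((mem_radStep (hR₁n hx).2).1 hx).2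
              have hβ' := (CfsgLib.Fitting.pCore_normal (G := F.autGroup Q) p).conj_mem β hβ
                ⟨α, hα⟩
              have := finite_of_le hQS
              have := finite_mulAut Q
              obtain ⟨T, hT⟩ := (isFullyAutomized_of_isFullyNormalized hS hF hQ).2
              haveI := CfsgLib.Fitting.pCore_normal (G := F.autGroup Q) p
              have hb := IsPGroup.le_sylow_of_normal (CfsgLib.Fitting.pCore_isPGroup p) T hβ'
              rw [hT] at hb
              obtain ⟨k, hk, hkv⟩ := (mem_autInducedBy_iff _ _ _).1 hb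
              refine ⟨hR₁S hx, (hR₁n hx).2, k, hk, fun y hy => ?_⟩
              have h1 := hkv (α ⟨y, hy⟩)
              rw [hαv ⟨y, hy⟩] at h1
              refine Eq.trans ?_ h1
              show g (x * y * x⁻¹) = ((α * (β : MulAut Q) * α⁻¹) (α ⟨y, hy⟩) : Q)
              rw [MulAut.mul_apply, MulAut.mul_apply, MulAut.inv_apply_self, hαv]
              congr 1
              rw [show (β : MulAut Q) = conjAut Q (hR₁n hx).2 from hβx, conjAut_apply]
          obtain ⟨g', hg', hgg⟩ := (isReceptive_iff.1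
            (isReceptive_of_isFullyNormalized hS hF hQ)).2 Q g ⟨hg.mono le_sup_right, hgQ⟩
          -- correct by a central element of `Q`
          obtain ⟨z, hzQ, hzc, hzv⟩ := exists_center_of_agree hS hF
            ((hg'.mono hle).mono (sup_le_sup_left hQR P)) hg _ Q rfl le_sup_right hQc
            (fun x hx => hgg x hx)
          have hz : z ∈ P ⊔ R₁ := Subgroup.mem_sup_right (hQR hzQ)
          have hzm : ∀ x ∈ P ⊔ R₁, z * x * z⁻¹ ∈ P ⊔ R₁ := fun x hx =>
            Subgroup.mul_mem _ (Subgroup.mul_mem _ hz hx) (Subgroup.inv_mem _ hz)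
          refine ⟨hP, hv, fun x => g' (z * x * z⁻¹), ?_, ?_⟩
          · exact (isMap_conj (F := F) (sup_le (hP.trans inf_le_left) hR₁S) (hQS hzQ)).comp
              (hg'.mono hle) hzm
          · have hQfix : (fun x => g' (z * x * z⁻¹)) '' (Q : Set Ω) = Q := by
              rw [Set.image_congr (g := g) fun x hx => by
                rw [conj_eq_self_of_mem_centralizer hzc hx, hgg x hx]]
              exact hgQ
            have hmap : IsMap F R₁ (fun x => g' (z * x * z⁻¹)) :=
              (isMap_conj (F := F) hR₁S (hQS hzQ)).comp (hg'.mono hle)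
                fun x hx => hzm x (Subgroup.mem_sup_right hx)
            refine ⟨fun x hx => ?_, hinvR hmap hQfix, hQfix,
              kAdm_top hmap (hinvR hmap hQfix)⟩
            rw [← hgf x hx]
            exact (hzv x (Subgroup.mem_sup_left hx)).symm
        · rintro ⟨hP, hv, g, hg, hgf, -, hgQ, -⟩
          exact ⟨hP, hv, g, hg.mono (sup_le_sup_left hQR P), hgf, hgQ⟩)
      hL
  obtain ⟨f, hf⟩ := isConj_iff.1 hUU'
  rw [hU] at hf
  have hcard := hf.card_eq
  have := Subgroup.card_le_of_le hR₁S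
  exact ih _ (by omega) U' rfl hU' hU'c N' hN' G ι' hG
    (CfsgLib.Offender.involves_of_injective e he hinv)

omit [Fact p.Prime] in
/-- The model of a constrained system free of a section does not involve the section. -/
theorem not_involves_of_model (hS : IsPGroup p S) (hF : F.IsConstrained p)
    (hfree : F.IsSectionFree p H) {L : Type u} [Group L] {ι : S →* L} (hG : F.IsModel p L ι) :
    ¬ Cfsg.Involves H L := by
  obtain ⟨hsat, Q, hQ, hQc⟩ := id hF
  have hCN : CentricNormal F p Q := ⟨hS, hsat, hQ, hQc⟩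
  obtain ⟨N, hN⟩ : ∃ N, F.IsNormalizerSystem Q N := ⟨normalizerSystem F Q hQ.1, fun _ => rfl⟩
  have : Finite L := hG.1
  obtain ⟨T₀, hT₀⟩ := hG.2.2.1
  have hTS : normalizerIn S Q = S := inf_eq_left.2 hCN.le_normalizer
  have hN' : N.IsModel p L (ι.comp (MulEquiv.subgroupCongr hTS).toMonoidHom) := by
    refine ⟨inferInstance, ⟨hG.2.1.1.comp (MulEquiv.subgroupCongr hTS).injective,
      fun P hP φ hφ => ?_⟩, ⟨T₀, ?_⟩, hG.2.2.2⟩
    · rw [← show φ ∈ F.Hom P ↔ φ ∈ N.Hom P from ?_]
      · exact hG.2.1.2 P (hP.trans inf_le_left) φ fun x => (hφ x).1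
      · rw [mem_hom_iff, mem_hom_iff, isMap_normalizerSystem_iff hN]
        constructor
        · intro h
          refine ⟨hP, fun x hx => ?_, (isNormal_iff.1 hQ).2 P _ h⟩
          rw [homFun_apply φ hx]; exact hφ _
        · rintro ⟨-, -, g, hg, hag, -⟩
          exact (hg.mono le_sup_left).congr hag
    · rw [MonoidHom.range_comp, MonoidHom.range_eq_top.2 (MulEquiv.subgroupCongr hTS).surjective,
        ← MonoidHom.range_eq_map, hT₀]
  exact hfree Q hCN.isFullyNormalized hQc N hN L _ hN'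

end CfsgLib.Fusion
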