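import Mathlib
import Cfsg.Agent.Lib.Fusion.SectionFree
import Cfsg.Agent.Lib.Fusion.KNormalizer
import Cfsg.Agent.Lib.Fusion.RadicalExt

/-!
The `K`-normalizer of a normal subgroup as a system over the whole of `S`.
-/

set_option autoImplicit false

namespace CfsgLib.Fusion

open Cfsg Cfsg.FusionSystem

universe u v

variable {Ω : Type u} [Group Ω] {S : Subgroup Ω} {F : FusionSystem S}

theorem mem_of_mem_sup {P A B C : Subgroup Ω} {f : Ω → Ω} (hf : IsMap F P f) (hA : A ≤ P)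
    (hB : B ≤ P) (hfA : ∀ x ∈ A, f x ∈ C) (hfB : ∀ x ∈ B, f x ∈ C) : ∀ x ∈ A ⊔ B, f x ∈ C := by
  intro x hx
  rw [Subgroup.sup_eq_closure] at hx
  induction hx using Subgroup.closure_induction with
  | mem y hy =>
    rcases hy with hy | hy
    · exact hfA y hy
    · exact hfB y hy
  | one => rw [hf.map_one]; exact Subgroup.one_mem _
  | mul a b ha hb iha ihb =>
    rw [← Subgroup.sup_eq_closure] at ha hb
    rw [hf.map_mul (sup_le hA hB ha) (sup_le hA hB hb)]; exact Subgroup.mul_mem _ iha ihb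
  | inv a ha iha =>
    rw [← Subgroup.sup_eq_closure] at ha
    rw [hf.map_inv (sup_le hA hB ha)]; exact Subgroup.inv_mem _ iha

/-- The maps extending to maps acting on `V` through `K`, as a system over `S`. -/
def kSystem (F : FusionSystem S) (V : Subgroup Ω) (hV : V ≤ S) (K : Subgroup (MulAut V))
    (hadm : ∀ s ∈ S, KAdm K (fun x => s * x * s⁻¹)) : FusionSystem S where
  Hom P := {φ | φ ∈ F.Hom P ∧
    ∃ g, IsMap F (P ⊔ V) g ∧ (∀ x : P, g x = φ x) ∧ KAdm K g}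
  le_of_mem h := F.le_of_mem h.1
  injective_of_mem h := F.injective_of_mem h.1
  conj_mem := fun {P g} hP hg =>
    ⟨F.conj_mem hP hg, _, isMap_conj (sup_le hP hV) hg, fun x => rfl, hadm g hg⟩
  comp_mem := by
    rintro P R φ χ ⟨hφ, g₁, hg₁, hag₁, hK₁⟩ ⟨hχ, g₂, hg₂, hag₂, hK₂⟩ h
    refine ⟨F.comp_mem hφ hχ h, g₂ ∘ g₁, hg₁.comp hg₂
      (mem_of_mem_sup hg₁ le_sup_left le_sup_right
        (fun x hx => Subgroup.mem_sup_left (by rw [hag₁ ⟨x, hx⟩]; exact h _))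
        fun x hx => Subgroup.mem_sup_right (hK₁.mem hx)), fun x => ?_, hK₁.comp hK₂⟩
    show g₂ (g₁ x) = χ _
    rw [hag₁ x]
    exact hag₂ ⟨φ x, h x⟩
  inv_mem := by
    rintro P φ ⟨hφ, g, hg, hag, hK⟩
    obtain ⟨ψ, hψ, hψv⟩ := F.inv_mem hφ
    obtain ⟨D, hD⟩ := hg.exists_iso
    obtain ⟨g', hg', hg'1, -⟩ := hD.exists_symm
    refine ⟨ψ, ⟨hψ, g', hg'.isMap.mono (sup_le ?_ fun y hy => ?_), ?_,
      hK.symm fun x hx => hg'1 x (Subgroup.mem_sup_right hx)⟩, hψv⟩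
    · rintro _ ⟨x, rfl⟩
      rw [← hag x]
      exact hD.mem (Subgroup.mem_sup_left x.2)
    · obtain ⟨z, hz, rfl⟩ := hK.image_eq.ge hy
      exact hD.mem (Subgroup.mem_sup_right hz)
    · rintro ⟨_, x, rfl⟩
      show g' (φ x) = ψ ⟨φ x, _⟩
      rw [hψv x, ← hag x]
      exact hg'1 x (Subgroup.mem_sup_left x.2)

theorem isMap_kSystem_iff {V : Subgroup Ω} {hV : V ≤ S} {K : Subgroup (MulAut V)}
    {hadm : ∀ s ∈ S, KAdm K (fun x => s * x * s⁻¹)} {P : Subgroup Ω} {f : Ω → Ω} :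
    IsMap (kSystem F V hV K hadm) P f ↔
      IsMap F P f ∧ ∃ g, IsMap F (P ⊔ V) g ∧ (∀ x ∈ P, g x = f x) ∧ KAdm K g := by
  constructor
  · rintro ⟨φ, ⟨hφ, g, hg, hag, hK⟩, hv⟩
    exact ⟨⟨φ, hφ, hv⟩, g, hg, fun x hx => by rw [← hv ⟨x, hx⟩]; exact hag ⟨x, hx⟩, hK⟩
  · rintro ⟨⟨φ, hφ, hv⟩, g, hg, hag, hK⟩
    exact ⟨φ, ⟨hφ, g, hg, fun x => by rw [hv]; exact hag x x.2, hK⟩, hv⟩

theorem isMap_of_kSystem {V : Subgroup Ω} {hV : V ≤ S} {K : Subgroup (MulAut V)}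
    {hadm : ∀ s ∈ S, KAdm K (fun x => s * x * s⁻¹)} {P : Subgroup Ω} {f : Ω → Ω}
    (h : IsMap (kSystem F V hV K hadm) P f) : IsMap F P f :=
  (isMap_kSystem_iff.1 h).1

variable [Finite S] {p : ℕ} [Fact p.Prime] {U : Subgroup Ω}

theorem image_eq_of_isNormal (hU : F.IsNormal U) {P : Subgroup Ω} {f : Ω → Ω} (hf : IsMap F P f)
    (hUP : U ≤ P) : f '' (U : Set Ω) = U :=
  image_eq_of_mem hU.1 hf hUP fun _ hx =>
    isMap_mem_of_stronglyClosed (stronglyClosed_of_isNormal hU) hf (hUP hx) hx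

theorem isFullyNormalized_of_isNormal (hU : F.IsNormal U) : F.IsFullyNormalized U := by
  refine ⟨hU.1, fun Q hQ => ?_⟩
  obtain ⟨f, hf⟩ := isConj_iff.1 hQ
  rw [show Q = U from SetLike.coe_injective
    (hf.image_eq.symm.trans (image_eq_of_isNormal hU hf.isMap le_rfl))]

theorem conj_adm (hU : F.IsNormal U) :
    ∀ s ∈ S, KAdm (autInducedBy S U) (fun x => s * x * s⁻¹) := fun s hs =>
  ⟨conjAut U (le_normalizer_of_isNormal hU hs), conjAut_mem_autInducedBy _ hs, fun x hx => by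
    rw [autFun_apply _ hx, conjAut_apply]⟩

/-- Extension of the inverse of the action of a map on a normal subgroup. -/
theorem exists_adjust (hS : IsPGroup p S) (hF : F.IsSaturated p) (hU : F.IsNormal U)
    {P : Subgroup Ω} {f : Ω → Ω} (hf : IsMap F P f) (hUP : U ≤ P) :
    ∃ D ψ, IsMap F D ψ ∧ U ≤ D ∧ (∀ x ∈ U, ψ (f x) = x) ∧ (∀ x ∈ P, f x ∈ D) ∧
      ∀ y ∈ S, (∃ h, KAdm (autInducedBy S U) h ∧ ∀ x ∈ U, y * f x * y⁻¹ = f (h x)) → y ∈ D := by
  have hi : IsIso F U U f := ⟨hf.mono hUP, image_eq_of_isNormal hU hf hUP⟩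
  obtain ⟨b, hb, hb1, hb2⟩ := hi.exists_symm
  obtain ⟨ψ, hψ, hψb⟩ := (isReceptive_iff.1 (isReceptive_of_isFullyNormalized hS hF
    (isFullyNormalized_of_isNormal hU))).2 U b hb
  have key : ∀ y ∈ S, (∃ h, KAdm (autInducedBy S U) h ∧ ∀ x ∈ U, y * f x * y⁻¹ = f (h x)) →
      y ∈ nPhi S U b := by
    rintro y hy ⟨h, hh, hv⟩
    obtain ⟨k, hk, hkv⟩ := id hh
    obtain ⟨t, ht, htv⟩ := (mem_autInducedBy_iff _ _ _).1 hk
    refine ⟨hy, le_normalizer_of_isNormal hU hy, t, ht, fun z hz => ?_⟩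
    obtain ⟨x, hx, rfl⟩ := hi.surj hz
    rw [hv x hx, hb1 _ (hh.mem hx), hb1 x hx, hkv x hx, autFun_apply k hx, htv]
  refine ⟨nPhi S U b, ψ, hψ, le_nPhi hb.isMap, fun x hx => by
    rw [hψb _ (hi.mem hx), hb1 x hx], fun x hx => key _ (hf.mem hx) ⟨fun z => x * z * x⁻¹,
      conj_adm hU x (hf.le hx), fun z hz => (hf.map_conj hx (hUP hz)).symm⟩, key⟩

theorem isSaturated_kSystem (hS : IsPGroup p S) (hF : F.IsSaturated p) (hU : F.IsNormal U) :
    (kSystem F U hU.1 (autInducedBy S U) (conj_adm hU)).IsSaturated p := by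
  refine isSaturated_kNormalizer (N := S) (K := autInducedBy S U) hS hF hU.1 ?_ ?_ ?_
  · ext g
    constructor
    · intro hg
      have hgn := le_normalizer_of_isNormal hU hg
      refine ⟨⟨hg, hgn⟩, conjAut U hgn, conjAut_mem_autInducedBy _ hg, fun x hx => ?_⟩
      show g * x * g⁻¹ = autFun (conjAut U hgn) x
      rw [autFun_apply _ hx, conjAut_apply]
    · exact fun hg => hg.1.1
  · intro P f
    rw [isMap_kSystem_iff]
    constructor
    · rintro ⟨hf, h⟩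
      exact ⟨hf.le, fun x hx => hf.mem hx, h⟩
    · rintro ⟨-, -, g, hg, hag, hK⟩
      exact ⟨(hg.mono le_sup_left).congr hag, g, hg, hag, hK⟩
  · intro Q' f hf
    obtain ⟨D, ψ, hψ, hUD, hψf, hfD, hD⟩ := exists_adjust hS hF hU hf.isMap le_rfl
    refine ⟨ψ, hψ.mono (sup_le (fun y hy => ?_) fun y hy => ?_), 1,
      Subgroup.one_mem _, fun x hx => ?_⟩
    · obtain ⟨k, hk, hkv⟩ := hy.2
      exact hD y hy.1.1 ⟨autFun k, ⟨k, hk, fun _ _ => rfl⟩, hkv⟩
    · obtain ⟨x, hx, rfl⟩ := hf.surj hy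
      exact hfD x hx
    · show ψ (f x) = _
      rw [hψf x hx, autFun_apply _ hx]
      rfl

variable {H : Type v} [Group H]

/-- The `K`-normalizer of a normal subgroup inherits section freeness. -/
theorem isSectionFree_kSystem (hS : IsPGroup p S) (hF : F.IsSaturated p) (hU : F.IsNormal U)
    (hfree : F.IsSectionFree p H) :
    (kSystem F U hU.1 (autInducedBy S U) (conj_adm hU)).IsSectionFree p H := by
  intro R hR hRc M hM L _ ι hL hinv
  set E := kSystem F U hU.1 (autInducedBy S U) (conj_adm hU)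
  have hRS : R ≤ S := hR.1
  have hUS : U ⊔ R ≤ S := sup_le hU.1 hRS
  have hmove : ∀ {D : Subgroup Ω} {f : Ω → Ω}, IsMap F D f → U ⊔ R ≤ D →
      ∃ (C : Subgroup Ω) (ψ : Ω → Ω), IsMap F C ψ ∧ (∀ x ∈ D, f x ∈ C) ∧
        (∀ y ∈ S, (∃ h, KAdm (autInducedBy S U) h ∧ ∀ x ∈ U, y * f x * y⁻¹ = f (h x)) → y ∈ C) ∧
        IsMap E R (ψ ∘ f) := by
    intro D f hf hle
    obtain ⟨C, ψ, hψ, -, hψf, hfC, hC⟩ := exists_adjust hS hF hU hf (le_sup_left.trans hle)
    have hcomp : IsMap F D (ψ ∘ f) := hf.comp hψ hfC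
    refine ⟨C, ψ, hψ, hfC, hC, isMap_kSystem_iff.2 ⟨hcomp.mono (le_sup_right.trans hle), ψ ∘ f,
      hcomp.mono (by rw [sup_comm]; exact hle), fun _ _ => rfl, 1, Subgroup.one_mem _,
      fun x hx => ?_⟩⟩
    show ψ (f x) = _
    rw [hψf x hx, autFun_apply _ hx]
    rfl
  have hc : F.IsCentric (U ⊔ R) := by
    refine ⟨hUS, fun U'' hU'' c hc => ?_⟩
    obtain ⟨f, hf⟩ := isConj_iff.1 hU''
    obtain ⟨C, ψ, hψ, hfC, hC, hm⟩ := hmove hf.isMap le_rfl
    obtain ⟨R₂, hR₂⟩ := hm.exists_iso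
    have hcC : c ∈ C := hC c hc.1 ⟨id, ⟨1, Subgroup.one_mem _, fun x hx => by
      rw [autFun_apply _ hx]; rfl⟩, fun x hx =>
      conj_eq_self_of_mem_centralizer hc.2 (hf.mem (Subgroup.mem_sup_left hx))⟩
    have hcR : ψ c ∈ R₂ := by
      refine hRc.2 R₂ hR₂.isConj ⟨hψ.mem hcC, mem_centralizer_of_conj_eq fun z hz => ?_⟩
      obtain ⟨x, hx, rfl⟩ := hR₂.surj hz
      show ψ c * ψ (f x) * (ψ c)⁻¹ = ψ (f x)
      rw [← hψ.map_conj hcC (hfC x (Subgroup.mem_sup_right hx)),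
        conj_eq_self_of_mem_centralizer hc.2 (hf.mem (Subgroup.mem_sup_right hx))]
    obtain ⟨r, hr, hrc⟩ := hR₂.surj hcR
    rw [hψ.injOn hcC (hfC r (Subgroup.mem_sup_right hr)) hrc.symm]
    exact hf.mem (Subgroup.mem_sup_right hr)
  obtain ⟨U', hU', hU'c, -, N', G, hG0, ι', hN', hG, e, he⟩ :=
    exists_embedding_stabilizer_model (A := U) (B := R) (W := normalizerIn S R)
      (K := autInducedBy S U) hS hF hU.1 (le_normalizerIn hRS)
      (fun w => by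
        constructor
        · rintro ⟨hwS, hwR⟩
          exact ⟨hwS, image_conj_eq hU.1 (le_normalizer_of_isNormal hU hwS) hwS,
            image_conj_eq hRS hwR hwS, conj_adm hU w hwS⟩
        · rintro ⟨hwS, -, hwR, -⟩
          exact ⟨hwS, mem_normalizer_of_image hRS hwR⟩)
      hc (fun x hx hxc => hRc.2 R (isConj_refl hRS) ⟨hx.1, hxc⟩)
      (fun r hr => ⟨hRS hr, le_normalizer_of_isNormal hU (hRS hr)⟩)
      (fun f Y hf hY hYv => by
        obtain ⟨C, ψ, hψ, hfC, hC, hm⟩ := hmove hf le_sup_right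
        obtain ⟨R₃, hR₃⟩ := hm.exists_iso
        have hYC : Y ≤ C := fun y hy => by
          obtain ⟨h, hh, hs, hv⟩ := hYv y hy
          exact hC y (hY hy) ⟨h, hs.2.2, fun x hx => hv x (Subgroup.mem_sup_left hx)⟩
        have hle : ∀ y ∈ Y, ψ y ∈ normalizerIn S R₃ := fun y hy => by
          refine ⟨hψ.mem (hYC hy), mem_normalizer_of_conj_mem hR₃.le_right fun z hz => ?_⟩
          obtain ⟨x, hx, rfl⟩ := hR₃.surj hz
          obtain ⟨h, hh, hs, hv⟩ := hYv y hy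
          have hxU : x ∈ U ⊔ R := Subgroup.mem_sup_right hx
          show ψ y * ψ (f x) * (ψ y)⁻¹ ∈ R₃
          rw [← hψ.map_conj (hYC hy) (hfC x (Subgroup.mem_sup_right hxU)), hv x hxU]
          exact hR₃.mem (hs.2.1.subset ⟨x, hx, rfl⟩)
        haveI : Finite ↥(normalizerIn S R₃) :=
          finite_of_le (inf_le_left : normalizerIn S R₃ ≤ S)
        exact ((hψ.mono hYC).card_le hle).trans (hR.2 R₃ hR₃.isConj))
      M
      (fun P f => by
        rw [isMap_normalizerSystem_iff hM]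
        constructor
        · rintro ⟨hP, hv, g, hg, hgf, hgR⟩
          obtain ⟨-, g', hg', hgg, hadm⟩ := isMap_kSystem_iff.1 hg
          refine ⟨hP, hv, g', ?_, fun x hx => by rw [hgg x (Subgroup.mem_sup_left hx), hgf x hx],
            hadm.image_eq, ?_, hadm⟩
          · rwa [show P ⊔ (U ⊔ R) = P ⊔ R ⊔ U by rw [sup_comm U R, sup_assoc]]
          · rw [Set.image_congr fun x hx => hgg x (Subgroup.mem_sup_right hx)]; exact hgR
        · rintro ⟨hP, hv, g, hg, hgf, -, hgR, hadm⟩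
          refine ⟨hP, hv, g, isMap_kSystem_iff.2
            ⟨hg.mono (sup_le_sup_left le_sup_right P), g, ?_, fun _ _ => rfl, hadm⟩, hgf, hgR⟩
          rwa [show P ⊔ R ⊔ U = P ⊔ (U ⊔ R) by rw [sup_comm U R, sup_assoc]])
      hL
  exact hfree U' hU' hU'c N' hN' G ι' hG (CfsgLib.Offender.involves_of_injective e he hinv)

end CfsgLib.Fusion
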