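import Mathlib
import Cfsg.Agent.Lib.Fusion.RadicalNormalizer
import Cfsg.Agent.Lib.Fusion.SectionFree
import Cfsg.Agent.Lib.Fusion.Alperin
import Cfsg.Prelude.Def_FusionComponents

/-!
Functors with a local centre condition control the centre of a saturated fusion system.
-/

set_option autoImplicit false

namespace CfsgLib.Fusion

open Cfsg Cfsg.FusionSystem

universe u v

variable {Ω : Type u} [Group Ω] {S : Subgroup Ω}

/-- The maps of a system, as graphs. -/
def mapGraphs (F : FusionSystem S) : Set (Set (Ω × Ω)) :=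
  {g | ∃ (P : Subgroup Ω) (φ : P →* Ω), φ ∈ F.Hom P ∧ g = Set.range fun x : P => ((x : Ω), φ x)}

theorem finite_mapGraphs [Finite S] (F : FusionSystem S) : (mapGraphs F).Finite := by
  have h : ((S : Set Ω) ×ˢ (S : Set Ω)).Finite :=
    (Set.toFinite (S : Set Ω)).prod (Set.toFinite (S : Set Ω))
  refine h.finite_subsets.subset ?_
  rintro _ ⟨P, φ, hφ, rfl⟩ _ ⟨x, rfl⟩
  exact ⟨(F.le_of_mem hφ).1 x.2, (F.le_of_mem hφ).2 x⟩

theorem ncard_mapGraphs_lt [Finite S] {T : Subgroup Ω} {E : FusionSystem T} {F : FusionSystem S}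
    (hsub : ∀ P f, IsMap E P f → IsMap F P f) (hne : ∃ P f, IsMap F P f ∧ ¬ IsMap E P f) :
    (mapGraphs E).ncard < (mapGraphs F).ncard := by
  refine Set.ncard_lt_ncard ⟨?_, fun hsup => ?_⟩ (finite_mapGraphs F)
  · rintro _ ⟨P, φ, hφ, rfl⟩
    obtain ⟨ψ, hψ, hv⟩ := hsub P _ (isMap_homFun hφ)
    refine ⟨P, ψ, hψ, ?_⟩
    congr 1
    funext x
    rw [hv, homFun_coe]
  · obtain ⟨P, f, ⟨φ, hφ, hv⟩, hn⟩ := hne
    obtain ⟨P', ψ, hψ, he⟩ := hsup ⟨P, φ, hφ, rfl⟩
    apply hn
    have h1 : P ≤ P' := fun x hx => by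
      obtain ⟨y, hy⟩ := he.subset ⟨⟨x, hx⟩, rfl⟩
      have e : (y : Ω) = x := congrArg Prod.fst hy
      exact e ▸ y.2
    have h2 : P' ≤ P := fun x hx => by
      obtain ⟨y, hy⟩ := he.symm.subset ⟨⟨x, hx⟩, rfl⟩
      have e : (y : Ω) = x := congrArg Prod.fst hy
      exact e ▸ y.2
    obtain rfl := le_antisymm h1 h2
    refine ⟨ψ, hψ, fun x => ?_⟩
    obtain ⟨y, hy⟩ := he.symm.subset ⟨x, rfl⟩
    have e : y = x := Subtype.ext (congrArg Prod.fst hy)
    have e2 := congrArg Prod.snd hy
    simp only [e] at e2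
    rw [← e2, hv]

variable (W : ∀ (Q : Type u) [Group Q], Subgroup Q)

/-- Models are finite, so no system has an infinite section. -/
theorem isSectionFree_infinite (F : FusionSystem S) {p : ℕ} (H : Type v) [Group H] [Infinite H] :
    F.IsSectionFree p H := by
  intro Q _ _ N _ L _ ι hL hinv
  have : Finite L := hL.1
  obtain ⟨K, ψ, hψ⟩ := CfsgLib.Offender.exists_hom_of_involves hinv
  exact not_finite_iff_infinite.2 ‹Infinite H› (Finite.of_surjective ψ hψ)

/-- A functor applied to a subgroup, as a subgroup of the ambient group. -/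
def functorOf {Ω : Type u} [Group Ω] (T : Subgroup Ω) : Subgroup Ω := (W ↥T).map T.subtype

theorem functorOf_le (T : Subgroup Ω) : functorOf W T ≤ T := Subgroup.map_subtype_le _

variable {p : ℕ}
variable (hW2 : ∀ (Q R : Type u) [Group Q] [Group R] [Finite Q], IsPGroup p Q → ∀ φ : Q ≃* R,
  (W Q).map φ.toMonoidHom = W R)

include hW2

theorem normalizer_le_functorOf [Finite S] {T : Subgroup Ω} (hT : T ≤ S) (hTp : IsPGroup p T)
    {g : Ω} (hg : g ∈ Subgroup.normalizer (T : Set Ω)) :
    g ∈ Subgroup.normalizer (functorOf W T : Set Ω) := by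
  have := finite_of_le hT
  refine mem_normalizer_of_conj_mem ((functorOf_le W T).trans hT) ?_
  rintro _ ⟨w, hw, rfl⟩
  refine ⟨conjAut T hg w, ?_, conjAut_apply T hg w⟩
  rw [SetLike.mem_coe, ← hW2 T T hTp (conjAut T hg)]
  exact ⟨w, hw, rfl⟩

omit W hW2 in
theorem mem_centralizer_map {T : Subgroup Ω} {z : Ω} (hzT : z ∈ T)
    (hz : z ∈ Subgroup.centralizer (T : Set Ω)) : (⟨z, hzT⟩ : T) ∈ Subgroup.center T :=
  Subgroup.mem_center_iff.2 fun y => Subtype.ext (hz y y.2)

variable (hWZ : ∀ (Q : Type u) [Group Q] [Finite Q], IsPGroup p Q → Subgroup.center Q ≤ W Q)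

include hWZ

theorem mem_functorOf_of_central [Finite S] (hS : IsPGroup p S) {T : Subgroup Ω} (hT : T ≤ S)
    {z : Ω} (hzT : z ∈ T) (hzS : z ∈ Subgroup.centralizer (S : Set Ω)) : z ∈ functorOf W T := by
  have := finite_of_le hT
  exact ⟨⟨z, hzT⟩, hWZ T (hS.to_le hT)
    (mem_centralizer_map hzT (Subgroup.centralizer_le (show (T : Set Ω) ⊆ S from hT) hzS)), rfl⟩

omit W hW2 hWZ in
theorem mem_of_central_of_centric {F : FusionSystem S} {R : Subgroup Ω} (hR : F.IsCentric R)
    {z : Ω} (hzS : z ∈ S) (hz : z ∈ Subgroup.centralizer (S : Set Ω)) : z ∈ R :=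
  hR.2 R (isConj_refl hR.1)
    ⟨hzS, Subgroup.centralizer_le (show (R : Set Ω) ⊆ S from hR.1) hz⟩

variable [Fact p.Prime]
variable (k : ℕ) {H : Type v} [Group H]
variable (hC : ∀ (G : Type u) [Group G] [Finite G] (P : Sylow p G),
  Subgroup.centralizer ((Cfsg.pCore p G : Subgroup G) : Set G) ≤ Cfsg.pCore p G →
  ¬ Cfsg.Involves H G → ∀ w : G,
  w ∈ (P : Subgroup G) → w ∈ Subgroup.centralizer ((P : Subgroup G) : Set G) →
  (∀ g ∈ Subgroup.normalizer
      (((W ↥(P : Subgroup G)).map (P : Subgroup G).subtype : Subgroup G) : Set G),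
    g * w ^ k * g⁻¹ = w ^ k) →
  ∀ g : G, g * w ^ k * g⁻¹ = w ^ k)

include hC

/-- The group-theoretic input: in a constrained system with model, an element fixed by the maps
stabilising `W(S)` is fixed by everything. -/
theorem fixes_of_centricNormal [Finite S] {F : FusionSystem S} {Q : Subgroup Ω}
    (h : CentricNormal F p Q) (hfree : F.IsSectionFree p H) {z w₀ : Ω} (hwS : w₀ ∈ S)
    (hw : w₀ ∈ Subgroup.centralizer (S : Set Ω)) (hzw : w₀ ^ k = z)
    (hfix : ∀ P f, IsMap F P f → functorOf W S ⊔ Q ≤ P →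
      f '' (functorOf W S : Set Ω) = functorOf W S → f z = z)
    (a : ↥(F.autGroup Q)) (hzQ : z ∈ Q) :
    (((a : MulAut Q) ⟨z, hzQ⟩ : Q) : Ω) = z := by
  have hzS : z ∈ S := hzw ▸ S.pow_mem hwS k
  have hz : z ∈ Subgroup.centralizer (S : Set Ω) := hzw ▸ Subgroup.pow_mem _ hw k
  obtain ⟨G, _, ι, hG⟩ := exists_model h.hS (⟨h.hF, Q, h.hn, h.hc⟩ : F.IsConstrained p)
  obtain ⟨ρ, hρι, hρs, hρQ, -⟩ := h.exists_action hG
  have hfin : Finite G := hG.1
  obtain ⟨hinj, hiff⟩ := hG.2.1
  obtain ⟨T, hT⟩ := hG.2.2.1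
  have hQn := normal_map_of_isModel hG h.hn
  let e : S ≃* ↥(T : Subgroup G) := (MonoidHom.ofInjective hinj).trans (MulEquiv.subgroupCongr hT.symm)
  have he : ∀ x : S, (e x : G) = ι x := fun x => rfl
  have hWT : (W ↥(T : Subgroup G)).map (T : Subgroup G).subtype
      = ((functorOf W S).subgroupOf S).map ι := by
    rw [← hW2 S ↥(T : Subgroup G) h.hS e, Subgroup.map_map, functorOf, Subgroup.subgroupOf,
      Subgroup.comap_map_eq_self_of_injective S.subtype_injective]
    rfl
  set N := Subgroup.normalizer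
    (((W ↥(T : Subgroup G)).map (T : Subgroup G).subtype : Subgroup G) : Set G)
  have hzO : ι ⟨z, hzS⟩ ∈ pCore p G :=
    CfsgLib.Fitting.le_pCore hQn ((h.hS.to_subgroup _).map _) ⟨⟨z, hzS⟩, hzQ, rfl⟩
  have hWS : functorOf W S ≤ S := functorOf_le W S
  have hP : functorOf W S ⊔ Q ≤ S := sup_le hWS h.le
  have hzN : ι ⟨z, hzS⟩ ∈ N := by
    rw [show N = Subgroup.normalizer
      ((((functorOf W S).subgroupOf S).map ι : Subgroup G) : Set G) by rw [← hWT]]
    refine Subgroup.le_normalizer ⟨⟨z, hzS⟩, ?_, rfl⟩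
    exact mem_functorOf_of_central W hW2 hWZ h.hS le_rfl hzS hz
  have hcomm : ∀ g ∈ N, g * ι ⟨z, hzS⟩ * g⁻¹ = ι ⟨z, hzS⟩ := by
    intro g hg
    rw [show N = Subgroup.normalizer
      ((((functorOf W S).subgroupOf S).map ι : Subgroup G) : Set G) by rw [← hWT]] at hg
    have hmem : ∀ x : ↥(functorOf W S ⊔ Q), ∃ w : S, ι w = g * ι ⟨x, hP x.2⟩ * g⁻¹ := by
      intro x
      have hle : ((functorOf W S ⊔ Q).subgroupOf S).map ι ≤
          (((functorOf W S ⊔ Q).subgroupOf S).map ι).comap (MulAut.conj g).toMonoidHom := by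
        conv_lhs => rw [Subgroup.subgroupOf_sup hWS h.le, Subgroup.map_sup]
        refine sup_le (fun y hy => ?_) fun y hy => ?_
        · exact Subgroup.map_mono (Subgroup.comap_mono le_sup_left)
            (conj_mem_of_mem_normalizer hg hy)
        · exact Subgroup.map_mono (Subgroup.comap_mono le_sup_right) (hQn.conj_mem y hy g)
      obtain ⟨w, -, hw⟩ := hle ⟨⟨x, hP x.2⟩, x.2, rfl⟩
      exact ⟨w, hw⟩
    choose w hw using hmem
    let φ : ↥(functorOf W S ⊔ Q) →* Ω := MonoidHom.mk' (fun x => (w x : Ω)) fun a b => by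
      rw [← Subgroup.coe_mul]
      congr 1
      refine hinj ?_
      rw [map_mul, hw, hw, hw,
        show (⟨((a * b : ↥(functorOf W S ⊔ Q)) : Ω), hP (a * b).2⟩ : S)
          = ⟨a, hP a.2⟩ * ⟨b, hP b.2⟩ from rfl, map_mul]
      group
    have hφ : φ ∈ F.Hom _ := (hiff _ hP φ fun x => (w x).2).2 ⟨g, hw⟩
    have himg : homFun φ '' (functorOf W S : Set Ω) = functorOf W S := by
      refine image_eq_of_mem hWS (isMap_homFun hφ) le_sup_left fun x hx => ?_
      rw [homFun_apply φ (Subgroup.mem_sup_left hx)]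
      obtain ⟨y, hy, hye⟩ := conj_mem_of_mem_normalizer hg
        (⟨⟨x, hWS hx⟩, hx, rfl⟩ : ι ⟨x, hWS hx⟩ ∈ ((functorOf W S).subgroupOf S).map ι)
      show (w _ : Ω) ∈ functorOf W S
      rw [hinj ((hw _).trans hye.symm)]
      exact hy
    have hzm : z ∈ functorOf W S ⊔ Q := Subgroup.mem_sup_right hzQ
    have e1 := hfix _ _ (isMap_homFun hφ) le_rfl himg
    rw [homFun_apply φ hzm] at e1
    rw [← hw ⟨z, hzm⟩]
    exact congrArg ι (Subtype.ext e1)
  have hzk : ι ⟨z, hzS⟩ = ι ⟨w₀, hwS⟩ ^ k := by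
    rw [← map_pow]
    congr 1
    exact Subtype.ext hzw.symm
  have hglob : ∀ g : G, g * ι ⟨z, hzS⟩ * g⁻¹ = ι ⟨z, hzS⟩ := by
    rw [hzk] at hcomm ⊢
    refine hC G T hG.2.2.2
      (not_involves_of_model h.hS ⟨h.hF, Q, h.hn, h.hc⟩ hfree hG) _ (hT.ge ⟨_, rfl⟩) ?_ hcomm
    rw [hT]
    rintro _ ⟨y, rfl⟩
    rw [← map_mul, ← map_mul]
    congr 1
    exact Subtype.ext (hw y y.2)
  obtain ⟨g, hg⟩ := hρs a
  have e1 := hρQ g ⟨z, hzS⟩ hzQ
  rw [hglob g, hg] at e1
  exact (congrArg (fun w : S => (w : Ω)) (hinj e1)).symm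

/-- Elements fixed by the maps stabilising `W(S)` are fixed by the whole system. -/
theorem fixes_of_functor : ∀ (n : ℕ) (Ω : Type u) [Group Ω] (S : Subgroup Ω) [Finite S]
    (F : FusionSystem S), (mapGraphs F).ncard = n → IsPGroup p S → F.IsSaturated p →
    F.IsSectionFree p H → ∀ w₀ ∈ S, w₀ ∈ Subgroup.centralizer (S : Set Ω) → ∀ z, w₀ ^ k = z →
    (∀ P f, IsMap F P f → functorOf W S ≤ P →
      f '' (functorOf W S : Set Ω) = functorOf W S → f z = z) →
    ∀ (P : Subgroup Ω) (f : Ω → Ω), IsMap F P f → z ∈ P → f z = z := by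
  intro n
  induction n using Nat.strong_induction_on with
  | _ n ihn =>
  intro Ω _ S _ F hn hS hF hfree w₀ hwS hw z hzw hfix
  have hzS : z ∈ S := hzw ▸ S.pow_mem hwS k
  have hz : z ∈ Subgroup.centralizer (S : Set Ω) := hzw ▸ Subgroup.pow_mem _ hw k
  have hZ : ∀ {Q : Subgroup Ω}, Q ≤ S → z ∈ Q → z ∈ functorOf W Q := fun hQ hzQ =>
    mem_functorOf_of_central W hW2 hWZ hS hQ hzQ hz
  -- normalizer systems of non-normal subgroups
  have hnorm : ∀ U : Subgroup Ω, F.IsFullyNormalized U → ¬ F.IsNormal U →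
      z ∈ normalizerIn S U → (∀ P f, IsMap F P f → functorOf W (normalizerIn S U) ≤ P →
        f '' (functorOf W (normalizerIn S U) : Set Ω) = functorOf W (normalizerIn S U) → f z = z) →
      ∀ P f, IsMap F P f → U ≤ P → P ≤ normalizerIn S U → f '' (U : Set Ω) = U → z ∈ P →
        f z = z := by
    intro U hU hnn hzU hh P f hf hUP hP hfU hzP
    have := finite_of_le (S := S) (P := normalizerIn S U) inf_le_left
    obtain ⟨E, hE⟩ : ∃ E, F.IsNormalizerSystem U E := ⟨normalizerSystem F U hU.1, fun _ => rfl⟩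
    have hsub : ∀ P f, IsMap E P f → IsMap F P f := fun P f hm => by
      obtain ⟨-, -, g, hg, hgf, -⟩ := (isMap_normalizerSystem_iff hE).1 hm
      exact (hg.mono le_sup_left).congr hgf
    have hlt : (mapGraphs E).ncard < n := by
      rw [← hn]
      refine ncard_mapGraphs_lt hsub ?_
      by_contra hcon
      push_neg at hcon
      refine hnn (isNormal_iff.2 ⟨hU.1, fun P f hm => ?_⟩)
      obtain ⟨-, -, g, hg, hgf, hgU⟩ := (isMap_normalizerSystem_iff hE).1 (hcon P f hm)
      exact ⟨g, hg, hgf, hgU⟩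
    have hUS : normalizerIn S U ≤ S := inf_le_left
    refine ihn _ hlt Ω _ E rfl (hS.to_le hUS) (isSaturated_normalizerSystem hS hF hU hE)
      (isSectionFree_normalizerSystem hS hF hfree hU hE) w₀
      ⟨hwS, Subgroup.centralizer_le_normalizer _
        (Subgroup.centralizer_le (show (U : Set Ω) ⊆ S from hU.1) hw)⟩
      (Subgroup.centralizer_le (show ((normalizerIn S U : Subgroup Ω) : Set Ω) ⊆ S from hUS) hw)
      z hzw
      (fun P' f' hm hle him => hh P' f' (hsub _ _ hm) hle him) P f ?_ hzP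
    refine (isMap_normalizerSystem_iff hE).2 ⟨hP, fun x hx => ?_, f, ?_, fun x _ => rfl, hfU⟩
    · exact hf.mem_normalizerIn hUP ⟨hf.mono hUP, hfU⟩ hx (hP hx).2
    · rwa [sup_eq_left.2 hUP]
  by_cases hcon : F.IsConstrained p
  · obtain ⟨-, Q, hQn, hQc⟩ := hcon
    have h : CentricNormal F p Q := ⟨hS, hF, hQn, hQc⟩
    intro P f hf hzP
    obtain ⟨g, hg, hgf, -⟩ := (isNormal_iff.1 hQn).2 P f hf
    obtain ⟨a, ha⟩ := h.exists_aut hg le_sup_right
    have hzQ := mem_of_central_of_centric hQc hzS hz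
    rw [← hgf z hzP, show g z = g ((⟨z, hzQ⟩ : Q) : Ω) from rfl, ha]
    exact fixes_of_centricNormal W hW2 hWZ k hC h hfree hwS hw hzw
      (fun P f hf hle him => hfix P f hf (le_sup_left.trans hle) him) a hzQ
  -- `F` is not constrained
  have hfixS : ∀ P f, IsMap F P f → functorOf W (normalizerIn S S) ≤ P →
      f '' (functorOf W (normalizerIn S S) : Set Ω) = functorOf W (normalizerIn S S) → f z = z := by
    intro P f hf hle him
    have e : normalizerIn S S = S := inf_eq_left.2 Subgroup.le_normalizer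
    rw [e] at hle him
    exact hfix P f hf hle him
  have hnormalU : ∀ U : Subgroup Ω, F.IsNormal U → z ∈ U → ∀ a ∈ F.autGroup U,
      autFun a z = z := by
    intro U hU hzU a ha
    set C := centralizerIn S U
    set R₀ := U ⊔ C with hR₀
    have hR₀S : R₀ ≤ S := sup_le hU.1 inf_le_left
    have hUnS := le_normalizer_of_isNormal hU
    have hR₀N : S ≤ Subgroup.normalizer (R₀ : Set Ω) := fun s hs => by
      refine mem_normalizer_of_conj_mem hR₀S fun x hx => ?_
      have hle : R₀.map (MulAut.conj s).toMonoidHom ≤ R₀ := by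
        rw [hR₀, Subgroup.map_sup]
        refine sup_le_sup ?_ ?_
        · rintro _ ⟨y, hy, rfl⟩; exact conj_mem_of_mem_normalizer (hUnS hs) hy
        · rintro _ ⟨y, hy, rfl⟩
          refine ⟨S.mul_mem (S.mul_mem hs hy.1) (S.inv_mem hs), mem_centralizer_of_conj_eq
            fun w hw => ?_⟩
          have hw' := conj_mem_of_mem_normalizer (hUnS (S.inv_mem hs)) hw
          have e := conj_eq_self_of_mem_centralizer hy.2 hw'
          calc s * y * s⁻¹ * w * (s * y * s⁻¹)⁻¹ = s * (y * (s⁻¹ * w * s⁻¹⁻¹) * y⁻¹) * s⁻¹ := by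
                group
            _ = w := by rw [e]; group
      exact hle ⟨x, hx, rfl⟩
    have hUfn : F.IsFullyNormalized U := by
      refine ⟨hU.1, fun Q hQ => ?_⟩
      obtain ⟨f, hf⟩ := isConj_iff.1 hQ
      rw [show Q = U from SetLike.coe_injective (hf.image_eq.symm.trans
        (image_eq_of_mem hU.1 hf.isMap le_rfl fun x hx =>
          isMap_mem_of_stronglyClosed (stronglyClosed_of_isNormal hU) hf.isMap hx hx))]
    have ha' := (mem_autGroup_iff hU.1 a).1 ha
    obtain ⟨f, hf, hfv⟩ :=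
      (isReceptive_iff.1 (isReceptive_of_isFullyNormalized hS hF hUfn)).2 U _ ha'
    have hR₀le : R₀ ≤ nPhi S U (autFun a) :=
      sup_le (le_nPhi ha'.isMap) (centralizerIn_le_nPhi U _)
    have hfR := hf.mono hR₀le
    have hUR : U ≤ R₀ := le_sup_left
    have hfU : IsIso F U U f := ha'.congr fun x hx => (hfv x hx).symm
    have hfmem : ∀ x ∈ R₀, f x ∈ R₀ := by
      intro x hx
      obtain ⟨φ, -, hv⟩ := id hfR
      have hle : ((U ⊔ C).subgroupOf R₀).map φ ≤ R₀ := by
        rw [Subgroup.subgroupOf_sup le_sup_left le_sup_right, Subgroup.map_sup]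
        refine sup_le ?_ ?_
        · rintro _ ⟨y, hy, rfl⟩
          rw [hv]
          exact hUR (hfU.mem hy)
        · rintro _ ⟨y, hy, rfl⟩
          rw [hv]
          exact Subgroup.mem_sup_right (hfR.mem_centralizerIn hUR hfU y.2 hy.2)
      have := hle ⟨⟨x, hx⟩, hx, rfl⟩
      rwa [hv] at this
    have hfiso : IsIso F R₀ R₀ f := by
      have := finite_of_le hR₀S
      exact hfR.isIso_of_card_le hfmem le_rfl
    rw [← hfv z hzU]
    have hR₀fn : F.IsFullyNormalized R₀ := by
      refine ⟨hR₀S, fun Q' _ => ?_⟩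
      rw [show normalizerIn S R₀ = S from inf_eq_left.2 hR₀N]
      exact Subgroup.card_le_of_le inf_le_left
    refine hnorm R₀ hR₀fn (fun hn0 => hcon ⟨hF, R₀, hn0,
        isCentric_of_fullyCentralized hS hF (isFullyCentralized_of_isFullyNormalized hS hF hR₀fn)
          fun x hx => Subgroup.mem_sup_right
            ⟨hx.1, Subgroup.centralizer_le (show (U : Set Ω) ⊆ R₀ from hUR) hx.2⟩⟩)
      ⟨hzS, hR₀N hzS⟩ ?_ R₀ f hfR le_rfl (le_normalizerIn hR₀S) hfiso.image_eq (hUR hzU)
    rw [show normalizerIn S R₀ = S from inf_eq_left.2 hR₀N]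
    exact hfix
  -- all automorphisms at essential subgroups fix `z`, by downward induction on the size
  suffices hA : ∀ (m : ℕ) (P : Subgroup Ω) (f : Ω → Ω), Nat.card S - Nat.card P = m →
      IsMap F P f → z ∈ P → f z = z from fun P f hf hzP => hA _ P f rfl hf hzP
  intro m
  induction m using Nat.strong_induction_on with
  | _ m ih =>
  intro P f hm hf hzP
  have hbig : ∀ (A : Subgroup Ω) (g : Ω → Ω), IsMap F A g → Nat.card P < Nat.card A → z ∈ A →
      g z = z := by
    intro A g hg hlt hzA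
    have := Subgroup.card_le_of_le hg.le
    exact ih _ (by omega) A g rfl hg hzA
  have hB : ∀ (k : ℕ) (U : Subgroup Ω), Nat.card S - Nat.card (normalizerIn S U) = k →
      F.IsFullyNormalized U → z ∈ U → Nat.card P < Nat.card (normalizerIn S U) →
      ∀ A g, IsMap F A g → U ≤ A → A ≤ normalizerIn S U → g '' (U : Set Ω) = U → g z = z := by
    intro k
    induction k using Nat.strong_induction_on with
    | _ k ihk =>
    intro U hk hU hzU hlt A g hg hUA hA hgU
    by_cases hUn : F.IsNormal U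
    · obtain ⟨a, ha, hav⟩ := exists_mem_autGroup (⟨hg.mono hUA, hgU⟩ : IsIso F U U g)
      have := hnormalU U hUn hzU a ha
      rwa [autFun_apply a hzU, hav] at this
    refine hnorm U hU hUn (le_normalizerIn hU.1 hzU) ?_ A g hg hUA hA hgU (hUA hzU)
    intro B b hb hle him
    set T := normalizerIn S U
    rcases eq_or_ne T S with hTS | hTS
    · rw [hTS] at hle him; exact hfix B b hb hle him
    have hTle : T ≤ S := inf_le_left
    have hTp : IsPGroup p T := hS.to_le hTle
    have := finite_of_le hTle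
    set U₂ := functorOf W T
    have hU₂ : U₂ ≤ S := (functorOf_le W T).trans hTle
    have hzU₂ : z ∈ U₂ := hZ hTle (le_normalizerIn hU.1 hzU)
    have hlt2 : Nat.card T < Nat.card (normalizerIn S U₂) := by
      have h1 := lt_normalizerIn hS hTle hTS
      have h2 : normalizerIn S T ≤ normalizerIn S U₂ := fun x hx =>
        ⟨hx.1, normalizer_le_functorOf W hW2 hTle hTp hx.2⟩
      have := finite_of_le (S := S) (P := normalizerIn S U₂) inf_le_left
      refine lt_of_lt_of_le ?_ (Subgroup.card_le_of_le h2)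
      have := finite_of_le (S := S) (P := normalizerIn S T) inf_le_left
      refine lt_of_le_of_ne (Subgroup.card_le_of_le h1.le) fun h => ?_
      exact h1.ne (Subgroup.eq_of_le_of_card_ge h1.le h.ge)
    obtain ⟨V, hUV, hV⟩ := exists_isFullyNormalized (F := F) hU₂
    obtain ⟨c, hc, hci, hcN, -⟩ := exists_map_normalizerIn hS
      (isFullyAutomized_of_isFullyNormalized hS hF hV)
      (isReceptive_of_isFullyNormalized hS hF hV) hUV
    have hcz : c z = z := hbig _ c hc (by omega) (le_normalizerIn hU₂ hzU₂)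
    have hzV : z ∈ V := hcz ▸ hci.mem hzU₂
    have hcard : Nat.card (normalizerIn S U₂) ≤ Nat.card (normalizerIn S V) :=
      hV.2 U₂ (isConj_symm hUV)
    have hbV : IsIso F U₂ U₂ b := ⟨hb.mono hle, him⟩
    obtain ⟨c', hc', hc'1, -⟩ := hci.exists_symm
    have hconj := (hc'.comp hbV).comp hci
    have hVle : Nat.card (normalizerIn S V) ≤ Nat.card S := Subgroup.card_le_of_le inf_le_left
    have := ihk _ (by omega) V rfl hV hzV (by omega) V _ hconj.isMap le_rfl (le_normalizerIn hV.1)
      hconj.image_eq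
    have e : c (b (c' z)) = z := this
    have hc'z : c' z = z := by
      conv_lhs => rw [← hcz]
      exact hc'1 z hzU₂
    rw [hc'z] at e
    refine hci.isMap.injOn (hbV.mem hzU₂) hzU₂ ?_
    rw [e, hcz]
  -- the Alperin step
  obtain ⟨P', hP'⟩ := hf.exists_iso
  rcases eq_or_ne P S with hPS | hne
  · subst hPS
    refine hfix P f hf (functorOf_le W P) ?_
    obtain ⟨α, hα, hv⟩ := exists_mem_autGroup
      (hf.isIso_of_card_le (fun x hx => hf.mem hx) le_rfl)
    refine image_eq_of_mem (functorOf_le W P) hf (functorOf_le W P) ?_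
    rintro _ ⟨w, hw, rfl⟩
    refine ⟨α w, ?_, hv w⟩
    rw [SetLike.mem_coe, ← hW2 P P hS α]
    exact ⟨w, hw, rfl⟩
  have hbigN : ∀ A : Subgroup Ω, A ≤ S → A ≠ S → Nat.card A = Nat.card P →
      Nat.card P < Nat.card (normalizerIn S A) := by
    intro A hA hAne hcard
    have := finite_of_le (S := S) (P := normalizerIn S A) inf_le_left
    have h1 := lt_normalizerIn hS hA hAne
    rw [← hcard]
    exact lt_of_le_of_ne (Subgroup.card_le_of_le h1.le) fun h =>
      h1.ne (Subgroup.eq_of_le_of_card_ge h1.le h.ge)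
  have hPle := hf.le
  have hP'ne : P' ≠ S := fun h => hne (Subgroup.eq_of_le_of_card_ge hPle (h ▸ hP'.card_eq).le)
  obtain ⟨R, hPR, hR⟩ := exists_isFullyNormalized (F := F) hPle
  have haR := isFullyAutomized_of_isFullyNormalized hS hF hR
  have hrR := isReceptive_of_isFullyNormalized hS hF hR
  obtain ⟨a, haN, haP, -, -⟩ := exists_map_normalizerIn hS haR hrR hPR
  obtain ⟨b, hbN, hbP, -, -⟩ :=
    exists_map_normalizerIn hS haR hrR (isConj_trans (isConj_symm hP'.isConj) hPR)
  have haz : a z = z := hbig _ a haN (hbigN P hPle hne rfl) (le_normalizerIn hPle hzP)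
  have hzR : z ∈ R := haz ▸ haP.mem hzP
  have hRne : R ≠ S := fun h =>
    hne (Subgroup.eq_of_le_of_card_ge hPle (by rw [← haP.card_eq, h]))
  obtain ⟨a', ha', ha'1, -⟩ := haP.exists_symm
  obtain ⟨α, hα, hαv⟩ := exists_mem_autGroup ((ha'.comp hP').comp hbP)
  suffices hαz : autFun α z = z by
    rw [autFun_apply α hzR, hαv] at hαz
    have ha'z : a' z = z := by
      conv_lhs => rw [← haz]
      exact ha'1 z hzP
    have e : b (f z) = z := by
      have : b (f (a' z)) = z := hαz
      rwa [ha'z] at this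
    obtain ⟨b', hb', hb'1, -⟩ := hbP.exists_symm
    have hzb : z ∈ normalizerIn S P' := ⟨hzS, Subgroup.centralizer_le_normalizer _
      (Subgroup.centralizer_le (show (P' : Set Ω) ⊆ S from hP'.le_right) hz)⟩
    have hbz : b z = z :=
      hbig _ b hbN (hbigN P' hP'.le_right hP'ne hP'.card_eq) hzb
    refine hbN.injOn (le_normalizerIn hP'.le_right (hP'.mem hzP)) hzb ?_
    rw [e, hbz]
  have hcardR : Nat.card R = Nat.card P := haP.card_eq
  by_cases hext : Subgroup.closure (extSet F R) = F.autGroup R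
  · rw [← hext] at hα
    let M : Subgroup (MulAut R) :=
      { carrier := {β | β ⟨z, hzR⟩ = ⟨z, hzR⟩}
        one_mem' := rfl
        mul_mem' := fun {β γ} hβ hγ => by
          show β (γ ⟨z, hzR⟩) = _
          rw [hγ, hβ]
        inv_mem' := fun {β} hβ => by
          show β⁻¹ ⟨z, hzR⟩ = _
          conv_lhs => rw [← hβ]
          exact MulAut.inv_apply_self _ _ _ }
    have hle : Subgroup.closure (extSet F R) ≤ M := by
      rw [Subgroup.closure_le]
      rintro β ⟨A, hRA, g, hg, hgv⟩
      have := finite_of_le hg.le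
      have h1 : Nat.card R < Nat.card A := by
        refine lt_of_le_of_ne (Subgroup.card_le_of_le hRA.le) fun h => ?_
        exact hRA.ne (Subgroup.eq_of_le_of_card_ge hRA.le h.ge)
      refine Subtype.ext ?_
      rw [hgv]
      exact hbig A g hg (by omega) (hRA.le hzR)
    rw [autFun_apply α hzR]
    exact congrArg Subtype.val (hle hα)
  -- `R` is centric
  have hRc := (isEssential_of_ne hS hF (lt_of_le_of_ne hR.1 hRne) hR hext).1
  obtain ⟨E, hE⟩ : ∃ E, F.IsNormalizerSystem R E := ⟨normalizerSystem F R hR.1, fun _ => rfl⟩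
  have h := centricNormal_normalizerSystem hS hF hR hRc hE
  set T := normalizerIn S R
  have hTle : T ≤ S := inf_le_left
  have := finite_of_le hTle
  have hTp : IsPGroup p T := hS.to_le hTle
  rw [← autGroup_normalizerSystem (F := F) hR.1 hE] at hα
  rw [autFun_apply α hzR]
  refine fixes_of_centricNormal W hW2 hWZ k hC h (isSectionFree_normalizerSystem hS hF hfree hR hE)
    (show w₀ ∈ T from ⟨hwS, Subgroup.centralizer_le_normalizer _
      (Subgroup.centralizer_le (show (R : Set Ω) ⊆ S from hR.1) hw)⟩)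
    (Subgroup.centralizer_le (show (T : Set Ω) ⊆ S from hTle) hw) hzw (fun A g hg hle him => ?_)
    ⟨α, hα⟩ hzR
  obtain ⟨hA, -, g', hg', hgg', -⟩ := (isMap_normalizerSystem_iff hE).1 hg
  have hgF : IsMap F A g := (hg'.mono le_sup_left).congr hgg'
  set U := functorOf W T
  have hRA : R ≤ A := le_sup_right.trans hle
  have hzU : z ∈ U := hZ hTle (le_normalizerIn hR.1 hzR)
  have hUA : U ≤ A := le_sup_left.trans hle
  have hUS : U ≤ S := hUA.trans (hA.trans hTle)
  have := finite_of_le hgF.le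
  rcases eq_or_lt_of_le hRA with hRA' | hRA'
  swap
  · have h1 : Nat.card R < Nat.card A := by
      refine lt_of_le_of_ne (Subgroup.card_le_of_le hRA) fun h => ?_
      exact hRA'.ne (Subgroup.eq_of_le_of_card_ge hRA h.ge)
    exact hbig A g hgF (by omega) (hUA hzU)
  rcases eq_or_ne T S with hTS | hTS
  · refine hfix A g hgF ?_ ?_
    · rw [← hTS]; exact hUA
    · rw [← hTS]; exact him
  have hlt2 : Nat.card P < Nat.card (normalizerIn S U) := by
    have h2 : normalizerIn S T ≤ normalizerIn S U := fun x hx =>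
      ⟨hx.1, normalizer_le_functorOf W hW2 hTle hTp hx.2⟩
    have := finite_of_le (S := S) (P := normalizerIn S U) inf_le_left
    have h3 := lt_normalizerIn hS hTle hTS
    have h4 := hbigN R hR.1 hRne hcardR
    exact lt_of_lt_of_le h4 (Subgroup.card_le_of_le (h3.le.trans h2))
  obtain ⟨V, hUV, hV⟩ := exists_isFullyNormalized (F := F) hUS
  obtain ⟨c, hc, hci, -, -⟩ := exists_map_normalizerIn hS
    (isFullyAutomized_of_isFullyNormalized hS hF hV)
    (isReceptive_of_isFullyNormalized hS hF hV) hUV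
  have hcz : c z = z := hbig _ c hc hlt2 (le_normalizerIn hUS hzU)
  have hzV : z ∈ V := hcz ▸ hci.mem hzU
  obtain ⟨c', hc', hc'1, -⟩ := hci.exists_symm
  have hgU : IsIso F U U g := ⟨hgF.mono hUA, him⟩
  have hconj := (hc'.comp hgU).comp hci
  have e : c (g (c' z)) = z := hB _ V rfl hV hzV
    (lt_of_lt_of_le hlt2 (hV.2 U (isConj_symm hUV))) V _ hconj.isMap le_rfl (le_normalizerIn hV.1)
    hconj.image_eq
  have hc'z : c' z = z := by
    conv_lhs => rw [← hcz]
    exact hc'1 z hzU
  rw [hc'z] at e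
  refine hci.isMap.injOn (hgU.mem hzU) hzU ?_
  rw [e, hcz]

omit hWZ hC in
/-- The centre of a system is central in the normalizer system of `W(S)`. -/
theorem center_le_center_normalizerSystem [Finite S] (hS : IsPGroup p S) {F : FusionSystem S}
    {N : FusionSystem (normalizerIn S (functorOf W S))}
    (hN : F.IsNormalizerSystem (functorOf W S) N) : F.center ≤ N.center := by
  have hUn : normalizerIn S (functorOf W S) = S := inf_eq_left.2 fun s hs =>
    normalizer_le_functorOf W hW2 le_rfl hS (Subgroup.le_normalizer hs)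
  have hcF := isCentral_center F
  refine le_sSup (show N.IsCentral F.center from isCentral_iff.2 ⟨hUn.symm ▸ hcF.1,
    fun P f hf => ?_⟩)
  obtain ⟨hP, hfN, g, hg, hgf, hgU⟩ := (isMap_normalizerSystem_iff hN).1 hf
  obtain ⟨k, hk, hkg, hkfix⟩ := (isCentral_iff.1 hcF).2 _ g hg
  have hkU : k '' ((functorOf W S) : Set Ω) = (functorOf W S) := by
    rw [Set.image_congr fun x hx => hkg x (Subgroup.mem_sup_right hx)]
    exact hgU
  have hle : P ⊔ F.center ≤ P ⊔ (functorOf W S) ⊔ F.center := sup_le_sup_right le_sup_left _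
  refine ⟨k, (isMap_normalizerSystem_iff hN).2 ⟨?_, fun x hx => hUn.symm ▸ hk.mem (hle hx), k,
    hk.mono ?_, fun _ _ => rfl, hkU⟩, fun x hx => ?_, hkfix⟩
  · exact sup_le hP (hUn.symm ▸ hcF.1)
  · exact sup_le hle (le_sup_right.trans le_sup_left)
  · rw [hkg x (Subgroup.mem_sup_left hx), hgf x hx]

omit hC in
/-- A functor with the local centre condition controls the centre. -/
theorem center_eq_of_functor (hC : ∀ (G : Type u) [Group G] [Finite G] (P : Sylow p G),
      Cfsg.pCore p G ⊓ Subgroup.center G = Cfsg.pCore p G ⊓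
        (Subgroup.center ↥(Subgroup.normalizer
          (((W ↥(P : Subgroup G)).map (P : Subgroup G).subtype : Subgroup G) : Set G))).map
          (Subgroup.normalizer
            (((W ↥(P : Subgroup G)).map (P : Subgroup G).subtype : Subgroup G) : Set G)).subtype)
    [Finite S] (hS : IsPGroup p S) {F : FusionSystem S}
    (hF : F.IsSaturated p) {N : FusionSystem (normalizerIn S (functorOf W S))}
    (hN : F.IsNormalizerSystem (functorOf W S) N) : N.center = F.center := by
  have hUS : (functorOf W S) ≤ S := functorOf_le W S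
  have hUn : normalizerIn S (functorOf W S) = S := inf_eq_left.2 fun s hs =>
    normalizer_le_functorOf W hW2 le_rfl hS (Subgroup.le_normalizer hs)
  have := finite_of_le (S := S) (P := normalizerIn S (functorOf W S)) inf_le_left
  have hcF := isCentral_center F
  have hcN := isCentral_center N
  refine le_antisymm ?_ ?_
  · intro z hz
    have hzS : z ∈ S := (inf_le_left : normalizerIn S (functorOf W S) ≤ S) (hcN.1 hz)
    have hzc : z ∈ Subgroup.centralizer (S : Set Ω) := by
      have h1 := FusionSystem.center_le_centralizer N hz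
      rwa [hUn] at h1
    have hpow : ∀ x ∈ Subgroup.zpowers z, ∀ P f, IsMap F P f → x ∈ P → f x = x := by
      intro x hx
      have hxc : x ∈ N.center := (Subgroup.zpowers_le.2 hz : Subgroup.zpowers z ≤ _) hx
      have hxS : x ∈ S := (Subgroup.zpowers_le.2 hzS : Subgroup.zpowers z ≤ S) hx
      refine fixes_of_functor W hW2 hWZ 1 (H := Multiplicative ℤ)
        (fun G _ _ P hc _ w hwP hw hfixN => ?_) _ Ω S F rfl hS hF (isSectionFree_infinite F _) x
        hxS ((Subgroup.zpowers_le.2 hzc : Subgroup.zpowers z ≤ _) hx) x (pow_one x)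
        fun A g hg hle him => ?_
      · simp only [pow_one] at hfixN ⊢
        have hwO : w ∈ Cfsg.pCore p G := hc (Subgroup.centralizer_le (show
          ((Cfsg.pCore p G : Subgroup G) : Set G) ⊆ (P : Subgroup G) from fun y hy =>
            le_sylow_of_normal_pGroup P (CfsgLib.Fitting.pCore_normal p)
              (CfsgLib.Fitting.pCore_isPGroup p) hy) hw)
        have hwN : w ∈ Subgroup.normalizer
            (((W ↥(P : Subgroup G)).map (P : Subgroup G).subtype : Subgroup G) : Set G) :=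
          Subgroup.centralizer_le_normalizer _ (Subgroup.centralizer_le
            (show (((W ↥(P : Subgroup G)).map (P : Subgroup G).subtype : Subgroup G) : Set G) ⊆
              (P : Subgroup G) from Subgroup.map_subtype_le _) hw)
        have h2 : w ∈ Cfsg.pCore p G ⊓ Subgroup.center G := by
          rw [hC G P]
          exact ⟨hwO, ⟨w, hwN⟩, Subgroup.mem_center_iff.2 fun y => Subtype.ext (by
            have := hfixN y y.2
            rwa [mul_inv_eq_iff_eq_mul] at this), rfl⟩
        intro g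
        rw [Subgroup.mem_center_iff.1 h2.2 g, mul_inv_cancel_right]
      have hxU : x ∈ (functorOf W S) := mem_functorOf_of_central W hW2 hWZ hS le_rfl hxS
        ((Subgroup.zpowers_le.2 hzc : Subgroup.zpowers z ≤ _) hx)
      have hgN : IsMap N A g := (isMap_normalizerSystem_iff hN).2
        ⟨hUn.symm ▸ hg.le, fun y hy => hUn.symm ▸ hg.mem hy, g, by rwa [sup_eq_left.2 hle],
          fun _ _ => rfl, him⟩
      obtain ⟨k, hk, hkg, hkfix⟩ := (isCentral_iff.1 hcN).2 A g hgN
      rw [← hkg x (hle hxU)]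
      exact hkfix x hxc
    exact (le_sSup (show F.IsCentral (Subgroup.zpowers z) from
      isCentral_of_fixed hS hF (Subgroup.zpowers_le.2 hzS) fun P f hf x hx hxz =>
        hpow x hxz P f hf hx) : Subgroup.zpowers z ≤ F.center) (Subgroup.mem_zpowers z)
  · exact center_le_center_normalizerSystem W hW2 hS hN

end CfsgLib.Fusion
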