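import Mathlib
import Cfsg.Agent.Lib.Fusion.CenterFunctor

/-!
A functor relative to a normal subgroup: the preimage of `W(T/U)`.
-/

set_option autoImplicit false

namespace CfsgLib.Fusion

open Cfsg Cfsg.FusionSystem

universe u

variable (W : ∀ (Q : Type u) [Group Q], Subgroup Q) {p : ℕ}

/-- The preimage in `T` of `W` of the quotient by the normal closure of `U ⊓ T`. -/
def relW {G : Type u} [Group G] (U T : Subgroup G) : Subgroup G :=
  ((W (↥T ⧸ Subgroup.normalClosure ((U.subgroupOf T : Subgroup T) : Set T))).comap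
    (QuotientGroup.mk' (Subgroup.normalClosure ((U.subgroupOf T : Subgroup T) : Set T)))).map
      T.subtype

theorem relW_le {G : Type u} [Group G] (U T : Subgroup G) : relW W U T ≤ T :=
  Subgroup.map_subtype_le _

theorem le_relW {G : Type u} [Group G] {U T : Subgroup G} (hUT : U ≤ T) : U ≤ relW W U T :=
  fun u hu => ⟨⟨u, hUT hu⟩, by
    show QuotientGroup.mk' (Subgroup.normalClosure ((U.subgroupOf T : Subgroup T) : Set T))
      (⟨u, hUT hu⟩ : T) ∈ W (↥T ⧸ Subgroup.normalClosure ((U.subgroupOf T : Subgroup T) : Set T))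
    rw [show QuotientGroup.mk' (Subgroup.normalClosure ((U.subgroupOf T : Subgroup T) : Set T))
      (⟨u, hUT hu⟩ : T) = 1 from
      (QuotientGroup.eq_one_iff _).2 (Subgroup.subset_normalClosure hu)]
    exact Subgroup.one_mem _, rfl⟩

variable (hW1 : ∀ (Q : Type u) [Group Q] [Finite Q], IsPGroup p Q → Nontrivial Q → W Q ≠ ⊥)
variable (hW2 : ∀ (Q R : Type u) [Group Q] [Group R] [Finite Q], IsPGroup p Q → ∀ φ : Q ≃* R,
  (W Q).map φ.toMonoidHom = W R)

include hW1 in
theorem relW_ne {G : Type u} [Group G] {U T : Subgroup G} [Finite T] (hT : IsPGroup p T)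
    (hUT : U ≤ T) (hn : T ≤ Subgroup.normalizer (U : Set G)) (hne : U ≠ T) :
    relW W U T ≠ U := by
  haveI : (U.subgroupOf T).Normal := (Subgroup.normal_subgroupOf_iff_le_normalizer hUT).2 hn
  intro h
  have hcl : Subgroup.normalClosure ((U.subgroupOf T : Subgroup T) : Set T) = U.subgroupOf T :=
    Subgroup.normalClosure_eq_self _
  set N := Subgroup.normalClosure ((U.subgroupOf T : Subgroup T) : Set T)
  have hnt : Nontrivial (↥T ⧸ N) := by
    obtain ⟨t, ht, htU⟩ := SetLike.exists_of_lt (lt_of_le_of_ne hUT hne)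
    refine ⟨⟨QuotientGroup.mk ⟨t, ht⟩, 1, fun e => htU ?_⟩⟩
    rw [QuotientGroup.eq_one_iff, hcl] at e
    exact e
  refine hW1 (↥T ⧸ N) (hT.to_quotient N) hnt ((Subgroup.eq_bot_iff_forall _).2 fun q hq => ?_)
  obtain ⟨t, rfl⟩ := QuotientGroup.mk_surjective q
  rw [QuotientGroup.eq_one_iff, hcl, Subgroup.mem_subgroupOf, ← h]
  exact ⟨t, hq, rfl⟩

include hW2

theorem relW_map {G G₂ : Type u} [Group G] [Group G₂] {U T : Subgroup G} [Finite T]
    (hT : IsPGroup p T) {U₂ T₂ : Subgroup G₂} (e : T ≃* T₂)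
    (hU : (U.subgroupOf T).map e.toMonoidHom = U₂.subgroupOf T₂) :
    ∀ x : T, ((e x : T₂) : G₂) ∈ relW W U₂ T₂ ↔ (x : G) ∈ relW W U T := by
  intro x
  set N := Subgroup.normalClosure ((U.subgroupOf T : Subgroup T) : Set T)
  set N₂ := Subgroup.normalClosure ((U₂.subgroupOf T₂ : Subgroup T₂) : Set T₂)
  have hN : N.map e.toMonoidHom = N₂ := by
    show (Subgroup.normalClosure _).map _ = _
    rw [Subgroup.map_normalClosure _ e.toMonoidHom e.surjective, ← Subgroup.coe_map, hU]
  let ψ : (↥T ⧸ N) ≃* (↥T₂ ⧸ N₂) := QuotientGroup.congr N N₂ e hN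
  have hW := hW2 _ _ (hT.to_quotient N) ψ
  have h1 : ((e x : T₂) : G₂) ∈ relW W U₂ T₂ ↔ QuotientGroup.mk' N₂ (e x) ∈ W (↥T₂ ⧸ N₂) :=
    Subgroup.mem_map_iff_mem T₂.subtype_injective
  have h2 : (x : G) ∈ relW W U T ↔ QuotientGroup.mk' N x ∈ W (↥T ⧸ N) :=
    Subgroup.mem_map_iff_mem T.subtype_injective
  rw [h1, h2, ← hW, show QuotientGroup.mk' N₂ (e x) = ψ (QuotientGroup.mk' N x) from rfl]
  exact Subgroup.mem_map_iff_mem (f := ψ.toMonoidHom) ψ.injective

theorem relW_bot {G : Type u} [Group G] {T : Subgroup G} [Finite T] (hT : IsPGroup p T) :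
    relW W ⊥ T = functorOf W T := by
  set N := Subgroup.normalClosure (((⊥ : Subgroup G).subgroupOf T : Subgroup T) : Set T)
  have hN : N = ⊥ := by
    show Subgroup.normalClosure _ = _
    rw [Subgroup.bot_subgroupOf]
    exact Subgroup.normalClosure_eq_self _
  let ψ : T ≃* (↥T ⧸ N) := MulEquiv.ofBijective (QuotientGroup.mk' N) ⟨by
    rw [← MonoidHom.ker_eq_bot_iff, QuotientGroup.ker_mk', hN],
    QuotientGroup.mk'_surjective N⟩
  have hW := hW2 _ _ hT ψ
  ext y
  constructor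
  · rintro ⟨x, hx, rfl⟩
    have hx' : QuotientGroup.mk' N x ∈ W (↥T ⧸ N) := hx
    rw [← hW] at hx'
    exact ⟨x, (Subgroup.mem_map_iff_mem (f := ψ.toMonoidHom) ψ.injective).1 hx', rfl⟩
  · rintro ⟨x, hx, rfl⟩
    refine ⟨x, ?_, rfl⟩
    show QuotientGroup.mk' N x ∈ W (↥T ⧸ N)
    rw [← hW]
    exact ⟨x, hx, rfl⟩

theorem normalizer_le_relW {G : Type u} [Group G] {S U T : Subgroup G} [Finite S] (hT : T ≤ S)
    (hTp : IsPGroup p T) {g : G} (hg : g ∈ Subgroup.normalizer (T : Set G))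
    (hgU : g ∈ Subgroup.normalizer (U : Set G)) :
    g ∈ Subgroup.normalizer (relW W U T : Set G) := by
  have := finite_of_le hT
  refine mem_normalizer_of_conj_mem ((relW_le W U T).trans hT) fun x hx => ?_
  have hxT := relW_le W U T hx
  have hU : (U.subgroupOf T).map (conjAut T hg).toMonoidHom = U.subgroupOf T := by
    ext y
    constructor
    · rintro ⟨z, hz, rfl⟩
      show ((conjAut T hg z : T) : G) ∈ U
      rw [conjAut_apply]
      exact conj_mem_of_mem_normalizer hgU hz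
    · intro hy
      refine ⟨(conjAut T hg).symm y, ?_, MulEquiv.apply_symm_apply _ _⟩
      show (((conjAut T hg).symm y : T) : G) ∈ U
      refine (Subgroup.mem_normalizer_iff.1 hgU _).2 ?_
      rw [← conjAut_apply T hg, MulEquiv.apply_symm_apply]
      exact hy
  have := (relW_map W hW2 hTp (conjAut T hg) hU ⟨x, hxT⟩).2 hx
  rwa [conjAut_apply] at this

theorem image_relW {G : Type u} [Group G] {S : Subgroup G} [Finite S] (hS : IsPGroup p S)
    {F : FusionSystem S} {U T : Subgroup G} (hT : T ≤ S) (hUT : U ≤ T) {f : G → G}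
    (hf : IsIso F T T f) (hfU : f '' (U : Set G) = U) :
    f '' (relW W U T : Set G) = relW W U T := by
  have := finite_of_le hT
  obtain ⟨α, hα, hv⟩ := exists_mem_autGroup hf
  have hU : (U.subgroupOf T).map α.toMonoidHom = U.subgroupOf T := by
    ext y
    constructor
    · rintro ⟨z, hz, rfl⟩
      show ((α z : T) : G) ∈ U
      rw [hv]
      exact hfU.subset ⟨z, hz, rfl⟩
    · intro hy
      obtain ⟨z, hz, hzy⟩ := hfU.ge hy
      exact ⟨⟨z, hUT hz⟩, hz, Subtype.ext ((hv _).trans hzy)⟩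
  refine image_eq_of_mem ((relW_le W U T).trans hT) hf.isMap (relW_le W U T) fun x hx => ?_
  have := (relW_map W hW2 (hS.to_le hT) α hU ⟨x, relW_le W U T hx⟩).2 hx
  rwa [hv] at this

end CfsgLib.Fusion
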