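import Mathlib
import Cfsg.Agent.Lib.Fusion.KSystem
import Cfsg.Agent.Lib.Fusion.RelFunctor
import Cfsg.Agent.Lib.Fusion.Alperin

/-!
A functor normal in every constrained group free of a section is normal in every saturated system
free of that section.
-/

set_option autoImplicit false

namespace CfsgLib.Fusion

open Cfsg Cfsg.FusionSystem

universe u v

variable (W : ∀ (Q : Type u) [Group Q], Subgroup Q) {p : ℕ} {H : Type v} [Group H]
variable (hW1 : ∀ (Q : Type u) [Group Q] [Finite Q], IsPGroup p Q → Nontrivial Q → W Q ≠ ⊥)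
variable (hW2 : ∀ (Q R : Type u) [Group Q] [Group R] [Finite Q], IsPGroup p Q → ∀ φ : Q ≃* R,
  (W Q).map φ.toMonoidHom = W R)
variable (hW3 : ∀ (L : Type u) [Group L] [Finite L] (P : Sylow p L),
  Subgroup.centralizer ((Cfsg.pCore p L : Subgroup L) : Set L) ≤ Cfsg.pCore p L →
  ¬ Cfsg.Involves H L →
  ((W ↥(P : Subgroup L)).map (P : Subgroup L).subtype).Normal)
variable [Fact p.Prime]

omit [Fact p.Prime] in
/-- The centralizer condition passes to the quotient by a normal `p`-subgroup. -/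
theorem centralizer_pCore_quotient_le {L : Type u} [Group L] [Finite L] [Fact p.Prime]
    (hc : Subgroup.centralizer ((Cfsg.pCore p L : Subgroup L) : Set L) ≤ Cfsg.pCore p L)
    {U : Subgroup L} [hU : U.Normal] (hUp : IsPGroup p U)
    (haut : ∀ g : L, (orderOf g).Coprime p → ∀ u ∈ U, g * u * g⁻¹ = u) :
    Subgroup.centralizer ((Cfsg.pCore p (L ⧸ U) : Subgroup (L ⧸ U)) : Set (L ⧸ U))
      ≤ Cfsg.pCore p (L ⧸ U) := by
  have hO : (Cfsg.pCore p L).Normal := CfsgLib.Fitting.pCore_normal p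
  have hUO : U ≤ Cfsg.pCore p L := CfsgLib.Fitting.le_pCore hU hUp
  let π : L →* L ⧸ U := QuotientGroup.mk' U
  have hπ : Function.Surjective π := QuotientGroup.mk'_surjective U
  let O₁ : Subgroup (L ⧸ U) := (Cfsg.pCore p L).map π
  have hO₁n : O₁.Normal := hO.map π hπ
  have hO₁p : IsPGroup p O₁ := (CfsgLib.Fitting.pCore_isPGroup p).map π
  let M : Subgroup L := (Subgroup.centralizer (O₁ : Set (L ⧸ U))).comap π
  have hMn : M.Normal := (inferInstance : (Subgroup.centralizer (O₁ : Set (L ⧸ U))).Normal).comap π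
  have hMp : IsPGroup p M := by
    refine isPGroup_of_coprime_trivial fun g hg hord => ?_
    have hfixO : ∀ r ∈ Cfsg.pCore p L, g * r = r * g := by
      intro r hr
      have h1 : π r * π g = π g * π r := hg (π r) ⟨r, hr, rfl⟩
      rw [← map_mul, ← map_mul] at h1
      set d := (r * g)⁻¹ * (g * r) with hd
      have hdU : d ∈ U := QuotientGroup.eq.1 h1
      have hconj : g * r * g⁻¹ = r * (g * d * g⁻¹) := by rw [hd]; group
      rw [haut g hord d hdU] at hconj
      have hpow : ∀ k : ℕ, g ^ k * r * (g ^ k)⁻¹ = r * d ^ k := by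
        intro k
        induction k with
        | zero => simp
        | succ k ih =>
          calc g ^ (k + 1) * r * (g ^ (k + 1))⁻¹ = g * (g ^ k * r * (g ^ k)⁻¹) * g⁻¹ := by
                rw [pow_succ']; group
            _ = (g * r * g⁻¹) * (g * d ^ k * g⁻¹) := by rw [ih]; group
            _ = r * d * d ^ k := by rw [hconj, haut g hord _ (U.pow_mem hdU k)]
            _ = r * d ^ (k + 1) := by rw [pow_succ', mul_assoc]
      have h2 := hpow (orderOf g)
      rw [pow_orderOf_eq_one, one_mul, inv_one, mul_one, left_eq_mul] at h2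
      obtain ⟨j, hj⟩ := hUp ⟨d, hdU⟩
      have hd1 : d = 1 := orderOf_eq_one_iff.1 (Nat.eq_one_of_dvd_coprimes
        (Nat.Coprime.pow_right j hord) (orderOf_dvd_of_pow_eq_one h2)
        (orderOf_dvd_of_pow_eq_one (congrArg Subtype.val hj)))
      rw [hd, inv_mul_eq_one] at hd1
      exact hd1.symm
    obtain ⟨j, hj⟩ := CfsgLib.Fitting.pCore_isPGroup (G := L) p
      ⟨g, hc fun r hr => (hfixO r hr).symm⟩
    exact orderOf_eq_one_iff.1 (Nat.eq_one_of_dvd_coprimes
      (hord.pow_right j) dvd_rfl (orderOf_dvd_of_pow_eq_one (congrArg Subtype.val hj)))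
  have hMO : M ≤ Cfsg.pCore p L := CfsgLib.Fitting.le_pCore hMn hMp
  have hle : O₁ ≤ Cfsg.pCore p (L ⧸ U) := CfsgLib.Fitting.le_pCore hO₁n hO₁p
  intro x hx
  obtain ⟨g, rfl⟩ := hπ x
  exact hle ⟨g, hMO (Subgroup.centralizer_le (show (O₁ : Set (L ⧸ U)) ⊆
    (Cfsg.pCore p (L ⧸ U) : Subgroup (L ⧸ U)) from hle) hx), rfl⟩

include hW2

/-- The relative functor at a Sylow subgroup is the preimage of the functor in the quotient. -/
theorem relW_eq_comap {L : Type u} [Group L] [Finite L] (T₀ : Sylow p L) {U : Subgroup L}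
    [hU : U.Normal] (hUp : IsPGroup p U) :
    relW W U (T₀ : Subgroup L) =
      ((W ↥(T₀.mapSurjective (QuotientGroup.mk'_surjective U) : Subgroup (L ⧸ U))).map
        (T₀.mapSurjective (QuotientGroup.mk'_surjective U) : Subgroup (L ⧸ U)).subtype).comap
        (QuotientGroup.mk' U) := by
  have hUT : U ≤ (T₀ : Subgroup L) := fun u hu => le_sylow_of_normal_pGroup T₀ hU hUp hu
  let π : L →* L ⧸ U := QuotientGroup.mk' U
  have hπ : Function.Surjective π := QuotientGroup.mk'_surjective U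
  set TX := (T₀.mapSurjective hπ : Subgroup (L ⧸ U)) with hTX
  have hTXm : ∀ t : (T₀ : Subgroup L), π t ∈ TX := fun t => ⟨t, t.2, rfl⟩
  set N := Subgroup.normalClosure ((U.subgroupOf (T₀ : Subgroup L) : Subgroup (T₀ : Subgroup L)) :
    Set (T₀ : Subgroup L))
  have hN : N = U.subgroupOf (T₀ : Subgroup L) := by
    haveI : (U.subgroupOf (T₀ : Subgroup L)).Normal := hU.subgroupOf _
    exact Subgroup.normalClosure_eq_self _
  let ρ : (T₀ : Subgroup L) →* TX := (π.comp (T₀ : Subgroup L).subtype).codRestrict TX hTXm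
  have hρs : Function.Surjective ρ := fun y => by
    obtain ⟨t, ht, hty⟩ := y.2
    exact ⟨⟨t, ht⟩, Subtype.ext hty⟩
  have hρk : ρ.ker = N := by
    rw [hN]
    ext t
    rw [MonoidHom.mem_ker, Subgroup.mem_subgroupOf]
    constructor
    · intro h; exact (QuotientGroup.eq_one_iff _).1 (congrArg Subtype.val h)
    · intro h; exact Subtype.ext ((QuotientGroup.eq_one_iff _).2 h)
  let e : (↥(T₀ : Subgroup L) ⧸ N) ≃* TX := (QuotientGroup.quotientMulEquivOfEq hρk.symm).trans
    (QuotientGroup.quotientKerEquivOfSurjective ρ hρs)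
  have hW := hW2 _ _ (T₀.isPGroup'.to_quotient N) e
  show relW W U (T₀ : Subgroup L) = ((W ↥TX).map TX.subtype).comap π
  ext x
  constructor
  · rintro ⟨t, ht, rfl⟩
    refine ⟨ρ t, ?_, rfl⟩
    rw [SetLike.mem_coe, ← hW]
    exact ⟨_, ht, rfl⟩
  · rintro ⟨w, hw, hwx⟩
    obtain ⟨t, ht, hte⟩ := w.2
    have hd : (t : L)⁻¹ * x ∈ U := QuotientGroup.eq.1 (hte.trans hwx)
    have hxT : x ∈ (T₀ : Subgroup L) := by
      have := Subgroup.mul_mem _ ht (hUT hd)
      rwa [mul_inv_cancel_left] at this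
    refine ⟨⟨x, hxT⟩, ?_, rfl⟩
    have h1 : (ρ ⟨x, hxT⟩ : TX) = w := Subtype.ext hwx.symm
    rw [← hW] at hw
    obtain ⟨q, hq, hqe⟩ := hw
    show QuotientGroup.mk' N ⟨x, hxT⟩ ∈ W (↥(T₀ : Subgroup L) ⧸ N)
    rw [show QuotientGroup.mk' N ⟨x, hxT⟩ = q from e.injective (h1.trans hqe.symm)]
    exact hq

include hW3

/-- The relative functor is normal in a model. -/
theorem relW_normal_of_model {L : Type u} [Group L] [Finite L] (T₀ : Sylow p L)
    (hc : Subgroup.centralizer ((Cfsg.pCore p L : Subgroup L) : Set L) ≤ Cfsg.pCore p L)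
    (hfree : ¬ Cfsg.Involves H L) {U : Subgroup L} (hU : U.Normal) (hUp : IsPGroup p U)
    (haut : ∀ g : L, (orderOf g).Coprime p → ∀ u ∈ U, g * u * g⁻¹ = u) :
    (relW W U (T₀ : Subgroup L)).Normal := by
  rw [relW_eq_comap W hW2 T₀ hUp]
  exact (hW3 (L ⧸ U) _ (centralizer_pCore_quotient_le hc hUp haut) fun h =>
    hfree (CfsgLib.Offender.involves_of_surjective _ (QuotientGroup.mk'_surjective U) h)).comap _

/-- The relative functor is normal in a constrained system free of the section. -/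
theorem isNormal_relW_of_constrained {Ω : Type u} [Group Ω] {S : Subgroup Ω} [Finite S]
    {F : FusionSystem S} (hS : IsPGroup p S) (hF : F.IsConstrained p)
    (hfree : F.IsSectionFree p H) {U : Subgroup Ω} (hU : F.IsNormal U)
    (hUp : IsPGroup p (F.autGroup U)) : F.IsNormal (relW W U S) := by
  obtain ⟨hsat, Q, hQ, hQc⟩ := id hF
  have hCN : CentricNormal F p Q := ⟨hS, hsat, hQ, hQc⟩
  have hQfn := hCN.isFullyNormalized
  obtain ⟨N, hN⟩ : ∃ N, F.IsNormalizerSystem Q N :=
    ⟨normalizerSystem F Q hQ.1, fun _ => rfl⟩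
  obtain ⟨L, _, ι, hG⟩ := exists_model hS hF
  have : Finite L := hG.1
  obtain ⟨T₀, hT₀⟩ := hG.2.2.1
  have hinj := hG.2.1.1
  have hTS : normalizerIn S Q = S := inf_eq_left.2 hCN.le_normalizer
  have hN' : N.IsModel p L (ι.comp (MulEquiv.subgroupCongr hTS).toMonoidHom) := by
    refine ⟨inferInstance, ⟨hinj.comp (MulEquiv.subgroupCongr hTS).injective,
      fun P hP φ hφ => ?_⟩, ⟨T₀, ?_⟩, hG.2.2.2⟩
    · rw [← show φ ∈ F.Hom P ↔ φ ∈ N.Hom P from ?_]
      · exact hG.2.1.2 P (hP.trans inf_le_left) φ fun x => (hφ x).1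
      · rw [mem_hom_iff, mem_hom_iff, isMap_normalizerSystem_iff hN]
        constructor
        · intro h
          refine ⟨hP, fun x hx => ?_, (isNormal_iff.1 hQ).2 P _ h⟩
          rw [homFun_apply φ hx]; exact hφ _
        · rintro ⟨-, -, g, hg, hag, -⟩
          exact (hg.mono le_sup_left).congr hag
    · rw [MonoidHom.range_comp, MonoidHom.range_eq_top.2 (MulEquiv.subgroupCongr hTS).surjective,
        ← MonoidHom.range_eq_map, hT₀]
  have hfreeL := hfree Q hQfn hQc N hN L _ hN'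
  have hUS := hU.1
  have hUb : ((U.subgroupOf S).map ι).Normal := normal_map_of_isModel hG hU
  have hUbp : IsPGroup p ((U.subgroupOf S).map ι) := (hS.to_subgroup _).map _
  have haut : ∀ g : L, (orderOf g).Coprime p → ∀ u ∈ (U.subgroupOf S).map ι,
      g * u * g⁻¹ = u := by
    intro g hord
    have hval : ∀ (g : L) x, x ∈ U → ∃ w : S, (w : Ω) ∈ U ∧ ι w = g * homExt ι x * g⁻¹ := by
      intro g x hx
      obtain ⟨w, hw, hwe⟩ := hUb.conj_mem _
        (⟨⟨x, hUS hx⟩, hx, rfl⟩ : ι ⟨x, hUS hx⟩ ∈ (U.subgroupOf S).map ι) g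
      exact ⟨w, hw, by rw [hwe, homExt_apply ι (hUS hx)]⟩
    choose! w hwU hw using hval
    have hmem : ∀ g : L, ∃ a ∈ F.autGroup U, ∀ x : U, (a x : Ω) = w g x := fun g => by
      have hm : IsMap F U (fun x => (w g x : Ω)) :=
        isMap_of_conj hG.2.1 hUS (fun x _ => (w g x).2) fun x hx => by
          rw [homExt_apply ι (w g x).2]; exact hw g x hx
      have := finite_of_le hUS
      exact exists_mem_autGroup (hm.isIso_of_card_le (fun x hx => hwU g x hx) le_rfl)
    choose a ha hav using hmem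
    let χ : L →* F.autGroup U := MonoidHom.mk' (fun g => ⟨a g, ha g⟩) fun g₁ g₂ => by
      refine Subtype.ext (MulEquiv.ext fun x => Subtype.ext ?_)
      show (a (g₁ * g₂) x : Ω) = (a g₁ (a g₂ x) : Ω)
      rw [hav, hav, hav]
      refine congrArg Subtype.val (hinj ?_)
      rw [hw _ _ x.2, hw g₁ _ (hwU g₂ x x.2), homExt_apply ι (w g₂ x).2]
      show _ = g₁ * ι (w g₂ x) * g₁⁻¹
      rw [hw g₂ x x.2]
      group
    have h1 : χ g = 1 := by
      obtain ⟨k, hk⟩ := hUp (χ g)
      exact orderOf_eq_one_iff.1 (Nat.eq_one_of_dvd_coprimes (hord.pow_right k)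
        (orderOf_map_dvd χ g) (orderOf_dvd_of_pow_eq_one hk))
    rintro _ ⟨⟨x, hxS⟩, hx, rfl⟩
    have h2 : (a g ⟨x, hx⟩ : Ω) = x := by
      rw [show a g = 1 from congrArg Subtype.val h1]; rfl
    rw [hav] at h2
    have h3 := hw g x hx
    rw [homExt_apply ι hxS, show w g x = ⟨x, hxS⟩ from Subtype.ext h2] at h3
    exact h3.symm
  have hXn := relW_normal_of_model W hW2 hW3 T₀ hG.2.2.2 hfreeL hUb hUbp haut
  set X := relW W U S
  have hXS : X ≤ S := relW_le W U S
  let e : S ≃* ↥(T₀ : Subgroup L) :=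
    (MonoidHom.ofInjective hinj).trans (MulEquiv.subgroupCongr hT₀.symm)
  have hUe : (U.subgroupOf S).map e.toMonoidHom =
      ((U.subgroupOf S).map ι).subgroupOf (T₀ : Subgroup L) := by
    ext y
    constructor
    · rintro ⟨x, hx, rfl⟩; exact ⟨x, hx, rfl⟩
    · rintro ⟨x, hx, hxe⟩
      exact ⟨x, hx, Subtype.ext hxe⟩
  have hXb : ∀ x : S, ι x ∈ relW W ((U.subgroupOf S).map ι) (T₀ : Subgroup L) ↔ (x : Ω) ∈ X :=
    relW_map W hW2 hS e hUe
  refine isNormal_iff.2 ⟨hXS, fun P f hf => ?_⟩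
  obtain ⟨γ, hγ⟩ := exists_conj_of_isMap hG.2.1 hf
  let D : Subgroup S := ((ι.range).comap (MulAut.conj γ).toMonoidHom).comap ι
  have hle : (P ⊔ X).subgroupOf S ≤ D := by
    rw [Subgroup.subgroupOf_sup hf.le hXS]
    refine sup_le (fun x hx => ?_) fun x hx => ?_
    · refine ⟨⟨f x, hf.mem hx⟩, ?_⟩
      have := hγ (x : Ω) hx
      rw [homExt_apply ι (show f (x : Ω) ∈ S from hf.mem hx), homExt_apply ι x.2] at this
      exact this
    · have h1 := hXn.conj_mem _ ((hXb x).2 hx) γ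
      have h2 := relW_le W _ _ h1
      rw [hT₀] at h2
      exact h2
  choose! w hw using fun (x : Ω) (hx : x ∈ P ⊔ X) =>
    hle (show (⟨x, sup_le hf.le hXS hx⟩ : S) ∈ _ from hx)
  have hg : IsMap F (P ⊔ X) (fun x => (w x : Ω)) :=
    isMap_of_conj hG.2.1 (sup_le hf.le hXS) (fun x _ => (w x).2) fun x hx => by
      rw [homExt_apply ι (w x).2, homExt_apply ι (sup_le hf.le hXS hx)]; exact hw x hx
  refine ⟨_, hg, fun x hx => ?_, image_eq_of_mem hXS hg le_sup_right fun x hx => ?_⟩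
  · refine homExt_inj hinj (w x).2 (hf.mem hx) ?_
    rw [hγ x hx, homExt_apply ι (w x).2, homExt_apply ι (hf.le hx)]
    exact hw x (Subgroup.mem_sup_left hx)
  · have h1 := hXn.conj_mem _ ((hXb ⟨x, hXS hx⟩).2 hx) γ
    refine (hXb (w x)).1 ?_
    rw [hw x (Subgroup.mem_sup_right hx)]
    exact h1

include hW1

/-- The relative functor is normal, by induction on the number of maps. -/
theorem isNormal_relW : ∀ (n : ℕ) {Ω : Type u} [Group Ω] (S : Subgroup Ω) [Finite S]
    (F : FusionSystem S), (mapGraphs F).ncard = n → IsPGroup p S → F.IsSaturated p →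
    F.IsSectionFree p H → ∀ U : Subgroup Ω, F.IsNormal U → IsPGroup p (F.autGroup U) →
    F.IsNormal (relW W U S) := by
  intro n
  induction n using Nat.strong_induction_on with
  | _ n ihn =>
  intro Ω _ S _ F hn hS hF hfree
  suffices key : ∀ (m : ℕ) (U : Subgroup Ω), Nat.card S - Nat.card U = m → F.IsNormal U →
      IsPGroup p (F.autGroup U) → F.IsNormal (relW W U S) from
    fun U hU hUp => key _ U rfl hU hUp
  intro m
  induction m using Nat.strong_induction_on with
  | _ m ihm =>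
  intro U hm hU hUp
  by_cases hcon : F.IsConstrained p
  · exact isNormal_relW_of_constrained W hW2 hW3 hS hcon hfree hU hUp
  have hSnn : ¬ F.IsNormal S := fun h => hcon ⟨hF, S, h, le_rfl, fun Q hQ => by
    obtain ⟨f, hf⟩ := isConj_iff.1 hQ
    rw [Subgroup.eq_of_le_of_card_ge hf.le_right hf.card_eq.ge]
    exact inf_le_left⟩
  set X := relW W U S with hXdef
  have hXS : X ≤ S := relW_le W U S
  -- normalizer systems of non-normal subgroups
  have hnorm : ∀ V : Subgroup Ω, F.IsFullyNormalized V → ¬ F.IsNormal V → U ≤ normalizerIn S V →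
      ∀ A g, IsMap F A g → V ≤ A → A ≤ normalizerIn S V → g '' (V : Set Ω) = V →
        ∃ g', IsMap F (A ⊔ relW W U (normalizerIn S V)) g' ∧ (∀ x ∈ A, g' x = g x) ∧
          g' '' (relW W U (normalizerIn S V) : Set Ω) = relW W U (normalizerIn S V) := by
    intro V hV hVn hUV A g hg hVA hA hgV
    have := finite_of_le (S := S) (P := normalizerIn S V) inf_le_left
    obtain ⟨E, hE⟩ : ∃ E, F.IsNormalizerSystem V E :=
      ⟨normalizerSystem F V hV.1, fun _ => rfl⟩
    have hsub : ∀ P f, IsMap E P f → IsMap F P f := fun P f hm => by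
      obtain ⟨-, -, g, hg, hgf, -⟩ := (isMap_normalizerSystem_iff hE).1 hm
      exact (hg.mono le_sup_left).congr hgf
    have hlt : (mapGraphs E).ncard < n := by
      rw [← hn]
      refine ncard_mapGraphs_lt hsub ?_
      by_contra hc
      push_neg at hc
      refine hVn (isNormal_iff.2 ⟨hV.1, fun P f hm => ?_⟩)
      obtain ⟨-, -, g, hg, hgf, hgV⟩ := (isMap_normalizerSystem_iff hE).1 (hc P f hm)
      exact ⟨g, hg, hgf, hgV⟩
    have hEU : E.IsNormal U := by
      refine isNormal_iff.2 ⟨hUV, fun P f hm => ?_⟩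
      obtain ⟨hP, hfT, g₁, hg₁, hgf, hgV'⟩ := (isMap_normalizerSystem_iff hE).1 hm
      obtain ⟨g₂, hg₂, hg21, hgU⟩ := (isNormal_iff.1 hU).2 _ g₁ hg₁
      have hgV2 : g₂ '' (V : Set Ω) = V := by
        rw [Set.image_congr fun x hx => hg21 x (Subgroup.mem_sup_right hx)]; exact hgV'
      have hle : P ⊔ U ≤ P ⊔ V ⊔ U := sup_le_sup_right le_sup_left _
      refine ⟨g₂, (isMap_normalizerSystem_iff hE).2 ⟨sup_le hP hUV, fun x hx => ?_, g₂,
        hg₂.mono (sup_le hle (le_sup_right.trans le_sup_left)), fun _ _ => rfl, hgV2⟩,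
        fun x hx => by rw [hg21 x (Subgroup.mem_sup_left hx), hgf x hx], hgU⟩
      exact hg₂.mem_normalizerIn (le_sup_right.trans le_sup_left)
        ⟨hg₂.mono (le_sup_right.trans le_sup_left), hgV2⟩ (hle hx) ((sup_le hP hUV : P ⊔ U ≤ _) hx).2
    have hEaut : E.autGroup U ≤ F.autGroup U := fun a ha =>
      (mem_autGroup_iff hU.1 a).2 ⟨hsub _ _ ((mem_autGroup_iff hUV a).1 ha).isMap,
        ((mem_autGroup_iff hUV a).1 ha).image_eq⟩
    have hEn := ihn _ hlt (normalizerIn S V) E rfl (hS.to_le inf_le_left)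
      (isSaturated_normalizerSystem hS hF hV hE) (isSectionFree_normalizerSystem hS hF hfree hV hE)
      U hEU (hUp.to_le hEaut)
    have hgE : IsMap E A g := (isMap_normalizerSystem_iff hE).2 ⟨hA,
      fun x hx => hg.mem_normalizerIn hVA ⟨hg.mono hVA, hgV⟩ hx (hA hx).2, g,
      by rwa [sup_eq_left.2 hVA], fun _ _ => rfl, hgV⟩
    obtain ⟨g', hg', hag, him⟩ := (isNormal_iff.1 hEn).2 A g hgE
    exact ⟨g', hsub _ _ hg', hag, him⟩
  -- a maximal normal subgroup above `U`
  obtain ⟨U₂, ⟨hU₂, hUU₂⟩, hmax⟩ := Set.exists_max_image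
    {V : Subgroup Ω | F.IsNormal V ∧ U ≤ V} (fun V => Nat.card V)
    (finite_subgroups_le _ fun V hV => hV.1.1) ⟨U, hU, le_rfl⟩
  have hU₂S := hU₂.1
  have := finite_of_le hU₂S
  have hU₂ne : U₂ ≠ S := fun h => hSnn (h ▸ hU₂)
  by_cases hp₂ : IsPGroup p (F.autGroup U₂)
  · rcases eq_or_ne U₂ U with heq | hne
    swap
    · exfalso
      have hlt : Nat.card U < Nat.card U₂ := by
        refine lt_of_le_of_ne (Subgroup.card_le_of_le hUU₂) fun h => hne ?_
        exact (Subgroup.eq_of_le_of_card_ge hUU₂ h.ge).symm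
      have h2 := Subgroup.card_le_of_le hU₂S
      have hX₂ := ihm _ (by omega) U₂ rfl hU₂ hp₂
      have hle := le_relW W (T := S) hU₂S
      have := finite_of_le (relW_le W U₂ S)
      exact relW_ne W hW1 hS hU₂S (le_normalizer_of_isNormal hU₂) hU₂ne
        (Subgroup.eq_of_le_of_card_ge hle (hmax _ ⟨hX₂, hUU₂.trans hle⟩)).symm
    subst heq
    -- `U` is a maximal normal subgroup
    have hnonnormal : ∀ T : Subgroup Ω, T ≤ S → U₂ ≤ T → U₂ ≠ T →
        ¬ F.IsNormal (relW W U₂ T) := by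
      intro T hT hUT hne hn'
      have := finite_of_le hT
      have := finite_of_le ((relW_le W U₂ T).trans hT)
      have hle := le_relW W hUT
      exact relW_ne W hW1 (hS.to_le hT) hUT
        (fun x hx => le_normalizer_of_isNormal hU₂ (hT hx)) hne
        (Subgroup.eq_of_le_of_card_ge hle (hmax _ ⟨hn', hle⟩)).symm
    have hadm : ∀ s ∈ S, KAdm (⊤ : Subgroup (MulAut X)) (fun x => s * x * s⁻¹) := fun s hs => by
      refine kAdm_top (isMap_conj (F := F) hXS hs) (image_conj_eq hXS ?_ hs)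
      exact normalizer_le_relW W hW2 le_rfl hS (Subgroup.le_normalizer hs)
        (le_normalizer_of_isNormal hU₂ hs)
    set E₀ := kSystem F X hXS (⊤ : Subgroup (MulAut X)) hadm
    have hE₀ : ∀ (A : Subgroup Ω) g g', IsMap F (A ⊔ X) g' → (∀ x ∈ A, g' x = g x) →
        g' '' (X : Set Ω) = X → IsMap E₀ A g := fun A g g' hg' hag him =>
      isMap_kSystem_iff.2 ⟨(hg'.mono le_sup_left).congr hag, g', hg', hag,
        kAdm_top (hg'.mono le_sup_right) him⟩
    refine isNormal_iff.2 ⟨hXS, fun P f hf => ?_⟩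
    suffices h : IsMap E₀ P f by
      obtain ⟨-, g, hg, hag, hK⟩ := isMap_kSystem_iff.1 h
      exact ⟨g, hg, hag, hK.image_eq⟩
    refine le_of_autGroup_le_step hS hF (fun R hR hbig => ?_) P f hf
    intro α hα
    have hαi := (mem_autGroup_iff (hR.elim (fun h => h.le) fun h => h.1.1) α).1 hα
    refine (mem_autGroup_iff (hR.elim (fun h => h.le) fun h => h.1.1) α).2
      ⟨?_, hαi.image_eq⟩
    rcases hR with hR | hR
    · subst hR
      refine hE₀ _ _ _ (by rw [sup_eq_left.2 hXS]; exact hαi.isMap) (fun _ _ => rfl) ?_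
      exact image_relW W hW2 hS le_rfl hU₂S hαi
        (image_eq_of_isNormal hU₂ hαi.isMap hU₂S)
    have hRc := hR.1
    have hRfn := hR.2.1
    have hUR : U₂ ≤ R := le_of_isNormal hS hU₂ hRc (isRadical_of_isEssential hS hR)
    rcases eq_or_ne R S with hRS | hRne
    · subst hRS
      refine hE₀ _ _ _ (by rw [sup_eq_left.2 hXS]; exact hαi.isMap) (fun _ _ => rfl) ?_
      exact image_relW W hW2 hS le_rfl hU₂S hαi
        (image_eq_of_isNormal hU₂ hαi.isMap hU₂S)
    have hclimb : ∀ (k : ℕ) (V : Subgroup Ω), Nat.card S - Nat.card (normalizerIn S V) = k →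
        F.IsFullyNormalized V → U₂ ≤ V → ¬ F.IsNormal V →
        Nat.card R < Nat.card (normalizerIn S V) →
        ∀ A g, IsMap F A g → V ≤ A → A ≤ normalizerIn S V → g '' (V : Set Ω) = V →
          IsMap E₀ A g := by
      intro k
      induction k using Nat.strong_induction_on with
      | _ k ihk =>
      intro V hk hV hUV hVn hlt A g hg hVA hA hgV
      have hUT : U₂ ≤ normalizerIn S V := hUV.trans (le_normalizerIn hV.1)
      obtain ⟨g', hg', hag, him⟩ := hnorm V hV hVn hUT A g hg hVA hA hgV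
      set T := normalizerIn S V
      rcases eq_or_ne T S with hTS | hTS
      · rw [hTS] at hg' him
        exact hE₀ A g g' hg' hag him
      have hTle : T ≤ S := inf_le_left
      have hTp : IsPGroup p T := hS.to_le hTle
      have hUneT : U₂ ≠ T := fun h => hVn <| by
        rw [show V = U₂ from le_antisymm ((le_normalizerIn hV.1).trans h.ge) hUV]
        exact hU₂
      set X₁ := relW W U₂ T
      have hX₁S : X₁ ≤ S := (relW_le W U₂ T).trans hTle
      have hUX₁ : U₂ ≤ X₁ := le_relW W hUT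
      have hX₁n : ¬ F.IsNormal X₁ := hnonnormal T hTle hUT hUneT
      have hTN : T ≤ normalizerIn S X₁ := fun x hx => ⟨hTle hx,
        normalizer_le_relW W hW2 hTle hTp (Subgroup.le_normalizer hx)
          (le_normalizer_of_isNormal hU₂ (hTle hx))⟩
      have hlt2 : Nat.card T < Nat.card (normalizerIn S X₁) := by
        have h1 := lt_normalizerIn hS hTle hTS
        have h2 : normalizerIn S T ≤ normalizerIn S X₁ := fun x hx =>
          ⟨hx.1, normalizer_le_relW W hW2 hTle hTp hx.2 (le_normalizer_of_isNormal hU₂ hx.1)⟩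
        haveI : Finite ↥(normalizerIn S X₁) :=
          finite_of_le (inf_le_left : normalizerIn S X₁ ≤ S)
        refine lt_of_lt_of_le ?_ (Subgroup.card_le_of_le h2)
        haveI : Finite ↥(normalizerIn S T) := finite_of_le (inf_le_left : normalizerIn S T ≤ S)
        refine lt_of_le_of_ne (Subgroup.card_le_of_le h1.le) fun h => ?_
        exact h1.ne (Subgroup.eq_of_le_of_card_ge h1.le h.ge)
      obtain ⟨V', hXV, hV'⟩ := exists_isFullyNormalized (F := F) hX₁S
      obtain ⟨c, hc, hci, hcN, -⟩ := exists_map_normalizerIn hS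
        (isFullyAutomized_of_isFullyNormalized hS hF hV')
        (isReceptive_of_isFullyNormalized hS hF hV') hXV
      have hcE : IsMap E₀ (normalizerIn S X₁) c := hbig _ c (hlt.trans hlt2) hc
      have hUV' : U₂ ≤ V' := fun x hx => by
        obtain ⟨y, hy, rfl⟩ := (image_eq_of_isNormal hU₂ hci.isMap hUX₁).ge hx
        exact hci.mem (hUX₁ hy)
      have hV'n : ¬ F.IsNormal V' := fun h => hX₁n <| by
        obtain ⟨c', hc', hc'1, -⟩ := hci.exists_symm
        rw [show X₁ = V' from SetLike.coe_injective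
          (hc'.image_eq.symm.trans (image_eq_of_isNormal h hc'.isMap le_rfl))]
        exact h
      have hAX : A ⊔ X₁ ≤ normalizerIn S X₁ :=
        sup_le (hA.trans hTN) ((relW_le W U₂ T).trans hTN)
      have hgAX : ∀ x ∈ A ⊔ X₁, g' x ∈ normalizerIn S X₁ := fun x hx =>
        hg'.mem_normalizerIn le_sup_right ⟨hg'.mono le_sup_right, him⟩ hx (hAX hx).2
      obtain ⟨J, hJ⟩ := (hc.mono hAX).exists_iso
      obtain ⟨c', hc', hc'1, -⟩ := hJ.exists_symm
      have hVJ : V' ≤ J := fun z hz => by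
        obtain ⟨x, hx, rfl⟩ := hci.surj hz
        exact hJ.mem (Subgroup.mem_sup_right hx)
      have hJN : J ≤ normalizerIn S V' := fun z hz => by
        obtain ⟨x, hx, rfl⟩ := hJ.surj hz
        exact hcN x (hAX hx)
      have hg3 : IsMap F J (c ∘ g' ∘ c') :=
        (hc'.isMap.comp hg' fun z hz => hc'.mem hz).comp hc fun z hz => hgAX _ (hc'.mem hz)
      have hg3V : (c ∘ g' ∘ c') '' (V' : Set Ω) = V' := by
        refine image_eq_of_mem hV'.1 hg3 hVJ fun z hz => ?_
        obtain ⟨x, hx, rfl⟩ := hci.surj hz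
        show c (g' (c' (c x))) ∈ V'
        rw [hc'1 x (Subgroup.mem_sup_right hx)]
        exact hci.mem (him.subset ⟨x, hx, rfl⟩)
      have hcard : Nat.card (normalizerIn S X₁) ≤ Nat.card (normalizerIn S V') :=
        hV'.2 X₁ (isConj_symm hXV)
      have hle3 : Nat.card (normalizerIn S V') ≤ Nat.card S := Subgroup.card_le_of_le inf_le_left
      have hk3 := ihk _ (by omega) V' rfl hV' hUV' hV'n (by omega) J _ hg3 hVJ hJN hg3V
      -- compose back
      obtain ⟨I, hI⟩ := hcE.exists_iso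
      obtain ⟨d, hd, hd1, -⟩ := hI.exists_symm
      have hmemI : ∀ x ∈ A, (c ∘ g' ∘ c') (c x) ∈ I := fun x hx => by
        show c (g' (c' (c x))) ∈ I
        rw [hc'1 x (Subgroup.mem_sup_left hx)]
        exact hI.mem (hgAX x (Subgroup.mem_sup_left hx))
      refine (((hcE.mono (hA.trans hTN)).comp hk3
        fun x hx => hJ.mem (Subgroup.mem_sup_left hx)).comp hd.isMap hmemI).congr fun x hx => ?_
      show d (c (g' (c' (c x)))) = g x
      rw [hc'1 x (Subgroup.mem_sup_left hx), hd1 _ (hgAX x (Subgroup.mem_sup_left hx)), hag x hx]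
    have hltR : Nat.card R < Nat.card (normalizerIn S R) := by
      haveI : Finite ↥(normalizerIn S R) := finite_of_le (inf_le_left : normalizerIn S R ≤ S)
      have h1 := lt_normalizerIn hS hRc.1 hRne
      refine lt_of_le_of_ne (Subgroup.card_le_of_le h1.le) fun h => ?_
      exact h1.ne (Subgroup.eq_of_le_of_card_ge h1.le h.ge)
    exact hclimb _ R rfl hRfn hUR (fun h => hcon ⟨hF, R, h, hRc⟩) hltR R _ hαi.isMap le_rfl
      (le_normalizerIn hRc.1) hαi.image_eq
  · -- the automorphisms of `U₂` do not form a `p`-group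
    set C := centralizerIn S U₂
    set R₀ := U₂ ⊔ C
    have hR₀S : R₀ ≤ S := sup_le hU₂S inf_le_left
    have hUnS := le_normalizer_of_isNormal hU₂
    have hR₀N : S ≤ Subgroup.normalizer (R₀ : Set Ω) := fun s hs => by
      refine mem_normalizer_of_conj_mem hR₀S (mem_of_mem_sup
        (isMap_conj (F := F) hR₀S hs) le_sup_left le_sup_right
        (fun y hy => Subgroup.mem_sup_left (conj_mem_of_mem_normalizer (hUnS hs) hy))
        fun y hy => Subgroup.mem_sup_right ⟨S.mul_mem (S.mul_mem hs hy.1) (S.inv_mem hs),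
          mem_centralizer_of_conj_eq fun w hw => ?_⟩)
      have hw' := conj_mem_of_mem_normalizer (hUnS (S.inv_mem hs)) hw
      have e := conj_eq_self_of_mem_centralizer hy.2 hw'
      calc s * y * s⁻¹ * w * (s * y * s⁻¹)⁻¹ = s * (y * (s⁻¹ * w * s⁻¹⁻¹) * y⁻¹) * s⁻¹ := by group
        _ = w := by rw [e]; group
    have hN₀ : normalizerIn S R₀ = S := inf_eq_left.2 hR₀N
    have hR₀fn : F.IsFullyNormalized R₀ := by
      refine ⟨hR₀S, fun Q' _ => ?_⟩
      rw [hN₀]
      exact Subgroup.card_le_of_le inf_le_left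
    have hR₀nn : ¬ F.IsNormal R₀ := fun hn0 => hcon ⟨hF, R₀, hn0,
      isCentric_of_fullyCentralized hS hF (isFullyCentralized_of_isFullyNormalized hS hF hR₀fn)
        fun x hx => Subgroup.mem_sup_right
          ⟨hx.1, Subgroup.centralizer_le (show (U₂ : Set Ω) ⊆ R₀ from
            fun z hz => Subgroup.mem_sup_left hz) hx.2⟩⟩
    set EK := kSystem F U₂ hU₂S (autInducedBy S U₂) (conj_adm hU₂)
    have hlt : (mapGraphs EK).ncard < n := by
      rw [← hn]
      refine ncard_mapGraphs_lt (fun P f h => isMap_of_kSystem h) ?_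
      by_contra hc
      push_neg at hc
      refine hp₂ ((isPGroup_autInducedBy hS U₂).to_le fun a ha => ?_)
      obtain ⟨-, g, hg, hag, k, hk, hkv⟩ := isMap_kSystem_iff.1
        (hc U₂ _ ((mem_autGroup_iff hU₂S a).1 ha).isMap)
      rwa [show a = k from MulEquiv.ext fun x => Subtype.ext (by
        rw [← autFun_coe a x, ← hag x x.2, hkv x x.2, autFun_coe])]
    have hEKU : EK.IsNormal U := by
      refine isNormal_iff.2 ⟨hU.1, fun P f hm => ?_⟩
      obtain ⟨-, g₁, hg₁, hgf, hK⟩ := isMap_kSystem_iff.1 hm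
      obtain ⟨g₂, hg₂, hg21, hgU⟩ := (isNormal_iff.1 hU).2 _ g₁ hg₁
      refine ⟨g₂, isMap_kSystem_iff.2
        ⟨hg₂.mono (sup_le_sup_right le_sup_left _), g₂,
          hg₂.mono (sup_le (sup_le_sup_right le_sup_left _) (le_sup_right.trans le_sup_left)),
          fun _ _ => rfl, hK.congr fun x hx => (hg21 x (Subgroup.mem_sup_right hx)).symm⟩,
        fun x hx => by rw [hg21 x (Subgroup.mem_sup_left hx), hgf x hx], hgU⟩
    have hEKaut : EK.autGroup U ≤ F.autGroup U := fun a ha =>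
      (mem_autGroup_iff hU.1 a).2 ⟨isMap_of_kSystem ((mem_autGroup_iff hU.1 a).1 ha).isMap,
        ((mem_autGroup_iff hU.1 a).1 ha).image_eq⟩
    have hXK := ihn _ hlt S EK rfl hS (isSaturated_kSystem hS hF hU₂)
      (isSectionFree_kSystem hS hF hU₂ hfree) U hEKU (hUp.to_le hEKaut)
    refine isNormal_iff.2 ⟨hXS, fun P f hf => ?_⟩
    obtain ⟨g, hg, hgf, hgU⟩ := (isNormal_iff.1 hU₂).2 P f hf
    have hPS : P ⊔ U₂ ≤ S := sup_le hf.le hU₂S
    have hiso : IsIso F U₂ U₂ g := ⟨hg.mono le_sup_right, hgU⟩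
    obtain ⟨g₀, hg₀, hg₀v⟩ := (isReceptive_iff.1 (isReceptive_of_isFullyNormalized hS hF
      (isFullyNormalized_of_isNormal hU₂))).2 U₂ g hiso
    set D := nPhi S U₂ g
    have hPD : P ⊔ U₂ ≤ D := fun x hx => ⟨hPS hx, hUnS (hPS hx), g x, hg.mem hx,
      fun y hy => hg.map_conj hx (Subgroup.mem_sup_right hy)⟩
    have hUD : U₂ ≤ D := le_nPhi hiso.isMap
    have hRD : R₀ ≤ D := sup_le hUD (centralizerIn_le_nPhi U₂ g)
    have hg₀U : IsIso F U₂ U₂ g₀ := hiso.congr fun x hx => (hg₀v x hx).symm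
    have hg₀R : g₀ '' (R₀ : Set Ω) = R₀ := image_eq_of_mem hR₀S hg₀ hRD
      (mem_of_mem_sup hg₀ hUD (centralizerIn_le_nPhi U₂ g)
        (fun x hx => Subgroup.mem_sup_left (hg₀U.mem hx))
        fun x hx => Subgroup.mem_sup_right
          (hg₀.mem_centralizerIn hUD hg₀U (centralizerIn_le_nPhi U₂ g hx) hx.2))
    obtain ⟨g₁, hg₁, hg₁v, hg₁X⟩ : ∃ g₁, IsMap F (D ⊔ X) g₁ ∧ (∀ x ∈ D, g₁ x = g₀ x) ∧
        g₁ '' (X : Set Ω) = X := by
      have := hnorm R₀ hR₀fn hR₀nn (by rw [hN₀]; exact hU.1) D g₀ hg₀ hRD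
        (by rw [hN₀]; exact nPhi_le_self U₂ g) hg₀R
      rwa [hN₀] at this
    obtain ⟨I, hI⟩ := (hg₀.mono hPD).exists_iso
    obtain ⟨g₀', hg₀', hg₀'1, -⟩ := hI.exists_symm
    have hU₂I : U₂ ≤ I := fun z hz => by
      obtain ⟨x, hx, rfl⟩ := hg₀U.surj hz
      exact hI.mem (Subgroup.mem_sup_right hx)
    have hh : IsMap F I (g ∘ g₀') := hg₀'.isMap.comp hg fun z hz => hg₀'.mem hz
    have hhK : IsMap EK I (g ∘ g₀') := by
      refine isMap_kSystem_iff.2 ⟨hh, g ∘ g₀', by rwa [sup_eq_left.2 hU₂I], fun _ _ => rfl, 1,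
        Subgroup.one_mem _, fun z hz => ?_⟩
      obtain ⟨x, hx, rfl⟩ := hg₀U.surj hz
      show g (g₀' (g₀ x)) = _
      rw [hg₀'1 x (Subgroup.mem_sup_right hx), autFun_apply _ (hg₀U.mem hx)]
      exact (hg₀v x hx).symm
    obtain ⟨h₁, hh₁, hh₁v, hh₁X⟩ := (isNormal_iff.1 hXK).2 I _ hhK
    have hPX : P ⊔ X ≤ D ⊔ X := sup_le_sup_right (le_sup_left.trans hPD) X
    refine ⟨h₁ ∘ g₁, (hg₁.mono hPX).comp (isMap_of_kSystem hh₁) (mem_of_mem_sup
      (hg₁.mono hPX) le_sup_left le_sup_right (fun x hx => Subgroup.mem_sup_left ?_)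
      fun x hx => Subgroup.mem_sup_right (hg₁X.subset ⟨x, hx, rfl⟩)), fun x hx => ?_, ?_⟩
    · rw [hg₁v x (hPD (Subgroup.mem_sup_left hx))]
      exact hI.mem (Subgroup.mem_sup_left hx)
    · show h₁ (g₁ x) = f x
      rw [hg₁v x (hPD (Subgroup.mem_sup_left hx)),
        hh₁v _ (hI.mem (Subgroup.mem_sup_left hx))]
      show g (g₀' (g₀ x)) = f x
      rw [hg₀'1 x (Subgroup.mem_sup_left hx), hgf x hx]
    · rw [Set.image_comp, hg₁X, hh₁X]

/-- The functor is normal in every saturated system free of the section. -/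
theorem isNormal_functorOf_of_sectionFree {Ω : Type u} [Group Ω] {S : Subgroup Ω} [Finite S]
    {F : FusionSystem S} (hS : IsPGroup p S) (hF : F.IsSaturated p)
    (hfree : F.IsSectionFree p H) : F.IsNormal (functorOf W S) := by
  have hbot : F.IsNormal ⊥ := by
    refine isNormal_iff.2 ⟨bot_le, fun P f hf => ⟨f, by rwa [sup_bot_eq], fun _ _ => rfl, ?_⟩⟩
    rw [Subgroup.coe_bot, Set.image_singleton, hf.map_one]
  have haut : IsPGroup p (F.autGroup ⊥) := fun a =>
    ⟨0, Subtype.ext (MulEquiv.ext fun x => Subsingleton.elim _ _)⟩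
  rw [← relW_bot W hW2 hS]
  exact isNormal_relW W hW1 hW2 hW3 _ S F rfl hS hF hfree ⊥ hbot haut

end CfsgLib.Fusion
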