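import Mathlib
import Cfsg.Agent.Lib.Fusion.NormalSeries

/-!
Inner fusion systems: saturation, and their normality inside a saturated system.
-/

set_option autoImplicit false

namespace CfsgLib.Fusion

open Cfsg Cfsg.FusionSystem

variable {Ω : Type*} [Group Ω] {S : Subgroup Ω} {p : ℕ}

theorem isMap_inner_iff {P : Subgroup Ω} {f : Ω → Ω} :
    IsMap (innerFusionSystem S) P f ↔ P ≤ S ∧ ∃ g ∈ S, ∀ x ∈ P, f x = g * x * g⁻¹ := by
  constructor
  · rintro ⟨φ, ⟨hP, g, hg, hφ⟩, hv⟩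
    exact ⟨hP, g, hg, fun x hx => (hv ⟨x, hx⟩).symm.trans (hφ ⟨x, hx⟩)⟩
  · rintro ⟨hP, g, hg, hf⟩
    exact ⟨conjHom P g, ⟨hP, g, hg, fun x => rfl⟩, fun x => (hf x x.2).symm⟩

theorem autGroup_inner {P : Subgroup Ω} (hP : P ≤ S) :
    (innerFusionSystem S).autGroup P = autInducedBy S P := by
  refine le_antisymm (fun α hα => ?_) (autInducedBy_le_autGroup hP)
  obtain ⟨-, g, hg, hv⟩ := isMap_inner_iff.1 ((mem_autGroup_iff hP α).1 hα).isMap
  exact (mem_autInducedBy_iff S P α).2 ⟨g, hg, fun x => by rw [← autFun_coe α]; exact hv x x.2⟩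

theorem isReceptive_inner {Q : Subgroup Ω} (hQ : Q ≤ S) : (innerFusionSystem S).IsReceptive Q := by
  refine isReceptive_iff.2 ⟨hQ, fun P f hf => ?_⟩
  obtain ⟨hP, g, hg, hv⟩ := isMap_inner_iff.1 hf.isMap
  exact ⟨fun x => g * x * g⁻¹,
    isMap_inner_iff.2 ⟨nPhi_le_self P f, g, hg, fun x _ => rfl⟩, fun x hx => (hv x hx).symm⟩

theorem isSaturated_inner [Finite S] [Fact p.Prime] (hS : IsPGroup p S) :
    (innerFusionSystem S).IsSaturated p := by
  refine (isSaturated_iff_top_automized_receptive hS).2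
    ⟨⟨le_rfl, ?_⟩, fun P hP => isReceptive_inner hP.1⟩
  have := finite_mulAut S
  have hp : IsPGroup p ((innerFusionSystem S).autGroup S) := by
    rw [autGroup_inner le_rfl]
    exact isPGroup_autInducedBy hS S
  obtain ⟨R, hR⟩ := (hp.of_equiv Subgroup.topEquiv.symm).exists_le_sylow
  refine ⟨R, ?_⟩
  rw [top_le_iff.1 hR]
  rw [eq_comm, Subgroup.subgroupOf_eq_top, autGroup_inner le_rfl]

theorem hom_inner_subset (F : FusionSystem S) {Q P : Subgroup Ω} (hQ : Q ≤ S) :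
    (innerFusionSystem Q).Hom P ⊆ F.Hom P := by
  rintro φ ⟨hP, g, hg, hv⟩
  exact mem_hom_of_isMap (isMap_conj (hP.trans hQ) (hQ hg)) hv

variable [Finite S] [Fact p.Prime] {F : FusionSystem S}

theorem isWeaklyNormal_inner_of_isNormal (hS : IsPGroup p S) (hF : F.IsSaturated p)
    {Q : Subgroup Ω} (hQn : F.IsNormal Q) : (innerFusionSystem Q).IsWeaklyNormalIn F p := by
  have hQ := hQn.1
  have := finite_of_le hQ
  refine ⟨isSaturated_inner (hS.to_le hQ), hF, fun P => hom_inner_subset F hQ,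
    stronglyClosed_of_isNormal hQn, fun P hPQ φ hφ α _ => ?_, fun P hPQ φ hφ => ?_⟩
  · obtain ⟨-, g, hg, hv⟩ := hφ
    refine ⟨conjHom _ ((α ⟨g, hg⟩ : Q) : Ω), ⟨?_, _, SetLike.coe_mem _, fun x => rfl⟩, ?_⟩
    · rintro _ ⟨y, -, rfl⟩
      exact SetLike.coe_mem _
    · intro x hφx hαx
      show ((α ⟨g, hg⟩ : Q) : Ω) * ((α ⟨x, hPQ x.2⟩ : Q) : Ω) * ((α ⟨g, hg⟩ : Q) : Ω)⁻¹ = _
      rw [← Subgroup.coe_inv, ← Subgroup.coe_mul, ← Subgroup.coe_mul, ← map_inv, ← map_mul,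
        ← map_mul]
      congr 2
      exact Subtype.ext (hv x).symm
  · obtain ⟨g, hg, hag, hgQ⟩ := (isNormal_iff.1 hQn).2 P _ (isMap_homFun hφ)
    obtain ⟨α, hα, hαv⟩ := exists_mem_autGroup (F := F) (f := g)
      ⟨hg.mono le_sup_right, hgQ⟩
    refine ⟨α, hα, P.subtype, ⟨hPQ, 1, Q.one_mem, fun x => by simp⟩, fun x hx => ?_⟩
    rw [hαv]
    show φ x = g x
    rw [hag x x.2, homFun_coe]

theorem isNormal_of_isWeaklyNormal_inner (hS : IsPGroup p S) (hF : F.IsSaturated p)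
    {Q : Subgroup Ω} (h : (innerFusionSystem Q).IsWeaklyNormalIn F p) : F.IsNormal Q := by
  obtain ⟨-, -, -, hsc, -, hfr⟩ := h
  refine isNormal_of_extend hS hF hsc.1 fun P f hP hf => ?_
  obtain ⟨φ, hφ, hv⟩ := hf
  obtain ⟨α, hα, φ₀, ⟨-, g, hg, hg0⟩, hα0⟩ := hfr P hP φ hφ
  refine ⟨α * conjAut Q (Subgroup.le_normalizer hg), (F.autGroup Q).mul_mem hα
    (autInducedBy_le_autGroup hsc.1 (conjAut_mem_autInducedBy _ (hsc.1 hg))), fun x hx => ?_⟩
  have h0 : φ₀ ⟨x, hx⟩ ∈ Q := by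
    rw [hg0]; exact Q.mul_mem (Q.mul_mem hg (hP hx)) (Q.inv_mem hg)
  rw [← hv ⟨x, hx⟩, hα0 ⟨x, hx⟩ h0, autFun_apply _ (hP hx), MulAut.mul_apply]
  congr 2
  exact Subtype.ext (hg0 ⟨x, hx⟩).symm

theorem isNormalIn_inner_of_abelian (hS : IsPGroup p S) (hF : F.IsSaturated p) {Q : Subgroup Ω}
    (hQn : F.IsNormal Q) (hab : ∀ x ∈ Q, ∀ y ∈ Q, x * y = y * x) :
    (innerFusionSystem Q).IsNormalIn F p := by
  refine ⟨isWeaklyNormal_inner_of_isNormal hS hF hQn, fun α hα => ?_⟩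
  rw [autGroup_inner le_rfl, mem_autInducedBy_iff] at hα
  obtain ⟨g, hg, hv⟩ := hα
  refine ⟨1, Subgroup.one_mem _, fun x => ?_, fun c hc => ?_⟩
  · rw [hv, MulAut.one_apply, hab g hg x x.2, mul_inv_cancel_right]
    rfl
  · rw [MulAut.one_apply, inv_mul_cancel]
    exact Subgroup.one_mem _

theorem exists_le_inner (F : FusionSystem S) {P : Subgroup Ω} :
    (innerFusionSystem S).Hom P ⊆ F.Hom P := hom_inner_subset F le_rfl

end CfsgLib.Fusion
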