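import Mathlib
import Cfsg.Agent.Lib.Fusion.FunctorControl
import Cfsg.Agent.Lib.Fusion.Inner

/-!
A functor detecting `p`-groups among constrained groups detects inner saturated systems.
-/

set_option autoImplicit false

namespace CfsgLib.Fusion

open Cfsg Cfsg.FusionSystem

universe u v

section Predicates

variable {Ω : Type u} [Group Ω] {S : Subgroup Ω}

/-- All automizers are `p`-groups. -/
def AutsPGroup (F : FusionSystem S) (p : ℕ) : Prop :=
  ∀ A : Subgroup Ω, A ≤ S → IsPGroup p (F.autGroup A)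

/-- The automizers stabilising `X` have no nontrivial elements of order prime to `p`. -/
def FixPGroup (F : FusionSystem S) (p : ℕ) (X : Subgroup Ω) : Prop :=
  ∀ A : Subgroup Ω, A ≤ S → X ≤ A → ∀ a ∈ F.autGroup A, autFun a '' (X : Set Ω) = X →
    (orderOf a).Coprime p → a = 1

theorem isPGroup_of_coprime_trivial' {G : Type*} [Group G] [Finite G] {p : ℕ} [Fact p.Prime]
    (h : ∀ x : G, (orderOf x).Coprime p → x = 1) : IsPGroup p G :=
  (isPGroup_of_coprime_trivial (C := (⊤ : Subgroup G)) fun x _ => h x).of_equiv Subgroup.topEquiv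

/-- The automizers fixing `Z` pointwise have no nontrivial elements of order prime to `p`. -/
def CentPGroup (F : FusionSystem S) (p : ℕ) (Z : Subgroup Ω) : Prop :=
  ∀ A : Subgroup Ω, A ≤ S → Z ≤ A → ∀ a ∈ F.autGroup A, (∀ x ∈ Z, autFun a x = x) →
    (orderOf a).Coprime p → a = 1

theorem FixPGroup.centPGroup {F : FusionSystem S} {p : ℕ} {X : Subgroup Ω}
    (h : FixPGroup F p X) : CentPGroup F p X := fun A hA hXA a ha hfix hac =>
  h A hA hXA a ha (by rw [Set.image_congr hfix, Set.image_id']) hac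

variable [Finite S] {p : ℕ} [Fact p.Prime] {F : FusionSystem S}

theorem AutsPGroup.le_inner (hS : IsPGroup p S) (hF : F.IsSaturated p) (h : AutsPGroup F p) :
    ∀ (P : Subgroup Ω) (f : Ω → Ω), IsMap F P f → IsMap (innerFusionSystem S) P f := by
  have hkey : ∀ R : Subgroup Ω, F.IsFullyNormalized R →
      F.autGroup R ≤ (innerFusionSystem S).autGroup R := by
    intro R hR a ha
    rw [autGroup_inner hR.1]
    have := finite_of_le hR.1
    have := finite_mulAut R
    obtain ⟨T, hT⟩ := (isFullyAutomized_of_isFullyNormalized hS hF hR).2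
    have htop : (⊤ : Subgroup (F.autGroup R)) ≤ T := fun x _ => by
      obtain ⟨g, hg⟩ := exists_conj_le_sylow T ((h R hR.1).to_subgroup ⊤)
      have h1 := hg ⟨g⁻¹ * x * g, Subgroup.mem_top _, rfl⟩
      simpa [mul_assoc] using h1
    have h2 := htop (Subgroup.mem_top ⟨a, ha⟩)
    rwa [hT] at h2
  refine le_of_autGroup_le hS hF fun P hP => ?_
  rcases hP with rfl | hP
  · refine hkey P ⟨le_rfl, fun Q hQ => ?_⟩
    obtain ⟨f, hf⟩ := isConj_iff.1 hQ
    rw [Subgroup.eq_of_le_of_card_ge hf.le_right hf.card_eq.ge]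
  · exact hkey P hP.2.1

theorem autsPGroup_of_le_inner (hS : IsPGroup p S)
    (h : ∀ (P : Subgroup Ω) (f : Ω → Ω), IsMap F P f → IsMap (innerFusionSystem S) P f) :
    AutsPGroup F p := fun A hA => (isPGroup_autInducedBy hS A).to_le fun a ha => by
  rw [← autGroup_inner hA]
  have h1 := (mem_autGroup_iff hA a).1 ha
  exact (mem_autGroup_iff hA a).2 ⟨h _ _ h1.isMap, h1.image_eq⟩

theorem coprime_eq_one_of_isPGroup {A : Subgroup (MulAut S)} (hA : IsPGroup p A) {a : MulAut S}
    (ha : a ∈ A) (h : (orderOf a).Coprime p) : a = 1 := by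
  obtain ⟨k, hk⟩ := hA ⟨a, ha⟩
  exact orderOf_eq_one_iff.1 (Nat.eq_one_of_dvd_coprimes (h.pow_right k) dvd_rfl
    (orderOf_dvd_of_pow_eq_one (congrArg Subtype.val hk)))

end Predicates

theorem coprime_pGroup_eq_one {G : Type*} [Group G] {p : ℕ} {A : Subgroup G} (hA : IsPGroup p A)
    {a : G} (ha : a ∈ A) (h : (orderOf a).Coprime p) : a = 1 := by
  obtain ⟨k, hk⟩ := hA ⟨a, ha⟩
  exact orderOf_eq_one_iff.1 (Nat.eq_one_of_dvd_coprimes (h.pow_right k) dvd_rfl
    (orderOf_dvd_of_pow_eq_one (congrArg Subtype.val hk)))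

variable (W : ∀ (Q : Type u) [Group Q], Subgroup Q) {p : ℕ} {H : Type v} [Group H]
variable (hW1 : ∀ (Q : Type u) [Group Q] [Finite Q], IsPGroup p Q → Nontrivial Q → W Q ≠ ⊥)
variable (hW2 : ∀ (Q R : Type u) [Group Q] [Group R] [Finite Q], IsPGroup p Q → ∀ φ : Q ≃* R,
  (W Q).map φ.toMonoidHom = W R)
variable (W' : ∀ (Q : Type u) [Group Q], Subgroup Q)
variable (hW1' : ∀ (Q : Type u) [Group Q] [Finite Q], IsPGroup p Q → Nontrivial Q → W' Q ≠ ⊥)
variable (hW2' : ∀ (Q R : Type u) [Group Q] [Group R] [Finite Q], IsPGroup p Q → ∀ φ : Q ≃* R,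
  (W' Q).map φ.toMonoidHom = W' R)
variable (hW4 : ∀ (L : Type u) [Group L] [Finite L] (P : Sylow p L),
  Subgroup.centralizer ((Cfsg.pCore p L : Subgroup L) : Set L) ≤ Cfsg.pCore p L →
  ¬ Cfsg.Involves H L →
  IsPGroup p ↥(Subgroup.normalizer
    (((W ↥(P : Subgroup L)).map (P : Subgroup L).subtype : Subgroup L) : Set L)) →
  IsPGroup p ↥(Subgroup.centralizer
    (((W' ↥(P : Subgroup L)).map (P : Subgroup L).subtype : Subgroup L) : Set L)) →
  IsPGroup p L)
variable [Fact p.Prime]

include hW2 hW2' hW4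

/-- A constrained system free of the section is inner when the stabiliser of the relative functor is. -/
theorem autsPGroup_of_constrained {Ω : Type u} [Group Ω] {S : Subgroup Ω} [Finite S]
    {F : FusionSystem S} (hS : IsPGroup p S) (hF : F.IsConstrained p)
    (hfree : F.IsSectionFree p H) {U : Subgroup Ω} (hU : F.IsNormal U)
    (hUp : IsPGroup p (F.autGroup U)) (hfix : FixPGroup F p (relW W U S))
    (hcent : CentPGroup F p (relW W' U S)) : AutsPGroup F p := by
  obtain ⟨hsat, Q, hQ, hQc⟩ := id hF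
  have hCN : CentricNormal F p Q := ⟨hS, hsat, hQ, hQc⟩
  obtain ⟨N, hN⟩ : ∃ N, F.IsNormalizerSystem Q N :=
    ⟨normalizerSystem F Q hQ.1, fun _ => rfl⟩
  obtain ⟨L, _, ι, hG⟩ := exists_model hS hF
  have : Finite L := hG.1
  obtain ⟨T₀, hT₀⟩ := hG.2.2.1
  have hinj := hG.2.1.1
  have hTS : normalizerIn S Q = S := inf_eq_left.2 hCN.le_normalizer
  have hN' : N.IsModel p L (ι.comp (MulEquiv.subgroupCongr hTS).toMonoidHom) := by
    refine ⟨inferInstance, ⟨hinj.comp (MulEquiv.subgroupCongr hTS).injective,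
      fun P hP φ hφ => ?_⟩, ⟨T₀, ?_⟩, hG.2.2.2⟩
    · rw [← show φ ∈ F.Hom P ↔ φ ∈ N.Hom P from ?_]
      · exact hG.2.1.2 P (hP.trans inf_le_left) φ fun x => (hφ x).1
      · rw [mem_hom_iff, mem_hom_iff, isMap_normalizerSystem_iff hN]
        constructor
        · intro h
          refine ⟨hP, fun x hx => ?_, (isNormal_iff.1 hQ).2 P _ h⟩
          rw [homFun_apply φ hx]; exact hφ _
        · rintro ⟨-, -, g, hg, hag, -⟩
          exact (hg.mono le_sup_left).congr hag
    · rw [MonoidHom.range_comp, MonoidHom.range_eq_top.2 (MulEquiv.subgroupCongr hTS).surjective,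
        ← MonoidHom.range_eq_map, hT₀]
  have hfreeL := hfree Q hCN.isFullyNormalized hQc N hN L _ hN'
  -- conjugation by a normalizing element gives an automorphism in the system
  have hconjAut : ∀ (A : Subgroup Ω), A ≤ S → ∀ g ∈ Subgroup.normalizer
      ((((A.subgroupOf S).map ι : Subgroup L)) : Set L), ∃ a ∈ F.autGroup A,
      (∀ x : A, homExt ι (a x : Ω) = g * homExt ι x * g⁻¹) ∧
      ((orderOf g).Coprime p → (orderOf a).Coprime p) := by
    intro A hA g hg
    set Ab := (A.subgroupOf S).map ι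
    let e : A ≃* Ab := (Subgroup.subgroupOfEquivOfLe hA).symm.trans
      (Subgroup.equivMapOfInjective _ ι hinj)
    let χ : ↥(Subgroup.normalizer (Ab : Set L)) →* MulAut A :=
      (MulAut.congr e.symm).toMonoidHom.comp Ab.normalizerMonoidHom
    have hav : ∀ x : A, homExt ι (χ ⟨g, hg⟩ x : Ω) = g * homExt ι x * g⁻¹ := fun x => by
      have h1 : e (χ ⟨g, hg⟩ x) = Ab.normalizerMonoidHom ⟨g, hg⟩ (e x) := e.apply_symm_apply _
      have h2 := congrArg (fun y : Ab => (y : L)) h1
      rw [homExt_apply ι (hA (χ ⟨g, hg⟩ x).2), homExt_apply ι (hA x.2)]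
      exact h2
    refine ⟨χ ⟨g, hg⟩, mem_autGroup_of_isMap (f := autFun (χ ⟨g, hg⟩)) ?_ _
      (fun x => (autFun_coe _ x).symm), hav, fun hc => ?_⟩
    · refine isMap_of_conj hG.2.1 hA (fun x hx => hA (autFun_mem _ hx)) (g := g) fun x hx => ?_
      rw [autFun_apply _ hx]
      exact hav ⟨x, hx⟩
    · refine hc.coprime_dvd_left ((orderOf_map_dvd χ ⟨g, hg⟩).trans ?_)
      rw [Subgroup.orderOf_mk]
  have hUb : ((U.subgroupOf S).map ι).Normal := normal_map_of_isModel hG hU
  have hUbp : IsPGroup p ((U.subgroupOf S).map ι) := (hS.to_subgroup _).map _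
  have haut : ∀ g : L, (orderOf g).Coprime p → ∀ u ∈ (U.subgroupOf S).map ι,
      g * u * g⁻¹ = u := by
    intro g hord
    obtain ⟨a, ha, hav, hac⟩ := hconjAut U hU.1 g
      (by rw [Subgroup.normalizer_eq_top_iff.2 hUb]; exact Subgroup.mem_top g)
    have h1 := coprime_pGroup_eq_one hUp ha (hac hord)
    rintro _ ⟨⟨x, hxS⟩, hx, rfl⟩
    have h2 := hav ⟨x, hx⟩
    rw [h1, MulAut.one_apply, homExt_apply ι hxS] at h2
    exact h2.symm
  set X := relW W U S
  have hXS : X ≤ S := relW_le W U S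
  let e : S ≃* ↥(T₀ : Subgroup L) :=
    (MonoidHom.ofInjective hinj).trans (MulEquiv.subgroupCongr hT₀.symm)
  have hUe : (U.subgroupOf S).map e.toMonoidHom =
      ((U.subgroupOf S).map ι).subgroupOf (T₀ : Subgroup L) := by
    ext y
    constructor
    · rintro ⟨x, hx, rfl⟩; exact ⟨x, hx, rfl⟩
    · rintro ⟨x, hx, hxe⟩
      exact ⟨x, hx, Subtype.ext hxe⟩
  have hXb : ∀ x : S, ι x ∈ relW W ((U.subgroupOf S).map ι) (T₀ : Subgroup L) ↔ (x : Ω) ∈ X :=
    relW_map W hW2 hS e hUe
  set Xb := relW W ((U.subgroupOf S).map ι) (T₀ : Subgroup L) with hXbdef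
  have hXeq : Xb = (X.subgroupOf S).map ι := by
    ext y
    constructor
    · intro hy
      obtain ⟨x, rfl⟩ := hT₀.le (relW_le W _ _ hy)
      exact ⟨x, (hXb x).1 hy, rfl⟩
    · rintro ⟨x, hx, rfl⟩
      exact (hXb x).2 hx
  have key : ∀ (Y : Subgroup Ω), Y ≤ S → ∀ g ∈ Subgroup.normalizer
      ((((Y.subgroupOf S).map ι : Subgroup L)) : Set L), (orderOf g).Coprime p →
      (∀ A : Subgroup Ω, A ≤ S → Y ≤ A → ∀ a ∈ F.autGroup A,
        (∀ x : A, homExt ι (a x : Ω) = g * homExt ι x * g⁻¹) → (orderOf a).Coprime p → a = 1) →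
      g = 1 := by
    intro Y hY g hg hord hone
    set Yb := (Y.subgroupOf S).map ι
    have hOr := pCore_le_range hG
    set A := ((Cfsg.pCore p L).comap ι).map S.subtype ⊔ Y
    have hA : A ≤ S := sup_le (Subgroup.map_subtype_le _) hY
    have hAb : (A.subgroupOf S).map ι = Cfsg.pCore p L ⊔ Yb := by
      rw [Subgroup.subgroupOf_sup (Subgroup.map_subtype_le _) hY, Subgroup.map_sup, 
        Subgroup.subgroupOf, Subgroup.comap_map_eq_self_of_injective S.subtype_injective,
        Subgroup.map_comap_eq_self hOr]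
    have hgA : g ∈ Subgroup.normalizer (((A.subgroupOf S).map ι : Subgroup L) : Set L) := by
      rw [hAb]
      refine Subgroup.mem_normalizer_iff'.2 fun x => ?_
      have hmap : (Cfsg.pCore p L ⊔ Yb).map (MulAut.conj g).toMonoidHom
          = Cfsg.pCore p L ⊔ Yb := by
        haveI := CfsgLib.Fitting.pCore_normal (G := L) p
        rw [Subgroup.map_sup]
        congr 1
        · ext y
          constructor
          · rintro ⟨z, hz, rfl⟩; exact (inferInstance : (Cfsg.pCore p L).Normal).conj_mem z hz g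
          · intro hy
            exact ⟨g⁻¹ * y * g⁻¹⁻¹, (inferInstance : (Cfsg.pCore p L).Normal).conj_mem y hy g⁻¹,
              by simp [mul_assoc]⟩
        · ext y
          constructor
          · rintro ⟨z, hz, rfl⟩; exact (Subgroup.mem_normalizer_iff.1 hg z).1 hz
          · intro hy
            refine ⟨g⁻¹ * y * g, (Subgroup.mem_normalizer_iff.1 hg _).2 ?_, by simp [mul_assoc]⟩
            simpa [mul_assoc] using hy
      constructor
      · intro h
        have h1 : MulAut.conj g (x * g) ∈ (Cfsg.pCore p L ⊔ Yb).map (MulAut.conj g).toMonoidHom :=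
          ⟨_, h, rfl⟩
        rw [hmap, MulAut.conj_apply] at h1
        simpa [mul_assoc] using h1
      · intro h
        rw [← hmap] at h
        obtain ⟨z, hz, hze⟩ := h
        rw [show x * g = z from ?_]
        · exact hz
        · have : g * z * g⁻¹ = g * x := hze
          calc x * g = g⁻¹ * (g * x) * g := by group
            _ = z := by rw [← this]; group
    obtain ⟨a, ha, hav, hac⟩ := hconjAut A hA g hgA
    have ha1 := hone A hA le_sup_right a ha hav (hac hord)
    have hgc : g ∈ Subgroup.centralizer ((Cfsg.pCore p L : Subgroup L) : Set L) := by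
      intro r hr
      obtain ⟨s, rfl⟩ := hOr hr
      have h1 := hav ⟨s, Subgroup.mem_sup_left ⟨s, hr, rfl⟩⟩
      rw [ha1, MulAut.one_apply, homExt_apply ι s.2] at h1
      rw [eq_mul_inv_iff_mul_eq] at h1
      exact h1
    exact coprime_pGroup_eq_one (CfsgLib.Fitting.pCore_isPGroup p) (hG.2.2.2 hgc) hord
  have hNp : IsPGroup p ↥(Subgroup.normalizer (Xb : Set L)) := by
    refine isPGroup_of_coprime_trivial fun g hg hord => ?_
    refine key X hXS g (hXeq ▸ hg) hord fun A hA hXA a ha hav hac => ?_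
    refine hfix A hA hXA a ha ?_ hac
    refine image_eq_of_mem hXS ((mem_autGroup_iff hA a).1 ha).isMap hXA fun x hx => ?_
    have h1 := hav ⟨x, hXA hx⟩
    rw [← autFun_coe] at h1
    have hm : autFun a x ∈ S := hA (autFun_mem a (hXA hx))
    rw [homExt_apply ι hm, homExt_apply ι (hXS hx)] at h1
    refine (hXb ⟨_, hm⟩).1 ?_
    rw [h1]
    exact (Subgroup.mem_normalizer_iff.1 hg _).1 ((hXb ⟨x, hXS hx⟩).2 hx)
  set Z := relW W' U S
  have hZS : Z ≤ S := relW_le W' U S
  have hZb : ∀ x : S, ι x ∈ relW W' ((U.subgroupOf S).map ι) (T₀ : Subgroup L) ↔ (x : Ω) ∈ Z :=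
    relW_map W' hW2' hS e hUe
  set Zb := relW W' ((U.subgroupOf S).map ι) (T₀ : Subgroup L) with hZbdef
  haveI := hUb
  let π : L →* L ⧸ (U.subgroupOf S).map ι := QuotientGroup.mk' _
  have hπ : Function.Surjective π := QuotientGroup.mk'_surjective _
  have heq := relW_eq_comap W hW2 T₀ hUbp
  have heq' := relW_eq_comap W' hW2' T₀ hUbp
  have hCp : IsPGroup p ↥((Subgroup.centralizer
      (((W' ↥(T₀.mapSurjective hπ : Subgroup (L ⧸ (U.subgroupOf S).map ι))).map
        (T₀.mapSurjective hπ : Subgroup (L ⧸ (U.subgroupOf S).map ι)).subtype :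
          Subgroup (L ⧸ (U.subgroupOf S).map ι)) :
        Set (L ⧸ (U.subgroupOf S).map ι))).comap π) := by
    refine isPGroup_of_coprime_trivial fun g hg hord => ?_
    have hfixz : ∀ z ∈ Zb, g * z * g⁻¹ = z := by
      intro z hz
      have hzW : π z ∈ _ := Subgroup.mem_comap.1 ((hZbdef.trans heq').le hz)
      have hcomm := hg (π z) hzW
      have hd : z⁻¹ * (g * z * g⁻¹) ∈ (U.subgroupOf S).map ι := by
        refine (QuotientGroup.eq_one_iff _).1 (?_ : π (z⁻¹ * (g * z * g⁻¹)) = 1)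
        rw [map_mul, map_mul, map_mul, map_inv, map_inv, ← hcomm, mul_inv_cancel_right,
          inv_mul_cancel]
      set d := z⁻¹ * (g * z * g⁻¹) with hddef
      have hconj : g * z * g⁻¹ = z * d := by rw [hddef]; group
      have hpow : ∀ k : ℕ, g ^ k * z * (g ^ k)⁻¹ = z * d ^ k := by
        intro k
        induction k with
        | zero => simp
        | succ k ih =>
          calc g ^ (k + 1) * z * (g ^ (k + 1))⁻¹ = g * (g ^ k * z * (g ^ k)⁻¹) * g⁻¹ := by
                rw [pow_succ']; group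
            _ = (g * z * g⁻¹) * (g * d ^ k * g⁻¹) := by rw [ih]; group
            _ = z * d * d ^ k := by rw [hconj, haut g hord _ (Subgroup.pow_mem _ hd k)]
            _ = z * d ^ (k + 1) := by rw [pow_succ', mul_assoc]
      have h2 := hpow (orderOf g)
      rw [pow_orderOf_eq_one, one_mul, inv_one, mul_one, left_eq_mul] at h2
      have hd1 : d = 1 := coprime_pGroup_eq_one hUbp hd
        (hord.coprime_dvd_left (orderOf_dvd_of_pow_eq_one h2))
      rw [hconj, hd1, mul_one]
    have hZn : g ∈ Subgroup.normalizer ((((Z.subgroupOf S).map ι : Subgroup L)) : Set L) := by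
      refine Subgroup.centralizer_le_normalizer _ ?_
      rintro _ ⟨x, hx, rfl⟩
      have := hfixz _ ((hZb x).2 hx)
      rw [mul_inv_eq_iff_eq_mul] at this
      exact this.symm
    refine key Z hZS g hZn hord fun A hA hZA a ha hav hac => ?_
    refine hcent A hA hZA a ha (fun x hx => ?_) hac
    have h1 := hav ⟨x, hZA hx⟩
    rw [← autFun_coe] at h1
    refine homExt_inj hinj (hA (autFun_mem a (hZA hx))) (hZS hx) (h1.trans ?_)
    rw [homExt_apply ι (hZS hx)]
    exact hfixz _ ((hZb ⟨x, hZS hx⟩).2 hx)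
  have hquot : IsPGroup p (L ⧸ (U.subgroupOf S).map ι) := by
    refine hW4 _ (T₀.mapSurjective hπ) (centralizer_pCore_quotient_le hG.2.2.2 hUbp haut)
      (fun h => hfreeL (CfsgLib.Offender.involves_of_surjective π hπ h)) ?_
      ((hCp.map π).to_le (Subgroup.map_comap_eq_self_of_surjective hπ _).ge)
    refine (hNp.map π).to_le fun y hy => ?_
    obtain ⟨g, rfl⟩ := hπ y
    refine ⟨g, Subgroup.mem_normalizer_iff.2 fun x => ?_, rfl⟩
    rw [hXbdef, heq, Subgroup.mem_comap, Subgroup.mem_comap, map_mul, map_mul, map_inv]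
    exact Subgroup.mem_normalizer_iff.1 hy _
  have hLp : IsPGroup p L := fun g => by
    obtain ⟨k, hk⟩ := hquot (π g)
    rw [← map_pow] at hk
    obtain ⟨j, hj⟩ := hUbp ⟨g ^ p ^ k, (QuotientGroup.eq_one_iff _).1 hk⟩
    exact ⟨k + j, by rw [pow_add, pow_mul]; exact congrArg Subtype.val hj⟩
  have hrange : ι.range = ⊤ := by
    rw [← hT₀]
    exact (T₀.is_maximal' (hLp.to_subgroup ⊤) le_top).symm
  refine autsPGroup_of_le_inner hS fun P f hf => ?_
  obtain ⟨γ, hγ⟩ := exists_conj_of_isMap hG.2.1 hf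
  obtain ⟨s, rfl⟩ := (hrange.ge (Subgroup.mem_top γ) : γ ∈ ι.range)
  refine isMap_inner_iff.2 ⟨hf.le, s, s.2, fun x hx => ?_⟩
  refine homExt_inj hinj (hf.mem hx) (S.mul_mem (S.mul_mem s.2 (hf.le hx)) (S.inv_mem s.2)) ?_
  rw [hγ x hx, homExt_mul ι (S.mul_mem s.2 (hf.le hx)) (S.inv_mem s.2),
    homExt_mul ι s.2 (hf.le hx), homExt_apply ι (S.inv_mem s.2), homExt_apply ι s.2, ← map_inv]
  rfl

include hW1 hW1'

/-- The inner criterion, by induction on the number of maps. -/
theorem autsPGroup_of_fix : ∀ (n : ℕ) {Ω : Type u} [Group Ω] (S : Subgroup Ω) [Finite S]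
    (F : FusionSystem S), (mapGraphs F).ncard = n → IsPGroup p S → F.IsSaturated p →
    F.IsSectionFree p H → ∀ U : Subgroup Ω, F.IsNormal U → IsPGroup p (F.autGroup U) →
    FixPGroup F p (relW W U S) → CentPGroup F p (relW W' U S) → AutsPGroup F p := by
  intro n
  induction n using Nat.strong_induction_on with
  | _ n ihn =>
  intro Ω _ S _ F hn hS hF hfree
  suffices key : ∀ (m : ℕ) (U : Subgroup Ω), Nat.card S - Nat.card U = m → F.IsNormal U →
      IsPGroup p (F.autGroup U) → FixPGroup F p (relW W U S) → CentPGroup F p (relW W' U S) →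
      AutsPGroup F p from
    fun U hU hUp hfix hcent => key _ U rfl hU hUp hfix hcent
  intro m
  induction m using Nat.strong_induction_on with
  | _ m ihm =>
  intro U hm hU hUp hfix hcent
  by_cases hcon : F.IsConstrained p
  · exact autsPGroup_of_constrained W hW2 W' hW2' hW4 hS hcon hfree hU hUp hfix hcent
  have hSnn : ¬ F.IsNormal S := fun h => hcon ⟨hF, S, h, le_rfl, fun Q hQ => by
    obtain ⟨f, hf⟩ := isConj_iff.1 hQ
    rw [Subgroup.eq_of_le_of_card_ge hf.le_right hf.card_eq.ge]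
    exact inf_le_left⟩
  -- normalizer systems of non-normal subgroups
  have hnorm : ∀ V : Subgroup Ω, F.IsFullyNormalized V → ¬ F.IsNormal V → U ≤ normalizerIn S V →
      (∀ A : Subgroup Ω, A ≤ normalizerIn S V → relW W U (normalizerIn S V) ≤ A →
        ∀ a ∈ F.autGroup A,
        (∃ g, IsMap F (A ⊔ V) g ∧ (∀ x ∈ A, g x = autFun a x) ∧ g '' (V : Set Ω) = V) →
        autFun a '' (relW W U (normalizerIn S V) : Set Ω) = relW W U (normalizerIn S V) →
        (orderOf a).Coprime p → a = 1) →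
      (∀ A : Subgroup Ω, A ≤ normalizerIn S V → relW W' U (normalizerIn S V) ≤ A →
        ∀ a ∈ F.autGroup A,
        (∃ g, IsMap F (A ⊔ V) g ∧ (∀ x ∈ A, g x = autFun a x) ∧ g '' (V : Set Ω) = V) →
        (∀ x ∈ relW W' U (normalizerIn S V), autFun a x = x) →
        (orderOf a).Coprime p → a = 1) →
      ∀ A : Subgroup Ω, A ≤ normalizerIn S V → V ≤ A → ∀ a ∈ F.autGroup A,
        autFun a '' (V : Set Ω) = V → (orderOf a).Coprime p → a = 1 := by
    intro V hV hVn hUV hfixV hcentV A hA hVA a ha haV hac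
    have := finite_of_le (S := S) (P := normalizerIn S V) inf_le_left
    obtain ⟨E, hE⟩ : ∃ E, F.IsNormalizerSystem V E :=
      ⟨normalizerSystem F V hV.1, fun _ => rfl⟩
    have hsub : ∀ P f, IsMap E P f → IsMap F P f := fun P f hm => by
      obtain ⟨-, -, g, hg, hgf, -⟩ := (isMap_normalizerSystem_iff hE).1 hm
      exact (hg.mono le_sup_left).congr hgf
    have hlt : (mapGraphs E).ncard < n := by
      rw [← hn]
      refine ncard_mapGraphs_lt hsub ?_
      by_contra hc
      push_neg at hc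
      refine hVn (isNormal_iff.2 ⟨hV.1, fun P f hm => ?_⟩)
      obtain ⟨-, -, g, hg, hgf, hgV⟩ := (isMap_normalizerSystem_iff hE).1 (hc P f hm)
      exact ⟨g, hg, hgf, hgV⟩
    have hEU : E.IsNormal U := by
      refine isNormal_iff.2 ⟨hUV, fun P f hm => ?_⟩
      obtain ⟨hP, hfT, g₁, hg₁, hgf, hgV'⟩ := (isMap_normalizerSystem_iff hE).1 hm
      obtain ⟨g₂, hg₂, hg21, hgU⟩ := (isNormal_iff.1 hU).2 _ g₁ hg₁
      have hgV2 : g₂ '' (V : Set Ω) = V := by
        rw [Set.image_congr fun x hx => hg21 x (Subgroup.mem_sup_right hx)]; exact hgV'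
      have hle : P ⊔ U ≤ P ⊔ V ⊔ U := sup_le_sup_right le_sup_left _
      refine ⟨g₂, (isMap_normalizerSystem_iff hE).2 ⟨sup_le hP hUV, fun x hx => ?_, g₂,
        hg₂.mono (sup_le hle (le_sup_right.trans le_sup_left)), fun _ _ => rfl, hgV2⟩,
        fun x hx => by rw [hg21 x (Subgroup.mem_sup_left hx), hgf x hx], hgU⟩
      exact hg₂.mem_normalizerIn (le_sup_right.trans le_sup_left)
        ⟨hg₂.mono (le_sup_right.trans le_sup_left), hgV2⟩ (hle hx)
        ((sup_le hP hUV : P ⊔ U ≤ _) hx).2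
    have hEaut : E.autGroup U ≤ F.autGroup U := fun a ha =>
      (mem_autGroup_iff hU.1 a).2 ⟨hsub _ _ ((mem_autGroup_iff hUV a).1 ha).isMap,
        ((mem_autGroup_iff hUV a).1 ha).image_eq⟩
    have hEfix : FixPGroup E p (relW W U (normalizerIn S V)) := by
      intro B hB hXB b hb hbX hbc
      have hb' := (mem_autGroup_iff hB b).1 hb
      obtain ⟨-, -, g, hg, hgb, hgV⟩ := (isMap_normalizerSystem_iff hE).1 hb'.isMap
      exact hfixV B hB hXB b ((mem_autGroup_iff (hB.trans inf_le_left) b).2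
        ⟨hsub _ _ hb'.isMap, hb'.image_eq⟩) ⟨g, hg, hgb, hgV⟩ hbX hbc
    have hEcent : CentPGroup E p (relW W' U (normalizerIn S V)) := by
      intro B hB hXB b hb hbX hbc
      have hb' := (mem_autGroup_iff hB b).1 hb
      obtain ⟨-, -, g, hg, hgb, hgV⟩ := (isMap_normalizerSystem_iff hE).1 hb'.isMap
      exact hcentV B hB hXB b ((mem_autGroup_iff (hB.trans inf_le_left) b).2
        ⟨hsub _ _ hb'.isMap, hb'.image_eq⟩) ⟨g, hg, hgb, hgV⟩ hbX hbc
    have hEp := ihn _ hlt (normalizerIn S V) E rfl (hS.to_le inf_le_left)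
      (isSaturated_normalizerSystem hS hF hV hE) (isSectionFree_normalizerSystem hS hF hfree hV hE)
      U hEU (hUp.to_le hEaut) hEfix hEcent
    have haF := (mem_autGroup_iff (hA.trans inf_le_left) a).1 ha
    refine coprime_pGroup_eq_one (hEp A hA) ((mem_autGroup_iff hA a).2
      ⟨(isMap_normalizerSystem_iff hE).2 ⟨hA, fun x hx => hA (haF.mem hx), autFun a,
        by rw [sup_eq_left.2 hVA]; exact haF.isMap, fun _ _ => rfl, haV⟩, haF.image_eq⟩) hac
  -- a maximal normal subgroup above `U`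
  obtain ⟨U₂, ⟨hU₂, hUU₂⟩, hmax⟩ := Set.exists_max_image
    {V : Subgroup Ω | F.IsNormal V ∧ U ≤ V} (fun V => Nat.card V)
    (finite_subgroups_le _ fun V hV => hV.1.1) ⟨U, hU, le_rfl⟩
  have hU₂S := hU₂.1
  have := finite_of_le hU₂S
  have := finite_mulAut U₂
  have hUnS := le_normalizer_of_isNormal hU₂
  have hU₂ne : U₂ ≠ S := fun h => hSnn (h ▸ hU₂)
  have hnonnormal : ∀ T : Subgroup Ω, T ≤ S → U₂ ≤ T → U₂ ≠ T →
      ¬ F.IsNormal (relW W U₂ T) := by
    intro T hT hUT hne hn'
    have := finite_of_le hT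
    have := finite_of_le ((relW_le W U₂ T).trans hT)
    have hle := le_relW W hUT
    exact relW_ne W hW1 (hS.to_le hT) hUT (fun x hx => hUnS (hT hx)) hne
      (Subgroup.eq_of_le_of_card_ge hle (hmax _ ⟨hn', hUU₂.trans hle⟩)).symm
  have hnonnormal' : ∀ T : Subgroup Ω, T ≤ S → U₂ ≤ T → U₂ ≠ T →
      ¬ F.IsNormal (relW W' U₂ T) := by
    intro T hT hUT hne hn'
    have := finite_of_le hT
    have := finite_of_le ((relW_le W' U₂ T).trans hT)
    have hle := le_relW W' hUT
    exact relW_ne W' hW1' (hS.to_le hT) hUT (fun x hx => hUnS (hT hx)) hne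
      (Subgroup.eq_of_le_of_card_ge hle (hmax _ ⟨hn', hUU₂.trans hle⟩)).symm
  by_cases hp₂ : IsPGroup p (F.autGroup U₂)
  swap
  · exfalso
    set C := centralizerIn S U₂
    set R₀ := U₂ ⊔ C
    have hR₀S : R₀ ≤ S := sup_le hU₂S inf_le_left
    have hR₀N : S ≤ Subgroup.normalizer (R₀ : Set Ω) := fun s hs => by
      refine mem_normalizer_of_conj_mem hR₀S (mem_of_mem_sup
        (isMap_conj (F := F) hR₀S hs) le_sup_left le_sup_right
        (fun y hy => Subgroup.mem_sup_left (conj_mem_of_mem_normalizer (hUnS hs) hy))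
        fun y hy => Subgroup.mem_sup_right ⟨S.mul_mem (S.mul_mem hs hy.1) (S.inv_mem hs),
          mem_centralizer_of_conj_eq fun w hw => ?_⟩)
      have hw' := conj_mem_of_mem_normalizer (hUnS (S.inv_mem hs)) hw
      have e := conj_eq_self_of_mem_centralizer hy.2 hw'
      calc s * y * s⁻¹ * w * (s * y * s⁻¹)⁻¹ = s * (y * (s⁻¹ * w * s⁻¹⁻¹) * y⁻¹) * s⁻¹ := by group
        _ = w := by rw [e]; group
    have hN₀ : normalizerIn S R₀ = S := inf_eq_left.2 hR₀N
    have hR₀fn : F.IsFullyNormalized R₀ := by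
      refine ⟨hR₀S, fun Q' _ => ?_⟩
      rw [hN₀]
      exact Subgroup.card_le_of_le inf_le_left
    have hR₀nn : ¬ F.IsNormal R₀ := fun hn0 => hcon ⟨hF, R₀, hn0,
      isCentric_of_fullyCentralized hS hF (isFullyCentralized_of_isFullyNormalized hS hF hR₀fn)
        fun x hx => Subgroup.mem_sup_right
          ⟨hx.1, Subgroup.centralizer_le (show (U₂ : Set Ω) ⊆ R₀ from
            fun z hz => Subgroup.mem_sup_left hz) hx.2⟩⟩
    have hR₀p : IsPGroup p (F.autGroup R₀) := by
      have := finite_of_le hR₀S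
      have := finite_mulAut R₀
      refine isPGroup_of_coprime_trivial' fun a hac => Subtype.ext ?_
      refine hnorm R₀ hR₀fn hR₀nn (by rw [hN₀]; exact hU.1) ?_ ?_ R₀ (le_normalizerIn hR₀S) le_rfl
        a a.2 ((mem_autGroup_iff hR₀S _).1 a.2).image_eq (by rwa [Subgroup.orderOf_coe])
      all_goals rw [hN₀]
      · exact fun A hA hXA b hb _ hbX hbc => hfix A hA hXA b hb hbX hbc
      · exact fun A hA hXA b hb _ hbX hbc => hcent A hA hXA b hb hbX hbc
    refine hp₂ (fun a => ?_)
    have ha := (mem_autGroup_iff hU₂S _).1 a.2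
    obtain ⟨g₀, hg₀, hg₀v⟩ := (isReceptive_iff.1 (isReceptive_of_isFullyNormalized hS hF
      (isFullyNormalized_of_isNormal hU₂))).2 U₂ _ ha
    have hUD : U₂ ≤ nPhi S U₂ (autFun (a : MulAut U₂)) := le_nPhi ha.isMap
    have hg₀U : IsIso F U₂ U₂ g₀ := ha.congr fun x hx => (hg₀v x hx).symm
    have hRD : R₀ ≤ nPhi S U₂ (autFun (a : MulAut U₂)) :=
      sup_le hUD (centralizerIn_le_nPhi U₂ _)
    have hg₀R : IsIso F R₀ R₀ g₀ := ⟨hg₀.mono hRD, image_eq_of_mem hR₀S hg₀ hRD
      (mem_of_mem_sup hg₀ hUD (centralizerIn_le_nPhi U₂ _)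
        (fun x hx => Subgroup.mem_sup_left (hg₀U.mem hx))
        fun x hx => Subgroup.mem_sup_right
          (hg₀.mem_centralizerIn hUD hg₀U (centralizerIn_le_nPhi U₂ _ hx) hx.2))⟩
    obtain ⟨b, hb, hbv⟩ := exists_mem_autGroup hg₀R
    obtain ⟨k, hk⟩ := hR₀p ⟨b, hb⟩
    refine ⟨k, Subtype.ext (MulEquiv.ext fun x => Subtype.ext ?_)⟩
    have hpow : ∀ (j : ℕ) (x : U₂), ((((a : MulAut U₂) ^ j) x : U₂) : Ω) =
        (((b ^ j) ⟨x, Subgroup.mem_sup_left x.2⟩ : R₀) : Ω) := by
      intro j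
      induction j with
      | zero => intro x; rfl
      | succ j ih =>
        intro x
        rw [pow_succ, pow_succ, MulAut.mul_apply, MulAut.mul_apply, ih]
        congr 2
        refine Subtype.ext ?_
        rw [hbv, ← autFun_coe (a : MulAut U₂) x]
        exact (hg₀v x x.2).symm
    rw [SubgroupClass.coe_pow, hpow, show b ^ p ^ k = 1 from congrArg Subtype.val hk]
    rfl
  rcases eq_or_ne U₂ U with heq | hne
  swap
  · have hlt : Nat.card U < Nat.card U₂ := by
      refine lt_of_le_of_ne (Subgroup.card_le_of_le hUU₂) fun h => hne ?_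
      exact (Subgroup.eq_of_le_of_card_ge hUU₂ h.ge).symm
    have h2 := Subgroup.card_le_of_le hU₂S
    have hstep : ∀ X₂ : Subgroup Ω, X₂ ≤ S → S ≤ Subgroup.normalizer (X₂ : Set Ω) →
        ¬ F.IsNormal X₂ → FixPGroup F p X₂ := by
      intro X₂ hX₂S hX₂n hX₂nn A hA hXA a ha haX hac
      have hN₂ : normalizerIn S X₂ = S := inf_eq_left.2 hX₂n
      have hX₂fn : F.IsFullyNormalized X₂ := ⟨hX₂S, fun Q' _ => by
        rw [hN₂]; exact Subgroup.card_le_of_le inf_le_left⟩
      refine hnorm X₂ hX₂fn hX₂nn (by rw [hN₂]; exact hU.1) ?_ ?_ A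
        (by rw [hN₂]; exact hA) hXA a ha haX hac
      all_goals rw [hN₂]
      · exact fun B hB hXB b hb _ hbX hbc => hfix B hB hXB b hb hbX hbc
      · exact fun B hB hXB b hb _ hbX hbc => hcent B hB hXB b hb hbX hbc
    exact ihm _ (by omega) U₂ rfl hU₂ hp₂
      (hstep _ (relW_le W U₂ S) (fun s hs =>
        normalizer_le_relW W hW2 le_rfl hS (Subgroup.le_normalizer hs) (hUnS hs))
        (hnonnormal S le_rfl hU₂S hU₂ne))
      (hstep _ (relW_le W' U₂ S) (fun s hs =>
        normalizer_le_relW W' hW2' le_rfl hS (Subgroup.le_normalizer hs) (hUnS hs))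
        (hnonnormal' S le_rfl hU₂S hU₂ne)).centPGroup
  subst heq
  have hclimb : ∀ (k : ℕ) (V : Subgroup Ω), Nat.card S - Nat.card (normalizerIn S V) = k →
      F.IsFullyNormalized V → U₂ ≤ V → ¬ F.IsNormal V →
      ∀ A : Subgroup Ω, A ≤ normalizerIn S V → V ≤ A → ∀ a ∈ F.autGroup A,
        autFun a '' (V : Set Ω) = V → (orderOf a).Coprime p → a = 1 := by
    intro k
    induction k using Nat.strong_induction_on with
    | _ k ihk =>
    intro V hk hV hUV hVn
    have hUT : U₂ ≤ normalizerIn S V := hUV.trans (le_normalizerIn hV.1)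
    set T := normalizerIn S V
    have hTle : T ≤ S := inf_le_left
    have hTp : IsPGroup p T := hS.to_le hTle
    have hUneT : U₂ ≠ T := fun h => hVn <| by
      rw [show V = U₂ from le_antisymm ((le_normalizerIn hV.1).trans h.ge) hUV]
      exact hU₂
    have hstep : T ≠ S → ∀ X₁ : Subgroup Ω, X₁ ≤ T → U₂ ≤ X₁ → ¬ F.IsNormal X₁ →
        (∀ x ∈ normalizerIn S T, x ∈ normalizerIn S X₁) →
        ∀ A : Subgroup Ω, A ≤ T → X₁ ≤ A → ∀ a ∈ F.autGroup A,
          autFun a '' (X₁ : Set Ω) = X₁ → (orderOf a).Coprime p → a = 1 := by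
      intro hTS X₁ hX₁T hUX₁ hX₁n hnorm₁ A hA hXA a ha haX hac
      have hX₁S : X₁ ≤ S := hX₁T.trans hTle
      have hTN : T ≤ normalizerIn S X₁ := fun x hx =>
        hnorm₁ x ⟨hTle hx, Subgroup.le_normalizer hx⟩
      have hlt2 : Nat.card T < Nat.card (normalizerIn S X₁) := by
        have h1 := lt_normalizerIn hS hTle hTS
        haveI : Finite ↥(normalizerIn S X₁) :=
          finite_of_le (inf_le_left : normalizerIn S X₁ ≤ S)
        refine lt_of_lt_of_le ?_ (Subgroup.card_le_of_le (show normalizerIn S T ≤ normalizerIn S X₁ from hnorm₁))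
        haveI : Finite ↥(normalizerIn S T) := finite_of_le (inf_le_left : normalizerIn S T ≤ S)
        refine lt_of_le_of_ne (Subgroup.card_le_of_le h1.le) fun h => ?_
        exact h1.ne (Subgroup.eq_of_le_of_card_ge h1.le h.ge)
      obtain ⟨V', hXV, hV'⟩ := exists_isFullyNormalized (F := F) hX₁S
      obtain ⟨c, hc, hci, hcN, -⟩ := exists_map_normalizerIn hS
        (isFullyAutomized_of_isFullyNormalized hS hF hV')
        (isReceptive_of_isFullyNormalized hS hF hV') hXV
      have hUV' : U₂ ≤ V' := fun x hx => by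
        obtain ⟨y, hy, rfl⟩ := (image_eq_of_isNormal hU₂ hci.isMap hUX₁).ge hx
        exact hci.mem (hUX₁ hy)
      have hV'n : ¬ F.IsNormal V' := fun h => hX₁n <| by
        obtain ⟨c', hc', hc'1, -⟩ := hci.exists_symm
        rw [show X₁ = V' from SetLike.coe_injective
          (hc'.image_eq.symm.trans (image_eq_of_isNormal h hc'.isMap le_rfl))]
        exact h
      obtain ⟨A', hA'⟩ := (hc.mono (hA.trans hTN)).exists_iso
      obtain ⟨c', hc', hc'1, -⟩ := hA'.exists_symm
      have hVA' : V' ≤ A' := fun z hz => by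
        obtain ⟨x, hx, rfl⟩ := hci.surj hz
        exact hA'.mem (hXA hx)
      have hA'N : A' ≤ normalizerIn S V' := fun z hz => by
        obtain ⟨x, hx, rfl⟩ := hA'.surj hz
        exact hcN x (hTN (hA hx))
      have hai := (mem_autGroup_iff (hA.trans hTle) a).1 ha
      obtain ⟨b, hb, hbv⟩ := exists_mem_autGroup ((hc'.comp hai).comp hA')
      have hbeq : b = MulAut.congr hA'.equiv a := by
        refine MulEquiv.ext fun y => Subtype.ext ?_
        obtain ⟨x, rfl⟩ := hA'.equiv.surjective y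
        rw [hA'.congr_apply, hbv]
        show c (autFun a (c' (c (x : Ω)))) = c (a x : Ω)
        rw [hc'1 _ x.2, autFun_coe]
      have hbc : (orderOf b).Coprime p := by
        rw [hbeq, MulEquiv.orderOf_eq]; exact hac
      have hbV : autFun b '' (V' : Set Ω) = V' := by
        refine image_eq_of_mem hV'.1 ((mem_autGroup_iff (hA'N.trans inf_le_left) b).1 hb).isMap hVA'
          fun z hz => ?_
        obtain ⟨x, hx, rfl⟩ := hci.surj hz
        rw [autFun_apply b (hVA' (hci.mem hx)), hbv]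
        show c (autFun a (c' (c x))) ∈ V'
        rw [hc'1 x (hXA hx)]
        exact hci.mem (haX.subset ⟨x, hx, rfl⟩)
      have hle3 : Nat.card (normalizerIn S V') ≤ Nat.card S := Subgroup.card_le_of_le inf_le_left
      have hcard : Nat.card (normalizerIn S X₁) ≤ Nat.card (normalizerIn S V') :=
        hV'.2 X₁ (isConj_symm hXV)
      have hb1 := ihk _ (by omega) V' rfl hV' hUV' hV'n A' hA'N hVA' b hb hbV hbc
      exact (MulAut.congr hA'.equiv).injective ((hbeq.symm.trans hb1).trans (map_one _).symm)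
    refine hnorm V hV hVn hUT (fun A hA hXA a ha hext haX hac => ?_)
      fun A hA hXA a ha hext hafix hac => ?_
    · by_cases hTS : T = S
      · have hXA' : relW W U₂ T ≤ A := hXA
        have haX' : autFun a '' (relW W U₂ T : Set Ω) = relW W U₂ T := haX
        rw [hTS] at hXA' haX'
        exact hfix A (hA.trans hTle) hXA' a ha haX' hac
      · exact hstep hTS _ (relW_le W U₂ T) (le_relW W hUT) (hnonnormal T hTle hUT hUneT)
          (fun x hx => ⟨hx.1, normalizer_le_relW W hW2 hTle hTp hx.2 (hUnS hx.1)⟩)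
          A hA hXA a ha haX hac
    · by_cases hTS : T = S
      · have hXA' : relW W' U₂ T ≤ A := hXA
        have hafix' : ∀ x ∈ relW W' U₂ T, autFun a x = x := hafix
        rw [hTS] at hXA' hafix'
        exact hcent A (hA.trans hTle) hXA' a ha hafix' hac
      · exact hstep hTS _ (relW_le W' U₂ T) (le_relW W' hUT) (hnonnormal' T hTle hUT hUneT)
          (fun x hx => ⟨hx.1, normalizer_le_relW W' hW2' hTle hTp hx.2 (hUnS hx.1)⟩)
          A hA hXA a ha (by rw [Set.image_congr hafix, Set.image_id']) hac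
  refine autsPGroup_of_le_inner hS (le_of_autGroup_le hS hF fun R hR => ?_)
  have hRfn : F.IsFullyNormalized R := hR.elim (fun h => by
    subst h
    refine ⟨le_rfl, fun Q hQ => ?_⟩
    obtain ⟨f, hf⟩ := isConj_iff.1 hQ
    rw [Subgroup.eq_of_le_of_card_ge hf.le_right hf.card_eq.ge]) fun h => h.2.1
  have := finite_of_le hRfn.1
  have := finite_mulAut R
  have hRp : IsPGroup p (F.autGroup R) := by
    refine isPGroup_of_coprime_trivial' fun a hac => Subtype.ext ?_
    have hac' : (orderOf (a : MulAut R)).Coprime p := by rwa [Subgroup.orderOf_coe]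
    have hai := (mem_autGroup_iff hRfn.1 _).1 a.2
    by_cases hRS : R = S
    · subst hRS
      exact hfix R le_rfl (relW_le W U₂ R) a a.2 (image_relW W hW2 hS le_rfl hU₂S hai
        (image_eq_of_isNormal hU₂ hai.isMap hU₂S)) hac'
    have hess := hR.resolve_left hRS
    exact hclimb _ R rfl hRfn (le_of_isNormal hS hU₂ hess.1 (isRadical_of_isEssential hS hess))
      (fun h => hcon ⟨hF, R, h, hess.1⟩) R (le_normalizerIn hRfn.1) le_rfl a a.2 hai.image_eq hac'
  intro a ha
  rw [autGroup_inner hRfn.1]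
  obtain ⟨T, hT⟩ := (isFullyAutomized_of_isFullyNormalized hS hF hRfn).2
  have h2 : (⟨a, ha⟩ : F.autGroup R) ∈ (T : Subgroup (F.autGroup R)) := by
    rw [← T.is_maximal' (hRp.to_subgroup ⊤) le_top]
    exact Subgroup.mem_top _
  rwa [hT] at h2

/-- A functor detecting `p`-groups detects inner saturated systems. -/
theorem inner_of_functor {Ω : Type u} [Group Ω] {S : Subgroup Ω} [Finite S] {F : FusionSystem S}
    (hS : IsPGroup p S) (hF : F.IsSaturated p) (hfree : F.IsSectionFree p H)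
    (hfix : FixPGroup F p (functorOf W S)) (hcent : CentPGroup F p (functorOf W' S)) :
    ∀ P : Subgroup Ω, F.Hom P = (innerFusionSystem S).Hom P := by
  have hbot : F.IsNormal ⊥ := by
    refine isNormal_iff.2 ⟨bot_le, fun P f hf => ⟨f, by rwa [sup_bot_eq], fun _ _ => rfl, ?_⟩⟩
    rw [Subgroup.coe_bot, Set.image_singleton, hf.map_one]
  have haut : IsPGroup p (F.autGroup ⊥) := fun a =>
    ⟨0, Subtype.ext (MulEquiv.ext fun x => Subsingleton.elim _ _)⟩
  have h := autsPGroup_of_fix W hW1 hW2 W' hW1' hW2' hW4 _ S F rfl hS hF hfree ⊥ hbot haut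
    (by rwa [relW_bot W hW2 hS]) (by rwa [relW_bot W' hW2' hS])
  intro P
  ext φ
  constructor
  · intro hφ
    exact (mem_hom_iff φ).2 (h.le_inner hS hF P _ (isMap_homFun hφ))
  · exact fun hφ => hom_inner_subset F le_rfl hφ

end CfsgLib.Fusion
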