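import Mathlib
import Cfsg.Agent.Lib.Fusion.InnerControl
import Cfsg.Agent.Lib.ZJ.Complement
import Cfsg.Agent.Lib.ZJ.Centers

/-!
`Z(J(S))` as a functor for fusion systems; the Glauberman–Thompson criterion.
-/

set_option autoImplicit false

namespace CfsgLib.Fusion

open Cfsg Cfsg.FusionSystem

universe u

/-- `Q ↦ Z(J(Q))`. -/
def zjFunctor (Q : Type u) [Group Q] : Subgroup Q := CfsgLib.ZJ.zJ 0 (⊤ : Subgroup Q)

theorem functorOf_zjFunctor {G : Type u} [Group G] (T : Subgroup G) :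
    functorOf zjFunctor T = Cfsg.centerThompsonAOf T := by
  show (CfsgLib.ZJ.zJ 0 (⊤ : Subgroup T)).map T.subtype = _
  rw [CfsgLib.ZJ.map_zJ 0 T.subtype T.subtype_injective.injOn, ← MonoidHom.range_eq_map,
    Subgroup.range_subtype, CfsgLib.ZJ.centerThompsonAOf_eq]

variable {p : ℕ} [Fact p.Prime]

theorem zjFunctor_ne_bot (Q : Type u) [Group Q] [Finite Q] (hQ : IsPGroup p Q)
    (hn : Nontrivial Q) : zjFunctor Q ≠ ⊥ := fun hbot => by
  obtain ⟨z, hz, hz1, -⟩ := CfsgLib.ZJ.zJ_ne_bot (p := p) (e := 0) (Or.inl rfl)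
    (hQ.to_subgroup (⊤ : Subgroup Q)) top_ne_bot
  exact hz1 (Subgroup.mem_bot.mp (hbot ▸ hz))

omit [Fact p.Prime] in
theorem zjFunctor_map (Q R : Type u) [Group Q] [Group R] [Finite Q] (_hQ : IsPGroup p Q)
    (φ : Q ≃* R) : (zjFunctor Q).map φ.toMonoidHom = zjFunctor R := by
  show (CfsgLib.ZJ.zJ 0 (⊤ : Subgroup Q)).map φ.toMonoidHom = CfsgLib.ZJ.zJ 0 (⊤ : Subgroup R)
  rw [CfsgLib.ZJ.map_zJ 0 φ.toMonoidHom φ.injective.injOn,
    Subgroup.map_top_of_surjective _ φ.surjective]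

/-- A group with self-centralizing `p`-core and a normal `p`-complement is a `p`-group. -/
theorem isPGroup_of_complement {L : Type u} [Group L] [Finite L] {P' : Sylow p L} {K : Subgroup L}
    (hc : Subgroup.centralizer ((Cfsg.pCore p L : Subgroup L) : Set L) ≤ Cfsg.pCore p L)
    (hK : K.Normal) (hKc : K.IsComplement' (P' : Subgroup L)) : IsPGroup p L := by
  have hO : (Cfsg.pCore p L).Normal := CfsgLib.Fitting.pCore_normal p
  have hOP : Cfsg.pCore p L ≤ P' :=
    fun x hx => le_sylow_of_normal_pGroup P' hO (CfsgLib.Fitting.pCore_isPGroup p) hx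
  have hKO : ∀ x ∈ K, x ∈ Cfsg.pCore p L → x = 1 := fun x hx hxO =>
    Subgroup.mem_bot.1 (hKc.disjoint.le_bot ⟨hx, hOP hxO⟩)
  have hKc' : K ≤ Subgroup.centralizer ((Cfsg.pCore p L : Subgroup L) : Set L) := by
    intro k hk r hr
    have h1 : k * r * k⁻¹ * r⁻¹ = 1 := hKO _ (by
      rw [show k * r * k⁻¹ * r⁻¹ = k * (r * k⁻¹ * r⁻¹) by group]
      exact K.mul_mem hk (hK.conj_mem _ (K.inv_mem hk) r))
      ((Cfsg.pCore p L).mul_mem (hO.conj_mem r hr k) ((Cfsg.pCore p L).inv_mem hr))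
    rw [mul_inv_eq_one, mul_inv_eq_iff_eq_mul] at h1
    exact h1.symm
  have hK1 : K = ⊥ := (Subgroup.eq_bot_iff_forall _).2 fun k hk => hKO k hk (hc (hKc' hk))
  have htop : (P' : Subgroup L) = ⊤ := by
    have := hKc.sup_eq_top
    rwa [hK1, bot_sup_eq] at this
  exact (htop ▸ P'.isPGroup').of_equiv Subgroup.topEquiv

/-- A constrained group whose `N(Z(J(P)))` is a `p`-group is a `p`-group. -/
theorem isPGroup_of_normalizer_zj (hp : p ≠ 2) (L : Type u) [Group L] [Finite L] (P : Sylow p L)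
    (hc : Subgroup.centralizer ((Cfsg.pCore p L : Subgroup L) : Set L) ≤ Cfsg.pCore p L)
    (hN : IsPGroup p ↥(Subgroup.normalizer
      (((zjFunctor ↥(P : Subgroup L)).map (P : Subgroup L).subtype : Subgroup L) : Set L))) :
    IsPGroup p L := by
  have e : (zjFunctor ↥(P : Subgroup L)).map (P : Subgroup L).subtype =
      CfsgLib.ZJ.zJ 0 (P : Subgroup L) := by
    rw [← CfsgLib.ZJ.centerThompsonAOf_eq]; exact functorOf_zjFunctor _
  rw [e] at hN
  obtain ⟨P₁, hP₁⟩ := (hN.of_equiv Subgroup.topEquiv.symm).exists_le_sylow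
  obtain ⟨P', K, hK, hKc⟩ := CfsgLib.ZJ.hasNormalPComplement_of_functor
    (CfsgLib.ZJ.isZJFunctor_zJ hp (Or.inl rfl)) hp (Or.inl rfl) P
    ⟨P₁, ⊥, inferInstance, Subgroup.isComplement'_bot_left.2 (top_le_iff.1 hP₁)⟩
  exact isPGroup_of_complement hc hK hKc

/-- A normalizer system that is inner has no `p'`-automorphisms. -/
theorem fixPGroup_of_normalizer_inner {Ω : Type u} [Group Ω] {S : Subgroup Ω} [Finite S]
    {F : FusionSystem S} (hS : IsPGroup p S) {X : Subgroup Ω} (hX : X ≤ S)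
    (hXn : normalizerIn S X = S)
    (hN : ∀ N : FusionSystem (normalizerIn S X), F.IsNormalizerSystem X N →
      ∀ P : Subgroup Ω, N.Hom P = (innerFusionSystem (normalizerIn S X)).Hom P) :
    FixPGroup F p X := by
  intro A hA hXA a ha haX hac
  obtain ⟨N, hNN⟩ : ∃ N, F.IsNormalizerSystem X N := ⟨normalizerSystem F X hX, fun _ => rfl⟩
  have hai := (mem_autGroup_iff hA a).1 ha
  have hAn : A ≤ normalizerIn S X := hXn.symm ▸ hA
  have hm : IsMap N A (autFun a) := (isMap_normalizerSystem_iff hNN).2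
    ⟨hAn, fun x hx => hXn.symm ▸ hai.isMap.mem hx, autFun a,
      by rw [sup_eq_left.2 hXA]; exact hai.isMap, fun _ _ => rfl, haX⟩
  have hmem : a ∈ (innerFusionSystem (normalizerIn S X)).autGroup A := by
    refine (mem_autGroup_iff hAn a).2 ⟨?_, hai.image_eq⟩
    obtain ⟨φ, hφ, hv⟩ := hm
    rw [hN N hNN A] at hφ
    exact ⟨φ, hφ, hv⟩
  rw [autGroup_inner hAn] at hmem
  exact coprime_pGroup_eq_one (isPGroup_autInducedBy (hS.to_le inf_le_left) A) hmem hac

/-- In an inner system every normalizer system of a normal subgroup of `S` is inner. -/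
theorem normalizer_inner_of_inner {Ω : Type u} [Group Ω] {S : Subgroup Ω} [Finite S]
    {F : FusionSystem S} {X : Subgroup Ω} (hX : X ≤ S) (hXn : normalizerIn S X = S)
    (hF : ∀ P : Subgroup Ω, F.Hom P = (innerFusionSystem S).Hom P)
    (N : FusionSystem (normalizerIn S X)) (hN : F.IsNormalizerSystem X N) (P : Subgroup Ω) :
    N.Hom P = (innerFusionSystem (normalizerIn S X)).Hom P := by
  have hFm : ∀ P f, IsMap F P f ↔ IsMap (innerFusionSystem S) P f := fun P f => by
    constructor <;> rintro ⟨φ, hφ, hv⟩ <;> refine ⟨φ, ?_, hv⟩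
    · rwa [← hF]
    · rwa [hF]
  ext φ
  rw [mem_hom_iff, mem_hom_iff, isMap_normalizerSystem_iff hN, isMap_inner_iff]
  constructor
  · rintro ⟨hP, -, g, hg, hag, -⟩
    obtain ⟨-, s, hs, hsv⟩ := isMap_inner_iff.1 ((hFm _ _).1 hg)
    exact ⟨hP, s, hXn.symm ▸ hs, fun x hx => by
      rw [← hag x hx, hsv x (Subgroup.mem_sup_left hx)]⟩
  · rintro ⟨hP, s, hs, hsv⟩
    have hsS : s ∈ S := hs.1
    refine ⟨hP, fun x hx => ?_, fun x => s * x * s⁻¹, (hFm _ _).2 (isMap_inner_iff.2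
      ⟨sup_le (hP.trans inf_le_left) hX, s, hsS, fun _ _ => rfl⟩),
      fun x hx => (hsv x hx).symm, image_conj_eq hX hs.2 hsS⟩
    rw [hsv x hx]
    exact Subgroup.mul_mem _ (Subgroup.mul_mem _ hs (hP hx)) (Subgroup.inv_mem _ hs)

/-- The Glauberman–Thompson theorem for fusion systems. -/
theorem inner_iff_zj {Ω : Type u} [Group Ω] {S : Subgroup Ω} [Finite S]
    {F : FusionSystem S} (hS : IsPGroup p S) (hF : F.IsSaturated p) (hp : p ≠ 2) :
    (∀ P : Subgroup Ω, F.Hom P = (innerFusionSystem S).Hom P) ↔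
      ∀ N : FusionSystem (normalizerIn S (Cfsg.centerThompsonAOf S)),
        F.IsNormalizerSystem (Cfsg.centerThompsonAOf S) N → ∀ P : Subgroup Ω,
          N.Hom P = (innerFusionSystem (normalizerIn S (Cfsg.centerThompsonAOf S))).Hom P := by
  have hX : Cfsg.centerThompsonAOf S ≤ S :=
    (CfsgLib.ZJ.centerThompsonAOf_eq S).trans_le (CfsgLib.ZJ.zJ_le 0 S)
  have hXn : normalizerIn S (Cfsg.centerThompsonAOf S) = S := inf_eq_left.2 <| by
    rw [CfsgLib.ZJ.centerThompsonAOf_eq]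
    exact Subgroup.le_normalizer.trans (CfsgLib.ZJ.normalizer_le_normalizer_zJ 0 S)
  constructor
  · exact fun h N hN P => normalizer_inner_of_inner hX hXn h N hN P
  · intro h
    have hfix : FixPGroup F p (functorOf zjFunctor S) := by
      rw [functorOf_zjFunctor]
      exact fixPGroup_of_normalizer_inner hS hX hXn h
    exact inner_of_functor zjFunctor (p := p) (H := Multiplicative ℤ) zjFunctor_ne_bot
      zjFunctor_map zjFunctor zjFunctor_ne_bot zjFunctor_map
      (fun L _ _ P hc _ hN _ => isPGroup_of_normalizer_zj hp L P hc hN) hS hF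
      (isSectionFree_infinite F _) hfix hfix.centPGroup

end CfsgLib.Fusion
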