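import Mathlib
import Cfsg.Agent.Lib.Fusion.ZJControl
import Cfsg.Agent.Lib.Coprime.SchurZassenhaus
import Cfsg.Agent.Lib.Transfer.Basic

/-!
Normal subgroups between the derived and the Frattini subgroup of `S`: Tate's theorem in this
case, for groups and for fusion systems.
-/

set_option autoImplicit false
set_option linter.style.haveILetI false

namespace CfsgLib.Fusion

open Cfsg Cfsg.FusionSystem
open scoped Pointwise commutatorElement

universe u

variable {p : ℕ} [Fact p.Prime]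

/-- A normal `p`-subgroup that no proper subgroup of a Sylow subgroup supplements transmits
`p`-nilpotency from the quotient. -/
theorem hasNormalPComplement_of_nongenerating {L : Type u} [Group L] [Finite L] (S : Sylow p L)
    (Q : Subgroup L) [Q.Normal] (hQS : Q ≤ S)
    (hgen : ∀ H : Subgroup L, H ≤ S → Q ⊔ H = S → H = S)
    (h : Cfsg.HasNormalPComplement p (L ⧸ Q)) : Cfsg.HasNormalPComplement p L := by
  let π : L →* L ⧸ Q := QuotientGroup.mk' Q
  obtain ⟨P, K₀, hK₀, hKc⟩ := h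
  haveI := hK₀
  have hK₀c := CfsgLib.Transfer.coprime_card_of_isComplement' hKc
  have hK₀q := CfsgLib.Transfer.isPGroup_quotient_of_isComplement' hKc
  let M : Subgroup L := K₀.comap π
  haveI hMn : M.Normal := hK₀.comap π
  have hQM : Q ≤ M := fun q hq => by
    show π q ∈ K₀
    rw [show π q = 1 from (QuotientGroup.eq_one_iff q).2 hq]
    exact K₀.one_mem
  have hrel : Q.relIndex M = Nat.card K₀ := by
    rw [← Subgroup.card_map_of_injective (f := MonoidHom.id (L ⧸ Q)) Function.injective_id,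
      Subgroup.map_id]
    have e : M.map π = K₀ := Subgroup.map_comap_eq_self_of_surjective
      (QuotientGroup.mk'_surjective Q) K₀
    rw [← e, ← Subgroup.relIndex_ker, QuotientGroup.ker_mk']
  obtain ⟨n, hn⟩ := IsPGroup.iff_card.1 (S.isPGroup'.to_le hQS)
  have hcop : (Nat.card ↥(Q ⊓ M)).Coprime (Q.relIndex M) := by
    rw [inf_eq_left.2 hQM, hrel, hn]
    exact (hK₀c.symm).pow_left n
  obtain ⟨K, hKM, hKsup, hKinf, hKcard⟩ := CfsgLib.Coprime.exists_complement_of_coprime
    (N := Q) (S := M) Subgroup.le_normalizer_of_normal hcop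
  rw [inf_eq_left.2 hQM] at hKsup hKinf
  have hKcop : (Nat.card Q).Coprime (Nat.card K) := by
    rw [hKcard, hrel, hn]; exact (hK₀c.symm).pow_left n
  have hsolv : Group.IsSolvable Q := by
    haveI := (S.isPGroup'.to_le hQS).isNilpotent
    infer_instance
  -- the Frattini argument for `K`
  have hNK : ∀ g : L, ∃ x ∈ Q, x⁻¹ * g ∈ Subgroup.normalizer (K : Set L) := by
    intro g
    have hQe : MulAut.conj g • Q = Q := Subgroup.Normal.conjAct ‹Q.Normal› (ConjAct.toConjAct g)
    have hMe : MulAut.conj g • M = M := Subgroup.Normal.conjAct hMn (ConjAct.toConjAct g)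
    obtain ⟨x, hx, hxe⟩ := CfsgLib.Coprime.exists_conj_of_coprime
      (H := MulAut.conj g • K) (K := K)
      Subgroup.le_normalizer_of_normal (by rwa [CfsgLib.Coprime.card_conj_smul]) hKcop
      (by rw [hKsup, ← hQe, ← Subgroup.smul_sup, hKsup, hMe]) (Or.inl hsolv)
    refine ⟨x⁻¹, Q.inv_mem hx, ?_⟩
    rw [inv_inv]
    have e : MulAut.conj (x * g) • K = K := by rw [map_mul, mul_smul, hxe]
    rw [Subgroup.mem_normalizer_iff]
    intro y
    constructor
    · intro hy
      have := CfsgLib.Coprime.conj_mem_conj_smul (g := x * g) hy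
      rwa [e] at this
    · intro hy
      rw [← e, CfsgLib.Coprime.mem_conj_smul_iff] at hy
      simpa [mul_assoc] using hy
  have hSN : (S : Subgroup L) ≤ Subgroup.normalizer (K : Set L) := by
    have := hgen ((S : Subgroup L) ⊓ Subgroup.normalizer (K : Set L)) inf_le_left ?_
    · exact inf_eq_left.1 this
    refine le_antisymm (sup_le hQS inf_le_left) fun s hs => ?_
    obtain ⟨x, hx, hxn⟩ := hNK s
    have : x⁻¹ * s ∈ (S : Subgroup L) ⊓ Subgroup.normalizer (K : Set L) :=
      ⟨Subgroup.mul_mem _ (Subgroup.inv_mem _ (hQS hx)) hs, hxn⟩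
    simpa using mul_mem (Subgroup.mem_sup_left (T := (S : Subgroup L) ⊓ _) hx)
      (Subgroup.mem_sup_right (S := Q) this)
  haveI hKn : K.Normal := Subgroup.normalizer_eq_top_iff.1 (eq_top_iff.2 fun g _ => by
    obtain ⟨x, hx, hxn⟩ := hNK g
    simpa using mul_mem (hSN (hQS hx)) hxn)
  refine CfsgLib.Transfer.hasNormalPComplement_of_le_of_isPGroup_quotient K
    (by rw [hKcard, hrel]; exact hK₀c) ?_
  obtain ⟨a, ha⟩ := IsPGroup.iff_card.1 hK₀q
  refine IsPGroup.of_card (n := a + n) ?_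
  have h1 := Subgroup.card_eq_card_quotient_mul_card_subgroup K
  have h2 := Subgroup.card_eq_card_quotient_mul_card_subgroup Q
  have h3 := Subgroup.card_eq_card_quotient_mul_card_subgroup K₀
  rw [h2, h3, ha, hn, ← hrel, ← hKcard] at h1
  refine (Nat.eq_of_mul_eq_mul_right (Nat.card_pos (α := K)) ?_).symm
  rw [← h1, pow_add]
  ring

/-- A group with self-centralizing `p`-core, a normal subgroup between the derived and the
Frattini subgroup of a Sylow subgroup and a `p`-group as Sylow normalizer is a `p`-group. -/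
theorem isPGroup_of_normal_le_frattini {L : Type u} [Group L] [Finite L] (S : Sylow p L)
    (Q : Subgroup L) [Q.Normal] (hQS : Q ≤ S)
    (hgen : ∀ H : Subgroup L, H ≤ S → Q ⊔ H = S → H = S)
    (hder : ∀ x ∈ (S : Subgroup L), ∀ y ∈ (S : Subgroup L), x * y * x⁻¹ * y⁻¹ ∈ Q)
    (hN : IsPGroup p ↥(Subgroup.normalizer ((S : Subgroup L) : Set L)))
    (hc : Subgroup.centralizer ((Cfsg.pCore p L : Subgroup L) : Set L) ≤ Cfsg.pCore p L) :
    IsPGroup p L := by
  let π : L →* L ⧸ Q := QuotientGroup.mk' Q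
  have hπ : Function.Surjective π := QuotientGroup.mk'_surjective Q
  have hSNeq : Subgroup.normalizer ((S : Subgroup L) : Set L) = S :=
    S.3 hN Subgroup.le_normalizer
  let S' : Sylow p (L ⧸ Q) := S.mapSurjective hπ
  have hquot : Cfsg.HasNormalPComplement p (L ⧸ Q) := by
    refine CfsgLib.Transfer.hasNormalPComplement_of_normalizer_le_centralizer S' fun g hg => ?_
    obtain ⟨g, rfl⟩ := hπ g
    have hgS : g ∈ (S : Subgroup L) := by
      rw [← hSNeq]
      refine mem_normalizer_of_conj_mem (S := (⊤ : Subgroup L)) le_top fun x hx => ?_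
      obtain ⟨y, hy, hye⟩ := conj_mem_of_mem_normalizer (P := (S' : Subgroup (L ⧸ Q))) hg
        (show π x ∈ (S' : Subgroup (L ⧸ Q)) from ⟨x, hx, rfl⟩)
      have h1 : y⁻¹ * (g * x * g⁻¹) ∈ Q := QuotientGroup.eq.1 <| by
        show π y = π (g * x * g⁻¹)
        rw [map_mul, map_mul, map_inv]; exact hye
      simpa using mul_mem hy (hQS h1)
    rintro _ ⟨x, hx, rfl⟩
    have h1 : π (x * g * x⁻¹ * g⁻¹) = 1 := (QuotientGroup.eq_one_iff _).2 (hder x hx g hgS)
    rw [map_mul, map_mul, map_mul, map_inv, map_inv, mul_inv_eq_one, mul_inv_eq_iff_eq_mul] at h1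
    exact h1
  obtain ⟨P, K, hK, hKc⟩ := hasNormalPComplement_of_nongenerating S Q hQS hgen hquot
  exact isPGroup_of_complement hc hK hKc

variable {Ω : Type u} [Group Ω] {S : Subgroup Ω} [Finite S] {N : FusionSystem S}

/-- A saturated system with a normal subgroup between `S'` and `Φ(S)` and no `p'`-automorphism of
`S` is inner. -/
theorem autsPGroup_of_normal_le_frattini (hS : IsPGroup p S) (hN : N.IsSaturated p)
    {Q : Subgroup Ω} (hQ : N.IsNormal Q) (h1 : (commutator ↥S).map S.subtype ≤ Q)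
    (h2 : Q ≤ (frattini ↥S).map S.subtype) (haut : IsPGroup p (N.autGroup S)) :
    AutsPGroup N p := by
  have hQS : Q ≤ S := hQ.1
  have hcomm : ∀ x ∈ S, ∀ y ∈ S, x * y * x⁻¹ * y⁻¹ ∈ Q := fun x hx y hy =>
    h1 ⟨⁅(⟨x, hx⟩ : S), ⟨y, hy⟩⁆,
      Subgroup.commutator_mem_commutator (Subgroup.mem_top _) (Subgroup.mem_top _), rfl⟩
  have hnor : ∀ {R : Subgroup Ω}, R ≤ S → Q ≤ R → S ≤ Subgroup.normalizer (R : Set Ω) := by
    intro R hR hQR s hs
    refine mem_normalizer_of_conj_mem hR fun x hx => ?_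
    have := R.mul_mem (hQR (hcomm s hs x (hR hx))) hx
    rwa [inv_mul_cancel_right] at this
  have hfn : ∀ {R : Subgroup Ω}, R ≤ S → Q ≤ R → N.IsFullyNormalized R := fun {R} hR hQR =>
    ⟨hR, fun R' _ => by
      rw [show normalizerIn S R = S from inf_eq_left.2 (hnor hR hQR)]
      exact Subgroup.card_le_of_le inf_le_left⟩
  -- centric subgroups above `Q`
  have hcase : ∀ R : Subgroup Ω, R ≤ S → Q ≤ R → centralizerIn S R ≤ R →
      IsPGroup p (N.autGroup R) := by
    intro R hR hQR hRC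
    have hRn := hfn hR hQR
    have hTS : normalizerIn S R = S := inf_eq_left.2 (hnor hR hQR)
    have hRc : N.IsCentric R := isCentric_of_fullyCentralized hS hN
      (isFullyCentralized_of_isFullyNormalized hS hN hRn) hRC
    obtain ⟨M, hM⟩ : ∃ M, N.IsNormalizerSystem R M := ⟨normalizerSystem N R hR, fun _ => rfl⟩
    have hCN := centricNormal_normalizerSystem hS hN hRn hRc hM
    have := finite_of_le (S := S) (P := normalizerIn S R) inf_le_left
    obtain ⟨L, _, ι, hL⟩ := exists_model hCN.hS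
      (⟨hCN.hF, R, hCN.hn, hCN.hc⟩ : M.IsConstrained p)
    have : Finite L := hL.1
    obtain ⟨T₀, hT₀⟩ := hL.2.2.1
    have hinj := hL.2.1.1
    have hQT : Q ≤ normalizerIn S R := hTS.symm ▸ hQS
    have hQM : M.IsNormal Q := by
      refine isNormal_iff.2 ⟨hQT, fun P f hf => ?_⟩
      obtain ⟨hP, -, g, hg, hgf, hgR⟩ := (isMap_normalizerSystem_iff hM).1 hf
      have hle : P ⊔ Q ≤ P ⊔ R := sup_le_sup_left hQR P
      have hPQ : P ⊔ Q ≤ normalizerIn S R := sup_le hP hQT
      refine ⟨g, (isMap_normalizerSystem_iff hM).2 ⟨hPQ,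
        fun x hx => hTS.symm ▸ hg.mem (hle hx), g,
        hg.mono (sup_le hle le_sup_right), fun _ _ => rfl, hgR⟩, hgf, ?_⟩
      exact image_eq_of_mem hQS (hg.mono hle) le_sup_right fun x hx =>
        isMap_mem_of_stronglyClosed (stronglyClosed_of_isNormal hQ) (hg.mono hle)
          (Subgroup.mem_sup_right hx) hx
    let Qb : Subgroup L := (Q.subgroupOf (normalizerIn S R)).map ι
    haveI hQbn : Qb.Normal := normal_map_of_isModel hL hQM
    have hQbS : Qb ≤ (T₀ : Subgroup L) := hT₀ ▸ Subgroup.map_le_range _ _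
    have hgen : ∀ H : Subgroup L, H ≤ T₀ → Qb ⊔ H = T₀ → H = T₀ := by
      intro H hH hsup
      let toS : S →* L := ι.comp (MulEquiv.subgroupCongr hTS).symm.toMonoidHom
      have htoS : Function.Injective toS :=
        hinj.comp (MulEquiv.subgroupCongr hTS).symm.injective
      have hrange : toS.range = ι.range := by
        rw [MonoidHom.range_comp, MonoidHom.range_eq_top.2
          (MulEquiv.subgroupCongr hTS).symm.surjective, ← MonoidHom.range_eq_map]
      have e1 : frattini ↥S ⊔ H.comap toS = ⊤ := by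
        have hQe : (Q.subgroupOf S).map toS = Qb := by
          ext y
          constructor
          · rintro ⟨⟨x, hxS⟩, hx, rfl⟩; exact ⟨⟨x, hTS.ge hxS⟩, hx, rfl⟩
          · rintro ⟨⟨x, hxT⟩, hx, rfl⟩; exact ⟨⟨x, hTS.le hxT⟩, hx, rfl⟩
        have hQf : Q.subgroupOf S ≤ frattini ↥S := fun x hx => by
          obtain ⟨y, hy, hye⟩ := h2 hx
          rwa [← Subtype.ext hye]
        rw [eq_top_iff]
        intro s _
        have hs : toS s ∈ Qb ⊔ H := by rw [hsup, hT₀, ← hrange]; exact ⟨s, rfl⟩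
        obtain ⟨q, hq, h, hh, he⟩ := Subgroup.mem_sup_of_normal_left.1 hs
        obtain ⟨q', hq', rfl⟩ := hQe.ge hq
        have : q'⁻¹ * s ∈ H.comap toS := by
          show toS (q'⁻¹ * s) ∈ H
          rw [map_mul, map_inv, ← he, inv_mul_cancel_left]; exact hh
        simpa using mul_mem (Subgroup.mem_sup_left (T := H.comap toS) (hQf hq'))
          (Subgroup.mem_sup_right (S := frattini ↥S) this)
      have e2 := frattini_nongenerating (K := H.comap toS) (by rw [sup_comm]; exact e1)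
      refine le_antisymm hH fun y hy => ?_
      obtain ⟨s, rfl⟩ := hrange.ge (hT₀.le hy)
      exact (e2.symm ▸ Subgroup.mem_top s : s ∈ H.comap toS)
    have hder : ∀ x ∈ (T₀ : Subgroup L), ∀ y ∈ (T₀ : Subgroup L), x * y * x⁻¹ * y⁻¹ ∈ Qb := by
      intro x hx y hy
      obtain ⟨a, rfl⟩ := hT₀.le hx
      obtain ⟨b, rfl⟩ := hT₀.le hy
      exact ⟨a * b * a⁻¹ * b⁻¹, hcomm a (hTS.le a.2) b (hTS.le b.2), by
        simp only [map_mul, map_inv]⟩
    have hNT : IsPGroup p ↥(Subgroup.normalizer ((T₀ : Subgroup L) : Set L)) := by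
      refine isPGroup_of_coprime_trivial fun g hg hgc => ?_
      have hconj : ∀ x : S, ∃ y : ↥(normalizerIn S R),
          ι y = g * ι ⟨x, hTS.ge x.2⟩ * g⁻¹ := fun x =>
        hT₀.le (conj_mem_of_mem_normalizer hg (hT₀.ge ⟨_, rfl⟩))
      choose w hw using hconj
      classical
      let f : Ω → Ω := fun x => if hx : x ∈ S then (w ⟨x, hx⟩ : Ω) else 1
      have hfx : ∀ x (hx : x ∈ S), f x = w ⟨x, hx⟩ := fun x hx => dif_pos hx
      have hfM : IsMap M (normalizerIn S R) f := isMap_of_conj hL.2.1 le_rfl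
        (fun x hx => by rw [hfx x (hTS.le hx)]; exact (w _).2) (g := g) fun x hx => by
          rw [hfx x (hTS.le hx), homExt_apply ι (w _).2, homExt_apply ι hx]
          exact hw ⟨x, hTS.le hx⟩
      obtain ⟨-, -, e, he, hef, -⟩ := (isMap_normalizerSystem_iff hM).1 hfM
      have hfN : IsMap N S f := ((he.mono (le_sup_left.trans' hTS.ge)).congr
        fun x hx => hef x (hTS.ge hx))
      have hfS : f '' (S : Set Ω) = S := image_eq_of_mem le_rfl hfN le_rfl fun x hx => hfN.mem hx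
      obtain ⟨α, hα, hαv⟩ := exists_mem_autGroup (⟨hfN, hfS⟩ : IsIso N S S f)
      have hpow : ∀ (j : ℕ) (x : S), ι ⟨((α ^ j) x : S), hTS.ge (SetLike.coe_mem _)⟩ =
          g ^ j * ι ⟨x, hTS.ge x.2⟩ * (g ^ j)⁻¹ := by
        intro j
        induction j with
        | zero => intro x; simp
        | succ j ih =>
          intro x
          have h5 : (⟨(α x : Ω), hTS.ge (α x).2⟩ : ↥(normalizerIn S R)) = w x :=
            Subtype.ext ((hαv x).trans (hfx x x.2))
          calc ι ⟨((α ^ (j + 1)) x : S), hTS.ge (SetLike.coe_mem _)⟩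
              = ι ⟨((α ^ j) (α x) : S), hTS.ge (SetLike.coe_mem _)⟩ := rfl
            _ = g ^ j * ι ⟨(α x : Ω), hTS.ge (α x).2⟩ * (g ^ j)⁻¹ := ih (α x)
            _ = g ^ (j + 1) * ι ⟨x, hTS.ge x.2⟩ * (g ^ (j + 1))⁻¹ := by
              rw [h5, hw, pow_succ]; group
      obtain ⟨k, hk⟩ := haut ⟨α, hα⟩
      have hcent : g ^ p ^ k ∈ Subgroup.centralizer ((T₀ : Subgroup L) : Set L) := fun t ht => by
        obtain ⟨y, rfl⟩ := hT₀.le ht
        have h6 := hpow (p ^ k) ⟨y, hTS.le y.2⟩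
        rw [show α ^ p ^ k = 1 from congrArg Subtype.val hk] at h6
        exact (mul_inv_eq_iff_eq_mul.1 h6.symm).symm
      have hgp := hL.2.2.2 (Subgroup.centralizer_le (show
        ((pCore p L : Subgroup L) : Set L) ⊆ (T₀ : Subgroup L) from
          hT₀ ▸ pCore_le_range hL) hcent)
      obtain ⟨i, hi⟩ := CfsgLib.Fitting.pCore_isPGroup p ⟨_, hgp⟩
      have hi' : g ^ p ^ (k + i) = 1 := by
        rw [pow_add, pow_mul]; exact congrArg Subtype.val hi
      exact orderOf_eq_one_iff.1 (Nat.eq_one_of_dvd_coprimes (hgc.pow_right (k + i)) dvd_rfl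
        (orderOf_dvd_of_pow_eq_one hi'))
    have hLp := isPGroup_of_normal_le_frattini T₀ Qb hQbS hgen hder hNT hL.2.2.2
    have htop : (T₀ : Subgroup L) = ⊤ := (T₀.3 (hLp.to_subgroup ⊤) le_top).symm
    refine (isPGroup_autInducedBy hS R).to_le fun a ha => ?_
    have hai := (mem_autGroup_iff hR a).1 ha
    have hRT : R ≤ normalizerIn S R := hTS.symm ▸ hR
    have haM : IsMap M R (autFun a) := (isMap_normalizerSystem_iff hM).2
      ⟨hRT, fun x hx => hRT (hai.image_eq.subset ⟨x, hx, rfl⟩), autFun a,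
        by rw [sup_idem]; exact hai.isMap, fun _ _ => rfl, hai.image_eq⟩
    obtain ⟨γ, hγ⟩ := exists_conj_of_isMap hL.2.1 haM
    obtain ⟨t, rfl⟩ := hT₀.le (htop.ge (Subgroup.mem_top γ))
    refine (mem_autInducedBy_iff S R a).2 ⟨t, hTS.le t.2, fun x => ?_⟩
    have h7 := hγ x x.2
    rw [homExt_apply ι (hRT (hai.image_eq.subset ⟨x, x.2, rfl⟩)), homExt_apply ι (hRT x.2),
      ← map_inv, ← map_mul, ← map_mul] at h7
    rw [← autFun_coe a x]
    exact congrArg Subtype.val (hinj h7)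
  intro A hA
  have := finite_of_le hA
  have := finite_mulAut A
  refine isPGroup_of_coprime_trivial' fun a hac => Subtype.ext ?_
  have hai := (mem_autGroup_iff hA _).1 a.2
  obtain ⟨g, hg, hga, hgQ⟩ := (isNormal_iff.1 hQ).2 A _ hai.isMap
  set X := A ⊔ Q
  have hXS : X ≤ S := sup_le hA hQS
  have hgX : g '' (X : Set Ω) = X := image_eq_of_mem hXS hg le_rfl fun x hx => by
    have hle : X ≤ ((X.subgroupOf S).map S.subtype) := (Subgroup.map_subgroupOf_eq_of_le hXS).ge
    obtain ⟨φ, hφ, hv⟩ := hg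
    have h3 : X ≤ (X.comap φ).map X.subtype := sup_le
      (fun y hy => ⟨⟨y, Subgroup.mem_sup_left hy⟩, show φ _ ∈ X by
        rw [hv, hga y hy]; exact Subgroup.mem_sup_left (hai.image_eq.subset ⟨y, hy, rfl⟩), rfl⟩)
      (fun y hy => ⟨⟨y, Subgroup.mem_sup_right hy⟩, show φ _ ∈ X by
        rw [hv]; exact Subgroup.mem_sup_right (hgQ.subset ⟨y, hy, rfl⟩), rfl⟩)
    obtain ⟨z, hz, rfl⟩ := h3 hx
    show g (z : Ω) ∈ X
    rw [← hv z]
    exact hz
  have hgXi : IsIso N X X g := ⟨hg, hgX⟩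
  set R := X ⊔ centralizerIn S X with hRdef
  have hQX : Q ≤ X := le_sup_right
  have hRS : R ≤ S := sup_le hXS inf_le_left
  obtain ⟨χ, hχ, hχv⟩ := (isReceptive_iff.1 (isReceptive_of_isFullyNormalized hS hN
    (hfn hXS hQX))).2 X g hgXi
  have hRN : R ≤ nPhi S X g := by
    refine sup_le (le_nPhi hgXi.isMap) fun c hc => ⟨hc.1, Subgroup.centralizer_le_normalizer _ hc.2,
      1, S.one_mem, fun x hx => ?_⟩
    rw [conj_eq_self_of_mem_centralizer hc.2 hx, one_mul, inv_one, mul_one]
  have hχR : χ '' (R : Set Ω) = R := by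
    refine image_eq_of_mem hRS hχ hRN fun x hx => ?_
    have hmapX : ∀ y ∈ X, χ y ∈ X := fun y hy => hχv y hy ▸ hgXi.mem hy
    have hmapC : ∀ y ∈ centralizerIn S X, χ y ∈ centralizerIn S X := fun y hy =>
      ⟨hχ.mem (hRN (Subgroup.mem_sup_right hy)), mem_centralizer_of_conj_eq fun z hz => by
        obtain ⟨w, hw, rfl⟩ := hgXi.surj hz
        rw [← hχv w hw, ← hχ.map_conj (hRN (Subgroup.mem_sup_right hy))
          (hRN (Subgroup.mem_sup_left hw)), conj_eq_self_of_mem_centralizer hy.2 hw]⟩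
    obtain ⟨φ, hφ, hv⟩ := hχ
    have h3 : R ≤ (R.comap φ).map (nPhi S X g).subtype := sup_le
      (fun y hy => ⟨⟨y, hRN (Subgroup.mem_sup_left hy)⟩, show φ _ ∈ R by
        rw [hv]; exact Subgroup.mem_sup_left (hmapX y hy), rfl⟩)
      (fun y hy => ⟨⟨y, hRN (Subgroup.mem_sup_right hy)⟩, show φ _ ∈ R by
        rw [hv]; exact Subgroup.mem_sup_right (hmapC y hy), rfl⟩)
    obtain ⟨z, hz, rfl⟩ := h3 hx
    show χ (z : Ω) ∈ R
    rw [← hv z]
    exact hz
  obtain ⟨b, hb, hbv⟩ := exists_mem_autGroup (⟨hχ.mono hRN, hχR⟩ : IsIso N R R χ)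
  obtain ⟨k, hk⟩ := hcase R hRS (hQX.trans le_sup_left) (fun c hc => Subgroup.mem_sup_right
    ⟨hc.1, Subgroup.centralizer_le (show (X : Set Ω) ⊆ R from fun z hz =>
      Subgroup.mem_sup_left hz) hc.2⟩) ⟨b, hb⟩
  have hAR : A ≤ R := le_sup_left.trans le_sup_left
  have hpow : ∀ (j : ℕ) (x : A), ((((a : MulAut A) ^ j) x : A) : Ω) =
      (((b ^ j) ⟨x, hAR x.2⟩ : R) : Ω) := by
    intro j
    induction j with
    | zero => intro x; rfl
    | succ j ih =>
      intro x
      rw [pow_succ, pow_succ, MulAut.mul_apply, MulAut.mul_apply, ih]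
      congr 2
      refine Subtype.ext ?_
      rw [hbv, ← autFun_coe (a : MulAut A) x, ← hga x x.2]
      exact (hχv x (Subgroup.mem_sup_left x.2)).symm
  have h4 : (a : MulAut A) ^ p ^ k = 1 := MulEquiv.ext fun x => Subtype.ext (by
    rw [hpow, show b ^ p ^ k = 1 from congrArg Subtype.val hk]
    rfl)
  have hac' : (orderOf (a : MulAut A)).Coprime p := by rwa [Subgroup.orderOf_coe]
  exact orderOf_eq_one_iff.1 (Nat.eq_one_of_dvd_coprimes (hac'.pow_right k) dvd_rfl
    (orderOf_dvd_of_pow_eq_one h4))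

end CfsgLib.Fusion
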