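import Mathlib
import Cfsg.Agent.Lib.Fusion.ZJControl
import Cfsg.Agent.Lib.Transfer.ThompsonComplement

/-!
Thompson's complement criterion with `Z(S)` and `J(S)`, for fusion systems.
-/

set_option autoImplicit false

namespace CfsgLib.Fusion

open Cfsg Cfsg.FusionSystem

universe u

/-- `Q ↦ J(Q)`. -/
def jFunctor (Q : Type u) [Group Q] : Subgroup Q := CfsgLib.Transfer.thompsonJ 0 (⊤ : Subgroup Q)

/-- `Q ↦ Z(Q)`. -/
def zFunctor (Q : Type u) [Group Q] : Subgroup Q := Subgroup.center Q

theorem functorOf_jFunctor {G : Type u} [Group G] (T : Subgroup G) :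
    functorOf jFunctor T = Cfsg.thompsonSubgroupAOf T := by
  show (CfsgLib.Transfer.thompsonJ 0 (⊤ : Subgroup T)).map T.subtype = _
  rw [CfsgLib.Transfer.map_thompsonJ 0 T.subtype T.subtype_injective.injOn,
    ← MonoidHom.range_eq_map, Subgroup.range_subtype, CfsgLib.Transfer.thompsonSubgroupAOf_eq]

theorem functorOf_zFunctor {G : Type u} [Group G] (T : Subgroup G) :
    functorOf zFunctor T = T ⊓ Subgroup.centralizer (T : Set G) := by
  ext z
  constructor
  · rintro ⟨x, hx, rfl⟩
    exact ⟨x.2, fun y hy => congrArg Subtype.val (Subgroup.mem_center_iff.1 hx ⟨y, hy⟩)⟩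
  · rintro ⟨hzT, hz⟩
    exact ⟨⟨z, hzT⟩, mem_centralizer_map hzT hz, rfl⟩

variable {p : ℕ} [Fact p.Prime]

theorem jFunctor_ne_bot (Q : Type u) [Group Q] [Finite Q] (hQ : IsPGroup p Q) (hn : Nontrivial Q) :
    jFunctor Q ≠ ⊥ :=
  CfsgLib.Transfer.thompsonJ_ne_bot (dvd_zero p) (hQ.to_subgroup (⊤ : Subgroup Q)) top_ne_bot

omit [Fact p.Prime] in
theorem jFunctor_map (Q R : Type u) [Group Q] [Group R] [Finite Q] (_hQ : IsPGroup p Q)
    (φ : Q ≃* R) : (jFunctor Q).map φ.toMonoidHom = jFunctor R := by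
  show (CfsgLib.Transfer.thompsonJ 0 (⊤ : Subgroup Q)).map φ.toMonoidHom = _
  rw [CfsgLib.Transfer.map_thompsonJ 0 φ.toMonoidHom φ.injective.injOn,
    Subgroup.map_top_of_surjective _ φ.surjective]
  rfl

theorem zFunctor_ne_bot (Q : Type u) [Group Q] [Finite Q] (hQ : IsPGroup p Q) (hn : Nontrivial Q) :
    zFunctor Q ≠ ⊥ :=
  have := hQ.center_nontrivial
  (Subgroup.nontrivial_iff_ne_bot _).1 this

omit [Fact p.Prime] in
theorem zFunctor_map (Q R : Type u) [Group Q] [Group R] [Finite Q] (_hQ : IsPGroup p Q)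
    (φ : Q ≃* R) : (zFunctor Q).map φ.toMonoidHom = zFunctor R := by
  ext y
  show y ∈ (Subgroup.center Q).map φ.toMonoidHom ↔ y ∈ Subgroup.center R
  constructor
  · rintro ⟨x, hx, rfl⟩
    refine Subgroup.mem_center_iff.2 fun r => ?_
    obtain ⟨q, rfl⟩ := φ.surjective r
    show φ q * φ x = φ x * φ q
    rw [← map_mul, ← map_mul, Subgroup.mem_center_iff.1 hx q]
  · intro hy
    obtain ⟨x, rfl⟩ := φ.surjective y
    refine ⟨x, Subgroup.mem_center_iff.2 fun q => φ.injective ?_, rfl⟩
    rw [map_mul, map_mul]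
    exact Subgroup.mem_center_iff.1 hy (φ q)

/-- A constrained group with `N(J(P))` and `C(Z(P))` both `p`-groups is a `p`-group. -/
theorem isPGroup_of_thompson {H : Type} [Group H] (L : Type u) [Group L] [Finite L]
    (P : Sylow p L) (hHp : p ≠ 2 ∨ ¬ Cfsg.Involves (Equiv.Perm (Fin 4)) L)
    (hc : Subgroup.centralizer ((Cfsg.pCore p L : Subgroup L) : Set L) ≤ Cfsg.pCore p L)
    (hN : IsPGroup p ↥(Subgroup.normalizer
      (((jFunctor ↥(P : Subgroup L)).map (P : Subgroup L).subtype : Subgroup L) : Set L)))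
    (hC : IsPGroup p ↥(Subgroup.centralizer
      (((zFunctor ↥(P : Subgroup L)).map (P : Subgroup L).subtype : Subgroup L) : Set L))) :
    IsPGroup p L := by
  have eJ : (jFunctor ↥(P : Subgroup L)).map (P : Subgroup L).subtype =
      CfsgLib.Transfer.thompsonJ 0 (P : Subgroup L) := by
    rw [← CfsgLib.Transfer.thompsonSubgroupAOf_eq]; exact functorOf_jFunctor _
  have eZ : (zFunctor ↥(P : Subgroup L)).map (P : Subgroup L).subtype =
      (P : Subgroup L) ⊓ Subgroup.centralizer ((P : Subgroup L) : Set L) :=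
    functorOf_zFunctor _
  rw [eJ] at hN
  rw [eZ] at hC
  obtain ⟨P₁, hP₁⟩ := (hN.of_equiv Subgroup.topEquiv.symm).exists_le_sylow
  obtain ⟨P₂, hP₂⟩ := (hC.of_equiv Subgroup.topEquiv.symm).exists_le_sylow
  obtain ⟨P', K, hK, hKc⟩ := CfsgLib.Transfer.thompson_normal_complement (e := 0) (dvd_zero p)
    hHp P ⟨⟨P₁, ⊥, inferInstance, Subgroup.isComplement'_bot_left.2 (top_le_iff.1 hP₁)⟩,
      ⟨P₂, ⊥, inferInstance, Subgroup.isComplement'_bot_left.2 (top_le_iff.1 hP₂)⟩⟩
  exact isPGroup_of_complement hc hK hKc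

/-- Thompson's criterion for fusion systems. -/
theorem autsPGroup_of_thompson {Ω : Type u} [Group Ω] {S : Subgroup Ω} [Finite S]
    {F : FusionSystem S} (hS : IsPGroup p S) (hF : F.IsSaturated p)
    (hp : p ≠ 2 ∨ F.IsSectionFree p (Equiv.Perm (Fin 4))) {U : Subgroup Ω} (hU : F.IsNormal U)
    (hUp : IsPGroup p (F.autGroup U)) (hfix : FixPGroup F p (relW jFunctor U S))
    (hcent : CentPGroup F p (relW zFunctor U S)) : AutsPGroup F p := by
  rcases hp with hp | hp
  · exact autsPGroup_of_fix (H := Multiplicative ℤ) jFunctor jFunctor_ne_bot jFunctor_map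
      zFunctor zFunctor_ne_bot zFunctor_map
      (fun L _ _ P hc _ hN hC => isPGroup_of_thompson (H := Multiplicative ℤ) L P (Or.inl hp) hc hN hC)
      _ S F rfl hS hF (isSectionFree_infinite F _) U hU hUp hfix hcent
  · exact autsPGroup_of_fix (H := Equiv.Perm (Fin 4)) jFunctor jFunctor_ne_bot jFunctor_map
      zFunctor zFunctor_ne_bot zFunctor_map
      (fun L _ _ P hc hfr hN hC =>
        isPGroup_of_thompson (H := Multiplicative ℤ) L P (Or.inr hfr) hc hN hC)
      _ S F rfl hS hF hp U hU hUp hfix hcent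

omit [Fact p.Prime] in
theorem inner_of_autsPGroup [Fact p.Prime] {Ω : Type u} [Group Ω] {S : Subgroup Ω} [Finite S]
    {F : FusionSystem S} (hS : IsPGroup p S) (hF : F.IsSaturated p) (h : AutsPGroup F p) :
    ∀ P : Subgroup Ω, F.Hom P = (innerFusionSystem S).Hom P := by
  intro P
  ext φ
  constructor
  · intro hφ
    exact (mem_hom_iff φ).2 (h.le_inner hS hF P _ (isMap_homFun hφ))
  · exact fun hφ => hom_inner_subset F le_rfl hφ

/-- A centralizer system that is inner has no `p'`-automorphisms. -/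
theorem centPGroup_of_centralizer_inner {Ω : Type u} [Group Ω] {S : Subgroup Ω} [Finite S]
    {F : FusionSystem S} (hS : IsPGroup p S) {Z : Subgroup Ω} (hZ : Z ≤ S)
    (hZn : centralizerIn S Z = S)
    (hC : ∀ C : FusionSystem (centralizerIn S Z), F.IsCentralizerSystem Z C →
      ∀ P : Subgroup Ω, C.Hom P = (innerFusionSystem (centralizerIn S Z)).Hom P) :
    CentPGroup F p Z := by
  intro A hA hZA a ha hfix hac
  obtain ⟨C, hCC⟩ : ∃ C, F.IsCentralizerSystem Z C := ⟨centralizerSystem F Z hZ, fun _ => rfl⟩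
  have hai := (mem_autGroup_iff hA a).1 ha
  have hAn : A ≤ centralizerIn S Z := hZn.symm ▸ hA
  have hm : IsMap C A (autFun a) := (isMap_centralizerSystem_iff hCC).2
    ⟨hAn, fun x hx => hZn.symm ▸ hai.isMap.mem hx, autFun a,
      by rw [sup_eq_left.2 hZA]; exact hai.isMap, fun _ _ => rfl, hfix⟩
  have hmem : a ∈ (innerFusionSystem (centralizerIn S Z)).autGroup A := by
    refine (mem_autGroup_iff hAn a).2 ⟨?_, hai.image_eq⟩
    obtain ⟨φ, hφ, hv⟩ := hm
    rw [hC C hCC A] at hφ
    exact ⟨φ, hφ, hv⟩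
  rw [autGroup_inner hAn] at hmem
  haveI : Finite ↥(centralizerIn S Z) := finite_of_le (inf_le_left : centralizerIn S Z ≤ S)
  exact coprime_pGroup_eq_one (isPGroup_autInducedBy (hS.to_le inf_le_left) A) hmem hac

/-- `C_F(Z(S))` and `N_F(J(S))` detect inner systems. -/
theorem inner_of_thompson_local {Ω : Type u} [Group Ω] {S : Subgroup Ω} [Finite S]
    {F : FusionSystem S} (hS : IsPGroup p S) (hF : F.IsSaturated p)
    (hp : p ≠ 2 ∨ F.IsSectionFree p (Equiv.Perm (Fin 4)))
    (hC : ∀ C : FusionSystem (centralizerIn S (S ⊓ Subgroup.centralizer (S : Set Ω))),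
      F.IsCentralizerSystem (S ⊓ Subgroup.centralizer (S : Set Ω)) C → ∀ P : Subgroup Ω,
        C.Hom P = (innerFusionSystem (centralizerIn S (S ⊓ Subgroup.centralizer (S : Set Ω)))).Hom P)
    (hN : ∀ N : FusionSystem (normalizerIn S (Cfsg.thompsonSubgroupAOf S)),
      F.IsNormalizerSystem (Cfsg.thompsonSubgroupAOf S) N → ∀ P : Subgroup Ω,
        N.Hom P = (innerFusionSystem (normalizerIn S (Cfsg.thompsonSubgroupAOf S))).Hom P) :
    ∀ P : Subgroup Ω, F.Hom P = (innerFusionSystem S).Hom P := by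
  have hbot : F.IsNormal ⊥ := by
    refine isNormal_iff.2 ⟨bot_le, fun P f hf => ⟨f, by rwa [sup_bot_eq], fun _ _ => rfl, ?_⟩⟩
    rw [Subgroup.coe_bot, Set.image_singleton, hf.map_one]
  have haut : IsPGroup p (F.autGroup ⊥) := fun a =>
    ⟨0, Subtype.ext (MulEquiv.ext fun x => Subsingleton.elim _ _)⟩
  refine inner_of_autsPGroup hS hF (autsPGroup_of_thompson hS hF hp hbot haut ?_ ?_)
  · rw [relW_bot jFunctor jFunctor_map hS, functorOf_jFunctor]
    refine fixPGroup_of_normalizer_inner hS ?_ (inf_eq_left.2 ?_) hN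
    · rw [← functorOf_jFunctor]; exact functorOf_le _ _
    · rw [← functorOf_jFunctor]
      exact fun s hs =>
        normalizer_le_functorOf jFunctor jFunctor_map le_rfl hS (Subgroup.le_normalizer hs)
  · rw [relW_bot zFunctor zFunctor_map hS, functorOf_zFunctor]
    exact centPGroup_of_centralizer_inner hS inf_le_left
      (inf_eq_left.2 fun s hs z hz => ((Subgroup.mem_centralizer_iff.1 hz.2) s hs).symm) hC

theorem characteristic_relW {W : ∀ (Q : Type u) [Group Q], Subgroup Q}
    (hW2 : ∀ (Q R : Type u) [Group Q] [Group R] [Finite Q], IsPGroup p Q → ∀ φ : Q ≃* R,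
      (W Q).map φ.toMonoidHom = W R) {Ω : Type u} [Group Ω] {S : Subgroup Ω} [Finite S]
    (hS : IsPGroup p S) {U : Subgroup Ω} (hU : (U.subgroupOf S).Characteristic) :
    ((relW W U S).subgroupOf S).Characteristic := by
  refine Subgroup.characteristic_iff_map_le.2 fun φ => ?_
  rintro _ ⟨x, hx, rfl⟩
  exact (relW_map W hW2 hS φ (Subgroup.characteristic_iff_map_eq.1 hU φ) x).2 hx

theorem le_normalizer_of_characteristic {Ω : Type u} [Group Ω] {S : Subgroup Ω} [Finite S]
    {X : Subgroup Ω} (hX : X ≤ S) (hc : (X.subgroupOf S).Characteristic) :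
    S ≤ Subgroup.normalizer (X : Set Ω) :=
  fun s hs => mem_normalizer_of_conj_mem hX fun x hx =>
    (inferInstance : (X.subgroupOf S).Normal).conj_mem ⟨x, hX hx⟩ hx ⟨s, hs⟩

/-- Characteristic subgroups with `p`-group automizers force an inner system. -/
theorem autsPGroup_of_characteristic : ∀ (n : ℕ) {Ω : Type u} [Group Ω] (S : Subgroup Ω)
    [Finite S] (F : FusionSystem S), (mapGraphs F).ncard = n → IsPGroup p S → F.IsSaturated p →
    (p ≠ 2 ∨ F.IsSectionFree p (Equiv.Perm (Fin 4))) →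
    (∀ Q : Subgroup Ω, Q ≤ S → Q ≠ ⊥ → (Q.subgroupOf S).Characteristic →
      IsPGroup p (F.autGroup Q)) → AutsPGroup F p := by
  intro n
  induction n using Nat.strong_induction_on with
  | _ n ihn =>
  intro Ω _ S _ F hn hS hF hp hchar
  have hbot : F.IsNormal ⊥ := by
    refine isNormal_iff.2 ⟨bot_le, fun P f hf => ⟨f, by rwa [sup_bot_eq], fun _ _ => rfl, ?_⟩⟩
    rw [Subgroup.coe_bot, Set.image_singleton, hf.map_one]
  have hautp : ∀ Q : Subgroup Ω, Q ≤ S → (Q.subgroupOf S).Characteristic →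
      IsPGroup p (F.autGroup Q) := by
    intro Q hQ hc
    by_cases h : Q = ⊥
    · subst h
      exact fun a => ⟨0, Subtype.ext (MulEquiv.ext fun x => Subsingleton.elim _ _)⟩
    · exact hchar Q hQ h hc
  suffices key : ∀ (m : ℕ) (U : Subgroup Ω), Nat.card S - Nat.card U = m → F.IsNormal U →
      (U.subgroupOf S).Characteristic → AutsPGroup F p from
    key _ ⊥ rfl hbot (by rw [Subgroup.bot_subgroupOf]; infer_instance)
  intro m
  induction m using Nat.strong_induction_on with
  | _ m ihm =>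
  intro U hm hU hUc
  have hUS := hU.1
  have := finite_of_le hUS
  -- every normal-in-`S` characteristic subgroup either is normal and larger, or has no fusion
  have hloc : ∀ X : Subgroup Ω, X ≤ S → U ≤ X → (X.subgroupOf S).Characteristic →
      AutsPGroup F p ∨ X = U ∨ FixPGroup F p X := by
    intro X hXS hUX hXc
    rcases eq_or_ne X U with h | hne
    · exact Or.inr (Or.inl h)
    by_cases hXn : F.IsNormal X
    · refine Or.inl ?_
      have := finite_of_le hXS
      have h1 : Nat.card U < Nat.card X := lt_of_le_of_ne (Subgroup.card_le_of_le hUX)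
        fun h => hne (Subgroup.eq_of_le_of_card_ge hUX h.ge).symm
      have h2 := Subgroup.card_le_of_le hXS
      exact ihm _ (by omega) X rfl hXn hXc
    refine Or.inr (Or.inr fun A hA hXA a ha haX hac => ?_)
    have hXN : normalizerIn S X = S := inf_eq_left.2 (le_normalizer_of_characteristic hXS hXc)
    have hXfn : F.IsFullyNormalized X := ⟨hXS, fun Q' _ => by
      rw [hXN]; exact Subgroup.card_le_of_le inf_le_left⟩
    obtain ⟨E, hE⟩ : ∃ E, F.IsNormalizerSystem X E :=
      ⟨normalizerSystem F X hXS, fun _ => rfl⟩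
    have := finite_of_le (S := S) (P := normalizerIn S X) inf_le_left
    have hsub : ∀ P f, IsMap E P f → IsMap F P f := fun P f hm => by
      obtain ⟨-, -, g, hg, hgf, -⟩ := (isMap_normalizerSystem_iff hE).1 hm
      exact (hg.mono le_sup_left).congr hgf
    have hlt : (mapGraphs E).ncard < n := by
      rw [← hn]
      refine ncard_mapGraphs_lt hsub ?_
      by_contra hc
      push_neg at hc
      refine hXn (isNormal_iff.2 ⟨hXS, fun P f hm => ?_⟩)
      obtain ⟨-, -, g, hg, hgf, hgV⟩ := (isMap_normalizerSystem_iff hE).1 (hc P f hm)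
      exact ⟨g, hg, hgf, hgV⟩
    have hEp : AutsPGroup E p := by
      refine ihn _ hlt (normalizerIn S X) E rfl (hS.to_le inf_le_left)
        (isSaturated_normalizerSystem hS hF hXfn hE)
        (hp.imp id fun h => isSectionFree_normalizerSystem hS hF h hXfn hE)
        fun Q hQ _ hQc => ?_
      refine (hautp Q (hQ.trans inf_le_left) (by rw [hXN] at hQc; exact hQc)).to_le fun b hb => ?_
      have hb' := (mem_autGroup_iff hQ b).1 hb
      exact (mem_autGroup_iff (hQ.trans inf_le_left) b).2 ⟨hsub _ _ hb'.isMap, hb'.image_eq⟩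
    have hai := (mem_autGroup_iff hA a).1 ha
    have hAn : A ≤ normalizerIn S X := hXN.symm ▸ hA
    exact coprime_pGroup_eq_one (hEp A hAn) ((mem_autGroup_iff hAn a).2
      ⟨(isMap_normalizerSystem_iff hE).2 ⟨hAn, fun x hx => hXN.symm ▸ hai.isMap.mem hx, autFun a,
        by rw [sup_eq_left.2 hXA]; exact hai.isMap, fun _ _ => rfl, haX⟩, hai.image_eq⟩) hac
  by_cases hUeq : U = S
  · subst hUeq
    intro A hA
    have := finite_of_le hA
    have := finite_mulAut A
    refine isPGroup_of_coprime_trivial' fun a hac => Subtype.ext ?_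
    -- extend to the whole of the normal subgroup and use its automizer
    have hai := (mem_autGroup_iff hA _).1 a.2
    obtain ⟨g, hg, hga, hgU⟩ := (isNormal_iff.1 hU).2 A _ hai.isMap
    obtain ⟨b, hb, hbv⟩ := exists_mem_autGroup (⟨hg.mono le_sup_right, hgU⟩ : IsIso F U U g)
    obtain ⟨k, hk⟩ := hautp U le_rfl (by rw [Subgroup.subgroupOf_self]; infer_instance) ⟨b, hb⟩
    have hpow : ∀ (j : ℕ) (x : A), ((((a : MulAut A) ^ j) x : A) : Ω) =
        (((b ^ j) ⟨x, hA x.2⟩ : U) : Ω) := by
      intro j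
      induction j with
      | zero => intro x; rfl
      | succ j ih =>
        intro x
        rw [pow_succ, pow_succ, MulAut.mul_apply, MulAut.mul_apply, ih]
        congr 2
        refine Subtype.ext ?_
        rw [hbv, ← autFun_coe (a : MulAut A) x]
        exact (hga x x.2).symm
    have h1 : (a : MulAut A) ^ p ^ k = 1 := MulEquiv.ext fun x => Subtype.ext (by
      rw [hpow, show b ^ p ^ k = 1 from congrArg Subtype.val hk]
      rfl)
    have hac' : (orderOf (a : MulAut A)).Coprime p := by rwa [Subgroup.orderOf_coe]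
    exact orderOf_eq_one_iff.1 (Nat.eq_one_of_dvd_coprimes (hac'.pow_right k) dvd_rfl
      (orderOf_dvd_of_pow_eq_one h1))
  have hUn := le_normalizer_of_characteristic hUS hUc
  rcases hloc (relW jFunctor U S) (relW_le _ _ _) (le_relW _ hUS)
    (characteristic_relW jFunctor_map hS hUc) with h | h | h
  · exact h
  · exact absurd h (relW_ne jFunctor jFunctor_ne_bot hS hUS hUn hUeq)
  rcases hloc (relW zFunctor U S) (relW_le _ _ _) (le_relW _ hUS)
    (characteristic_relW zFunctor_map hS hUc) with h' | h' | h'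
  · exact h'
  · exact absurd h' (relW_ne zFunctor zFunctor_ne_bot hS hUS hUn hUeq)
  exact autsPGroup_of_thompson hS hF hp hU (hautp U hUS hUc) h h'.centPGroup

end CfsgLib.Fusion
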