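import Mathlib
import Cfsg.Agent.Lib.Fusion.FrattiniNormal
import Cfsg.Agent.Lib.Fusion.ThompsonControl

/-!
An inner Sylow normalizer controls the normalizers of subgroups between `S'` and `Φ(S)`.
-/

set_option autoImplicit false

namespace CfsgLib.Fusion

open Cfsg Cfsg.FusionSystem
open scoped commutatorElement

universe u

variable {Ω : Type u} [Group Ω] {S : Subgroup Ω} [Finite S] {F : FusionSystem S} {p : ℕ}
  [Fact p.Prime]

omit [Fact p.Prime] in
theorem le_normalizer_of_derived {Q : Subgroup Ω} (hQS : Q ≤ S)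
    (h1 : (commutator ↥S).map S.subtype ≤ Q) : S ≤ Subgroup.normalizer (Q : Set Ω) := by
  intro s hs
  refine mem_normalizer_of_conj_mem hQS fun x hx => ?_
  have h3 : s * x * s⁻¹ * x⁻¹ ∈ Q := h1 ⟨⁅(⟨s, hs⟩ : S), ⟨x, hQS hx⟩⁆,
    Subgroup.commutator_mem_commutator (Subgroup.mem_top _) (Subgroup.mem_top _), rfl⟩
  have := Q.mul_mem h3 hx
  rwa [inv_mul_cancel_right] at this

theorem isPGroup_autGroup_of_normalizer_inner (hS : IsPGroup p S)
    (hN : ∀ N : FusionSystem (normalizerIn S S), F.IsNormalizerSystem S N →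
      ∀ P : Subgroup Ω, N.Hom P = (innerFusionSystem (normalizerIn S S)).Hom P) :
    IsPGroup p (F.autGroup S) := by
  have := finite_mulAut S
  refine isPGroup_of_coprime_trivial' fun a hac => Subtype.ext ?_
  refine fixPGroup_of_normalizer_inner hS le_rfl (inf_eq_left.2 Subgroup.le_normalizer) hN
    S le_rfl le_rfl _ a.2 ((mem_autGroup_iff le_rfl _).1 a.2).image_eq ?_
  rwa [Subgroup.orderOf_coe]

/-- `N_F(Q)` is inner for `S' ≤ Q ≤ Φ(S)` when `N_F(S)` is. -/
theorem normalizer_inner_of_le_frattini (hS : IsPGroup p S) (hF : F.IsSaturated p)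
    {Q : Subgroup Ω} (hQS : Q ≤ S) (hTS : normalizerIn S Q = S)
    (h1 : (commutator ↥S).map S.subtype ≤ Q) (h2 : Q ≤ (frattini ↥S).map S.subtype)
    (hN : ∀ N : FusionSystem (normalizerIn S S), F.IsNormalizerSystem S N →
      ∀ P : Subgroup Ω, N.Hom P = (innerFusionSystem (normalizerIn S S)).Hom P)
    (N : FusionSystem (normalizerIn S Q)) (hNQ : F.IsNormalizerSystem Q N) :
    ∀ P : Subgroup Ω, N.Hom P = (innerFusionSystem (normalizerIn S Q)).Hom P := by
  have hQfn : F.IsFullyNormalized Q := ⟨hQS, fun R _ => by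
    rw [hTS]; exact Subgroup.card_le_of_le inf_le_left⟩
  have hNsat := isSaturated_normalizerSystem hS hF hQfn hNQ
  have hNn : N.IsNormal Q := isNormal_normalizerSystem hQS hNQ
  have haut := isPGroup_autGroup_of_normalizer_inner hS hN
  have hsub : ∀ P f, IsMap N P f → IsMap F P f := fun P f hm => by
    obtain ⟨-, -, g, hg, hgf, -⟩ := (isMap_normalizerSystem_iff hNQ).1 hm
    exact (hg.mono le_sup_left).congr hgf
  have key : ∀ (T : Subgroup Ω), T = S → ∀ E : FusionSystem T,
      (∀ P f, IsMap E P f → IsMap F P f) → E.IsSaturated p → E.IsNormal Q →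
        ∀ P : Subgroup Ω, E.Hom P = (innerFusionSystem T).Hom P := by
    rintro T rfl E hsubE hE hEn
    refine inner_of_autsPGroup hS hE (autsPGroup_of_normal_le_frattini hS hE hEn h1 h2
      (haut.to_le fun b hb => ?_))
    have hb' := (mem_autGroup_iff le_rfl b).1 hb
    exact (mem_autGroup_iff le_rfl b).2 ⟨hsubE _ _ hb'.isMap, hb'.image_eq⟩
  exact key _ hTS N hsub hNsat hNn

end CfsgLib.Fusion
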