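import Mathlib
import Cfsg.Agent.Lib.Fusion.Tate
import Cfsg.Agent.Lib.Fusion.Inner
import Cfsg.Agent.Lib.Fusion.FrattiniInner
import Cfsg.Agent.Lib.PSolvable.Omega

/-!
Applications of Tate's theorem for fusion systems.
-/

set_option autoImplicit false

namespace CfsgLib.Fusion

open Cfsg Cfsg.FusionSystem
open scoped commutatorElement

universe u

variable {Ω : Type u} [Group Ω] {S : Subgroup Ω} {F : FusionSystem S} {p : ℕ}
  [Finite S] [Fact p.Prime]

omit [Finite S] [Fact p.Prime] in
theorem hyperfocal_mono {H : FusionSystem S} (hHF : H.IsSubsystemOf F) :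
    H.hyperfocalSubgroup p ≤ F.hyperfocalSubgroup p := by
  refine (Subgroup.closure_le _).2 ?_
  rintro _ ⟨P, α, x, hP, hα, rfl⟩
  have hle : H.autGroup P ≤ F.autGroup P := Subgroup.closure_mono fun β hβ => hHF P hβ
  exact inv_mul_mem_hyperfocal hP
    (CfsgLib.Transfer.map_pResidual_le (Subgroup.inclusion hle) ⟨α, hα, rfl⟩) x

omit [Finite S] [Fact p.Prime] in
theorem focal_mono {H : FusionSystem S} (hHF : H.IsSubsystemOf F) :
    H.focalSubgroup ≤ F.focalSubgroup := by
  refine (Subgroup.closure_le _).2 ?_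
  rintro _ ⟨P, φ, x, hφ, rfl⟩
  exact Subgroup.subset_closure ⟨P, φ, x, hHF P hφ, rfl⟩

theorem derived_le_frattini (hS : IsPGroup p S) : ⁅S, S⁆ ≤ (frattini ↥S).map S.subtype := by
  rw [← Subgroup.map_subtype_commutator]
  exact Subgroup.map_mono (CfsgLib.PSolvable.commutator_le_frattini hS).1

/-- Tate's theorem: two saturated systems, one inside the other, with the same focal subgroup
modulo `Φ(S)` have the same hyperfocal subgroup. -/
theorem hyperfocal_eq_of_frattini_focal (hS : IsPGroup p S) (hF : F.IsSaturated p)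
    {H : FusionSystem S} (hH : H.IsSaturated p) (hHF : H.IsSubsystemOf F)
    (h : (frattini ↥S).map S.subtype ⊔ F.focalSubgroup ≤
      (frattini ↥S).map S.subtype ⊔ H.focalSubgroup) :
    F.hyperfocalSubgroup p = H.hyperfocalSubgroup p := by
  have hn : ((H.hyperfocalSubgroup p).subgroupOf S).Normal :=
    (Subgroup.normal_subgroupOf_iff_le_normalizer hyperfocal_le).2 le_normalizer_hyperfocal
  have e := hyperfocal_subgroupOf_eq hS hF (H := (H.hyperfocalSubgroup p).subgroupOf S)
    (fun x hx => hyperfocal_mono hHF hx) ?_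
  · rw [← Subgroup.map_subgroupOf_eq_of_le (hyperfocal_le (F := F) (p := p)),
      ← Subgroup.map_subgroupOf_eq_of_le (hyperfocal_le (F := H) (p := p)), e]
  · intro x hx
    have h1 : (x : Ω) ∈ (frattini ↥S).map S.subtype ⊔ H.hyperfocalSubgroup p := by
      have h0 := h (Subgroup.mem_sup_right (hyperfocal_le_focal hx))
      rw [focal_eq_hyperfocal_sup hS hH] at h0
      exact (sup_le le_sup_left (sup_le le_sup_right
        ((derived_le_frattini hS).trans le_sup_left))) h0
    rw [← Subgroup.map_subgroupOf_eq_of_le (hyperfocal_le (F := H) (p := p)),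
      ← Subgroup.map_sup] at h1
    obtain ⟨y, hy, e⟩ := h1
    rwa [show x = y from Subtype.ext e.symm]

theorem tate_equivalences (hS : IsPGroup p S) (hF : F.IsSaturated p)
    {H : FusionSystem S} (hH : H.IsSaturated p) (hHF : H.IsSubsystemOf F) :
    (((frattini ↥S).map S.subtype ⊔ F.focalSubgroup) =
        ((frattini ↥S).map S.subtype ⊔ H.focalSubgroup) ↔ F.focalSubgroup = H.focalSubgroup) ∧
      (F.focalSubgroup = H.focalSubgroup ↔
        F.hyperfocalSubgroup p = H.hyperfocalSubgroup p) := by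
  have h1 : F.hyperfocalSubgroup p = H.hyperfocalSubgroup p →
      F.focalSubgroup = H.focalSubgroup := fun h => by
    rw [focal_eq_hyperfocal_sup hS hF, focal_eq_hyperfocal_sup hS hH, h]
  exact ⟨⟨fun h => h1 (hyperfocal_eq_of_frattini_focal hS hF hH hHF h.le), fun h => by rw [h]⟩,
    fun h => hyperfocal_eq_of_frattini_focal hS hF hH hHF (by rw [h]), h1⟩

/-- A strongly closed subgroup above `S'` that contains the quotients `x⁻¹ φ(x)` of the
automorphisms of `S` contains those of all maps. -/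
theorem inv_mul_mem_of_stronglyClosed (hS : IsPGroup p S) (hF : F.IsSaturated p)
    {L : Subgroup Ω} (hL : F.StronglyClosed L) (hder : ⁅S, S⁆ ≤ L)
    (htop : ∀ f, IsMap F S f → ∀ x ∈ S, x⁻¹ * f x ∈ L) :
    ∀ (R : Subgroup Ω) (f : Ω → Ω), IsMap F R f → ∀ x ∈ R, x⁻¹ * f x ∈ L := by
  suffices h : ∀ (k : ℕ) (R : Subgroup Ω) (f : Ω → Ω), Nat.card S - Nat.card R ≤ k →
      IsMap F R f → ∀ x ∈ R, x⁻¹ * f x ∈ L from fun R f => h _ R f le_rfl
  intro k
  induction k using Nat.strong_induction_on with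
  | _ k IH =>
    intro R f hk hf
    by_cases hRS : R = S
    · subst hRS; exact htop f hf
    -- maps on strictly larger subgroups
    have hbig : ∀ (R' : Subgroup Ω) (g : Ω → Ω), Nat.card R < Nat.card R' → IsMap F R' g →
        ∀ x ∈ R', x⁻¹ * g x ∈ L := by
      intro R' g hlt hg
      have := Subgroup.card_le_of_le hg.le
      exact IH (Nat.card S - Nat.card R') (by omega) R' g le_rfl hg
    obtain ⟨R', hR'⟩ := hf.exists_iso
    obtain ⟨R₀, hR₀, hfn⟩ : ∃ R₀, F.IsConj R R₀ ∧ F.IsFullyNormalized R₀ :=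
      exists_isFullyNormalized hf.le
    have ha := isFullyAutomized_of_isFullyNormalized hS hF hfn
    have hr := isReceptive_of_isFullyNormalized hS hF hfn
    obtain ⟨g, hg, hgi, -, -⟩ := exists_map_normalizerIn hS ha hr hR₀
    obtain ⟨g', hg', hgi', -, -⟩ := exists_map_normalizerIn hS ha hr
      (isConj_trans (isConj_symm hR'.isConj) hR₀)
    have hcard₀ : Nat.card R₀ = Nat.card R := hgi.card_eq
    have hproper : ∀ Q : Subgroup Ω, Q ≤ S → Nat.card Q = Nat.card R →
        Nat.card R < Nat.card (normalizerIn S Q) := by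
      intro Q hQ hcQ
      have hne : Q ≠ S := fun h => hRS (Subgroup.eq_of_le_of_card_ge hf.le (by rw [← hcQ, h]))
      have := finite_of_le (S := S) (P := normalizerIn S Q) inf_le_left
      rw [← hcQ]
      exact Set.Finite.card_lt_card (Set.toFinite _) (SetLike.coe_ssubset_coe.2
        (lt_normalizerIn hS hQ hne))
    obtain ⟨k₁, hk₁, hk₁l, hk₁r⟩ := hgi.exists_symm
    have hα : IsIso F R₀ R₀ (g' ∘ f ∘ k₁) := (hk₁.comp hR').comp hgi'
    obtain ⟨α, hαA, hαv⟩ := exists_mem_autGroup hα
    set A := F.autGroup R₀ with hA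
    have := finite_of_le hfn.1
    have := finite_mulAut R₀
    have hLmem : ∀ (β : MulAut R₀), β ∈ A → ∀ u : R₀, (u : Ω) ∈ L → (β u : Ω) ∈ L :=
      fun β hβ u hu => by
        rw [← autFun_coe β]
        exact isMap_mem_of_stronglyClosed hL ((mem_autGroup_iff hfn.1 β).1 hβ).isMap u.2 hu
    let K : Subgroup A :=
      { carrier := {β | ∀ u : R₀, (u : Ω)⁻¹ * ((β : MulAut R₀) u : Ω) ∈ L}
        one_mem' := fun u => by
          show (u : Ω)⁻¹ * (u : Ω) ∈ L
          rw [inv_mul_cancel]; exact L.one_mem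
        mul_mem' := fun {β γ} hβ hγ u => by
          have := L.mul_mem (hγ u) (hβ ((γ : MulAut R₀) u))
          show (u : Ω)⁻¹ * ((β : MulAut R₀) ((γ : MulAut R₀) u) : Ω) ∈ L
          simpa [mul_assoc] using this
        inv_mem' := fun {β} hβ u => by
          have := L.inv_mem (hβ ((β : MulAut R₀)⁻¹ u))
          rw [MulAut.apply_inv_self] at this
          show (u : Ω)⁻¹ * ((β : MulAut R₀)⁻¹ u : Ω) ∈ L
          simpa [mul_inv_rev] using this }
    have hKn : K.Normal := ⟨fun β hβ δ u => by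
      have h1 := hLmem (δ : MulAut R₀) δ.2
        (((δ : MulAut R₀)⁻¹ u)⁻¹ * (β : MulAut R₀) ((δ : MulAut R₀)⁻¹ u))
        (hβ ((δ : MulAut R₀)⁻¹ u))
      rw [map_mul, map_inv, MulAut.apply_inv_self] at h1
      simpa using h1⟩
    obtain ⟨T, hT⟩ := ha.2
    have hTK : (T : Subgroup A) ≤ K := by
      intro β hβ u
      rw [hT] at hβ
      obtain ⟨s, hs, hsv⟩ := (mem_autInducedBy_iff S R₀ _).1 hβ
      have hsu : ((β : MulAut R₀) u : Ω) = s * (u : Ω) * s⁻¹ := hsv u
      rw [hsu]
      have h1 := hder (Subgroup.commutator_mem_commutator (S.inv_mem (hfn.1 u.2)) hs)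
      rw [commutatorElement_def, inv_inv] at h1
      simpa [mul_assoc] using h1
    have hK : K = ⊤ := by
      rw [← top_le_iff, ← Sylow.normalizer_sup_eq_top' T hTK]
      refine sup_le (fun ν hν u => ?_) le_rfl
      have hν' := (mem_autGroup_iff hfn.1 (ν : MulAut R₀)).1 ν.2
      obtain ⟨e, he, hev⟩ := (isReceptive_iff.1 hr).2 R₀ _ hν'
      have hN : normalizerIn S R₀ ≤ nPhi S R₀ (autFun (ν : MulAut R₀)) := by
        intro s hs
        let c : A := ⟨conjAut R₀ hs.2, autInducedBy_le_autGroup hfn.1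
          (conjAut_mem_autInducedBy hs.2 hs.1)⟩
        have hc : c ∈ (T : Subgroup A) := by
          rw [hT]; exact conjAut_mem_autInducedBy hs.2 hs.1
        have hc' := (Subgroup.mem_normalizer_iff.1 hν c).1 hc
        rw [hT] at hc'
        obtain ⟨t, ht, htv⟩ := (mem_autInducedBy_iff S R₀ _).1 hc'
        refine ⟨hs.1, hs.2, t, ht, fun x hx => ?_⟩
        have h1 : ((((ν : MulAut R₀) * (c : MulAut R₀) * (ν : MulAut R₀)⁻¹)
            ((ν : MulAut R₀) ⟨x, hx⟩) : R₀) : Ω) =
            t * ((ν : MulAut R₀) ⟨x, hx⟩ : Ω) * t⁻¹ := htv _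
        rw [MulAut.mul_apply, MulAut.inv_apply_self, MulAut.mul_apply] at h1
        rw [autFun_apply _ hx, ← h1, autFun_apply _ (conj_mem_of_mem_normalizer hs.2 hx)]
        rfl
      have h1 := hbig _ e (hproper R₀ hfn.1 hcard₀) (he.mono hN) (u : Ω)
        (le_normalizerIn hfn.1 u.2)
      rwa [hev _ u.2, autFun_coe] at h1
    intro x hx
    have hαx := (hK.ge (Subgroup.mem_top (⟨α, hαA⟩ : A))) ⟨g x, hgi.mem hx⟩
    have e1 : (α ⟨g x, hgi.mem hx⟩ : Ω) = g' (f x) := by
      rw [hαv]
      show g' (f (k₁ (g x))) = g' (f x)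
      rw [hk₁l x hx]
    change (g x)⁻¹ * (α ⟨g x, hgi.mem hx⟩ : Ω) ∈ L at hαx
    rw [e1] at hαx
    have h1 := hbig _ g (hproper R hf.le rfl) hg x (le_normalizerIn hf.le hx)
    have h2 := hbig _ g' (hproper R' hR'.le_right hR'.card_eq) hg' (f x)
      (le_normalizerIn hR'.le_right (hR'.mem hx))
    have h3 := L.mul_mem (L.mul_mem h1 hαx) (L.inv_mem h2)
    simpa [mul_assoc] using h3

/-- The inner system is characterised by an inner Sylow normalizer and a strongly closed
Frattini subgroup. -/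
theorem inner_iff_normalizer_frattini (hS : IsPGroup p S) (hF : F.IsSaturated p) :
    (∀ P : Subgroup Ω, F.Hom P = (innerFusionSystem S).Hom P) ↔
      (∀ N : FusionSystem (normalizerIn S S), F.IsNormalizerSystem S N →
        ∀ P : Subgroup Ω, N.Hom P = (innerFusionSystem (normalizerIn S S)).Hom P) ∧
      F.StronglyClosed ((frattini ↥S).map S.subtype) := by
  have hNS : normalizerIn S S = S := inf_eq_left.2 Subgroup.le_normalizer
  constructor
  · intro h
    refine ⟨fun N hN P => Set.Subset.antisymm (fun φ hφ => ?_) (hom_inner_subset N le_rfl),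
      Subgroup.map_subtype_le _, ?_⟩
    · have hφ' := hφ
      rw [hN] at hφ'
      obtain ⟨hφF, hPN, hv, -⟩ := hφ'
      rw [h] at hφF
      obtain ⟨-, g, hg, hgv⟩ := hφF
      exact ⟨hPN, g, hNS.symm ▸ hg, hgv⟩
    · intro R hR φ hφ x
      rw [h] at hφ
      obtain ⟨-, g, hg, hgv⟩ := hφ
      obtain ⟨u, hu, e⟩ := hR x.2
      refine ⟨(⟨g, hg⟩ : S) * u * (⟨g, hg⟩ : S)⁻¹, ?_, ?_⟩
      · exact Subgroup.Normal.conj_mem inferInstance u hu ⟨g, hg⟩
      · rw [hgv, ← e]; rfl
  · rintro ⟨hN, hΦ⟩ P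
    have haut := isPGroup_autGroup_of_normalizer_inner hS hN
    have := finite_mulAut S
    have hfn : F.IsFullyNormalized S := ⟨le_rfl, fun Q hQ => by
      obtain ⟨g, hg⟩ := isConj_iff.1 hQ
      rw [show Q = S from Subgroup.eq_of_le_of_card_ge hg.le_right hg.card_eq.ge]⟩
    obtain ⟨T, hT⟩ := (isFullyAutomized_of_isFullyNormalized hS hF hfn).2
    have hder := derived_le_frattini (p := p) hS
    have hfoc : F.focalSubgroup ≤ (frattini ↥S).map S.subtype := by
      have key := inv_mul_mem_of_stronglyClosed hS hF hΦ hder fun f hf x hx => ?_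
      · refine (Subgroup.closure_le _).2 ?_
        rintro _ ⟨R, φ, y, hφ, rfl⟩
        have := key R _ (isMap_homFun hφ) y y.2
        rwa [homFun_coe] at this
      · obtain ⟨R, hR⟩ := hf.exists_iso
        obtain rfl : R = S := Subgroup.eq_of_le_of_card_ge hR.le_right hR.card_eq.ge
        obtain ⟨α, hα, hαv⟩ := exists_mem_autGroup hR
        have hαT : (⟨α, hα⟩ : F.autGroup R) ∈ (T : Subgroup (F.autGroup R)) := by
          rw [show (T : Subgroup (F.autGroup R)) = ⊤ from
            (T.3 (haut.of_equiv Subgroup.topEquiv.symm) le_top).symm]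
          exact Subgroup.mem_top _
        rw [hT] at hαT
        obtain ⟨s, hs, hsv⟩ := (mem_autInducedBy_iff R R α).1 hαT
        rw [← hαv ⟨x, hx⟩, hsv]
        have h1 := hder (Subgroup.commutator_mem_commutator (R.inv_mem hx) hs)
        rw [commutatorElement_def, inv_inv] at h1
        simpa [mul_assoc] using h1
    have hbot : F.hyperfocalSubgroup p = ⊥ := by
      have hn : (⊥ : Subgroup S).Normal := inferInstance
      have e := hyperfocal_subgroupOf_eq hS hF (H := (⊥ : Subgroup S)) bot_le fun x hx => by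
        obtain ⟨u, hu, e⟩ := hfoc (hyperfocal_le_focal hx)
        exact Subgroup.mem_sup_left ((show u = x from Subtype.ext e) ▸ hu)
      rw [← Subgroup.map_subgroupOf_eq_of_le (hyperfocal_le (F := F) (p := p)), e,
        Subgroup.map_bot]
    refine Set.Subset.antisymm (fun φ hφ => ?_) (hom_inner_subset F le_rfl)
    obtain ⟨γ, hγ, h⟩ := exists_conj_mod_hyperfocal hS hF (isMap_homFun hφ)
    refine ⟨(F.le_of_mem hφ).1, γ, hγ, fun x => ?_⟩
    have h1 := h x x.2
    rw [homFun_coe, hbot, Subgroup.mem_bot, inv_mul_eq_one] at h1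
    exact h1.symm

end CfsgLib.Fusion
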