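import Mathlib
import Cfsg.Agent.Lib.Fusion.CenterFunctor
import Cfsg.Agent.Lib.Layer.CharPSubnormal

/-!
Glauberman's theorem on `p`-th powers of central elements, for functors with a quadratic element.
-/

set_option autoImplicit false

namespace CfsgLib.Fusion

open Cfsg Cfsg.FusionSystem
open scoped commutatorElement

universe u v

variable {p : ℕ} [Fact p.Prime]
variable (W : ∀ (Q : Type u) [Group Q], Subgroup Q)
  (hW2 : ∀ (Q R : Type u) [Group Q] [Group R] [Finite Q], IsPGroup p Q → ∀ φ : Q ≃* R,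
    (W Q).map φ.toMonoidHom = W R)
  (hq : ∀ (G : Type u) [Group G] [Finite G] (P : Sylow p G),
    Subgroup.centralizer ((Cfsg.pCore p G : Subgroup G) : Set G) ≤ Cfsg.pCore p G →
    ¬ (((W ↥(P : Subgroup G)).map (P : Subgroup G).subtype : Subgroup G)).Normal →
    ∃ g : G, g ∈ (P : Subgroup G) ∧ g ∉ Cfsg.pCore p G ∧
      ⁅⁅Subgroup.center ↥(Cfsg.pCore p G) |>.map (Cfsg.pCore p G).subtype, Subgroup.zpowers g⁆,
        Subgroup.zpowers g⁆ = ⊥)

omit [Fact p.Prime] in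
/-- A quadratic element has powers with `h^p` central and `h` not, on an abelian group; such an `h`
centralizes all `p`-th powers. -/
theorem exists_centralizing_powers {G : Type*} [Group G] [Finite G] {V : Subgroup G}
    (hVc : ∀ a ∈ V, ∀ b ∈ V, a * b = b * a) {g : G} (hVn : ∀ v ∈ V, g * v * g⁻¹ ∈ V)
    (hgp : ∃ a, g ^ p ^ a = 1)
    (hquad : ⁅⁅V, Subgroup.zpowers g⁆, Subgroup.zpowers g⁆ = ⊥)
    (hg : ¬ ∀ v ∈ V, g * v * g⁻¹ = v) :
    ∃ h ∈ Subgroup.zpowers g, (¬ ∀ v ∈ V, h * v * h⁻¹ = v) ∧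
      ∀ v ∈ V, h * v ^ p * h⁻¹ = v ^ p := by
  let d : G → G := fun v => v⁻¹ * (g * v * g⁻¹)
  have hd : ∀ v ∈ V, d v ∈ V ∧ g * d v * g⁻¹ = d v := by
    intro v hv
    refine ⟨V.mul_mem (V.inv_mem hv) (hVn v hv), ?_⟩
    have hc : ⁅v⁻¹, g⁆ ∈ ⁅V, Subgroup.zpowers g⁆ :=
      Subgroup.commutator_mem_commutator (V.inv_mem hv) (Subgroup.mem_zpowers g)
    have h1 : ⁅⁅v⁻¹, g⁆, g⁆ ∈ (⊥ : Subgroup G) :=
      hquad ▸ Subgroup.commutator_mem_commutator hc (Subgroup.mem_zpowers g)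
    rw [Subgroup.mem_bot, commutatorElement_eq_one_iff_mul_comm] at h1
    have h2 : ⁅v⁻¹, g⁆ = d v := by simp [d, commutatorElement_def, mul_assoc]
    rw [h2] at h1
    rw [← h1, mul_inv_cancel_right]
  have hpow : ∀ (n : ℕ), ∀ v ∈ V, g ^ n * v * (g ^ n)⁻¹ = v * d v ^ n := by
    intro n v hv
    induction n with
    | zero => simp
    | succ n ih =>
      obtain ⟨-, hfix⟩ := hd v hv
      calc g ^ (n + 1) * v * (g ^ (n + 1))⁻¹ = g * (g ^ n * v * (g ^ n)⁻¹) * g⁻¹ := by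
            rw [pow_succ']; group
        _ = (g * v * g⁻¹) * (g * d v * g⁻¹) ^ n := by rw [ih, conj_pow]; group
        _ = v * d v ^ (n + 1) := by
          rw [hfix, pow_succ', ← mul_assoc]; simp [d]
  obtain ⟨a, ha⟩ := hgp
  classical
  have hex : ∃ j : ℕ, ∀ v ∈ V, g ^ p ^ j * v * (g ^ p ^ j)⁻¹ = v :=
    ⟨a, fun v _ => by rw [ha]; simp⟩
  obtain ⟨j, hj⟩ : ∃ j, Nat.find hex = j + 1 := by
    refine Nat.exists_eq_succ_of_ne_zero fun h0 => hg fun v hv => ?_
    have := Nat.find_spec hex v hv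
    rwa [h0, pow_zero, pow_one] at this
  refine ⟨g ^ p ^ j, ⟨(p ^ j : ℕ), zpow_natCast g _⟩,
    Nat.find_min hex (hj ▸ Nat.lt_succ_self j), fun v hv => ?_⟩
  have h1 := hpow (p ^ (j + 1)) v hv
  have h2 := Nat.find_spec hex v hv
  rw [hj, h1, mul_eq_left, pow_succ, pow_mul] at h2
  have hcomm : Commute v (d v ^ p ^ j) := hVc _ hv _ (V.pow_mem (hd v hv).1 _)
  rw [← conj_pow, hpow _ v hv, hcomm.mul_pow, h2, mul_one]

include hW2 hq

omit hW2 in
/-- A quadratic element gives a normal subgroup outside `O_p` centralizing `p`-th powers. -/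
theorem exists_normal_centralizing_powers {G : Type u} [Group G] [Finite G] (P : Sylow p G)
    (hc : Subgroup.centralizer ((Cfsg.pCore p G : Subgroup G) : Set G) ≤ Cfsg.pCore p G)
    (hWn : ¬ ((W ↥(P : Subgroup G)).map (P : Subgroup G).subtype).Normal) :
    ∃ K : Subgroup G, K.Normal ∧ (∀ w ∈ (P : Subgroup G),
        w ∈ Subgroup.centralizer ((P : Subgroup G) : Set G) →
          ∀ y ∈ K, y * w ^ p * y⁻¹ = w ^ p) ∧
      ∃ x, x ∈ (P : Subgroup G) ∧ x ∉ Cfsg.pCore p G ∧ x ∈ K := by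
  set Q := Cfsg.pCore p G with hQ
  have hQn : Q.Normal := CfsgLib.Fitting.pCore_normal p
  have hQP : Q ≤ (P : Subgroup G) := fun y hy =>
    le_sylow_of_normal_pGroup P hQn (CfsgLib.Fitting.pCore_isPGroup p) hy
  set V := (Subgroup.center ↥Q).map Q.subtype with hV
  have hVmem : ∀ v, v ∈ V ↔ v ∈ Q ∧ ∀ q ∈ Q, q * v = v * q := by
    intro v
    constructor
    · rintro ⟨z, hz, rfl⟩
      exact ⟨z.2, fun q hq => congrArg Subtype.val (Subgroup.mem_center_iff.1 hz ⟨q, hq⟩)⟩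
    · rintro ⟨hv, h⟩
      exact ⟨⟨v, hv⟩, Subgroup.mem_center_iff.2 fun q => Subtype.ext (h q q.2), rfl⟩
  have hVn : ∀ x, ∀ v ∈ V, x * v * x⁻¹ ∈ V := by
    intro x v hv
    obtain ⟨hvQ, hvc⟩ := (hVmem v).1 hv
    refine (hVmem _).2 ⟨hQn.conj_mem v hvQ x, fun q hq => ?_⟩
    have h1 := hvc _ (hQn.conj_mem' q hq x)
    calc q * (x * v * x⁻¹) = x * ((x⁻¹ * q * x) * v) * x⁻¹ := by group
      _ = x * (v * (x⁻¹ * q * x)) * x⁻¹ := by rw [h1]
      _ = x * v * x⁻¹ * q := by group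
  let K : Subgroup G := Subgroup.centralizer ((fun v => v ^ p) '' (V : Set G))
  have hKmem : ∀ x, x ∈ K ↔ ∀ v ∈ V, x * v ^ p * x⁻¹ = v ^ p := by
    intro x
    constructor
    · intro hx v hv
      have := hx (v ^ p) ⟨v, hv, rfl⟩
      rw [← this, mul_inv_cancel_right]
    · rintro h _ ⟨v, hv, rfl⟩
      exact (mul_inv_eq_iff_eq_mul.1 (h v hv)).symm
  have hKn : K.Normal := ⟨fun x hx y => (hKmem _).2 fun v hv => by
    have h1 := (hKmem x).1 hx _ (hVn y⁻¹ v hv)
    have e : (y⁻¹ * v * y⁻¹⁻¹) ^ p = y⁻¹ * v ^ p * y := by rw [conj_pow, inv_inv]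
    rw [e] at h1
    calc y * x * y⁻¹ * v ^ p * (y * x * y⁻¹)⁻¹ = y * (x * (y⁻¹ * v ^ p * y) * x⁻¹) * y⁻¹ := by group
      _ = v ^ p := by rw [h1]; group⟩
  refine ⟨K, hKn, fun w hwP hw y hy => (hKmem y).1 hy w ((hVmem w).2
    ⟨hc (Subgroup.centralizer_le (show (Q : Set G) ⊆ _ from hQP) hw), fun q hq => hw q (hQP hq)⟩), ?_⟩
  obtain ⟨x, hxP, hxQ, hxK⟩ : ∃ x, x ∈ (P : Subgroup G) ∧ x ∉ Q ∧ x ∈ K := by
    obtain ⟨g, hgP, hgQ, hquad⟩ := hq G P hc hWn
    by_cases hgV : ∀ v ∈ V, g * v * g⁻¹ = v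
    · exact ⟨g, hgP, hgQ, (hKmem g).2 fun v hv => hgV _ (V.pow_mem hv p)⟩
    obtain ⟨a, ha⟩ := P.isPGroup' ⟨g, hgP⟩
    obtain ⟨h, hh, hhV, hhp⟩ := exists_centralizing_powers (p := p) (V := V)
      (fun a ha b hb => ((hVmem b).1 hb).2 a ((hVmem a).1 ha).1) (hVn g)
      ⟨a, congrArg Subtype.val ha⟩ hquad hgV
    refine ⟨h, Subgroup.zpowers_le.2 hgP hh, fun hhQ => hhV fun v hv => ?_, (hKmem h).2 hhp⟩
    rw [((hVmem v).1 hv).2 h hhQ, mul_inv_cancel_right]
  exact ⟨x, hxP, hxQ, hxK⟩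

/-- If the normalizer of `W(P)` fixes `w ^ p` for a central element `w` of `P`, then so does `G`. -/
theorem pow_central_of_quadratic : ∀ (n : ℕ) (G : Type u) [Group G] [Finite G],
    Nat.card G = n → ∀ (P : Sylow p G),
    Subgroup.centralizer ((Cfsg.pCore p G : Subgroup G) : Set G) ≤ Cfsg.pCore p G → ∀ w : G,
    w ∈ (P : Subgroup G) → w ∈ Subgroup.centralizer ((P : Subgroup G) : Set G) →
    (∀ g ∈ Subgroup.normalizer
        (((W ↥(P : Subgroup G)).map (P : Subgroup G).subtype : Subgroup G) : Set G),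
      g * w ^ p * g⁻¹ = w ^ p) →
    ∀ g : G, g * w ^ p * g⁻¹ = w ^ p := by
  intro n
  induction n using Nat.strong_induction_on with
  | _ n IH =>
  intro G _ _ hn P hc w hwP hw hfix
  set WP := (W ↥(P : Subgroup G)).map (P : Subgroup G).subtype with hWP
  by_cases hWn : WP.Normal
  · exact fun g => hfix g (by rw [Subgroup.normalizer_eq_top_iff.2 hWn]; exact Subgroup.mem_top g)
  set Q := Cfsg.pCore p G with hQ
  have hQn : Q.Normal := CfsgLib.Fitting.pCore_normal p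
  have hQP : Q ≤ (P : Subgroup G) := fun y hy =>
    le_sylow_of_normal_pGroup P hQn (CfsgLib.Fitting.pCore_isPGroup p) hy
  -- proper overgroups
  have hover : ∀ M : Subgroup G, (P : Subgroup G) ≤ M → M ≠ ⊤ → ∀ g ∈ M,
      g * w ^ p * g⁻¹ = w ^ p := by
    intro M hPM hM g hg
    let P' : Sylow p M := P.subtype hPM
    have hQM : Q.subgroupOf M ≤ Cfsg.pCore p M :=
      CfsgLib.Fitting.le_pCore (hQn.subgroupOf M)
        ((CfsgLib.Fitting.pCore_isPGroup p).comap_of_injective M.subtype M.subtype_injective)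
    have hc' : Subgroup.centralizer ((Cfsg.pCore p M : Subgroup M) : Set M) ≤ Cfsg.pCore p M := by
      intro y hy
      refine hQM (hc fun q hq => ?_)
      exact congrArg Subtype.val (hy ⟨q, (hQP.trans hPM) hq⟩ (hQM hq))
    let e : (P : Subgroup G) ≃* (P' : Subgroup M) :=
      (Subgroup.subgroupOfEquivOfLe hPM).symm
    have hW' : ∀ y : M, y ∈ (W ↥(P' : Subgroup M)).map (P' : Subgroup M).subtype ↔ (y : G) ∈ WP := by
      intro y
      rw [← hW2 _ _ P.isPGroup' e]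
      constructor
      · rintro ⟨_, ⟨z, hz, rfl⟩, rfl⟩
        exact ⟨z, hz, rfl⟩
      · rintro ⟨z, hz, hze⟩
        exact ⟨e z, ⟨z, hz, rfl⟩, Subtype.ext hze⟩
    have hlt : Nat.card M < n := by
      rw [← hn]
      exact lt_of_le_of_ne (Subgroup.card_le_card_group M) fun h =>
        hM (Subgroup.eq_top_of_card_eq M h)
    have := IH _ hlt M rfl P' hc' ⟨w, hPM hwP⟩ (show w ∈ (P : Subgroup G) from hwP)
      (fun y hy => Subtype.ext (hw y hy)) (fun y hy => Subtype.ext (hfix y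
        (mem_normalizer_of_conj_mem (S := (P : Subgroup G))
          (Subgroup.map_subtype_le _) fun z hz => by
            have hzM : z ∈ M := hPM (Subgroup.map_subtype_le _ hz)
            exact (hW' _).1 ((Subgroup.mem_normalizer_iff.1 hy ⟨z, hzM⟩).1 ((hW' _).2 hz)))))
      ⟨g, hg⟩
    exact congrArg Subtype.val this
  obtain ⟨K, hKn, hKw, x, hxP, hxQ, hxK⟩ := exists_normal_centralizing_powers W hq P hc hWn
  set X := (P : Subgroup G) ⊓ K with hX
  have hNX : Subgroup.normalizer (X : Set G) ≠ ⊤ := fun h => hxQ (CfsgLib.Fitting.le_pCore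
    (Subgroup.normalizer_eq_top_iff.1 h) (P.isPGroup'.to_le inf_le_left) ⟨hxP, hxK⟩)
  have hPX : (P : Subgroup G) ≤ Subgroup.normalizer (X : Set G) := fun y hy =>
    mem_normalizer_of_conj_mem (S := (P : Subgroup G)) inf_le_left fun z hz =>
      ⟨(P : Subgroup G).mul_mem ((P : Subgroup G).mul_mem hy hz.1) (inv_mem hy),
        hKn.conj_mem z hz.2 y⟩
  let R : Sylow p K := (P.isPGroup'.comap_of_injective K.subtype K.subtype_injective).toSylow
    (CfsgLib.CharCore.not_dvd_relIndex_of_isSubnormal hKn.isSubnormal P)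
  have htop := Sylow.normalizer_sup_eq_top R
  have hRX : (R : Subgroup K).map K.subtype = X := by
    show ((P : Subgroup G).comap K.subtype).map K.subtype = X
    rw [Subgroup.map_comap_eq, Subgroup.range_subtype, hX, inf_comm]
  rw [hRX] at htop
  intro g
  have hle : Subgroup.normalizer (X : Set G) ⊔ K ≤ Subgroup.centralizer {w ^ p} := by
    refine sup_le (fun y hy => ?_) fun y hy => ?_
    · rw [Subgroup.mem_centralizer_singleton_iff]
      exact mul_inv_eq_iff_eq_mul.1 (hover _ hPX hNX y hy)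
    · rw [Subgroup.mem_centralizer_singleton_iff]
      exact mul_inv_eq_iff_eq_mul.1 (hKw w hwP hw y hy)
  have hg := hle (htop ▸ Subgroup.mem_top g)
  rw [Subgroup.mem_centralizer_singleton_iff] at hg
  exact mul_inv_eq_iff_eq_mul.2 hg

omit hq in
/-- `k`-th powers of central elements in the centre of `N_F(W(S))` are central in `F`. -/
theorem pow_center_inf_le_center {H : Type v} [Group H] (k : ℕ) (hWZ : ∀ (Q : Type u) [Group Q] [Finite Q], IsPGroup p Q →
      Subgroup.center Q ≤ W Q)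
    (hC : ∀ (G : Type u) [Group G] [Finite G] (P : Sylow p G),
      Subgroup.centralizer ((Cfsg.pCore p G : Subgroup G) : Set G) ≤ Cfsg.pCore p G →
      ¬ Cfsg.Involves H G → ∀ w : G,
      w ∈ (P : Subgroup G) → w ∈ Subgroup.centralizer ((P : Subgroup G) : Set G) →
      (∀ g ∈ Subgroup.normalizer
          (((W ↥(P : Subgroup G)).map (P : Subgroup G).subtype : Subgroup G) : Set G),
        g * w ^ k * g⁻¹ = w ^ k) →
      ∀ g : G, g * w ^ k * g⁻¹ = w ^ k)
    {Ω : Type u} [Group Ω] {S : Subgroup Ω} [Finite S] (hS : IsPGroup p S) {F : FusionSystem S}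
    (hF : F.IsSaturated p) (hfree : F.IsSectionFree p H) {N : FusionSystem (normalizerIn S (functorOf W S))}
    (hN : F.IsNormalizerSystem (functorOf W S) N) :
    Subgroup.closure ((fun z => z ^ k) '' ((S ⊓ Subgroup.centralizer (S : Set Ω) : Subgroup Ω) :
      Set Ω)) ⊓ N.center ≤ F.center := by
  have hUn : normalizerIn S (functorOf W S) = S := inf_eq_left.2 fun s hs =>
    normalizer_le_functorOf W hW2 le_rfl hS (Subgroup.le_normalizer hs)
  have := finite_of_le (S := S) (P := normalizerIn S (functorOf W S)) inf_le_left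
  have hcN := isCentral_center N
  rintro z ⟨hzp, hz⟩
  obtain ⟨w, ⟨hwS, hwc⟩, rfl⟩ : ∃ w ∈ S ⊓ Subgroup.centralizer (S : Set Ω), w ^ k = z := by
    refine Subgroup.closure_induction (fun y hy => hy) ⟨1, one_mem _, one_pow k⟩ ?_ ?_ hzp
    · rintro _ _ _ _ ⟨a, ha, rfl⟩ ⟨b, hb, rfl⟩
      exact ⟨a * b, mul_mem ha hb, (show Commute a b from (ha.2 b hb.1).symm).mul_pow k⟩
    · rintro _ _ ⟨a, ha, rfl⟩
      exact ⟨a⁻¹, inv_mem ha, inv_pow a k⟩
  have hzS : w ^ k ∈ S := S.pow_mem hwS k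
  have hpow : ∀ x ∈ Subgroup.zpowers (w ^ k), ∀ P f, IsMap F P f → x ∈ P → f x = x := by
    intro x hx
    obtain ⟨i, rfl⟩ := Subgroup.mem_zpowers_iff.1 hx
    have hxc : (w ^ k) ^ i ∈ N.center := Subgroup.zpow_mem _ hz i
    refine fixes_of_functor W hW2 hWZ k (H := H) hC _ Ω S F rfl hS hF hfree (w ^ i) (S.zpow_mem hwS i)
      (Subgroup.zpow_mem _ hwc i) _ (by rw [← zpow_natCast, ← zpow_natCast, ← zpow_mul, ← zpow_mul,
        mul_comm]) fun A g hg hle him => ?_
    have hxU : (w ^ k) ^ i ∈ functorOf W S := mem_functorOf_of_central W hW2 hWZ hS le_rfl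
      (S.zpow_mem hzS i) (Subgroup.zpow_mem _ (Subgroup.pow_mem _ hwc k) i)
    obtain ⟨g₂, hk, hkg, hkfix⟩ := (isCentral_iff.1 hcN).2 A g ((isMap_normalizerSystem_iff hN).2
      ⟨hUn.symm ▸ hg.le, fun y hy => hUn.symm ▸ hg.mem hy, g, by rwa [sup_eq_left.2 hle],
        fun _ _ => rfl, him⟩)
    rw [← hkg _ (hle hxU)]
    exact hkfix _ hxc
  exact (le_sSup (show F.IsCentral (Subgroup.zpowers (w ^ k)) from
    isCentral_of_fixed hS hF (Subgroup.zpowers_le.2 hzS) fun P f hf x hx hxz =>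
      hpow x hxz P f hf hx) : Subgroup.zpowers (w ^ k) ≤ F.center) (Subgroup.mem_zpowers _)


omit hq in
/-- `p`-th powers of central elements in the centre of `N_F(W(S))` are central in `F`. -/
theorem agemo_center_inf_le_center (hWZ : ∀ (Q : Type u) [Group Q] [Finite Q], IsPGroup p Q →
      Subgroup.center Q ≤ W Q)
    (hC : ∀ (G : Type u) [Group G] [Finite G] (P : Sylow p G),
      Subgroup.centralizer ((Cfsg.pCore p G : Subgroup G) : Set G) ≤ Cfsg.pCore p G → ∀ w : G,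
      w ∈ (P : Subgroup G) → w ∈ Subgroup.centralizer ((P : Subgroup G) : Set G) →
      (∀ g ∈ Subgroup.normalizer
          (((W ↥(P : Subgroup G)).map (P : Subgroup G).subtype : Subgroup G) : Set G),
        g * w ^ p * g⁻¹ = w ^ p) →
      ∀ g : G, g * w ^ p * g⁻¹ = w ^ p)
    {Ω : Type u} [Group Ω] {S : Subgroup Ω} [Finite S] (hS : IsPGroup p S) {F : FusionSystem S}
    (hF : F.IsSaturated p) {N : FusionSystem (normalizerIn S (functorOf W S))}
    (hN : F.IsNormalizerSystem (functorOf W S) N) :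
    Subgroup.closure ((fun z => z ^ p) '' ((S ⊓ Subgroup.centralizer (S : Set Ω) : Subgroup Ω) :
      Set Ω)) ⊓ N.center ≤ F.center :=
  pow_center_inf_le_center W hW2 (H := Multiplicative ℤ) p hWZ (fun G _ _ P hc _ => hC G P hc)
    hS hF (isSectionFree_infinite F _) hN

end CfsgLib.Fusion
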