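import Mathlib
import Cfsg.Agent.Lib.Fusion.Normal
import Cfsg.Agent.Lib.Fusion.TransportGroup
import Cfsg.Prelude.Def_FusionComponents

/-!
Factor systems, in terms of functions on the ambient groups.
-/

set_option autoImplicit false

namespace CfsgLib.Fusion

open Cfsg Cfsg.FusionSystem

variable {Ω : Type*} [Group Ω] {S : Subgroup Ω} {Ω' : Type*} [Group Ω'] {S' : Subgroup Ω'}

theorem mem_preimageAlong (θ : S →* Ω') (P' : Subgroup Ω') {x : Ω} :
    x ∈ preimageAlong θ P' ↔ x ∈ S ∧ homExt θ x ∈ P' := by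
  constructor
  · rintro ⟨y, hy, rfl⟩
    exact ⟨y.2, by rw [homExt_apply θ (show (S.subtype y) ∈ S from y.2)]; exact hy⟩
  · rintro ⟨hx, h⟩
    rw [homExt_apply θ hx] at h
    exact ⟨⟨x, hx⟩, h, rfl⟩

theorem preimageAlong_le (θ : S →* Ω') (P' : Subgroup Ω') : preimageAlong θ P' ≤ S :=
  Subgroup.map_subtype_le _

theorem preimageAlong_mono (θ : S →* Ω') {P' Q' : Subgroup Ω'} (h : P' ≤ Q') :
    preimageAlong θ P' ≤ preimageAlong θ Q' :=
  Subgroup.map_mono (Subgroup.comap_mono h)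

theorem exists_mem_preimageAlong {θ : S →* Ω'} {P' : Subgroup Ω'} (hP : P' ≤ θ.range) {y : Ω'}
    (hy : y ∈ P') : ∃ x ∈ preimageAlong θ P', homExt θ x = y := by
  obtain ⟨x, rfl⟩ := hP hy
  exact ⟨x, (mem_preimageAlong θ P').2 ⟨x.2, by rw [homExt_apply θ x.2]; exact hy⟩,
    homExt_apply θ x.2⟩

theorem homExt_mul' (θ : S →* Ω') {x y : Ω} (hx : x ∈ S) (hy : y ∈ S) :
    homExt θ (x * y) = homExt θ x * homExt θ y := by
  rw [homExt_apply θ hx, homExt_apply θ hy, homExt_apply θ (S.mul_mem hx hy), ← map_mul]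
  rfl

theorem homExt_inv' (θ : S →* Ω') {x : Ω} (hx : x ∈ S) : homExt θ x⁻¹ = (homExt θ x)⁻¹ := by
  rw [homExt_apply θ hx, homExt_apply θ (S.inv_mem hx), ← map_inv]
  rfl

theorem homExt_conj (θ : S →* Ω') {x y : Ω} (hx : x ∈ S) (hy : y ∈ S) :
    homExt θ (x * y * x⁻¹) = homExt θ x * homExt θ y * (homExt θ x)⁻¹ := by
  rw [homExt_mul' θ (S.mul_mem hx hy) (S.inv_mem hx), homExt_mul' θ hx hy, homExt_inv' θ hx]

variable {F : FusionSystem S} {Q : Subgroup Ω} {θ : S →* Ω'} {E : FusionSystem S'}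

theorem mem_of_homExt_eq_one (hE : F.IsFactorSystem Q θ E) {x : Ω} (hx : x ∈ S) :
    homExt θ x = 1 ↔ x ∈ Q := by
  rw [homExt_apply θ hx]; exact hE.2.1 _

theorem le_preimageAlong (hE : F.IsFactorSystem Q θ E) (P' : Subgroup Ω') :
    Q ≤ preimageAlong θ P' := fun x hx =>
  (mem_preimageAlong θ P').2 ⟨hE.1 hx, by
    rw [(mem_of_homExt_eq_one hE (hE.1 hx)).2 hx]; exact P'.one_mem⟩

theorem isMap_factor_iff (hE : F.IsFactorSystem Q θ E) {P' : Subgroup Ω'} {f' : Ω' → Ω'} :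
    IsMap E P' f' ↔ P' ≤ S' ∧ ∃ f, IsMap F (preimageAlong θ P') f ∧
      ∀ x ∈ preimageAlong θ P', f' (homExt θ x) = homExt θ (f x) := by
  obtain ⟨-, -, hr, hiff⟩ := hE
  constructor
  · rintro ⟨φ', hφ', hv'⟩
    obtain ⟨hP', φ, hφ, hP, hφS, hmem, hind⟩ := (hiff P' φ').1 hφ'
    refine ⟨hP', homFun φ, isMap_homFun hφ, fun x hx => ?_⟩
    rw [homFun_apply φ hx, homExt_apply θ (hP hx), homExt_apply θ (hφS ⟨x, hx⟩), ← hind ⟨x, hx⟩]
    exact (hv' ⟨_, hmem ⟨x, hx⟩⟩).symm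
  · rintro ⟨hP', f, ⟨φ, hφ, hv⟩, hrel⟩
    have hP := preimageAlong_le θ P'
    have hmem : ∀ x : preimageAlong θ P', θ ⟨x, hP x.2⟩ ∈ P' := fun x => by
      have := ((mem_preimageAlong θ P').1 x.2).2
      rwa [homExt_apply θ (hP x.2)] at this
    have hφS : ∀ x, φ x ∈ S := (F.le_of_mem hφ).2
    have hrel' : ∀ x : preimageAlong θ P', f' (homExt θ (x : Ω)) = homExt θ (φ x) :=
      fun x => by rw [hrel x x.2, hv]
    choose s hs hse using fun y : P' =>
      exists_mem_preimageAlong (show P' ≤ θ.range from hP'.trans hr.ge) y.2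
    let φ' : P' →* Ω' := MonoidHom.mk' (fun y => f' y) fun a b => by
      have e : homExt θ (s a * s b) = ((a * b : P') : Ω') := by
        rw [homExt_mul' θ (hP (hs a)) (hP (hs b)), hse, hse]; rfl
      rw [← e, ← hse a, ← hse b]
      have ha := hrel' ⟨s a, hs a⟩
      have hb := hrel' ⟨s b, hs b⟩
      have hab := hrel' (⟨s a, hs a⟩ * ⟨s b, hs b⟩)
      rw [map_mul, homExt_mul' θ (hφS _) (hφS _), ← ha, ← hb] at hab
      exact hab
    refine ⟨φ', (hiff P' φ').2 ⟨hP', φ, hφ, hP, hφS, hmem, fun x => ?_⟩, fun y => rfl⟩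
    show f' (θ ⟨x, hP x.2⟩) = _
    have := hrel' x
    rwa [homExt_apply θ (hP x.2), homExt_apply θ (hφS x)] at this

/-- A map preserving `Q` induces a map of the factor system. -/
theorem exists_factor_map (hE : F.IsFactorSystem Q θ E) {P' : Subgroup Ω'} (hP' : P' ≤ S')
    {f : Ω → Ω} (hf : IsMap F (preimageAlong θ P') f) (hQ : ∀ x ∈ Q, f x ∈ Q) :
    ∃ f', IsMap E P' f' ∧ ∀ x ∈ preimageAlong θ P', f' (homExt θ x) = homExt θ (f x) := by
  classical
  have hP := preimageAlong_le θ P'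
  have key : ∀ x ∈ preimageAlong θ P',
      (fun y => if h : ∃ z ∈ preimageAlong θ P', homExt θ z = y then
        homExt θ (f h.choose) else 1) (homExt θ x) = homExt θ (f x) := by
    intro x hx
    have h : ∃ z ∈ preimageAlong θ P', homExt θ z = homExt θ x := ⟨x, hx, rfl⟩
    show dite _ _ _ = _
    rw [dif_pos h]
    obtain ⟨hz, hze⟩ := h.choose_spec
    set z := h.choose
    have hd : z * x⁻¹ ∈ Q := by
      refine (mem_of_homExt_eq_one hE (S.mul_mem (hP hz) (S.inv_mem (hP hx)))).1 ?_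
      rw [homExt_mul' θ (hP hz) (S.inv_mem (hP hx)), homExt_inv' θ (hP hx), hze, mul_inv_cancel]
    have hfd := (mem_of_homExt_eq_one hE (hE.1 (hQ _ hd))).2 (hQ _ hd)
    rw [hf.map_mul hz (Subgroup.inv_mem _ hx), hf.map_inv hx,
      homExt_mul' θ (hf.mem hz) (S.inv_mem (hf.mem hx)), homExt_inv' θ (hf.mem hx),
      mul_inv_eq_one] at hfd
    exact hfd
  exact ⟨fun y => if h : ∃ z ∈ preimageAlong θ P', homExt θ z = y then homExt θ (f h.choose) else 1,
    (isMap_factor_iff hE).2 ⟨hP', f, hf, key⟩, key⟩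

/-- Preimages of normalizers. -/
theorem normalizerIn_preimageAlong [Finite S] (hE : F.IsFactorSystem Q θ E) {R' : Subgroup Ω'}
    (hR' : R' ≤ S') :
    normalizerIn S (preimageAlong θ R') = preimageAlong θ (normalizerIn S' R') := by
  have hr : θ.range = S' := hE.2.2.1
  have hR := preimageAlong_le θ R'
  have : Finite θ.range := Finite.of_surjective _ θ.rangeRestrict_surjective
  have : Finite S' := hr ▸ this
  ext n
  rw [mem_preimageAlong]
  constructor
  · rintro ⟨hnS, hn⟩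
    refine ⟨hnS, ?_, mem_normalizer_of_conj_mem hR' fun y hy => ?_⟩
    · rw [← hr, homExt_apply θ hnS]; exact ⟨_, rfl⟩
    · obtain ⟨x, hx, rfl⟩ := exists_mem_preimageAlong (hR'.trans hr.ge) hy
      rw [← homExt_conj θ hnS (hR hx)]
      exact ((mem_preimageAlong θ R').1 (conj_mem_of_mem_normalizer hn hx)).2
  · rintro ⟨hnS, -, hn⟩
    refine ⟨hnS, mem_normalizer_of_conj_mem hR fun x hx => (mem_preimageAlong θ R').2
      ⟨S.mul_mem (S.mul_mem hnS (hR hx)) (S.inv_mem hnS), ?_⟩⟩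
    rw [homExt_conj θ hnS (hR hx)]
    exact conj_mem_of_mem_normalizer hn ((mem_preimageAlong θ R').1 hx).2

theorem card_preimageAlong (θ : S →* Ω') {P' : Subgroup Ω'} (hP : P' ≤ θ.range) :
    Nat.card (preimageAlong θ P') = Nat.card θ.ker * Nat.card P' := by
  rw [preimageAlong, ← Nat.card_congr (Subgroup.equivMapOfInjective (P'.comap θ) _
    S.subtype_injective).toEquiv, Subgroup.card_eq_card_quotient_mul_card_subgroup
    (α := ↥(P'.comap θ)) (θ.ker.subgroupOf (P'.comap θ)), mul_comm]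
  congr 1
  · exact Nat.card_congr (Subgroup.subgroupOfEquivOfLe (θ.ker_le_comap P')).toEquiv
  · let ψ : ↥(P'.comap θ) →* P' := θ.subgroupComap P'
    have hs : Function.Surjective ψ := fun y => by
      obtain ⟨x, hx⟩ := hP y.2
      exact ⟨⟨x, by rw [Subgroup.mem_comap, hx]; exact y.2⟩, Subtype.ext hx⟩
    have hk : ψ.ker = θ.ker.subgroupOf (P'.comap θ) := by
      ext x
      rw [MonoidHom.mem_ker, Subgroup.mem_subgroupOf, MonoidHom.mem_ker]
      exact ⟨fun h => congrArg Subtype.val h, fun h => Subtype.ext h⟩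
    rw [← hk]
    exact Nat.card_congr (QuotientGroup.quotientKerEquivOfSurjective ψ hs).toEquiv

/-- Preimages of fully normalized subgroups, by a normal subgroup. -/
theorem isFullyNormalized_preimageAlong [Finite S] (hE : F.IsFactorSystem Q θ E)
    (hQ : F.IsNormal Q) {R' : Subgroup Ω'} (hR : E.IsFullyNormalized R') :
    F.IsFullyNormalized (preimageAlong θ R') := by
  have hr : θ.range = S' := hE.2.2.1
  refine ⟨preimageAlong_le θ R', fun R₂ hR₂ => ?_⟩
  obtain ⟨f, hf⟩ := isConj_iff.1 hR₂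
  have hQR : Q ≤ preimageAlong θ R' := le_preimageAlong hE R'
  have hQf : ∀ x ∈ Q, f x ∈ Q := fun x hx =>
    isMap_mem_of_stronglyClosed (stronglyClosed_of_isNormal hQ) hf.isMap (hQR hx) hx
  obtain ⟨f', hf', hrel⟩ := exists_factor_map hE hR.1 hf.isMap hQf
  obtain ⟨R₂', hR₂'⟩ := hf'.exists_iso
  have he : R₂ = preimageAlong θ R₂' := by
    refine le_antisymm (fun y hy => ?_) fun y hy => ?_
    · obtain ⟨x, hx, rfl⟩ := hf.surj hy
      exact (mem_preimageAlong θ R₂').2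
        ⟨hf.isMap.mem hx, hrel x hx ▸ hR₂'.mem ((mem_preimageAlong θ R').1 hx).2⟩
    · obtain ⟨hyS, hy'⟩ := (mem_preimageAlong θ R₂').1 hy
      obtain ⟨z, hz, hze⟩ := hR₂'.surj hy'
      obtain ⟨x, hx, rfl⟩ := exists_mem_preimageAlong (hR.1.trans hr.ge) hz
      rw [hrel x hx] at hze
      have hd : (f x)⁻¹ * y ∈ Q := by
        refine (mem_of_homExt_eq_one hE (S.mul_mem (S.inv_mem (hf.isMap.mem hx)) hyS)).1 ?_
        rw [homExt_mul' θ (S.inv_mem (hf.isMap.mem hx)) hyS, homExt_inv' θ (hf.isMap.mem hx), hze,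
          inv_mul_cancel]
      have hQim : Q ≤ R₂ := fun q hq => by
        obtain ⟨q', hq', rfl⟩ := (image_eq_of_mem hQ.1 hf.isMap hQR hQf).ge hq
        exact hf.mem (hQR hq')
      have := R₂.mul_mem (hf.mem hx) (hQim hd)
      rwa [mul_inv_cancel_left] at this
  rw [he, normalizerIn_preimageAlong hE hR₂'.le_right, normalizerIn_preimageAlong hE hR.1,
    card_preimageAlong θ (fun x hx => hr.ge hx.1 : normalizerIn S' R₂' ≤ θ.range),
    card_preimageAlong θ (fun x hx => hr.ge hx.1 : normalizerIn S' R' ≤ θ.range)]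
  exact Nat.mul_le_mul_left _ (hR.2 R₂' hR₂'.isConj)

end CfsgLib.Fusion
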