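import Mathlib
import Cfsg.Agent.Lib.Fusion.FactorSystem
import Cfsg.Agent.Lib.Fusion.SectionFree

/-!
Factor systems by normal subgroups inherit section freeness.
-/

set_option autoImplicit false

namespace CfsgLib.Fusion

open Cfsg Cfsg.FusionSystem

universe u w v

/-- In a finite group whose Sylow `p`-subgroup `Z` is central, the elements of order prime to
`p` form a subgroup, complementing `Z`. -/
theorem exists_coprime_complement {C : Type*} [Group C] [Finite C] {p : ℕ} [Fact p.Prime]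
    (Z : Subgroup C) (hZc : Z ≤ Subgroup.center C) (hZp : IsPGroup p Z)
    (hmax : ∀ x : C, (∃ k : ℕ, x ^ p ^ k = 1) → x ∈ Z) :
    ∃ O : Subgroup C, (∀ x, x ∈ O ↔ (orderOf x).Coprime p) ∧
      ∀ x, ∃ z ∈ Z, ∃ o ∈ O, x = z * o := by
  haveI hZn : Z.Normal := ⟨fun z hz g => by
    rw [Subgroup.mem_center_iff.1 (hZc hz) g, mul_inv_cancel_right]; exact hz⟩
  have hpi : ¬ p ∣ Z.index := by
    intro hd
    obtain ⟨q, hq⟩ := exists_prime_orderOf_dvd_card' (G := C ⧸ Z) p hd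
    obtain ⟨x, rfl⟩ := QuotientGroup.mk_surjective q
    obtain ⟨k, m, hpm, hkm⟩ := Nat.exists_eq_pow_mul_and_not_dvd (orderOf_pos x).ne' p
      (Fact.out : p.Prime).ne_one
    have hy : x ^ m ∈ Z := hmax _ ⟨k, by rw [← pow_mul, mul_comm, ← hkm, pow_orderOf_eq_one]⟩
    have : ((x : C ⧸ Z)) ^ m = 1 := by
      rw [← QuotientGroup.mk_pow, QuotientGroup.eq_one_iff]; exact hy
    exact hpm (hq ▸ orderOf_dvd_of_pow_eq_one this)
  obtain ⟨n, hn⟩ := IsPGroup.iff_card.1 hZp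
  have hcop : (Nat.card Z).Coprime Z.index := by
    rw [hn]; exact ((Fact.out : p.Prime).coprime_iff_not_dvd.2 hpi).pow_left n
  obtain ⟨O, hO⟩ := Subgroup.exists_right_complement'_of_coprime hcop
  have hOi : O ≤ O := le_rfl
  have hdec : ∀ x, ∃ z ∈ Z, ∃ o ∈ O, x = z * o := fun x => by
    obtain ⟨⟨z, o⟩, h⟩ := hO.2 x
    exact ⟨z, z.2, o, o.2, h.symm⟩
  refine ⟨O, fun x => ⟨fun hx => ?_, fun hx => ?_⟩, hdec⟩
  · have h1 : orderOf x ∣ Nat.card O := by
      rw [← Subgroup.orderOf_mk x hx]; exact orderOf_dvd_natCard _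
    refine Nat.Coprime.coprime_dvd_left h1 ?_
    rw [← hO.symm.index_eq_card]
    exact ((Fact.out : p.Prime).coprime_iff_not_dvd.2 hpi).symm
  · obtain ⟨z, hz, o, ho, rfl⟩ := hdec x
    have hc : Commute z o := (Subgroup.mem_center_iff.1 (hZc hz) o).symm
    obtain ⟨k, hk⟩ := hZp ⟨z, hz⟩
    have e : (z * o) ^ p ^ k = o ^ p ^ k := by
      rw [hc.mul_pow, show z ^ p ^ k = 1 from congrArg Subtype.val hk, one_mul]
    have hmem : (z * o) ^ p ^ k ∈ O := e ▸ O.pow_mem ho _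
    obtain ⟨j, hj⟩ := exists_pow_eq_self_of_coprime (x := z * o) (n := p ^ k)
      (Nat.Coprime.pow_left k hx.symm)
    rw [← hj]
    exact O.pow_mem hmem j

variable {Ω : Type u} [Group Ω] {S : Subgroup Ω} [Finite S] {F : FusionSystem S} {p : ℕ}
  [Fact p.Prime] {Ω' : Type w} [Group Ω'] {S' : Subgroup Ω'}
variable {H : Type v} [Group H]

/-- Factor systems by normal subgroups inherit section freeness. -/
theorem isSectionFree_factorSystem (hS : IsPGroup p S) (hF : F.IsSaturated p) {Q : Subgroup Ω}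
    (hQ : F.IsNormal Q) (hfree : F.IsSectionFree p H) {θ : S →* Ω'} {E : FusionSystem S'}
    (hE : F.IsFactorSystem Q θ E) : E.IsSectionFree p H := by
  intro R' hR' hR'c N' hN' L _ κ hL hinv
  have hr : θ.range = S' := hE.2.2.1
  have : Finite θ.range := Finite.of_surjective _ θ.rangeRestrict_surjective
  have : Finite S' := hr ▸ this
  have hS' : IsPGroup p S' := hr ▸ hS.of_surjective θ.rangeRestrict θ.rangeRestrict_surjective
  set R := preimageAlong θ R' with hRdef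
  have hRS : R ≤ S := preimageAlong_le θ R'
  have hQR : Q ≤ R := le_preimageAlong hE R'
  have hRfn : F.IsFullyNormalized R := isFullyNormalized_preimageAlong hE hQ hR'
  have hQmem : ∀ {P : Subgroup Ω} {f : Ω → Ω}, IsMap F P f → Q ≤ P → ∀ x ∈ Q, f x ∈ Q :=
    fun hf hle x hx => isMap_mem_of_stronglyClosed (stronglyClosed_of_isNormal hQ) hf (hle hx) hx
  have hRc : F.IsCentric R := by
    refine isCentric_of_fullyCentralized hS hF
      (isFullyCentralized_of_isFullyNormalized hS hF hRfn) fun c hc => ?_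
    refine (mem_preimageAlong θ R').2 ⟨hc.1, hR'c.2 R' (isConj_refl hR'.1) ⟨?_, ?_⟩⟩
    · rw [← hr, homExt_apply θ hc.1]; exact ⟨_, rfl⟩
    · refine mem_centralizer_of_conj_eq fun y hy => ?_
      obtain ⟨x, hx, rfl⟩ := exists_mem_preimageAlong (hR'.1.trans hr.ge) hy
      rw [← homExt_conj θ hc.1 (hRS hx), conj_eq_self_of_mem_centralizer hc.2 hx]
  obtain ⟨N, hN⟩ : ∃ N, F.IsNormalizerSystem R N :=
    ⟨normalizerSystem F R hRS, fun _ => rfl⟩
  have hCN := centricNormal_normalizerSystem hS hF hRfn hRc hN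
  have := finite_of_le (S := S) (P := normalizerIn S R) inf_le_left
  have := finite_of_le (S := S') (P := normalizerIn S' R') inf_le_left
  obtain ⟨G, _, ι, hG⟩ := exists_model hCN.hS
    (⟨hCN.hF, R, hCN.hn, hCN.hc⟩ : N.IsConstrained p)
  have : Finite G := hG.1
  obtain ⟨T₀, hT₀⟩ := hG.2.2.1
  have hinj := hG.2.1.1
  have hQT : Q ≤ normalizerIn S R := hQR.trans (le_normalizerIn hRS)
  have hRT : R ≤ normalizerIn S R := le_normalizerIn hRS
  have hpre : normalizerIn S R = preimageAlong θ (normalizerIn S' R') :=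
    normalizerIn_preimageAlong hE hR'.1
  -- `Q` is normal in the model
  have hQN : N.IsNormal Q := by
    refine isNormal_iff.2 ⟨hQT, fun P f hf => ?_⟩
    obtain ⟨hP, hfT, g, hg, hgf, hgR⟩ := (isMap_normalizerSystem_iff hN).1 hf
    have hle : P ⊔ Q ≤ P ⊔ R := sup_le_sup_left hQR P
    have hiso : IsIso F R R g := ⟨hg.mono le_sup_right, hgR⟩
    refine ⟨g, (isMap_normalizerSystem_iff hN).2 ⟨sup_le hP hQT, fun x hx =>
      hg.mem_normalizerIn le_sup_right hiso (hle hx) ((sup_le hP hQT : P ⊔ Q ≤ _) hx).2, g,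
      hg.mono (sup_le hle le_sup_right), fun _ _ => rfl, hgR⟩, hgf, ?_⟩
    exact image_eq_of_mem hQ.1 (hg.mono hle) le_sup_right
      (hQmem (hg.mono hle) le_sup_right)
  let Qb : Subgroup G := (Q.subgroupOf (normalizerIn S R)).map ι
  haveI hQbn : Qb.Normal := normal_map_of_isModel hG hQN
  let Rb : Subgroup G := (R.subgroupOf (normalizerIn S R)).map ι
  have hRbn : Rb.Normal := normal_map_of_isModel hG hCN.hn
  let π : G →* G ⧸ Qb := QuotientGroup.mk' Qb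
  have hπ : Function.Surjective π := QuotientGroup.mk'_surjective Qb
  let i₁ : ↥(normalizerIn S R) →* G ⧸ Qb := π.comp ι
  let R₁ : Subgroup (G ⧸ Qb) := (R.subgroupOf (normalizerIn S R)).map i₁
  haveI hR₁n : R₁.Normal := by
    show (Subgroup.map (π.comp ι) _).Normal
    rw [← Subgroup.map_map]
    exact hRbn.map π hπ
  let S₁ : Sylow p (G ⧸ Qb) := T₀.mapSurjective hπ
  have hS₁ : (S₁ : Subgroup (G ⧸ Qb)) = i₁.range := by
    show (T₀ : Subgroup G).map π = (π.comp ι).range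
    rw [MonoidHom.range_comp, hT₀]
  have hi₁ : ∀ s, i₁ s = 1 ↔ (s : Ω) ∈ Q := by
    intro s
    show ((ι s : G) : G ⧸ Qb) = 1 ↔ _
    rw [QuotientGroup.eq_one_iff]
    exact ⟨fun ⟨q, hq, hqe⟩ => hinj hqe ▸ hq, fun hs => ⟨s, hs, rfl⟩⟩
  -- the centralizer of the image of `R`
  let C₁ : Subgroup (G ⧸ Qb) := Subgroup.centralizer (R₁ : Set (G ⧸ Qb))
  haveI : C₁.Normal := inferInstanceAs (Subgroup.centralizer (R₁ : Set (G ⧸ Qb))).Normal
  have hCS : C₁ ⊓ i₁.range ≤ R₁ := by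
    rintro _ ⟨hc, s, rfl⟩
    refine ⟨s, (mem_preimageAlong θ R').2 ⟨(inf_le_left : normalizerIn S R ≤ S) s.2,
      hR'c.2 R' (isConj_refl hR'.1) ⟨?_, mem_centralizer_of_conj_eq fun y hy => ?_⟩⟩, rfl⟩
    · exact hr.le ⟨_, (homExt_apply θ ((inf_le_left : normalizerIn S R ≤ S) s.2)).symm⟩
    · obtain ⟨x, hx, rfl⟩ := exists_mem_preimageAlong (hR'.1.trans hr.ge) hy
      have hsS : (s : Ω) ∈ S := (inf_le_left : normalizerIn S R ≤ S) s.2
      have h1 : i₁ ⟨x, hRT hx⟩ * i₁ s = i₁ s * i₁ ⟨x, hRT hx⟩ := hc _ ⟨⟨x, hRT hx⟩, hx, rfl⟩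
      rw [← map_mul, ← map_mul, ← mul_inv_eq_one, ← map_inv, ← map_mul, hi₁] at h1
      have h2 := (mem_of_homExt_eq_one hE (hE.1 h1)).2 h1
      have hxS := hRS hx
      simp only [Subgroup.coe_mul, Subgroup.coe_inv, mul_inv_rev] at h2
      rw [homExt_mul' θ (S.mul_mem hxS hsS) (S.mul_mem (S.inv_mem hxS) (S.inv_mem hsS)),
        homExt_mul' θ hxS hsS, homExt_mul' θ (S.inv_mem hxS) (S.inv_mem hsS),
        homExt_inv' θ hxS, homExt_inv' θ hsS] at h2
      rw [mul_inv_eq_iff_eq_mul]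
      calc homExt θ (s : Ω) * homExt θ x
          = 1 * (homExt θ (s : Ω) * homExt θ x) := (one_mul _).symm
        _ = homExt θ x * homExt θ (s : Ω) := by rw [← h2]; group
  have hZp : IsPGroup p ↥(R₁.subgroupOf C₁) :=
    (((hS.to_le (inf_le_left : normalizerIn S R ≤ S)).to_subgroup _).map i₁).comap_of_injective _
      C₁.subtype_injective
  obtain ⟨O₀, hO₀, hdec⟩ := exists_coprime_complement (R₁.subgroupOf C₁)
    (fun z hz => Subgroup.mem_center_iff.2 fun c => Subtype.ext (c.2 _ hz).symm) hZp (by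
      rintro c ⟨k, hk⟩
      have hcp : IsPGroup p (Subgroup.zpowers (c : G ⧸ Qb)) := by
        rintro ⟨_, i, rfl⟩
        refine ⟨k, Subtype.ext ?_⟩
        show ((c : G ⧸ Qb) ^ i) ^ p ^ k = 1
        rw [← zpow_natCast, ← zpow_mul, mul_comm, zpow_mul, zpow_natCast,
          show (c : G ⧸ Qb) ^ p ^ k = 1 from congrArg Subtype.val hk, one_zpow]
      obtain ⟨g, hg⟩ := exists_conj_le_sylow S₁ hcp
      have h1 : g * (c : G ⧸ Qb) * g⁻¹ ∈ C₁ ⊓ i₁.range := by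
        refine ⟨(inferInstance : C₁.Normal).conj_mem _ c.2 g, ?_⟩
        rw [← hS₁]
        exact hg ⟨_, Subgroup.mem_zpowers _, rfl⟩
      have h2 := hR₁n.conj_mem _ (hCS h1) g⁻¹
      show (c : G ⧸ Qb) ∈ R₁
      rwa [inv_inv, show g⁻¹ * (g * (c : G ⧸ Qb) * g⁻¹) * g = c by group] at h2)
  let O : Subgroup (G ⧸ Qb) := O₀.map C₁.subtype
  have hOmem : ∀ x, x ∈ O ↔ x ∈ C₁ ∧ (orderOf x).Coprime p := by
    intro x
    constructor
    · rintro ⟨y, hy, rfl⟩
      refine ⟨y.2, ?_⟩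
      rw [Subgroup.subtype_apply, Subgroup.orderOf_coe]
      exact (hO₀ y).1 hy
    · rintro ⟨hx, ho⟩
      exact ⟨⟨x, hx⟩, (hO₀ _).2 (by rwa [← Subgroup.orderOf_coe]), rfl⟩
  haveI hOn : O.Normal := ⟨fun x hx g => by
    obtain ⟨hxC, hxo⟩ := (hOmem x).1 hx
    refine (hOmem _).2 ⟨(inferInstance : C₁.Normal).conj_mem x hxC g, ?_⟩
    have : orderOf (g * x * g⁻¹) = orderOf x :=
      (MulAut.conj g).orderOf_eq x
    rwa [this]⟩
  have hsep : ∀ {x : G ⧸ Qb}, x ∈ O → (∃ k : ℕ, x ^ p ^ k = 1) → x = 1 := by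
    intro x hx ⟨k, hk⟩
    exact orderOf_eq_one_iff.1 (Nat.eq_one_of_dvd_coprimes
      (((hOmem x).1 hx).2.pow_right k) dvd_rfl (orderOf_dvd_of_pow_eq_one hk))
  have hrangep : ∀ {x : G ⧸ Qb}, x ∈ i₁.range → ∃ k : ℕ, x ^ p ^ k = 1 := by
    rintro _ ⟨s, rfl⟩
    obtain ⟨k, hk⟩ := hS.to_le (inf_le_left : normalizerIn S R ≤ S) s
    exact ⟨k, by rw [← map_pow]; exact (congrArg i₁ hk).trans (map_one i₁)⟩
  -- the quotient
  let τ : G ⧸ Qb →* (G ⧸ Qb) ⧸ O := QuotientGroup.mk' O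
  have hτ : Function.Surjective τ := QuotientGroup.mk'_surjective O
  have hcls : ∀ s t : ↥(normalizerIn S R),
      τ (i₁ s) = τ (i₁ t) ↔ homExt θ (s : Ω) = homExt θ (t : Ω) := by
    intro s t
    have hsS : (s : Ω) ∈ S := (inf_le_left : normalizerIn S R ≤ S) s.2
    have htS : (t : Ω) ∈ S := (inf_le_left : normalizerIn S R ≤ S) t.2
    have e1 : homExt θ (s : Ω) = homExt θ (t : Ω) ↔ ((t⁻¹ * s : ↥(normalizerIn S R)) : Ω) ∈ Q := by
      rw [← mem_of_homExt_eq_one hE ((inf_le_left : normalizerIn S R ≤ S) (t⁻¹ * s).2),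
        Subgroup.coe_mul, Subgroup.coe_inv, homExt_mul' θ (S.inv_mem htS) hsS,
        homExt_inv' θ htS, inv_mul_eq_one]
      exact eq_comm
    rw [e1, ← hi₁, eq_comm, ← inv_mul_eq_one, ← map_inv, ← map_mul, ← map_inv, ← map_mul]
    constructor
    · intro h
      exact hsep ((QuotientGroup.eq_one_iff _).1 h) (hrangep ⟨_, rfl⟩)
    · intro h
      rw [h, map_one]
  have hsur : ∀ y : ↥(normalizerIn S' R'), ∃ s : ↥(normalizerIn S R),
      homExt θ (s : Ω) = (y : Ω') := fun y => by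
    obtain ⟨x, hx, hxe⟩ := exists_mem_preimageAlong
      (show normalizerIn S' R' ≤ θ.range from fun z hz => hr.ge hz.1) y.2
    exact ⟨⟨x, hpre ▸ hx⟩, hxe⟩
  choose sec hsec using hsur
  let j : ↥(normalizerIn S' R') →* (G ⧸ Qb) ⧸ O := MonoidHom.mk' (fun y => τ (i₁ (sec y)))
    fun a b => by
      rw [← map_mul τ, ← map_mul i₁, hcls, Subgroup.coe_mul,
        homExt_mul' θ ((inf_le_left : normalizerIn S R ≤ S) (sec a).2)
          ((inf_le_left : normalizerIn S R ≤ S) (sec b).2), hsec, hsec, hsec]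
      rfl
  have hj : ∀ (s : ↥(normalizerIn S R)) (y : ↥(normalizerIn S' R')),
      homExt θ (s : Ω) = (y : Ω') → j y = τ (i₁ s) := fun s y h => by
    show τ (i₁ (sec y)) = _
    rw [hcls, hsec, h]
  have hjinj : Function.Injective j := fun a b e => Subtype.ext (by
    rw [← hsec a, ← hsec b, ← hcls]; exact e)
  have hTimg : ∀ s : ↥(normalizerIn S R), homExt θ (s : Ω) ∈ normalizerIn S' R' := fun s => by
    exact ((mem_preimageAlong θ _).1 (hpre.le s.2)).2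
  let TX : Sylow p ((G ⧸ Qb) ⧸ O) := S₁.mapSurjective hτ
  have hTX : (TX : Subgroup ((G ⧸ Qb) ⧸ O)) = j.range := by
    show (S₁ : Subgroup (G ⧸ Qb)).map τ = j.range
    rw [hS₁]
    ext x
    constructor
    · rintro ⟨_, ⟨s, rfl⟩, rfl⟩
      exact ⟨⟨_, hTimg s⟩, hj s _ rfl⟩
    · rintro ⟨y, rfl⟩
      exact ⟨_, ⟨sec y, rfl⟩, rfl⟩
  let RX : Subgroup ((G ⧸ Qb) ⧸ O) := R₁.map τ
  have hRXn : RX.Normal := hR₁n.map τ hτ
  have hRXc : Subgroup.centralizer (RX : Set ((G ⧸ Qb) ⧸ O)) ≤ RX := by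
    intro x hx
    obtain ⟨x, rfl⟩ := hτ x
    have hxC : x ∈ C₁ := fun r hr => by
      have h1 := hx _ ⟨r, hr, rfl⟩
      rw [← map_mul, ← map_mul, eq_comm, ← mul_inv_eq_one, ← map_inv, ← map_mul,
        mul_inv_rev] at h1
      have h2 : x * r * x⁻¹ * r⁻¹ ∈ O := by
        rw [show x * r * x⁻¹ * r⁻¹ = x * r * (x⁻¹ * r⁻¹) by group]
        exact (QuotientGroup.eq_one_iff _).1 h1
      have h3 : x * r * x⁻¹ * r⁻¹ ∈ i₁.range := by
        obtain ⟨a, -, ha⟩ := R₁.mul_mem (hR₁n.conj_mem r hr x) (R₁.inv_mem hr)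
        exact ⟨a, ha⟩
      have h4 := hsep h2 (hrangep h3)
      rw [mul_inv_eq_one, mul_inv_eq_iff_eq_mul] at h4
      exact h4.symm
    obtain ⟨z, hz, o, ho, he⟩ := hdec ⟨x, hxC⟩
    refine ⟨z, hz, ?_⟩
    rw [show x = (z : G ⧸ Qb) * o from congrArg Subtype.val he, map_mul,
      show τ (o : G ⧸ Qb) = 1 from (QuotientGroup.eq_one_iff _).2 ⟨o, ho, rfl⟩, mul_one]
  have hRXO : RX ≤ pCore p ((G ⧸ Qb) ⧸ O) := CfsgLib.Fitting.le_pCore hRXn
    ((((hS.to_le (inf_le_left : normalizerIn S R ≤ S)).to_subgroup _).map i₁).map τ)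
  have hmodel : N'.IsModel p ((G ⧸ Qb) ⧸ O) j := by
    refine ⟨inferInstance, ⟨hjinj, fun P hP φ hφ => ⟨fun hm => ?_, ?_⟩⟩, ⟨TX, hTX⟩,
      ((Subgroup.centralizer_le (show (RX : Set ((G ⧸ Qb) ⧸ O)) ⊆ (pCore p ((G ⧸ Qb) ⧸ O) : Subgroup ((G ⧸ Qb) ⧸ O)) from hRXO)).trans
        hRXc).trans hRXO⟩
    · obtain ⟨-, -, g', hg', hgφ, hgR⟩ := (isMap_normalizerSystem_iff hN').1 (isMap_homFun hm)
      obtain ⟨hPS', f, hf, hrel⟩ := (isMap_factor_iff hE).1 hg'
      set D := preimageAlong θ (P ⊔ R') with hD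
      have hDT : D ≤ normalizerIn S R :=
        hpre ▸ preimageAlong_mono θ (sup_le hP (le_normalizerIn hR'.1))
      have hRD : R ≤ D := preimageAlong_mono θ le_sup_right
      have hfR : f '' (R : Set Ω) = R := image_eq_of_mem hRS hf hRD fun x hx => by
        refine (mem_preimageAlong θ R').2 ⟨hf.mem (hRD hx), ?_⟩
        rw [← hrel x (hRD hx)]
        exact hgR.subset ⟨_, ((mem_preimageAlong θ R').1 hx).2, rfl⟩
      have hfT : ∀ x ∈ D, f x ∈ normalizerIn S R := fun x hx =>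
        hf.mem_normalizerIn hRD ⟨hf.mono hRD, hfR⟩ hx (hDT hx).2
      have hfN : IsMap N D f := (isMap_normalizerSystem_iff hN).2
        ⟨hDT, hfT, f, by rwa [sup_eq_left.2 hRD], fun _ _ => rfl, hfR⟩
      obtain ⟨γ, hγ⟩ := exists_conj_of_isMap hG.2.1 hfN
      refine ⟨τ (π γ), fun y => ?_⟩
      obtain ⟨x, hx, hxe⟩ := exists_mem_preimageAlong (hPS'.trans hr.ge)
        (Subgroup.mem_sup_left y.2 : (y : Ω') ∈ P ⊔ R')
      have e1 := hrel x hx
      rw [hxe, hgφ _ y.2, homFun_coe] at e1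
      rw [hj ⟨f x, hfT x hx⟩ ⟨φ y, hφ y⟩ e1.symm, hj ⟨x, hDT hx⟩ ⟨y, hP y.2⟩ hxe]
      have h2 := hγ x hx
      rw [homExt_apply ι (hfT x hx), homExt_apply ι (hDT hx)] at h2
      show τ (π (ι _)) = τ (π γ) * τ (π (ι _)) * (τ (π γ))⁻¹
      rw [h2]
      simp only [map_mul, map_inv]
    · rintro ⟨γ, hγ⟩
      obtain ⟨γ₁, rfl⟩ := hτ γ
      have hPR : P ⊔ R' ≤ normalizerIn S' R' := sup_le hP (le_normalizerIn hR'.1)
      set D := preimageAlong θ (P ⊔ R') with hD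
      have hDT : D ≤ normalizerIn S R := hpre ▸ preimageAlong_mono θ hPR
      have hRD : R ≤ D := preimageAlong_mono θ le_sup_right
      let D₁ : Subgroup (G ⧸ Qb) := (D.subgroupOf (normalizerIn S R)).map i₁
      let M : Subgroup (G ⧸ Qb) := j.range.comap τ
      have hle1 : (P ⊔ R').subgroupOf (normalizerIn S' R') ≤
          (j.range.comap (MulAut.conj (τ γ₁)).toMonoidHom).comap j := by
        rw [Subgroup.subgroupOf_sup hP (le_normalizerIn hR'.1)]
        refine sup_le (fun y hy => ⟨⟨φ ⟨y, hy⟩, hφ _⟩, hγ ⟨y, hy⟩⟩) fun y hy => ?_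
        obtain ⟨x, hx, hxe⟩ := exists_mem_preimageAlong (hR'.1.trans hr.ge) hy
        obtain ⟨_, ⟨a, -, rfl⟩, ha⟩ := hRXn.conj_mem (j y)
          ⟨i₁ ⟨x, hRT hx⟩, ⟨_, hx, rfl⟩, (hj ⟨x, hRT hx⟩ y hxe).symm⟩ (τ γ₁)
        exact ⟨⟨_, hTimg a⟩, (hj a _ rfl).trans ha⟩
      have hconj : ∀ z ∈ D₁, γ₁ * z * γ₁⁻¹ ∈ M := by
        rintro _ ⟨s, hs, rfl⟩
        obtain ⟨-, hsP⟩ := (mem_preimageAlong θ _).1 hs
        have := hle1 (show (⟨_, hTimg s⟩ : ↥(normalizerIn S' R')) ∈ _ from hsP)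
        show τ (γ₁ * i₁ s * γ₁⁻¹) ∈ j.range
        rw [map_mul, map_mul, map_inv, ← hj s ⟨_, hTimg s⟩ rfl]
        exact this
      have hS₁M : (S₁ : Subgroup (G ⧸ Qb)) ≤ M := by
        rw [hS₁]
        rintro _ ⟨s, rfl⟩
        exact ⟨⟨_, hTimg s⟩, hj s _ rfl⟩
      let D₂ : Subgroup M := (D₁.map (MulAut.conj γ₁).toMonoidHom).subgroupOf M
      have hD₂ : IsPGroup p D₂ :=
        ((((hS.to_le (inf_le_left : normalizerIn S R ≤ S)).to_subgroup _).map i₁).map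
          (MulAut.conj γ₁).toMonoidHom).comap_of_injective _ M.subtype_injective
      obtain ⟨m, hm⟩ := exists_conj_le_sylow (S₁.subtype hS₁M) hD₂
      obtain ⟨t, ht⟩ : ∃ t, τ (m : G ⧸ Qb) = τ (i₁ t) := by
        obtain ⟨y, hy⟩ := m.2
        exact ⟨sec y, hy.symm⟩
      obtain ⟨g, hg⟩ := hπ ((i₁ t)⁻¹ * m * γ₁)
      have hclass : τ (π g) = τ γ₁ := by
        rw [hg, map_mul, map_mul, map_inv, ht, inv_mul_cancel, one_mul]
      have hval : ∀ x ∈ D, ∃ w : ↥(normalizerIn S R), ι w = g * homExt ι x * g⁻¹ := by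
        intro x hx
        have h1 : γ₁ * i₁ ⟨x, hDT hx⟩ * γ₁⁻¹ ∈ M := hconj _ ⟨_, hx, rfl⟩
        have h2 := hm ⟨⟨_, h1⟩, ⟨_, ⟨_, hx, rfl⟩, rfl⟩, rfl⟩
        have h3 : (m : G ⧸ Qb) * (γ₁ * i₁ ⟨x, hDT hx⟩ * γ₁⁻¹) * (m : G ⧸ Qb)⁻¹ ∈
            (S₁ : Subgroup (G ⧸ Qb)) := h2
        rw [hS₁] at h3
        obtain ⟨s, hs⟩ := h3
        have h4 : π (g * homExt ι x * g⁻¹) = π (ι (t⁻¹ * s * t)) := by
          rw [homExt_apply ι (hDT hx), map_mul, map_mul, map_inv, hg]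
          show _ = i₁ (t⁻¹ * s * t)
          rw [map_mul i₁, map_mul i₁, map_inv i₁, hs]
          show _ * i₁ _ * _ = _
          group
        obtain ⟨q, hq, hqe⟩ := QuotientGroup.eq.1 h4.symm
        exact ⟨t⁻¹ * s * t * q, by rw [map_mul, hqe, mul_inv_cancel_left]⟩
      choose! w hw using hval
      have hwN : IsMap N D (fun x => (w x : Ω)) :=
        isMap_of_conj hG.2.1 hDT (fun x _ => (w x).2) (g := g) fun x hx => by
          rw [homExt_apply ι (w x).2]; exact hw x hx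
      obtain ⟨-, -, f, hf, hfw, hfR⟩ := (isMap_normalizerSystem_iff hN).1 hwN
      have hfD : IsMap F D f := hf.mono le_sup_left
      obtain ⟨f', hf', hrel⟩ := exists_factor_map hE (hPR.trans inf_le_left) hfD
        (hQmem hfD (le_preimageAlong hE _))
      rw [mem_hom_iff]
      refine (isMap_normalizerSystem_iff hN').2 ⟨hP, fun y hy => ?_, f', hf', fun y hy => ?_, ?_⟩
      · rw [homFun_apply φ hy]; exact hφ _
      · obtain ⟨x, hx, hxe⟩ := exists_mem_preimageAlong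
          (hPR.trans (fun z hz => hr.ge hz.1)) (Subgroup.mem_sup_left hy : y ∈ P ⊔ R')
        rw [homFun_apply φ hy]
        refine (congrArg f' hxe.symm).trans ?_
        rw [hrel x hx, hfw x hx]
        have h5 : j ⟨_, hTimg (w x)⟩ = j ⟨φ ⟨y, hy⟩, hφ _⟩ := by
          rw [hj (w x) _ rfl, hγ ⟨y, hy⟩, hj ⟨x, hDT hx⟩ ⟨y, hP hy⟩ hxe, ← hclass]
          show τ (π (ι (w x))) = _
          rw [hw x hx, homExt_apply ι (hDT hx)]
          simp only [map_mul, map_inv]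
          rfl
        exact congrArg Subtype.val (hjinj h5)
      · refine image_eq_of_mem hR'.1 hf' le_sup_right fun y hy => ?_
        obtain ⟨x, hx, rfl⟩ := exists_mem_preimageAlong (hR'.1.trans hr.ge) hy
        rw [hrel x (hRD hx)]
        exact ((mem_preimageAlong θ R').1 (hfR.subset ⟨x, hx, rfl⟩)).2
  have hN'p : IsPGroup p ↥(normalizerIn S' R') := hS'.to_le inf_le_left
  have hcon : N'.IsConstrained p :=
    isConstrained_of_model hN'p N' j hmodel.2.1 TX hTX hmodel.2.2.2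
  obtain ⟨e, -⟩ := exists_equiv_of_models hN'p hcon hL hmodel
  exact hfree R hRfn hRc N hN G ι hG (CfsgLib.Offender.involves_of_surjective
    (τ.comp π) (hτ.comp hπ) (CfsgLib.Offender.involves_of_injective e.toMonoidHom e.injective hinv))

end CfsgLib.Fusion
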