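import Mathlib
import Cfsg.Agent.Lib.Fusion.FactorFree

/-!
The local models of the fusion system of a finite group are sections of the group.
-/

set_option autoImplicit false

namespace CfsgLib.Fusion

open Cfsg Cfsg.FusionSystem

universe u

variable {G : Type u} [Group G] [Finite G] {p : ℕ} [Fact p.Prime]

theorem isPGroup_zpowers_of_pow {H : Type*} [Group H] {x : H} {k : ℕ} (hk : x ^ p ^ k = 1) :
    IsPGroup p (Subgroup.zpowers x) := by
  rintro ⟨_, i, rfl⟩
  refine ⟨k, Subtype.ext ?_⟩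
  show (x ^ i) ^ p ^ k = 1
  rw [← zpow_natCast, ← zpow_mul, mul_comm, zpow_mul, zpow_natCast, hk, one_zpow]

/-- A `p`-element commuting with a maximal `p`-subgroup of a subgroup lies in it. -/
theorem mem_of_commute_of_card_max {C Z : Subgroup G} (hZC : Z ≤ C) (hZ : IsPGroup p Z)
    (hmax : ∀ T : Subgroup G, T ≤ C → IsPGroup p T → Nat.card T ≤ Nat.card Z) {x : G} (hxC : x ∈ C)
    (hxp : ∃ k : ℕ, x ^ p ^ k = 1) (hx : x ∈ Subgroup.normalizer (Z : Set G)) : x ∈ Z := by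
  obtain ⟨k, hk⟩ := hxp
  have h1 : IsPGroup p (Subgroup.zpowers x ⊔ Z : Subgroup G) :=
    (isPGroup_zpowers_of_pow hk).to_sup_of_normal_right' hZ (Subgroup.zpowers_le.2 hx)
  have h2 := hmax _ (sup_le (Subgroup.zpowers_le.2 hxC) hZC) h1
  rw [Subgroup.eq_of_le_of_card_ge le_sup_right h2]
  exact Subgroup.mem_sup_left (Subgroup.mem_zpowers x)

/-- At a fully normalized centric subgroup, the normalizer modulo the elements of order prime to
`p` of the centralizer is a model. -/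
theorem exists_group_model (S : Sylow p G) {Q : Subgroup G}
    (hQn : (groupFusionSystem (S : Subgroup G)).IsFullyNormalized Q)
    (hQc : (groupFusionSystem (S : Subgroup G)).IsCentric Q)
    {N : FusionSystem (normalizerIn (S : Subgroup G) Q)}
    (hN : (groupFusionSystem (S : Subgroup G)).IsNormalizerSystem Q N) :
    ∃ (O : Subgroup ↥(Subgroup.normalizer (Q : Set G))) (_ : O.Normal)
      (ι : ↥(normalizerIn (S : Subgroup G) Q) →* ↥(Subgroup.normalizer (Q : Set G)) ⧸ O),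
      N.IsModel p (↥(Subgroup.normalizer (Q : Set G)) ⧸ O) ι ∧
        ∀ x ∈ O, (x : G) ∈ Subgroup.centralizer (Q : Set G) ∧ (orderOf x).Coprime p := by
  set NQ := Subgroup.normalizer (Q : Set G) with hNQ
  have hSp : IsPGroup p (S : Subgroup G) := S.isPGroup'
  have hQS : Q ≤ S := hQn.1
  have hQp : IsPGroup p Q := hSp.to_le hQS
  have hTN : normalizerIn (S : Subgroup G) Q ≤ NQ := inf_le_right
  have hTp : IsPGroup p (normalizerIn (S : Subgroup G) Q) := hSp.to_le inf_le_left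
  have hQT : Q ≤ normalizerIn (S : Subgroup G) Q := le_normalizerIn hQS
  -- the centralizer
  have hmaxC := (isFullyCentralized_group_iff S hQS).1
    (isFullyCentralized_of_isFullyNormalized hSp (isSaturated_group S) hQn)
  have hZQ : centralizerIn (S : Subgroup G) Q ≤ Q := hQc.2 Q (isConj_refl hQS)
  have hpel : ∀ x ∈ Subgroup.centralizer (Q : Set G), (∃ k : ℕ, x ^ p ^ k = 1) → x ∈ Q :=
    fun x hx hxp => hZQ (mem_of_commute_of_card_max (C := Subgroup.centralizer (Q : Set G))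
      inf_le_right (hSp.to_le inf_le_left) hmaxC hx hxp
      ((Subgroup.centralizer_le_normalizer _) (Subgroup.centralizer_le (show
        ((centralizerIn (S : Subgroup G) Q : Subgroup G) : Set G) ⊆ Q from hZQ) hx)))
  let CN : Subgroup NQ := (Subgroup.centralizer (Q : Set G)).subgroupOf NQ
  haveI hCNn : CN.Normal := Subgroup.normal_subgroupOf_of_le_normalizer fun g hg => by
    rw [Subgroup.mem_normalizer_iff]
    have key : ∀ g ∈ NQ, ∀ x ∈ Subgroup.centralizer (Q : Set G),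
        g * x * g⁻¹ ∈ Subgroup.centralizer (Q : Set G) := by
      intro g hg x hx q hq
      have h1 := hx _ (conj_mem_of_mem_normalizer (NQ.inv_mem hg) hq)
      calc q * (g * x * g⁻¹) = g * ((g⁻¹ * q * g⁻¹⁻¹) * x) * g⁻¹ := by group
        _ = g * (x * (g⁻¹ * q * g⁻¹⁻¹)) * g⁻¹ := by rw [h1]
        _ = g * x * g⁻¹ * q := by group
    refine fun x => ⟨key g hg x, fun h => ?_⟩
    have := key g⁻¹ (NQ.inv_mem hg) _ h
    simpa [mul_assoc] using this
  let QN : Subgroup NQ := Q.subgroupOf NQ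
  haveI hQNn : QN.Normal :=
    (Subgroup.normal_subgroupOf_iff_le_normalizer Subgroup.le_normalizer).2 le_rfl
  have hQNp : IsPGroup p QN := hQp.comap_of_injective _ NQ.subtype_injective
  obtain ⟨O₀, hO₀, hdec⟩ := exists_coprime_complement (QN.subgroupOf CN)
    (fun z hz => Subgroup.mem_center_iff.2 fun c => Subtype.ext (Subtype.ext
      ((c.2 : ((c : NQ) : G) ∈ Subgroup.centralizer (Q : Set G)) _ hz).symm))
    (hQNp.comap_of_injective _ CN.subtype_injective)
    (fun c ⟨k, hk⟩ => hpel _ c.2 ⟨k, congrArg (fun c : CN => ((c : NQ) : G)) hk⟩)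
  let O : Subgroup NQ := O₀.map CN.subtype
  have hOmem : ∀ x, x ∈ O ↔ x ∈ CN ∧ (orderOf x).Coprime p := by
    intro x
    constructor
    · rintro ⟨y, hy, rfl⟩
      refine ⟨y.2, ?_⟩
      rw [Subgroup.subtype_apply, Subgroup.orderOf_coe]
      exact (hO₀ y).1 hy
    · rintro ⟨hx, ho⟩
      exact ⟨⟨x, hx⟩, (hO₀ _).2 (by rwa [← Subgroup.orderOf_coe]), rfl⟩
  haveI hOn : O.Normal := ⟨fun x hx g => by
    obtain ⟨hxC, hxo⟩ := (hOmem x).1 hx
    refine (hOmem _).2 ⟨hCNn.conj_mem x hxC g, ?_⟩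
    rw [show orderOf (g * x * g⁻¹) = orderOf x from (MulAut.conj g).orderOf_eq x]
    exact hxo⟩
  have hsep : ∀ {x : NQ}, x ∈ O → (∃ k : ℕ, x ^ p ^ k = 1) → x = 1 := by
    intro x hx ⟨k, hk⟩
    exact orderOf_eq_one_iff.1 (Nat.eq_one_of_dvd_coprimes
      (((hOmem x).1 hx).2.pow_right k) dvd_rfl (orderOf_dvd_of_pow_eq_one hk))
  let τ : NQ →* NQ ⧸ O := QuotientGroup.mk' O
  have hτ : Function.Surjective τ := QuotientGroup.mk'_surjective O
  let inc : ↥(normalizerIn (S : Subgroup G) Q) →* NQ := Subgroup.inclusion hTN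
  let ι : ↥(normalizerIn (S : Subgroup G) Q) →* NQ ⧸ O := τ.comp inc
  have hincp : ∀ s, ∃ k : ℕ, inc s ^ p ^ k = 1 := fun s => by
    obtain ⟨k, hk⟩ := hTp s
    exact ⟨k, by rw [← map_pow, hk, map_one]⟩
  have hinj : Function.Injective ι := (injective_iff_map_eq_one ι).2 fun s hs => by
    have h1 := hsep ((QuotientGroup.eq_one_iff _).1 hs) (hincp s)
    exact Subgroup.inclusion_injective hTN (h1.trans (map_one inc).symm)
  obtain ⟨T₀, hT₀⟩ := (exists_sylow_eq_iff hTp hTN).2 ((isFullyNormalized_group_iff S hQS).1 hQn)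
  have hT₀' : (T₀ : Subgroup NQ) = inc.range := by
    rw [hT₀, Subgroup.inclusion_range]
  let T : Sylow p (NQ ⧸ O) := T₀.mapSurjective hτ
  have hT : (T : Subgroup (NQ ⧸ O)) = ι.range := by
    show (T₀ : Subgroup NQ).map τ = (τ.comp inc).range
    rw [MonoidHom.range_comp, hT₀']
  refine ⟨O, hOn, ι, ⟨inferInstance, ⟨hinj, fun P hP φ hφ => ⟨fun hm => ?_, ?_⟩⟩, ⟨T, hT⟩, ?_⟩,
    fun x hx => ⟨((hOmem x).1 hx).1, ((hOmem x).1 hx).2⟩⟩
  · obtain ⟨-, -, g, hg, hgφ, hgQ⟩ := (isMap_normalizerSystem_iff hN).1 (isMap_homFun hm)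
    obtain ⟨-, -, γ, hγ⟩ := isMap_group_iff.1 hg
    have hγN : γ ∈ NQ := mem_normalizer_of_conj_mem hQS fun q hq => by
      rw [← hγ q (Subgroup.mem_sup_right hq)]
      exact hgQ.subset ⟨q, hq, rfl⟩
    refine ⟨τ ⟨γ, hγN⟩, fun y => ?_⟩
    have e : inc ⟨φ y, hφ y⟩ = ⟨γ, hγN⟩ * inc ⟨y, hP y.2⟩ * (⟨γ, hγN⟩ : NQ)⁻¹ := by
      refine Subtype.ext ?_
      show φ y = γ * (y : G) * γ⁻¹
      rw [← hγ y (Subgroup.mem_sup_left y.2), hgφ y y.2, homFun_coe]
    show τ (inc _) = τ _ * τ (inc _) * (τ _)⁻¹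
    rw [e, map_mul, map_mul, map_inv]
  · rintro ⟨γ, hγ⟩
    obtain ⟨n, rfl⟩ := hτ γ
    set D := P ⊔ Q with hD
    have hDT : D ≤ normalizerIn (S : Subgroup G) Q := sup_le hP hQT
    let M : Subgroup NQ := ι.range.comap τ
    have hle : D.subgroupOf (normalizerIn (S : Subgroup G) Q) ≤
        ((ι.range.comap (MulAut.conj (τ n)).toMonoidHom).comap ι) := by
      rw [hD, Subgroup.subgroupOf_sup hP hQT]
      refine sup_le (fun y hy => ⟨⟨φ ⟨y, hy⟩, hφ _⟩, hγ ⟨y, hy⟩⟩) fun y hy => ?_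
      have hq : (n : G) * (y : G) * (n : G)⁻¹ ∈ Q := conj_mem_of_mem_normalizer n.2 hy
      exact ⟨⟨_, hQT hq⟩, rfl⟩
    let D₁ : Subgroup NQ := (D.subgroupOf NQ).map (MulAut.conj n).toMonoidHom
    have hD₁p : IsPGroup p D₁ :=
      (((hTp.to_le hDT)).comap_of_injective _ NQ.subtype_injective).map _
    have hD₁M : D₁ ≤ M := by
      rintro _ ⟨z, hz, rfl⟩
      have := hle (show (⟨z, hDT hz⟩ : ↥(normalizerIn (S : Subgroup G) Q)) ∈ _ from hz)
      show τ (n * z * n⁻¹) ∈ ι.range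
      rw [map_mul, map_mul, map_inv]
      exact this
    have hT₀M : (T₀ : Subgroup NQ) ≤ M := by
      rw [hT₀']
      rintro _ ⟨s, rfl⟩
      exact ⟨s, rfl⟩
    obtain ⟨m, hm⟩ := exists_conj_le_sylow (T₀.subtype hT₀M)
      (hD₁p.comap_of_injective M.subtype M.subtype_injective)
    obtain ⟨t, ht⟩ := m.2
    set n' : NQ := (inc t)⁻¹ * m * n with hn'
    have hclass : τ n' = τ n := by
      rw [hn', map_mul, map_mul, map_inv, ← show ι t = τ m from ht]
      show (τ (inc t))⁻¹ * τ (inc t) * τ n = τ n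
      rw [inv_mul_cancel, one_mul]
    have hval : ∀ x ∈ D, ∃ w : ↥(normalizerIn (S : Subgroup G) Q),
        (w : G) = (n' : G) * x * (n' : G)⁻¹ := by
      intro x hx
      have hz : n * ⟨x, hTN (hDT hx)⟩ * n⁻¹ ∈ D₁ := ⟨⟨x, hTN (hDT hx)⟩, hx, rfl⟩
      have h3 : (m : NQ) * (n * ⟨x, hTN (hDT hx)⟩ * n⁻¹) * (m : NQ)⁻¹ ∈ inc.range :=
        hT₀' ▸ hm ⟨⟨_, hD₁M hz⟩, hz, rfl⟩
      obtain ⟨s, hs⟩ := h3
      refine ⟨t⁻¹ * s * t, ?_⟩
      have e : inc (t⁻¹ * s * t) = n' * ⟨x, hTN (hDT hx)⟩ * n'⁻¹ := by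
        rw [map_mul, map_mul, map_inv, hs, hn']
        group
      exact congrArg Subtype.val e
    choose! w hw using hval
    rw [mem_hom_iff]
    refine (isMap_normalizerSystem_iff hN).2 ⟨hP, fun y hy => by rw [homFun_apply φ hy]; exact hφ _,
      fun x => (n' : G) * x * (n' : G)⁻¹, isMap_group_of_conj _ (hDT.trans inf_le_left)
        (fun x hx => hw x hx ▸ (w x).2.1), fun y hy => ?_, ?_⟩
    · rw [homFun_apply φ hy]
      show (n' : G) * y * (n' : G)⁻¹ = φ ⟨y, hy⟩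
      have h5 : ι (w y) = ι ⟨φ ⟨y, hy⟩, hφ _⟩ := by
        rw [hγ ⟨y, hy⟩, ← hclass]
        have e : inc (w y) = n' * inc ⟨y, hP hy⟩ * n'⁻¹ :=
          Subtype.ext (hw y (Subgroup.mem_sup_left hy))
        show τ (inc (w y)) = _
        rw [e, map_mul, map_mul, map_inv]
        rfl
      rw [← hw y (Subgroup.mem_sup_left hy), hinj h5]
    · exact image_eq_of_mem hQS (isMap_group_of_conj (S := (S : Subgroup G)) (n' : G) hQS
        fun q hq => hQS (conj_mem_of_mem_normalizer n'.2 hq)) le_rfl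
        fun q hq => conj_mem_of_mem_normalizer n'.2 hq
  · intro x hx
    obtain ⟨x, rfl⟩ := hτ x
    have hQb : ((QN.map τ : Subgroup (NQ ⧸ O))) ≤ pCore p (NQ ⧸ O) :=
      CfsgLib.Fitting.le_pCore (hQNn.map τ hτ) (hQNp.map τ)
    have hxC : x ∈ CN := fun q hq => by
      let q' : NQ := ⟨q, Subgroup.le_normalizer hq⟩
      have h1 := hx _ (hQb ⟨q', hq, rfl⟩)
      have h2 : x * q' * x⁻¹ * q'⁻¹ ∈ O := by
        refine (QuotientGroup.eq_one_iff _).1 ?_
        show τ (x * q' * x⁻¹ * q'⁻¹) = 1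
        rw [map_mul, map_mul, map_mul, map_inv, map_inv, ← h1]
        group
      have hq' : q' ∈ QN := hq
      obtain ⟨k, hk⟩ := hQNp ⟨_, QN.mul_mem (hQNn.conj_mem q' hq' x) (QN.inv_mem hq')⟩
      have h4 := hsep h2 ⟨k, congrArg Subtype.val hk⟩
      rw [mul_inv_eq_one, mul_inv_eq_iff_eq_mul] at h4
      exact (congrArg Subtype.val h4).symm
    obtain ⟨z, hz, o, ho, he⟩ := hdec ⟨x, hxC⟩
    refine hQb ⟨z, hz, ?_⟩
    rw [show x = (z : NQ) * o from congrArg Subtype.val he, map_mul,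
      show τ (o : NQ) = 1 from (QuotientGroup.eq_one_iff _).2 ⟨o, ho, rfl⟩, mul_one]

/-- A group without a section `H` has a fusion system free of `H`. -/
theorem isSectionFree_group {H : Type*} [Group H] (S : Sylow p G) (h : ¬ Cfsg.Involves H G) :
    (groupFusionSystem (S : Subgroup G)).IsSectionFree p H := by
  intro Q hQn hQc N hN L _ κ hL hinv
  obtain ⟨O, hO, ι, hι, -⟩ := exists_group_model S hQn hQc hN
  have := hι.1
  obtain ⟨T, hT⟩ := hι.2.2.1
  have hTp : IsPGroup p (normalizerIn (S : Subgroup G) Q) := S.isPGroup'.to_le inf_le_left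
  obtain ⟨e, -⟩ := exists_equiv_of_models hTp
    (isConstrained_of_model hTp N ι hι.2.1 T hT hι.2.2.2) hL hι
  exact h (CfsgLib.Offender.involves_of_injective _
    (Subgroup.normalizer (Q : Set G)).subtype_injective
    (CfsgLib.Offender.involves_of_surjective _ (QuotientGroup.mk'_surjective O)
      (CfsgLib.Offender.involves_of_injective e.toMonoidHom e.injective hinv)))

end CfsgLib.Fusion
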