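import Mathlib
import Cfsg.Agent.Lib.Fusion.CenterPowers
import Cfsg.Agent.Lib.Fusion.ThompsonControl
import Cfsg.Agent.Lib.ZJ.Replacement
import Cfsg.Agent.Lib.ZJ.Core
import Cfsg.Agent.Lib.Baer.Basic
import Cfsg.Agent.Lib.Offender.Involves
import Cfsg.Agent.Lib.Fusion.Group
import Cfsg.Agent.Lib.Fusion.GroupModel

/-!
Glauberman's theorem: the normalizer of the Thompson subgroup controls the centre, for odd `p`
and for `S₄`-free groups.
-/

set_option autoImplicit false

namespace CfsgLib.Fusion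

open Cfsg Cfsg.FusionSystem MulAction
open scoped commutatorElement

universe u

variable {p : ℕ} [Fact p.Prime]

section Orbit

/-- An orbit of more than one point of a `p`-group splits into `p` translates. -/
theorem exists_translates {H : Type*} [Group H] [Finite H] (hH : IsPGroup p H) {Z : Type*}
    [MulAction H Z] [Fintype Z] [DecidableEq Z] {q₀ : Z} (hq₀ : ¬ ∀ h : H, h • q₀ = q₀)
    (O : Finset Z) (hO : ∀ q, q ∈ O ↔ q ∈ orbit H q₀) :
    ∃ M : Subgroup H, M.Normal ∧ M.index = p ∧ stabilizer H q₀ ≤ M ∧ ∀ g : H, g ∉ M →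
      ∃ F₀ : Finset Z, (∀ m ∈ M, ∀ q ∈ F₀, m • q ∈ F₀) ∧ O.card = p * F₀.card ∧
        ∀ {A : Type u} [CommMonoid A] (f : Z → A),
          ∏ q ∈ O, f q = ∏ k ∈ Finset.range p, ∏ q ∈ F₀, f (g ^ k • q) := by
  classical
  have hp := (Fact.out : p.Prime)
  obtain ⟨n, hn⟩ := hH.exists_card_eq
  obtain ⟨a, ha⟩ := (hH.to_subgroup (stabilizer H q₀)).exists_card_eq
  have hne : stabilizer H q₀ ≠ ⊤ := fun h => hq₀ fun s =>
    mem_stabilizer_iff.1 (h ▸ Subgroup.mem_top s)
  have han : a < n := by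
    refine (Nat.pow_lt_pow_iff_right hp.one_lt).1 ?_
    rw [← ha, ← hn]
    exact lt_of_le_of_ne (Subgroup.card_le_card_group _) fun h => hne (Subgroup.eq_top_of_card_eq _ h)
  obtain ⟨M, hMc, hMP⟩ := Sylow.exists_subgroup_card_pow_prime_le p (n := a) (m := n - 1)
    (by rw [hn]; exact pow_dvd_pow p (Nat.sub_le n 1)) (stabilizer H q₀) ha (by omega)
  have hMi : M.index = p := by
    have h1 := M.card_mul_index
    rw [hMc, hn] at h1
    refine Nat.eq_of_mul_eq_mul_left (Nat.pow_pos hp.pos (n := n - 1)) ?_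
    rw [h1, ← pow_succ, Nat.sub_add_cancel (by omega)]
  have hMn : M.Normal := Subgroup.normal_of_index_eq_minFac_card
    (by rw [hMi, hn, Nat.pow_minFac (by omega), hp.minFac_eq])
  refine ⟨M, hMn, hMi, hMP, fun g hg => ?_⟩
  let F₀ : Finset Z := Finset.univ.filter fun q => ∃ m ∈ M, m • q₀ = q
  have hF : ∀ q, q ∈ F₀ ↔ ∃ m ∈ M, m • q₀ = q := fun q => by simp [F₀]
  have hc : Nat.card (H ⧸ M) = p := hMi
  have hgo : orderOf (g : H ⧸ M) = p := by
    refine orderOf_eq_prime ?_ ?_
    · rw [← hc]; exact pow_card_eq_one'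
    · rwa [Ne, QuotientGroup.eq_one_iff]
  let Fk : ℕ → Finset Z := fun k => F₀.image fun q => g ^ k • q
  have hdisj : (Finset.range p : Set ℕ).PairwiseDisjoint Fk := by
    intro k hk l hl hkl
    rw [Function.onFun, Finset.disjoint_left]
    intro q hqk hql
    simp only [Fk, Finset.mem_image, hF] at hqk hql
    obtain ⟨_, ⟨m, hm, rfl⟩, rfl⟩ := hqk
    obtain ⟨_, ⟨m', hm', rfl⟩, e⟩ := hql
    rw [smul_smul, smul_smul] at e
    have h1 : (g ^ k * m)⁻¹ * (g ^ l * m') ∈ M := hMP (by
      rw [mem_stabilizer_iff, mul_smul, e, inv_smul_smul])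
    have h2 : ((g ^ k * m : H) : H ⧸ M) = ((g ^ l * m' : H) : H ⧸ M) := QuotientGroup.eq.2 h1
    rw [QuotientGroup.mk_mul, QuotientGroup.mk_mul, (QuotientGroup.eq_one_iff m).2 hm,
      (QuotientGroup.eq_one_iff m').2 hm', mul_one, mul_one] at h2
    refine hkl (pow_injOn_Iio_orderOf (x := (g : H ⧸ M)) ?_ ?_ h2)
    · rw [Set.mem_Iio, hgo]; exact Finset.mem_range.1 hk
    · rw [Set.mem_Iio, hgo]; exact Finset.mem_range.1 hl
  have hU : O = (Finset.range p).biUnion Fk := by
    ext q
    simp only [Fk, Finset.mem_biUnion, Finset.mem_image, hF, hO]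
    constructor
    · rintro ⟨s, rfl⟩
      have htop : Subgroup.zpowers (g : H ⧸ M) = ⊤ :=
        Subgroup.eq_top_of_card_eq _ (by rw [Nat.card_zpowers, hgo, hc])
      have hs : (s : H ⧸ M) ∈ Subgroup.zpowers (g : H ⧸ M) := htop ▸ Subgroup.mem_top _
      rw [mem_zpowers_iff_mem_range_orderOf, hgo, Finset.mem_image] at hs
      obtain ⟨k, hk, e⟩ := hs
      refine ⟨k, hk, _, ⟨(g ^ k)⁻¹ * s, QuotientGroup.eq.1 (by rw [← e]; rfl), rfl⟩, ?_⟩
      rw [smul_smul, mul_inv_cancel_left]
    · rintro ⟨k, -, _, ⟨m, -, rfl⟩, rfl⟩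
      exact ⟨g ^ k * m, mul_smul _ _ _⟩
  refine ⟨F₀, fun m hm q hq => ?_, ?_, fun f => ?_⟩
  · obtain ⟨m', hm', rfl⟩ := (hF q).1 hq
    exact (hF _).2 ⟨m * m', M.mul_mem hm hm', mul_smul _ _ _⟩
  · rw [hU, Finset.card_biUnion hdisj, Finset.sum_congr rfl (g := fun _ => F₀.card)
      (fun k _ => Finset.card_image_of_injective _ (MulAction.injective _)), Finset.sum_const,
      Finset.card_range, smul_eq_mul]
  · rw [hU, Finset.prod_biUnion hdisj]
    exact Finset.prod_congr rfl fun k _ =>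
      Finset.prod_image fun x _ y _ e => MulAction.injective _ e

end Orbit

section Offender

variable {G : Type u} [Group G]

/-- A quadratic offender on the subgroup `V`. -/
def IsOffender (V A : Subgroup G) : Prop :=
  ⁅⁅V, A⁆, A⁆ = ⊥ ∧ ¬ A ≤ Subgroup.centralizer (V : Set G) ∧
    Nat.card V * Nat.card ↥(A ⊓ Subgroup.centralizer (V : Set G)) ≤
      Nat.card ↥(V ⊓ Subgroup.centralizer (A : Set G)) * Nat.card A

/-- A minimal quadratic offender on `V`. -/
def IsSmall (V A : Subgroup G) : Prop :=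
  IsOffender V A ∧ ∀ H < A, ¬ IsOffender V H

/-- The join of the minimal offenders in `R`. -/
def smallJoin (V R : Subgroup G) : Subgroup G := sSup {A | A ≤ R ∧ IsSmall V A}

theorem map_centralizer_equiv (e : G ≃* G) (A : Subgroup G) :
    (Subgroup.centralizer (A : Set G)).map e.toMonoidHom =
      Subgroup.centralizer ((A.map e.toMonoidHom : Subgroup G) : Set G) := by
  ext x
  constructor
  · rintro ⟨y, hy, rfl⟩ _ ⟨a, ha, rfl⟩
    show e a * e y = e y * e a
    rw [← map_mul, ← map_mul, hy a ha]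
  · intro hx
    refine ⟨e.symm x, fun a ha => e.injective ?_, e.apply_symm_apply x⟩
    rw [map_mul, map_mul, e.apply_symm_apply]
    exact hx _ ⟨a, ha, rfl⟩

theorem IsOffender.map {V A : Subgroup G} (h : IsOffender V A) (e : G ≃* G)
    (hV : V.map e.toMonoidHom = V) : IsOffender V (A.map e.toMonoidHom) := by
  have hinj : Function.Injective e.toMonoidHom := e.injective
  have hC : (Subgroup.centralizer (V : Set G)).map e.toMonoidHom =
      Subgroup.centralizer (V : Set G) := by rw [map_centralizer_equiv, hV]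
  obtain ⟨h1, h2, h3⟩ := h
  refine ⟨?_, fun hle => h2 ?_, ?_⟩
  · rw [← hV, ← Subgroup.map_commutator, ← Subgroup.map_commutator, h1, Subgroup.map_bot]
  · rwa [← Subgroup.map_le_map_iff_of_injective hinj, hC]
  · rw [← hC, ← Subgroup.map_inf _ _ _ hinj, ← map_centralizer_equiv,
      show V ⊓ (Subgroup.centralizer (A : Set G)).map e.toMonoidHom =
        (V ⊓ Subgroup.centralizer (A : Set G)).map e.toMonoidHom by
          rw [Subgroup.map_inf _ _ _ hinj, hV],
      Subgroup.card_map_of_injective hinj, Subgroup.card_map_of_injective hinj,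
      Subgroup.card_map_of_injective hinj]
    exact h3

theorem map_conj_eq_self {V : Subgroup G} (hV : V.Normal) (g : G) :
    V.map (MulAut.conj g).toMonoidHom = V :=
  Subgroup.mem_normalizer_iff_map_conj_eq.1
    (Subgroup.normalizer_eq_top_iff.2 hV ▸ Subgroup.mem_top g)

theorem IsSmall.map_conj {V A : Subgroup G} (h : IsSmall V A) (hV : V.Normal) (g : G) :
    IsSmall V (A.map (MulAut.conj g).toMonoidHom) := by
  refine ⟨h.1.map _ (map_conj_eq_self hV g), fun H hH hoff => ?_⟩
  refine h.2 (H.map (MulAut.conj g⁻¹).toMonoidHom) ?_ (hoff.map _ (map_conj_eq_self hV g⁻¹))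
  have h1 : A = (A.map (MulAut.conj g).toMonoidHom).map (MulAut.conj g⁻¹).toMonoidHom := by
    rw [Subgroup.map_map]
    ext x
    constructor
    · intro hx; exact ⟨x, hx, by simp [mul_assoc]⟩
    · rintro ⟨y, hy, rfl⟩; simpa [mul_assoc] using hy
  rw [h1]
  exact (Subgroup.map_lt_map_iff_of_injective (MulAut.conj g⁻¹).injective).2 hH

theorem smallJoin_le (V R : Subgroup G) : smallJoin V R ≤ R := sSup_le fun _ h => h.1

theorem map_smallJoin_le {V R R' : Subgroup G} (hV : V.Normal) (g : G)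
    (h : (smallJoin V R).map (MulAut.conj g).toMonoidHom ≤ R') :
    (smallJoin V R).map (MulAut.conj g).toMonoidHom ≤ smallJoin V R' := by
  rw [Subgroup.map_le_iff_le_comap] at h ⊢
  refine sSup_le fun A hA => ?_
  rw [← Subgroup.map_le_iff_le_comap]
  refine le_sSup ⟨?_, hA.2.map_conj hV g⟩
  rw [Subgroup.map_le_iff_le_comap]
  exact (le_sSup hA : A ≤ smallJoin V R).trans h

end Offender

section Four

variable {G : Type u} [Group G] [Finite G]

/-- A transvection outside `O₂` of the group it induces gives an `S₄`-section. -/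
theorem involves_or_normal_of_transvection {V : Subgroup G} (hVn : V.Normal) (hV2 : IsPGroup 2 V)
    (hVc : ∀ x ∈ V, ∀ y ∈ V, x * y = y * x) {a : G} (ha : a ∉ Subgroup.centralizer (V : Set G))
    (ha2 : a ^ 2 ∈ Subgroup.centralizer (V : Set G))
    (hidx : Nat.card V ≤ 2 * Nat.card ↥(V ⊓ Subgroup.centralizer {a})) :
    Cfsg.Involves (Equiv.Perm (Fin 4)) G ∨
      ∃ X : Subgroup G, X.Normal ∧ Subgroup.centralizer (V : Set G) ≤ X ∧ a ∈ X ∧
        ∃ k, (Subgroup.centralizer (V : Set G)).relIndex X = 2 ^ k := by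
  classical
  haveI : Fact (Nat.Prime 2) := ⟨Nat.prime_two⟩
  set C := Subgroup.centralizer (V : Set G) with hC
  haveI hCn : C.Normal := by rw [hC]; infer_instance
  let π : G →* G ⧸ C := QuotientGroup.mk' C
  have hπs : Function.Surjective π := QuotientGroup.mk'_surjective C
  have hπ1 : ∀ x, π x = 1 ↔ x ∈ C := fun x => QuotientGroup.eq_one_iff x
  have hπa : π a ^ 2 = 1 := by rw [← map_pow, hπ1]; exact ha2
  let X₀ : Subgroup (G ⧸ C) := Subgroup.zpowers (π a)
  have hX₀ : IsPGroup 2 X₀ := IsPGroup.of_card (n := 1) (by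
    rw [Nat.card_zpowers, orderOf_eq_prime hπa (fun h => ha ((hπ1 a).1 h)), pow_one])
  by_cases hall : ∀ g : G ⧸ C, IsPGroup 2 ↥(X₀ ⊔ X₀.map (MulAut.conj g).toMonoidHom)
  · obtain ⟨N, hNn, hN2, hXN⟩ := CfsgLib.Baer.baer_suzuki X₀ hX₀ hall
    refine Or.inr ⟨N.comap π, hNn.comap π, fun x hx => ?_, hXN (Subgroup.mem_zpowers _), ?_⟩
    · rw [Subgroup.mem_comap, (hπ1 x).2 hx]; exact N.one_mem
    · obtain ⟨k, hk⟩ := hN2.exists_card_eq
      refine ⟨k, ?_⟩
      have e := Subgroup.relIndex_comap (⊥ : Subgroup (G ⧸ C)) π (N.comap π)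
      rw [MonoidHom.comap_bot, QuotientGroup.ker_mk', Subgroup.map_comap_eq_self_of_surjective hπs,
        Subgroup.relIndex_bot_left, hk] at e
      exact e
  left
  push Not at hall
  obtain ⟨g', hg'⟩ := hall
  obtain ⟨g, rfl⟩ := hπs g'
  set b := g * a * g⁻¹ with hb
  have hπb : π b ^ 2 = 1 := by rw [hb, map_mul, map_mul, map_inv, conj_pow, hπa]; group
  -- a rotation of order not a power of two
  have hπba : π b * π b = 1 := by rw [← sq]; exact hπb
  have hπaa : π a * π a = 1 := by rw [← sq]; exact hπa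
  have hinvx : (π a * π b)⁻¹ = π b * π a := inv_eq_of_mul_eq_one_right (by
    calc π a * π b * (π b * π a) = π a * (π b * π b) * π a := by group
      _ = 1 := by rw [hπba, mul_one, hπaa])
  have haa : (π a)⁻¹ = π a := inv_eq_of_mul_eq_one_right hπaa
  have hx : ¬ ∃ j, (π a * π b) ^ 2 ^ j = 1 := by
    rintro ⟨j, hj⟩
    have hT : IsPGroup 2 (Subgroup.zpowers (π a * π b)) := fun ⟨y, hy⟩ => by
      obtain ⟨i, rfl⟩ := Subgroup.mem_zpowers_iff.1 hy
      exact ⟨j, Subtype.ext (by
        show ((π a * π b) ^ i) ^ 2 ^ j = 1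
        rw [← zpow_natCast, ← zpow_mul, mul_comm, zpow_mul, zpow_natCast, hj, one_zpow])⟩
    have hn : X₀ ≤ Subgroup.normalizer
        ((Subgroup.zpowers (π a * π b) : Subgroup (G ⧸ C)) : Set (G ⧸ C)) :=
      Subgroup.zpowers_le.2 (Subgroup.mem_normalizer_fintype (fun z hz => by
        obtain ⟨i, rfl⟩ := Subgroup.mem_zpowers_iff.1 hz
        show π a * (π a * π b) ^ i * (π a)⁻¹ ∈ Subgroup.zpowers (π a * π b)
        rw [← conj_zpow, haa, ← mul_assoc, hπaa, one_mul, ← hinvx]
        exact Subgroup.zpow_mem _ (Subgroup.inv_mem _ (Subgroup.mem_zpowers _)) i))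
    refine hg' ((IsPGroup.to_sup_of_normal_right' hX₀ hT hn).to_le (sup_le le_sup_left ?_))
    rw [MonoidHom.map_zpowers, Subgroup.zpowers_le]
    show π g * π a * (π g)⁻¹ ∈ _
    have h1 := Subgroup.mul_mem_sup (Subgroup.inv_mem X₀ (Subgroup.mem_zpowers (π a)))
      (Subgroup.mem_zpowers (π a * π b))
    rw [inv_mul_cancel_left, hb, map_mul, map_mul, map_inv] at h1
    exact h1
  -- the odd part
  obtain ⟨k, r, hr, hkr⟩ := Nat.exists_eq_two_pow_mul_odd (orderOf_pos (π a * π b)).ne'
  set y := (a * b) ^ 2 ^ k with hy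
  have hyr : y ^ r ∈ C := by
    rw [← hπ1, hy, ← pow_mul, map_pow, map_mul, ← hkr, pow_orderOf_eq_one]
  have hyC : y ∉ C := fun h => hx ⟨k, by rwa [← map_mul, ← map_pow, hπ1]⟩
  let act : ℕ → G → G := fun n v => y ^ n * v * (y ^ n)⁻¹
  have hfixC : ∀ x ∈ C, ∀ v ∈ V, x * v * x⁻¹ = v := fun x hx v hv => by
    rw [← hx v hv, mul_inv_cancel_right]
  -- the image of `v ↦ [y, v]`
  let δ : V →* G := MonoidHom.mk' (fun v => y * (v : G) * y⁻¹ * (v : G)⁻¹) fun u v => by
    have h1 := hVc _ (hVn.conj_mem v v.2 y) _ (V.inv_mem u.2)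
    have h2 := hVc _ (V.mul_mem (hVn.conj_mem v v.2 y) (V.inv_mem v.2)) _ (V.inv_mem u.2)
    calc y * ((u : G) * v) * y⁻¹ * ((u : G) * v)⁻¹
        = y * u * y⁻¹ * ((y * v * y⁻¹ * (v : G)⁻¹) * (u : G)⁻¹) := by group
      _ = y * u * y⁻¹ * (u : G)⁻¹ * (y * v * y⁻¹ * (v : G)⁻¹) := by rw [h2]; group
  set W := δ.range with hW
  have hWV : W ≤ V := by
    rintro _ ⟨v, rfl⟩
    exact V.mul_mem (hVn.conj_mem v v.2 y) (V.inv_mem v.2)
  set C₀ := V ⊓ Subgroup.centralizer {a} ⊓ Subgroup.centralizer {b} with hC₀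
  have hker : C₀.subgroupOf V ≤ δ.ker := by
    rintro ⟨v, hv⟩ hv'
    rw [Subgroup.mem_subgroupOf] at hv'
    obtain ⟨⟨-, hva⟩, hvb⟩ := hv'
    have h1 : y ∈ Subgroup.centralizer {(v : G)} := by
      refine Subgroup.pow_mem _ (Subgroup.mul_mem _ ?_ ?_) _
      · rw [Subgroup.mem_centralizer_singleton_iff]
        exact (Subgroup.mem_centralizer_singleton_iff.1 hva).symm
      · rw [Subgroup.mem_centralizer_singleton_iff]
        exact (Subgroup.mem_centralizer_singleton_iff.1 hvb).symm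
    rw [Subgroup.mem_centralizer_singleton_iff] at h1
    show y * v * y⁻¹ * v⁻¹ = 1
    rw [h1]; group
  have hWle : Nat.card W ≤ 4 := by
    rw [hW, ← Subgroup.index_ker]
    refine (Nat.le_of_dvd (Nat.pos_of_ne_zero Subgroup.index_ne_zero_of_finite)
      (Subgroup.index_dvd_of_le hker)).trans ?_
    have h2 : ∀ c : G, Nat.card V ≤ 2 * Nat.card ↥(V ⊓ Subgroup.centralizer {c}) →
        (V ⊓ Subgroup.centralizer {c}).relIndex V ≤ 2 := by
      intro c hc
      have h := ((V ⊓ Subgroup.centralizer {c}).subgroupOf V).card_mul_index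
      rw [Nat.card_congr (Subgroup.subgroupOfEquivOfLe inf_le_left).toEquiv] at h
      refine Nat.le_of_mul_le_mul_left (?_ : Nat.card ↥(V ⊓ Subgroup.centralizer {c}) *
        (V ⊓ Subgroup.centralizer {c}).relIndex V ≤ Nat.card ↥(V ⊓ Subgroup.centralizer {c}) * 2)
        Nat.card_pos
      rw [Subgroup.relIndex, h, mul_comm]
      exact hc
    have hb' : Nat.card V ≤ 2 * Nat.card ↥(V ⊓ Subgroup.centralizer {b}) := by
      refine hidx.trans (le_of_eq ?_)
      congr 1
      have e : (V ⊓ Subgroup.centralizer {a}).map (MulAut.conj g).toMonoidHom =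
          V ⊓ Subgroup.centralizer {b} := by
        rw [Subgroup.map_inf _ _ _ (MulAut.conj g).injective, map_conj_eq_self hVn]
        congr 1
        ext z
        constructor
        · rintro ⟨w, hw, rfl⟩
          rw [SetLike.mem_coe, Subgroup.mem_centralizer_singleton_iff] at hw
          rw [Subgroup.mem_centralizer_singleton_iff]
          show g * w * g⁻¹ * b = b * (g * w * g⁻¹)
          calc g * w * g⁻¹ * b = g * (w * a) * g⁻¹ := by rw [hb]; group
            _ = g * (a * w) * g⁻¹ := by rw [hw]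
            _ = b * (g * w * g⁻¹) := by rw [hb]; group
        · intro hz
          rw [Subgroup.mem_centralizer_singleton_iff] at hz
          refine ⟨g⁻¹ * z * g, ?_, by simp [mul_assoc]⟩
          rw [SetLike.mem_coe, Subgroup.mem_centralizer_singleton_iff]
          calc g⁻¹ * z * g * a = g⁻¹ * (z * b) * g := by rw [hb]; group
            _ = g⁻¹ * (b * z) * g := by rw [hz]
            _ = a * (g⁻¹ * z * g) := by rw [hb]; group
      rw [← e, Subgroup.card_map_of_injective (MulAut.conj g).injective]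
    calc C₀.relIndex V = ((V ⊓ Subgroup.centralizer {a}) ⊓ (V ⊓ Subgroup.centralizer {b})).relIndex V := by
          rw [hC₀, ← inf_inf_distrib_left, inf_assoc]
      _ ≤ _ := Subgroup.relIndex_inf_le
      _ ≤ 2 * 2 := Nat.mul_le_mul (h2 a hidx) (h2 b hb')
  have hrot : ∀ v ∈ V, (a * y * a⁻¹) * v * (a * y * a⁻¹)⁻¹ = y⁻¹ * v * y := by
    intro v hv
    have h1 : y * (a * y * a⁻¹) ∈ C := by
      rw [← hπ1, hy, map_mul π ((a * b) ^ 2 ^ k), map_mul, map_mul, map_inv, map_pow, map_mul]
      rw [← conj_pow, haa, ← mul_assoc (π a) (π a) (π b), hπaa, one_mul, ← hinvx, inv_pow,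
        mul_inv_cancel]
    have h2 := hfixC _ h1 v hv
    calc a * y * a⁻¹ * v * (a * y * a⁻¹)⁻¹
        = y⁻¹ * (y * (a * y * a⁻¹) * v * (y * (a * y * a⁻¹))⁻¹) * y := by group
      _ = y⁻¹ * v * y := by rw [h2]
  have hyW : y ∈ Subgroup.normalizer (W : Set G) := Subgroup.mem_normalizer_fintype fun w hw => by
    obtain ⟨v, rfl⟩ := hw
    refine ⟨⟨_, hVn.conj_mem v v.2 y⟩, ?_⟩
    show y * (y * v * y⁻¹) * y⁻¹ * (y * v * y⁻¹)⁻¹ = y * (y * v * y⁻¹ * (v : G)⁻¹) * y⁻¹
    group
  have haW : a ∈ Subgroup.normalizer (W : Set G) := Subgroup.mem_normalizer_fintype fun w hw => by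
    obtain ⟨v, rfl⟩ := hw
    have hv' := hVn.conj_mem v v.2 a
    set v' := a * v * a⁻¹ with hv'e
    have h1 := hrot _ hv'
    refine ⟨⟨(y⁻¹ * v' * y)⁻¹, V.inv_mem (hVn.conj_mem' _ hv' y)⟩, ?_⟩
    show y * (y⁻¹ * v' * y)⁻¹ * y⁻¹ * (y⁻¹ * v' * y)⁻¹⁻¹ = a * (y * v * y⁻¹ * (v : G)⁻¹) * a⁻¹
    calc y * (y⁻¹ * v' * y)⁻¹ * y⁻¹ * (y⁻¹ * v' * y)⁻¹⁻¹ = v'⁻¹ * (y⁻¹ * v' * y) := by group
      _ = (y⁻¹ * v' * y) * v'⁻¹ := hVc _ (V.inv_mem hv') _ (hVn.conj_mem' _ hv' y)
      _ = (a * y * a⁻¹) * v' * (a * y * a⁻¹)⁻¹ * v'⁻¹ := by rw [h1]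
      _ = a * (y * v * y⁻¹ * (v : G)⁻¹) * a⁻¹ := by rw [hv'e]; group
  have hmove : ∃ w ∈ W, y * w * y⁻¹ ≠ w := by
    by_contra! hfix
    refine hyC ?_
    intro v hv
    set w := δ ⟨v, hv⟩ with hw
    have hwW : w ∈ W := ⟨_, rfl⟩
    have hwv : w * v = v * w := hVc _ (hWV hwW) _ hv
    have hpow : ∀ n : ℕ, y ^ n * v * (y ^ n)⁻¹ = w ^ n * v := by
      intro n
      induction n with
      | zero => simp
      | succ n ih =>
        calc y ^ (n + 1) * v * (y ^ (n + 1))⁻¹ = y * (y ^ n * v * (y ^ n)⁻¹) * y⁻¹ := by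
              rw [pow_succ']; group
          _ = (y * w * y⁻¹) ^ n * (y * v * y⁻¹) := by rw [ih, conj_pow]; group
          _ = w ^ (n + 1) * v := by
            have e : y * v * y⁻¹ = w * v := by
              show _ = y * v * y⁻¹ * v⁻¹ * v
              group
            rw [hfix w hwW, e, ← mul_assoc, pow_succ]
    have h1 := hpow r
    rw [hfixC _ hyr v hv, right_eq_mul] at h1
    obtain ⟨i, hi⟩ := hV2 ⟨w, hWV hwW⟩
    have hw1 : w = 1 := orderOf_eq_one_iff.1 (Nat.eq_one_of_dvd_coprimes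
      (Nat.Coprime.pow_left i hr.coprime_two_left)
      (orderOf_dvd_of_pow_eq_one (congrArg Subtype.val hi)) (orderOf_dvd_of_pow_eq_one h1))
    change y * v * y⁻¹ * v⁻¹ = 1 at hw1
    rw [mul_inv_eq_one, mul_inv_eq_iff_eq_mul] at hw1
    exact hw1.symm
  have hWcard : Nat.card W = 4 := by
    obtain ⟨w, hw, hwne⟩ := hmove
    have hw1 : w ≠ 1 := fun h => hwne (by rw [h]; group)
    have hw' : y * w * y⁻¹ ∈ W := (Subgroup.mem_normalizer_iff.1 hyW w).1 hw
    have hw'1 : y * w * y⁻¹ ≠ 1 := fun h => hw1 (by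
      calc w = y⁻¹ * (y * w * y⁻¹) * y := by group
        _ = 1 := by rw [h]; group)
    have h3 : 3 ≤ Nat.card W := by
      have hs : ({1, w, y * w * y⁻¹} : Set G) ⊆ (W : Set G) := by
        rintro z (rfl | rfl | rfl)
        exacts [W.one_mem, hw, hw']
      have h4 := Set.ncard_le_ncard hs (Set.toFinite _)
      rw [Set.ncard_eq_three.2 ⟨1, w, y * w * y⁻¹, hw1.symm, hw'1.symm, hwne.symm, rfl⟩] at h4
      exact h4.trans (le_of_eq (Nat.card_coe_set_eq (W : Set G)).symm)
    obtain ⟨i, hi⟩ := (hV2.to_le hWV).exists_card_eq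
    rw [hi] at hWle h3 ⊢
    rcases i with _ | _ | _ | i
    · simp at h3
    · simp at h3
    · rfl
    · have : (8 : ℕ) ≤ 2 ^ (i + 3) := by rw [pow_add]; have := Nat.two_pow_pos i; omega
      omega
  exact CfsgLib.Offender.involves_perm_four hWcard haW hyW
    (fun w hw => hrot w (hWV hw)) hmove ⟨r, hr, fun w hw => hfixC _ hyr w (hWV hw)⟩

end Four

section Center

variable {G : Type u} [Group G]

theorem map_center_eq_inf (Q : Subgroup G) :
    (Subgroup.center ↥Q).map Q.subtype = Q ⊓ Subgroup.centralizer (Q : Set G) := by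
  ext v
  constructor
  · rintro ⟨z, hz, rfl⟩
    exact ⟨z.2, fun q hq => congrArg Subtype.val (Subgroup.mem_center_iff.1 hz ⟨q, hq⟩)⟩
  · rintro ⟨hv, h⟩
    exact ⟨⟨v, hv⟩, Subgroup.mem_center_iff.2 fun q => Subtype.ext (h q q.2), rfl⟩

variable [Finite G]

/-- Without a quadratic member outside `O_p`, the Thompson subgroup is normal. -/
theorem exists_quadratic_thompson (P : Sylow p G)
    (hn : ¬ (functorOf jFunctor (P : Subgroup G)).Normal) :
    ∃ A ∈ CfsgLib.Transfer.maxAbExp 0 (P : Subgroup G), ¬ A ≤ Cfsg.pCore p G ∧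
      Cfsg.pCore p G ⊓ Subgroup.centralizer (Cfsg.pCore p G : Set G) ≤
        Subgroup.normalizer (A : Set G) := by
  classical
  set Q := Cfsg.pCore p G with hQ
  have hQn : Q.Normal := CfsgLib.Fitting.pCore_normal p
  have hQP : Q ≤ (P : Subgroup G) := fun y hy =>
    le_sylow_of_normal_pGroup P hQn (CfsgLib.Fitting.pCore_isPGroup p) hy
  set V := Q ⊓ Subgroup.centralizer (Q : Set G) with hV
  have hVn : V.Normal := by rw [hV]; infer_instance
  rw [functorOf_jFunctor, CfsgLib.Transfer.thompsonSubgroupAOf_eq] at hn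
  let 𝒮 : Set (Subgroup G) := {A | A ∈ CfsgLib.Transfer.maxAbExp 0 (P : Subgroup G) ∧ ¬ A ≤ Q}
  obtain ⟨A₀, hA₀⟩ : 𝒮.Nonempty := by
    by_contra hemp
    have hall : ∀ A ∈ CfsgLib.Transfer.maxAbExp 0 (P : Subgroup G), A ≤ Q := fun A hA => by
      by_contra h
      exact hemp ⟨A, hA, h⟩
    refine hn ?_
    have heq : CfsgLib.Transfer.thompsonJ 0 (P : Subgroup G) = CfsgLib.Transfer.thompsonJ 0 Q := by
      obtain ⟨A, hA⟩ : (CfsgLib.Transfer.maxAbExp 0 (P : Subgroup G)).Nonempty :=
        CfsgLib.Transfer.thompsonJ_nonempty 0 (P : Subgroup G)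
      refine le_antisymm (sSup_le fun B hB => le_sSup ⟨hall B hB, hB.2.1, fun D hD hDe =>
        hB.2.2 D (hD.trans hQP) hDe⟩) (sSup_le fun B hB => le_sSup ⟨hB.1.trans hQP, hB.2.1,
        fun D hD hDe => (hA.2.2 D hD hDe).trans (hB.2.2 A (hall A hA) hA.2.1)⟩)
    rw [heq]
    refine Subgroup.normalizer_eq_top_iff.1 ((Subgroup.eq_top_iff' _).2 fun g => ?_)
    rw [Subgroup.mem_normalizer_iff_map_conj_eq]
    show (CfsgLib.Transfer.thompsonJ 0 Q).map (MulAut.conj g).toMonoidHom = _
    rw [CfsgLib.Transfer.map_thompsonJ 0 _ (MulAut.conj g).injective.injOn, map_conj_eq_self hQn]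
  obtain ⟨B₁, -, hmax⟩ := Finite.exists_le_maximal
    (p := fun B : Subgroup G => ∃ A ∈ 𝒮, A ⊓ V = B) (a := A₀ ⊓ V) ⟨A₀, hA₀, rfl⟩
  obtain ⟨⟨A, ⟨hA, hAQ⟩, rfl⟩, hmax⟩ := hmax
  refine ⟨A, hA, hAQ, ?_⟩
  by_contra hVA
  have hVc : ∀ x ∈ V, ∀ y ∈ V, Commute x y := fun x hx y hy => (hx.2 y hy.1).symm
  obtain ⟨A', hA', hlt, hA'N⟩ := CfsgLib.ZJ.glauberman_replacement' (e := 0) (Or.inl rfl)
    P.isPGroup' hA (inf_le_left.trans hQP) (Subgroup.normalizer_eq_top_iff.2 hVn ▸ le_top)
    (fun x hx y hy a _ => by rw [commutatorElement_eq_one_iff_mul_comm.2 (hVc x hx y hy)]; simp)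
    (fun x hx y hy z _ => by rw [commutatorElement_eq_one_iff_mul_comm.2 (hVc x hx y hy)]; simp)
    hVA (Or.inr ⟨hVc, fun x _ => pow_zero x⟩)
  by_cases hA'Q : A' ≤ Q
  · refine hVA (le_trans ?_ hA'N)
    obtain ⟨hA'P, ⟨hA'c, -⟩, hA'max⟩ := hA'
    have hc : A' ⊔ V ≤ Subgroup.centralizer ((A' ⊔ V : Subgroup G) : Set G) := by
      have h1 : ∀ B : Subgroup G, B ≤ Subgroup.centralizer (A' : Set G) →
          B ≤ Subgroup.centralizer (V : Set G) →
          A' ⊔ V ≤ Subgroup.centralizer (B : Set G) := fun B h2 h3 =>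
        sup_le (Subgroup.le_centralizer_iff.1 h2) (Subgroup.le_centralizer_iff.1 h3)
      refine sup_le (Subgroup.le_centralizer_iff.1 (h1 A' ?_ ?_))
        (Subgroup.le_centralizer_iff.1 (h1 V ?_ ?_))
      · exact fun x hx y hy => congrArg Subtype.val (mul_comm' (⟨y, hy⟩ : A') ⟨x, hx⟩)
      · exact fun x hx y hy => (hy.2 x (hA'Q hx)).symm
      · exact fun x hx y hy => hx.2 y (hA'Q hy)
      · exact fun x hx y hy => hx.2 y hy.1
    have h4 := hA'max (A' ⊔ V) (sup_le hA'P (inf_le_left.trans hQP))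
      ⟨⟨⟨fun x y => Subtype.ext (hc y.2 x x.2)⟩⟩, fun x _ => pow_zero x⟩
    exact le_sup_right.trans (Subgroup.eq_of_le_of_card_ge le_sup_left h4).ge
  · exact hlt.ne (le_antisymm hlt.le (hmax ⟨A', ⟨hA', hA'Q⟩, rfl⟩ hlt.le))

/-- A quadratic element outside `O_p` when the Thompson subgroup is not normal. -/
theorem exists_quadratic_element (R : Sylow p G)
    (hRn : ¬ (functorOf jFunctor (R : Subgroup G)).Normal) :
    ∃ g : G, g ∈ (R : Subgroup G) ∧ g ∉ Cfsg.pCore p G ∧
      ⁅⁅Subgroup.center ↥(Cfsg.pCore p G) |>.map (Cfsg.pCore p G).subtype, Subgroup.zpowers g⁆,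
        Subgroup.zpowers g⁆ = ⊥ := by
  obtain ⟨A, hA, hAQ, hVA⟩ := exists_quadratic_thompson R hRn
  obtain ⟨a, haA, haQ⟩ := SetLike.not_le_iff_exists.1 hAQ
  refine ⟨a, hA.1 haA, haQ, ?_⟩
  rw [map_center_eq_inf]
  exact CfsgLib.ZJ.quadratic_of_normalizes
    (fun x hx y hy => by
      have := hA.2.1.1
      exact congrArg Subtype.val (mul_comm' (⟨x, hx⟩ : A) ⟨y, hy⟩)) hVA haA

/-- An element fixed by the proper overgroups of a Sylow subgroup and by a normal subgroup that
meets it outside `O_p` is central. -/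
theorem forall_fixed_of_normal (P : Sylow p G) {z : G}
    (hover : ∀ M : Subgroup G, (P : Subgroup G) ≤ M → M ≠ ⊤ → ∀ g ∈ M, g * z * g⁻¹ = z)
    (L : Subgroup G) [L.Normal] (hLz : ∀ l ∈ L, l * z * l⁻¹ = z)
    (hLQ : ¬ (P : Subgroup G) ⊓ L ≤ Cfsg.pCore p G) : ∀ g : G, g * z * g⁻¹ = z := by
  set X := (P : Subgroup G) ⊓ L with hX
  have hNX : Subgroup.normalizer (X : Set G) ≠ ⊤ := fun h => hLQ (CfsgLib.Fitting.le_pCore
    (Subgroup.normalizer_eq_top_iff.1 h) (P.isPGroup'.to_le inf_le_left))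
  have hPX : (P : Subgroup G) ≤ Subgroup.normalizer (X : Set G) := fun y hy =>
    mem_normalizer_of_conj_mem (S := (P : Subgroup G)) inf_le_left fun z hz =>
      ⟨(P : Subgroup G).mul_mem ((P : Subgroup G).mul_mem hy hz.1) (inv_mem hy),
        (inferInstance : L.Normal).conj_mem z hz.2 y⟩
  let R : Sylow p L := (P.isPGroup'.comap_of_injective L.subtype L.subtype_injective).toSylow
    (CfsgLib.CharCore.not_dvd_relIndex_of_isSubnormal
      (inferInstance : L.Normal).isSubnormal P)
  have htop := Sylow.normalizer_sup_eq_top R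
  have hRX : (R : Subgroup L).map L.subtype = X := by
    show ((P : Subgroup G).comap L.subtype).map L.subtype = X
    rw [Subgroup.map_comap_eq, Subgroup.range_subtype, hX, inf_comm]
  rw [hRX] at htop
  intro g
  have hle : Subgroup.normalizer (X : Set G) ⊔ L ≤ Subgroup.centralizer {z} := by
    refine sup_le (fun y hy => ?_) fun y hy => ?_
    · rw [Subgroup.mem_centralizer_singleton_iff]
      exact mul_inv_eq_iff_eq_mul.1 (hover _ hPX hNX y hy)
    · rw [Subgroup.mem_centralizer_singleton_iff]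
      exact mul_inv_eq_iff_eq_mul.1 (hLz y hy)
  have hg := hle (htop ▸ Subgroup.mem_top g)
  rw [Subgroup.mem_centralizer_singleton_iff] at hg
  exact mul_inv_eq_iff_eq_mul.2 hg

/-- A quadratic member of the Thompson family gives a minimal offender. -/
theorem exists_isSmall {V A : Subgroup G} {P : Subgroup G} (hVP : V ≤ P)
    (hVc : ∀ x ∈ V, ∀ y ∈ V, x * y = y * x) (hA : A ∈ CfsgLib.Transfer.maxAbExp 0 P)
    (hquad : ⁅⁅V, A⁆, A⁆ = ⊥) (hAC : ¬ A ≤ Subgroup.centralizer (V : Set G)) :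
    ∃ B ≤ A, IsSmall V B := by
  obtain ⟨hAP, ⟨hAc, -⟩, hmax⟩ := hA
  set D := A ⊓ Subgroup.centralizer (V : Set G) with hD
  have hoff : IsOffender V A := by
    refine ⟨hquad, hAC, ?_⟩
    have hDV : D ≤ Subgroup.normalizer (V : Set G) :=
      inf_le_right.trans (Subgroup.centralizer_le_normalizer _)
    have h1 := CfsgLib.Coprime.card_sup_mul_card_inf (K := V) (S := D) hDV
    have hVD : V ≤ Subgroup.centralizer (D : Set G) :=
      Subgroup.le_centralizer_iff.1 inf_le_right
    have hc : V ⊔ D ≤ Subgroup.centralizer ((V ⊔ D : Subgroup G) : Set G) := by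
      refine Subgroup.le_centralizer_iff.1 (sup_le ?_ ?_)
      · exact Subgroup.le_centralizer_iff.1 (sup_le (fun x hx y hy => hVc y hy x hx) inf_le_right)
      · exact Subgroup.le_centralizer_iff.1 (sup_le hVD fun x hx y hy =>
          congrArg Subtype.val (mul_comm' (⟨y, hy.1⟩ : A) ⟨x, hx.1⟩))
    have h2 := hmax (V ⊔ D) (sup_le hVP (inf_le_left.trans hAP))
      ⟨⟨⟨fun x y => Subtype.ext (hc y.2 x x.2)⟩⟩, fun x _ => pow_zero x⟩
    have h3 : Nat.card ↥(V ⊓ D) ≤ Nat.card ↥(V ⊓ Subgroup.centralizer (A : Set G)) :=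
      Subgroup.card_le_of_le (le_inf inf_le_left fun x hx y hy =>
        congrArg Subtype.val (mul_comm' (⟨y, hy⟩ : A) ⟨x, hx.2.1⟩))
    rw [← h1, mul_comm]
    exact Nat.mul_le_mul h3 h2
  obtain ⟨B, hB, hmin⟩ := Finite.exists_le_minimal (p := fun B => IsOffender V B) hoff
  exact ⟨B, hB, hmin.1, fun H hH hHoff => hH.not_ge (hmin.2 hHoff hH.le)⟩

open Classical in
/-- Glauberman: an element of `Z(P)` fixed by `N(J(P))` is central, for `p` odd or `S₄`-free
groups. -/
theorem center_thompson : ∀ (n : ℕ) (G : Type u) [Group G] [Finite G], Nat.card G = n →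
    (p ≠ 2 ∨ ¬ Cfsg.Involves (Equiv.Perm (Fin 4)) G) → ∀ (P : Sylow p G),
    Subgroup.centralizer ((Cfsg.pCore p G : Subgroup G) : Set G) ≤ Cfsg.pCore p G → ∀ z : G,
    z ∈ (P : Subgroup G) → z ∈ Subgroup.centralizer ((P : Subgroup G) : Set G) →
    (∀ g ∈ Subgroup.normalizer (functorOf jFunctor (P : Subgroup G) : Set G),
      g * z * g⁻¹ = z) →
    ∀ g : G, g * z * g⁻¹ = z := by
  intro n
  induction n using Nat.strong_induction_on with
  | _ n IH =>
  intro G _ _ hn hp4 P hc z hzP hz hfix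
  set WP := functorOf jFunctor (P : Subgroup G) with hWP
  by_cases hWn : WP.Normal
  · exact fun g => hfix g (by rw [Subgroup.normalizer_eq_top_iff.2 hWn]; exact Subgroup.mem_top g)
  by_contra hne
  set Q := Cfsg.pCore p G with hQ
  have hQn : Q.Normal := CfsgLib.Fitting.pCore_normal p
  have hQP : Q ≤ (P : Subgroup G) := fun y hy =>
    le_sylow_of_normal_pGroup P hQn (CfsgLib.Fitting.pCore_isPGroup p) hy
  -- proper overgroups
  have hover : ∀ M : Subgroup G, (P : Subgroup G) ≤ M → M ≠ ⊤ → ∀ g ∈ M,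
      g * z * g⁻¹ = z := by
    intro M hPM hM g hg
    let P' : Sylow p M := P.subtype hPM
    have hQM : Q.subgroupOf M ≤ Cfsg.pCore p M :=
      CfsgLib.Fitting.le_pCore (hQn.subgroupOf M)
        ((CfsgLib.Fitting.pCore_isPGroup p).comap_of_injective M.subtype M.subtype_injective)
    have hc' : Subgroup.centralizer ((Cfsg.pCore p M : Subgroup M) : Set M) ≤ Cfsg.pCore p M := by
      intro y hy
      refine hQM (hc fun q hq => ?_)
      exact congrArg Subtype.val (hy ⟨q, (hQP.trans hPM) hq⟩ (hQM hq))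
    let e : (P : Subgroup G) ≃* (P' : Subgroup M) :=
      (Subgroup.subgroupOfEquivOfLe hPM).symm
    have hW' : ∀ y : M, y ∈ functorOf jFunctor (P' : Subgroup M) ↔ (y : G) ∈ WP := by
      intro y
      rw [functorOf, ← jFunctor_map _ _ P.isPGroup' e]
      constructor
      · rintro ⟨_, ⟨w, hw, rfl⟩, rfl⟩
        exact ⟨w, hw, rfl⟩
      · rintro ⟨w, hw, hwe⟩
        exact ⟨e w, ⟨w, hw, rfl⟩, Subtype.ext hwe⟩
    have hlt : Nat.card M < n := by
      rw [← hn]
      exact lt_of_le_of_ne (Subgroup.card_le_card_group M) fun h =>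
        hM (Subgroup.eq_top_of_card_eq M h)
    have := IH _ hlt M rfl (hp4.imp_right fun h h' =>
        h (CfsgLib.Offender.involves_of_injective M.subtype M.subtype_injective h'))
      P' hc' ⟨z, hPM hzP⟩ (show z ∈ (P : Subgroup G) from hzP)
      (fun y hy => Subtype.ext (hz y hy)) (fun y hy => Subtype.ext (hfix y
        (mem_normalizer_of_conj_mem (S := (P : Subgroup G))
          (functorOf_le jFunctor _) fun w hw => by
            have hwM : w ∈ M := hPM (functorOf_le jFunctor _ hw)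
            exact (hW' _).1 ((Subgroup.mem_normalizer_iff.1 hy ⟨w, hwM⟩).1 ((hW' _).2 hw)))))
      ⟨g, hg⟩
    exact congrArg Subtype.val this
  -- the `p`-th power
  have hzp : ∀ g : G, g * z ^ p * g⁻¹ = z ^ p := by
    refine pow_central_of_quadratic jFunctor jFunctor_map (fun H _ _ R _ hRn => ?_) _ G rfl P hc z
      hzP hz fun g hg => by rw [← conj_pow, hfix g hg]
    exact exists_quadratic_element R hRn
  set V := Q ⊓ Subgroup.centralizer (Q : Set G) with hV
  haveI hVn : V.Normal := by rw [hV]; infer_instance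
  have hVc : ∀ x ∈ V, ∀ y ∈ V, x * y = y * x := fun x hx y hy => (hx.2 y hy.1).symm
  have hVp : IsPGroup p V := (CfsgLib.Fitting.pCore_isPGroup p).to_le inf_le_left
  have hQC : Q ≤ Subgroup.centralizer (V : Set G) := fun q hq v hv => (hv.2 q hq).symm
  have hzV : z ∈ V := ⟨hc (Subgroup.centralizer_le (show (Q : Set G) ⊆ _ from hQP) hz),
    fun q hq => hz q (hQP hq)⟩
  set C := Subgroup.centralizer (V : Set G) with hC
  haveI hCn : C.Normal := by rw [hC]; infer_instance
  have hCz : ∀ c ∈ C, c * z * c⁻¹ = z := fun c hc' => by rw [← hc' z hzV, mul_inv_cancel_right]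
  have hPC : (P : Subgroup G) ⊓ C ≤ Q := by
    by_contra h
    exact hne (forall_fixed_of_normal P hover C hCz h)
  obtain ⟨A₀, hA₀, hA₀Q, hVA₀⟩ := exists_quadratic_thompson P hWn
  have hA₀c : ∀ x ∈ A₀, ∀ y ∈ A₀, x * y = y * x := fun x hx y hy => by
    have := hA₀.2.1.1
    exact congrArg Subtype.val (mul_comm' (⟨x, hx⟩ : A₀) ⟨y, hy⟩)
  have hquad₀ : ⁅⁅V, A₀⁆, A₀⁆ = ⊥ := by
    have h1 : ⁅V, A₀⁆ ≤ A₀ := Subgroup.commutator_le.2 fun v hv a ha => by
      rw [commutatorElement_def]
      exact mul_mem ((Subgroup.mem_normalizer_iff.1 (hVA₀ hv) a).1 ha) (inv_mem ha)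
    rw [eq_bot_iff]
    refine (Subgroup.commutator_mono h1 le_rfl).trans (Subgroup.commutator_le.2 fun x hx y hy => ?_)
    rw [Subgroup.mem_bot, commutatorElement_eq_one_iff_mul_comm]
    exact hA₀c x hx y hy
  obtain ⟨B₀, hB₀, hB₀s⟩ := exists_isSmall (inf_le_left.trans hQP) hVc hA₀ hquad₀
    fun h => hA₀Q fun a ha => hPC ⟨hA₀.1 ha, h ha⟩
  set E := smallJoin V (P : Subgroup G) with hE
  have hEP : E ≤ (P : Subgroup G) := smallJoin_le _ _
  have hB₀E : B₀ ≤ E := le_sSup ⟨hB₀.trans hA₀.1, hB₀s⟩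
  set K := Subgroup.centralizer ({z} : Set G) with hK
  have hKmem : ∀ g, g ∈ K ↔ g * z * g⁻¹ = z := fun g => by
    rw [hK, Subgroup.mem_centralizer_singleton_iff, mul_inv_eq_iff_eq_mul]
  have hPK : (P : Subgroup G) ≤ K := fun y hy => (hKmem y).2 (by rw [hz y hy, mul_inv_cancel_right])
  have hEn : ∀ g : G, E.map (MulAut.conj g).toMonoidHom ≤ (P : Subgroup G) →
      g ∈ Subgroup.normalizer (E : Set G) := by
    intro g hg
    rw [Subgroup.mem_normalizer_iff_map_conj_eq]
    exact Subgroup.eq_of_le_of_card_ge (map_smallJoin_le hVn g hg)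
      (Subgroup.card_map_of_injective (K := E) (MulAut.conj g).injective).ge
  have hNE : Subgroup.normalizer (E : Set G) ≤ K := by
    have hPN : (P : Subgroup G) ≤ Subgroup.normalizer (E : Set G) := fun y hy => hEn y (by
      rintro _ ⟨e, he, rfl⟩
      exact mul_mem (mul_mem hy (hEP he)) (inv_mem hy))
    refine fun g hg => (hKmem g).2 (hover _ hPN (fun h => hB₀s.1.2.1 fun b hb => hQC
      (CfsgLib.Fitting.le_pCore (Subgroup.normalizer_eq_top_iff.1 h) (P.isPGroup'.to_le hEP)
        (hB₀E hb))) g hg)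
  -- the norm
  letI : CommGroup V :=
    { (inferInstance : Group V) with mul_comm := fun x y => Subtype.ext (hVc x x.2 y y.2) }
  have := Fintype.ofFinite (G ⧸ K)
  let f : G ⧸ K → V := fun q => ⟨q.out * z * q.out⁻¹, hVn.conj_mem z hzV _⟩
  have hf : ∀ (g : G) (q : G ⧸ K), f (g • q) = MulAut.conjNormal g (f q) := by
    intro g q
    refine Subtype.ext ?_
    rw [MulAut.conjNormal_apply]
    show (g • q).out * z * (g • q).out⁻¹ = g * (q.out * z * q.out⁻¹) * g⁻¹
    have h1 : (g * q.out)⁻¹ * (g • q).out ∈ K := by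
      refine QuotientGroup.eq.1 ?_
      rw [QuotientGroup.out_eq']
      conv_rhs => rw [← QuotientGroup.out_eq' q]
      rfl
    have h2 := (hKmem _).1 h1
    calc (g • q).out * z * (g • q).out⁻¹ = (g * q.out) * (((g * q.out)⁻¹ * (g • q).out) * z *
          ((g * q.out)⁻¹ * (g • q).out)⁻¹) * (g * q.out)⁻¹ := by group
      _ = g * (q.out * z * q.out⁻¹) * g⁻¹ := by rw [h2]; group
  set zV : V := ⟨z, hzV⟩ with hzVdef
  have hfp : ∀ q, f q ^ p = zV ^ p := fun q => Subtype.ext (by
    show (q.out * z * q.out⁻¹) ^ p = z ^ p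
    rw [conj_pow, hzp])
  have hEpg : IsPGroup p E := P.isPGroup'.to_le hEP
  have horb : ∀ o : MulAction.orbitRel.Quotient E (G ⧸ K),
      ∏ q ∈ Finset.univ.filter (fun q : G ⧸ K =>
        (Quotient.mk (MulAction.orbitRel E (G ⧸ K)) q) = o), f q =
      zV ^ (Finset.univ.filter (fun q : G ⧸ K =>
        (Quotient.mk (MulAction.orbitRel E (G ⧸ K)) q) = o)).card := by
    intro o
    obtain ⟨q₀, rfl⟩ := Quotient.exists_rep o
    set O := Finset.univ.filter (fun q : G ⧸ K =>
      (Quotient.mk (MulAction.orbitRel E (G ⧸ K)) q) = Quotient.mk _ q₀) with hO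
    have hOmem : ∀ q, q ∈ O ↔ q ∈ orbit E q₀ := fun q => by
      rw [hO, Finset.mem_filter]
      exact ⟨fun h => MulAction.orbitRel_apply.1 (Quotient.exact h.2),
        fun h => ⟨Finset.mem_univ _, Quotient.sound (MulAction.orbitRel_apply.2 h)⟩⟩
    by_cases hq₀ : ∀ e : E, e • q₀ = q₀
    · -- only the base point is fixed
      have hq1 : q₀ = ((1 : G) : G ⧸ K) := by
        induction q₀ using QuotientGroup.induction_on with
        | H g =>
        refine QuotientGroup.eq.2 ?_
        rw [mul_one]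
        refine K.inv_mem ?_
        have hle : E.map (MulAut.conj g⁻¹).toMonoidHom ≤ K := by
          rintro _ ⟨e, he, rfl⟩
          have h1 := hq₀ ⟨e, he⟩
          change ((e * g : G) : G ⧸ K) = (g : G ⧸ K) at h1
          have h2 := K.inv_mem (QuotientGroup.eq.1 h1)
          show g⁻¹ * e * g⁻¹⁻¹ ∈ K
          rw [mul_inv_rev, inv_inv] at h2
          simpa [mul_assoc] using h2
        let P' : Sylow p K := P.subtype hPK
        obtain ⟨R, hR⟩ := ((hEpg.map (MulAut.conj g⁻¹).toMonoidHom).comap_of_injective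
          K.subtype K.subtype_injective).exists_le_sylow
        obtain ⟨k, hk⟩ := MulAction.exists_smul_eq K R P'
        have hkg : (k : G) * g⁻¹ ∈ K := hNE (hEn _ (by
          rintro _ ⟨e, he, rfl⟩
          have h3 : (⟨g⁻¹ * e * g⁻¹⁻¹, hle ⟨e, he, rfl⟩⟩ : K) ∈ (R : Subgroup K) :=
            hR ⟨e, he, rfl⟩
          have h4 : k * (⟨g⁻¹ * e * g⁻¹⁻¹, hle ⟨e, he, rfl⟩⟩ : K) * k⁻¹ ∈ (P' : Subgroup K) := by
            rw [← hk, Sylow.coe_subgroup_smul, Subgroup.mem_pointwise_smul_iff_inv_smul_mem]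
            simpa [mul_assoc] using h3
          have h5 : (k : G) * (g⁻¹ * e * g⁻¹⁻¹) * (k : G)⁻¹ ∈ (P : Subgroup G) := h4
          show (k : G) * g⁻¹ * e * ((k : G) * g⁻¹)⁻¹ ∈ (P : Subgroup G)
          simpa [mul_assoc] using h5))
        have := K.mul_mem (K.inv_mem k.2) hkg
        rw [inv_mul_cancel_left] at this
        simpa using this
      have hO1 : O = {q₀} := Finset.ext fun q => by
        rw [hOmem, Finset.mem_singleton]
        exact ⟨fun ⟨e, he⟩ => he ▸ hq₀ e, by rintro rfl; exact mem_orbit_self _⟩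
      rw [hO1, Finset.prod_singleton, Finset.card_singleton, pow_one, hq1]
      refine Subtype.ext ((hKmem _).1 ?_)
      have := QuotientGroup.eq.1 (QuotientGroup.out_eq' ((1 : G) : G ⧸ K))
      rw [mul_one] at this
      simpa using K.inv_mem this
    obtain ⟨M, hMn, hMi, -, hM⟩ := exists_translates.{u} hEpg hq₀ O hOmem
    -- a minimal offender outside `M`
    obtain ⟨A, ⟨hAP, hAs⟩, hAM⟩ : ∃ A, (A ≤ (P : Subgroup G) ∧ IsSmall V A) ∧
        ¬ A ≤ M.map E.subtype := by
      by_contra! hall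
      have hEM : E ≤ M.map E.subtype := sSup_le fun A hA => hall A hA
      refine (Fact.out : p.Prime).one_lt.ne' ?_
      rw [← hMi, Subgroup.index_eq_one, Subgroup.eq_top_iff']
      intro e
      obtain ⟨e', he', ee⟩ := hEM e.2
      rwa [show e = e' from Subtype.ext ee.symm]
    have hAE : A ≤ E := le_sSup ⟨hAP, hAs⟩
    set H := A ⊓ M.map E.subtype with hH
    have hAH : Nat.card A ≤ p * Nat.card H := by
      have h1 : M.relIndex (A.subgroupOf E) ∣ p := hMi ▸ M.relIndex_dvd_index_of_normal _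
      have h2 := (M.subgroupOf (A.subgroupOf E)).card_mul_index
      have h3 : Nat.card (M.subgroupOf (A.subgroupOf E)) = Nat.card H := by
        rw [← Subgroup.inf_subgroupOf_right M (A.subgroupOf E),
          Nat.card_congr (Subgroup.subgroupOfEquivOfLe inf_le_right).toEquiv,
          ← Subgroup.card_map_of_injective E.subtype_injective,
          Subgroup.map_inf _ _ _ E.subtype_injective, Subgroup.map_subgroupOf_eq_of_le hAE,
          inf_comm, hH]
      rw [h3, Nat.card_congr (Subgroup.subgroupOfEquivOfLe hAE).toEquiv] at h2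
      rw [← h2, mul_comm p]
      exact Nat.mul_le_mul_left _ (Nat.le_of_dvd (Fact.out : p.Prime).pos h1)
    -- the element that moves the translates
    obtain ⟨a, haA, haM, hchoice⟩ : ∃ a ∈ A, a ∉ M.map E.subtype ∧
        (a ∈ C ∨ A ⊓ C ≤ M.map E.subtype) := by
      by_cases h : A ⊓ C ≤ M.map E.subtype
      · obtain ⟨a, ha, haM⟩ := SetLike.not_le_iff_exists.1 hAM
        exact ⟨a, ha, haM, Or.inr h⟩
      · obtain ⟨a, ha, haM⟩ := SetLike.not_le_iff_exists.1 h
        exact ⟨a, ha.1, haM, Or.inl ha.2⟩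
    set g : E := ⟨a, hAE haA⟩ with hg
    obtain ⟨F₀, hF₀, hFcard, hFprod⟩ := hM g fun h => haM ⟨g, h, rfl⟩
    set w := ∏ q ∈ F₀, f q with hw
    have hwM : ∀ m ∈ M, MulAut.conjNormal (m : G) w = w := by
      intro m hm
      rw [hw, map_prod, Finset.prod_congr rfl (g := fun q => f (m • q))
        (fun q _ => (hf (m : G) q).symm)]
      exact Finset.prod_nbij' (m • ·) (m⁻¹ • ·) (hF₀ m hm) (fun q hq => hF₀ _ (M.inv_mem hm) q hq)
        (fun q _ => inv_smul_smul m q) (fun q _ => smul_inv_smul m q) (fun q _ => rfl)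
    set d : V := w⁻¹ * MulAut.conjNormal a w with hd
    have hda : MulAut.conjNormal a d = d := by
      refine Subtype.ext ?_
      rw [MulAut.conjNormal_apply]
      have h1 : ⁅((w : G))⁻¹, a⁆ ∈ ⁅V, A⁆ :=
        Subgroup.commutator_mem_commutator (inv_mem w.2) haA
      have h2 : ⁅⁅((w : G))⁻¹, a⁆, a⁆ = 1 := by
        rw [← Subgroup.mem_bot, ← hAs.1.1]
        exact Subgroup.commutator_mem_commutator h1 haA
      have h3 : ⁅((w : G))⁻¹, a⁆ = (d : G) := by
        simp [d, commutatorElement_def, MulAut.conjNormal_apply, mul_assoc]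
      rw [h3, commutatorElement_eq_one_iff_mul_comm] at h2
      rw [← h2, mul_inv_cancel_right]
    have hpow : ∀ k : ℕ, MulAut.conjNormal (a ^ k) w = w * d ^ k := by
      intro k
      induction k with
      | zero => simp
      | succ k ih =>
        rw [pow_succ', map_mul, MulAut.mul_apply, ih, map_mul, map_pow, hda, pow_succ', ← mul_assoc,
          hd, mul_inv_cancel_left]
    have hdp : d ^ p = 1 := by
      have hgp : g ^ p ∈ M := hMi ▸ M.pow_index_mem g
      have h1 := hwM _ hgp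
      rw [show ((g ^ p : E) : G) = a ^ p from rfl, hpow, mul_eq_left] at h1
      exact h1
    have hsum : d ^ (∑ k ∈ Finset.range p, k) = 1 := by
      by_cases hp2 : p = 2
      · -- here `a` fixes `w`
        suffices hd1 : d = 1 by rw [hd1, one_pow]
        have hfixw : ∀ y : G, y ∈ Subgroup.centralizer {(w : G)} → MulAut.conjNormal y w = w :=
          fun y hy => Subtype.ext (by
            rw [MulAut.conjNormal_apply, (Subgroup.mem_centralizer_singleton_iff.1 hy),
              mul_inv_cancel_right])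
        rw [hd, inv_mul_eq_one]
        refine (hfixw a ?_).symm
        rw [Subgroup.mem_centralizer_singleton_iff]
        rcases hchoice with haC | hAC
        · exact (haC _ w.2).symm
        by_cases hHC : H ≤ C
        · -- a transvection
          exfalso
          have hHeq : A ⊓ C = H := le_antisymm (le_inf inf_le_left hAC) (le_inf inf_le_left hHC)
          have haC : a ∉ C := fun h => haM (hAC ⟨haA, h⟩)
          have ha2 : a ^ 2 ∈ C := hHC ⟨pow_mem haA 2, g ^ 2,
            hp2 ▸ (hMi ▸ M.pow_index_mem g), rfl⟩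
          have hidx : Nat.card V ≤ 2 * Nat.card ↥(V ⊓ Subgroup.centralizer {a}) := by
            have h1 := hAs.1.2.2
            rw [hHeq] at h1
            have h2 : Nat.card V * Nat.card H ≤
                Nat.card ↥(V ⊓ Subgroup.centralizer (A : Set G)) * (p * Nat.card H) :=
              h1.trans (Nat.mul_le_mul_left _ hAH)
            rw [← mul_assoc] at h2
            refine (Nat.le_of_mul_le_mul_right h2 Nat.card_pos).trans ?_
            rw [hp2, mul_comm]
            refine Nat.mul_le_mul_left _ (Subgroup.card_le_of_le (inf_le_inf_left _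
              (Subgroup.centralizer_le (Set.singleton_subset_iff.2 haA))))
          subst hp2
          rcases involves_or_normal_of_transvection hVn hVp hVc haC ha2 hidx with h4 | ⟨X, hXn, hCX,
            haX, k, hk⟩
          · exact hp4.elim (fun h => h rfl) fun h => h h4
          · haveI := hXn
            set D := C ⊔ (P : Subgroup G) ⊓ X with hD
            have hDX : D ≤ X := sup_le hCX inf_le_right
            have h1 : D.relIndex X = 1 := by
              refine Nat.eq_one_of_dvd_coprimes (a := 2 ^ k) (b := (P : Subgroup G).relIndex X)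
                (Nat.Coprime.pow_left k ((Nat.Prime.coprime_iff_not_dvd Nat.prime_two).2
                  (CfsgLib.CharCore.not_dvd_relIndex_of_isSubnormal hXn.isSubnormal P)))
                ((Subgroup.relIndex_dvd_of_le_left X (le_sup_left : C ≤ D)).trans (dvd_of_eq hk)) ?_
              rw [← Subgroup.inf_relIndex_right (P : Subgroup G) X]
              exact Subgroup.relIndex_dvd_of_le_left X le_sup_right
            refine hne (forall_fixed_of_normal P hover X (fun l hl => (hKmem l).1 ?_)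
              fun h => haC (hQC (h ⟨hEP (hAE haA), haX⟩)))
            exact (sup_le (fun c hc' => (hKmem c).2 (hCz c hc')) (inf_le_left.trans hPK) : D ≤ K)
              (Subgroup.relIndex_eq_one.1 h1 hl)
        -- a hyperplane with the same fixed points
        have hlt : H < A := lt_of_le_of_ne inf_le_left fun h => haM ((h.symm ▸ haA : a ∈ H)).2
        have hnoff := hAs.2 H hlt
        have h1 : ⁅⁅V, H⁆, H⁆ = ⊥ := by
          rw [eq_bot_iff, ← hAs.1.1]
          exact Subgroup.commutator_mono (Subgroup.commutator_mono le_rfl inf_le_left) inf_le_left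
        have hHC' : H ⊓ C = A ⊓ C :=
          le_antisymm (inf_le_inf_right _ inf_le_left) (le_inf (le_inf inf_le_left hAC) inf_le_right)
        have h2 := lt_of_not_ge fun h => hnoff ⟨h1, hHC, h⟩
        rw [hHC'] at h2
        have h3 := hAs.1.2.2
        set c₁ := Nat.card ↥(V ⊓ Subgroup.centralizer (A : Set G)) with hc₁
        set c₂ := Nat.card ↥(V ⊓ Subgroup.centralizer (H : Set G)) with hc₂
        have hlec : V ⊓ Subgroup.centralizer (A : Set G) ≤ V ⊓ Subgroup.centralizer (H : Set G) :=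
          inf_le_inf_left _ (Subgroup.centralizer_le (inf_le_left : H ≤ A))
        have h4 : c₂ < p * c₁ := by
          by_contra h
          push Not at h
          have : c₂ * Nat.card H < c₂ * Nat.card H :=
            calc c₂ * Nat.card H < Nat.card V * Nat.card ↥(A ⊓ C) := h2
              _ ≤ c₁ * Nat.card A := h3
              _ ≤ c₁ * (p * Nat.card H) := Nat.mul_le_mul_left _ hAH
              _ = p * c₁ * Nat.card H := by ring
              _ ≤ c₂ * Nat.card H := Nat.mul_le_mul_right _ h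
          exact lt_irrefl _ this
        obtain ⟨i, hi⟩ := (hVp.to_le (inf_le_left :
          V ⊓ Subgroup.centralizer (A : Set G) ≤ V)).exists_card_eq
        obtain ⟨j, hj⟩ := (hVp.to_le (inf_le_left :
          V ⊓ Subgroup.centralizer (H : Set G) ≤ V)).exists_card_eq
        have h5 : c₂ ≤ c₁ := by
          rw [hc₁, hc₂, hi, hj]
          have hji : j < i + 1 := (Nat.pow_lt_pow_iff_right (Fact.out : p.Prime).one_lt).1
            (by rw [pow_succ', ← hi, ← hj]; exact h4)
          exact Nat.pow_le_pow_right (Fact.out : p.Prime).pos (by omega)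
        have h6 := Subgroup.eq_of_le_of_card_ge hlec h5
        have hwH : (w : G) ∈ V ⊓ Subgroup.centralizer (H : Set G) := by
          refine ⟨w.2, ?_⟩
          rintro y ⟨-, m, hm, rfl⟩
          have h7 := congrArg Subtype.val (hwM m hm)
          rw [MulAut.conjNormal_apply] at h7
          exact mul_inv_eq_iff_eq_mul.1 h7
        rw [← h6] at hwH
        exact hwH.2 a haA
      · have h1 : p ∣ (∑ k ∈ Finset.range p, k) * 2 :=
          ⟨p - 1, Finset.sum_range_id_mul_two p⟩
        obtain ⟨c, hc'⟩ := ((Nat.Prime.coprime_iff_not_dvd Fact.out).2 fun h =>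
          hp2 ((Nat.prime_dvd_prime_iff_eq Fact.out Nat.prime_two).1 h)).dvd_of_dvd_mul_right h1
        rw [hc', pow_mul, hdp, one_pow]
    calc ∏ q ∈ O, f q = ∏ k ∈ Finset.range p, ∏ q ∈ F₀, f (g ^ k • q) := hFprod f
      _ = ∏ k ∈ Finset.range p, w * d ^ k := Finset.prod_congr rfl fun k _ => by
          rw [← hpow k, hw, map_prod]
          exact Finset.prod_congr rfl fun q _ => hf (a ^ k) q
      _ = w ^ p * d ^ (∑ k ∈ Finset.range p, k) := by
          rw [Finset.prod_mul_distrib, Finset.prod_const, Finset.card_range,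
            Finset.prod_pow_eq_pow_sum]
      _ = zV ^ O.card := by
          rw [hsum, mul_one, hw, ← Finset.prod_pow, Finset.prod_congr rfl (fun q _ => hfp q),
            Finset.prod_const, ← pow_mul, hFcard]
  have hN : ∏ q, f q = zV ^ Nat.card (G ⧸ K) := by
    rw [← Finset.prod_fiberwise_of_maps_to
      (g := fun q : G ⧸ K => Quotient.mk (MulAction.orbitRel E (G ⧸ K)) q)
      (fun q _ => Finset.mem_univ _), Finset.prod_congr rfl (fun o _ => horb o),
      Finset.prod_pow_eq_pow_sum, Nat.card_eq_fintype_card,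
      ← Finset.card_eq_sum_card_fiberwise (fun q _ => Finset.mem_univ _)]
    rfl
  refine hne fun g => ?_
  have hfixN : MulAut.conjNormal g (∏ q, f q) = ∏ q, f q := by
    rw [map_prod, Finset.prod_congr rfl (g := fun q => f (g • q)) (fun q _ => (hf g q).symm)]
    exact Fintype.prod_equiv (MulAction.toPerm g) _ _ fun q => rfl
  rw [hN, map_pow] at hfixN
  set x : V := zV⁻¹ * MulAut.conjNormal g zV with hx
  have h1 : x ^ Nat.card (G ⧸ K) = 1 := by rw [hx, mul_pow, inv_pow, hfixN, inv_mul_cancel]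
  obtain ⟨i, hi⟩ := hVp x
  have hcop : (p ^ i).Coprime (Nat.card (G ⧸ K)) :=
    Nat.Coprime.pow_left i ((Nat.Prime.coprime_iff_not_dvd Fact.out).2 fun h =>
      P.not_dvd_index (h.trans (Subgroup.index_dvd_of_le hPK)))
  have hx1 : x = 1 := orderOf_eq_one_iff.1 (Nat.eq_one_of_dvd_coprimes hcop
    (orderOf_dvd_of_pow_eq_one hi) (orderOf_dvd_of_pow_eq_one h1))
  rw [hx, inv_mul_eq_one] at hx1
  have h2 := congrArg Subtype.val hx1.symm
  rw [MulAut.conjNormal_apply] at h2
  exact h2

end Center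

section System

omit [Fact p.Prime] in
theorem center_le_jFunctor (Q : Type u) [Group Q] [Finite Q] :
    Subgroup.center Q ≤ jFunctor Q := by
  obtain ⟨A, hA⟩ := CfsgLib.Transfer.thompsonJ_nonempty 0 (⊤ : Subgroup Q)
  obtain ⟨-, ⟨hAc, -⟩, hmax⟩ := id hA
  have hc : A ⊔ Subgroup.center Q ≤
      Subgroup.centralizer ((A ⊔ Subgroup.center Q : Subgroup Q) : Set Q) := by
    refine sup_le (Subgroup.le_centralizer_iff.1 (sup_le (fun x hx y hy => ?_) fun x hx y hy => ?_))
      fun x hx y _ => Subgroup.mem_center_iff.1 hx y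
    · exact congrArg Subtype.val (mul_comm' (⟨y, hy⟩ : A) ⟨x, hx⟩)
    · exact Subgroup.mem_center_iff.1 hx y
  have h := hmax (A ⊔ Subgroup.center Q) le_top
    ⟨⟨⟨fun x y => Subtype.ext (hc y.2 x x.2)⟩⟩, fun x _ => pow_zero x⟩
  exact le_sup_right.trans
    ((Subgroup.eq_of_le_of_card_ge le_sup_left h).ge.trans (le_sSup hA))

variable {Ω : Type u} [Group Ω] {S : Subgroup Ω} [Finite S]

/-- The first part of Glauberman's theorem for fusion systems: `p`-th powers. -/
theorem agemo_center_thompson_le (hS : IsPGroup p S) {F : FusionSystem S} (hF : F.IsSaturated p)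
    {N : FusionSystem (normalizerIn S (functorOf jFunctor S))}
    (hN : F.IsNormalizerSystem (functorOf jFunctor S) N) :
    Subgroup.closure ((fun z => z ^ p) '' ((S ⊓ Subgroup.centralizer (S : Set Ω) : Subgroup Ω) :
      Set Ω)) ⊓ N.center ≤ F.center := by
  refine agemo_center_inf_le_center jFunctor jFunctor_map (fun Q _ _ _ => center_le_jFunctor Q)
    (fun G _ _ P hc => ?_) hS hF hN
  refine pow_central_of_quadratic jFunctor jFunctor_map (fun H _ _ R _ hRn => ?_) _ G rfl P hc
  exact exists_quadratic_element R hRn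

/-- Glauberman's theorem for fusion systems: `N_F(J(S))` has the centre of `F`, for `p` odd or
`S₄`-free systems. -/
theorem center_eq_thompson (hS : IsPGroup p S) {F : FusionSystem S} (hF : F.IsSaturated p)
    {N : FusionSystem (normalizerIn S (functorOf jFunctor S))}
    (hN : F.IsNormalizerSystem (functorOf jFunctor S) N)
    (h : p ≠ 2 ∨ F.IsSectionFree p (Equiv.Perm (Fin 4))) : N.center = F.center := by
  refine le_antisymm (fun z hz => ?_) (center_le_center_normalizerSystem jFunctor jFunctor_map hS hN)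
  have hzS : z ∈ S ⊓ Subgroup.centralizer (S : Set Ω) := by
    have hUn : normalizerIn S (functorOf jFunctor S) = S := inf_eq_left.2 fun s hs =>
      normalizer_le_functorOf jFunctor (jFunctor_map (p := p)) le_rfl hS (Subgroup.le_normalizer hs)
    have := finite_of_le (S := S) (P := normalizerIn S (functorOf jFunctor S)) inf_le_left
    have h1 := FusionSystem.center_le_centralizer N hz
    rw [hUn] at h1
    exact ⟨(inf_le_left : normalizerIn S (functorOf jFunctor S) ≤ S) ((isCentral_center N).1 hz), h1⟩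
  have hz' : z ∈ Subgroup.closure ((fun z => z ^ 1) '' ((S ⊓ Subgroup.centralizer (S : Set Ω) :
      Subgroup Ω) : Set Ω)) ⊓ N.center :=
    ⟨Subgroup.subset_closure ⟨z, hzS, pow_one z⟩, hz⟩
  have hWZ : ∀ (Q : Type u) [Group Q] [Finite Q], IsPGroup p Q →
      Subgroup.center Q ≤ jFunctor Q := fun Q _ _ _ => center_le_jFunctor Q
  rcases h with hp | hfree
  · refine pow_center_inf_le_center jFunctor jFunctor_map (H := Multiplicative ℤ) 1 hWZ
      (fun G _ _ P hc _ w hwP hw => ?_) hS hF (isSectionFree_infinite F _) hN hz'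
    rw [pow_one]
    exact center_thompson _ G rfl (Or.inl hp) P hc w hwP hw
  · refine pow_center_inf_le_center jFunctor jFunctor_map (H := Equiv.Perm (Fin 4)) 1 hWZ
      (fun G _ _ P hc hfr w hwP hw => ?_) hS hF hfree hN hz'
    rw [pow_one]
    exact center_thompson _ G rfl (Or.inr hfr) P hc w hwP hw

/-- Weak closure in groups of elements of `Z(S)` central in `N(J(S))`. -/
theorem weakly_closed_thompson {G : Type u} [Group G] [Finite G] (S : Sylow p G) {x : G}
    (hxS : x ∈ (S : Subgroup G))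
    (hx : ∀ c ∈ Subgroup.normalizer (functorOf jFunctor (S : Subgroup G) : Set G),
      c * x * c⁻¹ = x)
    (h : p ≠ 2 ∨ (∃ z ∈ (S : Subgroup G) ⊓ Subgroup.centralizer ((S : Subgroup G) : Set G),
      z ^ p = x) ∨ ¬ Cfsg.Involves (Equiv.Perm (Fin 4)) G)
    (g : G) (hg : g * x * g⁻¹ ∈ (S : Subgroup G)) : g * x * g⁻¹ = x := by
  set S' := (S : Subgroup G) with hS'
  have hS : IsPGroup p S' := S.isPGroup'
  have hF : (groupFusionSystem S').IsSaturated p := isSaturated_group S
  have hxc : x ∈ Subgroup.centralizer (S' : Set G) := fun y hy => mul_inv_eq_iff_eq_mul.1 (hx y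
    (normalizer_le_functorOf jFunctor (jFunctor_map (p := p)) le_rfl hS (Subgroup.le_normalizer hy)))
  have hzp : Subgroup.zpowers x ≤ S' := Subgroup.zpowers_le.2 hxS
  have hmap := isMap_group_of_conj g hzp fun y hy => by
    obtain ⟨i, rfl⟩ := Subgroup.mem_zpowers_iff.1 hy
    rw [← conj_zpow]
    exact S'.zpow_mem hg i
  have hfix : ∀ A f, IsMap (groupFusionSystem S') A f → functorOf jFunctor S' ≤ A →
      f '' (functorOf jFunctor S' : Set G) = functorOf jFunctor S' → f x = x := by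
    intro A f hf hle him
    obtain ⟨-, -, c, hc⟩ := isMap_group_iff.1 hf
    have hxJ : x ∈ functorOf jFunctor S' := mem_functorOf_of_central jFunctor
      (jFunctor_map (p := p)) (fun Q _ _ _ => center_le_jFunctor Q) hS le_rfl hxS hxc
    rw [hc x (hle hxJ)]
    refine hx c (Subgroup.mem_normalizer_fintype fun y hy => ?_)
    rw [← hc y (hle hy)]
    exact him.subset ⟨y, hy, rfl⟩
  have hWZ : ∀ (Q : Type u) [Group Q] [Finite Q], IsPGroup p Q →
      Subgroup.center Q ≤ jFunctor Q := fun Q _ _ _ => center_le_jFunctor Q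
  refine (?_ : (fun y => g * y * g⁻¹) x = x)
  rcases h with hp | ⟨z, ⟨hzS, hzc⟩, hzx⟩ | hfree
  · exact fixes_of_functor jFunctor jFunctor_map hWZ 1 (H := Multiplicative ℤ)
      (fun G _ _ P hc _ w hwP hw => by
        rw [pow_one]; exact center_thompson _ G rfl (Or.inl hp) P hc w hwP hw)
      _ G S' _ rfl hS hF (isSectionFree_infinite _ _) x hxS hxc x (pow_one x) hfix _ _ hmap
      (Subgroup.mem_zpowers x)
  · refine fixes_of_functor jFunctor jFunctor_map hWZ p (H := Multiplicative ℤ)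
      (fun G _ _ P hc _ => ?_)
      _ G S' _ rfl hS hF (isSectionFree_infinite _ _) z hzS hzc x hzx hfix _ _ hmap
      (Subgroup.mem_zpowers x)
    refine pow_central_of_quadratic jFunctor jFunctor_map (fun H _ _ R _ hRn => ?_) _ G rfl P hc
    exact exists_quadratic_element R hRn
  · exact fixes_of_functor jFunctor jFunctor_map hWZ 1 (H := Equiv.Perm (Fin 4))
      (fun G _ _ P hc hfr w hwP hw => by
        rw [pow_one]; exact center_thompson _ G rfl (Or.inr hfr) P hc w hwP hw)
      _ G S' _ rfl hS hF (isSectionFree_group S hfree) x hxS hxc x (pow_one x) hfix _ _ hmap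
      (Subgroup.mem_zpowers x)

end System

end CfsgLib.Fusion
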