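import Mathlib
import Cfsg.Agent.Lib.Fitting.Basic
import Cfsg.Agent.Lib.Transfer.Basic

/-!
Group lemmas for normal subsystems of constrained groups: commutators modulo a normal subgroup,
and coprime action on the `p`-core.
-/

set_option autoImplicit false

namespace CfsgLib.Fusion.ModelNormal

variable {G : Type*} [Group G] {p : ℕ}

/-- The elements commuting with all of `X` modulo the normal subgroup `N`. -/
def commMod {N : Subgroup G} (hN : N.Normal) (X : Subgroup G) : Subgroup G where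
  carrier := {g | ∀ x ∈ X, g * x * g⁻¹ * x⁻¹ ∈ N}
  one_mem' := fun x _ => by simp
  mul_mem' := fun {a b} ha hb x hx => by
    have e : a * b * x * (a * b)⁻¹ * x⁻¹ =
        a * (b * x * b⁻¹ * x⁻¹) * a⁻¹ * (a * x * a⁻¹ * x⁻¹) := by group
    rw [e]
    exact N.mul_mem (hN.conj_mem _ (hb x hx) a) (ha x hx)
  inv_mem' := fun {a} ha x hx => by
    have e : a⁻¹ * x * a⁻¹⁻¹ * x⁻¹ = a⁻¹ * (a * x * a⁻¹ * x⁻¹)⁻¹ * a⁻¹⁻¹ := by group
    rw [e]
    exact hN.conj_mem _ (N.inv_mem (ha x hx)) a⁻¹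

theorem mem_commMod {N : Subgroup G} {hN : N.Normal} {X : Subgroup G} {g : G} :
    g ∈ commMod hN X ↔ ∀ x ∈ X, g * x * g⁻¹ * x⁻¹ ∈ N :=
  Iff.rfl

theorem commMod_normal {N : Subgroup G} (hN : N.Normal) {X : Subgroup G} (hX : X.Normal) :
    (commMod hN X).Normal := by
  refine ⟨fun a ha g x hx => ?_⟩
  have h := hN.conj_mem _ (ha _ (hX.conj_mem x hx g⁻¹)) g
  convert h using 1
  group

theorem commutator_mem_of_left {N : Subgroup G} (hN : N.Normal) {a : G} (ha : a ∈ N) (b : G) :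
    a * b * a⁻¹ * b⁻¹ ∈ N := by
  rw [show a * b * a⁻¹ * b⁻¹ = a * (b * a⁻¹ * b⁻¹) by group]
  exact N.mul_mem ha (hN.conj_mem _ (N.inv_mem ha) b)

theorem commutator_mem_of_right {N : Subgroup G} (hN : N.Normal) (a : G) {b : G} (hb : b ∈ N) :
    a * b * a⁻¹ * b⁻¹ ∈ N :=
  N.mul_mem (hN.conj_mem b hb a) (N.inv_mem hb)

/-- An element of order prime to `p` moving `x` by a `p`-element it fixes, modulo `N`. -/
theorem mem_of_fixed_mod {N : Subgroup G} (hN : N.Normal) {g x : G}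
    (hg : (orderOf g).Coprime p)
    (hgy : g * (g * x * g⁻¹ * x⁻¹) * g⁻¹ * (g * x * g⁻¹ * x⁻¹)⁻¹ ∈ N) {j : ℕ}
    (hj : (g * x * g⁻¹ * x⁻¹) ^ p ^ j ∈ N) : g * x * g⁻¹ * x⁻¹ ∈ N := by
  have := hN
  generalize hy : g * x * g⁻¹ * x⁻¹ = y at hgy hj ⊢
  set π := QuotientGroup.mk' N
  have hker : ∀ u, u ∈ N → π u = 1 := fun u hu => (QuotientGroup.eq_one_iff u).2 hu
  have h1 : π g * π x * (π g)⁻¹ = π y * π x := by rw [← hy]; simp
  have h2 : π g * π y * (π g)⁻¹ = π y := by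
    have h := hker _ hgy
    simp only [map_mul, map_inv] at h
    exact mul_inv_eq_one.1 h
  have h3 : ∀ k : ℕ, π g ^ k * π x * (π g ^ k)⁻¹ = π y ^ k * π x := by
    intro k
    induction k with
    | zero => simp
    | succ k ih =>
      rw [pow_succ', show π g * π g ^ k * π x * (π g * π g ^ k)⁻¹ =
        π g * (π g ^ k * π x * (π g ^ k)⁻¹) * (π g)⁻¹ by group, ih,
        show π g * (π y ^ k * π x) * (π g)⁻¹ =
          (π g * π y * (π g)⁻¹) ^ k * (π g * π x * (π g)⁻¹) by rw [conj_pow]; group,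
        h2, h1, pow_succ, mul_assoc]
  have h4 := h3 (orderOf g)
  rw [← map_pow, pow_orderOf_eq_one, map_one, one_mul, inv_one, mul_one] at h4
  have h5 : π y ^ orderOf g = 1 := right_eq_mul.1 h4
  have h6 : π y ^ p ^ j = 1 := by rw [← map_pow]; exact hker _ hj
  have h7 : orderOf (π y) = 1 := Nat.eq_one_of_dvd_coprimes (hg.pow_right j)
    (orderOf_dvd_of_pow_eq_one h5) (orderOf_dvd_of_pow_eq_one h6)
  exact (QuotientGroup.eq_one_iff y).1 (orderOf_eq_one_iff.1 h7)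

theorem exists_pow_eq_one {Q : Subgroup G} (hQ : IsPGroup p Q) {y : G} (hy : y ∈ Q) :
    ∃ j : ℕ, y ^ p ^ j = 1 := by
  obtain ⟨j, hj⟩ := hQ ⟨y, hy⟩
  exact ⟨j, congrArg Subtype.val hj⟩

/-- An element of order prime to `p` moving `x` by an element of a `p`-group which it fixes. -/
theorem conj_eq_of_fixed {Q : Subgroup G} (hQ : IsPGroup p Q) {g x : G}
    (hg : (orderOf g).Coprime p) (hy : g * x * g⁻¹ * x⁻¹ ∈ Q)
    (hfix : g * (g * x * g⁻¹ * x⁻¹) * g⁻¹ = g * x * g⁻¹ * x⁻¹) : g * x * g⁻¹ = x := by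
  obtain ⟨j, hj⟩ := exists_pow_eq_one hQ hy
  have h := mem_of_fixed_mod (N := (⊥ : Subgroup G)) inferInstance hg
    (Subgroup.mem_bot.2 (by rw [hfix, mul_inv_cancel])) (j := j) (Subgroup.mem_bot.2 hj)
  exact mul_inv_eq_one.1 (Subgroup.mem_bot.1 h)

theorem fixed_of_mem_centralizer {X : Subgroup G} {g y : G}
    (hg : g ∈ Subgroup.centralizer (X : Set G)) (hy : y ∈ X) : g * y * g⁻¹ = y := by
  rw [← Subgroup.mem_centralizer_iff.1 hg y hy, mul_inv_cancel_right]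

theorem mem_centralizer_of_fixed {X : Subgroup G} {g : G} (h : ∀ y ∈ X, g * y * g⁻¹ = y) :
    g ∈ Subgroup.centralizer (X : Set G) := by
  rw [Subgroup.mem_centralizer_iff]
  intro y hy
  exact (mul_inv_eq_iff_eq_mul.1 (h y hy)).symm

variable [Finite G] [Fact p.Prime]

/-- A normal subgroup whose elements of order prime to `p` centralise `O_p(G)` lies in it, when
`O_p(G)` contains its centraliser. -/
theorem le_pCore_of_centralizes
    (hG : Subgroup.centralizer ((Cfsg.pCore p G : Subgroup G) : Set G) ≤ Cfsg.pCore p G)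
    {W : Subgroup G} (hW : W.Normal)
    (h : ∀ w ∈ W, (orderOf w).Coprime p → ∀ q ∈ Cfsg.pCore p G, w * q * w⁻¹ = q) :
    W ≤ Cfsg.pCore p G := by
  refine CfsgLib.Fitting.le_pCore hW fun w => ?_
  obtain ⟨a, m, -, -, hco, -⟩ := CfsgLib.Transfer.exists_pow_coprime_part (p := p) (w : G)
  refine ⟨a, Subtype.ext ?_⟩
  have hmem : (w : G) ^ p ^ a ∈ Cfsg.pCore p G :=
    hG (mem_centralizer_of_fixed (h _ (W.pow_mem w.2 _) hco))
  obtain ⟨j, hj⟩ := exists_pow_eq_one (CfsgLib.Fitting.pCore_isPGroup p) hmem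
  have h1 : orderOf ((w : G) ^ p ^ a) = 1 := Nat.eq_one_of_dvd_coprimes (hco.pow_right j)
    dvd_rfl (orderOf_dvd_of_pow_eq_one hj)
  simpa using orderOf_eq_one_iff.1 h1

omit [Finite G] [Fact p.Prime] in
theorem mem_of_pow_mem_coprime {A : Subgroup G} {x : G} {a b : ℕ} (h : a.Coprime b)
    (ha : x ^ a ∈ A) (hb : x ^ b ∈ A) : x ∈ A := by
  have h1 := Nat.gcd_eq_gcd_ab a b
  rw [h.gcd_eq_one] at h1
  have h2 : x = (x ^ a) ^ (Nat.gcdA a b) * (x ^ b) ^ (Nat.gcdB a b) := by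
    rw [← zpow_natCast x a, ← zpow_natCast x b, ← zpow_mul, ← zpow_mul, ← zpow_add, ← h1,
      Nat.cast_one, zpow_one]
  rw [h2]
  exact A.mul_mem (A.zpow_mem ha _) (A.zpow_mem hb _)

/-- A subgroup containing a Sylow subgroup and the elements of order prime to `p` of `K`
contains `K`. -/
theorem le_of_sylow_coprime {K A : Subgroup G} (P : Sylow p K)
    (hP : ∀ x : K, x ∈ (P : Subgroup K) → (x : G) ∈ A)
    (h : ∀ x ∈ K, (orderOf x).Coprime p → x ∈ A) : K ≤ A := by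
  have h1 : Cfsg.pResidual p K ≤ A.subgroupOf K :=
    (Subgroup.closure_le _).2 fun x hx => h x x.2 (by rw [Subgroup.orderOf_coe]; exact hx)
  have h2 : (P : Subgroup K) ⊔ Cfsg.pResidual p K ≤ A.subgroupOf K :=
    sup_le (fun x hx => hP x hx) h1
  rw [CfsgLib.Transfer.sylow_sup_pResidual P] at h2
  exact fun x hx => h2 (Subgroup.mem_top ⟨x, hx⟩)

end CfsgLib.Fusion.ModelNormal
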