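import Mathlib
import Cfsg.Agent.Lib.Fusion.Normal
import Cfsg.Agent.Lib.SylowNumber.Basic

/-!
Puig's theorem: modulo a strongly closed subgroup `T` every map extends to a map on `PT`.
-/

set_option autoImplicit false

namespace CfsgLib.Fusion

open Cfsg Cfsg.FusionSystem

variable {Ω : Type*} [Group Ω] {S : Subgroup Ω} {F : FusionSystem S} {p : ℕ}
variable [Fact p.Prime] [Finite S]

/-- Every map with source `P` agrees modulo the strongly closed subgroup `T` with a map with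
source `P ⊔ T`. -/
theorem exists_map_sup_congr (hS : IsPGroup p S) (hF : F.IsSaturated p) {T : Subgroup Ω}
    (hT : F.StronglyClosed T) {P : Subgroup Ω} {f : Ω → Ω} (hf : IsMap F P f) :
    ∃ f', IsMap F (P ⊔ T) f' ∧ ∀ x ∈ P, (f x)⁻¹ * f' x ∈ T := by
  have hTS := hT.1
  have hST : S ≤ Subgroup.normalizer (T : Set Ω) := fun g hg =>
    mem_normalizer_of_conj_mem hTS fun _ hx =>
      isMap_mem_of_stronglyClosed hT (isMap_conj le_rfl hg) (hTS hx) hx
  have hnorm : ∀ {s t : Ω}, s ∈ S → t ∈ T → s * t * s⁻¹ ∈ T := fun {s t} hs ht =>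
    conj_mem_of_mem_normalizer (hST hs) ht
  suffices key : ∀ (d : ℕ) (P : Subgroup Ω) (f : Ω → Ω), IsMap F P f →
      Nat.card S - Nat.card P = d →
      ∃ f', IsMap F (P ⊔ T) f' ∧ ∀ x ∈ P, (f x)⁻¹ * f' x ∈ T from key _ P f hf rfl
  intro d
  induction d using Nat.strong_induction_on with
  | _ d ih =>
  intro P f hf hd
  by_cases hTP : T ≤ P
  · exact ⟨f, hf.mono (by rw [sup_eq_left.2 hTP]), fun x _ => by simp⟩
  have hP := hf.le
  have := finite_of_le hP
  obtain ⟨Q, hQ⟩ := hf.exists_iso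
  obtain ⟨R, hPR, hfn⟩ := exists_isFullyNormalized (F := F) hP
  have hRS := hfn.1
  have ha := isFullyAutomized_of_isFullyNormalized hS hF hfn
  have hr := isReceptive_of_isFullyNormalized hS hF hfn
  -- the induction hypothesis on larger subgroups
  have hbig : ∀ (P₁ : Subgroup Ω) (g : Ω → Ω), IsMap F P₁ g → Nat.card P < Nat.card P₁ →
      ∃ g', IsMap F (P₁ ⊔ T) g' ∧ ∀ x ∈ P₁, (g x)⁻¹ * g' x ∈ T := fun P₁ g hg hlt => by
    refine ih _ ?_ P₁ g hg rfl
    have := Subgroup.card_le_of_le hg.le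
    omega
  -- maps onto `R` extend modulo `T`
  have hext : ∀ (P₀ : Subgroup Ω), F.IsConj P₀ R → Nat.card P₀ = Nat.card P → ¬ T ≤ P₀ →
      ∃ g g', IsIso F P₀ R g ∧ IsMap F (P₀ ⊔ T) g' ∧ ∀ x ∈ P₀, (g x)⁻¹ * g' x ∈ T := by
    intro P₀ hc hcard hT₀
    have hP₀ := (le_of_isConj hc).1
    obtain ⟨g, hg, hgi, -, -⟩ := exists_map_normalizerIn hS ha hr hc
    have hsup : P₀ ⊔ T ≤ S := sup_le hP₀ hTS
    have := finite_of_le hsup
    have hne : P₀ ≠ P₀ ⊔ T := fun e => hT₀ (e.symm ▸ le_sup_right)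
    have hlt := lt_normalizerIn (hS.to_le hsup) le_sup_left hne
    have hle : normalizerIn (P₀ ⊔ T) P₀ ≤ normalizerIn S P₀ := inf_le_inf hsup le_rfl
    obtain ⟨g', hg', hgv⟩ := hbig _ g (hg.mono hle) (by
      rw [← hcard, ← SetLike.coe_sort_coe, ← SetLike.coe_sort_coe, Nat.card_coe_set_eq,
        Nat.card_coe_set_eq]
      have hfin : Finite (normalizerIn (P₀ ⊔ T) P₀) := finite_of_le (hle.trans inf_le_left)
      exact Set.ncard_lt_ncard (SetLike.coe_ssubset_coe.2 hlt) (Set.toFinite _))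
    exact ⟨g, g', hgi, hg'.mono (sup_le_sup_right hlt.le T), fun x hx => hgv x (hlt.le hx)⟩
  have hTQ : ¬ T ≤ Q := by
    intro h
    obtain ⟨k, hk, -, -⟩ := hQ.exists_symm
    have : Finite T := finite_of_le hTS
    refine hTP fun t ht => ?_
    obtain ⟨u, hu, rfl⟩ := (image_eq_of_mem hTS hk.isMap h fun x hx =>
      isMap_mem_of_stronglyClosed hT hk.isMap (h hx) hx).ge ht
    exact hk.mem (h hu)
  obtain ⟨g₁, g₁', hg₁, hg₁', hv₁⟩ := hext P hPR rfl hTP
  obtain ⟨g₂, g₂', hg₂, hg₂', hv₂⟩ := hext Q (isConj_trans (isConj_symm hQ.isConj) hPR)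
    hQ.card_eq hTQ
  have hRT : R ⊔ T ≤ S := sup_le hRS hTS
  -- automorphisms of `R`
  have haut : ∀ α ∈ F.autGroup R, ∃ a', IsMap F (R ⊔ T) a' ∧
      ∀ x ∈ R, (autFun α x)⁻¹ * a' x ∈ T := by
    intro α hα
    by_cases hTR : T ≤ R
    · exact ⟨autFun α, ((mem_autGroup_iff hRS α).1 hα).isMap.mono (by rw [sup_eq_left.2 hTR]),
        fun x _ => by simp⟩
    have := finite_of_le hRS
    have := finite_mulAut R
    obtain ⟨-, U, hU⟩ := ha
    have hmem : ∀ β ∈ F.autGroup R, ∀ y : R, (y : Ω) ∈ T → (β y : Ω) ∈ T := fun β hβ y hy => by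
      have := isMap_mem_of_stronglyClosed hT ((mem_autGroup_iff hRS β).1 hβ).isMap y.2 hy
      rwa [autFun_coe] at this
    let K : Subgroup (F.autGroup R) :=
      { carrier := {β | ∀ x : R, ((x⁻¹ * (β : MulAut R) x : R) : Ω) ∈ T}
        one_mem' := fun x => by simp
        mul_mem' := fun {a b} h1 h2 x => by
          rw [Subgroup.coe_mul (F.autGroup R), MulAut.mul_apply,
            show x⁻¹ * (a : MulAut R) ((b : MulAut R) x) = (x⁻¹ * (b : MulAut R) x) *
              (((b : MulAut R) x)⁻¹ * (a : MulAut R) ((b : MulAut R) x)) by group]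
          exact T.mul_mem (h2 x) (h1 _)
        inv_mem' := fun {a} h1 x => by
          have h := T.inv_mem (h1 ((a : MulAut R)⁻¹ x))
          rw [MulAut.apply_inv_self] at h
          simpa using h }
    haveI : K.Normal := ⟨fun a h1 b x => by
      have h := hmem b b.2 _ (h1 ((b : MulAut R)⁻¹ x))
      rw [map_mul, map_inv, MulAut.apply_inv_self] at h
      exact h⟩
    let D := CfsgLib.SylowNumber.infSylow K U
    have hFr := Sylow.normalizer_sup_eq_top D
    have hαm : (⟨α, hα⟩ : F.autGroup R) ∈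
        ((Subgroup.normalizer (((D : Subgroup K).map K.subtype : Subgroup (F.autGroup R)) :
          Set (F.autGroup R)) ⊔ K : Subgroup (F.autGroup R)) : Set (F.autGroup R)) := by
      rw [SetLike.mem_coe, hFr]; exact Subgroup.mem_top _
    rw [Subgroup.coe_mul_of_left_le_normalizer_right _ K
      Subgroup.le_normalizer_of_normal] at hαm
    obtain ⟨α₁, hα₁, κ, hκ, hprod⟩ := hαm
    have hα₁iso := (mem_autGroup_iff hRS (α₁ : MulAut R)).1 α₁.2
    obtain ⟨e, he, hev⟩ := (isReceptive_iff.1 hr).2 R _ hα₁iso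
    have hN : normalizerIn (R ⊔ T) R ≤ nPhi S R (autFun (α₁ : MulAut R)) := by
      intro g hg
      obtain ⟨m, hm, t, ht, rfl⟩ : ∃ m ∈ R, ∃ t ∈ T, g = m * t := by
        have h : g ∈ ((R ⊔ T : Subgroup Ω) : Set Ω) := hg.1
        rw [Subgroup.coe_mul_of_left_le_normalizer_right R T (hRS.trans hST)] at h
        obtain ⟨m, hm, t, ht, rfl⟩ := h
        exact ⟨m, hm, t, ht, rfl⟩
      have htn : t ∈ Subgroup.normalizer (R : Set Ω) := by
        have := Subgroup.mul_mem _ (Subgroup.inv_mem _ (Subgroup.le_normalizer hm)) hg.2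
        rwa [inv_mul_cancel_left] at this
      refine Subgroup.mul_mem _ (le_nPhi hα₁iso.isMap hm) ?_
      let ct : F.autGroup R := ⟨conjAut R htn,
        autInducedBy_le_autGroup hRS (conjAut_mem_autInducedBy htn (hTS ht))⟩
      have hctK : ct ∈ K := fun x => by
        rw [Subgroup.coe_mul, Subgroup.coe_inv, conjAut_apply,
          show (x : Ω)⁻¹ * (t * x * t⁻¹) = ((x : Ω)⁻¹ * t * ((x : Ω)⁻¹)⁻¹) * t⁻¹ by group]
        exact T.mul_mem (hnorm (S.inv_mem (hRS x.2)) ht) (T.inv_mem ht)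
      have hctD : ct ∈ (D : Subgroup K).map K.subtype :=
        ⟨⟨ct, hctK⟩, by
          show ct ∈ (U : Subgroup (F.autGroup R))
          rw [hU, Subgroup.mem_subgroupOf]
          exact conjAut_mem_autInducedBy htn (hTS ht), rfl⟩
      obtain ⟨k, hk, hke⟩ := (Subgroup.mem_normalizer_iff.1 hα₁ ct).1 hctD
      have hkU : ((α₁ * ct * α₁⁻¹ : F.autGroup R) : MulAut R) ∈ autInducedBy S R := by
        have h : (k : F.autGroup R) ∈ (U : Subgroup (F.autGroup R)) := hk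
        rw [hU, Subgroup.mem_subgroupOf] at h
        rwa [show α₁ * ct * α₁⁻¹ = (k : F.autGroup R) from hke.symm]
      obtain ⟨s, hs, hsv⟩ := (mem_autInducedBy_iff S R _).1 hkU
      refine ⟨hTS ht, htn, s, hs, fun z hz => ?_⟩
      have := hsv ((α₁ : MulAut R) ⟨z, hz⟩)
      rw [Subgroup.coe_mul, Subgroup.coe_mul, Subgroup.coe_inv, MulAut.mul_apply, MulAut.mul_apply,
        MulAut.inv_apply_self] at this
      rw [autFun_apply _ hz, autFun_apply _ (conj_mem_of_mem_normalizer htn hz), ← this]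
      rfl
    have := finite_of_le hRT
    have hne : R ≠ R ⊔ T := fun e => hTR (e.symm ▸ le_sup_right)
    have hlt := lt_normalizerIn (hS.to_le hRT) le_sup_left hne
    obtain ⟨e', he', he'v⟩ := hbig _ e (he.mono hN) (by
      rw [← hg₁.card_eq, ← SetLike.coe_sort_coe, ← SetLike.coe_sort_coe, Nat.card_coe_set_eq,
        Nat.card_coe_set_eq]
      have hfin : Finite (normalizerIn (R ⊔ T) R) := finite_of_le (inf_le_left.trans hRT)
      exact Set.ncard_lt_ncard (SetLike.coe_ssubset_coe.2 hlt) (Set.toFinite _))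
    refine ⟨e', he'.mono (sup_le_sup_right hlt.le T), fun x hx => ?_⟩
    have h1 := he'v x (hlt.le hx)
    rw [hev x hx, autFun_apply _ hx] at h1
    have h2 := hmem _ α₁.2 _ (hκ ⟨x, hx⟩)
    rw [map_mul, map_inv, ← MulAut.mul_apply, ← Subgroup.coe_mul,
      show α₁ * κ = (⟨α, hα⟩ : F.autGroup R) from hprod, Subgroup.coe_mul R, Subgroup.coe_inv R,
      ← autFun_apply α hx] at h2
    have h3 := T.mul_mem (T.inv_mem h2) h1
    rwa [mul_inv_rev, inv_inv, mul_assoc, mul_inv_cancel_left] at h3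
  obtain ⟨k₁, hk₁, hk₁l, -⟩ := hg₁.exists_symm
  obtain ⟨α, hα, hαv⟩ := exists_mem_autGroup ((hk₁.comp hQ).comp hg₂)
  obtain ⟨a', ha', hav⟩ := haut α hα
  have himg : ∀ (P₀ : Subgroup Ω) (h h' : Ω → Ω) (R₀ : Subgroup Ω), IsIso F P₀ R₀ h →
      IsMap F (P₀ ⊔ T) h' → (∀ x ∈ P₀, (h x)⁻¹ * h' x ∈ T) →
      IsIso F (P₀ ⊔ T) (R₀ ⊔ T) h' := by
    intro P₀ h h' R₀ hh hh' hv
    have hTm : ∀ t ∈ T, h' t ∈ T := fun t ht =>
      isMap_mem_of_stronglyClosed hT hh' (Subgroup.mem_sup_right ht) ht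
    have hTi := image_eq_of_mem hTS hh' le_sup_right hTm
    refine ⟨hh', ?_⟩
    ext y
    constructor
    · rintro ⟨x, hx, rfl⟩
      rw [SetLike.mem_coe, ← SetLike.mem_coe, Subgroup.coe_mul_of_left_le_normalizer_right P₀ T
        (hh.le_left.trans hST)] at hx
      obtain ⟨a, ha, t, ht, rfl⟩ := hx
      rw [hh'.map_mul (Subgroup.mem_sup_left ha) (Subgroup.mem_sup_right ht)]
      have := Subgroup.mul_mem (R₀ ⊔ T) (Subgroup.mul_mem _ (Subgroup.mem_sup_left (hh.mem ha))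
        (Subgroup.mem_sup_right (hv a ha))) (Subgroup.mem_sup_right (hTm t ht))
      rwa [mul_inv_cancel_left] at this
    · intro hy
      rw [Subgroup.coe_mul_of_left_le_normalizer_right R₀ T (hh.le_right.trans hST)] at hy
      obtain ⟨r, hr', t, ht, rfl⟩ := hy
      obtain ⟨a, ha, rfl⟩ := hh.surj hr'
      obtain ⟨u, hu, hue⟩ := hTi.ge (T.mul_mem (T.inv_mem (hv a ha)) ht)
      refine ⟨a * u, Subgroup.mul_mem _ (Subgroup.mem_sup_left ha) (Subgroup.mem_sup_right hu), ?_⟩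
      rw [hh'.map_mul (Subgroup.mem_sup_left ha) (Subgroup.mem_sup_right hu), hue]
      group
  have i₁ := himg P g₁ g₁' R hg₁ hg₁' hv₁
  have i₂ := himg Q g₂ g₂' R hg₂ hg₂' hv₂
  have i₃ := himg R (autFun α) a' R ((mem_autGroup_iff hRS α).1 hα) ha' hav
  obtain ⟨k₂, hk₂, hk₂l, -⟩ := i₂.exists_symm
  refine ⟨k₂ ∘ a' ∘ g₁', ((i₁.comp i₃).comp hk₂).isMap, fun x hx => ?_⟩
  have hTm : ∀ {P₀ : Subgroup Ω} {h : Ω → Ω}, IsMap F P₀ h → ∀ {t : Ω}, t ∈ P₀ → t ∈ T → h t ∈ T :=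
    fun {_ _} hh {t} ht htT => isMap_mem_of_stronglyClosed hT hh ht htT
  have hx1 : x ∈ P ⊔ T := Subgroup.mem_sup_left hx
  have hgx := hg₁.mem hx
  have e1 : autFun α (g₁ x) = g₂ (f x) := by
    rw [autFun_apply _ hgx, hαv]
    show g₂ (f (k₁ (g₁ x))) = _
    rw [hk₁l x hx]
  have d1 := hv₁ x hx
  have d2 := hav _ hgx
  rw [e1] at d2
  have d3 := hv₂ _ (hQ.mem hx)
  have e2 : a' (g₁' x) = a' (g₁ x) * a' ((g₁ x)⁻¹ * g₁' x) := by
    rw [← ha'.map_mul (Subgroup.mem_sup_left hgx) (Subgroup.mem_sup_right d1), mul_inv_cancel_left]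
  have d4 : (g₂' (f x))⁻¹ * a' (g₁' x) ∈ T := by
    rw [e2]
    have := T.mul_mem (T.mul_mem (T.inv_mem d3) d2) (hTm ha' (Subgroup.mem_sup_right d1) d1)
    rwa [mul_inv_rev, inv_inv, mul_assoc ((g₂' (f x))⁻¹), mul_inv_cancel_left, mul_assoc] at this
  have hq : g₂' (f x) ∈ R ⊔ T := i₂.mem (Subgroup.mem_sup_left (hQ.mem hx))
  have hy : a' (g₁' x) ∈ R ⊔ T := i₃.mem (i₁.mem hx1)
  have d5 := hTm hk₂.isMap (Subgroup.mul_mem _ (Subgroup.inv_mem _ hq) hy) d4
  rwa [hk₂.isMap.map_mul (Subgroup.inv_mem _ hq) hy, hk₂.isMap.map_inv hq,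
    hk₂l _ (Subgroup.mem_sup_left (hQ.mem hx))] at d5

end CfsgLib.Fusion
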