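import Mathlib
import Cfsg.Agent.Lib.Fusion.Puig
import Cfsg.Agent.Lib.Fusion.FactorSystem
import Cfsg.Agent.Lib.Fusion.Hyperfocal

/-!
Consequences of Puig's theorem: factor systems modulo strongly closed subgroups.
-/

set_option autoImplicit false

namespace CfsgLib.Fusion

open Cfsg Cfsg.FusionSystem

variable {Ω : Type*} [Group Ω] {S : Subgroup Ω} {F : FusionSystem S} {p : ℕ}
variable [Fact p.Prime] [Finite S]

theorem stronglyClosed_sup_centralizerIn (hS : IsPGroup p S) (hF : F.IsSaturated p)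
    {T : Subgroup Ω} (hT : F.StronglyClosed T) : F.StronglyClosed (T ⊔ centralizerIn S T) := by
  refine stronglyClosed_iff.2 ⟨sup_le hT.1 inf_le_left, fun P f hf x hx hxT => ?_⟩
  obtain ⟨f', hf', hv⟩ := exists_map_sup_congr hS hF hT hf
  rw [← SetLike.mem_coe, Subgroup.coe_mul_of_right_le_normalizer_left T (centralizerIn S T)
    (inf_le_right.trans (Subgroup.centralizer_le_normalizer _))] at hxT
  obtain ⟨t, ht, c, hc, rfl⟩ := hxT
  have ht' : t ∈ P ⊔ T := Subgroup.mem_sup_right ht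
  have hc' : c ∈ P ⊔ T := by
    have := Subgroup.mul_mem _ (Subgroup.inv_mem _ ht') (Subgroup.mem_sup_left hx : t * c ∈ P ⊔ T)
    rwa [inv_mul_cancel_left] at this
  have hTi := image_eq_of_mem hT.1 hf' le_sup_right fun u hu =>
    isMap_mem_of_stronglyClosed hT hf' (Subgroup.mem_sup_right hu) hu
  have hfc : f' c ∈ centralizerIn S T :=
    ⟨hf'.mem hc', mem_centralizer_of_conj_eq fun u hu => by
      obtain ⟨w, hw, rfl⟩ := hTi.ge hu
      rw [← hf'.map_conj hc' (Subgroup.mem_sup_right hw), conj_eq_self_of_mem_centralizer hc.2 hw]⟩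
  have h1 : f (t * c) = f' t * f' c * ((f (t * c))⁻¹ * f' (t * c))⁻¹ := by
    rw [hf'.map_mul ht' hc']; group
  rw [h1]
  exact Subgroup.mul_mem _ (Subgroup.mul_mem _ (Subgroup.mem_sup_left
    (isMap_mem_of_stronglyClosed hT hf' ht' ht)) (Subgroup.mem_sup_right hfc))
    (Subgroup.inv_mem _ (Subgroup.mem_sup_left (hv _ hx)))

/-- An automorphism of `P` agrees modulo `T` with one of `P ⊔ T`. -/
theorem exists_autGroup_sup_congr (hS : IsPGroup p S) (hF : F.IsSaturated p) {T : Subgroup Ω}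
    (hT : F.StronglyClosed T) {P : Subgroup Ω} (hP : P ≤ S) {α : MulAut P}
    (hα : α ∈ F.autGroup P) :
    ∃ β ∈ F.autGroup (P ⊔ T), ∀ x : P,
      (α x : Ω)⁻¹ * (β ⟨x, Subgroup.mem_sup_left x.2⟩ : ↥(P ⊔ T)) ∈ T := by
  obtain ⟨f', hf', hv⟩ := exists_map_sup_congr hS hF hT ((mem_autGroup_iff hP α).1 hα).isMap
  have hsup : P ⊔ T ≤ S := sup_le hP hT.1
  have := finite_of_le hsup
  have hmem : ∀ y ∈ P ⊔ T, f' y ∈ P ⊔ T := by
    intro y hy
    have hle : P ⊔ T ≤ Subgroup.closure ((P : Set Ω) ∪ T) :=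
      sup_le (fun x hx => Subgroup.subset_closure (Or.inl hx))
        fun x hx => Subgroup.subset_closure (Or.inr hx)
    have hy' : y ∈ Subgroup.closure ((P : Set Ω) ∪ T) := hle hy
    have hle' : Subgroup.closure ((P : Set Ω) ∪ T) ≤ P ⊔ T := (Subgroup.closure_le _).2
      (Set.union_subset (fun x hx => Subgroup.mem_sup_left hx) fun x hx => Subgroup.mem_sup_right hx)
    induction hy' using Subgroup.closure_induction with
    | mem x hx =>
      rcases hx with hx | hx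
      · have := Subgroup.mul_mem _ (Subgroup.mem_sup_left (autFun_mem α hx))
          (Subgroup.mem_sup_right (hv x hx) : (autFun α x)⁻¹ * f' x ∈ P ⊔ T)
        rwa [mul_inv_cancel_left] at this
      · exact Subgroup.mem_sup_right
          (isMap_mem_of_stronglyClosed hT hf' (Subgroup.mem_sup_right hx) hx)
    | one => rw [hf'.map_one]; exact Subgroup.one_mem _
    | mul a b ha hb iha ihb =>
      rw [hf'.map_mul (hle' ha) (hle' hb)]
      exact Subgroup.mul_mem _ (iha (hle' ha)) (ihb (hle' hb))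
    | inv a ha iha =>
      rw [hf'.map_inv (hle' ha)]
      exact Subgroup.inv_mem _ (iha (hle' ha))
  obtain ⟨β, hβ, hβv⟩ := exists_mem_autGroup (hf'.isIso_of_card_le hmem le_rfl)
  exact ⟨β, hβ, fun x => by rw [hβv, ← autFun_coe α x]; exact hv x x.2⟩

/-- Congruences modulo `T` of automorphisms are compatible with powers. -/
theorem pow_congr_mod {T P : Subgroup Ω} (hT : F.StronglyClosed T) (hP : P ≤ S) {α : MulAut P}
    {β : MulAut ↥(P ⊔ T)} (hβ : β ∈ F.autGroup (P ⊔ T))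
    (h : ∀ x : P, (α x : Ω)⁻¹ * (β ⟨x, Subgroup.mem_sup_left x.2⟩ : ↥(P ⊔ T)) ∈ T) (k : ℕ) :
    ∀ x : P, ((α ^ k) x : Ω)⁻¹ * ((β ^ k) ⟨x, Subgroup.mem_sup_left x.2⟩ : ↥(P ⊔ T)) ∈ T := by
  have hsup : P ⊔ T ≤ S := sup_le hP hT.1
  induction k with
  | zero => intro x; simp
  | succ k ih =>
    intro x
    rw [pow_succ', pow_succ', MulAut.mul_apply, MulAut.mul_apply]
    obtain ⟨d, hd, hde⟩ : ∃ d : ↥(P ⊔ T), (d : Ω) ∈ T ∧ (β ^ k) ⟨x, Subgroup.mem_sup_left x.2⟩ =
        ⟨((α ^ k) x : P), Subgroup.mem_sup_left (SetLike.coe_mem _)⟩ * d :=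
      ⟨⟨_, Subgroup.mem_sup_right (ih x)⟩, ih x, Subtype.ext (mul_inv_cancel_left _ _).symm⟩
    rw [hde, map_mul, Subgroup.coe_mul, ← mul_assoc]
    refine T.mul_mem (h _) ?_
    have := isMap_mem_of_stronglyClosed hT ((mem_autGroup_iff hsup β).1 hβ).isMap d.2 hd
    rwa [autFun_coe] at this

omit [Fact p.Prime] in
/-- A subgroup containing all displacements of `p'`-automorphisms contains the hyperfocal subgroup. -/
theorem hyperfocal_le_of_coprime {H : Subgroup Ω}
    (h : ∀ (P : Subgroup Ω) (α : MulAut P), P ≤ S → α ∈ F.autGroup P → (orderOf α).Coprime p →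
      ∀ x : P, (x : Ω)⁻¹ * (α x : P) ∈ H) : F.hyperfocalSubgroup p ≤ H := by
  refine (Subgroup.closure_le _).2 ?_
  rintro _ ⟨P, α, x, hP, hα, rfl⟩
  suffices key : ∀ x : P, (x : Ω)⁻¹ * ((α : MulAut P) x : P) ∈ H from key x
  induction hα using Subgroup.closure_induction with
  | mem a ha => exact h P a hP a.2 (by rw [Subgroup.orderOf_coe]; exact ha)
  | one => intro x; simp
  | mul a b _ _ ha hb =>
    intro x
    have := H.mul_mem (hb x) (ha ((b : MulAut P) x))
    rw [mul_assoc, mul_inv_cancel_left] at this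
    exact this
  | inv a _ ha =>
    intro x
    have := H.inv_mem (ha ((a : MulAut P)⁻¹ x))
    rw [MulAut.apply_inv_self, mul_inv_rev, inv_inv] at this
    exact this

/-- The action of the hyperfocal subgroup on a strongly closed subgroup `T` is in `O^p(Aut_F T) Inn T`. -/
theorem hyperfocal_automizer (hS : IsPGroup p S) (hF : F.IsSaturated p) {T : Subgroup Ω}
    (hT : F.StronglyClosed T) {x : Ω} (hx : x ∈ F.hyperfocalSubgroup p) :
    ∃ α ∈ ((Cfsg.pResidual p (F.autGroup T)).map (F.autGroup T).subtype ⊔ Cfsg.Inn T :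
        Subgroup (MulAut T)), ∀ t : T, (α t : Ω) = x * t * x⁻¹ := by
  have hST : S ≤ Subgroup.normalizer (T : Set Ω) := fun g hg =>
    mem_normalizer_of_conj_mem hT.1 fun _ hy =>
      isMap_mem_of_stronglyClosed hT (isMap_conj le_rfl hg) (hT.1 hy) hy
  have := finite_of_le hT.1
  have := finite_mulAut T
  set N : Subgroup (MulAut T) :=
    (Cfsg.pResidual p (F.autGroup T)).map (F.autGroup T).subtype ⊔ Cfsg.Inn T
  let c : S →* MulAut T := T.normalizerMonoidHom.comp (Subgroup.inclusion hST)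
  have hc : ∀ (s : S) (t : T), (c s t : Ω) = s * t * (s : Ω)⁻¹ := fun s t => rfl
  suffices hle : F.hyperfocalSubgroup p ≤ (N.comap c).map S.subtype by
    obtain ⟨s, hs, rfl⟩ := hle hx
    exact ⟨c s, hs, hc s⟩
  refine hyperfocal_le_of_coprime fun P α hP hα hcop x => ?_
  have hmemN : ∀ (y : Ω) (hy : y ∈ S), c ⟨y, hy⟩ ∈ N → y ∈ (N.comap c).map S.subtype :=
    fun y hy h => ⟨⟨y, hy⟩, h, rfl⟩
  obtain ⟨β, hβ, hβα⟩ := exists_autGroup_sup_congr hS hF hT hP hα
  have hsup : P ⊔ T ≤ S := sup_le hP hT.1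
  have := finite_of_le hsup
  have := finite_of_le hP
  have := finite_mulAut ↥(P ⊔ T)
  have := finite_mulAut P
  obtain ⟨a, -, -, -, hβcop, -⟩ := CfsgLib.Transfer.exists_pow_coprime_part (p := p) β
  have hk : ∀ x : P, (x : Ω)⁻¹ * ((α ^ p ^ a) x : P) ∈ (N.comap c).map S.subtype := by
    intro x
    set β' := β ^ p ^ a with hβ'
    have hβ'm : β' ∈ F.autGroup (P ⊔ T) := Subgroup.pow_mem _ hβ _
    have hiso := (mem_autGroup_iff hsup β').1 hβ'm
    have hTm : ∀ t ∈ T, autFun β' t ∈ T := fun t ht =>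
      isMap_mem_of_stronglyClosed hT hiso.isMap (Subgroup.mem_sup_right ht) ht
    obtain ⟨γ, hγ, hγv⟩ := exists_mem_autGroup
      ((hiso.isMap.mono le_sup_right).isIso_of_card_le hTm le_rfl)
    have hγn : ∀ (k : ℕ) (t : T), ((γ ^ k) t : Ω) =
        ((β' ^ k) ⟨t, Subgroup.mem_sup_right t.2⟩ : ↥(P ⊔ T)) := by
      intro k
      induction k with
      | zero => intro t; rfl
      | succ k ih =>
        intro t
        rw [pow_succ', pow_succ', MulAut.mul_apply, MulAut.mul_apply, hγv]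
        have := ih t
        rw [this, autFun_coe]
    have hγord : γ ^ orderOf β' = 1 :=
      MulEquiv.ext fun t => Subtype.ext (by rw [hγn, pow_orderOf_eq_one]; rfl)
    have hγR : (⟨γ, hγ⟩ : F.autGroup T) ∈ Cfsg.pResidual p (F.autGroup T) := by
      refine CfsgLib.Transfer.mem_pResidual_of_coprime ?_
      rw [Subgroup.orderOf_mk]
      exact hβcop.coprime_dvd_left (orderOf_dvd_of_pow_eq_one hγord)
    set y : ↥(P ⊔ T) := ⟨x, Subgroup.mem_sup_left x.2⟩
    have hcy : c ⟨(β' y : Ω), hsup (β' y).2⟩ = γ * c ⟨x, hP x.2⟩ * γ⁻¹ := by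
      refine MulEquiv.ext fun t => Subtype.ext ?_
      obtain ⟨t, rfl⟩ := γ.surjective t
      rw [MulAut.mul_apply, MulAut.mul_apply, MulAut.inv_apply_self, hc, hγv, hγv, hc,
        ← autFun_coe β' y, hiso.isMap.map_conj y.2 (Subgroup.mem_sup_right t.2)]
    have hd : ((α ^ p ^ a) x : Ω)⁻¹ * (β' y : Ω) ∈ T := pow_congr_mod hT hP hβ hβα (p ^ a) x
    have hdN : c ⟨_, hT.1 hd⟩ ∈ N := Subgroup.mem_sup_right
      ⟨⟨_, hd⟩, MulEquiv.ext fun t => Subtype.ext rfl⟩
    have hyN : c ⟨(x : Ω)⁻¹ * (β' y : Ω), S.mul_mem (S.inv_mem (hP x.2)) (hsup (β' y).2)⟩ ∈ N := by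
      rw [show (⟨(x : Ω)⁻¹ * (β' y : Ω), _⟩ : S) = (⟨x, hP x.2⟩ : S)⁻¹ * ⟨(β' y : Ω), hsup (β' y).2⟩
        from rfl, map_mul, map_inv, hcy]
      refine Subgroup.mem_sup_left ?_
      have hcx : c ⟨x, hP x.2⟩ ∈ F.autGroup T := autInducedBy_le_autGroup hT.1
        ((mem_autInducedBy_iff S T _).2 ⟨x, hP x.2, hc _⟩)
      have hn := CfsgLib.Transfer.pResidual_normal p (F.autGroup T)
      obtain ⟨u, hu⟩ : ∃ u : F.autGroup T, (u : MulAut T) = c ⟨x, hP x.2⟩ := ⟨⟨_, hcx⟩, rfl⟩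
      obtain ⟨w, hw⟩ : ∃ w : F.autGroup T, w = ⟨γ, hγ⟩ := ⟨_, rfl⟩
      rw [← hw] at hγR
      rw [← hu, show γ = (w : MulAut T) by rw [hw]]
      refine Subgroup.mem_map.2 ⟨u⁻¹ * (w * u * w⁻¹), ?_, ?_⟩
      · have := Subgroup.mul_mem _ (hn.conj_mem w hγR u⁻¹) (Subgroup.inv_mem _ hγR)
        simpa [mul_assoc] using this
      · rw [Subgroup.coe_subtype, Subgroup.coe_mul, Subgroup.coe_mul, Subgroup.coe_mul,
          Subgroup.coe_inv, Subgroup.coe_inv]
    refine hmemN _ (S.mul_mem (S.inv_mem (hP x.2)) (hP (SetLike.coe_mem _))) ?_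
    have := N.mul_mem hyN (N.inv_mem hdN)
    rw [← map_inv, ← map_mul] at this
    convert this using 2
    refine Subtype.ext ?_
    simp [mul_assoc]
  obtain ⟨k, hk'⟩ : ∃ k, (α ^ p ^ a) ^ k = α := by
    exact exists_pow_eq_self_of_coprime (Nat.Coprime.pow_left a hcop.symm)
  rw [← hk']
  clear hk'
  induction k generalizing x with
  | zero => simp
  | succ k ih =>
    rw [pow_succ', MulAut.mul_apply]
    have := Subgroup.mul_mem _ (ih x) (hk (((α ^ p ^ a) ^ k) x))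
    rwa [mul_assoc, mul_inv_cancel_left] at this

variable {Ω' : Type*} [Group Ω'] {S' : Subgroup Ω'} {θ : S →* Ω'} {E : FusionSystem S'}

omit [Fact p.Prime] [Finite S] in
theorem mem_imageAlong {θ : S →* Ω'} {P : Subgroup Ω} (hP : P ≤ S) {x : Ω} (hx : x ∈ P) :
    homExt θ x ∈ imageAlong θ P :=
  ⟨⟨x, hP hx⟩, hx, (homExt_apply θ (hP hx)).symm⟩

omit [Fact p.Prime] [Finite S] in
theorem preimageAlong_imageAlong {T : Subgroup Ω} (hE : F.IsFactorSystem T θ E) {P : Subgroup Ω}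
    (hP : P ≤ S) : preimageAlong θ (imageAlong θ P) = P ⊔ T := by
  refine le_antisymm (fun x hx => ?_) (sup_le (fun x hx => (mem_preimageAlong θ _).2
    ⟨hP hx, mem_imageAlong hP hx⟩) (le_preimageAlong hE _))
  obtain ⟨hxS, y, hy, hye⟩ := (mem_preimageAlong θ _).1 hx
  rw [homExt_apply θ hxS] at hye
  have hd : y⁻¹ * ⟨x, hxS⟩ ∈ θ.ker := by
    rw [MonoidHom.mem_ker, map_mul, map_inv, hye, inv_mul_cancel]
  have hd' : ((y⁻¹ * ⟨x, hxS⟩ : S) : Ω) ∈ T := (hE.2.1 _).1 hd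
  have := Subgroup.mul_mem (P ⊔ T) (Subgroup.mem_sup_left hy) (Subgroup.mem_sup_right hd')
  simpa [mul_assoc] using this

theorem isSurjectiveMorphism_factor (hS : IsPGroup p S) (hF : F.IsSaturated p) {T : Subgroup Ω}
    (hT : F.StronglyClosed T) (hE : F.IsFactorSystem T θ E) : F.IsSurjectiveMorphism E θ := by
  obtain ⟨-, hker, hr, hiff⟩ := hE
  refine ⟨⟨fun s => hr.le ⟨s, rfl⟩, fun P φ hφ => ?_⟩, hr,
    fun P' _ φ' hφ' => ((hiff P' φ').1 hφ').2⟩
  have hP := (F.le_of_mem hφ).1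
  have hφS : ∀ x : P, φ x ∈ S := (F.le_of_mem hφ).2
  obtain ⟨f', hf', hv⟩ := exists_map_sup_congr hS hF hT (isMap_homFun hφ)
  have hpre := preimageAlong_imageAlong ⟨hT.1, hker, hr, hiff⟩ hP
  have hP' : imageAlong θ P ≤ S' := by
    rintro _ ⟨s, -, rfl⟩
    exact hr.le ⟨s, rfl⟩
  obtain ⟨g, ⟨φ', hφ', hφ'v⟩, hrel⟩ := exists_factor_map ⟨hT.1, hker, hr, hiff⟩ hP'
    (f := f') (hpre.symm ▸ hf') fun t ht =>
      isMap_mem_of_stronglyClosed hT hf' (Subgroup.mem_sup_right ht) ht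
  refine ⟨φ', hφ', hP, hφS, fun x => ⟨⟨x, hP x.2⟩, x.2, rfl⟩, fun x => ?_⟩
  have hxP : (x : Ω) ∈ preimageAlong θ (imageAlong θ P) :=
    hpre.symm ▸ Subgroup.mem_sup_left x.2
  have h1 := hrel x hxP
  rw [homExt_apply θ (hP x.2)] at h1
  have h2 : homExt θ (f' x) = θ ⟨φ x, hφS x⟩ := by
    have h3 := hv x x.2
    rw [homFun_coe] at h3
    have h4 := (mem_of_homExt_eq_one ⟨hT.1, hker, hr, hiff⟩ (hT.1 h3)).2 h3
    rw [homExt_mul' θ (S.inv_mem (hφS x)) (hf'.mem (Subgroup.mem_sup_left x.2)),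
      homExt_inv' θ (hφS x), inv_mul_eq_one, homExt_apply θ (hφS x)] at h4
    exact h4.symm
  rw [← h2, ← h1]
  exact hφ'v _

omit [Fact p.Prime] in
theorem exists_lift_autGroup {T : Subgroup Ω} (hE : F.IsFactorSystem T θ E) {P' : Subgroup Ω'}
    {α' : MulAut P'} (hP' : P' ≤ S') (hα : α' ∈ E.autGroup P') :
    ∃ β ∈ F.autGroup (preimageAlong θ P'), ∀ x : preimageAlong θ P',
      homExt θ (β x : Ω) = autFun α' (homExt θ x) := by
  have := finite_of_le (preimageAlong_le θ P')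
  obtain ⟨-, f, hf, hrel⟩ := (isMap_factor_iff hE).1 ((mem_autGroup_iff hP' α').1 hα).isMap
  have hmem : ∀ x ∈ preimageAlong θ P', f x ∈ preimageAlong θ P' := fun x hx =>
    (mem_preimageAlong θ P').2 ⟨hf.mem hx, by
      rw [← hrel x hx]; exact autFun_mem α' ((mem_preimageAlong θ P').1 hx).2⟩
  obtain ⟨β, hβ, hv⟩ := exists_mem_autGroup (hf.isIso_of_card_le hmem le_rfl)
  exact ⟨β, hβ, fun x => by rw [hv]; exact (hrel x x.2).symm⟩

theorem hyperfocal_factor (hS : IsPGroup p S) (hF : F.IsSaturated p) {T : Subgroup Ω}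
    (hT : F.StronglyClosed T) (hE : F.IsFactorSystem T θ E) :
    E.hyperfocalSubgroup p = ((F.hyperfocalSubgroup p).subgroupOf S).map θ := by
  have hr : θ.range = S' := hE.2.2.1
  haveI : Finite S' := hr ▸ Finite.of_surjective _ θ.rangeRestrict_surjective
  refine le_antisymm (hyperfocal_le_of_coprime fun P' α' hP' hα hcop y => ?_) ?_
  · obtain ⟨β, hβ, hβv⟩ := exists_lift_autGroup hE hP' hα
    have hP := preimageAlong_le θ P'
    have := finite_of_le hP
    have := finite_mulAut (preimageAlong θ P')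
    have := finite_of_le hP'
    have := finite_mulAut P'
    obtain ⟨a, -, -, -, hβcop, -⟩ := CfsgLib.Transfer.exists_pow_coprime_part (p := p) β
    have hpow : ∀ (k : ℕ) (x : preimageAlong θ P') (y : P'), homExt θ x = y →
        homExt θ ((β ^ k) x : Ω) = ((α' ^ k) y : Ω') := by
      intro k
      induction k with
      | zero => intro x y h; exact h
      | succ k ih =>
        intro x y h
        rw [pow_succ', pow_succ', MulAut.mul_apply, MulAut.mul_apply, hβv, ih x y h, autFun_coe]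
    obtain ⟨x, hx, hxy⟩ := exists_mem_preimageAlong (hP'.trans hr.ge) y.2
    obtain ⟨k, hk⟩ : ∃ k, (α' ^ p ^ a) ^ k = α' :=
      exists_pow_eq_self_of_coprime (Nat.Coprime.pow_left a hcop.symm)
    have hβ' : (β ^ p ^ a) ^ k ∈ F.autGroup (preimageAlong θ P') :=
      Subgroup.pow_mem _ (Subgroup.pow_mem _ hβ _) _
    have hgen := inv_mul_mem_hyperfocal (α := ⟨_, hβ'⟩) hP
      (Subgroup.pow_mem _ (CfsgLib.Transfer.mem_pResidual_of_coprime
        (x := (⟨β ^ p ^ a, Subgroup.pow_mem _ hβ _⟩ : F.autGroup (preimageAlong θ P')))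
        (by rwa [Subgroup.orderOf_mk])) k : _ ∈ Cfsg.pResidual p _) ⟨x, hx⟩
    refine ⟨⟨_, S.mul_mem (S.inv_mem (hP hx)) (hP (SetLike.coe_mem _))⟩, hgen, ?_⟩
    rw [← homExt_apply θ, homExt_mul' θ (S.inv_mem (hP hx)) (hP (SetLike.coe_mem _)),
      homExt_inv' θ (hP hx), hxy]
    congr 1
    show homExt θ ((((β ^ p ^ a) ^ k) ⟨x, hx⟩ : preimageAlong θ P') : Ω) = _
    rw [← pow_mul, hpow _ ⟨x, hx⟩ y hxy, pow_mul, hk]
  · have hle : F.hyperfocalSubgroup p ≤ ((E.hyperfocalSubgroup p).comap θ).map S.subtype := by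
      refine hyperfocal_le_of_coprime fun P α hP hα hcop x => ?_
      obtain ⟨β, hβ, hβα⟩ := exists_autGroup_sup_congr hS hF hT hP hα
      have hsup : P ⊔ T ≤ S := sup_le hP hT.1
      have := finite_of_le hsup
      have := finite_of_le hP
      have := finite_mulAut ↥(P ⊔ T)
      have := finite_mulAut P
      obtain ⟨a, -, -, -, hβcop, -⟩ := CfsgLib.Transfer.exists_pow_coprime_part (p := p) β
      set Q' := imageAlong θ P
      have hpre := preimageAlong_imageAlong hE hP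
      have hQ' : Q' ≤ S' := by
        rintro _ ⟨s, -, rfl⟩
        exact hr.le ⟨s, rfl⟩
      have := finite_of_le hQ'
      set β' := β ^ p ^ a
      have hiso := (mem_autGroup_iff hsup β').1 (Subgroup.pow_mem _ hβ _)
      obtain ⟨g, hg, hrel⟩ := exists_factor_map hE hQ' (f := autFun β') (hpre.symm ▸ hiso.isMap)
        fun t ht => isMap_mem_of_stronglyClosed hT hiso.isMap (Subgroup.mem_sup_right ht) ht
      have hgmem : ∀ y ∈ Q', g y ∈ Q' := by
        intro y hy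
        obtain ⟨z, hz, rfl⟩ := exists_mem_preimageAlong (hQ'.trans hr.ge) hy
        rw [hrel z hz]
        exact ((mem_preimageAlong θ Q').1 (hpre.symm ▸ hiso.mem (hpre ▸ hz))).2
      obtain ⟨γ, hγ, hγv⟩ := exists_mem_autGroup (hg.isIso_of_card_le hgmem le_rfl)
      have hγn : ∀ (k : ℕ) (z : ↥(P ⊔ T)) (y : Q'), homExt θ z = y →
          ((γ ^ k) y : Ω') = homExt θ ((β' ^ k) z : Ω) := by
        intro k
        induction k with
        | zero => intro z y h; exact h.symm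
        | succ k ih =>
          intro z y h
          rw [pow_succ', pow_succ', MulAut.mul_apply, MulAut.mul_apply, hγv, ih z y h,
            hrel _ (hpre.symm ▸ SetLike.coe_mem _), autFun_coe]
      have hγord : γ ^ orderOf β' = 1 := MulEquiv.ext fun y => Subtype.ext (by
        obtain ⟨z, hz, hzy⟩ := exists_mem_preimageAlong (hQ'.trans hr.ge) y.2
        rw [hγn _ ⟨z, hpre ▸ hz⟩ y hzy, pow_orderOf_eq_one, MulAut.one_apply]
        exact hzy)
      obtain ⟨k, hk⟩ : ∃ k, (α ^ p ^ a) ^ k = α :=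
        exists_pow_eq_self_of_coprime (Nat.Coprime.pow_left a hcop.symm)
      have hgen := inv_mul_mem_hyperfocal (F := E) (α := ⟨γ ^ k, Subgroup.pow_mem _ hγ _⟩) hQ'
        (Subgroup.pow_mem _ (CfsgLib.Transfer.mem_pResidual_of_coprime
          (x := (⟨γ, hγ⟩ : E.autGroup Q'))
          (by rw [Subgroup.orderOf_mk]; exact hβcop.coprime_dvd_left
                (orderOf_dvd_of_pow_eq_one hγord))) k : _ ∈ Cfsg.pResidual p _)
        ⟨homExt θ x, mem_imageAlong hP x.2⟩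
      refine ⟨⟨_, S.mul_mem (S.inv_mem (hP x.2)) (hP (SetLike.coe_mem _))⟩, ?_, rfl⟩
      rw [SetLike.mem_coe, Subgroup.mem_comap, ← homExt_apply θ,
        homExt_mul' θ (S.inv_mem (hP x.2)) (hP (SetLike.coe_mem _)), homExt_inv' θ (hP x.2)]
      convert hgen using 2
      show homExt θ (α x : Ω) = ((γ ^ k) ⟨homExt θ x, mem_imageAlong hP x.2⟩ : Q')
      rw [hγn k ⟨x, Subgroup.mem_sup_left x.2⟩ _ rfl, ← pow_mul]
      have hd := pow_congr_mod hT hP hβ hβα (p ^ a * k) x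
      rw [pow_mul α, hk] at hd
      have hd' := (mem_of_homExt_eq_one hE (hT.1 hd)).2 hd
      rw [homExt_mul' θ (S.inv_mem (hP (SetLike.coe_mem _))) (hsup (SetLike.coe_mem _)),
        homExt_inv' θ (hP (SetLike.coe_mem _)), inv_mul_eq_one] at hd'
      exact hd'
    rintro _ ⟨s, hs, rfl⟩
    obtain ⟨t, ht, hts⟩ := hle hs
    rw [← show t = s from Subtype.ext hts]
    exact ht

end CfsgLib.Fusion
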