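import Mathlib
import Cfsg.Agent.Lib.Fusion.FactorMorphism

/-!
Factor systems of saturated systems are saturated.
-/

set_option autoImplicit false

namespace CfsgLib.Fusion

open Cfsg Cfsg.FusionSystem
open scoped Pointwise

variable {Ω : Type*} [Group Ω] {S : Subgroup Ω} {F : FusionSystem S} {p : ℕ}
variable [Fact p.Prime] [Finite S]
variable {Ω' : Type*} [Group Ω'] {S' : Subgroup Ω'} {θ : S →* Ω'} {E : FusionSystem S'}

theorem isSaturated_factor (hS : IsPGroup p S) (hF : F.IsSaturated p) {T : Subgroup Ω}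
    (hT : F.StronglyClosed T) (hE : F.IsFactorSystem T θ E) : E.IsSaturated p := by
  have hr : θ.range = S' := hE.2.2.1
  haveI : Finite S' := hr ▸ Finite.of_surjective _ θ.rangeRestrict_surjective
  have hsurj : ∀ {Q' : Subgroup Ω'}, Q' ≤ S' → ∀ y ∈ Q', ∃ x ∈ preimageAlong θ Q',
      homExt θ x = y := fun {Q'} hQ' y hy => exists_mem_preimageAlong (hQ'.trans hr.ge) hy
  intro P' hP'
  obtain ⟨R, hPR, hfn⟩ := exists_isFullyNormalized (F := F) (preimageAlong_le θ P')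
  obtain ⟨f, hf⟩ := isConj_iff.1 hPR
  have hTP := le_preimageAlong hE P'
  have hTm : ∀ x ∈ T, f x ∈ T := fun x hx =>
    isMap_mem_of_stronglyClosed hT hf.isMap (hTP hx) hx
  have hTR : T ≤ R := fun y hy => by
    obtain ⟨x, hx, rfl⟩ := (image_eq_of_mem hT.1 hf.isMap hTP hTm).ge hy
    exact hf.mem (hTP hx)
  obtain ⟨f', hf', hrel⟩ := exists_factor_map hE hP' hf.isMap hTm
  obtain ⟨R', hR'⟩ := hf'.exists_iso
  have hR'S := hR'.le_right
  have hpre : preimageAlong θ R' = R := by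
    refine le_antisymm (fun y hy => ?_) fun y hy => ?_
    · obtain ⟨hyS, hy'⟩ := (mem_preimageAlong θ R').1 hy
      obtain ⟨z, hz, hze⟩ := hR'.surj hy'
      obtain ⟨x, hx, rfl⟩ := hsurj hP' z hz
      rw [hrel x hx] at hze
      have hd : (f x)⁻¹ * y ∈ T := by
        refine (mem_of_homExt_eq_one hE (S.mul_mem (S.inv_mem (hf.isMap.mem hx)) hyS)).1 ?_
        rw [homExt_mul' θ (S.inv_mem (hf.isMap.mem hx)) hyS, homExt_inv' θ (hf.isMap.mem hx), hze,
          inv_mul_cancel]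
      have := R.mul_mem (hf.mem hx) (hTR hd)
      rwa [mul_inv_cancel_left] at this
    · obtain ⟨x, hx, rfl⟩ := hf.surj hy
      exact (mem_preimageAlong θ R').2
        ⟨hf.isMap.mem hx, hrel x hx ▸ hR'.mem ((mem_preimageAlong θ P').1 hx).2⟩
  have hRS := hfn.1
  have := finite_of_le hRS
  have := finite_of_le hR'S
  have := finite_mulAut R
  have := finite_mulAut R'
  have ha := isFullyAutomized_of_isFullyNormalized hS hF hfn
  have hr' := isReceptive_of_isFullyNormalized hS hF hfn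
  obtain ⟨-, U, hU⟩ := ha
  have hst : ∀ β ∈ F.autGroup R, ∀ x : R, (x : Ω) ∈ T → (β x : Ω) ∈ T := fun β hβ x hx => by
    have := isMap_mem_of_stronglyClosed hT ((mem_autGroup_iff hRS β).1 hβ).isMap x.2 hx
    rwa [autFun_coe] at this
  have hexists : ∀ β : F.autGroup R, ∃ γ : E.autGroup R', ∀ x : R,
      autFun (γ : MulAut R') (homExt θ x) = homExt θ ((β : MulAut R) x : Ω) := by
    intro β
    have hiso := (mem_autGroup_iff hRS (β : MulAut R)).1 β.2
    obtain ⟨g, hg, hgr⟩ := exists_factor_map hE hR'S (f := autFun (β : MulAut R))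
      (hpre.symm ▸ hiso.isMap) fun t ht =>
        isMap_mem_of_stronglyClosed hT hiso.isMap (hTR ht) ht
    have hmem : ∀ y ∈ R', g y ∈ R' := by
      intro y hy
      obtain ⟨x, hx, rfl⟩ := hsurj hR'S y hy
      rw [hgr x hx]
      exact ((mem_preimageAlong θ R').1 (hpre.symm ▸ hiso.mem (hpre ▸ hx))).2
    obtain ⟨γ, hγ, hγv⟩ := exists_mem_autGroup (hg.isIso_of_card_le hmem le_rfl)
    refine ⟨⟨γ, hγ⟩, fun x => ?_⟩
    have hxR : homExt θ (x : Ω) ∈ R' := ((mem_preimageAlong θ R').1 (hpre.symm ▸ x.2)).2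
    rw [autFun_apply _ hxR, hγv, hgr _ (hpre.symm ▸ x.2), autFun_coe]
  choose π hπ using hexists
  have hπext : ∀ (γ γ' : E.autGroup R'), (∀ x : R, autFun (γ : MulAut R') (homExt θ x) =
      autFun (γ' : MulAut R') (homExt θ x)) → γ = γ' := by
    intro γ γ' h
    refine Subtype.ext (MulEquiv.ext fun y => Subtype.ext ?_)
    obtain ⟨x, hx, hxy⟩ := hsurj hR'S y y.2
    have h1 := h ⟨x, hpre ▸ hx⟩
    rw [show homExt θ ((⟨x, hpre ▸ hx⟩ : R) : Ω) = (y : Ω') from hxy, autFun_coe, autFun_coe] at h1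
    exact h1
  let Pm : F.autGroup R →* E.autGroup R' := MonoidHom.mk' π fun a b => hπext _ _ fun x => by
    have hxR : homExt θ (x : Ω) ∈ R' := ((mem_preimageAlong θ R').1 (hpre.symm ▸ x.2)).2
    rw [hπ, Subgroup.coe_mul (F.autGroup R), MulAut.mul_apply, ← hπ a, ← hπ b,
      autFun_apply ((π a * π b : E.autGroup R') : MulAut R') hxR, Subgroup.coe_mul,
      MulAut.mul_apply, autFun_apply (π b : MulAut R') hxR, autFun_coe]
  have hPm : Function.Surjective Pm := by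
    rintro ⟨γ, hγ⟩
    obtain ⟨-, g, hg, hgr⟩ := (isMap_factor_iff hE).1 ((mem_autGroup_iff hR'S γ).1 hγ).isMap
    have hmem : ∀ x ∈ R, g x ∈ R := fun x hx => hpre ▸ (mem_preimageAlong θ R').2
      ⟨hg.mem (hpre.symm ▸ hx), by
        rw [← hgr x (hpre.symm ▸ hx)]
        exact autFun_mem γ ((mem_preimageAlong θ R').1 (hpre.symm ▸ hx)).2⟩
    obtain ⟨β, hβ, hβv⟩ := exists_mem_autGroup ((hpre ▸ hg : IsMap F R g).isIso_of_card_le hmem le_rfl)
    refine ⟨⟨β, hβ⟩, hπext _ _ fun x => ?_⟩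
    rw [show Pm ⟨β, hβ⟩ = π ⟨β, hβ⟩ from rfl, hπ, hβv]
    exact (hgr x (hpre.symm ▸ x.2)).symm
  have hxR' : ∀ x : R, homExt θ (x : Ω) ∈ R' := fun x =>
    ((mem_preimageAlong θ R').1 (hpre.symm ▸ x.2)).2
  have hTS : ∀ β : F.autGroup R, (β : MulAut R) ∈ autInducedBy S R →
      (Pm β : MulAut R') ∈ autInducedBy S' R' := by
    intro β hβ
    obtain ⟨s, hs, hv⟩ := (mem_autInducedBy_iff S R _).1 hβ
    refine (mem_autInducedBy_iff S' R' _).2 ⟨homExt θ s, ?_, fun y => ?_⟩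
    · rw [← hr, homExt_apply θ hs]; exact ⟨_, rfl⟩
    · obtain ⟨x, hx, hxy⟩ := hsurj hR'S y y.2
      have h1 := hπ β ⟨x, hpre ▸ hx⟩
      rw [show homExt θ ((⟨x, hpre ▸ hx⟩ : R) : Ω) = (y : Ω') from hxy, autFun_coe, hv] at h1
      rw [show (Pm β : E.autGroup R') = π β from rfl, h1,
        homExt_conj θ hs (hRS (hpre ▸ hx : x ∈ R)), hxy]
  have hST' : ∀ γ ∈ autInducedBy S' R', ∃ β : F.autGroup R,
      (β : MulAut R) ∈ autInducedBy S R ∧ (Pm β : MulAut R') = γ := by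
    intro γ hγ
    obtain ⟨s', hs', hv⟩ := (mem_autInducedBy_iff S' R' _).1 hγ
    obtain ⟨s, rfl⟩ : s' ∈ θ.range := hr.ge hs'
    have hn : (s : Ω) ∈ normalizerIn S R := by
      rw [← hpre, normalizerIn_preimageAlong hE hR'S]
      exact (mem_preimageAlong θ _).2 ⟨s.2, by
        rw [homExt_apply θ s.2]; exact mem_normalizerIn_of_induces hR'S hs' hv⟩
    refine ⟨⟨conjAut R hn.2, autInducedBy_le_autGroup hRS (conjAut_mem_autInducedBy hn.2 hn.1)⟩,
      conjAut_mem_autInducedBy hn.2 hn.1, MulEquiv.ext fun y => Subtype.ext ?_⟩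
    obtain ⟨x, hx, hxy⟩ := hsurj hR'S y y.2
    have h1 := hπ ⟨conjAut R hn.2, autInducedBy_le_autGroup hRS
      (conjAut_mem_autInducedBy hn.2 hn.1)⟩ ⟨x, hpre ▸ hx⟩
    rw [show homExt θ ((⟨x, hpre ▸ hx⟩ : R) : Ω) = (y : Ω') from hxy, autFun_coe] at h1
    refine h1.trans ?_
    show homExt θ ((s : Ω) * x * (s : Ω)⁻¹) = _
    rw [homExt_conj θ s.2 (hRS (hpre ▸ hx : x ∈ R)), hxy, homExt_apply θ s.2, hv]
  refine ⟨R', hR'.isConj, ⟨hR'S, U.mapSurjective hPm, ?_⟩, isReceptive_iff.2 ⟨hR'S, ?_⟩⟩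
  · ext γ
    constructor
    · rintro ⟨β, hβ, rfl⟩
      have h : (β : F.autGroup R) ∈ (U : Subgroup (F.autGroup R)) := hβ
      rw [hU, Subgroup.mem_subgroupOf] at h
      exact hTS β h
    · intro hγ
      obtain ⟨β, hβ, hβe⟩ := hST' _ hγ
      refine ⟨β, ?_, Subtype.ext hβe⟩
      show β ∈ (U : Subgroup (F.autGroup R))
      rw [hU]
      exact hβ
  intro Q' φ hφ
  have hQ'S := hφ.le_left
  obtain ⟨-, g, hg, hgr⟩ := (isMap_factor_iff hE).1 hφ.isMap
  set Q := preimageAlong θ Q' with hQ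
  have hTQ := le_preimageAlong hE Q'
  have hgT : ∀ x ∈ T, g x ∈ T := fun x hx => isMap_mem_of_stronglyClosed hT hg (hTQ hx) hx
  have hgiso : IsIso F Q R g := by
    refine ⟨hg, ?_⟩
    ext y
    constructor
    · rintro ⟨x, hx, rfl⟩
      rw [SetLike.mem_coe, ← hpre]
      exact (mem_preimageAlong θ R').2
        ⟨hg.mem hx, by rw [← hgr x hx]; exact hφ.mem ((mem_preimageAlong θ Q').1 hx).2⟩
    · intro hy
      rw [SetLike.mem_coe, ← hpre] at hy
      obtain ⟨hyS, hy'⟩ := (mem_preimageAlong θ R').1 hy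
      obtain ⟨z, hz, hze⟩ := hφ.surj hy'
      obtain ⟨x, hx, rfl⟩ := hsurj hQ'S z hz
      rw [hgr x hx] at hze
      have hd : (g x)⁻¹ * y ∈ T := by
        refine (mem_of_homExt_eq_one hE (S.mul_mem (S.inv_mem (hg.mem hx)) hyS)).1 ?_
        rw [homExt_mul' θ (S.inv_mem (hg.mem hx)) hyS, homExt_inv' θ (hg.mem hx), hze,
          inv_mul_cancel]
      obtain ⟨u, hu, hue⟩ := (image_eq_of_mem hT.1 hg hTQ hgT).ge hd
      refine ⟨x * u, Q.mul_mem hx (hTQ hu), ?_⟩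
      rw [hg.map_mul hx (hTQ hu), hue, mul_inv_cancel_left]
  set N := preimageAlong θ (nPhi S' Q' φ) with hN
  have hNn : ∀ s ∈ N, s ∈ normalizerIn S Q := by
    intro s hs
    rw [normalizerIn_preimageAlong hE hQ'S]
    exact preimageAlong_mono θ (nPhi_le Q' φ) hs
  have hNQn : N ≤ Subgroup.normalizer (Q : Set Ω) := fun s hs => (hNn s hs).2
  have hNS : N ≤ S := fun s hs => (hNn s hs).1
  let c : N →* F.autGroup R :=
    ((MulAut.congr hgiso.equiv).toMonoidHom.comp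
      (Q.normalizerMonoidHom.comp (Subgroup.inclusion hNQn))).codRestrict _ fun s =>
      hgiso.congr_mem_autGroup (autInducedBy_le_autGroup (preimageAlong_le θ Q')
        (conjAut_mem_autInducedBy (hNQn s.2) (hNS s.2)))
  have hcv : ∀ (s : N) (x : Q), (((c s : F.autGroup R) : MulAut R) (hgiso.equiv x) : Ω) =
      g (s * x * (s : Ω)⁻¹) := fun s x => hgiso.congr_apply _ x
  have hcK : c.range ≤ (U : Subgroup (F.autGroup R)) ⊔ Pm.ker := by
    rintro _ ⟨s, rfl⟩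
    obtain ⟨hsS, hs'⟩ := (mem_preimageAlong θ _).1 s.2
    obtain ⟨-, hsn, h, hh, hv⟩ := hs'
    obtain ⟨u, rfl⟩ : h ∈ θ.range := hr.ge hh
    have hn : (u : Ω) ∈ normalizerIn S R := by
      rw [← hpre, normalizerIn_preimageAlong hE hR'S]
      refine (mem_preimageAlong θ _).2 ⟨u.2, ?_⟩
      rw [homExt_apply θ u.2]
      refine ⟨hr.le ⟨u, rfl⟩, mem_normalizer_of_conj_mem hR'S fun y hy => ?_⟩
      obtain ⟨z, hz, rfl⟩ := hφ.surj hy
      rw [← hv z hz]
      exact hφ.mem (conj_mem_of_mem_normalizer hsn hz)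
    set d : F.autGroup R := ⟨conjAut R hn.2,
      autInducedBy_le_autGroup hRS (conjAut_mem_autInducedBy hn.2 hn.1)⟩ with hd
    have hdU : d ∈ (U : Subgroup (F.autGroup R)) := by
      rw [hU]; exact conjAut_mem_autInducedBy hn.2 hn.1
    have heq : Pm (c s) = Pm d := hπext _ _ fun y => by
      rw [show Pm (c s) = π (c s) from rfl, show Pm d = π d from rfl, hπ, hπ]
      obtain ⟨x, rfl⟩ := hgiso.equiv.surjective y
      rw [hcv, hd, conjAut_apply, IsIso.equiv_apply, homExt_conj θ u.2 (hg.mem x.2),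
        homExt_apply θ u.2, ← hgr _ (conj_mem_of_mem_normalizer (hNQn s.2) x.2), ← hgr _ x.2,
        homExt_conj θ (hNS s.2) (preimageAlong_le θ Q' x.2)]
      exact hv _ ((mem_preimageAlong θ Q').1 x.2).2
    have hk : d⁻¹ * c s ∈ Pm.ker := by
      rw [MonoidHom.mem_ker, map_mul, map_inv, heq, inv_mul_cancel]
    have := Subgroup.mul_mem _ (Subgroup.mem_sup_left (T := Pm.ker) hdU) (Subgroup.mem_sup_right hk)
    rwa [mul_inv_cancel_left] at this
  set M := (U : Subgroup (F.autGroup R)) ⊔ Pm.ker with hM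
  have hcp : IsPGroup p c.range := (hS.to_le hNS).of_surjective _ c.rangeRestrict_surjective
  obtain ⟨W, hW⟩ := (hcp.of_equiv (Subgroup.subgroupOfEquivOfLe hcK).symm).exists_le_sylow
  obtain ⟨m, hm⟩ := MulAction.exists_smul_eq M W (U.subtype (le_sup_left (b := Pm.ker)))
  have hconj : ∀ a ∈ c.range, (m : F.autGroup R) * a * (m : F.autGroup R)⁻¹ ∈
      (U : Subgroup (F.autGroup R)) := by
    intro a ha
    have h1 : (⟨a, hcK ha⟩ : M) ∈ (W : Subgroup M) := hW ha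
    have h2 := Subgroup.smul_mem_pointwise_smul _ (MulAut.conj m) _ h1
    rw [show MulAut.conj m • (W : Subgroup M) = ((m • W : Sylow p M) : Subgroup M) from rfl, hm] at h2
    exact h2
  obtain ⟨t, ht, κ, hκ, htκ⟩ :
      (m : F.autGroup R) ∈ ((U : Subgroup (F.autGroup R)) : Set (F.autGroup R)) *
        (Pm.ker : Set (F.autGroup R)) := by
    rw [← Subgroup.coe_mul_of_left_le_normalizer_right _ Pm.ker Subgroup.le_normalizer_of_normal]
    exact m.2
  have hconj' : ∀ a ∈ c.range, κ * a * κ⁻¹ ∈ (U : Subgroup (F.autGroup R)) := by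
    intro a ha
    have h1 := Subgroup.mul_mem _ (Subgroup.mul_mem _ (Subgroup.inv_mem _ ht) (hconj a ha)) ht
    rw [← htκ] at h1
    simpa [mul_assoc] using h1
  have hg₁ := hgiso.comp ((mem_autGroup_iff hRS (κ : MulAut R)).1 κ.2)
  obtain ⟨f₁, hf₁, hag⟩ := (isReceptive_iff.1 hr').2 Q _ hg₁
  have hNle : N ≤ nPhi S Q (autFun (κ : MulAut R) ∘ g) := by
    intro s hs
    have h1 := hconj' _ ⟨⟨s, hs⟩, rfl⟩
    rw [hU, Subgroup.mem_subgroupOf] at h1
    obtain ⟨u, hu, huv⟩ := (mem_autInducedBy_iff S R _).1 h1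
    refine ⟨hNS hs, hNQn hs, u, hu, fun x hx => ?_⟩
    have := huv ((κ : MulAut R) (hgiso.equiv ⟨x, hx⟩))
    rw [Subgroup.coe_mul, Subgroup.coe_mul, Subgroup.coe_inv, MulAut.mul_apply, MulAut.mul_apply,
      MulAut.inv_apply_self, ← autFun_coe (κ : MulAut R), ← autFun_coe (κ : MulAut R), hcv] at this
    exact this
  obtain ⟨f₁', hf₁', hrel₁⟩ := exists_factor_map hE (fun y hy => hy.1 : nPhi S' Q' φ ≤ S')
    (f := f₁) (hf₁.mono hNle) fun x hx =>
      isMap_mem_of_stronglyClosed hT (hf₁.mono hNle) (le_preimageAlong hE _ hx) hx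
  refine ⟨f₁', hf₁', fun y hy => ?_⟩
  obtain ⟨x, hx, rfl⟩ := hsurj hQ'S y hy
  rw [hrel₁ x (preimageAlong_mono θ (le_nPhi hφ.isMap) hx), hag x hx, hgr x hx]
  have h1 := hπ κ ⟨g x, hgiso.mem hx⟩
  rw [show π κ = Pm κ from rfl, MonoidHom.mem_ker.1 hκ] at h1
  show homExt θ (autFun (κ : MulAut R) (g x)) = _
  rw [autFun_apply _ (hgiso.mem hx), ← h1, autFun_apply _ (hxR' ⟨g x, hgiso.mem hx⟩)]
  rfl

omit [Fact p.Prime] [Finite S] in
theorem isFactorSystem_of_surjective {α : S →* Ω'} (hα : F.IsSurjectiveMorphism E α) :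
    F.IsFactorSystem ((α.ker).map S.subtype) α E := by
  obtain ⟨⟨hmem, hmor⟩, hr, hlift⟩ := hα
  refine ⟨Subgroup.map_subtype_le _, fun s => ?_, hr, fun P' φ' => ⟨fun h => ⟨(E.le_of_mem h).1,
    hlift P' (E.le_of_mem h).1 φ' h⟩, ?_⟩⟩
  · rw [Subgroup.mem_map]
    exact ⟨fun h => ⟨s, h, rfl⟩, fun ⟨t, ht, hts⟩ => Subtype.ext hts ▸ ht⟩
  · rintro ⟨hP', φ, hφ, hind⟩
    obtain ⟨ψ, hψ, hind'⟩ := hmor _ φ hφ
    have him : imageAlong α (preimageAlong α P') = P' := by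
      ext y
      constructor
      · rintro ⟨s, hs, rfl⟩
        have h : homExt α (s : Ω) ∈ P' := ((mem_preimageAlong α P').1 hs).2
        rwa [homExt_apply α s.2] at h
      · intro hy
        obtain ⟨x, hx, rfl⟩ := exists_mem_preimageAlong (hP'.trans hr.ge) hy
        exact mem_imageAlong (preimageAlong_le α P') hx
    refine mem_hom_of_isMap ((isMap_homFun hψ).mono him.ge) fun y => ?_
    obtain ⟨x, hx, hxy⟩ := exists_mem_preimageAlong (hP'.trans hr.ge) y.2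
    obtain ⟨hP, hφS, hP'', hv⟩ := hind
    obtain ⟨hPa, hφa, hP₂, hv₂⟩ := hind'
    have hP₃ : ∀ z : preimageAlong α P', α ⟨z, hP z.2⟩ ∈ imageAlong α (preimageAlong α P') :=
      fun z => hP₂ z
    rw [homExt_apply α (hP hx)] at hxy
    rw [show y = ⟨α ⟨x, hP hx⟩, hP'' ⟨x, hx⟩⟩ from Subtype.ext hxy.symm, hv ⟨x, hx⟩]
    rw [homFun_apply ψ (hP₃ ⟨x, hx⟩)]
    exact (hv₂ ⟨x, hx⟩).symm

omit [Fact p.Prime] [Finite S] in
theorem stronglyClosed_ker_of_morphism {α : S →* Ω'} (hα : F.IsMorphism E α) :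
    F.StronglyClosed ((α.ker).map S.subtype) := by
  refine stronglyClosed_iff.2 ⟨Subgroup.map_subtype_le _, fun P f hf x hx hxK => ?_⟩
  obtain ⟨φ, hφ, hv⟩ := hf.exists_hom
  obtain ⟨φ', -, hP, hφS, hP', hind⟩ := hα.2 P φ hφ
  obtain ⟨s, hs, hse⟩ := hxK
  rw [← hv ⟨x, hx⟩]
  refine ⟨⟨φ ⟨x, hx⟩, hφS _⟩, ?_, rfl⟩
  have h1 := hind ⟨x, hx⟩
  have h2 : α ⟨x, hP hx⟩ = 1 := by
    rw [show (⟨x, hP hx⟩ : S) = s from Subtype.ext hse.symm]; exact hs
  rw [show (⟨α ⟨x, hP hx⟩, hP' ⟨x, hx⟩⟩ : imageAlong α P) = 1 from Subtype.ext h2, map_one] at h1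
  exact h1.symm

end CfsgLib.Fusion
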