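import Mathlib
import Cfsg.Agent.Lib.Fusion.FactorSaturated
import Cfsg.Agent.Lib.Fusion.NormalSeries

/-!
Existence of factor systems, and solvable fusion systems: a saturated system is solvable exactly
when it has a series of strongly closed subgroups with abelian factors.
-/

set_option autoImplicit false

namespace CfsgLib.Fusion

open Cfsg Cfsg.FusionSystem
open scoped commutatorElement

variable {Ω : Type*} [Group Ω] {S : Subgroup Ω} {F : FusionSystem S}

theorem conjMem_of_stronglyClosed {T : Subgroup Ω} (hT : F.StronglyClosed T) {g x : Ω}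
    (hg : g ∈ S) (hx : x ∈ T) : g * x * g⁻¹ ∈ T :=
  isMap_mem_of_stronglyClosed hT (isMap_conj le_rfl hg) (hT.1 hx) hx

theorem normal_subgroupOf_of_stronglyClosed {T : Subgroup Ω} (hT : F.StronglyClosed T) :
    (T.subgroupOf S).Normal :=
  ⟨fun _ hn g => Subgroup.mem_subgroupOf.2
    (conjMem_of_stronglyClosed hT g.2 (Subgroup.mem_subgroupOf.1 hn))⟩

theorem stronglyClosed_inf {A B : Subgroup Ω} (hA : F.StronglyClosed A)
    (hB : F.StronglyClosed B) : F.StronglyClosed (A ⊓ B) :=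
  ⟨inf_le_left.trans hA.1, fun R hR φ hφ x =>
    ⟨hA.2 R (hR.trans inf_le_left) φ hφ x, hB.2 R (hR.trans inf_le_right) φ hφ x⟩⟩

theorem stronglyClosed_top (F : FusionSystem S) : F.StronglyClosed S :=
  ⟨le_rfl, fun _ _ _ hφ x => (F.le_of_mem hφ).2 x⟩

theorem stronglyClosed_centralizer {Q : Subgroup Ω} (hQ : F.IsNormal Q) :
    F.StronglyClosed (centralizerIn S Q) := by
  refine stronglyClosed_iff.2 ⟨inf_le_left, fun P f hf x hx hxC => ⟨hf.mem hx, ?_⟩⟩
  obtain ⟨g, hg, hag, hgQ⟩ := (isNormal_iff.1 hQ).2 P f hf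
  intro q hq
  obtain ⟨r, hr, rfl⟩ := hgQ.ge hq
  rw [← hag x hx, ← hg.map_mul (Subgroup.mem_sup_right hr) (Subgroup.mem_sup_left hx),
    ← hg.map_mul (Subgroup.mem_sup_left hx) (Subgroup.mem_sup_right hr), hxC.2 r hr]

section Transfer

variable {Ω' : Type*} [Group Ω'] {S' : Subgroup Ω'} {θ : S →* Ω'} {E : FusionSystem S'}
variable {Q : Subgroup Ω}

theorem mem_imageAlong_iff {P : Subgroup Ω} (hP : P ≤ S) {y : Ω'} :
    y ∈ imageAlong θ P ↔ ∃ x ∈ P, homExt θ x = y := by
  constructor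
  · rintro ⟨s, hs, rfl⟩
    exact ⟨s, hs, homExt_apply θ s.2⟩
  · rintro ⟨x, hx, rfl⟩
    exact mem_imageAlong hP hx

theorem preimageAlong_bot (hE : F.IsFactorSystem Q θ E) : preimageAlong θ ⊥ = Q := by
  ext x
  rw [mem_preimageAlong]
  exact ⟨fun h => (mem_of_homExt_eq_one hE h.1).1 (Subgroup.mem_bot.1 h.2), fun h =>
    ⟨hE.1 h, Subgroup.mem_bot.2 ((mem_of_homExt_eq_one hE (hE.1 h)).2 h)⟩⟩

theorem preimageAlong_range (hr : θ.range = S') : preimageAlong θ S' = S := by
  refine le_antisymm (preimageAlong_le θ S') fun x hx => (mem_preimageAlong θ S').2 ⟨hx, ?_⟩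
  rw [homExt_apply θ hx]
  exact hr.le ⟨_, rfl⟩

theorem imageAlong_self : imageAlong θ S = θ.range := by
  rw [imageAlong, Subgroup.subgroupOf_self, ← MonoidHom.range_eq_map]

/-- Images of strongly closed subgroups are strongly closed in the factor system. -/
theorem stronglyClosed_imageAlong (hE : F.IsFactorSystem Q θ E) {R : Subgroup Ω}
    (hR : F.StronglyClosed R) : E.StronglyClosed (imageAlong θ R) := by
  refine stronglyClosed_iff.2 ⟨fun y hy => ?_, fun P' f' hf' y hy hyR => ?_⟩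
  · obtain ⟨s, -, rfl⟩ := hy
    exact hE.2.2.1.le ⟨s, rfl⟩
  · obtain ⟨-, f, hf, hrel⟩ := (isMap_factor_iff hE).1 hf'
    obtain ⟨x, hx, rfl⟩ := (mem_imageAlong_iff hR.1).1 hyR
    have hxP : x ∈ preimageAlong θ P' := (mem_preimageAlong θ P').2 ⟨hR.1 hx, hy⟩
    rw [hrel x hxP]
    exact mem_imageAlong hR.1 (isMap_mem_of_stronglyClosed hR hf hxP hx)

/-- Preimages of strongly closed subgroups along a morphism are strongly closed. -/
theorem stronglyClosed_preimageAlong (hθ : F.IsMorphism E θ) {U : Subgroup Ω'}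
    (hU : E.StronglyClosed U) : F.StronglyClosed (preimageAlong θ U) := by
  refine ⟨preimageAlong_le θ U, fun R hR φ hφ x => ?_⟩
  obtain ⟨φ', hφ', hP, hφS, hmem, hind⟩ := hθ.2 R φ hφ
  refine (mem_preimageAlong θ U).2 ⟨hφS x, ?_⟩
  rw [homExt_apply θ (hφS x), ← hind x, ← homFun_coe φ']
  refine isMap_mem_of_stronglyClosed hU (isMap_homFun hφ') (hmem x) ?_
  have := ((mem_preimageAlong θ U).1 (hR x.2)).2
  rwa [homExt_apply θ (hP x.2)] at this

theorem commutator_imageAlong_le (θ : S →* Ω') {A B : Subgroup Ω} (h : ⁅A, A⁆ ≤ B) :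
    ⁅imageAlong θ A, imageAlong θ A⁆ ≤ imageAlong θ B := by
  rw [Subgroup.commutator_le]
  rintro _ ⟨a, ha, rfl⟩ _ ⟨b, hb, rfl⟩
  exact ⟨⁅a, b⁆, h (Subgroup.commutator_mem_commutator ha hb), map_commutatorElement θ a b⟩

theorem commutator_preimageAlong_le (θ : S →* Ω') {A B : Subgroup Ω'} (h : ⁅A, A⁆ ≤ B) :
    ⁅preimageAlong θ A, preimageAlong θ A⁆ ≤ preimageAlong θ B := by
  rw [Subgroup.commutator_le]
  rintro _ ⟨a, ha, rfl⟩ _ ⟨b, hb, rfl⟩
  refine ⟨⁅a, b⁆, ?_, map_commutatorElement S.subtype a b⟩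
  show θ ⁅a, b⁆ ∈ B
  rw [map_commutatorElement]
  exact h (Subgroup.commutator_mem_commutator ha hb)

/-- The factor system modulo a strongly closed subgroup exists. -/
theorem exists_factorSystem [Finite S] {T : Subgroup Ω} (hT : F.StronglyClosed T)
    (hker : ∀ s : S, θ s = 1 ↔ (s : Ω) ∈ T) (hr : θ.range = S') :
    ∃ E : FusionSystem S', F.IsFactorSystem T θ E := by
  have hle : ∀ P' : Subgroup Ω', T ≤ preimageAlong θ P' := fun P' x hx =>
    (mem_preimageAlong θ P').2 ⟨hT.1 hx, by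
      rw [homExt_apply θ (hT.1 hx), (hker _).2 hx]; exact P'.one_mem⟩
  refine ⟨{
    Hom := fun P' => {φ' | P' ≤ S' ∧ ∃ φ ∈ F.Hom (preimageAlong θ P'), InducedAlong θ φ φ'}
    le_of_mem := ?_
    injective_of_mem := ?_
    conj_mem := ?_
    comp_mem := ?_
    inv_mem := ?_ }, hT.1, hker, hr, fun P' φ' => Iff.rfl⟩
  · rintro P' φ' ⟨hP', φ, -, hP, hφS, hmem, hind⟩
    refine ⟨hP', fun y => ?_⟩
    obtain ⟨x, hx, hxy⟩ := exists_mem_preimageAlong (hP'.trans hr.ge) y.2
    rw [homExt_apply θ (hP hx)] at hxy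
    rw [show y = ⟨θ ⟨x, hP hx⟩, hmem ⟨x, hx⟩⟩ from Subtype.ext hxy.symm, hind ⟨x, hx⟩]
    exact hr.le ⟨_, rfl⟩
  · rintro P' φ' ⟨hP', φ, hφ, hP, hφS, hmem, hind⟩
    rw [injective_iff_map_eq_one]
    intro y hy
    obtain ⟨x, hx, hxy⟩ := exists_mem_preimageAlong (hP'.trans hr.ge) y.2
    rw [homExt_apply θ (hP hx)] at hxy
    have h1 : y = ⟨θ ⟨x, hP hx⟩, hmem ⟨x, hx⟩⟩ := Subtype.ext hxy.symm
    rw [h1, hind ⟨x, hx⟩, hker] at hy
    have him := image_eq_of_mem hT.1 (isMap_homFun hφ) (hle P') fun t ht =>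
      isMap_mem_of_stronglyClosed hT (isMap_homFun hφ) (hle P' ht) ht
    obtain ⟨t, ht, hte⟩ := him.ge hy
    have h2 : x = t := (isMap_homFun hφ).injOn hx (hle P' ht)
      ((homFun_apply φ hx).trans hte.symm)
    rw [h1]
    exact Subtype.ext ((hker _).2 (show x ∈ T from h2 ▸ ht))
  · intro P' g hP' hg
    obtain ⟨s, rfl⟩ := hr.ge hg
    refine ⟨hP', conjHom _ (s : Ω), F.conj_mem (preimageAlong_le θ P') s.2,
      preimageAlong_le θ P',
      fun x => S.mul_mem (S.mul_mem s.2 (preimageAlong_le θ P' x.2)) (S.inv_mem s.2),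
      fun x => ?_, fun x => ?_⟩
    · have := ((mem_preimageAlong θ P').1 x.2).2
      rwa [homExt_apply θ (preimageAlong_le θ P' x.2)] at this
    · show θ s * θ _ * (θ s)⁻¹ = θ _
      rw [← map_mul, ← map_inv, ← map_mul]
      rfl
  · rintro P' Q' φ' ψ' ⟨hP', φ, hφ, hP, hφS, hmem, hind⟩ ⟨-, ψ, hψ, hQ, hψS, hmem', hind'⟩ h
    have hv : ∀ x, φ x ∈ preimageAlong θ Q' := fun x => (mem_preimageAlong θ Q').2
      ⟨hφS x, by rw [homExt_apply θ (hφS x), ← hind x]; exact h _⟩
    refine ⟨hP', _, F.comp_mem hφ hψ hv, hP, fun x => hψS ⟨φ x, hv x⟩, hmem, fun x => ?_⟩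
    show ψ' ⟨φ' ⟨θ ⟨x, hP x.2⟩, hmem x⟩, h _⟩ = θ ⟨ψ ⟨φ x, hv x⟩, _⟩
    rw [← hind' ⟨φ x, hv x⟩]
    congr 1
    exact Subtype.ext (hind x)
  · rintro P' φ' ⟨hP', φ, hφ, hP, hφS, hmem, hind⟩
    have hran : φ'.range ≤ S' := by
      rintro _ ⟨y, rfl⟩
      obtain ⟨x, hx, hxy⟩ := exists_mem_preimageAlong (hP'.trans hr.ge) y.2
      rw [homExt_apply θ (hP hx)] at hxy
      rw [show y = ⟨θ ⟨x, hP hx⟩, hmem ⟨x, hx⟩⟩ from Subtype.ext hxy.symm, hind ⟨x, hx⟩]
      exact hr.le ⟨_, rfl⟩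
    have him := image_eq_of_mem hT.1 (isMap_homFun hφ) (hle P') fun t ht =>
      isMap_mem_of_stronglyClosed hT (isMap_homFun hφ) (hle P' ht) ht
    have heq : preimageAlong θ φ'.range = φ.range := by
      ext z
      rw [mem_preimageAlong]
      constructor
      · rintro ⟨hz, y, hy⟩
        obtain ⟨x, hx, hxy⟩ := exists_mem_preimageAlong (hP'.trans hr.ge) y.2
        rw [homExt_apply θ (hP hx)] at hxy
        rw [show y = ⟨θ ⟨x, hP hx⟩, hmem ⟨x, hx⟩⟩ from Subtype.ext hxy.symm, hind ⟨x, hx⟩,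
          homExt_apply θ hz] at hy
        have hd : (φ ⟨x, hx⟩)⁻¹ * z ∈ T := by
          refine (hker ⟨_, S.mul_mem (S.inv_mem (hφS ⟨x, hx⟩)) hz⟩).1 ?_
          rw [show (⟨_, S.mul_mem (S.inv_mem (hφS ⟨x, hx⟩)) hz⟩ : S) =
            (⟨φ ⟨x, hx⟩, hφS _⟩ : S)⁻¹ * ⟨z, hz⟩ from rfl, map_mul, map_inv, hy, inv_mul_cancel]
        obtain ⟨t, ht, hte⟩ := him.ge hd
        refine ⟨⟨x, hx⟩ * ⟨t, hle P' ht⟩, ?_⟩
        rw [map_mul, ← homFun_apply φ (hle P' ht), hte, mul_inv_cancel_left]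
      · rintro ⟨x, rfl⟩
        exact ⟨hφS x, ⟨⟨θ ⟨x, hP x.2⟩, hmem x⟩,
          by rw [homExt_apply θ (hφS x)]; exact hind x⟩⟩
    obtain ⟨ψ, hψ, hψv⟩ := F.inv_mem hφ
    have hψP : ∀ z, ψ z ∈ S := (F.le_of_mem hψ).2
    -- the inverse on the image
    have hsurj : ∀ y : φ'.range, ∃ x : preimageAlong θ P',
        φ' ⟨θ ⟨x, hP x.2⟩, hmem x⟩ = (y : Ω') := by
      rintro ⟨_, y, rfl⟩
      obtain ⟨x, hx, hxy⟩ := exists_mem_preimageAlong (hP'.trans hr.ge) y.2
      rw [homExt_apply θ (hP hx)] at hxy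
      exact ⟨⟨x, hx⟩, congrArg φ' (Subtype.ext hxy)⟩
    let e : P' ≃* φ'.range := MonoidHom.ofInjective (f := φ') (by
      rw [injective_iff_map_eq_one]
      intro y hy
      obtain ⟨x, hx, hxy⟩ := exists_mem_preimageAlong (hP'.trans hr.ge) y.2
      rw [homExt_apply θ (hP hx)] at hxy
      have h1 : y = ⟨θ ⟨x, hP hx⟩, hmem ⟨x, hx⟩⟩ := Subtype.ext hxy.symm
      rw [h1, hind ⟨x, hx⟩, hker] at hy
      obtain ⟨t, ht, hte⟩ := him.ge hy
      have h2 : x = t := (isMap_homFun hφ).injOn hx (hle P' ht)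
        ((homFun_apply φ hx).trans hte.symm)
      rw [h1]
      exact Subtype.ext ((hker _).2 (show x ∈ T from h2 ▸ ht)))
    refine ⟨P'.subtype.comp e.symm.toMonoidHom, ⟨hran, ψ.comp (Subgroup.inclusion heq.le),
      restrict_mem F hψ heq.le, preimageAlong_le θ _, fun z => hψP _, fun z => ?_, fun z => ?_⟩,
      fun y => ?_⟩
    · have := ((mem_preimageAlong θ φ'.range).1 z.2).2
      rwa [homExt_apply θ (preimageAlong_le θ _ z.2)] at this
    · obtain ⟨x, hx⟩ := heq.le z.2
      have hz : Subgroup.inclusion heq.le z = ⟨φ x, ⟨x, rfl⟩⟩ := Subtype.ext hx.symm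
      have h1 : ψ (Subgroup.inclusion heq.le z) = (x : Ω) := by rw [hz, hψv]
      show ((e.symm _ : P') : Ω') = θ ⟨ψ (Subgroup.inclusion heq.le z), _⟩
      rw [show (⟨ψ (Subgroup.inclusion heq.le z), hψP _⟩ : S) = ⟨x, hP x.2⟩ from Subtype.ext h1]
      refine congrArg Subtype.val (e.symm_apply_eq.2 (Subtype.ext ?_) : _ = (⟨_, hmem x⟩ : P'))
      show θ ⟨z, _⟩ = φ' ⟨θ ⟨x, hP x.2⟩, hmem x⟩
      rw [hind x]
      exact congrArg θ (Subtype.ext hx.symm)
    · show ((e.symm (e y) : P') : Ω') = y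
      rw [e.symm_apply_apply]

end Transfer

/-! ### Series -/

/-- One step of a series of strongly closed subgroups with abelian factors. -/
def SolvStep (F : FusionSystem S) (A B : Subgroup Ω) : Prop :=
  A ≤ B ∧ F.StronglyClosed B ∧ ⁅B, B⁆ ≤ A

theorem commutator_le_inf_of_le {A B K : Subgroup Ω} (h : ⁅B, B⁆ ≤ A) :
    ⁅B ⊓ K, B ⊓ K⁆ ≤ A ⊓ K := by
  refine le_inf ((Subgroup.commutator_mono inf_le_left inf_le_left).trans h) ?_
  exact (Subgroup.commutator_mono inf_le_right inf_le_right).trans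
    (Subgroup.commutator_le.2 fun a ha b hb => by
      rw [commutatorElement_def]
      exact K.mul_mem (K.mul_mem (K.mul_mem ha hb) (K.inv_mem ha)) (K.inv_mem hb))

/-- The series predicate as a chain indexed by `Fin`. -/
theorem series_iff :
    (∃ (n : ℕ) (T : Fin (n + 1) → Subgroup Ω), T 0 = ⊥ ∧ T (Fin.last n) = S ∧ Monotone T ∧
      (∀ i, F.StronglyClosed (T i)) ∧ ∀ i : Fin n, ⁅T i.succ, T i.succ⁆ ≤ T (Fin.castSucc i)) ↔
      Relation.ReflTransGen (SolvStep F) ⊥ S := by
  constructor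
  · rintro ⟨n, T, h0, hn, hm, hcl, hcomm⟩
    refine h0 ▸ (?_ : Relation.ReflTransGen (SolvStep F) (T 0) S)
    suffices H : ∀ i, Relation.ReflTransGen (SolvStep F) (T 0) (T i) by
      have h := H (Fin.last n)
      generalize hc : T (Fin.last n) = c at h hn
      exact hn ▸ h
    intro i
    induction i using Fin.induction with
    | zero => exact Relation.ReflTransGen.refl
    | succ i ih =>
      exact ih.tail ⟨hm i.castSucc_lt_succ.le, hcl _, hcomm i⟩
  · intro h
    suffices H : ∀ B, Relation.ReflTransGen (SolvStep F) ⊥ B →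
        ∃ (n : ℕ) (T : Fin (n + 1) → Subgroup Ω), T 0 = ⊥ ∧ T (Fin.last n) = B ∧ Monotone T ∧
          (∀ i, F.StronglyClosed (T i)) ∧
          ∀ i : Fin n, ⁅T i.succ, T i.succ⁆ ≤ T (Fin.castSucc i) from H S h
    intro B hB
    induction hB with
    | refl =>
      exact ⟨0, fun _ => ⊥, rfl, rfl, monotone_const,
        fun _ => stronglyClosed_of_isNormal (isNormal_bot F), fun i => i.elim0⟩
    | @tail A C hA hAC ih =>
      obtain ⟨n, T, h0, hn, hm, hcl, hcomm⟩ := ih
      refine ⟨n + 1, Fin.snoc T C, ?_, by simp, ?_, ?_, ?_⟩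
      · rw [show (0 : Fin (n + 2)) = Fin.castSucc 0 from rfl, Fin.snoc_castSucc, h0]
      · refine Fin.monotone_iff_le_succ.2 fun i => ?_
        induction i using Fin.lastCases with
        | last =>
          rw [Fin.snoc_castSucc, Fin.succ_last, Fin.snoc_last, hn]
          exact hAC.1
        | cast i =>
          rw [Fin.snoc_castSucc, Fin.succ_castSucc, Fin.snoc_castSucc]
          exact hm i.castSucc_lt_succ.le
      · intro i
        induction i using Fin.lastCases with
        | last => rw [Fin.snoc_last]; exact hAC.2.1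
        | cast i => rw [Fin.snoc_castSucc]; exact hcl i
      · intro i
        induction i using Fin.lastCases with
        | last =>
          rw [Fin.succ_last, Fin.snoc_last, Fin.snoc_castSucc, hn]
          exact hAC.2.2
        | cast i =>
          rw [Fin.succ_castSucc, Fin.snoc_castSucc, Fin.snoc_castSucc]
          exact hcomm i

variable {p : ℕ} [Fact p.Prime] [Finite S]

/-- A solvable system has a series from any strongly closed subgroup up to `S`. -/
theorem series_of_solvable (hS : IsPGroup p S) (hF : F.IsSaturated p) (h : F.IsSolvableSystem)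
    {R : Subgroup Ω} (hR : F.StronglyClosed R) :
    Relation.ReflTransGen (SolvStep F) R S := by
  suffices key : ∀ d R, F.StronglyClosed R → Nat.card S - Nat.card R = d →
      Relation.ReflTransGen (SolvStep F) R S from key _ R hR rfl
  intro d
  induction d using Nat.strong_induction_on with
  | _ d ih =>
  intro R hR hd
  by_cases hRS : R = S
  · subst hRS; exact Relation.ReflTransGen.refl
  haveI := normal_subgroupOf_of_stronglyClosed hR
  obtain ⟨E, hE⟩ := exists_factorSystem (θ := QuotientGroup.mk' (R.subgroupOf S))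
    (S' := (⊤ : Subgroup (S ⧸ R.subgroupOf S))) hR
    (fun s => by rw [QuotientGroup.mk'_apply, QuotientGroup.eq_one_iff]; rfl)
    (MonoidHom.range_eq_top.2 (QuotientGroup.mk'_surjective _))
  have hne := h R hR hRS E hE
  have hSq : IsPGroup p (⊤ : Subgroup (S ⧸ R.subgroupOf S)) :=
    (hS.to_quotient _).to_subgroup _
  have hK := isNormal_core E
  have hKp : IsPGroup p E.core := (hS.to_quotient _).to_subgroup _
  haveI : Nontrivial E.core := Subgroup.nontrivial_iff_ne_bot _ |>.2 hne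
  have hZnt := hKp.center_nontrivial
  set Z := (Subgroup.center E.core).map E.core.subtype with hZdef
  have hZle : Z ≤ E.core := Subgroup.map_subtype_le _
  have hZeq : Z.subgroupOf E.core = Subgroup.center E.core :=
    Subgroup.comap_map_eq_self_of_injective E.core.subtype_injective _
  have hZn : E.IsNormal Z := isNormal_of_characteristic E hK hZle (hZeq ▸ inferInstance)
  have hZab : ⁅Z, Z⁆ ≤ ⊥ := by
    rw [Subgroup.commutator_le]
    rintro _ ⟨a, ha, rfl⟩ _ ⟨b, -, rfl⟩
    rw [Subgroup.mem_bot, ← map_commutatorElement,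
      commutatorElement_eq_one_iff_mul_comm.2 (Subgroup.mem_center_iff.1 ha b).symm, map_one]
  have hmor := (isSurjectiveMorphism_factor hS hF hR hE).1
  set R₁ := preimageAlong (QuotientGroup.mk' (R.subgroupOf S)) Z
  have hR₁ : F.StronglyClosed R₁ :=
    stronglyClosed_preimageAlong hmor (stronglyClosed_of_isNormal hZn)
  have hle : R ≤ R₁ := le_preimageAlong hE Z
  have hcomm : ⁅R₁, R₁⁆ ≤ R := by
    rw [← preimageAlong_bot hE]
    exact commutator_preimageAlong_le _ hZab
  have hlt : R < R₁ := by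
    refine lt_of_le_of_ne hle fun e => ?_
    obtain ⟨⟨z, hz⟩, hz1⟩ := exists_ne (1 : Subgroup.center E.core)
    have hzZ : (z : S ⧸ R.subgroupOf S) ∈ Z := ⟨z, hz, rfl⟩
    obtain ⟨x, hx, hxz⟩ := exists_mem_preimageAlong
      (θ := QuotientGroup.mk' (R.subgroupOf S))
      (fun y _ => QuotientGroup.mk'_surjective (R.subgroupOf S) y) hzZ
    have hxR : x ∈ R := e ▸ hx
    rw [(mem_of_homExt_eq_one hE (hR.1 hxR)).2 hxR] at hxz
    exact hz1 (Subtype.ext (Subtype.ext hxz.symm))
  refine Relation.ReflTransGen.head ⟨hle, hR₁, hcomm⟩ (ih _ ?_ R₁ hR₁ rfl)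
  have := finite_of_le hR₁.1
  have h1 : Nat.card R < Nat.card R₁ := by
    refine lt_of_le_of_ne (Subgroup.card_le_of_le hle) fun e => hlt.ne ?_
    exact Subgroup.eq_of_le_of_card_ge hle e.ge
  have h2 := Subgroup.card_le_of_le hR₁.1
  omega

/-- The image of a series in a factor system gives a nontrivial normal subgroup there, unless it
is trivial. -/
theorem core_ne_bot_of_series {Ω' : Type*} [Group Ω'] {S' : Subgroup Ω'} [Finite S']
    {θ : S →* Ω'} {E : FusionSystem S'} {Q : Subgroup Ω} (hS' : IsPGroup p S')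
    (hE : F.IsFactorSystem Q θ E) (hEs : E.IsSaturated p) (hne : S' ≠ ⊥)
    (h : Relation.ReflTransGen (SolvStep F) ⊥ S) : E.core ≠ ⊥ := by
  suffices H : ∀ B, Relation.ReflTransGen (SolvStep F) ⊥ B →
      imageAlong θ B ≠ ⊥ → E.core ≠ ⊥ from
    H S h (by rwa [imageAlong_self, hE.2.2.1])
  intro B hB
  induction hB with
  | refl => intro h; exact absurd (by simp [imageAlong]) h
  | @tail A C _ hAC ih =>
    intro hC
    by_cases hA : imageAlong θ A = ⊥
    · have hn : E.IsNormal (imageAlong θ C) :=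
        isNormal_of_abelian hS' hEs (stronglyClosed_imageAlong hE hAC.2.1) fun x hx y hy => by
          refine commutatorElement_eq_one_iff_mul_comm.1 (Subgroup.mem_bot.1 ?_)
          rw [← hA]
          exact commutator_imageAlong_le θ hAC.2.2 (Subgroup.commutator_mem_commutator hx hy)
      exact fun e => hC (eq_bot_iff.2 (e ▸ le_sSup hn))
    · exact ih hA

/-- Solvability by series. -/
theorem isSolvableSystem_iff_series (hS : IsPGroup p S) (hF : F.IsSaturated p) :
    F.IsSolvableSystem ↔ Relation.ReflTransGen (SolvStep F) ⊥ S := by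
  refine ⟨fun h => series_of_solvable hS hF h (stronglyClosed_of_isNormal (isNormal_bot F)),
    fun h R hR hRS _ E hE => ?_⟩
  refine core_ne_bot_of_series ((hS.to_quotient _).to_subgroup _) hE
    (isSaturated_factor hS hF hR hE) (fun e => hRS ?_) h
  refine le_antisymm hR.1 fun x hx => ?_
  have h1 : QuotientGroup.mk' (R.subgroupOf S) ⟨x, hx⟩ = 1 :=
    Subgroup.mem_bot.1 (e ▸ Subgroup.mem_top _)
  exact (hE.2.1 _).1 h1

/-- A saturated solvable system is constrained. -/
theorem isConstrained_of_series (hS : IsPGroup p S) (hF : F.IsSaturated p)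
    (h : Relation.ReflTransGen (SolvStep F) ⊥ S) : F.IsConstrained p := by
  have hQ := isNormal_core F
  have hC := stronglyClosed_centralizer hQ
  set C := centralizerIn S F.core
  suffices H : ∀ B, Relation.ReflTransGen (SolvStep F) ⊥ B → B ⊓ C ≤ F.core by
    refine ⟨hF, F.core, hQ, hQ.1, fun R hR => ?_⟩
    obtain ⟨f, hf⟩ := isConj_iff.1 hR
    have he : R = F.core := by
      refine SetLike.coe_injective ?_
      rw [← hf.image_eq]
      exact image_eq_of_mem hQ.1 hf.isMap le_rfl fun x hx =>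
        isMap_mem_of_stronglyClosed (stronglyClosed_of_isNormal hQ) hf.isMap hx hx
    rw [he]
    exact fun x hx => H S h ⟨hx.1, hx⟩
  intro B hB
  induction hB with
  | refl => simp
  | @tail A B _ hAB ih =>
    set X := B ⊓ C
    have hX : F.StronglyClosed X := stronglyClosed_inf hAB.2.1 hC
    have hXK : F.StronglyClosed (X ⊓ F.core) :=
      stronglyClosed_inf hX (stronglyClosed_of_isNormal hQ)
    refine le_sSup (isNormal_of_series hS hF 2
      (fun i => if i = 0 then ⊥ else if i = 1 then X ⊓ F.core else X) rfl rfl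
      (fun i hi => ?_) (fun i hi => ?_) fun i hi g hg x hx => ?_ : F.IsNormal X)
    · interval_cases i
      · exact bot_le
      · exact inf_le_left
    · interval_cases i
      · exact stronglyClosed_of_isNormal (isNormal_bot F)
      · exact hXK
      · exact hX
    · interval_cases i
      · rw [(hg.2.2 x hx.2).symm]
        simp
      · have h1 : ⁅g, x⁆ ∈ A ⊓ C :=
          commutator_le_inf_of_le hAB.2.2 (Subgroup.commutator_mem_commutator hg hx)
        exact ⟨⟨hAB.1 h1.1, h1.2⟩, ih h1⟩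

end CfsgLib.Fusion
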