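import Mathlib
import Cfsg.Agent.Lib.Fusion.Invariant
import Cfsg.Agent.Lib.Fusion.NormalSeries
import Cfsg.Agent.Lib.Fusion.Solvable

/-!
Normal subgroups of weakly normal subsystems, and of constrained systems.
-/

set_option autoImplicit false

namespace CfsgLib.Fusion

open Cfsg Cfsg.FusionSystem
open scoped commutatorElement

variable {Ω : Type*} [Group Ω] {S T : Subgroup Ω} {F : FusionSystem S} {E : FusionSystem T}

/-- The image of `R` under an automorphism of `T`. -/
def imageAut (a : MulAut T) (R : Subgroup Ω) : Subgroup Ω :=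
  (R.subgroupOf T).map (T.subtype.comp a.toMonoidHom)

theorem imageAut_le (a : MulAut T) (R : Subgroup Ω) : imageAut a R ≤ T := by
  rintro _ ⟨x, -, rfl⟩
  exact (a x).2

theorem mem_imageAut (a : MulAut T) {R : Subgroup Ω} {x : Ω} (hx : x ∈ R) (hxT : x ∈ T) :
    autFun a x ∈ imageAut a R :=
  ⟨⟨x, hxT⟩, hx, (autFun_apply a hxT).symm⟩

theorem coe_imageAut (a : MulAut T) {R : Subgroup Ω} (hR : R ≤ T) :
    autFun a '' (R : Set Ω) = imageAut a R := by
  ext y
  constructor
  · rintro ⟨x, hx, rfl⟩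
    exact mem_imageAut a hx (hR hx)
  · rintro ⟨x, hx, rfl⟩
    exact ⟨x, hx, autFun_coe a x⟩

theorem imageAut_inv_imageAut (a : MulAut T) {x : Ω} {R : Subgroup Ω}
    (hxT : x ∈ T) : autFun a x ∈ imageAut a R ↔ x ∈ R := by
  refine ⟨fun h => ?_, fun h => mem_imageAut a h hxT⟩
  obtain ⟨y, hy, hye⟩ := h
  rw [autFun_apply a hxT] at hye
  have : y = ⟨x, hxT⟩ := a.injective (Subtype.ext hye)
  rw [this] at hy
  exact hy

theorem exists_autFun_eq (a : MulAut T) {y : Ω} (hy : y ∈ T) :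
    ∃ x ∈ T, autFun a x = y := by
  obtain ⟨x, hx⟩ := a.surjective ⟨y, hy⟩
  exact ⟨x, x.2, by rw [autFun_coe, hx]⟩

variable {p : ℕ} [Fact p.Prime] [Finite S]

/-- Automorphisms of `F` on `T` permute the normal subgroups of an invariant subsystem. -/
theorem isNormal_imageAut (hS : IsPGroup p S) (hT : T ≤ S) (hE : E.IsSaturated p)
    (h : E.IsInvariantIn F) {R : Subgroup Ω} (hR : E.IsNormal R) {a : MulAut T}
    (ha : a ∈ F.autGroup T) : E.IsNormal (imageAut a R) := by
  have := finite_of_le hT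
  obtain ⟨n, Qs, h0, hn, hm, hchar, hcomm⟩ := exists_char_series (hS.to_le hT) hR.1
  refine isNormal_of_series (hS.to_le hT) hE n (fun i => imageAut a (Qs i)) ?_ (by simp only [hn])
    (fun i _ => Subgroup.map_mono (fun x hx => hm (Nat.le_succ i) hx)) (fun i _ => ?_) ?_
  · simp only [h0, imageAut, Subgroup.bot_subgroupOf, Subgroup.map_bot]
  · have hcl := stronglyClosed_of_isNormal (isNormal_of_characteristic E hR (hchar i).1 (hchar i).2)
    refine stronglyClosed_iff.2 ⟨imageAut_le a _, fun P f hf x hx hxi => ?_⟩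
    have hPT : P ≤ T := hf.le
    obtain ⟨f', hf', hv⟩ := exists_transport h hf ((F.autGroup T).inv_mem ha)
      (coe_imageAut a⁻¹ hPT)
    obtain ⟨u, hu, hux⟩ := exists_autFun_eq a (hPT hx)
    rw [← hux] at hxi
    have hu' := (imageAut_inv_imageAut a hu).1 hxi
    have hback : ∀ w ∈ T, autFun a⁻¹ (autFun a w) = w := fun w hw => by
      rw [autFun_apply a hw, autFun_coe, MulAut.inv_apply_self]
    have h1 : autFun a⁻¹ x = u := by rw [← hux, hback u hu]
    have hum : u ∈ imageAut a⁻¹ P := h1 ▸ mem_imageAut a⁻¹ hx (hPT hx)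
    have h2 := isMap_mem_of_stronglyClosed hcl hf' hum hu'
    obtain ⟨w, hw, hwx⟩ := exists_autFun_eq a (hf.mem hx)
    rw [← h1, hv x hx, ← hwx, hback w hw] at h2
    rw [← hwx]
    exact mem_imageAut a h2 hw
  · rintro i hi _ ⟨g, hg, rfl⟩ _ ⟨x, hx, rfl⟩
    refine ⟨g * x * g⁻¹ * x⁻¹, hcomm i hi g hg x hx, ?_⟩
    simp

/-- A subgroup normal in an invariant subsystem and invariant under `Aut_F(T)` is normal. -/
theorem isNormal_of_normal_invariant (hS : IsPGroup p S) (hF : F.IsSaturated p)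
    (h : E.IsInvariantIn F) {U : Subgroup Ω} (hU : E.IsNormal U)
    (hinv : ∀ a ∈ F.autGroup T, ∀ x ∈ U, autFun a x ∈ U) : F.IsNormal U := by
  have hT : T ≤ S := h.2.1.1
  have hUS := hU.1.trans hT
  have := finite_of_le hUS
  obtain ⟨n, Qs, h0, hn, hm, hchar, hcomm⟩ := exists_char_series hS hUS
  refine isNormal_of_series hS hF n Qs h0 hn (fun i _ => hm (Nat.le_succ i))
    (fun i _ => stronglyClosed_iff.2 ⟨(hchar i).1.trans hUS, fun P f hf x hx hxi => ?_⟩) hcomm
  have hxT : x ∈ T := hU.1 ((hchar i).1 hxi)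
  obtain ⟨a, ha, f₀, hf₀, hv⟩ := exists_frattini h (inf_le_right : P ⊓ T ≤ T)
    (hf.mono inf_le_left)
  have hcl := stronglyClosed_of_isNormal (isNormal_of_characteristic E hU (hchar i).1 (hchar i).2)
  rw [hv x ⟨hx, hxT⟩]
  have h1 := isMap_mem_of_stronglyClosed hcl hf₀ ⟨hx, hxT⟩ hxi
  have hm' := (mem_autGroup_iff hT a).1 ha
  let e : U →* U := MonoidHom.mk' (fun y => ⟨autFun a y, hinv a ha y y.2⟩)
    fun y z => Subtype.ext (hm'.isMap.map_mul (hU.1 y.2) (hU.1 z.2))
  have he : Function.Injective e := fun y z hyz =>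
    Subtype.ext (hm'.isMap.injOn (hU.1 y.2) (hU.1 z.2) (congrArg Subtype.val hyz))
  exact Subgroup.characteristic_iff_map_le.1 (hchar i).2
    (MulEquiv.ofBijective e ⟨he, Finite.injective_iff_surjective.1 he⟩)
    ⟨⟨f₀ x, (hchar i).1 h1⟩, h1, rfl⟩

theorem isNormal_sSup {s : Set (Subgroup Ω)} (h : ∀ Q ∈ s, F.IsNormal Q) : F.IsNormal (sSup s) := by
  have hfin : s.Finite := finite_subgroups_le _ fun Q hQ => (h Q hQ).1
  refine Set.Finite.induction_on_subset (motive := fun s _ => F.IsNormal (sSup s)) _ hfin ?_ ?_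
  · rw [sSup_empty]; exact isNormal_bot F
  · intro a t ha _ _ ih
    rw [sSup_insert]; exact isNormal_sup F (h a ha) ih

/-- The subgroup generated by the conjugates of a subgroup normal in a weakly normal subsystem. -/
theorem isNormal_conjClosure (hS : IsPGroup p S) (hw : E.IsWeaklyNormalIn F p) {R : Subgroup Ω}
    (hR : E.IsNormal R) :
    F.IsNormal (Subgroup.closure {x : Ω | ∃ φ ∈ F.Hom R, ∃ r : R, x = φ r}) := by
  obtain ⟨hE, hF, h⟩ := hw
  have hT : T ≤ S := h.2.1.1
  have := finite_of_le hT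
  set K := Subgroup.closure {x : Ω | ∃ φ ∈ F.Hom R, ∃ r : R, x = φ r} with hK
  set s : Set (Subgroup Ω) := {U | ∃ a ∈ F.autGroup T, U = imageAut a R}
  have hgen : ∀ a ∈ F.autGroup T, ∀ r ∈ R, autFun a r ∈ K := fun a ha r hr => by
    obtain ⟨φ, hφ, hv⟩ := (((mem_autGroup_iff hT a).1 ha).isMap.mono hR.1).exists_hom
    exact Subgroup.subset_closure ⟨φ, hφ, ⟨r, hr⟩, (hv ⟨r, hr⟩).symm⟩
  have heq : K = sSup s := by
    refine le_antisymm ((Subgroup.closure_le _).2 ?_) (sSup_le ?_)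
    · rintro _ ⟨φ, hφ, r, rfl⟩
      obtain ⟨a, ha, f₀, hf₀, hv⟩ := exists_frattini h hR.1 (isMap_homFun hφ)
      have h1 := isMap_mem_of_stronglyClosed (stronglyClosed_of_isNormal hR) hf₀ r.2 r.2
      rw [← homFun_coe φ r, hv r r.2]
      exact le_sSup (s := s) ⟨a, ha, rfl⟩ (mem_imageAut a h1 (hR.1 h1))
    · rintro _ ⟨a, ha, rfl⟩ _ ⟨r, hr, rfl⟩
      have := hgen a ha r hr
      rwa [autFun_coe] at this
  have hnE : E.IsNormal K := by
    rw [heq]
    exact isNormal_sSup fun U ⟨a, ha, hU⟩ => hU ▸ isNormal_imageAut hS hT hE h hR ha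
  refine isNormal_of_normal_invariant hS hF h hnE fun a ha x hx => ?_
  have hm := (mem_autGroup_iff hT a).1 ha
  have hKT : K ≤ T := hnE.1
  induction hx using Subgroup.closure_induction with
  | mem y hy =>
    obtain ⟨φ, hφ, r, rfl⟩ := hy
    have hmem : ∀ u ∈ R, homFun φ u ∈ T := fun u hu => by
      refine hKT (Subgroup.subset_closure ⟨φ, hφ, ⟨u, hu⟩, ?_⟩)
      rw [homFun_apply φ hu]
    obtain ⟨χ, hχ, hv⟩ := ((isMap_homFun hφ).comp hm.isMap hmem).exists_hom
    refine Subgroup.subset_closure ⟨χ, hχ, r, ?_⟩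
    rw [hv]
    simp
  | one => rw [hm.isMap.map_one]; exact K.one_mem
  | mul y z hy hz ihy ihz =>
    rw [hm.isMap.map_mul (hKT hy) (hKT hz)]
    exact K.mul_mem ihy ihz
  | inv y hy ihy =>
    rw [hm.isMap.map_inv (hKT hy)]
    exact K.inv_mem ihy

/-- The intersection of a normal subgroup with a strongly closed subgroup is normal. -/
theorem isNormal_inf_stronglyClosed (hS : IsPGroup p S) (hF : F.IsSaturated p) {Q : Subgroup Ω}
    (hQ : F.IsNormal Q) (hT : F.StronglyClosed T) : F.IsNormal (Q ⊓ T) := by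
  obtain ⟨n, Qs, h0, hn, hm, hchar, hcomm⟩ := exists_char_series hS hQ.1
  refine isNormal_of_series hS hF n (fun i => Qs i ⊓ T) (by simp [h0]) (by simp [hn])
    (fun i _ => inf_le_inf_right _ (hm (Nat.le_succ i))) (fun i _ => stronglyClosed_inf
      (stronglyClosed_of_isNormal (isNormal_of_characteristic F hQ (hchar i).1 (hchar i).2)) hT)
    fun i hi g hg x hx => ⟨hcomm i hi g hg.1 x hx.1, ?_⟩
  exact T.mul_mem (conjMem_of_stronglyClosed hT (hQ.1 hg.1) hx.2) (T.inv_mem hx.2)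

/-- The trace of a normal subgroup is normal in a subsystem on a strongly closed subgroup. -/
theorem isNormal_inf_subsystem (hS : IsPGroup p S) (hE : E.IsSaturated p)
    (hEF : E.IsSubsystemOf F) (hT : F.StronglyClosed T) {Q : Subgroup Ω} (hQ : F.IsNormal Q) :
    E.IsNormal (Q ⊓ T) := by
  have := finite_of_le hT.1
  obtain ⟨n, Qs, h0, hn, hm, hchar, hcomm⟩ := exists_char_series hS hQ.1
  refine isNormal_of_series (hS.to_le hT.1) hE n (fun i => Qs i ⊓ T) (by simp [h0]) (by simp [hn])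
    (fun i _ => inf_le_inf_right _ (hm (Nat.le_succ i)))
    (fun i _ => stronglyClosed_iff.2 ⟨inf_le_right, fun P f hf x hx hxi => ?_⟩)
    fun i hi g hg x hx => ⟨hcomm i hi g hg.1 x hx.1, ?_⟩
  · exact ⟨isMap_mem_of_stronglyClosed (stronglyClosed_of_isNormal
      (isNormal_of_characteristic F hQ (hchar i).1 (hchar i).2)) (isMap_of_subsystem hEF hf)
      hx hxi.1, hf.mem hx⟩
  · exact T.mul_mem (T.mul_mem (T.mul_mem hg.2 hx.2) (T.inv_mem hg.2)) (T.inv_mem hx.2)

/-- In a constrained system the trace of the largest normal subgroup on a strongly closed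
subgroup `T` contains its centralizer in `T`. -/
theorem centralizerIn_inf_core_le (hS : IsPGroup p S) (hF : F.IsSaturated p)
    (hc : F.IsCentric F.core) (hT : F.StronglyClosed T) :
    centralizerIn T (F.core ⊓ T) ≤ F.core := by
  set Q := F.core
  have hQ : F.IsNormal Q := isNormal_core F
  set U := Q ⊓ T
  have hU : F.IsNormal U := isNormal_inf_stronglyClosed hS hF hQ hT
  have hC : F.StronglyClosed (centralizerIn T U) := by
    have := stronglyClosed_inf (stronglyClosed_centralizer hU) hT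
    rwa [show centralizerIn S U ⊓ T = centralizerIn T U from le_antisymm
      (fun x hx => ⟨hx.2, hx.1.2⟩) fun x hx => ⟨⟨hT.1 hx.1, hx.2⟩, hx.1⟩] at this
  refine le_sSup ((isNormal_iff_stronglyClosed_le hS hF).2 ⟨hC, fun P hP hr => ?_⟩)
  have hQP : Q ≤ P := le_of_isNormal hS hQ hP hr
  refine le_of_normalizer_inf_le hS hP.1 hC.1
    (fun x hx => mem_normalizer_of_conj_mem hC.1 fun y hy => conjMem_of_stronglyClosed hC (hP.1 hx) hy)
    fun g hg hgn => ?_
  have := finite_of_le hP.1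
  have := finite_mulAut P
  have := finite_of_le hQ.1
  have hclQ := stronglyClosed_of_isNormal hQ
  have hclU := stronglyClosed_of_isNormal hU
  let K : Subgroup (MulAut P) :=
    { carrier := {α | α ∈ F.autGroup P ∧ (∀ x : P, (x : Ω) ∈ U → α x = x) ∧
        ∀ x : P, (x : Ω) ∈ Q → ((x⁻¹ * α x : P) : Ω) ∈ U}
      one_mem' := ⟨Subgroup.one_mem _, fun _ _ => rfl, fun x _ => by simp⟩
      mul_mem' := by
        rintro a b ⟨ha, ha1, ha2⟩ ⟨hb, hb1, hb2⟩
        refine ⟨Subgroup.mul_mem _ ha hb, fun x hx => by rw [MulAut.mul_apply, hb1 x hx, ha1 x hx],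
          fun x hx => ?_⟩
        have hbx : ((b x : P) : Ω) ∈ Q := by
          have := Q.mul_mem hx (hb2 x hx).1
          rwa [Subgroup.coe_mul, Subgroup.coe_inv, mul_inv_cancel_left] at this
        rw [MulAut.mul_apply,
          show x⁻¹ * a (b x) = (x⁻¹ * b x) * ((b x)⁻¹ * a (b x)) by group, Subgroup.coe_mul]
        exact U.mul_mem (hb2 x hx) (ha2 _ hbx)
      inv_mem' := by
        rintro a ⟨ha, ha1, ha2⟩
        refine ⟨Subgroup.inv_mem _ ha, fun x hx => ?_, fun x hx => ?_⟩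
        · conv_lhs => rw [← ha1 x hx, MulAut.inv_apply_self]
        · have hax : ((a⁻¹ x : P) : Ω) ∈ Q := by
            have := isMap_mem_of_stronglyClosed hclQ
              ((mem_autGroup_iff hP.1 _).1 ((F.autGroup P).inv_mem ha)).isMap x.2 hx
            rwa [autFun_coe] at this
          have h1 := U.inv_mem (ha2 _ hax)
          rw [MulAut.apply_inv_self] at h1
          simpa [mul_inv_rev] using h1 }
  have hKle : K ≤ F.autGroup P := fun a ha => ha.1
  have hKn : (K.subgroupOf (F.autGroup P)).Normal := by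
    refine ⟨fun a ha b => ?_⟩
    have hb := fun (c : F.autGroup P) (D : Subgroup Ω) (hD : F.StronglyClosed D) (x : P)
        (hx : (x : Ω) ∈ D) => show (((c : MulAut P) x : P) : Ω) ∈ D by
      have := isMap_mem_of_stronglyClosed hD ((mem_autGroup_iff hP.1 _).1 c.2).isMap x.2 hx
      rwa [autFun_coe] at this
    refine ⟨(b * a * b⁻¹ : F.autGroup P).2, fun x hx => ?_, fun x hx => ?_⟩
    · show (b : MulAut P) ((a : MulAut P) ((b : MulAut P)⁻¹ x)) = x
      exact (congrArg (b : MulAut P) (ha.2.1 _ (hb b⁻¹ U hclU x hx))).trans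
        (MulAut.apply_inv_self _ _ _)
    · have h1 := hb b U hclU _ (ha.2.2 _ (hb b⁻¹ Q hclQ x hx))
      rw [map_mul, map_inv] at h1
      have h2 : ((b : MulAut P) ((↑b⁻¹ : MulAut P) x)) = x := MulAut.apply_inv_self _ _ _
      rwa [h2] at h1
  have hKp : IsPGroup p K := by
    rintro ⟨α, hα, hα1, hα2⟩
    obtain ⟨n, hn⟩ := IsPGroup.iff_card.1 (hS.to_le hQ.1)
    obtain ⟨m, hm⟩ := IsPGroup.iff_card.1 (hS.to_le hP.1)
    have hfixQ : ∀ x : P, (x : Ω) ∈ Q → (α ^ p ^ n) x = x := fun x hx => by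
      have hd : α (x⁻¹ * α x) = x⁻¹ * α x := hα1 _ (hα2 x hx)
      have hiter : ∀ k : ℕ, (α ^ k) x = x * (x⁻¹ * α x) ^ k := by
        intro k
        induction k with
        | zero => simp
        | succ k ih =>
          rw [pow_succ' α, MulAut.mul_apply, ih, map_mul, map_pow, hd, pow_succ', ← mul_assoc,
            mul_inv_cancel_left]
      rw [hiter]
      have : ((x⁻¹ * α x : P) : Ω) ^ p ^ n = 1 := by
        have h1 := pow_card_eq_one' (x := (⟨_, (hα2 x hx).1⟩ : Q))
        rw [hn] at h1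
        exact congrArg Subtype.val h1
      rw [show (x⁻¹ * α x) ^ p ^ n = 1 from Subtype.ext (by rw [SubgroupClass.coe_pow, this]; rfl),
        mul_one]
    set β := α ^ p ^ n with hβ
    have hmod : ∀ x : P, β (x⁻¹ * β x) = x⁻¹ * β x := fun x => by
      refine hfixQ _ (hc.2 Q (isConj_refl hQ.1) ⟨hP.1 (x⁻¹ * β x).2,
        Subgroup.mem_centralizer_iff.2 fun q hq => ?_⟩)
      have h1 : (x : P) * ⟨q, hQP hq⟩ * x⁻¹ = β x * ⟨q, hQP hq⟩ * (β x)⁻¹ := by
        have hcq : (((x : P) * ⟨q, hQP hq⟩ * x⁻¹ : P) : Ω) ∈ Q :=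
          conjMem_of_stronglyClosed hclQ (hP.1 x.2) hq
        have := hfixQ _ hcq
        rwa [map_mul, map_mul, map_inv, hfixQ ⟨q, hQP hq⟩ hq, eq_comm] at this
      have h2 := congrArg Subtype.val (congrArg (fun w => x⁻¹ * w * β x) h1)
      simp only [Subgroup.coe_mul, Subgroup.coe_inv, mul_assoc, inv_mul_cancel_left,
        inv_mul_cancel, mul_one] at h2
      simpa [mul_assoc] using h2
    refine ⟨n + m, Subtype.ext ?_⟩
    show α ^ p ^ (n + m) = 1
    rw [pow_add, pow_mul, ← hβ]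
    refine MulEquiv.ext fun x => ?_
    have hiter : ∀ k : ℕ, (β ^ k) x = x * (x⁻¹ * β x) ^ k := by
      intro k
      induction k with
      | zero => simp
      | succ k ih =>
        rw [pow_succ' β, MulAut.mul_apply, ih, map_mul, map_pow, hmod, pow_succ', ← mul_assoc,
          mul_inv_cancel_left]
    rw [hiter, ← hm, pow_card_eq_one', mul_one]
    rfl
  have hgK : conjAut P hgn ∈ K := by
    refine ⟨autInducedBy_le_autGroup hP.1 (conjAut_mem_autInducedBy hgn (hC.1 hg)),
      fun x hx => Subtype.ext ?_, fun x hx => ?_⟩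
    · rw [conjAut_apply]
      exact conj_eq_self_of_mem_centralizer hg.2 hx
    · rw [Subgroup.coe_mul, Subgroup.coe_inv, conjAut_apply]
      refine ⟨Q.mul_mem (Q.inv_mem hx) (conjMem_of_stronglyClosed hclQ (hC.1 hg) hx), ?_⟩
      rw [show (x : Ω)⁻¹ * (g * x * g⁻¹) = ((x : Ω)⁻¹ * g * x) * g⁻¹ by group]
      refine T.mul_mem ?_ (T.inv_mem hg.1)
      have := conjMem_of_stronglyClosed hT (S.inv_mem (hP.1 x.2)) hg.1
      rwa [inv_inv] at this
  exact mem_of_mem_pCore hP hr ⟨hC.1 hg, hgn⟩ (α := ⟨_, hKle hgK⟩) (conjAut_apply P hgn)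
    (CfsgLib.Fitting.le_pCore hKn (hKp.of_equiv (Subgroup.subgroupOfEquivOfLe hKle).symm) hgK)

/-- A saturated subsystem on a strongly closed subgroup of a constrained system is constrained. -/
theorem isConstrained_of_stronglyClosed (hS : IsPGroup p S) (hF : F.IsConstrained p)
    (hE : E.IsSaturated p) (hEF : E.IsSubsystemOf F) (hT : F.StronglyClosed T) :
    E.IsConstrained p := by
  obtain ⟨hFs, Q₀, hQ₀, hQ₀c⟩ := hF
  have hQ := isNormal_core F
  have hcen : F.IsCentric F.core := isCentric_of_le hQ₀c (le_sSup hQ₀) hQ.1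
  have := finite_of_le hT.1
  have hU := isNormal_inf_subsystem hS hE hEF hT hQ
  refine ⟨hE, _, hU, hU.1, fun U' hU' => ?_⟩
  obtain ⟨f, hf⟩ := isConj_iff.1 hU'
  have hle : U' ≤ F.core ⊓ T := fun y hy => by
    obtain ⟨x, hx, rfl⟩ := hf.surj hy
    exact isMap_mem_of_stronglyClosed (stronglyClosed_of_isNormal hU) hf.isMap hx hx
  have := finite_of_le (S := T) (P := F.core ⊓ T) inf_le_right
  rw [Subgroup.eq_of_le_of_card_ge hle hf.card_eq.ge]
  exact le_inf (centralizerIn_inf_core_le hS hFs hcen hT) inf_le_left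

end CfsgLib.Fusion
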