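import Mathlib
import Cfsg.Agent.Lib.Fusion.WeaklyNormalCore
import Cfsg.Agent.Lib.Fusion.Alperin

/-!
Strong invariance: the Frattini condition follows from invariance under all maps of the system.
-/

set_option autoImplicit false

namespace CfsgLib.Fusion

open Cfsg Cfsg.FusionSystem

variable {Ω : Type*} [Group Ω] {S T : Subgroup Ω} {F : FusionSystem S} {E : FusionSystem T}

/-- Strong invariance, in the language of function-valued maps. -/
def StrongInvariant (E : FusionSystem T) (F : FusionSystem S) : Prop :=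
  ∀ (P Q : Subgroup Ω) (f g : Ω → Ω), P ≤ Q → Q ≤ T → IsMap E P f → (∀ x ∈ P, f x ∈ Q) →
    IsMap F Q g → ∀ P' : Subgroup Ω, g '' (P : Set Ω) = P' →
      ∃ f', IsMap E P' f' ∧ ∀ x ∈ P, f' (g x) = g (f x)

theorem strongInvariant_of_invariant (h : E.IsInvariantIn F) : StrongInvariant E F := by
  intro P Q f g hPQ hQT hf hfQ hg P' hP'
  obtain ⟨a, ha, g₀, hg₀, hv⟩ := exists_frattini h hQT hg
  obtain ⟨P₀, hP₀⟩ := (hg₀.mono hPQ).exists_iso
  obtain ⟨r, hr, hr1, -⟩ := hP₀.exists_symm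
  have hk : IsMap E P₀ (g₀ ∘ f ∘ r) :=
    (hr.isMap.comp hf fun y hy => hr.mem hy).comp hg₀ fun y hy => hfQ _ (hr.mem hy)
  have him : autFun a '' (P₀ : Set Ω) = P' := by
    rw [← hP₀.image_eq, Set.image_image, ← hP']
    exact Set.image_congr fun x hx => (hv x (hPQ hx)).symm
  obtain ⟨f', hf', hf'v⟩ := exists_transport h hk ha him
  refine ⟨f', hf', fun x hx => ?_⟩
  rw [hv x (hPQ hx), hf'v _ (hP₀.mem hx)]
  show autFun a (g₀ (f (r (g₀ x)))) = _
  rw [hr1 x hx, ← hv _ (hfQ x hx)]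

/-- A map of `F` factors as an automorphism of `T` after a map of `E`. -/
def Factors (E : FusionSystem T) (F : FusionSystem S) (P : Subgroup Ω) (f : Ω → Ω) : Prop :=
  ∃ a ∈ F.autGroup T, ∃ f₀, IsMap E P f₀ ∧ ∀ x ∈ P, f x = autFun a (f₀ x)

theorem autFun_mul (a b : MulAut T) {x : Ω} (hx : x ∈ T) :
    autFun (a * b) x = autFun a (autFun b x) := by
  rw [autFun_apply _ hx, autFun_apply b hx, autFun_coe]
  rfl

theorem Factors.mono {P Q : Subgroup Ω} {f : Ω → Ω} (h : Factors E F Q f) (hPQ : P ≤ Q) :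
    Factors E F P f := by
  obtain ⟨a, ha, f₀, hf₀, hv⟩ := h
  exact ⟨a, ha, f₀, hf₀.mono hPQ, fun x hx => hv x (hPQ hx)⟩

theorem Factors.congr {P : Subgroup Ω} {f g : Ω → Ω} (h : Factors E F P f)
    (hfg : ∀ x ∈ P, f x = g x) : Factors E F P g := by
  obtain ⟨a, ha, f₀, hf₀, hv⟩ := h
  exact ⟨a, ha, f₀, hf₀, fun x hx => (hfg x hx).symm.trans (hv x hx)⟩

theorem Factors.comp (hSI : StrongInvariant E F) (hT : T ≤ S) {P Q : Subgroup Ω} {f g : Ω → Ω}
    (hf : Factors E F P f) (hg : Factors E F Q g) (h : ∀ x ∈ P, f x ∈ Q) :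
    Factors E F P (g ∘ f) := by
  obtain ⟨a, ha, f₀, hf₀, hv⟩ := hf
  obtain ⟨b, hb, g₀, hg₀, hw⟩ := hg
  have hai := (mem_autGroup_iff hT a⁻¹).1 ((F.autGroup T).inv_mem ha)
  obtain ⟨g', hg', hg'v⟩ := hSI Q T g₀ (autFun a⁻¹) hg₀.le le_rfl hg₀ (fun x hx => hg₀.mem hx)
    hai.isMap (imageAut a⁻¹ Q) (coe_imageAut a⁻¹ hg₀.le)
  have hback : ∀ u ∈ T, autFun a⁻¹ (autFun a u) = u := fun u hu => by
    rw [← autFun_mul _ _ hu, inv_mul_cancel, autFun_apply _ hu]; rfl
  have hfwd : ∀ u ∈ T, autFun a (autFun a⁻¹ u) = u := fun u hu => by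
    rw [← autFun_mul _ _ hu, mul_inv_cancel, autFun_apply _ hu]; rfl
  have hmem : ∀ x ∈ P, f₀ x ∈ imageAut a⁻¹ Q := fun x hx => by
    have h1 := mem_imageAut a⁻¹ (h x hx) (hv x hx ▸ autFun_mem a (hf₀.mem hx))
    rwa [hv x hx, hback _ (hf₀.mem hx)] at h1
  refine ⟨b * a, (F.autGroup T).mul_mem hb ha, g' ∘ f₀, hf₀.comp hg' hmem, fun x hx => ?_⟩
  have h1 := hg'v (f x) (h x hx)
  rw [hv x hx, hback _ (hf₀.mem hx)] at h1
  show g (f x) = autFun (b * a) (g' (f₀ x))
  rw [autFun_mul _ _ (hg'.mem (hmem x hx)), h1, hfwd _ (hg₀.mem (hv x hx ▸ h x hx)), ← hv x hx,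
    hw _ (h x hx)]

variable {p : ℕ} [Fact p.Prime] [Finite S]

/-- The Frattini condition. -/
theorem factors_of_strongInvariant (hS : IsPGroup p S) (hF : F.IsSaturated p)
    (hEF : E.IsSubsystemOf F) (hT : F.StronglyClosed T) (hSI : StrongInvariant E F) :
    ∀ (n : ℕ) (P : Subgroup Ω) (f : Ω → Ω), Nat.card T - Nat.card P = n → P ≤ T →
      IsMap F P f → Factors E F P f := by
  intro n
  induction n using Nat.strong_induction_on with
  | _ n ih =>
  intro P f hn hPT hf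
  have := finite_of_le hT.1
  have := finite_of_le hf.le
  obtain ⟨Q, hQ⟩ := hf.exists_iso
  rcases eq_or_ne P T with rfl | hne
  · obtain ⟨a, ha, hv⟩ := exists_mem_autGroup (hf.isIso_of_card_le
      (fun x hx => isMap_mem_of_stronglyClosed hT hf hx hx) le_rfl)
    exact ⟨a, ha, id, isMap_id le_rfl, fun x hx => by rw [id, autFun_apply a hx, hv]⟩
  obtain ⟨R, hPR, hR⟩ := exists_isFullyNormalized (F := F) hQ.le_left
  have hra := isFullyAutomized_of_isFullyNormalized hS hF hR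
  have hrr := isReceptive_of_isFullyNormalized hS hF hR
  have hmemT : ∀ {A : Subgroup Ω} {g : Ω → Ω}, IsIso F P A g → A ≤ T := fun {A g} hg y hy => by
    obtain ⟨x, hx, rfl⟩ := hg.surj hy
    exact isMap_mem_of_stronglyClosed hT hg.isMap hx (hPT hx)
  have hQT : Q ≤ T := hmemT hQ
  obtain ⟨k0, hk0⟩ := isConj_iff.1 hPR
  have hRT : R ≤ T := hmemT hk0
  have hcard : ∀ {A : Subgroup Ω}, A ≤ T → Nat.card A = Nat.card P →
      Nat.card T - Nat.card (normalizerIn T A) < n := fun {A} hA hc => by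
    have := finite_of_le (S := S) (P := normalizerIn T A) (inf_le_left.trans hT.1)
    have hne' : A ≠ T := fun e => hne (Subgroup.eq_of_le_of_card_ge hPT (e ▸ hc).le)
    have hlt : A < normalizerIn T A := lt_normalizerIn (hS.to_le hT.1) hA hne'
    have := finite_of_le (hA.trans hT.1)
    have h1 : Nat.card A < Nat.card (normalizerIn T A) :=
      lt_of_le_of_ne (Subgroup.card_le_of_le hlt.le)
        fun e => hlt.ne (Subgroup.eq_of_le_of_card_ge hlt.le e.ge)
    have h2 : Nat.card (normalizerIn T A) ≤ Nat.card T := Subgroup.card_le_of_le inf_le_left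
    omega
  have hext : ∀ {A : Subgroup Ω} {g : Ω → Ω}, A ≤ T → Nat.card A = Nat.card P →
      IsMap F (normalizerIn T A) g → Factors E F (normalizerIn T A) g :=
    fun {A g} hA hc hg => ih _ (hcard hA hc) _ g rfl inf_le_left hg
  have hle : ∀ A : Subgroup Ω, normalizerIn T A ≤ normalizerIn S A :=
    fun A => inf_le_inf_right _ hT.1
  -- the maps to `R` and back
  obtain ⟨a, haN, haP, -, -⟩ := exists_map_normalizerIn hS hra hrr hPR
  obtain ⟨b, hbN, hbQ, -, -⟩ :=
    exists_map_normalizerIn hS hra hrr (isConj_trans (isConj_symm hQ.isConj) hPR)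
  have hA := (hext hPT rfl (haN.mono (hle P))).mono (le_normalizerIn hPT)
  obtain ⟨B, hB⟩ := (hbN.mono (hle Q)).exists_iso
  have hBT : B ≤ T := fun y hy => by
    obtain ⟨x, hx, rfl⟩ := hB.surj hy
    exact isMap_mem_of_stronglyClosed hT hB.isMap hx hx.1
  obtain ⟨b', hb', hb'1, -⟩ := hB.exists_symm
  have hRB : R ≤ B := fun y hy => by
    obtain ⟨x, hx, rfl⟩ := hbQ.surj hy
    exact hB.mem (le_normalizerIn hQT hx)
  have hB' : Factors E F R b' := by
    refine (ih _ ?_ B b' rfl hBT hb'.isMap).mono hRB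
    rw [hB.card_eq]
    exact hcard hQT hQ.card_eq
  obtain ⟨a', ha', ha'1, -⟩ := haP.exists_symm
  obtain ⟨α, hα, hαv⟩ := exists_mem_autGroup ((ha'.comp hQ).comp hbQ)
  -- automorphisms of `R`
  have := finite_of_le hR.1
  have := finite_mulAut R
  set G := F.autGroup R
  set A : Subgroup G := (autInducedBy T R).subgroupOf G with hAdef
  obtain ⟨-, Syl, hSyl⟩ := hra
  have hAS : A ≤ Syl := by
    rw [hSyl]
    intro x hx
    exact autInducedBy_mono hT.1 R hx
  have hclosed : ∀ g : G, ∀ x ∈ A, g * x * g⁻¹ ∈ (Syl : Subgroup G) → g * x * g⁻¹ ∈ A := by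
    intro g x hx hgx
    rw [hSyl] at hgx
    obtain ⟨t, ht, htv⟩ := (mem_autInducedBy_iff T R _).1 hx
    obtain ⟨s, hs, hsv⟩ := (mem_autInducedBy_iff S R _).1 hgx
    obtain ⟨f', hf', hf'v⟩ := (isReceptive_iff.1 hrr).2 R _ ((mem_autGroup_iff hR.1 _).1 g.2)
    have htn := (mem_normalizerIn_of_induces hR.1 (hT.1 ht) htv).2
    have htN : t ∈ nPhi S R (autFun (g : MulAut R)) := by
      refine ⟨hT.1 ht, htn, s, hs, fun y hy => ?_⟩
      have h1 := hsv ((g : MulAut R) ⟨y, hy⟩)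
      have h2 : (⟨t * y * t⁻¹, conj_mem_of_mem_normalizer htn hy⟩ : R) =
          (x : MulAut R) ⟨y, hy⟩ := Subtype.ext (htv ⟨y, hy⟩).symm
      rw [autFun_apply _ (conj_mem_of_mem_normalizer htn hy), autFun_apply _ hy, h2, ← h1]
      simp
    have hft : f' t ∈ T := isMap_mem_of_stronglyClosed hT hf' htN ht
    refine Subgroup.mem_subgroupOf.2 ((mem_autInducedBy_iff T R _).2 ⟨f' t, hft, fun z => ?_⟩)
    obtain ⟨y, rfl⟩ := (g : MulAut R).surjective z
    show (((g : MulAut R) ((x : MulAut R) ((↑g⁻¹ : MulAut R) ((g : MulAut R) y)))) : Ω) = _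
    rw [show (↑g⁻¹ : MulAut R) ((g : MulAut R) y) = y from MulAut.inv_apply_self _ _ _]
    have hyN : ∀ w : R, (w : Ω) ∈ nPhi S R (autFun (g : MulAut R)) :=
      fun w => le_nPhi ((mem_autGroup_iff hR.1 _).1 g.2).isMap w.2
    rw [← autFun_coe (g : MulAut R) ((x : MulAut R) y), ← autFun_coe (g : MulAut R) y,
      ← hf'v _ (SetLike.coe_mem _), ← hf'v y y.2]
    exact (congrArg f' (htv y)).trans (hf'.map_conj htN (hyN y))
  set K := Subgroup.normalClosure (A : Set G) with hK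
  have hKE : ∀ k ∈ K, (k : MulAut R) ∈ E.autGroup R := by
    intro k hk
    induction hk using Subgroup.closure_induction with
    | mem z hz =>
      obtain ⟨x, hx, hxz⟩ := Group.mem_conjugatesOfSet_iff.1 hz
      obtain ⟨g, rfl⟩ := _root_.isConj_iff.1 hxz
      have hxE := autInducedBy_le_autGroup (F := E) hRT hx
      have hx' := (mem_autGroup_iff hRT _).1 hxE
      have hg' := (mem_autGroup_iff hR.1 _).1 g.2
      obtain ⟨f', hf', hv⟩ := hSI R R _ _ le_rfl hRT hx'.isMap (fun y hy => hx'.mem hy) hg'.isMap R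
        hg'.image_eq
      refine mem_autGroup_of_isMap hf' _ fun z => ?_
      obtain ⟨y, rfl⟩ := (g : MulAut R).surjective z
      show (((g : MulAut R) ((x : MulAut R) ((↑g⁻¹ : MulAut R) ((g : MulAut R) y)))) : Ω) = _
      rw [show (↑g⁻¹ : MulAut R) ((g : MulAut R) y) = y from MulAut.inv_apply_self _ _ _,
        ← autFun_coe (g : MulAut R) y, hv y y.2]
      exact ((congrArg (autFun (g : MulAut R)) (autFun_coe _ y)).trans (autFun_coe _ _)).symm
    | one => exact Subgroup.one_mem _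
    | mul x y _ _ hx hy => exact Subgroup.mul_mem _ hx hy
    | inv x _ hx => exact Subgroup.inv_mem _ hx
  obtain ⟨m, k, hmn, hkK, hmk⟩ : ∃ m k : G, (∀ x ∈ A, m * x * m⁻¹ ∈ A) ∧ k ∈ K ∧
      (⟨α, hα⟩ : G) = k * m := by
    haveI : K.Normal := Subgroup.normalClosure_normal
    have hAK : A ≤ K := Subgroup.le_normalClosure
    obtain ⟨SK, hSK⟩ := (Syl.isPGroup'.to_le hAS).of_equiv
      (Subgroup.subgroupOfEquivOfLe hAK).symm |>.exists_le_sylow
    obtain ⟨Q', hQ'⟩ := Sylow.exists_comap_subtype_eq SK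
    obtain ⟨c, hc⟩ := MulAction.exists_smul_eq G Syl Q'
    have hmemQ : ∀ x : G, x ∈ Q'.toSubgroup → c⁻¹ * x * c ∈ (Syl : Subgroup G) := fun x hx => by
      rw [← hc, Sylow.coe_subgroup_smul, Subgroup.mem_pointwise_smul_iff_inv_smul_mem] at hx
      simpa [mul_assoc] using hx
    have hcA : ∀ x ∈ A, c * x * c⁻¹ ∈ A := by
      have hinvA : ∀ x ∈ A, c⁻¹ * x * c ∈ A := fun x hx => by
        have h1 : (⟨x, hAK hx⟩ : K) ∈ (SK : Subgroup K) := hSK (Subgroup.mem_subgroupOf.2 hx)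
        rw [← hQ'] at h1
        have h2 := hclosed c⁻¹ x hx (by rw [inv_inv]; exact hmemQ x h1)
        rwa [inv_inv] at h2
      intro x hx
      obtain ⟨⟨y, hy⟩, hye⟩ := (Finite.injective_iff_surjective
        (f := fun z : A => (⟨c⁻¹ * z * c, hinvA z z.2⟩ : A))).1
        (fun z w e => Subtype.ext (mul_left_cancel (mul_right_cancel (congrArg Subtype.val e))))
        ⟨x, hx⟩
      have hye' : c⁻¹ * y * c = x := congrArg Subtype.val hye
      rwa [← hye', show c * (c⁻¹ * y * c) * c⁻¹ = y by group]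
    let Aα : Subgroup G := A.map (MulAut.conj (⟨α, hα⟩ : G)).toMonoidHom
    have hAαK : Aα ≤ K := by
      rintro _ ⟨x, hx, rfl⟩
      exact Subgroup.Normal.conj_mem inferInstance x (hAK hx) _
    obtain ⟨SK', hSK'⟩ := ((Syl.isPGroup'.to_le hAS).map
      (MulAut.conj (⟨α, hα⟩ : G)).toMonoidHom).of_equiv
      (Subgroup.subgroupOfEquivOfLe hAαK).symm |>.exists_le_sylow
    obtain ⟨l, hl⟩ := MulAction.exists_smul_eq K SK' SK
    refine ⟨(l : G) * ⟨α, hα⟩, (l : G)⁻¹, fun x hx => ?_, K.inv_mem l.2,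
      (inv_mul_cancel_left _ _).symm⟩
    set g : G := (l : G) * ⟨α, hα⟩
    have hgK : g * x * g⁻¹ ∈ K := Subgroup.Normal.conj_mem inferInstance x (hAK hx) _
    have h1 : (⟨g * x * g⁻¹, hgK⟩ : K) ∈ (SK : Subgroup K) := by
      rw [← hl, Sylow.coe_subgroup_smul, Subgroup.mem_pointwise_smul_iff_inv_smul_mem]
      refine hSK' (Subgroup.mem_subgroupOf.2 ⟨x, hx, ?_⟩)
      simp [g, mul_assoc]
    rw [← hQ'] at h1
    have h2 := hclosed (c⁻¹ * g) x hx (by
      rw [show c⁻¹ * g * x * (c⁻¹ * g)⁻¹ = c⁻¹ * (g * x * g⁻¹) * c by group]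
      exact hmemQ _ h1)
    have h3 := hcA _ h2
    rwa [show c * (c⁻¹ * g * x * (c⁻¹ * g)⁻¹) * c⁻¹ = g * x * g⁻¹ by group] at h3
  -- the normalizing part extends
  have hm' := (mem_autGroup_iff hR.1 _).1 m.2
  obtain ⟨f', hf', hf'v⟩ := (isReceptive_iff.1 hrr).2 R _ hm'
  have hNle : normalizerIn T R ≤ nPhi S R (autFun (m : MulAut R)) := fun t ht => by
    have htA : (⟨conjAut R ht.2, autInducedBy_le_autGroup hR.1
        (conjAut_mem_autInducedBy ht.2 (hT.1 ht.1))⟩ : G) ∈ A :=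
      Subgroup.mem_subgroupOf.2 (conjAut_mem_autInducedBy ht.2 ht.1)
    obtain ⟨u, hu, huv⟩ := (mem_autInducedBy_iff T R _).1 (Subgroup.mem_subgroupOf.1 (hmn _ htA))
    refine ⟨hT.1 ht.1, ht.2, u, hT.1 hu, fun y hy => ?_⟩
    have h1 := huv ((m : MulAut R) ⟨y, hy⟩)
    rw [autFun_apply _ (conj_mem_of_mem_normalizer ht.2 hy), autFun_apply _ hy, ← h1]
    simp
    rfl
  have hm : Factors E F R (autFun (m : MulAut R)) :=
    ((hext hRT hk0.card_eq (hf'.mono hNle)).mono (le_normalizerIn hRT)).congr hf'v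
  have hk : Factors E F R (autFun (k : MulAut R)) := by
    refine ⟨1, Subgroup.one_mem _, autFun (k : MulAut R),
      ((mem_autGroup_iff hRT _).1 (hKE k hkK)).isMap, fun x hx => ?_⟩
    rw [autFun_apply (1 : MulAut T) (hRT (autFun_mem _ hx))]
    rfl
  have hαF : Factors E F R (autFun α) := (hm.comp hSI hT.1 hk fun x hx => autFun_mem _ hx).congr
    fun x hx => by
      show autFun (k : MulAut R) (autFun (m : MulAut R) x) = _
      rw [autFun_apply (m : MulAut R) hx, autFun_coe, autFun_apply α hx,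
        show α = (k : MulAut R) * (m : MulAut R) from congrArg Subtype.val hmk]
      rfl
  refine ((hA.comp hSI hT.1 hαF fun x hx => haP.mem hx).comp hSI hT.1 hB'
    fun x hx => autFun_mem α (haP.mem hx)).congr fun x hx => ?_
  show b' (autFun α (a x)) = f x
  rw [autFun_apply α (haP.mem hx), hαv]
  show b' (b (f (a' (a x)))) = f x
  rw [ha'1 x hx, hb'1 _ (le_normalizerIn hQT (hQ.mem hx))]

theorem isInvariantIn_iff_strongInvariant (hS : IsPGroup p S) (hF : F.IsSaturated p)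
    (hEF : E.IsSubsystemOf F) (hT : F.StronglyClosed T) :
    E.IsInvariantIn F ↔ StrongInvariant E F := by
  refine ⟨strongInvariant_of_invariant, fun hSI => ⟨hEF, hT, ?_, fun P hP φ hφ => ?_⟩⟩
  · intro P hPT φ hφ a ha
    have hai := (mem_autGroup_iff hT.1 a).1 ha
    obtain ⟨f', hf', hv⟩ := hSI P T _ _ hPT le_rfl (isMap_homFun hφ)
      (fun x hx => (isMap_homFun hφ).mem hx) hai.isMap _ (coe_imageAut a hPT)
    obtain ⟨χ, hχ, hχv⟩ := hf'.exists_hom
    refine ⟨χ, hχ, fun x hφx hax => ?_⟩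
    have h1 := hv x x.2
    rw [autFun_apply a (hPT x.2), homFun_coe, autFun_apply a hφx] at h1
    exact (hχv ⟨_, hax⟩).trans h1
  · obtain ⟨a, ha, f₀, hf₀, hv⟩ :=
      factors_of_strongInvariant hS hF hEF hT hSI _ P _ rfl hP (isMap_homFun hφ)
    obtain ⟨φ₀, hφ₀, hφ₀v⟩ := hf₀.exists_hom
    refine ⟨a, ha, φ₀, hφ₀, fun x hx => ?_⟩
    rw [← homFun_coe φ x, hv x x.2, ← hφ₀v x, autFun_apply a hx]

end CfsgLib.Fusion
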