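import Mathlib
import Cfsg.Agent.Lib.Fusion.Normal

/-!
A strongly closed subgroup with abelian quotient over a normal subgroup with `p`-automizer is normal.
-/

set_option autoImplicit false

namespace CfsgLib.Fusion

open Cfsg Cfsg.FusionSystem

/-- An automorphism fixing all its displacements, which have exponent dividing `m`, has order
dividing `m`. -/
theorem pow_eq_one_of_fixed_diff {R : Type*} [Group R] {β : MulAut R} {m : ℕ}
    {x : R} (hfix : β (x⁻¹ * β x) = x⁻¹ * β x) (hm : (x⁻¹ * β x) ^ m = 1) : (β ^ m) x = x := by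
  have hit : ∀ k : ℕ, (β ^ k) x = x * (x⁻¹ * β x) ^ k := by
    intro k
    induction k with
    | zero => simp
    | succ k ih =>
      rw [pow_succ', MulAut.mul_apply, ih, map_mul, map_pow, hfix, pow_succ', ← mul_assoc x,
        mul_inv_cancel_left]
  rw [hit, hm, mul_one]

variable {Ω : Type*} [Group Ω] {S : Subgroup Ω} {F : FusionSystem S} {p : ℕ}
variable [Fact p.Prime] [Finite S]

theorem isNormal_of_abelian_over_normal (hS : IsPGroup p S) (hF : F.IsSaturated p)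
    {Q Q₁ : Subgroup Ω} (hQ : F.StronglyClosed Q) (hQ₁ : F.IsNormal Q₁)
    (hab : ⁅Q, Q⁆ ≤ Q₁) (hAut : IsPGroup p (F.autGroup Q₁)) : F.IsNormal Q := by
  refine (isNormal_iff_stronglyClosed_le hS hF).2 ⟨hQ, fun R hc hr => ?_⟩
  have hR := hc.1
  have hQ₁R := le_of_isNormal hS hQ₁ hc hr
  have hSQ : S ≤ Subgroup.normalizer (Q : Set Ω) := fun g hg =>
    mem_normalizer_of_conj_mem hQ.1 fun _ hx =>
      isMap_mem_of_stronglyClosed hQ (isMap_conj le_rfl hg) (hQ.1 hx) hx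
  refine le_of_normalizer_inf_le hS hR hQ.1 (fun x hx => hSQ (hR hx)) fun g hgQ hgn => ?_
  have := finite_of_le hR
  have hsc₁ := stronglyClosed_of_isNormal hQ₁
  have hpres : ∀ {T : Subgroup Ω}, F.StronglyClosed T → ∀ β ∈ F.autGroup R, ∀ x : R,
      (x : Ω) ∈ T → (β x : Ω) ∈ T := fun hT β hβ x hx => by
    have := isMap_mem_of_stronglyClosed hT ((mem_autGroup_iff hR β).1 hβ).isMap x.2 hx
    rwa [autFun_coe] at this
  let K : Subgroup (F.autGroup R) :=
    { carrier := {β | (∀ x : R, ((x⁻¹ * (β : MulAut R) x : R) : Ω) ∈ Q) ∧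
        ∀ x : R, (x : Ω) ∈ Q → ((x⁻¹ * (β : MulAut R) x : R) : Ω) ∈ Q₁}
      one_mem' := ⟨fun x => by simp, fun x _ => by simp⟩
      mul_mem' := by
        rintro a b ⟨ha, ha'⟩ ⟨hb, hb'⟩
        refine ⟨fun x => ?_, fun x hx => ?_⟩ <;>
          rw [Subgroup.coe_mul (F.autGroup R), MulAut.mul_apply,
            show x⁻¹ * (a : MulAut R) ((b : MulAut R) x) = (x⁻¹ * (b : MulAut R) x) *
              (((b : MulAut R) x)⁻¹ * (a : MulAut R) ((b : MulAut R) x)) by group]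
        · exact Q.mul_mem (hb x) (ha _)
        · exact Q₁.mul_mem (hb' x hx) (ha' _ (hpres hQ _ b.2 x hx))
      inv_mem' := by
        rintro a ⟨ha, ha'⟩
        refine ⟨fun x => ?_, fun x hx => ?_⟩
        · have h := Q.inv_mem (ha ((a : MulAut R)⁻¹ x))
          rw [MulAut.apply_inv_self] at h
          simpa using h
        · have h := Q₁.inv_mem (ha' ((a : MulAut R)⁻¹ x)
            (hpres hQ _ (Subgroup.inv_mem _ a.2) x hx))
          rw [MulAut.apply_inv_self] at h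
          simpa using h }
  have hKn : K.Normal := by
    refine ⟨fun a ha b => ⟨fun x => ?_, fun x hx => ?_⟩⟩
    · have h := hpres hQ _ b.2 _ (ha.1 ((b : MulAut R)⁻¹ x))
      rw [map_mul, map_inv, MulAut.apply_inv_self] at h
      exact h
    · have h := hpres hsc₁ _ b.2 _ (ha.2 ((b : MulAut R)⁻¹ x) (hpres hQ _ (Subgroup.inv_mem _ b.2) x hx))
      rw [map_mul, map_inv, MulAut.apply_inv_self] at h
      exact h
  have hKp : IsPGroup p K := by
    rintro ⟨β, hβQ, hβQ₁⟩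
    have := finite_of_le hQ₁.1
    have hm : ∀ x ∈ Q₁, autFun (β : MulAut R) x ∈ Q₁ := fun x hx => by
      rw [autFun_apply _ (hQ₁R hx)]
      exact hpres hsc₁ _ β.2 ⟨x, hQ₁R hx⟩ hx
    obtain ⟨γ, hγ, hγv⟩ := exists_mem_autGroup
      ((((mem_autGroup_iff hR (β : MulAut R)).1 β.2).isMap.mono hQ₁R).isIso_of_card_le hm le_rfl)
    have hγn : ∀ (k : ℕ) (x : Q₁), ((γ ^ k) x : Ω) = ((β : MulAut R) ^ k) ⟨x, hQ₁R x.2⟩ := by
      intro k
      induction k with
      | zero => intro x; rfl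
      | succ k ih =>
        intro x
        rw [pow_succ', pow_succ', MulAut.mul_apply, MulAut.mul_apply, hγv, ih x, autFun_coe]
    obtain ⟨k, hk⟩ := hAut ⟨γ, hγ⟩
    have hk' : γ ^ p ^ k = 1 := congrArg Subtype.val hk
    obtain ⟨j, hj⟩ := (hS.to_le hR).exists_card_eq
    have hcard : ∀ d : R, d ^ p ^ j = 1 := fun d => hj ▸ pow_card_eq_one'
    set β₁ := β ^ p ^ k with hβ₁
    have hmem : β₁ ∈ K := K.pow_mem ⟨hβQ, hβQ₁⟩ _
    have hfix₁ : ∀ x : R, (x : Ω) ∈ Q₁ → (β₁ : MulAut R) x = x := by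
      intro x hx
      refine Subtype.ext ?_
      rw [hβ₁, SubgroupClass.coe_pow, ← hγn _ ⟨x, hx⟩, hk', MulAut.one_apply]
    set β₂ := β₁ ^ p ^ j with hβ₂
    have hmem₂ : β₂ ∈ K := K.pow_mem hmem _
    have hfix₂ : ∀ x : R, (x : Ω) ∈ Q → (β₂ : MulAut R) x = x := by
      intro x hx
      rw [hβ₂, SubgroupClass.coe_pow]
      exact pow_eq_one_of_fixed_diff (hfix₁ _ (hmem.2 x hx)) (hcard _)
    refine ⟨k + j + j, Subtype.ext (Subtype.ext (MulEquiv.ext fun x => ?_))⟩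
    rw [pow_add, pow_add, pow_mul, pow_mul]
    show ((β₂ : MulAut R) ^ p ^ j) x = x
    exact pow_eq_one_of_fixed_diff (hfix₂ _ (hmem₂.1 x)) (hcard _)
  refine mem_of_mem_pCore hc hr ⟨hQ.1 hgQ, hgn⟩
    (α := ⟨_, autInducedBy_le_autGroup hR (conjAut_mem_autInducedBy hgn (hQ.1 hgQ))⟩)
    (conjAut_apply R hgn) (CfsgLib.Fitting.le_pCore hKn hKp ⟨fun x => ?_, fun x hx => ?_⟩)
  · rw [Subgroup.coe_mul, Subgroup.coe_inv, conjAut_apply,
      show (x : Ω)⁻¹ * (g * x * g⁻¹) = ((x : Ω)⁻¹ * g * x) * g⁻¹ by group]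
    exact Q.mul_mem ((Subgroup.mem_normalizer_iff''.1 (hSQ (hR x.2)) g).1 hgQ) (Q.inv_mem hgQ)
  · rw [Subgroup.coe_mul, Subgroup.coe_inv, conjAut_apply]
    refine hab ?_
    have := Subgroup.commutator_mem_commutator (Q.inv_mem hx) hgQ
    rw [commutatorElement_def, inv_inv] at this
    simpa [mul_assoc] using this

end CfsgLib.Fusion
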