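import Mathlib
import Cfsg.Agent.Lib.Fusion.StronglyClosedAutomizer
import Cfsg.Agent.Lib.Fusion.Alperin

/-!
A system generated by, and saturated on, a class of subgroups is saturated as soon as every
centric subgroup outside the class is not radical in the strong sense.
-/

set_option autoImplicit false

namespace CfsgLib.Fusion.SatExtend

open Cfsg Cfsg.FusionSystem

/-! ### Group-theoretic preliminaries -/

section Groups

variable {G : Type*} [Group G] [Finite G] {p : ℕ} [Fact p.Prime]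

/-- The trace of a Sylow subgroup on a normal subgroup is a Sylow subgroup of it. -/
theorem exists_sylow_inf (D : Sylow p G) (K : Subgroup G) [hK : K.Normal] :
    ∃ SK : Sylow p K, (SK : Subgroup K) = (D : Subgroup G).subgroupOf K := by
  have hp : IsPGroup p ((D : Subgroup G).subgroupOf K) := D.isPGroup'.comap_subtype
  obtain ⟨SK, hSK⟩ := hp.exists_le_sylow
  refine ⟨SK, (Subgroup.eq_of_le_of_card_ge hSK ?_).symm⟩
  obtain ⟨Q, hQ⟩ := (SK.isPGroup'.map K.subtype).exists_le_sylow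
  obtain ⟨c, hc⟩ := MulAction.exists_smul_eq G Q D
  refine Nat.card_le_card_of_injective
    (fun s : (SK : Subgroup K) => (⟨⟨c * ((s : K) : G) * c⁻¹, hK.conj_mem _ (s : K).2 c⟩, ?_⟩ :
      (D : Subgroup G).subgroupOf K)) fun a b e => ?_
  · rw [Subgroup.mem_subgroupOf, ← hc, Sylow.coe_subgroup_smul,
      Subgroup.mem_pointwise_smul_iff_inv_smul_mem]
    simpa [mul_assoc] using hQ ⟨s, s.2, rfl⟩
  · have h : c * ((a : K) : G) * c⁻¹ = c * ((b : K) : G) * c⁻¹ :=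
      congrArg (fun z : (D : Subgroup G).subgroupOf K => ((z : K) : G)) e
    exact Subtype.ext (Subtype.ext (mul_left_cancel (mul_right_cancel h)))

/-- A normal subgroup with `p`-group image is covered by a Sylow subgroup, up to the kernel. -/
theorem exists_eq_of_pImage {H : Type*} [Group H] (f : G →* H) (D : Sylow p G) (K : Subgroup G)
    [K.Normal] (hp : IsPGroup p (K.map f)) {k : G} (hk : k ∈ K) :
    ∃ d ∈ (D : Subgroup G), d ∈ K ∧ f d = f k := by
  obtain ⟨SK, hSK⟩ := exists_sylow_inf D K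
  let g : K →* K.map f := f.subgroupMap K
  have hg : Function.Surjective g := f.subgroupMap_surjective K
  have htop : (SK.mapSurjective hg : Subgroup (K.map f)) = ⊤ :=
    ((SK.mapSurjective hg).is_maximal' (hp.of_equiv Subgroup.topEquiv.symm) le_top).symm
  have hmem : (⟨f k, k, hk, rfl⟩ : K.map f) ∈ (SK.mapSurjective hg : Subgroup (K.map f)) := by
    rw [htop]; exact Subgroup.mem_top _
  rw [Sylow.coe_mapSurjective] at hmem
  obtain ⟨s, hs, hse⟩ := hmem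
  rw [SetLike.mem_coe, hSK] at hs
  exact ⟨s, hs, s.2, congrArg Subtype.val hse⟩

end Groups

variable {Ω : Type*} [Group Ω] {S : Subgroup Ω} {F : FusionSystem S} {p : ℕ}

theorem stab_iff {R X : Subgroup Ω} [Finite R] (hXR : X ≤ R) {β : MulAut R}
    (h : ∀ x : R, (x : Ω) ∈ X → (β x : Ω) ∈ X) : β ∈ sclStabAut R X := by
  intro x
  refine ⟨fun hx => ?_, h x⟩
  have := Finite.of_injective (Subgroup.inclusion hXR) (Subgroup.inclusion_injective hXR)
  obtain ⟨⟨z, hz⟩, hze⟩ := (Finite.injective_iff_surjective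
    (f := fun y : X => (⟨β ⟨y, hXR y.2⟩, h _ y.2⟩ : X))).1
      (fun y y' e => Subtype.ext (congrArg (Subtype.val : R → Ω)
        (β.injective (Subtype.ext (congrArg (fun w : X => (w : Ω)) e) :
          β ⟨y, hXR y.2⟩ = β ⟨y', hXR y'.2⟩))))
      ⟨β x, hx⟩
  have he : β ⟨z, hXR hz⟩ = β x := Subtype.ext (congrArg (fun w : X => (w : Ω)) hze)
  exact β.injective he ▸ hz

/-- Isomorphisms carry `O_p` of automizers to `O_p`. -/
theorem congr_mem_pCore {P Q : Subgroup Ω} {f : Ω → Ω} (hf : IsIso F P Q f) {α : MulAut P}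
    (hα : α ∈ (Cfsg.pCore p (F.autGroup P)).map (F.autGroup P).subtype) :
    MulAut.congr hf.equiv α ∈ (Cfsg.pCore p (F.autGroup Q)).map (F.autGroup Q).subtype := by
  obtain ⟨a, ha, rfl⟩ := hα
  let e : F.autGroup P →* F.autGroup Q :=
    ((MulAut.congr hf.equiv).toMonoidHom.comp (F.autGroup P).subtype).codRestrict _
      fun b => hf.congr_mem_autGroup b.2
  have he : Function.Surjective e := fun b =>
    ⟨⟨(MulAut.congr hf.equiv).symm b, hf.congr_symm_mem_autGroup b.2⟩,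
      Subtype.ext ((MulAut.congr hf.equiv).apply_symm_apply (b : MulAut Q))⟩
  exact ⟨e a, map_mem_pCore e he ha, rfl⟩

/-- The automorphisms of `R` in `F` stabilising `X`. -/
abbrev stabF (F : FusionSystem S) (R X : Subgroup Ω) : Subgroup (MulAut R) :=
  F.autGroup R ⊓ sclStabAut R X

/-- `X` is placed in `R` so that `Aut_S(R)` contains a Sylow subgroup of its stabiliser. -/
def Placed (F : FusionSystem S) (p : ℕ) (R X : Subgroup Ω) : Prop :=
  X ≤ R ∧ ∀ A : Subgroup (MulAut R), A ≤ stabF F R X → IsPGroup p A →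
    ∃ δ ∈ stabF F R X, ∀ a ∈ A, δ * a * δ⁻¹ ∈ autInducedBy S R

variable [Fact p.Prime] [Finite S]

theorem exists_placed (hS : IsPGroup p S) {R X : Subgroup Ω} (ha : F.IsFullyAutomized p R)
    (hX : X ≤ R) :
    ∃ β ∈ F.autGroup R, ∃ X' : Subgroup Ω,
      autFun β '' (X : Set Ω) = (X' : Set Ω) ∧ Placed F p R X' := by
  have := finite_of_le ha.1
  have := finite_mulAut R
  obtain ⟨D⟩ : Nonempty (Sylow p (stabF F R X)) := inferInstance
  obtain ⟨β, hβ, hconj⟩ := ((isFullyAutomized_iff hS).1 ha).2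
    ((D : Subgroup (stabF F R X)).map (stabF F R X).subtype)
    ((Subgroup.map_subtype_le _).trans inf_le_left) (D.isPGroup'.map _)
  obtain ⟨X', hX'⟩ := (((mem_autGroup_iff ha.1 β).1 hβ).isMap.mono hX).exists_iso
  have hle : X' ≤ R := fun y hy => by
    obtain ⟨x, hx, rfl⟩ := hX'.surj hy
    exact autFun_mem β (hX hx)
  have hmem : ∀ z : R, (β z : Ω) ∈ X' ↔ (z : Ω) ∈ X := by
    refine fun z => ⟨fun hz => ?_, fun hz => autFun_coe β z ▸ hX'.mem hz⟩
    obtain ⟨x, hx, hxe⟩ := hX'.surj hz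
    rw [autFun_apply β (hX hx)] at hxe
    have : (⟨x, hX hx⟩ : R) = z := β.injective (Subtype.ext hxe)
    exact this ▸ hx
  have hback : ∀ z : R, ((β⁻¹ z : R) : Ω) ∈ X ↔ (z : Ω) ∈ X' := fun z => by
    rw [← hmem, MulAut.apply_inv_self]
  refine ⟨β, hβ, X', hX'.image_eq, hle, fun A hA hAp => ?_⟩
  set c := MulAut.conj β⁻¹
  have hA' : A.map c.toMonoidHom ≤ stabF F R X := by
    rintro _ ⟨a, ha', rfl⟩
    refine ⟨(F.autGroup R).mul_mem ((F.autGroup R).mul_mem ((F.autGroup R).inv_mem hβ) (hA ha').1)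
      (by rw [inv_inv]; exact hβ), fun z => ?_⟩
    show ((β⁻¹ (a (β⁻¹⁻¹ z)) : R) : Ω) ∈ X ↔ _
    rw [inv_inv, hback, (hA ha').2 (β z), hmem]
  obtain ⟨Q, hQ⟩ := ((hAp.map c.toMonoidHom).of_equiv
    (Subgroup.subgroupOfEquivOfLe hA').symm).exists_le_sylow
  obtain ⟨g, hg⟩ := MulAction.exists_smul_eq (stabF F R X) Q D
  refine ⟨β * (g : MulAut R) * β⁻¹, ⟨(F.autGroup R).mul_mem ((F.autGroup R).mul_mem hβ g.2.1)
    ((F.autGroup R).inv_mem hβ), fun z => ?_⟩, fun a ha' => ?_⟩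
  · show ((β ((g : MulAut R) (β⁻¹ z)) : R) : Ω) ∈ X' ↔ _
    rw [hmem, g.2.2, hback]
  · have hmemD : g * ⟨c a, hA' ⟨a, ha', rfl⟩⟩ * g⁻¹ ∈ (D : Subgroup (stabF F R X)) := by
      rw [← hg, Sylow.coe_subgroup_smul, Subgroup.mem_pointwise_smul_iff_inv_smul_mem]
      simpa [mul_assoc] using
        hQ (Subgroup.mem_subgroupOf.2 (show c a ∈ A.map c.toMonoidHom from ⟨a, ha', rfl⟩) :
          (⟨c a, hA' ⟨a, ha', rfl⟩⟩ : stabF F R X) ∈ (A.map c.toMonoidHom).subgroupOf _)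
    have := hconj _ ⟨_, hmemD, rfl⟩
    simpa [c, mul_assoc] using this

omit [Fact p.Prime] in
theorem autInducedBy_inf_stab_le {R : Subgroup Ω} (hR : R ≤ S) (X : Subgroup Ω) :
    autInducedBy S R ⊓ sclStabAut R X ≤ stabF F R X :=
  inf_le_inf_right _ (autInducedBy_le_autGroup hR)

theorem exists_placed_sylow (hS : IsPGroup p S) {R X : Subgroup Ω} (hR : R ≤ S)
    (h : Placed F p R X) :
    ∃ D : Sylow p (stabF F R X),
      (D : Subgroup (stabF F R X)) = (autInducedBy S R ⊓ sclStabAut R X).subgroupOf (stabF F R X) := by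
  have := finite_of_le hR
  have := finite_mulAut R
  set T := autInducedBy S R ⊓ sclStabAut R X
  have hTle : T ≤ stabF F R X := autInducedBy_inf_stab_le hR X
  have hTp : IsPGroup p T := (isPGroup_autInducedBy hS R).to_le inf_le_left
  obtain ⟨D, hD⟩ := (hTp.of_equiv (Subgroup.subgroupOfEquivOfLe hTle).symm).exists_le_sylow
  refine ⟨D, (Subgroup.eq_of_le_of_card_ge hD ?_).symm⟩
  obtain ⟨δ, hδ, hδv⟩ := h.2 ((D : Subgroup (stabF F R X)).map (stabF F R X).subtype)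
    (Subgroup.map_subtype_le _) (D.isPGroup'.map _)
  refine Nat.card_le_card_of_injective
    (fun d : (D : Subgroup (stabF F R X)) =>
      (⟨⟨δ, hδ⟩ * d.1 * ⟨δ, hδ⟩⁻¹, hδv _ ⟨d.1, d.2, rfl⟩,
        (sclStabAut R X).mul_mem ((sclStabAut R X).mul_mem hδ.2 d.1.2.2) ((sclStabAut R X).inv_mem hδ.2)⟩ :
        T.subgroupOf (stabF F R X))) fun a b e => ?_
  exact Subtype.ext (mul_left_cancel (mul_right_cancel (congrArg Subtype.val e)))

/-- Extending an isomorphism onto `R` that carries `Y` to the placed subgroup `X`. -/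
theorem exists_ext (hS : IsPGroup p S) {R X : Subgroup Ω} (hr : F.IsReceptive R)
    (h : Placed F p R X) {Q Y M : Subgroup Ω} {u : Ω → Ω} (hu : IsIso F Q R u) (hYQ : Y ≤ Q)
    (hY : IsIso F Y X u) (hMQ : M ≤ normalizerIn S Q) (hMY : M ≤ normalizerIn S Y) :
    ∃ u', IsMap F M u' ∧ IsIso F Q R u' ∧ IsIso F Y X u' := by
  have hQ := hu.le_left
  have := finite_of_le hQ
  have := finite_of_le hr.1
  set A := (autInducedBy M Q).map (MulAut.congr hu.equiv).toMonoidHom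
  have hA : A ≤ stabF F R X := by
    rintro _ ⟨a, ha, rfl⟩
    refine ⟨hu.congr_mem_autGroup (autInducedBy_le_autGroup hQ
      (autInducedBy_mono (hMQ.trans inf_le_left) Q ha)), stab_iff h.1 fun z hz => ?_⟩
    obtain ⟨g, hg, hgv⟩ := (mem_autInducedBy_iff M Q a).1 ha
    obtain ⟨y, hy, hye⟩ := hY.surj hz
    have hz' : z = hu.equiv ⟨y, hYQ hy⟩ := Subtype.ext hye.symm
    subst hz'
    show (MulAut.congr hu.equiv a (hu.equiv ⟨y, hYQ hy⟩) : Ω) ∈ X
    rw [hu.congr_apply, hgv]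
    exact hY.mem (conj_mem_of_mem_normalizer (hMY hg).2 hy)
  obtain ⟨δ, hδ, hδv⟩ := h.2 A hA
    ((isPGroup_autInducedBy (hS.to_le (hMQ.trans inf_le_left)) Q).map _)
  have hu' : IsIso F Q R (autFun δ ∘ u) := hu.comp ((mem_autGroup_iff hr.1 δ).1 hδ.1)
  obtain ⟨u', hu'm, hu'v⟩ := (isReceptive_iff.1 hr).2 Q _ hu'
  have hMN : M ≤ nPhi S Q (autFun δ ∘ u) := fun g hg => by
    obtain ⟨k, hk, hkv⟩ := (mem_autInducedBy_iff S R _).1
      (hδv _ ⟨_, conjAut_mem_autInducedBy (hMQ hg).2 hg, rfl⟩)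
    refine ⟨(hMQ hg).1, (hMQ hg).2, k, hk, fun x hx => ?_⟩
    have h1 := hkv (δ (hu.equiv ⟨x, hx⟩))
    simp only [MulAut.mul_apply, MulAut.inv_apply_self, MulEquiv.coe_toMonoidHom] at h1
    show autFun δ (u (g * x * g⁻¹)) = k * autFun δ (u x) * k⁻¹
    have e1 : autFun δ (u (g * x * g⁻¹)) =
        (δ (MulAut.congr hu.equiv (conjAut Q (hMQ hg).2) (hu.equiv ⟨x, hx⟩)) : Ω) := by
      rw [← autFun_coe δ, hu.congr_apply]
      rfl
    rw [e1, h1, ← autFun_coe δ]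
    rfl
  have hQu : IsIso F Q R u' := hu'.congr fun x hx => (hu'v x hx).symm
  refine ⟨u', hu'm.mono hMN, hQu, hQu.isMap.mono hYQ, ?_⟩
  rw [Set.image_congr fun x (hx : x ∈ (Y : Set Ω)) => hu'v x (hYQ hx), Set.image_comp,
    hY.image_eq]
  ext z
  constructor
  · rintro ⟨w, hw, rfl⟩
    rw [autFun_apply δ (h.1 hw)]
    exact (hδ.2 ⟨w, h.1 hw⟩).2 hw
  · intro hz
    refine ⟨((δ⁻¹ ⟨z, h.1 hz⟩ : R) : Ω), ((sclStabAut R X).inv_mem hδ.2 ⟨z, h.1 hz⟩).2 hz, ?_⟩
    rw [autFun_coe, MulAut.apply_inv_self]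

/-! ### A class of subgroups below saturated ones -/

/-- `P₀` has largest normalizer, and all larger subgroups have a good representative. -/
structure Setup (F : FusionSystem S) (p : ℕ) (P₀ : Subgroup Ω) : Prop where
  pgroup : IsPGroup p S
  le : P₀ ≤ S
  ne : P₀ ≠ S
  fn : F.IsFullyNormalized P₀
  sat : ∀ P R : Subgroup Ω, F.IsConj P₀ P → P < R → R ≤ S →
    ∃ R', F.IsConj R R' ∧ F.IsFullyAutomized p R' ∧ F.IsReceptive R'

/-- `P` reaches `P₀` by a map defined on its whole normalizer. -/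
def Good (F : FusionSystem S) (P₀ P : Subgroup Ω) : Prop :=
  ∃ φ, IsMap F (normalizerIn S P) φ ∧ IsIso F P P₀ φ

omit [Fact p.Prime] in
theorem card_lt_card {A B : Subgroup Ω} (hB : B ≤ S) (h : A < B) : Nat.card A < Nat.card B := by
  have := finite_of_le hB
  exact lt_of_le_of_ne (Subgroup.card_le_of_le h.le)
    fun e => h.ne (Subgroup.eq_of_le_of_card_ge h.le e.ge)

variable {P₀ : Subgroup Ω}

theorem good_of_data (h : Setup F p P₀) :
    ∀ (d : ℕ) (P R : Subgroup Ω) (f : Ω → Ω), Nat.card S - Nat.card R = d → P < R →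
      R ≤ normalizerIn S P → IsMap F R f → IsIso F P P₀ f → Good F P₀ P := by
  intro d
  induction d using Nat.strong_induction_on with
  | _ d ih =>
  intro P R f hd hPR hRN hf hfP
  rcases eq_or_ne R (normalizerIn S P) with he | hne
  · exact ⟨f, he ▸ hf, hfP⟩
  have hNS : normalizerIn S P ≤ S := inf_le_left
  have hRS := hRN.trans hNS
  set Rp := normalizerIn (normalizerIn S P) R with hRp
  have := finite_of_le hNS
  have hlt : R < Rp := lt_normalizerIn (h.pgroup.to_le hNS) hRN hne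
  obtain ⟨R1, hR1⟩ := hf.exists_iso
  have hR1N : R1 ≤ normalizerIn S P₀ := fun y hy => by
    obtain ⟨x, hx, rfl⟩ := hR1.surj hy
    exact hf.mem_normalizerIn hPR.le hfP hx (hRN hx).2
  have hN0S : normalizerIn S P₀ ≤ S := inf_le_left
  have hR1ne : R1 ≠ normalizerIn S P₀ := fun e => by
    have h1 := h.fn.2 P (isConj_symm hfP.isConj)
    rw [← e, hR1.card_eq] at h1
    exact (card_lt_card hNS (lt_of_le_of_ne hRN hne)).not_ge h1
  set R1p := normalizerIn (normalizerIn S P₀) R1 with hR1p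
  have := finite_of_le hN0S
  have hlt1 : R1 < R1p := lt_normalizerIn (h.pgroup.to_le hN0S) hR1N hR1ne
  have hPc : Nat.card P₀ = Nat.card P := hfP.card_eq
  obtain ⟨Rs, hRs, hRa, hRr⟩ := h.sat P R (isConj_symm hfP.isConj) hPR hRS
  obtain ⟨k, hk⟩ := isConj_iff.1 hRs
  obtain ⟨X, hX⟩ := (hk.isMap.mono hPR.le).exists_iso
  obtain ⟨β, hβ, X', hX', hpl⟩ := exists_placed h.pgroup hRa (X := X) fun y hy => by
    obtain ⟨x, hx, rfl⟩ := hX.surj hy
    exact hk.mem (hPR.le hx)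
  have hu : IsIso F R Rs (autFun β ∘ k) := hk.comp ((mem_autGroup_iff hRa.1 β).1 hβ)
  have huP : IsIso F P X' (autFun β ∘ k) :=
    ⟨hu.isMap.mono hPR.le, by rw [Set.image_comp, hX.image_eq, hX']⟩
  obtain ⟨f', hf', hf'1, -⟩ := hR1.exists_symm
  have hP0R1 : P₀ ≤ R1 := fun y hy => by
    obtain ⟨x, hx, rfl⟩ := hfP.surj hy
    exact hR1.mem (hPR.le hx)
  have hf'P : IsIso F P₀ P f' := by
    refine ⟨hf'.isMap.mono hP0R1, ?_⟩
    rw [← hfP.image_eq, Set.image_image]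
    exact (Set.image_congr fun x hx => hf'1 x (hPR.le hx)).trans (Set.image_id _)
  obtain ⟨u', hu', -, hu'P⟩ := exists_ext h.pgroup hRr hpl hu hPR.le huP (M := Rp)
    (fun x hx => ⟨hNS hx.1, hx.2⟩) inf_le_left
  obtain ⟨w', hw', -, hw'P⟩ := exists_ext h.pgroup hRr hpl (hf'.comp hu) hP0R1 (hf'P.comp huP)
    (M := R1p) (fun x hx => ⟨hN0S hx.1, hx.2⟩) inf_le_left
  obtain ⟨B, hB⟩ := hw'.exists_iso
  obtain ⟨wi, hwi, hwi1, -⟩ := hB.exists_symm
  have hP0R1p : P₀ ≤ R1p := hP0R1.trans hlt1.le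
  have hX'B : X' < B := by
    refine lt_of_le_of_ne (fun y hy => ?_) fun e => ?_
    · obtain ⟨x, hx, rfl⟩ := hw'P.surj hy
      exact hB.mem (hP0R1p hx)
    · have h1 := hB.card_eq
      rw [show B = X' from e.symm, hw'P.card_eq] at h1
      have h2 : Nat.card P₀ < Nat.card R1p :=
        card_lt_card (inf_le_left.trans hN0S : R1p ≤ S) (lt_of_le_of_lt hP0R1 hlt1)
      omega
  have hBN : B ≤ normalizerIn S X' := fun y hy => by
    obtain ⟨x, hx, rfl⟩ := hB.surj hy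
    exact hw'.mem_normalizerIn hP0R1p hw'P hx (hx.1).2
  have hBS : B ≤ S := hBN.trans inf_le_left
  have hc : Nat.card R < Nat.card B := by
    rw [hB.card_eq, ← hR1.card_eq]
    exact card_lt_card (inf_le_left.trans hN0S) hlt1
  have hcB : Nat.card B ≤ Nat.card S := Subgroup.card_le_of_le hBS
  have hwiP : IsIso F X' P₀ wi := by
    refine ⟨hwi.isMap.mono hX'B.le, ?_⟩
    rw [← hw'P.image_eq, Set.image_image]
    exact (Set.image_congr fun x hx => hwi1 x (hP0R1p hx)).trans (Set.image_id _)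
  obtain ⟨φ, hφ, hφP⟩ := ih _ (by omega) X' B wi rfl hX'B hBN hwi.isMap hwiP
  have hPRp : P < Rp := hPR.trans hlt
  have hRpS : Rp ≤ S := inf_le_left.trans hNS
  have hmem : ∀ x ∈ Rp, u' x ∈ normalizerIn S X' := fun x hx =>
    hu'.mem_normalizerIn hPRp.le hu'P hx (hx.1).2
  have hc2 : Nat.card R < Nat.card Rp := card_lt_card hRpS hlt
  have hcR : Nat.card Rp ≤ Nat.card S := Subgroup.card_le_of_le hRpS
  exact ih _ (by omega) P Rp (φ ∘ u') rfl hPRp inf_le_left (hu'.comp hφ hmem) (hu'P.comp hφP)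

/-- A map extending beyond `P` preserves goodness. -/
theorem good_step (h : Setup F p P₀) {P P' R : Subgroup Ω} {f : Ω → Ω} (hPR : P < R)
    (hf : IsMap F R f) (hP' : IsIso F P P' f) : Good F P₀ P' → Good F P₀ P := by
  rintro ⟨φ, hφ, hφP⟩
  have := finite_of_le hf.le
  have hlt : P < normalizerIn R P := lt_normalizerIn (h.pgroup.to_le hf.le) hPR.le hPR.ne
  refine good_of_data h _ P _ (φ ∘ f) rfl hlt (inf_le_inf_right _ hf.le)
    (((hf.mono inf_le_left).comp hφ) fun x hx => ?_) (hP'.comp hφP)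
  exact hf.mem_normalizerIn hPR.le hP' hx.1 hx.2

theorem good_step_iff (h : Setup F p P₀) {P P' R : Subgroup Ω} {f : Ω → Ω} (hPR : P < R)
    (hf : IsMap F R f) (hP' : IsIso F P P' f) : Good F P₀ P ↔ Good F P₀ P' := by
  refine ⟨?_, good_step h hPR hf hP'⟩
  obtain ⟨R', hR'⟩ := hf.exists_iso
  obtain ⟨g, hg, hg1, -⟩ := hR'.exists_symm
  refine good_step h ?_ hg.isMap ⟨hg.isMap.mono ?_, ?_⟩
  · refine lt_of_le_of_ne (fun y hy => ?_) fun e => ?_
    · obtain ⟨x, hx, rfl⟩ := hP'.surj hy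
      exact hR'.mem (hPR.le hx)
    · have h1 := hR'.card_eq
      rw [← e, hP'.card_eq] at h1
      exact (card_lt_card hf.le hPR).ne h1
  · intro y hy
    obtain ⟨x, hx, rfl⟩ := hP'.surj hy
    exact hR'.mem (hPR.le hx)
  · rw [← hP'.image_eq, Set.image_image]
    exact (Set.image_congr fun x hx => hg1 x (hPR.le hx)).trans (Set.image_id _)

omit [Fact p.Prime] in
theorem ne_top (h : Setup F p P₀) {P : Subgroup Ω} (hP : F.IsConj P₀ P) : P ≠ S := by
  obtain ⟨f, hf⟩ := isConj_iff.1 hP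
  intro e
  exact h.ne (Subgroup.eq_of_le_of_card_ge h.le (by rw [← hf.card_eq, e]))

theorem conj_step (h : Setup F p P₀) {P P' : Subgroup Ω} {g : Ω} (hg : g ∈ S)
    (hP : F.IsConj P₀ P) (hP' : IsIso F P P' (fun x => g * x * g⁻¹)) :
    Good F P₀ P ↔ Good F P₀ P' :=
  good_step_iff h (lt_of_le_of_ne hP'.le_left (ne_top h hP)) (isMap_conj le_rfl hg) hP'

/-- Generation from a class not containing `P₀`. -/
def GeneratedBy (F : FusionSystem S) (ℋ : Set (Subgroup Ω)) : Prop :=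
  ∀ E : FusionSystem S, (∀ P ∈ ℋ, F.Hom P ⊆ E.Hom P) → F ≤ E

variable {ℋ : Set (Subgroup Ω)}

theorem isConj_range {P : Subgroup Ω} {φ : P →* Ω} (hφ : φ ∈ F.Hom P) (h : F.IsConj P₀ P) :
    F.IsConj P₀ φ.range :=
  isConj_trans h (isIso_homFun hφ).isConj

/-- Generation by the maps outside the class of `P₀` and a set of automorphisms on the class. -/
def GeneratedMod (F : FusionSystem S) (P₀ : Subgroup Ω) (G : ∀ P : Subgroup Ω, Set (MulAut P)) :
    Prop :=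
  ∀ E : FusionSystem S, (∀ P, ¬ F.IsConj P₀ P → F.Hom P ⊆ E.Hom P) →
    (∀ P, F.IsConj P₀ P → ∀ α ∈ G P, IsMap E P (autFun α)) → F ≤ E

variable {G : ∀ P : Subgroup Ω, Set (MulAut P)}

omit [Fact p.Prime] [Finite S] in
theorem generatedMod_of_generatedBy (hgen : GeneratedBy F ℋ) (hP₀ : ∀ R ∈ ℋ, ¬ F.IsConj P₀ R) :
    GeneratedMod F P₀ fun _ => ∅ :=
  fun E hE _ => hgen E fun R hR => hE R (hP₀ R hR)

omit [Fact p.Prime] [Finite S] in
theorem range_of_autFun {Q : Subgroup Ω} {φ : Q →* Ω} {α : MulAut Q}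
    (h : ∀ x ∈ Q, homFun φ x = autFun α x) : φ.range = Q := by
  ext y
  constructor
  · rintro ⟨x, rfl⟩
    rw [← homFun_coe φ x, h x x.2]
    exact autFun_mem α x.2
  · intro hy
    refine ⟨α⁻¹ ⟨y, hy⟩, ?_⟩
    rw [← homFun_coe φ, h _ (SetLike.coe_mem _), autFun_coe, MulAut.apply_inv_self]

omit [Fact p.Prime] [Finite S] in
/-- To show that the maps of `F` lie in a system, it suffices to treat the generators as maps. -/
theorem GeneratedMod.le (hgen : GeneratedMod F P₀ G) (hG : ∀ P, G P ⊆ (F.autGroup P : Set _))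
    (E : FusionSystem S) (h₁ : ∀ P, ¬ F.IsConj P₀ P → F.Hom P ⊆ E.Hom P)
    (h₂ : ∀ P, F.IsConj P₀ P → ∀ α ∈ G P, ∀ φ ∈ F.Hom P, (∀ x ∈ P, homFun φ x = autFun α x) →
      φ ∈ E.Hom P) : F ≤ E :=
  hgen E h₁ fun P hP α hα => by
    have hPS := (le_of_isConj hP).2
    obtain ⟨φ, hφ, hv⟩ := ((mem_autGroup_iff hPS α).1 (hG P hα)).isMap
    exact ⟨φ, h₂ P hP α hα φ hφ fun x hx => (homFun_apply φ hx).trans (hv ⟨x, hx⟩), hv⟩

theorem all_good' (h : Setup F p P₀) (hgen : GeneratedMod F P₀ G)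
    (hG : ∀ P, G P ⊆ (F.autGroup P : Set _)) {P : Subgroup Ω} (hP : F.IsConj P₀ P) :
    Good F P₀ P := by
  let E : FusionSystem S :=
    { Hom := fun Q => {φ | φ ∈ F.Hom Q ∧ (F.IsConj P₀ Q → (Good F P₀ Q ↔ Good F P₀ φ.range))}
      le_of_mem := fun hφ => F.le_of_mem hφ.1
      injective_of_mem := fun hφ => F.injective_of_mem hφ.1
      conj_mem := ?_
      comp_mem := ?_
      inv_mem := ?_ }
  · obtain ⟨φ, hφ, hr⟩ := hP
    have hE : φ ∈ E.Hom P₀ :=
      hgen.le hG E (fun R hR ψ hψ => ⟨hψ, fun hc => absurd hc hR⟩)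
        (fun R _ β _ ψ hψ hv => ⟨hψ, fun _ => by rw [range_of_autFun hv]⟩) P₀ hφ
    have := (hE.2 (isConj_refl h.le)).1 ⟨id, isMap_id inf_le_left, isIso_refl h.le⟩
    rwa [hr] at this
  · intro Q g hQ hg
    refine ⟨F.conj_mem hQ hg, fun hc => conj_step h hg hc ?_⟩
    have := isIso_homFun (F.conj_mem hQ hg)
    exact this.congr fun x hx => homFun_apply _ hx
  · rintro Q R φ ψ ⟨hφ, hφE⟩ ⟨hψ, hψE⟩ hm
    refine ⟨F.comp_mem hφ hψ hm, fun hc => ?_⟩
    set χ := ψ.comp (φ.codRestrict R hm) with hχ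
    have hcr := isConj_range hφ hc
    have hle : φ.range ≤ R := by
      rintro _ ⟨x, rfl⟩
      exact hm x
    have hiso : IsIso F φ.range χ.range (homFun ψ) := by
      refine ⟨(isMap_homFun hψ).mono hle, ?_⟩
      ext y
      constructor
      · rintro ⟨_, ⟨x, rfl⟩, rfl⟩
        exact ⟨x, by rw [homFun_apply ψ (hm x)]; rfl⟩
      · rintro ⟨x, rfl⟩
        exact ⟨φ x, ⟨x, rfl⟩, by rw [homFun_apply ψ (hm x)]; rfl⟩
    rw [hφE hc]
    rcases eq_or_ne φ.range R with e | e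
    · subst e
      rw [hψE hcr]
      have : ψ.range = χ.range := by
        apply SetLike.coe_injective
        rw [← image_homFun ψ, ← hiso.image_eq]
      rw [this]
    · exact good_step_iff h (lt_of_le_of_ne hle e) (isMap_homFun hψ) hiso
  · rintro Q φ ⟨hφ, hφE⟩
    obtain ⟨ψ, hψ, hψv⟩ := F.inv_mem hφ
    refine ⟨ψ, ⟨hψ, fun hc => ?_⟩, hψv⟩
    have hr : ψ.range = Q := by
      ext y
      constructor
      · rintro ⟨⟨_, x, rfl⟩, rfl⟩
        rw [hψv]
        exact x.2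
      · intro hy
        exact ⟨_, hψv ⟨y, hy⟩⟩
    rw [hr]
    exact (hφE (isConj_trans hc (isConj_symm (isIso_homFun hφ).isConj))).symm

theorem all_good (h : Setup F p P₀) (hgen : GeneratedBy F ℋ)
    (hP₀ : ∀ R ∈ ℋ, ¬ F.IsConj P₀ R) {P : Subgroup Ω} (hP : F.IsConj P₀ P) : Good F P₀ P :=
  all_good' h (generatedMod_of_generatedBy hgen hP₀) (fun _ => Set.empty_subset _) hP

theorem autGroup_le_closure' (h : Setup F p P₀) (hgen : GeneratedMod F P₀ G)
    (hG : ∀ P, G P ⊆ (F.autGroup P : Set _))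
    (hGt : ∀ {P P' : Subgroup Ω} {f : Ω → Ω} (hf : IsIso F P P' f), F.IsConj P₀ P →
      ∀ α ∈ G P, MulAut.congr hf.equiv α ∈ G P') :
    F.autGroup P₀ ≤ Subgroup.closure (extSet F P₀ ∪ G P₀) := by
  -- the closure property of witnesses
  have hone : ∀ {Q Q' R : Subgroup Ω} {f φ₁ φ₂ : Ω → Ω} (_ : Q < R) (_ : IsMap F R f)
      (_ : IsIso F Q Q' f) (_ : IsMap F (normalizerIn S Q) φ₁) (_ : IsIso F Q P₀ φ₁)
      (_ : IsMap F (normalizerIn S Q') φ₂) (_ : IsIso F Q' P₀ φ₂) (α : MulAut P₀),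
      (∀ x ∈ Q, autFun α (φ₁ x) = φ₂ (f x)) → α ∈ extSet F P₀ := by
    intro Q Q' R f φ₁ φ₂ hQR hf hfQ hφ₁ hφ₁Q hφ₂ hφ₂Q α hv
    have := finite_of_le hf.le
    have hlt : Q < normalizerIn R Q := lt_normalizerIn (h.pgroup.to_le hf.le) hQR.le hQR.ne
    have hle : normalizerIn R Q ≤ normalizerIn S Q := inf_le_inf_right _ hf.le
    obtain ⟨B, hB⟩ := (hφ₁.mono hle).exists_iso
    obtain ⟨r, hr, hr1, -⟩ := hB.exists_symm
    have hP0B : P₀ < B := by
      refine lt_of_le_of_ne (fun y hy => ?_) fun e => ?_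
      · obtain ⟨x, hx, rfl⟩ := hφ₁Q.surj hy
        exact hB.mem (hlt.le hx)
      · have h1 := hB.card_eq
        rw [← e, hφ₁Q.card_eq] at h1
        exact (card_lt_card (hle.trans inf_le_left) hlt).ne h1
    refine ⟨B, hP0B, φ₂ ∘ f ∘ r, (hr.isMap.comp (hf.mono inf_le_left) fun y hy => hr.mem hy).comp
      hφ₂ (fun y hy => hf.mem_normalizerIn hQR.le hfQ (hr.mem hy).1 (hr.mem hy).2), fun y => ?_⟩
    obtain ⟨x, hx, hxy⟩ := hφ₁Q.surj y.2
    show (α y : Ω) = φ₂ (f (r y))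
    rw [← autFun_coe α y, ← hxy, hr1 x (hlt.le hx), hv x hx]
  have hauto : ∀ Q, F.IsConj P₀ Q → ∀ β ∈ G Q, ∀ φ ∈ F.Hom Q,
      (∀ x ∈ Q, homFun φ x = autFun β x) → φ ∈ {φ | φ ∈ F.Hom Q ∧ (F.IsConj P₀ Q → ∀ φ₁ φ₂ : Ω → Ω,
        IsMap F (normalizerIn S Q) φ₁ → IsIso F Q P₀ φ₁ →
        IsMap F (normalizerIn S φ.range) φ₂ → IsIso F φ.range P₀ φ₂ →
        ∀ α ∈ F.autGroup P₀, (∀ x ∈ Q, autFun α (φ₁ x) = φ₂ (homFun φ x)) →
          α ∈ Subgroup.closure (extSet F P₀ ∪ G P₀))} := by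
    intro Q hQc β hβ φ hφ hv
    refine ⟨hφ, fun hc φ₁ φ₂ h1 h1' h2 h2' α hα hv' => ?_⟩
    rw [range_of_autFun hv] at h2 h2'
    have hQS := (le_of_isConj hc).2
    have hlt := lt_normalizerIn h.pgroup hQS (ne_top h hc)
    obtain ⟨r, hr, hr1, -⟩ := h1'.exists_symm
    obtain ⟨γ, hγ, hγv⟩ := exists_mem_autGroup (hr.comp h2')
    have hγe : γ ∈ extSet F P₀ := by
      refine hone (lt_of_le_of_ne hQS (ne_top h hc)) (isMap_id le_rfl) (isIso_refl hQS) h1 h1' h2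
        h2' γ fun x hx => ?_
      rw [autFun_apply γ (h1'.mem hx), hγv]
      show φ₂ (r (φ₁ x)) = φ₂ x
      rw [hr1 x hx]
    have hmem : γ * MulAut.congr h1'.equiv β ∈ Subgroup.closure (extSet F P₀ ∪ G P₀) :=
      Subgroup.mul_mem _ (Subgroup.subset_closure (Or.inl hγe))
        (Subgroup.subset_closure (Or.inr (hGt h1' hc β hβ)))
    suffices e : α = γ * MulAut.congr h1'.equiv β from e ▸ hmem
    refine MulEquiv.ext fun y => Subtype.ext ?_
    obtain ⟨⟨x, hx⟩, rfl⟩ := h1'.equiv.surjective y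
    rw [MulAut.mul_apply, hγv]
    show _ = φ₂ (r ((MulAut.congr h1'.equiv β) (h1'.equiv ⟨x, hx⟩) : Ω))
    rw [h1'.congr_apply, hr1 _ (SetLike.coe_mem _), ← autFun_coe α]
    show autFun α (φ₁ x) = _
    rw [hv' x hx, hv x hx, autFun_apply β hx]
  let E : FusionSystem S :=
    { Hom := fun Q => {φ | φ ∈ F.Hom Q ∧ (F.IsConj P₀ Q → ∀ φ₁ φ₂ : Ω → Ω,
        IsMap F (normalizerIn S Q) φ₁ → IsIso F Q P₀ φ₁ →
        IsMap F (normalizerIn S φ.range) φ₂ → IsIso F φ.range P₀ φ₂ →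
        ∀ α ∈ F.autGroup P₀, (∀ x ∈ Q, autFun α (φ₁ x) = φ₂ (homFun φ x)) →
          α ∈ Subgroup.closure (extSet F P₀ ∪ G P₀))}
      le_of_mem := fun hφ => F.le_of_mem hφ.1
      injective_of_mem := fun hφ => F.injective_of_mem hφ.1
      conj_mem := ?_
      comp_mem := ?_
      inv_mem := ?_ }
  · intro α hα
    have hiso := (mem_autGroup_iff h.le α).1 hα
    obtain ⟨φ, hφ, hv⟩ := hiso.isMap.exists_hom
    have hr : φ.range = P₀ := by
      apply SetLike.coe_injective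
      rw [← image_homFun φ]
      exact (Set.image_congr fun x hx => (homFun_apply φ hx).trans (hv ⟨x, hx⟩)).trans
        hiso.image_eq
    have hE : φ ∈ E.Hom P₀ :=
      hgen.le hG E (fun R hR ψ hψ => ⟨hψ, fun hc => absurd hc hR⟩) hauto P₀ hφ
    refine hE.2 (isConj_refl h.le) id id (isMap_id inf_le_left) (isIso_refl h.le)
      (isMap_id inf_le_left) (by rw [hr]; exact isIso_refl h.le) α hα fun x hx => ?_
    rw [id, id, homFun_apply φ hx, hv]
  · intro Q g hQ hg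
    refine ⟨F.conj_mem hQ hg, fun hc φ₁ φ₂ h1 h1' h2 h2' α _ hv => Subgroup.subset_closure <| Or.inl
      (hone (lt_of_le_of_ne hQ (ne_top h hc)) (isMap_conj le_rfl hg)
        ((isIso_homFun (F.conj_mem hQ hg)).congr fun x hx => homFun_apply _ hx) h1 h1' h2 h2' α
        fun x hx => ?_)⟩
    rw [hv x hx, homFun_apply _ hx]
    rfl
  · rintro Q R φ ψ ⟨hφ, hφE⟩ ⟨hψ, hψE⟩ hm
    refine ⟨F.comp_mem hφ hψ hm, fun hc φ₁ φ₂ h1 h1' h2 h2' α hα hv => ?_⟩
    set χ := ψ.comp (φ.codRestrict R hm) with hχ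
    have hcr := isConj_range hφ hc
    obtain ⟨w, hw, hw'⟩ := all_good' h hgen hG hcr
    obtain ⟨r, hr, hr1, -⟩ := h1'.exists_symm
    obtain ⟨α₁, hα₁, hα₁v⟩ := exists_mem_autGroup ((hr.comp (isIso_homFun hφ)).comp hw')
    have hα₁Q : ∀ x ∈ Q, autFun α₁ (φ₁ x) = w (homFun φ x) := fun x hx => by
      rw [autFun_apply α₁ (h1'.mem hx), hα₁v]
      show w (homFun φ (r (φ₁ x))) = _
      rw [hr1 x hx]
    have hA := hφE hc φ₁ w h1 h1' hw hw' α₁ hα₁ hα₁Q
    have hle : φ.range ≤ R := by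
      rintro _ ⟨x, rfl⟩
      exact hm x
    have hiso : IsIso F φ.range χ.range (homFun ψ) := by
      refine ⟨(isMap_homFun hψ).mono hle, ?_⟩
      ext y
      constructor
      · rintro ⟨_, ⟨x, rfl⟩, rfl⟩
        exact ⟨x, by rw [homFun_apply ψ (hm x)]; rfl⟩
      · rintro ⟨x, rfl⟩
        exact ⟨φ x, ⟨x, rfl⟩, by rw [homFun_apply ψ (hm x)]; rfl⟩
    have hB : ∀ y ∈ φ.range, autFun (α * α₁⁻¹) (w y) = φ₂ (homFun ψ y) := by
      rintro _ ⟨x, rfl⟩
      have h3 := hα₁Q x x.2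
      rw [homFun_coe] at h3
      have h4 := hv x x.2
      rw [homFun_apply χ x.2] at h4
      rw [← h3, autFun_apply α₁ (h1'.mem x.2), autFun_coe, homFun_apply ψ (hm x),
        show (α * α₁⁻¹) (α₁ ⟨φ₁ x, h1'.mem x.2⟩) = α ⟨φ₁ x, h1'.mem x.2⟩ by
          rw [MulAut.mul_apply, MulAut.inv_apply_self]]
      rw [autFun_apply α (h1'.mem x.2)] at h4
      exact h4
    have hmem : α * α₁⁻¹ ∈ F.autGroup P₀ :=
      (F.autGroup P₀).mul_mem hα ((F.autGroup P₀).inv_mem hα₁)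
    have hC : α * α₁⁻¹ ∈ Subgroup.closure (extSet F P₀ ∪ G P₀) := by
      rcases eq_or_ne φ.range R with e | e
      · subst e
        have hr2 : ψ.range = χ.range := by
          apply SetLike.coe_injective
          rw [← image_homFun ψ, ← hiso.image_eq]
        exact hψE hcr w φ₂ hw hw' (hr2.symm ▸ h2) (hr2.symm ▸ h2') _ hmem hB
      · exact Subgroup.subset_closure <| Or.inl
          (hone (lt_of_le_of_ne hle e) (isMap_homFun hψ) hiso hw hw' h2 h2' _ hB)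
    have := Subgroup.mul_mem _ hC hA
    rwa [inv_mul_cancel_right] at this
  · rintro Q φ ⟨hφ, hφE⟩
    obtain ⟨ψ, hψ, hψv⟩ := F.inv_mem hφ
    refine ⟨ψ, ⟨hψ, fun hc φ₁ φ₂ h1 h1' h2 h2' α hα hv => ?_⟩, hψv⟩
    have hr : ψ.range = Q := by
      ext y
      constructor
      · rintro ⟨⟨_, x, rfl⟩, rfl⟩
        rw [hψv]
        exact x.2
      · intro hy
        exact ⟨_, hψv ⟨y, hy⟩⟩
    rw [← inv_mem_iff]
    refine hφE (isConj_trans hc (isConj_symm (isIso_homFun hφ).isConj)) φ₂ φ₁ (hr ▸ h2) (hr ▸ h2')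
      h1 h1' _ ((F.autGroup P₀).inv_mem hα) fun x hx => ?_
    have h3 := hv (φ ⟨x, hx⟩) ⟨_, rfl⟩
    rw [homFun_apply ψ (show φ ⟨x, hx⟩ ∈ φ.range from ⟨_, rfl⟩), hψv] at h3
    rw [homFun_apply φ hx, ← h3, autFun_apply α (h1'.mem ⟨_, rfl⟩), autFun_coe,
      MulAut.inv_apply_self]

theorem autGroup_le_closure_extSet (h : Setup F p P₀) (hgen : GeneratedBy F ℋ)
    (hP₀ : ∀ R ∈ ℋ, ¬ F.IsConj P₀ R) :
    F.autGroup P₀ ≤ Subgroup.closure (extSet F P₀) :=
  (autGroup_le_closure' h (generatedMod_of_generatedBy hgen hP₀) (fun _ => Set.empty_subset _)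
    fun _ _ _ ha => ha.elim).trans (Subgroup.closure_mono (Set.union_empty _).subset)

/-! ### The subgroup inducing `O_p` -/

/-- The elements of `N_S(P₀)` inducing elements of `O_p(Aut_F(P₀))`. -/
noncomputable def coreNorm (F : FusionSystem S) (p : ℕ) (P : Subgroup Ω) : Subgroup Ω :=
  S ⊓ (((Cfsg.pCore p (F.autGroup P)).map (F.autGroup P).subtype).comap
    P.normalizerMonoidHom).map (Subgroup.normalizer (P : Set Ω)).subtype

omit [Fact p.Prime] [Finite S] in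
theorem mem_coreNorm {P : Subgroup Ω} {x : Ω} :
    x ∈ coreNorm F p P ↔ x ∈ S ∧ ∃ hn : x ∈ Subgroup.normalizer (P : Set Ω),
      conjAut P hn ∈ (Cfsg.pCore p (F.autGroup P)).map (F.autGroup P).subtype := by
  constructor
  · rintro ⟨hxS, y, hy, rfl⟩
    exact ⟨hxS, y.2, hy⟩
  · rintro ⟨hxS, hn, hc⟩
    exact ⟨hxS, ⟨x, hn⟩, hc, rfl⟩

omit [Fact p.Prime] [Finite S] in
theorem coreNorm_le_normalizerIn (P : Subgroup Ω) : coreNorm F p P ≤ normalizerIn S P :=
  fun x hx => by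
    obtain ⟨hxS, hn, -⟩ := mem_coreNorm.1 hx
    exact ⟨hxS, hn⟩

theorem le_coreNorm (hS : IsPGroup p S) {P : Subgroup Ω} (hP : P ≤ S) :
    P ≤ coreNorm F p P := by
  intro x hx
  refine mem_coreNorm.2 ⟨hP hx, Subgroup.le_normalizer hx, ?_⟩
  have hc : conjAut P (Subgroup.le_normalizer hx) ∈ Cfsg.Inn P :=
    (mem_inn_iff _).2 ⟨x, hx, fun _ => rfl⟩
  have hle := inn_le_autGroup (F := F) hP
  refine ⟨⟨_, hle hc⟩, ?_, rfl⟩
  have hp : IsPGroup p ((Cfsg.Inn P).subgroupOf (F.autGroup P)) := by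
    refine IsPGroup.of_equiv ?_ (Subgroup.subgroupOfEquivOfLe hle).symm
    rw [inn_eq_autInducedBy]
    exact isPGroup_autInducedBy (hS.to_le hP) P
  exact CfsgLib.Fitting.le_pCore (inn_subgroupOf_normal F P) hp hc

/-- Maps preserving `P` transport membership in `coreNorm`. -/
theorem map_mem_coreNorm {P Q M : Subgroup Ω} {g : Ω → Ω} (hg : IsMap F M g) (hPM : P ≤ M)
    (hgP : IsIso F P Q g) {x : Ω} (hx : x ∈ coreNorm F p P) (hxM : x ∈ M) :
    g x ∈ coreNorm F p Q := by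
  obtain ⟨-, hn, hc⟩ := mem_coreNorm.1 hx
  have hgn := hg.mem_normalizerIn hPM hgP hxM hn
  refine mem_coreNorm.2 ⟨hgn.1, hgn.2, ?_⟩
  convert congr_mem_pCore hgP hc using 1
  refine MulEquiv.ext fun y => Subtype.ext ?_
  obtain ⟨z, rfl⟩ := hgP.equiv.surjective y
  rw [hgP.congr_apply, conjAut_apply, conjAut_apply]
  exact (hg.map_conj hxM (hPM z.2)).symm

theorem normalizerIn_le_normalizer_coreNorm {P : Subgroup Ω} (hP : P ≤ S) :
    normalizerIn S P ≤ Subgroup.normalizer (coreNorm F p P : Set Ω) := fun g hg =>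
  mem_normalizer_of_conj_mem (fun x hx => (mem_coreNorm.1 hx).1) fun x hx => by
    refine map_mem_coreNorm (isMap_conj (F := F) le_rfl hg.1) hP ?_ hx
      (mem_coreNorm.1 hx).1
    refine ⟨isMap_conj hP hg.1, ?_⟩
    ext y
    constructor
    · rintro ⟨u, hu, rfl⟩
      exact conj_mem_of_mem_normalizer hg.2 hu
    · intro hy
      refine ⟨g⁻¹ * y * g⁻¹⁻¹, conj_mem_of_mem_normalizer (Subgroup.inv_mem _ hg.2) hy, ?_⟩
      group

/-- Every automorphism of `P₀` with a proper extension extends to `coreNorm`. -/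
theorem ext_coreNorm_of_ext (h : Setup F p P₀) (hgood : ∀ {P}, F.IsConj P₀ P → Good F P₀ P) :
    ∀ (d : ℕ) (R : Subgroup Ω) (f : Ω → Ω), Nat.card S - Nat.card R = d → P₀ < R →
      R ≤ normalizerIn S P₀ → IsMap F R f → IsIso F P₀ P₀ f →
      ∃ f', IsIso F (coreNorm F p P₀) (coreNorm F p P₀) f' ∧ ∀ x ∈ P₀, f' x = f x := by
  set N0 := coreNorm F p P₀ with hN0
  have hN0S : N0 ≤ S := fun x hx => (mem_coreNorm.1 hx).1
  have hP0N0 : P₀ ≤ N0 := le_coreNorm h.pgroup h.le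
  have := finite_of_le hN0S
  intro d
  induction d using Nat.strong_induction_on with
  | _ d ih =>
  intro R f hd hPR hRN hf hfP
  by_cases hN0R : N0 ≤ R
  · exact ⟨f, (hf.mono hN0R).isIso_of_card_le
      (fun x hx => map_mem_coreNorm hf hPR.le hfP hx (hN0R hx)) le_rfl, fun _ _ => rfl⟩
  have hNS : normalizerIn S P₀ ≤ S := inf_le_left
  have hRS := hRN.trans hNS
  have hRN0 : R ≤ Subgroup.normalizer (N0 : Set Ω) :=
    hRN.trans (normalizerIn_le_normalizer_coreNorm h.le)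
  have hsup : R ⊔ N0 ≤ normalizerIn S P₀ := sup_le hRN (coreNorm_le_normalizerIn P₀)
  set Rp := normalizerIn (R ⊔ N0) R with hRp
  have := finite_of_le (hsup.trans hNS)
  have hlt : R < Rp := lt_normalizerIn (h.pgroup.to_le (hsup.trans hNS)) le_sup_left
    fun e => hN0R (e.symm ▸ le_sup_right)
  obtain ⟨R1, hR1⟩ := hf.exists_iso
  have hR1N : R1 ≤ normalizerIn S P₀ := fun y hy => by
    obtain ⟨x, hx, rfl⟩ := hR1.surj hy
    exact hf.mem_normalizerIn hPR.le hfP hx (hRN hx).2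
  obtain ⟨f₁, hf₁, hf₁1, hf₁2⟩ := hR1.exists_symm
  have hP0R1 : P₀ ≤ R1 := fun y hy => by
    obtain ⟨x, hx, rfl⟩ := hfP.surj hy
    exact hR1.mem (hPR.le hx)
  have hf₁P : IsIso F P₀ P₀ f₁ := by
    refine ⟨hf₁.isMap.mono hP0R1, ?_⟩
    conv_lhs => rw [← hfP.image_eq]
    rw [Set.image_image]
    exact (Set.image_congr fun x hx => hf₁1 x (hPR.le hx)).trans (Set.image_id _)
  have hR1ne : R1 ≠ normalizerIn S P₀ := fun e => by
    refine hN0R fun x hx => ?_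
    have hle : N0 ≤ R1 := e ▸ coreNorm_le_normalizerIn P₀
    have hiso := (hf₁.isMap.mono hle).isIso_of_card_le
      (fun y hy => map_mem_coreNorm hf₁.isMap hP0R1 hf₁P hy (hle hy)) le_rfl
    obtain ⟨y, hy, rfl⟩ := hiso.surj hx
    exact hf₁.mem (hle hy)
  set R1p := normalizerIn (normalizerIn S P₀) R1 with hR1p
  have := finite_of_le hNS
  have hlt1 : R1 < R1p := lt_normalizerIn (h.pgroup.to_le hNS) hR1N hR1ne
  obtain ⟨Rs, hRs, hRa, hRr⟩ := h.sat P₀ R (isConj_refl h.le) hPR hRS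
  obtain ⟨k, hk⟩ := isConj_iff.1 hRs
  obtain ⟨X, hX⟩ := (hk.isMap.mono hPR.le).exists_iso
  obtain ⟨β, hβ, X', hX', hpl⟩ := exists_placed h.pgroup hRa (X := X) fun y hy => by
    obtain ⟨x, hx, rfl⟩ := hX.surj hy
    exact hk.mem (hPR.le hx)
  have hu : IsIso F R Rs (autFun β ∘ k) := hk.comp ((mem_autGroup_iff hRa.1 β).1 hβ)
  have huP : IsIso F P₀ X' (autFun β ∘ k) :=
    ⟨hu.isMap.mono hPR.le, by rw [Set.image_comp, hX.image_eq, hX']⟩
  obtain ⟨u', hu', hu'R, hu'P⟩ := exists_ext h.pgroup hRr hpl hu hPR.le huP (M := Rp)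
    (fun x hx => ⟨hNS (hsup hx.1), hx.2⟩) (fun x hx => hsup hx.1)
  obtain ⟨v', hv', hv'R, hv'P⟩ := exists_ext h.pgroup hRr hpl (hf₁.comp hu) hP0R1 (hf₁P.comp huP)
    (M := R1p) (fun x hx => ⟨hNS hx.1, hx.2⟩) inf_le_left
  obtain ⟨r, hr, hr1, -⟩ := hu'R.exists_symm
  obtain ⟨η, hη, hηv⟩ := exists_mem_autGroup ((hr.comp hR1).comp hv'R)
  have hRsS := hRa.1
  have := finite_of_le hRsS
  have := finite_mulAut Rs
  have hX'Rs : X' ≤ Rs := hpl.1
  have := finite_of_le (hX'Rs.trans hRsS)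
  have := finite_mulAut X'
  have hηst : η ∈ sclStabAut Rs X' := stab_iff hX'Rs fun z hz => by
    rw [hηv]
    obtain ⟨x, hx, hxe⟩ := hu'P.surj hz
    show v' (f (r z)) ∈ X'
    rw [← hxe, hr1 x (hPR.le hx)]
    exact hv'P.mem (hfP.mem hx)
  -- the stabiliser and its subgroup inducing `O_p`
  set G := stabF F Rs X' with hG
  let res : G →* MulAut X' := (resHom hX'Rs).comp (Subgroup.inclusion inf_le_right)
  have hres : ∀ (g : G) (z : X'), (res g z : Ω) = (g : MulAut Rs) ⟨z, hX'Rs z.2⟩ := fun g z => rfl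
  let res' : G →* F.autGroup X' := res.codRestrict _ fun g =>
    resHom_mem_autGroup hX'Rs hRsS _ g.2.1
  set K := (Cfsg.pCore p (F.autGroup X')).comap res' with hK
  haveI : K.Normal := (CfsgLib.Fitting.pCore_normal p).comap res'
  obtain ⟨D, hD⟩ := exists_placed_sylow h.pgroup hRsS hpl
  obtain ⟨SK, hSK⟩ := exists_sylow_inf D K
  have hfr := Sylow.normalizer_sup_eq_top SK
  have hηtop : (⟨η, hη, hηst⟩ : G) ∈
      Subgroup.normalizer (((SK : Subgroup K).map K.subtype : Subgroup G) : Set G) ⊔ K :=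
    hfr.symm ▸ Subgroup.mem_top _
  rw [sup_comm, Subgroup.mem_sup_of_normal_left] at hηtop
  obtain ⟨kk, hkk, n, hn, hkn⟩ := hηtop
  obtain ⟨dd, hddD, -, hddres⟩ := exists_eq_of_pImage res' D K
    ((CfsgLib.Fitting.pCore_isPGroup p).to_le (Subgroup.map_comap_le _ _)) hkk
  rw [hD, Subgroup.mem_subgroupOf] at hddD
  obtain ⟨y, hy, hyv⟩ := (mem_autInducedBy_iff S Rs _).1 hddD.1
  have hnRs : ∀ x ∈ Rp, u' x ∈ normalizerIn S Rs := fun x hx =>
    hu'.mem_normalizerIn hlt.le hu'R hx hx.2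
  have hnX : ∀ x ∈ Rp, u' x ∈ normalizerIn S X' := fun x hx =>
    hu'.mem_normalizerIn (hPR.le.trans hlt.le) hu'P hx (hsup hx.1).2
  -- `n` extends to `u'(Rp)`
  have hn' := (mem_autGroup_iff hRsS _).1 n.2.1
  obtain ⟨n', hn'm, hn'v⟩ := (isReceptive_iff.1 hRr).2 Rs _ hn'
  have hBn : ∀ x ∈ Rp, u' x ∈ nPhi S Rs (autFun (n : MulAut Rs)) := by
    intro x hx
    have hx1 : x ∈ ((R ⊔ N0 : Subgroup Ω) : Set Ω) := hx.1
    rw [Subgroup.coe_mul_of_left_le_normalizer_right _ _ hRN0] at hx1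
    obtain ⟨a, ha, b, hb, hab⟩ := hx1
    have hab' : a * b = x := hab
    have hbRp : b ∈ Rp := by
      rw [← inv_mul_cancel_left a b, hab']
      exact Rp.mul_mem (Rp.inv_mem (hlt.le ha)) hx
    rw [← hab', hu'.map_mul (hlt.le ha) hbRp]
    refine Subgroup.mul_mem _ (le_nPhi hn'.isMap (hu'R.mem ha)) ?_
    have hbn := hnRs b hbRp
    have hbX := hnX b hbRp
    have hcb : conjAut Rs hbn.2 ∈ stabF F Rs X' :=
      ⟨autInducedBy_le_autGroup hRsS (conjAut_mem_autInducedBy hbn.2 hbn.1),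
        stab_iff hX'Rs fun z hz => by
          rw [conjAut_apply]
          exact conj_mem_of_mem_normalizer hbX.2 hz⟩
    have hbK : (⟨_, hcb⟩ : G) ∈ K := by
      obtain ⟨-, hbnP, hbc⟩ := mem_coreNorm.1 hb
      obtain ⟨w, hw, hwe⟩ := congr_mem_pCore hu'P hbc
      show res' ⟨_, hcb⟩ ∈ Cfsg.pCore p (F.autGroup X')
      suffices e : res' ⟨_, hcb⟩ = w from e ▸ hw
      apply Subtype.ext
      apply MulEquiv.ext
      intro z
      apply Subtype.ext
      obtain ⟨z, rfl⟩ := hu'P.equiv.surjective z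
      show u' b * u' z * (u' b)⁻¹ = ((w : MulAut X') (hu'P.equiv z) : Ω)
      rw [show (w : MulAut X') = MulAut.congr hu'P.equiv (conjAut P₀ hbnP) from hwe,
        hu'P.congr_apply, conjAut_apply]
      exact (hu'.map_conj hbRp (hlt.le (hPR.le z.2))).symm
    have hbD : (⟨_, hcb⟩ : G) ∈ (SK : Subgroup K).map K.subtype := by
      refine ⟨⟨_, hbK⟩, ?_, rfl⟩
      rw [SetLike.mem_coe, hSK, Subgroup.mem_subgroupOf]
      show (⟨_, hcb⟩ : G) ∈ (D : Subgroup G)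
      rw [hD, Subgroup.mem_subgroupOf]
      exact ⟨conjAut_mem_autInducedBy hbn.2 hbn.1, hcb.2⟩
    obtain ⟨q, hq, hqe⟩ := (Subgroup.mem_normalizer_iff.1 hn _).1 hbD
    rw [SetLike.mem_coe, hSK, Subgroup.mem_subgroupOf, hD, Subgroup.mem_subgroupOf] at hq
    obtain ⟨s, hs, hsv⟩ := (mem_autInducedBy_iff S Rs _).1 hq.1
    refine ⟨hbn.1, hbn.2, s, hs, fun z hz => ?_⟩
    have h1 := hsv ((n : MulAut Rs) ⟨z, hz⟩)
    rw [autFun_apply _ (conj_mem_of_mem_normalizer hbn.2 hz), autFun_apply _ hz, ← h1]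
    have h2 : ((q : G) : MulAut Rs) = (n : MulAut Rs) * conjAut Rs hbn.2 * (n : MulAut Rs)⁻¹ :=
      congrArg Subtype.val hqe
    show _ = (((q : G) : MulAut Rs) ((n : MulAut Rs) ⟨z, hz⟩) : Ω)
    rw [h2, MulAut.mul_apply, MulAut.mul_apply, MulAut.inv_apply_self]
    rfl
  -- the two factors
  have hgm : IsMap F Rp ((fun z => y * z * y⁻¹) ∘ n' ∘ u') :=
    (hu'.comp hn'm hBn).comp (isMap_conj (P := S) le_rfl hy) fun x hx => hn'm.mem (hBn x hx)
  have hgX : ∀ x ∈ P₀, y * n' (u' x) * y⁻¹ = v' (f x) := by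
    intro x hx
    have hxR := hPR.le hx
    rw [hn'v _ (hu'R.mem hxR), autFun_apply _ (hu'R.mem hxR)]
    rw [← hyv ((n : MulAut Rs) ⟨u' x, hu'R.mem hxR⟩)]
    have hm : (((n : MulAut Rs) ⟨u' x, hu'R.mem hxR⟩ : Rs) : Ω) ∈ X' :=
      (n.2.2 _).2 (hu'P.mem hx)
    have h1 : res dd = res kk := congrArg Subtype.val hddres
    have h2 := congrArg (Subtype.val : X' → Ω) (DFunLike.congr_fun h1 ⟨_, hm⟩)
    rw [hres, hres] at h2
    refine h2.trans ?_
    show (((kk * n : G) : MulAut Rs) ⟨u' x, hu'R.mem hxR⟩ : Ω) = _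
    rw [hkn, hηv]
    show v' (f (r (u' x))) = _
    rw [hr1 x hxR]
  have hgP : IsIso F P₀ X' ((fun z => y * z * y⁻¹) ∘ n' ∘ u') :=
    ⟨hgm.mono (hPR.le.trans hlt.le),
      (Set.image_congr fun x hx => hgX x hx).trans (hfP.comp hv'P).image_eq⟩
  obtain ⟨φ, hφ, hφP⟩ := hgood hu'P.isConj
  have hP0p : P₀ < Rp := hPR.trans hlt
  have hP0p1 : P₀ < R1p := lt_of_le_of_lt hP0R1 hlt1
  have ha : IsMap F R1p (φ ∘ v') := hv'.comp hφ fun x hx =>
    hv'.mem_normalizerIn hP0p1.le hv'P hx (hx.1).2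
  have hb : IsMap F Rp (φ ∘ (fun z => y * z * y⁻¹) ∘ n' ∘ u') := hgm.comp hφ fun x hx =>
    hgm.mem_normalizerIn hP0p.le hgP hx (hsup hx.1).2
  have hRpS : Rp ≤ S := fun x hx => hNS (hsup hx.1)
  have hR1pS : R1p ≤ S := fun x hx => hNS hx.1
  have hc1 : Nat.card R < Nat.card Rp := card_lt_card hRpS hlt
  have hc2 : Nat.card R < Nat.card R1p := hR1.card_eq ▸ card_lt_card hR1pS hlt1
  have hc3 : Nat.card Rp ≤ Nat.card S := Subgroup.card_le_of_le hRpS
  have hc4 : Nat.card R1p ≤ Nat.card S := Subgroup.card_le_of_le hR1pS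
  obtain ⟨a', ha', ha'v⟩ := ih _ (by omega) R1p _ rfl hP0p1 inf_le_left ha (hv'P.comp hφP)
  obtain ⟨b', hb', hb'v⟩ := ih _ (by omega) Rp _ rfl hP0p (fun x hx => hsup hx.1) hb
    (hgP.comp hφP)
  obtain ⟨ai, hai, hai1, -⟩ := ha'.exists_symm
  refine ⟨ai ∘ b', hb'.comp hai, fun x hx => ?_⟩
  show ai (b' x) = f x
  rw [hb'v x hx]
  show ai (φ (y * n' (u' x) * y⁻¹)) = f x
  rw [hgX x hx, show φ (v' (f x)) = a' (f x) from (ha'v _ (hfP.mem hx)).symm]
  exact hai1 _ (hP0N0 (hfP.mem hx))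

theorem ext_coreNorm (h : Setup F p P₀) (hgen : GeneratedBy F ℋ)
    (hP₀ : ∀ R ∈ ℋ, ¬ F.IsConj P₀ R) {α : MulAut P₀} (hα : α ∈ F.autGroup P₀) :
    ∃ f, IsIso F (coreNorm F p P₀) (coreNorm F p P₀) f ∧ ∀ x : P₀, (α x : Ω) = f x := by
  have hN0S : coreNorm F p P₀ ≤ S := fun x hx => (mem_coreNorm.1 hx).1
  have hcl := autGroup_le_closure_extSet h hgen hP₀ hα
  clear hα
  induction hcl using Subgroup.closure_induction with
  | mem a ha =>
    obtain ⟨R, hPR, f, hf, hv⟩ := ha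
    have := finite_of_le hf.le
    have hlt : P₀ < normalizerIn R P₀ := lt_normalizerIn (h.pgroup.to_le hf.le) hPR.le hPR.ne
    have hfP : IsIso F P₀ P₀ f :=
      ((mem_autGroup_iff h.le a).1 (mem_autGroup_of_isMap (hf.mono hPR.le) a hv)).congr
        fun x hx => by rw [autFun_apply a hx, hv]
    obtain ⟨f', hf', hf'v⟩ := ext_coreNorm_of_ext h (fun hP => all_good h hgen hP₀ hP) _ _ f rfl
      hlt (inf_le_inf_right _ hf.le) (hf.mono inf_le_left) hfP
    exact ⟨f', hf', fun x => by rw [hv, hf'v x x.2]⟩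
  | one => exact ⟨id, isIso_refl hN0S, fun x => rfl⟩
  | mul a b _ _ iha ihb =>
    obtain ⟨f, hf, hfv⟩ := iha
    obtain ⟨g, hg, hgv⟩ := ihb
    exact ⟨f ∘ g, hg.comp hf, fun x => by
      rw [MulAut.mul_apply, hfv, hgv]; rfl⟩
  | inv a _ iha =>
    obtain ⟨f, hf, hfv⟩ := iha
    obtain ⟨g, hg, hg1, -⟩ := hf.exists_symm
    refine ⟨g, hg, fun x => ?_⟩
    have h1 := hfv (a⁻¹ x)
    rw [MulAut.apply_inv_self] at h1
    rw [h1, hg1 _ (le_coreNorm h.pgroup h.le (SetLike.coe_mem _))]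

theorem exists_good_rep (h : Setup F p P₀) (hgen : GeneratedBy F ℋ)
    (hP₀ : ∀ R ∈ ℋ, ¬ F.IsConj P₀ R) (hN0 : P₀ < coreNorm F p P₀) :
    ∃ Q, F.IsConj P₀ Q ∧ F.IsFullyAutomized p Q ∧ F.IsReceptive Q := by
  set N0 := coreNorm F p P₀ with hN0def
  have hS := h.pgroup
  have hN0S : N0 ≤ S := fun x hx => (mem_coreNorm.1 hx).1
  obtain ⟨Rs, hRs, hRa, hRr⟩ := h.sat P₀ N0 (isConj_refl h.le) hN0 hN0S
  obtain ⟨k, hk⟩ := isConj_iff.1 hRs
  obtain ⟨X, hX⟩ := (hk.isMap.mono hN0.le).exists_iso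
  obtain ⟨β, hβ, X', hX', hpl⟩ := exists_placed hS hRa (X := X) fun y hy => by
    obtain ⟨x, hx, rfl⟩ := hX.surj hy
    exact hk.mem (hN0.le hx)
  have hu₀ : IsIso F N0 Rs (autFun β ∘ k) := hk.comp ((mem_autGroup_iff hRa.1 β).1 hβ)
  have huP₀ : IsIso F P₀ X' (autFun β ∘ k) :=
    ⟨hu₀.isMap.mono hN0.le, by rw [Set.image_comp, hX.image_eq, hX']⟩
  obtain ⟨u, hu, huR, huP⟩ := exists_ext hS hRr hpl hu₀ hN0.le huP₀ (M := normalizerIn S P₀)
    (fun x hx => ⟨hx.1, normalizerIn_le_normalizer_coreNorm h.le hx⟩) le_rfl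
  have hX'Rs := hpl.1
  have hX'S : X' ≤ S := hX'Rs.trans hRa.1
  have hNN : ∀ z ∈ normalizerIn S X', z ∈ normalizerIn S Rs := by
    have hX'c : F.IsConj P₀ X' := huP.isConj
    have := finite_of_le (S := S) (P := normalizerIn S X') inf_le_left
    have hiso := hu.isIso_of_card_le (B := normalizerIn S X')
      (fun x hx => hu.mem_normalizerIn (le_normalizerIn h.le) huP hx hx.2) (h.fn.2 X' hX'c)
    intro z hz
    obtain ⟨x, hx, rfl⟩ := hiso.surj hz
    exact hu.mem_normalizerIn (coreNorm_le_normalizerIn P₀) huR hx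
      (normalizerIn_le_normalizer_coreNorm h.le hx)
  have := finite_of_le hRa.1
  have := finite_mulAut Rs
  have := finite_of_le hX'S
  have := finite_mulAut X'
  set G := stabF F Rs X' with hG
  let res : G →* MulAut X' := (resHom hX'Rs).comp (Subgroup.inclusion inf_le_right)
  have hres : ∀ (g : G) (z : X'), (res g z : Ω) = (g : MulAut Rs) ⟨z, hX'Rs z.2⟩ := fun g z => rfl
  -- lifting automorphisms of `X'`
  have hlift : ∀ α ∈ F.autGroup X', ∃ σ : G, res σ = α := by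
    intro α hα
    obtain ⟨f, hf, hfv⟩ := ext_coreNorm h hgen hP₀ (huP.congr_symm_mem_autGroup hα)
    obtain ⟨r, hr, hr1, -⟩ := huR.exists_symm
    obtain ⟨σ, hσ, hσv⟩ := exists_mem_autGroup ((hr.comp hf).comp huR)
    have hval : ∀ z : X', (σ ⟨z, hX'Rs z.2⟩ : Ω) = (α z : Ω) := fun z => by
      obtain ⟨x, rfl⟩ := huP.equiv.surjective z
      rw [hσv]
      show u (f (r (u x))) = _
      rw [hr1 x (hN0.le x.2), ← hfv, ← huP.congr_apply]
      simp
    refine ⟨⟨σ, hσ, stab_iff hX'Rs fun z hz => ?_⟩, MulEquiv.ext fun z => Subtype.ext ?_⟩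
    · rw [show z = ⟨((⟨z, hz⟩ : X') : Ω), hX'Rs hz⟩ from rfl, hval]
      exact SetLike.coe_mem _
    · rw [hres]
      exact hval z
  have hresind : ∀ g : G, (g : MulAut Rs) ∈ autInducedBy S Rs → res g ∈ autInducedBy S X' := by
    intro g hg
    obtain ⟨s, hs, hsv⟩ := (mem_autInducedBy_iff S Rs _).1 hg
    exact (mem_autInducedBy_iff S X' _).2 ⟨s, hs, fun z => by rw [hres, hsv]⟩
  obtain ⟨D, hD⟩ := exists_placed_sylow hS hRa.1 hpl
  refine ⟨X', huP.isConj, (isFullyAutomized_iff hS).2 ⟨hX'S, fun A hA hAp => ?_⟩,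
    isReceptive_iff.2 ⟨hX'S, fun P f hf => ?_⟩⟩
  · -- fully automized
    let g : A.comap res →* A := (res.comp (A.comap res).subtype).codRestrict A fun x => x.2
    have hg : Function.Surjective g := fun a => by
      obtain ⟨σ, hσ⟩ := hlift a (hA a.2)
      exact ⟨⟨σ, show res σ ∈ A by rw [hσ]; exact a.2⟩, Subtype.ext hσ⟩
    obtain ⟨Da⟩ : Nonempty (Sylow p (A.comap res)) := inferInstance
    obtain ⟨δ, hδ, hδv⟩ := hpl.2
      (((Da : Subgroup (A.comap res)).map (A.comap res).subtype).map G.subtype)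
      (Subgroup.map_subtype_le _) ((Da.isPGroup'.map _).map _)
    refine ⟨res ⟨δ, hδ⟩, resHom_mem_autGroup hX'Rs hRa.1 _ hδ.1, fun a ha => ?_⟩
    have htop : (Da.mapSurjective hg : Subgroup A) = ⊤ :=
      ((Da.mapSurjective hg).is_maximal' (hAp.of_equiv Subgroup.topEquiv.symm) le_top).symm
    have hmem : (⟨a, ha⟩ : A) ∈ (Da.mapSurjective hg : Subgroup A) := by
      rw [htop]; exact Subgroup.mem_top _
    rw [Sylow.coe_mapSurjective] at hmem
    obtain ⟨s, hs, hse⟩ := hmem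
    have hsa : res (s : G) = a := congrArg Subtype.val hse
    rw [← hsa, ← map_inv, ← map_mul, ← map_mul]
    exact hresind _ (hδv _ ⟨_, ⟨s, hs, rfl⟩, rfl⟩)
  · -- receptive
    have hfP : F.IsConj P₀ P := isConj_trans huP.isConj (isConj_symm hf.isConj)
    obtain ⟨φ, hφ, hφP⟩ := all_good h hgen hP₀ hfP
    have hφN : ∀ x ∈ normalizerIn S P, φ x ∈ normalizerIn S P₀ := fun x hx =>
      hφ.mem_normalizerIn (le_normalizerIn hf.le_left) hφP hx hx.2
    have hψ : IsMap F (normalizerIn S P) (u ∘ φ) := hφ.comp hu hφN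
    have hψP : IsIso F P X' (u ∘ φ) := hφP.comp huP
    have hψN : ∀ x ∈ normalizerIn S P, u (φ x) ∈ normalizerIn S X' := fun x hx =>
      hψ.mem_normalizerIn (le_normalizerIn hf.le_left) hψP hx hx.2
    obtain ⟨ri, hri, hri1, -⟩ := hψP.exists_symm
    obtain ⟨α, hα, hαv⟩ := exists_mem_autGroup (hri.comp hf)
    have hαP : ∀ x ∈ P, f x = autFun α (u (φ x)) := fun x hx => by
      show f x = autFun α ((u ∘ φ) x)
      rw [autFun_apply α (hψP.mem hx), hαv]
      show f x = f (ri ((u ∘ φ) x))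
      rw [hri1 x hx]
    obtain ⟨σ, hσ⟩ := hlift α hα
    set M := nPhi S P f
    have hMN : M ≤ normalizerIn S P := nPhi_le _ _
    have hMS : M ≤ S := nPhi_le_self _ _
    obtain ⟨B, hB⟩ := (hψ.mono hMN).exists_iso
    have hBRs : ∀ b ∈ B, b ∈ normalizerIn S Rs := fun b hb => by
      obtain ⟨x, hx, rfl⟩ := hB.surj hb
      exact hNN _ (hψN x (hMN hx))
    set L := (autInducedBy B Rs).map (MulAut.conj (σ : MulAut Rs)).toMonoidHom with hL
    have hLK : ∀ a ∈ L, ∃ hag : a ∈ G,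
        (⟨a, hag⟩ : G) ∈ res.ker ⊔ (D : Subgroup G) := by
      rintro _ ⟨c, hc, rfl⟩
      obtain ⟨b, hb, hbv⟩ := (mem_autInducedBy_iff B Rs c).1 hc
      obtain ⟨x, hx, rfl⟩ := hB.surj hb
      have hbX := hψN x (hMN hx)
      have hcG : c ∈ G := ⟨autInducedBy_le_autGroup hRa.1
        ((mem_autInducedBy_iff S Rs c).2 ⟨_, hbX.1, hbv⟩), stab_iff hX'Rs fun z hz => by
          rw [hbv]; exact conj_mem_of_mem_normalizer hbX.2 hz⟩
      refine ⟨G.mul_mem (G.mul_mem σ.2 hcG) (G.inv_mem σ.2), ?_⟩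
      obtain ⟨-, hxn, t, ht, htv⟩ := id hx
      have htX : t ∈ Subgroup.normalizer (X' : Set Ω) := mem_normalizer_of_conj_mem hX'S
        fun z hz => by
          obtain ⟨w, hw, rfl⟩ := hf.surj hz
          rw [← htv w hw]
          exact hf.mem (conj_mem_of_mem_normalizer hxn hw)
      have htRs := hNN t ⟨ht, htX⟩
      have hdG : conjAut Rs htRs.2 ∈ G := ⟨autInducedBy_le_autGroup hRa.1
        (conjAut_mem_autInducedBy htRs.2 ht), stab_iff hX'Rs fun z hz => by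
          rw [conjAut_apply]; exact conj_mem_of_mem_normalizer htX hz⟩
      have hdD : (⟨_, hdG⟩ : G) ∈ (D : Subgroup G) := by
        rw [hD, Subgroup.mem_subgroupOf]
        exact ⟨conjAut_mem_autInducedBy htRs.2 ht, hdG.2⟩
      have hsame : res ⟨(MulAut.conj (σ : MulAut Rs)).toMonoidHom c,
          G.mul_mem (G.mul_mem σ.2 hcG) (G.inv_mem σ.2)⟩ = res ⟨_, hdG⟩ := by
        rw [show (⟨(MulAut.conj (σ : MulAut Rs)).toMonoidHom c,
          G.mul_mem (G.mul_mem σ.2 hcG) (G.inv_mem σ.2)⟩ : G) = σ * ⟨c, hcG⟩ * σ⁻¹ from rfl,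
          map_mul, map_mul, map_inv, hσ]
        refine MulEquiv.ext fun z => Subtype.ext ?_
        obtain ⟨w, hw⟩ := α.surjective z
        subst hw
        obtain ⟨v, rfl⟩ := hψP.equiv.surjective w
        rw [MulAut.mul_apply, MulAut.mul_apply, MulAut.inv_apply_self, hres ⟨_, hdG⟩,
          conjAut_apply]
        show (α (res ⟨c, hcG⟩ (hψP.equiv v)) : Ω) = t * (α (hψP.equiv v) : Ω) * t⁻¹
        have h1 : (res ⟨c, hcG⟩ (hψP.equiv v) : Ω) = (u ∘ φ) (x * v * x⁻¹) := by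
          rw [hres]
          show (c ⟨_, _⟩ : Ω) = _
          rw [hbv, hψ.map_conj (hMN hx) (le_normalizerIn hf.le_left v.2)]
          rfl
        rw [← autFun_coe α (res ⟨c, hcG⟩ (hψP.equiv v)), h1, ← autFun_coe α (hψP.equiv v)]
        show autFun α (u (φ (x * v * x⁻¹))) = t * autFun α (u (φ v)) * t⁻¹
        rw [← hαP _ (conj_mem_of_mem_normalizer hxn v.2), ← hαP _ v.2]
        exact htv v v.2
      have hker : (⟨(MulAut.conj (σ : MulAut Rs)).toMonoidHom c,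
          G.mul_mem (G.mul_mem σ.2 hcG) (G.inv_mem σ.2)⟩ : G) * (⟨_, hdG⟩ : G)⁻¹ ∈ res.ker := by
        rw [MonoidHom.mem_ker, map_mul, map_inv, hsame, mul_inv_cancel]
      have := Subgroup.mul_mem_sup hker hdD
      rwa [inv_mul_cancel_right] at this
    set K2 : Subgroup G := res.ker ⊔ (D : Subgroup G) with hK2
    have hLG : L ≤ G := fun a ha => (hLK a ha).1
    have hLK2 : L.subgroupOf G ≤ K2 := fun a ha => (hLK a (Subgroup.mem_subgroupOf.1 ha)).2
    have hBS : B ≤ S := fun b hb => (hBRs b hb).1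
    obtain ⟨SL, hSL⟩ := ((((isPGroup_autInducedBy (hS.to_le hBS) Rs).map
      (MulAut.conj (σ : MulAut Rs)).toMonoidHom).of_equiv
        (Subgroup.subgroupOfEquivOfLe hLG).symm).of_equiv
        (Subgroup.subgroupOfEquivOfLe hLK2).symm).exists_le_sylow
    obtain ⟨e, he⟩ := MulAction.exists_smul_eq K2 SL (D.subtype le_sup_right : Sylow p K2)
    obtain ⟨κ, hκ, d, hd, hκd⟩ := (Subgroup.mem_sup_of_normal_left).1 e.2
    -- `e = κ * d`; replace `κ` by a kernel element on the other side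
    set κ' : G := d⁻¹ * κ * d with hκ'
    have hκ'ker : κ' ∈ res.ker := by
      have := (MonoidHom.normal_ker res).conj_mem κ hκ d⁻¹
      rwa [inv_inv] at this
    have hed : (e : G) = d * κ' := by rw [← hκd, hκ']; group
    set σ' : G := κ' * σ with hσ'
    have hσ'v : ∀ b : Ω, ∀ hb : b ∈ B, ∃ s ∈ S, ∀ z : Rs,
        (((σ' : MulAut Rs) * conjAut Rs (hBRs b hb).2 * (σ' : MulAut Rs)⁻¹) z : Ω) =
          s * z * s⁻¹ := by
      intro b hb
      have hbL : (MulAut.conj (σ : MulAut Rs)).toMonoidHom (conjAut Rs (hBRs b hb).2) ∈ L :=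
        ⟨_, conjAut_mem_autInducedBy (hBRs b hb).2 hb, rfl⟩
      set l : K2 := ⟨⟨_, hLG hbL⟩, hLK2 (Subgroup.mem_subgroupOf.2 hbL)⟩
      have hl : e * l * e⁻¹ ∈ ((D.subtype le_sup_right : Sylow p K2) : Subgroup K2) := by
        rw [← he, Sylow.coe_subgroup_smul, Subgroup.mem_pointwise_smul_iff_inv_smul_mem]
        simpa [mul_assoc] using hSL
          (Subgroup.mem_subgroupOf.2 (Subgroup.mem_subgroupOf.2 hbL) :
            l ∈ (L.subgroupOf G).subgroupOf K2)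
      rw [Sylow.coe_subtype, Subgroup.mem_subgroupOf] at hl
      have hl2 : κ' * (l : G) * κ'⁻¹ ∈ (D : Subgroup G) := by
        have := Subgroup.mul_mem (D : Subgroup G)
          (Subgroup.mul_mem _ (Subgroup.inv_mem _ hd) hl) hd
        convert this using 1
        show _ = d⁻¹ * ((e : G) * (l : G) * (e : G)⁻¹) * d
        rw [hed]
        group
      rw [hD, Subgroup.mem_subgroupOf] at hl2
      obtain ⟨s, hs, hsv⟩ := (mem_autInducedBy_iff S Rs _).1 hl2.1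
      refine ⟨s, hs, fun z => ?_⟩
      rw [← hsv]
      simp [hσ', l, mul_assoc]
    obtain ⟨g, hg, hgv⟩ := (isReceptive_iff.1 hRr).2 Rs _ ((mem_autGroup_iff hRa.1 _).1 σ'.2.1)
    have hBg : ∀ x ∈ M, u (φ x) ∈ nPhi S Rs (autFun (σ' : MulAut Rs)) := fun x hx => by
      obtain ⟨s, hs, hsv⟩ := hσ'v _ (hB.mem hx)
      refine ⟨(hBRs _ (hB.mem hx)).1, (hBRs _ (hB.mem hx)).2, s, hs, fun z hz => ?_⟩
      have h1 := hsv ((σ' : MulAut Rs) ⟨z, hz⟩)
      show autFun (σ' : MulAut Rs) ((u ∘ φ) x * z * ((u ∘ φ) x)⁻¹) = _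
      rw [autFun_apply _ (conj_mem_of_mem_normalizer (hBRs _ (hB.mem hx)).2 hz),
        autFun_apply _ hz, ← h1, MulAut.mul_apply, MulAut.mul_apply, MulAut.inv_apply_self]
      rfl
    refine ⟨g ∘ u ∘ φ, (hψ.mono hMN).comp hg hBg, fun x hx => ?_⟩
    show g (u (φ x)) = f x
    have hxX : u (φ x) ∈ X' := hψP.mem hx
    rw [hgv _ (hX'Rs hxX), hαP x hx, autFun_apply _ (hX'Rs hxX), autFun_apply α hxX]
    have hres' : res σ' = α := by
      rw [hσ', map_mul, MonoidHom.mem_ker.1 hκ'ker, one_mul, hσ]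
    rw [← hres', hres]

/-- A system generated by and saturated on `ℋ`, whose centric classes outside `ℋ` are never
radical, is saturated. -/
theorem isSaturated_of_family (hS : IsPGroup p S) (hconj : ∀ P ∈ ℋ, ∀ Q, F.IsConj P Q → Q ∈ ℋ)
    (hsat : ∀ P ∈ ℋ, ∃ Q, F.IsConj P Q ∧ F.IsFullyAutomized p Q ∧ F.IsReceptive Q)
    (hgen : GeneratedBy F ℋ)
    (hstar : ∀ P : Subgroup Ω, F.IsCentric P → P ∉ ℋ → ∃ Q, F.IsConj P Q ∧
      ¬ (autInducedBy S Q ⊓ (Cfsg.pCore p (F.autGroup Q)).map (F.autGroup Q).subtype ≤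
        Cfsg.Inn Q)) :
    F.IsSaturated p := by
  suffices H : ∀ (n : ℕ) (P : Subgroup Ω), P ≤ S → Nat.card S - Nat.card P = n →
      ∃ Q, F.IsConj P Q ∧ F.IsFullyAutomized p Q ∧ F.IsReceptive Q from
    fun P hP => H _ P hP rfl
  intro n
  induction n using Nat.strong_induction_on with
  | _ n ih =>
  intro P hPS hn
  by_cases hPH : P ∈ ℋ
  · exact hsat P hPH
  obtain ⟨P₀, hP₀c, hP₀⟩ := exists_isFullyNormalized (F := F) hPS
  have hnot : ∀ R ∈ ℋ, ¬ F.IsConj P₀ R := fun R hR hc =>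
    hPH (hconj R hR P (isConj_symm (isConj_trans hP₀c hc)))
  have hP₀H : P₀ ∉ ℋ := fun hm => hnot P₀ hm (isConj_refl hP₀.1)
  obtain ⟨f, hf⟩ := isConj_iff.1 hP₀c
  have hne : P₀ ≠ S := by
    intro e
    have hSc : F.IsCentric P₀ := by
      refine ⟨hP₀.1, fun Q hQ => ?_⟩
      obtain ⟨g, hg⟩ := isConj_iff.1 hQ
      rw [e] at hg
      rw [Subgroup.eq_of_le_of_card_ge hg.le_right hg.card_eq.ge]
      exact inf_le_left
    obtain ⟨Q, hQ, hQstar⟩ := hstar P₀ hSc hP₀H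
    obtain ⟨g, hg⟩ := isConj_iff.1 hQ
    rw [e] at hg
    have hQS : Q = S := Subgroup.eq_of_le_of_card_ge hg.le_right hg.card_eq.ge
    subst hQS
    exact hQstar (by rw [inn_eq_autInducedBy]; exact inf_le_left)
  have hset : Setup F p P₀ := by
    refine ⟨hS, hP₀.1, hne, hP₀, fun P' R hc hPR hR => ih _ ?_ R hR rfl⟩
    obtain ⟨g, hg⟩ := isConj_iff.1 hc
    have hcard : Nat.card P₀ < Nat.card R := hg.card_eq ▸ card_lt_card hR hPR
    have h1 : Nat.card R ≤ Nat.card S := Subgroup.card_le_of_le hR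
    have h2 := hf.card_eq
    omega
  have hgood : ∀ {Q}, F.IsConj P₀ Q → Good F P₀ Q := fun hQ => all_good hset hgen hnot hQ
  have hN0 : P₀ < coreNorm F p P₀ := by
    refine lt_of_le_of_ne (le_coreNorm hS hP₀.1) fun e => ?_
    obtain ⟨Q, x, hQ, hx, hxQ⟩ : ∃ Q x, F.IsConj P₀ Q ∧ x ∈ coreNorm F p Q ∧ x ∉ Q := by
      by_cases hc : F.IsCentric P₀
      · obtain ⟨Q, hQ, hQstar⟩ := hstar P₀ hc hP₀H
        obtain ⟨α, hα, hαI⟩ := SetLike.not_le_iff_exists.1 hQstar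
        obtain ⟨x, hxS, hxv⟩ := (mem_autInducedBy_iff S Q α).1 hα.1
        have hxn := (mem_normalizerIn_of_induces (le_of_isConj hQ).2 hxS hxv).2
        have heq : conjAut Q hxn = α :=
          MulEquiv.ext fun z => Subtype.ext ((conjAut_apply Q hxn z).trans (hxv z).symm)
        exact ⟨Q, x, hQ, mem_coreNorm.2 ⟨hxS, hxn, heq.symm ▸ hα.2⟩,
          fun hm => hαI ((mem_inn_iff α).2 ⟨x, hm, hxv⟩)⟩
      · obtain ⟨Q, hQ, hQc⟩ : ∃ Q, F.IsConj P₀ Q ∧ ¬ centralizerIn S Q ≤ Q := by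
          by_contra hcon
          push Not at hcon
          exact hc ⟨hP₀.1, hcon⟩
        obtain ⟨x, hx, hxQ⟩ := SetLike.not_le_iff_exists.1 hQc
        have hxn := (centralizerIn_le_normalizerIn S Q hx).2
        refine ⟨Q, x, hQ, mem_coreNorm.2 ⟨hx.1, hxn, ?_⟩, hxQ⟩
        rw [show conjAut Q hxn = 1 from MulEquiv.ext fun z => Subtype.ext (by
          rw [conjAut_apply, conj_eq_self_of_mem_centralizer hx.2 z.2]; rfl)]
        exact Subgroup.one_mem _
    obtain ⟨φ, hφ, hφQ⟩ := hgood hQ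
    have hxN := coreNorm_le_normalizerIn Q hx
    have hφx := map_mem_coreNorm hφ (le_normalizerIn hφQ.le_left) hφQ hx hxN
    rw [← e] at hφx
    obtain ⟨q, hq, hqe⟩ := hφQ.surj hφx
    exact hxQ (hφ.injOn (le_normalizerIn hφQ.le_left hq) hxN hqe ▸ hq)
  obtain ⟨Q, hQ, ha, hr⟩ := exists_good_rep hset hgen hnot hN0
  exact ⟨Q, isConj_trans hP₀c hQ, ha, hr⟩

end CfsgLib.Fusion.SatExtend
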