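import Mathlib
import Cfsg.Agent.Lib.Fusion.AgreeCentric
import Cfsg.Agent.Lib.Fusion.Alperin
import Cfsg.Agent.Lib.Fusion.Invariant
import Cfsg.Agent.Lib.Fusion.RadicalExt

/-!
Saturated subsystems on the same group and their maps on centric subgroups.
-/

set_option autoImplicit false

namespace CfsgLib.Fusion

open Cfsg Cfsg.FusionSystem

variable {Ω : Type*} [Group Ω] {S : Subgroup Ω} {F F' : FusionSystem S} {p : ℕ}
variable [Finite S] [Fact p.Prime]

/-- A map belongs to a saturated subsystem if its restriction to some centric subgroup does. -/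
theorem isMap_of_centric_restrict (hS : IsPGroup p S) (hF : F.IsSaturated p)
    (hF' : F'.IsSaturated p) (hle : F'.IsSubsystemOf F) {P : Subgroup Ω} {f : Ω → Ω}
    (hf : IsMap F P f) :
    ∀ (n : ℕ) (Q : Subgroup Ω), Nat.card P - Nat.card Q = n → Q ≤ P → F.IsCentric Q →
      IsMap F' Q f → IsMap F' P f := by
  intro n
  induction n using Nat.strong_induction_on with
  | _ n ih =>
  intro Q hn hQP hQ hfQ
  have hPS := hf.le
  have := finite_of_le hPS
  rcases eq_or_ne Q P with rfl | hne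
  · exact hfQ
  set N := P ⊓ Subgroup.normalizer (Q : Set Ω) with hNdef
  have hlt : Q < N := lt_normalizerIn (S := P) (hS.to_le hPS) hQP hne
  have hNP : N ≤ P := inf_le_left
  have := finite_of_le (S := P) (P := N) hNP
  obtain ⟨Q', hQ'⟩ := hfQ.exists_iso
  have hQ'c : F.IsCentric Q' := isCentric_of_isConj hQ (hQ'.of_subsystem hle).isConj
  have hrec := isReceptive_of_isFullyCentralized hS hF'
    (isFullyCentralized_of_isCentric (isCentric_of_subsystem hle hQ'c))
  obtain ⟨f', hf', hv⟩ := (isReceptive_iff.1 hrec).2 Q f hQ'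
  have hN : N ≤ nPhi S Q f := fun y hy => ⟨hPS hy.1, hy.2, f y, hf.mem hy.1, fun x hx =>
    hf.map_conj hy.1 (hQP hx)⟩
  obtain ⟨z, hz, -, hzv⟩ := exists_center_of_agree hS hF
    (isMap_of_subsystem hle (hf'.mono hN)) (hf.mono hNP) _ Q rfl hlt.le hQ hv
  have hzN : z ∈ N := hlt.le hz
  have hfN : IsMap F' N f :=
    ((isMap_conj (hNP.trans hPS) (hPS (hNP hzN))).comp (hf'.mono hN)
      fun y hy => N.mul_mem (N.mul_mem hzN hy) (N.inv_mem hzN)).congr fun y hy => (hzv y hy).symm
  have hc : Nat.card Q < Nat.card N := lt_of_le_of_ne (Subgroup.card_le_of_le hlt.le)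
    fun h => hlt.ne (Subgroup.eq_of_le_of_card_ge hlt.le h.ge)
  have hcP : Nat.card N ≤ Nat.card P := Subgroup.card_le_of_le hNP
  exact ih _ (by omega) N rfl hNP (isCentric_of_le hQ hlt.le (hNP.trans hPS)) hfN

/-- Saturated subsystems are equal when they agree on the minimal centric subgroups. -/
theorem le_of_minimal_centric (hS : IsPGroup p S) (hF : F.IsSaturated p)
    (hF' : F'.IsSaturated p) (hle : F'.IsSubsystemOf F)
    (hmin : ∀ Q : Subgroup Ω, F.IsCentric Q → (∀ R : Subgroup Ω, R < Q → ¬ F.IsCentric R) →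
      F.Hom Q = F'.Hom Q) : F ≤ F' := by
  refine le_of_autGroup_le' hS hF fun P hP α hα => ?_
  have hc : F.IsCentric P := by
    rcases hP with rfl | hess
    · refine ⟨le_rfl, fun Q hQ => ?_⟩
      obtain ⟨f, hf⟩ := isConj_iff.1 hQ
      rw [Subgroup.eq_of_le_of_card_ge hf.le_right hf.card_eq.ge]
      exact inf_le_left
    · exact hess.1
  have hmin' : ∀ (n : ℕ) (R : Subgroup Ω), Nat.card R = n → F.IsCentric R →
      ∃ Q ≤ R, F.IsCentric Q ∧ ∀ R' : Subgroup Ω, R' < Q → ¬ F.IsCentric R' := by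
    intro n
    induction n using Nat.strong_induction_on with
    | _ n ih =>
    intro R hn hR
    by_cases h : ∃ R', R' < R ∧ F.IsCentric R'
    · obtain ⟨R', hlt, hR'⟩ := h
      have := finite_of_le hR.1
      have hc : Nat.card R' < n := hn ▸ lt_of_le_of_ne (Subgroup.card_le_of_le hlt.le)
        fun e => hlt.ne (Subgroup.eq_of_le_of_card_ge hlt.le e.ge)
      obtain ⟨Q, hQ, hQc, hQm⟩ := ih _ hc R' rfl hR'
      exact ⟨Q, hQ.trans hlt.le, hQc, hQm⟩
    · push Not at h
      exact ⟨R, le_rfl, hR, h⟩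
  obtain ⟨Q, hQP, hQ, hQm⟩ := hmin' _ P rfl hc
  have hf := ((mem_autGroup_iff hc.1 α).1 hα).isMap
  obtain ⟨φ, hφ, hv⟩ := (hf.mono hQP).exists_hom
  rw [hmin Q hQ hQm] at hφ
  exact mem_autGroup_of_isMap
    (isMap_of_centric_restrict hS hF hF' hle hf _ Q rfl hQP hQ ⟨φ, hφ, hv⟩) α
    fun x => (autFun_coe α x).symm

end CfsgLib.Fusion
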