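import Mathlib
import Cfsg.Agent.Lib.Fusion.SaturationExtend
import Cfsg.Agent.Lib.Fusion.SubsystemAgree
import Cfsg.Agent.Lib.Fusion.StrongInvariance

/-!
Subsystems of index prime to `p`: generation by the automizers of centric subgroups, and the least
saturated one.
-/

set_option autoImplicit false

namespace CfsgLib.Fusion.PPrime

open Cfsg Cfsg.FusionSystem

variable {Ω : Type*} [Group Ω] {S : Subgroup Ω}

/-! ### Systems cut out by a predicate on maps -/

/-- The closure properties needed to cut a subsystem out of `F`. -/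
structure IsSubPred (F : FusionSystem S) (M : Subgroup Ω → (Ω → Ω) → Prop) : Prop where
  isMap : ∀ {P f}, M P f → IsMap F P f
  congr : ∀ {P f g}, M P f → (∀ x ∈ P, f x = g x) → M P g
  conj : ∀ {P : Subgroup Ω} {g : Ω}, P ≤ S → g ∈ S → M P fun x => g * x * g⁻¹
  comp : ∀ {P Q f g}, M P f → M Q g → (∀ x ∈ P, f x ∈ Q) → M P (g ∘ f)
  inv : ∀ {P Q f r}, M P f → IsIso F P Q f → IsIso F Q P r → (∀ x ∈ P, r (f x) = x) → M Q r

/-- The system cut out by `M`. -/
def ofPred (F : FusionSystem S) (M : Subgroup Ω → (Ω → Ω) → Prop) (h : IsSubPred F M) :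
    FusionSystem S where
  Hom P := {φ | φ ∈ F.Hom P ∧ M P (homFun φ)}
  le_of_mem hφ := F.le_of_mem hφ.1
  injective_of_mem hφ := F.injective_of_mem hφ.1
  conj_mem := by
    intro P g hP hg
    refine ⟨F.conj_mem hP hg, h.congr (h.conj hP hg) fun x hx => ?_⟩
    rw [homFun_apply _ hx]
    rfl
  comp_mem := by
    intro P Q φ ψ hφ hψ hm
    refine ⟨F.comp_mem hφ.1 hψ.1 hm, h.congr (h.comp hφ.2 hψ.2 fun x hx => ?_) fun x hx => ?_⟩
    · rw [homFun_apply φ hx]
      exact hm _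
    · show homFun ψ (homFun φ x) = _
      rw [homFun_apply φ hx, homFun_apply ψ (hm _), homFun_apply _ hx]
      rfl
  inv_mem := by
    intro P φ hφ
    obtain ⟨ψ, hψ, hv⟩ := F.inv_mem hφ.1
    have h1 : ∀ x ∈ P, homFun ψ (homFun φ x) = x := fun x hx => by
      have hm : φ ⟨x, hx⟩ ∈ φ.range := ⟨_, rfl⟩
      rw [homFun_apply φ hx, homFun_apply ψ hm]
      exact hv ⟨x, hx⟩
    refine ⟨ψ, ⟨hψ, h.inv hφ.2 (isIso_homFun hφ.1) ⟨isMap_homFun hψ, ?_⟩ h1⟩, hv⟩
    rw [← image_homFun φ, Set.image_image]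
    exact (Set.image_congr h1).trans (Set.image_id _)

variable {F : FusionSystem S} {M : Subgroup Ω → (Ω → Ω) → Prop}

theorem isMap_ofPred (h : IsSubPred F M) {P : Subgroup Ω} {f : Ω → Ω} :
    IsMap (ofPred F M h) P f ↔ M P f := by
  refine ⟨fun ⟨φ, hφ, hv⟩ => h.congr hφ.2 fun x hx => ?_, fun hM => ?_⟩
  · rw [homFun_apply φ hx]
    exact hv _
  · obtain ⟨φ, hφ, hv⟩ := h.isMap hM
    exact ⟨φ, ⟨hφ, h.congr hM fun x hx => by rw [homFun_apply φ hx]; exact (hv ⟨x, hx⟩).symm⟩, hv⟩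

theorem ofPred_le (h : IsSubPred F M) : (ofPred F M h).IsSubsystemOf F := fun _ _ hφ => hφ.1

/-- Meet of `F` with all members of a class of systems. -/
def Meet (F : FusionSystem S) (C : FusionSystem S → Prop) (P : Subgroup Ω) (f : Ω → Ω) : Prop :=
  IsMap F P f ∧ ∀ E, C E → IsMap E P f

theorem isSubPred_meet (F : FusionSystem S) (C : FusionSystem S → Prop) :
    IsSubPred F (Meet F C) where
  isMap h := h.1
  congr h he := ⟨h.1.congr he, fun E hE => (h.2 E hE).congr he⟩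
  conj hP hg := ⟨isMap_conj hP hg, fun E _ => isMap_conj hP hg⟩
  comp hf hg hm := ⟨hf.1.comp hg.1 hm, fun E hE => (hf.2 E hE).comp (hg.2 E hE) hm⟩
  inv hf hi hr h1 := by
    refine ⟨hr.isMap, fun E hE => ?_⟩
    obtain ⟨r', hr', hr'1, -⟩ := IsIso.exists_symm ⟨hf.2 E hE, hi.image_eq⟩
    refine hr'.isMap.congr fun y hy => ?_
    obtain ⟨x, hx, rfl⟩ := hi.surj hy
    rw [hr'1 x hx, h1 x hx]

/-- The intersection of `F` with all members of `C`. -/
def meet (F : FusionSystem S) (C : FusionSystem S → Prop) : FusionSystem S :=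
  ofPred F (Meet F C) (isSubPred_meet F C)

theorem isMap_meet {C : FusionSystem S → Prop} {P : Subgroup Ω} {f : Ω → Ω} :
    IsMap (meet F C) P f ↔ IsMap F P f ∧ ∀ E, C E → IsMap E P f :=
  isMap_ofPred _

theorem meet_subsystem {C : FusionSystem S → Prop} : (meet F C).IsSubsystemOf F := ofPred_le _

theorem meet_le {C : FusionSystem S → Prop} {E : FusionSystem S} (hE : C E) :
    (meet F C).IsSubsystemOf E :=
  fun _ φ hφ => (mem_hom_iff φ).2 ((isMap_meet.1 (isMap_homFun hφ)).2 E hE)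

theorem mem_autGroup_meet {C : FusionSystem S → Prop} {P : Subgroup Ω} (hP : P ≤ S)
    {α : MulAut P} (h : α ∈ F.autGroup P) (hC : ∀ E, C E → α ∈ E.autGroup P) :
    α ∈ (meet F C).autGroup P :=
  mem_autGroup_of_isMap (isMap_meet.2 ⟨((mem_autGroup_iff hP α).1 h).isMap,
    fun E hE => ((mem_autGroup_iff hP α).1 (hC E hE)).isMap⟩) α fun x => (autFun_coe α x).symm

/-! ### Transport by an automorphism of `S` -/

theorem autFun_inv_autFun (a : MulAut S) {x : Ω} (hx : x ∈ S) :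
    autFun a⁻¹ (autFun a x) = x := by
  rw [autFun_apply a hx, autFun_coe, MulAut.inv_apply_self]

theorem autFun_autFun_inv (a : MulAut S) {x : Ω} (hx : x ∈ S) :
    autFun a (autFun a⁻¹ x) = x := by
  rw [autFun_apply a⁻¹ hx, autFun_coe, MulAut.apply_inv_self]

theorem isMap_autFun {a : MulAut S} (ha : a ∈ F.autGroup S) {P : Subgroup Ω} (hP : P ≤ S) :
    IsMap F P (autFun a) :=
  ((mem_autGroup_iff le_rfl a).1 ha).isMap.mono hP

theorem isIso_imageAut {a : MulAut S} (ha : a ∈ F.autGroup S) {P : Subgroup Ω} (hP : P ≤ S) :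
    IsIso F P (imageAut a P) (autFun a) :=
  ⟨isMap_autFun ha hP, coe_imageAut a hP⟩

/-- `a⁻¹ f a` is a map of `E`. -/
def Conjd (F E : FusionSystem S) (a : MulAut S) (P : Subgroup Ω) (f : Ω → Ω) : Prop :=
  IsMap F P f ∧ IsMap E (imageAut a⁻¹ P) (autFun a⁻¹ ∘ f ∘ autFun a)

theorem mem_imageAut_inv (a : MulAut S) {P : Subgroup Ω} {x : Ω} (hx : x ∈ imageAut a⁻¹ P) :
    x ∈ S ∧ autFun a x ∈ P := by
  have hxS := imageAut_le _ _ hx
  refine ⟨hxS, ?_⟩
  rw [← autFun_inv_autFun a hxS] at hx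
  exact (imageAut_inv_imageAut a⁻¹ (autFun_mem a hxS)).1 hx

theorem autFun_map_mul (a : MulAut S) {x y : Ω} (hx : x ∈ S) (hy : y ∈ S) :
    autFun a (x * y) = autFun a x * autFun a y := by
  rw [autFun_apply a (S.mul_mem hx hy), autFun_apply a hx, autFun_apply a hy, ← Subgroup.coe_mul,
    ← map_mul]
  rfl

theorem autFun_map_inv (a : MulAut S) {x : Ω} (hx : x ∈ S) :
    autFun a x⁻¹ = (autFun a x)⁻¹ := by
  rw [autFun_apply a (S.inv_mem hx), autFun_apply a hx, ← Subgroup.coe_inv, ← map_inv]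
  rfl

theorem isSubPred_conjd {E : FusionSystem S} (a : MulAut S) : IsSubPred F (Conjd F E a) where
  isMap h := h.1
  congr := fun {P f g} h he => ⟨h.1.congr he, h.2.congr fun x hx => by
    show autFun a⁻¹ (f (autFun a x)) = autFun a⁻¹ (g (autFun a x))
    rw [he _ (mem_imageAut_inv a hx).2]⟩
  conj := fun {P g} hP hg => by
    refine ⟨isMap_conj hP hg, (isMap_conj (imageAut_le _ _) (autFun_mem a⁻¹ hg)).congr fun x hx => ?_⟩
    have h1 := (mem_imageAut_inv a hx).1
    show _ = autFun a⁻¹ (g * autFun a x * g⁻¹)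
    rw [autFun_map_mul a⁻¹ (S.mul_mem hg (autFun_mem a h1)) (S.inv_mem hg),
      autFun_map_mul a⁻¹ hg (autFun_mem a h1), autFun_map_inv a⁻¹ hg, autFun_inv_autFun a h1]
  comp := fun {P Q f g} hf hg hm => by
    refine ⟨hf.1.comp hg.1 hm, (hf.2.comp hg.2 fun x hx => ?_).congr fun x hx => ?_⟩
    · exact mem_imageAut _ (hm _ (mem_imageAut_inv a hx).2) (hf.1.mem (mem_imageAut_inv a hx).2)
    · show autFun a⁻¹ (g (autFun a (autFun a⁻¹ (f (autFun a x))))) = _
      rw [autFun_autFun_inv a (hf.1.mem (mem_imageAut_inv a hx).2)]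
      rfl
  inv := fun {P Q f r} hf hi hr h1 => by
    refine ⟨hr.isMap, ?_⟩
    have him : (autFun a⁻¹ ∘ f ∘ autFun a) '' (imageAut a⁻¹ P : Set Ω) = imageAut a⁻¹ Q := by
      rw [← coe_imageAut a⁻¹ hi.le_left, ← coe_imageAut a⁻¹ hi.le_right, Set.image_image,
        ← hi.image_eq, Set.image_image]
      exact Set.image_congr fun x hx => by
        show autFun a⁻¹ (f (autFun a (autFun a⁻¹ x))) = _
        rw [autFun_autFun_inv a (hi.le_left hx)]
    obtain ⟨r', hr', hr'1, -⟩ := IsIso.exists_symm ⟨hf.2, him⟩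
    refine hr'.isMap.congr fun y hy => ?_
    obtain ⟨hyS, hyQ⟩ := mem_imageAut_inv a hy
    obtain ⟨x, hx, hxe⟩ := hi.surj hyQ
    have hx' := mem_imageAut a⁻¹ hx (hi.le_left hx)
    have h2 := hr'1 _ hx'
    rw [show (autFun a⁻¹ ∘ f ∘ autFun a) (autFun a⁻¹ x) = y by
      show autFun a⁻¹ (f (autFun a (autFun a⁻¹ x))) = y
      rw [autFun_autFun_inv a (hi.le_left hx), hxe, autFun_inv_autFun a hyS]] at h2
    show r' y = autFun a⁻¹ (r (autFun a y))
    rw [h2, ← hxe, h1 x hx]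

/-! ### Index prime to `p` -/

variable {p : ℕ}

/-- `O^{p'}(Aut_F(P))`, among the automorphisms of `P`. -/
def opc (F : FusionSystem S) (p : ℕ) (P : Subgroup Ω) : Subgroup (MulAut P) :=
  (Subgroup.closure {α : F.autGroup P | ∃ k : ℕ, orderOf α = p ^ k}).map (F.autGroup P).subtype

theorem opc_le (P : Subgroup Ω) : opc F p P ≤ F.autGroup P := Subgroup.map_subtype_le _

theorem opc_eq (P : Subgroup Ω) :
    opc F p P = Subgroup.closure {α | α ∈ F.autGroup P ∧ ∃ k : ℕ, orderOf α = p ^ k} := by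
  rw [opc, MonoidHom.map_closure]
  congr 1
  ext α
  constructor
  · rintro ⟨b, ⟨k, hk⟩, rfl⟩
    exact ⟨b.2, k, by rw [Subgroup.coe_subtype, Subgroup.orderOf_coe, hk]⟩
  · rintro ⟨hα, k, hk⟩
    exact ⟨⟨α, hα⟩, ⟨k, by rw [← Subgroup.orderOf_coe, hk]⟩, rfl⟩

theorem le_opc [Fact p.Prime] {P : Subgroup Ω} {A : Subgroup (MulAut P)} (hA : A ≤ F.autGroup P)
    (hp : IsPGroup p A) : A ≤ opc F p P := fun α hα => by
  rw [opc_eq]
  refine Subgroup.subset_closure ⟨hA hα, ?_⟩
  obtain ⟨k, hk⟩ := (IsPGroup.iff_orderOf.1 hp) ⟨α, hα⟩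
  exact ⟨k, by rw [← hk, ← Subgroup.orderOf_coe]⟩

theorem congr_mem_opc {P Q : Subgroup Ω} {f : Ω → Ω} (hf : IsIso F P Q f) {α : MulAut P}
    (hα : α ∈ opc F p P) : MulAut.congr hf.equiv α ∈ opc F p Q := by
  rw [opc_eq] at hα ⊢
  induction hα using Subgroup.closure_induction with
  | mem a ha =>
    obtain ⟨haF, k, hk⟩ := ha
    exact Subgroup.subset_closure ⟨hf.congr_mem_autGroup haF, k, by
      rw [MulEquiv.orderOf_eq, hk]⟩
  | one => rw [map_one]; exact Subgroup.one_mem _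
  | mul a b _ _ ha hb => rw [map_mul]; exact Subgroup.mul_mem _ ha hb
  | inv a _ ha => rw [map_inv]; exact Subgroup.inv_mem _ ha

theorem opc_normal {P : Subgroup Ω} (hP : P ≤ S) {n α : MulAut P} (hn : n ∈ F.autGroup P)
    (hα : α ∈ opc F p P) : n * α * n⁻¹ ∈ opc F p P := by
  rw [opc_eq] at hα ⊢
  induction hα using Subgroup.closure_induction with
  | mem a ha =>
    obtain ⟨haF, k, hk⟩ := ha
    refine Subgroup.subset_closure
      ⟨(F.autGroup P).mul_mem ((F.autGroup P).mul_mem hn haF) ((F.autGroup P).inv_mem hn), k, ?_⟩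
    rw [← hk]
    exact (MulEquiv.orderOf_eq (MulAut.conj n) a)
  | one => simp
  | mul a b _ _ ha hb =>
    rw [show n * (a * b) * n⁻¹ = (n * a * n⁻¹) * (n * b * n⁻¹) by group]
    exact Subgroup.mul_mem _ ha hb
  | inv a _ ha =>
    rw [show n * a⁻¹ * n⁻¹ = (n * a * n⁻¹)⁻¹ by group]
    exact Subgroup.inv_mem _ ha

/-- The automizers of centric subgroups in `E` contain `O^{p'}`. -/
def Covers (F : FusionSystem S) (p : ℕ) (E : FusionSystem S) : Prop :=
  ∀ P : Subgroup Ω, F.IsCentric P → opc F p P ≤ E.autGroup P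

/-- Covering, and closed under extension from centric subgroups to `S`. -/
def Closed (F : FusionSystem S) (p : ℕ) (E : FusionSystem S) : Prop :=
  Covers F p E ∧ ∀ a ∈ F.autGroup S, ∀ P : Subgroup Ω, F.IsCentric P →
    IsMap E P (autFun a) → a ∈ E.autGroup S

theorem covers_conjd {E : FusionSystem S} (hE : E.IsSubsystemOf F) (hC : Covers F p E)
    {a : MulAut S} (ha : a ∈ F.autGroup S) :
    Covers F p (ofPred F _ (isSubPred_conjd (E := E) a)) := by
  intro P hP α hα
  have hai := (F.autGroup S).inv_mem ha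
  have hi := isIso_imageAut hai hP.1
  have hc : F.IsCentric (imageAut a⁻¹ P) := isCentric_of_isConj hP hi.isConj
  have h := (mem_autGroup_iff hc.1 _).1 (hC _ hc (congr_mem_opc hi hα))
  refine mem_autGroup_of_isMap ((isMap_ofPred _).2
    ⟨((mem_autGroup_iff hP.1 α).1 (opc_le _ hα)).isMap, h.isMap.congr fun y hy => ?_⟩) α
      fun x => (autFun_coe α x).symm
  obtain ⟨x, hx, rfl⟩ := hi.surj hy
  show _ = autFun a⁻¹ (autFun α (autFun a (autFun a⁻¹ x)))
  rw [autFun_autFun_inv a (hP.1 hx), autFun_apply α hx, autFun_apply _ hy]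
  exact hi.congr_apply α ⟨x, hx⟩

theorem closed_conjd {E : FusionSystem S} (hE : E.IsSubsystemOf F) (hC : Closed F p E)
    {a : MulAut S} (ha : a ∈ F.autGroup S) :
    Closed F p (ofPred F _ (isSubPred_conjd (E := E) a)) := by
  refine ⟨covers_conjd hE hC.1 ha, fun b hb P hP hbP => ?_⟩
  have hai := (F.autGroup S).inv_mem ha
  have hc : F.IsCentric (imageAut a⁻¹ P) :=
    isCentric_of_isConj hP (isIso_imageAut hai hP.1).isConj
  have hval : ∀ x ∈ S, autFun (a⁻¹ * b * a) x = (autFun a⁻¹ ∘ autFun b ∘ autFun a) x :=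
    fun x hx => by
      rw [autFun_mul _ _ hx, autFun_mul _ _ (autFun_mem a hx)]
      rfl
  have h := hC.2 _ ((F.autGroup S).mul_mem ((F.autGroup S).mul_mem hai hb) ha) _ hc
    (((isMap_ofPred _).1 hbP).2.congr fun x hx => (hval x (mem_imageAut_inv a hx).1).symm)
  refine mem_autGroup_of_isMap ((isMap_ofPred _).2 ⟨((mem_autGroup_iff le_rfl b).1 hb).isMap,
    ?_⟩) b fun x => (autFun_coe b x).symm
  exact (((mem_autGroup_iff le_rfl _).1 h).isMap.mono (imageAut_le _ _)).congr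
    fun x hx => hval x (mem_imageAut_inv a hx).1

/-- The least covering system. -/
def E1 (F : FusionSystem S) (p : ℕ) : FusionSystem S := meet F (Covers F p)

/-- The least closed system. -/
def E0 (F : FusionSystem S) (p : ℕ) : FusionSystem S := meet F (Closed F p)

theorem covers_meet {C : FusionSystem S → Prop} (hC : ∀ E, C E → Covers F p E) :
    Covers F p (meet F C) :=
  fun P hP _ hα => mem_autGroup_meet hP.1 (opc_le P hα) fun E hE => hC E hE P hP hα

theorem covers_E1 : Covers F p (E1 F p) := covers_meet fun _ h => h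

theorem closed_meet {C : FusionSystem S → Prop} (hC : ∀ E, C E → Closed F p E) :
    Closed F p (meet F C) :=
  ⟨covers_meet fun E hE => (hC E hE).1, fun a ha P hP h => mem_autGroup_meet le_rfl ha
    fun E hE => (hC E hE).2 a ha P hP ((isMap_meet.1 h).2 E hE)⟩

theorem closed_E0 : Closed F p (E0 F p) := closed_meet fun _ h => h

/-- Invariance of `E` under `Aut_F(S)`. -/
def AutInv (F E : FusionSystem S) : Prop :=
  ∀ a ∈ F.autGroup S, ∀ (P : Subgroup Ω) (f : Ω → Ω), IsMap E P f →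
    IsMap E (imageAut a⁻¹ P) (autFun a⁻¹ ∘ f ∘ autFun a)

theorem autInv_E1 : AutInv F (E1 F p) := fun _ ha _ _ hf =>
  ((isMap_ofPred _).1 ((isMap_meet.1 hf).2 _ (covers_conjd meet_subsystem covers_E1 ha))).2

theorem autInv_E0 : AutInv F (E0 F p) := fun _ ha _ _ hf =>
  ((isMap_ofPred _).1 ((isMap_meet.1 hf).2 _ (closed_conjd meet_subsystem closed_E0 ha))).2

variable {E : FusionSystem S}

theorem fac_mono (hSub : E.IsSubsystemOf F) (hinv : AutInv F E) :
    IsSubPred F fun P f => IsMap F P f ∧ Factors E F P f where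
  isMap h := h.1
  congr h he := ⟨h.1.congr he, h.2.congr he⟩
  conj := fun {P g} hP hg => ⟨isMap_conj hP hg, 1, (F.autGroup S).one_mem, _, isMap_conj hP hg,
    fun x hx => by
      rw [autFun_apply _ (S.mul_mem (S.mul_mem hg (hP hx)) (S.inv_mem hg))]
      rfl⟩
  comp := fun {P Q f g} hf hg hm => by
    refine ⟨hf.1.comp hg.1 hm, ?_⟩
    obtain ⟨-, a, ha, f₀, hf₀, hv⟩ := hf
    obtain ⟨-, b, hb, g₀, hg₀, hw⟩ := hg
    refine ⟨b * a, (F.autGroup S).mul_mem hb ha, (autFun a⁻¹ ∘ g₀ ∘ autFun a) ∘ f₀,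
      hf₀.comp (hinv a ha _ _ hg₀) fun x hx => ?_, fun x hx => ?_⟩
    · have h1 := mem_imageAut a⁻¹ (hm x hx) (hv x hx ▸ autFun_mem a (hf₀.mem hx))
      rwa [hv x hx, autFun_inv_autFun a (hf₀.mem hx)] at h1
    · show g (f x) = autFun (b * a) (autFun a⁻¹ (g₀ (autFun a (f₀ x))))
      have h2 : g₀ (f x) ∈ S := hg₀.mem (hm x hx)
      rw [← hv x hx, autFun_mul _ _ (autFun_mem a⁻¹ h2), autFun_autFun_inv a h2,
        hw _ (hm x hx)]
  inv := fun {P Q f r} hf hi hr h1 => by
    refine ⟨hr.isMap, ?_⟩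
    obtain ⟨-, a, ha, f₀, hf₀, hv⟩ := hf
    obtain ⟨Q₀, hQ₀⟩ := hf₀.exists_iso
    obtain ⟨r₀, hr₀, hr₀1, -⟩ := hQ₀.exists_symm
    have him : imageAut a⁻¹⁻¹ Q₀ = Q := SetLike.coe_injective (by
      rw [inv_inv, ← coe_imageAut a hQ₀.le_right, ← hQ₀.image_eq, Set.image_image, ← hi.image_eq]
      exact Set.image_congr fun x hx => (hv x hx).symm)
    have hrr := hinv a⁻¹ ((F.autGroup S).inv_mem ha) _ _ hr₀.isMap
    rw [him] at hrr
    refine ⟨a⁻¹, (F.autGroup S).inv_mem ha, _, hrr, fun y hy => ?_⟩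
    obtain ⟨x, hx, rfl⟩ := hi.surj hy
    show r (f x) = autFun a⁻¹ (autFun a⁻¹⁻¹ (r₀ (autFun a⁻¹ (f x))))
    rw [inv_inv, hv x hx, autFun_inv_autFun a (hf₀.mem hx), hr₀1 x hx, ← hv x hx, h1 x hx,
      autFun_inv_autFun a (hi.le_left hx)]

variable [Finite S] [Fact p.Prime]

theorem factors_of_covers_ess (hS : IsPGroup p S) (hF : F.IsSaturated p)
    (hSub : E.IsSubsystemOf F)
    (hC : ∀ R : Subgroup Ω, F.IsEssential p R → opc F p R ≤ E.autGroup R) (hinv : AutInv F E)
    {P : Subgroup Ω} {f : Ω → Ω} (hf : IsMap F P f) : Factors E F P f := by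
  refine ((isMap_ofPred (fac_mono hSub hinv)).1
    (le_of_autGroup_le_step hS hF (fun R hR hbig α hα => ?_) P f hf)).2
  have hRS : R ≤ S := by
    rcases hR with rfl | h
    · exact le_rfl
    · exact h.1.1
  suffices hfac : Factors E F R (autFun α) from mem_autGroup_of_isMap
    ((isMap_ofPred _).2 ⟨((mem_autGroup_iff hRS α).1 hα).isMap, hfac⟩) α
    fun x => (autFun_coe α x).symm
  rcases hR with rfl | hess
  · exact ⟨α, hα, id, isMap_id le_rfl, fun x _ => rfl⟩
  have hne := ne_of_isEssential hS hF hess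
  have := finite_of_le hRS
  have := finite_mulAut R
  set G := F.autGroup R
  obtain ⟨-, T, hT⟩ := isFullyAutomized_of_isFullyNormalized hS hF hess.2.1
  set K : Subgroup G := (opc F p R).subgroupOf G with hK
  haveI : K.Normal := ⟨fun k hk n => opc_normal hRS n.2 hk⟩
  have hTK : (T : Subgroup G) ≤ K := by
    rw [hT]
    exact fun x hx => le_opc (autInducedBy_le_autGroup hRS) (isPGroup_autInducedBy hS R) hx
  have hfr := Sylow.normalizer_sup_eq_top' T hTK
  have hαtop : (⟨α, hα⟩ : G) ∈ Subgroup.normalizer ((T : Subgroup G) : Set G) ⊔ K :=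
    hfr.symm ▸ Subgroup.mem_top _
  rw [Subgroup.mem_sup_of_normal_right] at hαtop
  obtain ⟨n, hn, k, hk, hnk⟩ := hαtop
  have hkE := ((mem_autGroup_iff hRS _).1 (hC R hess hk)).isMap
  have hnF := (mem_autGroup_iff hRS _).1 n.2
  have hN : normalizerIn S R ≤ nPhi S R (autFun (n : MulAut R)) := by
    intro g hg
    have hgG : (⟨conjAut R hg.2, autInducedBy_le_autGroup hRS
        (conjAut_mem_autInducedBy hg.2 hg.1)⟩ : G) ∈ (T : Subgroup G) := by
      rw [hT]; exact conjAut_mem_autInducedBy hg.2 hg.1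
    have h1 := (Subgroup.mem_normalizer_iff.1 hn _).1 hgG
    rw [hT, Subgroup.mem_subgroupOf] at h1
    obtain ⟨s, hs, hsv⟩ := (mem_autInducedBy_iff S R _).1 h1
    refine ⟨hg.1, hg.2, s, hs, fun x hx => ?_⟩
    have h2 := hsv ((n : MulAut R) ⟨x, hx⟩)
    simp only [Subgroup.coe_mul, Subgroup.coe_inv, MulAut.mul_apply, MulAut.inv_apply_self] at h2
    rw [autFun_apply _ (conj_mem_of_mem_normalizer hg.2 hx), autFun_apply _ hx, ← h2]
    rfl
  obtain ⟨n', hn', hn'v⟩ :=
    (isReceptive_iff.1 (isReceptive_of_isFullyNormalized hS hF hess.2.1)).2 R _ hnF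
  have hlt := lt_normalizerIn hS hRS hne
  have := finite_of_le (S := S) (P := normalizerIn S R) inf_le_left
  have hcard : Nat.card R < Nat.card (normalizerIn S R) :=
    lt_of_le_of_ne (Subgroup.card_le_of_le hlt.le)
      fun e => hlt.ne (Subgroup.eq_of_le_of_card_ge hlt.le e.ge)
  have hnfac : IsMap (ofPred F _ (fac_mono hSub hinv)) R (autFun (n : MulAut R)) :=
    ((hbig _ _ hcard (hn'.mono hN)).mono hlt.le).congr hn'v
  have hkfac : IsMap (ofPred F _ (fac_mono hSub hinv)) R (autFun (k : MulAut R)) :=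
    (isMap_ofPred _).2 ⟨((mem_autGroup_iff hRS _).1 k.2).isMap, 1, (F.autGroup S).one_mem, _, hkE,
      fun x hx => by rw [autFun_apply (1 : MulAut S) (hkE.mem hx)]; rfl⟩
  refine ((isMap_ofPred _).1 ((hkfac.comp hnfac fun x hx => autFun_mem _ hx).congr
    fun x hx => ?_)).2
  show autFun (n : MulAut R) (autFun (k : MulAut R) x) = autFun α x
  rw [← autFun_mul _ _ hx]
  exact congrArg (fun z : MulAut R => autFun z x) (congrArg Subtype.val hnk)

/-- Transport of `O^{p'}` through a factorisation. -/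
theorem opc_le_autGroup_ess (hS : IsPGroup p S) (hF : F.IsSaturated p) (hSub : E.IsSubsystemOf F)
    (hC : ∀ R : Subgroup Ω, F.IsEssential p R → opc F p R ≤ E.autGroup R) (hinv : AutInv F E)
    {P : Subgroup Ω} (hP : P ≤ S) : opc F p P ≤ E.autGroup P := by
  rw [opc_eq, Subgroup.closure_le]
  rintro α ⟨hα, hord⟩
  obtain ⟨R, hPR, hR⟩ := exists_isFullyNormalized (F := F) hP
  obtain ⟨φ, hφ⟩ := isConj_iff.1 hPR
  have := finite_of_le hP
  have := finite_mulAut P
  obtain ⟨kp, hkp⟩ := hord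
  have hAp : IsPGroup p (Subgroup.zpowers α) :=
    IsPGroup.of_card (n := kp) (by rw [Nat.card_zpowers, hkp])
  obtain ⟨δ, hδ, hδv⟩ :=
    ((isFullyAutomized_iff hS).1 (isFullyAutomized_of_isFullyNormalized hS hF hR)).2
      ((Subgroup.zpowers α).map (MulAut.congr hφ.equiv).toMonoidHom)
      (by rintro _ ⟨b, hb, rfl⟩
          exact hφ.congr_mem_autGroup (Subgroup.zpowers_le.2 hα hb))
      (hAp.map _)
  obtain ⟨g, hg, hgv⟩ := (mem_autInducedBy_iff S R _).1
    (hδv _ ⟨α, Subgroup.mem_zpowers α, rfl⟩)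
  have hψ : IsIso F P R (autFun δ ∘ φ) := hφ.comp ((mem_autGroup_iff hR.1 δ).1 hδ)
  have hψα : ∀ x ∈ P, (autFun δ ∘ φ) (autFun α x) = g * (autFun δ ∘ φ) x * g⁻¹ := fun x hx => by
    have h1 := hgv (δ (hφ.equiv ⟨x, hx⟩))
    simp only [MulAut.mul_apply, MulAut.inv_apply_self, MulEquiv.coe_toMonoidHom] at h1
    show autFun δ (φ (autFun α x)) = g * autFun δ (φ x) * g⁻¹
    rw [autFun_apply α hx, ← hφ.congr_apply α ⟨x, hx⟩, autFun_coe, h1, ← autFun_coe δ]
    rfl
  obtain ⟨a, ha, ψ₀, hψ₀, hv⟩ := factors_of_covers_ess hS hF hSub hC hinv hψ.isMap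
  obtain ⟨P₀, hP₀⟩ := hψ₀.exists_iso
  obtain ⟨r, hr, hr1, -⟩ := hP₀.exists_symm
  have hai := (F.autGroup S).inv_mem ha
  have him := (mem_autGroup_iff le_rfl a⁻¹).1 hai
  refine mem_autGroup_of_isMap ((hψ₀.comp (isMap_conj hP₀.le_right (autFun_mem a⁻¹ hg))
    fun x hx => hP₀.mem hx).comp hr.isMap fun x hx => ?_) α fun x => ?_
  · show autFun a⁻¹ g * ψ₀ x * (autFun a⁻¹ g)⁻¹ ∈ P₀
    have h1 := hψα x hx
    rw [hv x hx, hv _ (autFun_mem α hx)] at h1
    have h2 := congrArg (autFun a⁻¹) h1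
    rw [autFun_inv_autFun a (hψ₀.mem (autFun_mem α hx)),
      him.isMap.map_conj hg (autFun_mem a (hψ₀.mem hx)), autFun_inv_autFun a (hψ₀.mem hx)] at h2
    rw [← h2]
    exact hP₀.mem (autFun_mem α hx)
  · show (α x : Ω) = r (autFun a⁻¹ g * ψ₀ x * (autFun a⁻¹ g)⁻¹)
    have h1 := hψα x x.2
    rw [hv x x.2, hv _ (autFun_mem α x.2)] at h1
    have h2 := congrArg (autFun a⁻¹) h1
    rw [autFun_inv_autFun a (hψ₀.mem (autFun_mem α x.2)),
      him.isMap.map_conj hg (autFun_mem a (hψ₀.mem x.2)), autFun_inv_autFun a (hψ₀.mem x.2)] at h2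
    rw [← h2, hr1 _ (autFun_mem α x.2), autFun_coe]

theorem factors_of_covers (hS : IsPGroup p S) (hF : F.IsSaturated p) (hSub : E.IsSubsystemOf F)
    (hC : Covers F p E) (hinv : AutInv F E) {P : Subgroup Ω} {f : Ω → Ω} (hf : IsMap F P f) :
    Factors E F P f :=
  factors_of_covers_ess hS hF hSub (fun R hR => hC R hR.1) hinv hf

theorem opc_le_autGroup (hS : IsPGroup p S) (hF : F.IsSaturated p) (hSub : E.IsSubsystemOf F)
    (hC : Covers F p E) (hinv : AutInv F E) {P : Subgroup Ω} (hP : P ≤ S) :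
    opc F p P ≤ E.autGroup P :=
  opc_le_autGroup_ess hS hF hSub (fun R hR => hC R hR.1) hinv hP

theorem isCentric_iff (hS : IsPGroup p S) (hF : F.IsSaturated p) (hSub : E.IsSubsystemOf F)
    (hfac : ∀ {P : Subgroup Ω} {f : Ω → Ω}, IsMap F P f → Factors E F P f) {P : Subgroup Ω} :
    E.IsCentric P ↔ F.IsCentric P := by
  refine ⟨fun h => ⟨h.1, fun Q hQ => ?_⟩, isCentric_of_subsystem hSub⟩
  obtain ⟨f, hf⟩ := isConj_iff.1 hQ
  obtain ⟨a, ha, f₀, hf₀, hv⟩ := hfac hf.isMap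
  obtain ⟨Q₀, hQ₀⟩ := hf₀.exists_iso
  have him : imageAut a Q₀ = Q := SetLike.coe_injective (by
    rw [← coe_imageAut a hQ₀.le_right, ← hQ₀.image_eq, Set.image_image, ← hf.image_eq]
    exact Set.image_congr fun x hx => (hv x hx).symm)
  intro y hy
  have hm := (mem_autGroup_iff le_rfl a⁻¹).1 ((F.autGroup S).inv_mem ha)
  have hy0 : autFun a⁻¹ y ∈ centralizerIn S Q₀ := by
    refine ⟨autFun_mem _ hy.1, mem_centralizer_of_conj_eq fun x hx => ?_⟩
    have hxS := hQ₀.le_right hx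
    have hax : autFun a x ∈ Q := him ▸ mem_imageAut a hx hxS
    rw [← autFun_inv_autFun a hxS, ← hm.isMap.map_conj hy.1 (autFun_mem a hxS),
      conj_eq_self_of_mem_centralizer hy.2 hax]
  have h1 := mem_imageAut a (h.2 Q₀ hQ₀.isConj hy0) (autFun_mem _ hy.1)
  rwa [autFun_autFun_inv a hy.1, him] at h1

theorem hasPrimeToPIndex (hS : IsPGroup p S) (hF : F.IsSaturated p) (hSub : E.IsSubsystemOf F)
    (hC : Covers F p E) :
    E.HasPrimeToPIndexIn F p ∧
      (∀ {P : Subgroup Ω} {f : Ω → Ω}, IsMap F P f → Factors E F P f) ∧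
      ∀ P : Subgroup Ω, E.IsCentric P ↔ F.IsCentric P := by
  have hle : (E1 F p).IsSubsystemOf E := meet_le hC
  have hfac : ∀ {P : Subgroup Ω} {f : Ω → Ω}, IsMap F P f → Factors E F P f := fun hf => by
    obtain ⟨a, ha, f₀, hf₀, hv⟩ :=
      factors_of_covers hS hF meet_subsystem covers_E1 autInv_E1 hf (E := E1 F p)
    exact ⟨a, ha, f₀, isMap_of_subsystem hle hf₀, hv⟩
  refine ⟨⟨hSub, fun P hP α hα => ?_⟩, hfac, fun P => isCentric_iff hS hF hSub hfac⟩
  have h := (mem_autGroup_iff hP α).1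
    (opc_le_autGroup hS hF meet_subsystem covers_E1 autInv_E1 hP hα (E := E1 F p))
  exact (mem_autGroup_iff hP α).2 (h.of_subsystem hle)

/-- The least saturated subsystem of index prime to `p`. -/
theorem isPPrimeResidual_E0 (hS : IsPGroup p S) (hF : F.IsSaturated p) :
    F.IsPPrimeResidual p (E0 F p) := by
  have hsub : (E0 F p).IsSubsystemOf F := meet_subsystem
  obtain ⟨hidx, hfac, hcent⟩ := hasPrimeToPIndex hS hF hsub closed_E0.1
  refine ⟨?_, hidx, fun D hD hDidx => meet_le ⟨fun P hP => hDidx.2 P hP.1, fun a ha P hP hm => ?_⟩⟩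
  · refine SatExtend.isSaturated_of_family (ℋ := {P | F.IsCentric P}) hS
      (fun P hP Q hQ => isCentric_of_isConj hP (isConj_of_subsystem hsub hQ)) ?_ ?_
      fun P hP hPn => absurd ((hcent P).1 hP) hPn
    · intro P (hP : F.IsCentric P)
      obtain ⟨Q, hPQ, hQ⟩ := exists_isFullyNormalized (F := F) hP.1
      obtain ⟨f, hf⟩ := isConj_iff.1 hPQ
      obtain ⟨a, ha, f₀, hf₀, hv⟩ := hfac hf.isMap
      obtain ⟨Q₀, hQ₀⟩ := hf₀.exists_iso
      have hQ₀F : F.IsConj P Q₀ := (hQ₀.of_subsystem hsub).isConj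
      have hQ₀n : F.IsFullyNormalized Q₀ := by
        refine ⟨hQ₀.le_right, fun A hA => ?_⟩
        refine (hQ.2 A (isConj_trans (isConj_symm hPQ) (isConj_trans hQ₀F hA))).trans ?_
        have := finite_of_le (S := S) (P := normalizerIn S Q₀) inf_le_left
        have hQeq : imageAut a⁻¹ Q = Q₀ := SetLike.coe_injective (by
          rw [← coe_imageAut a⁻¹ hQ.1, ← hf.image_eq, Set.image_image, ← hQ₀.image_eq]
          exact Set.image_congr fun x hx => by
            rw [hv x hx, autFun_inv_autFun a (hQ₀.le_right (hQ₀.mem hx))])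
        have hm := isIso_imageAut ((F.autGroup S).inv_mem ha) hQ.1
        rw [hQeq] at hm
        have hN := isMap_autFun ((F.autGroup S).inv_mem ha)
          (inf_le_left : normalizerIn S Q ≤ S)
        exact hN.card_le fun x hx => hN.mem_normalizerIn (le_normalizerIn hQ.1) hm hx hx.2
      have hQ₀c := isCentric_of_isConj hP hQ₀F
      refine ⟨Q₀, hQ₀.isConj, (isFullyAutomized_iff hS).2 ⟨hQ₀.le_right, fun A hA hAp => ?_⟩,
        isReceptive_iff.2 ⟨hQ₀.le_right, fun R g hg => ?_⟩⟩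
      · have hle := hQ₀.le_right
        have := finite_of_le hle
        have := finite_mulAut Q₀
        set K := opc F p Q₀
        have hKE : K ≤ (E0 F p).autGroup Q₀ := closed_E0.1 Q₀ hQ₀c
        have hAF : A ≤ F.autGroup Q₀ := fun x hx =>
          (mem_autGroup_iff hle x).2 (((mem_autGroup_iff hle x).1 (hA hx)).of_subsystem hsub)
        obtain ⟨-, T, hT⟩ := isFullyAutomized_of_isFullyNormalized hS hF hQ₀n
        have hTK : ((T : Subgroup (F.autGroup Q₀))) ≤ K.subgroupOf (F.autGroup Q₀) := by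
          rw [hT]
          exact fun x hx =>
            le_opc (autInducedBy_le_autGroup hle) (isPGroup_autInducedBy hS Q₀) hx
        have hAK : A.subgroupOf (F.autGroup Q₀) ≤ K.subgroupOf (F.autGroup Q₀) :=
          fun x hx => le_opc hAF hAp hx
        obtain ⟨SA, hSA⟩ := (((hAp.of_equiv (Subgroup.subgroupOfEquivOfLe hAF).symm).of_equiv
          (Subgroup.subgroupOfEquivOfLe hAK).symm)).exists_le_sylow
        obtain ⟨c, hc⟩ := MulAction.exists_smul_eq (K.subgroupOf (F.autGroup Q₀)) SA (T.subtype hTK)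
        refine ⟨(c : F.autGroup Q₀), hKE c.2, fun x hx => ?_⟩
        have hxK : (⟨⟨x, hAF hx⟩, hAK hx⟩ : K.subgroupOf (F.autGroup Q₀)) ∈
            (A.subgroupOf (F.autGroup Q₀)).subgroupOf _ := hx
        have h1 : c * ⟨⟨x, hAF hx⟩, hAK hx⟩ * c⁻¹ ∈
            ((T.subtype hTK : Sylow p _) : Subgroup (K.subgroupOf (F.autGroup Q₀))) := by
          rw [← hc, Sylow.coe_subgroup_smul, Subgroup.mem_pointwise_smul_iff_inv_smul_mem]
          simpa [mul_assoc] using hSA hxK
        rw [Sylow.coe_subtype, Subgroup.mem_subgroupOf, hT] at h1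
        exact h1
      · have hgF := hg.of_subsystem hsub
        obtain ⟨ψ, hψ, hψv⟩ :=
          (isReceptive_iff.1 (isReceptive_of_isFullyNormalized hS hF hQ₀n)).2 R g hgF
        obtain ⟨b, hb, ψ₀, hψ₀, hw⟩ := hfac hψ
        refine ⟨ψ, ?_, hψv⟩
        have hRN := le_nPhi hg.isMap
        obtain ⟨B, hB⟩ := (hψ₀.mono hRN).exists_iso
        obtain ⟨r, hr, hr1, -⟩ := hB.exists_symm
        have hBc : F.IsCentric B :=
          isCentric_of_isConj hQ₀c (isConj_trans (isConj_symm hgF.isConj)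
            (hB.of_subsystem hsub).isConj)
        have hbE : b ∈ (E0 F p).autGroup S := by
          refine closed_E0.2 b hb B hBc ((hr.isMap.comp hg.isMap fun y hy => hr.mem hy).congr
            fun y hy => ?_)
          obtain ⟨x, hx, rfl⟩ := hB.surj hy
          show g (r (ψ₀ x)) = _
          rw [hr1 x hx, ← hψv x hx, hw x (hRN hx)]
        exact (hψ₀.comp ((mem_autGroup_iff le_rfl b).1 hbE).isMap fun x hx => hψ₀.mem hx).congr
          fun x hx => (hw x hx).symm
    · intro E hE P φ hφ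
      have hC : ∀ D, (D = E0 F p ∨ D = E) → ∀ (R : Subgroup Ω) (g : Ω → Ω), F.IsCentric R →
          IsMap (E0 F p) R g → IsMap D R g := by
        rintro D (rfl | rfl) R g hR hg
        · exact hg
        · obtain ⟨χ, hχ, hv⟩ := hg
          exact ⟨χ, hE R hR hχ, hv⟩
      have hclosed : Closed F p (meet F fun D => D = E0 F p ∨ D = E) := by
        refine ⟨fun R hR α hα => ?_, fun b hb R hR hm => ?_⟩
        · refine mem_autGroup_meet hR.1 (opc_le R hα) fun D hD =>
            mem_autGroup_of_isMap (hC D hD R _ hR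
              ((mem_autGroup_iff hR.1 α).1 (closed_E0.1 R hR hα)).isMap) α
              fun x => (autFun_coe α x).symm
        · refine mem_autGroup_meet le_rfl hb fun D hD => ?_
          have hScen : F.IsCentric S := isCentric_of_le hR hR.1 le_rfl
          exact mem_autGroup_of_isMap (hC D hD S _ hScen ((mem_autGroup_iff le_rfl b).1
            (closed_E0.2 b hb R hR ((isMap_meet.1 hm).2 _ (Or.inl rfl)))).isMap) b
            fun x => (autFun_coe b x).symm
      have h1 := (isMap_meet.1 (isMap_homFun hφ)).2 _ hclosed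
      exact (mem_hom_iff φ).2 ((isMap_meet.1 h1).2 E (Or.inr rfl))
  · exact mem_autGroup_of_isMap (isMap_of_centric_restrict hS hF hD hDidx.1
      ((mem_autGroup_iff le_rfl a).1 ha).isMap _ P rfl hP.1 hP hm) a fun x => (autFun_coe a x).symm

end CfsgLib.Fusion.PPrime
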