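import Mathlib
import Cfsg.Agent.Lib.Fusion.PPrimeIndex
import Cfsg.Agent.Lib.Fusion.NormalExtend

/-!
Weakly normal subsystems over the same strongly closed subgroup, and the `p'`-residual of one.
-/

set_option autoImplicit false

namespace CfsgLib.Fusion.Residual

open Cfsg Cfsg.FusionSystem

/-! ### Group-theoretic preliminaries -/

section Groups

variable {G : Type*} [Group G] {p : ℕ}

/-- An exponent fixing elements of order `o` and killing `p`-parts. -/
theorem exists_pPrime_pow [hp : Fact p.Prime] [Finite G] (g : G) {o : ℕ} (ho : o.Coprime p) :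
    ∃ m : ℕ, m ≡ 1 [MOD o] ∧ (orderOf (g ^ m)).Coprime p := by
  set n := orderOf g
  have hn : n ≠ 0 := (orderOf_pos g).ne'
  obtain ⟨m, hm1, hm0⟩ :=
    Nat.chineseRemainder (ho.pow_right (n.factorization p)) 1 0
  refine ⟨m, hm1, Nat.Coprime.coprime_dvd_left ?_ (Nat.coprime_ordCompl hp.out hn).symm⟩
  refine orderOf_dvd_of_pow_eq_one ?_
  rw [← pow_mul, ← orderOf_dvd_iff_pow_eq_one]
  obtain ⟨c, hc⟩ := Nat.modEq_zero_iff_dvd.1 hm0
  exact ⟨c, by rw [hc, mul_right_comm, Nat.ordProj_mul_ordCompl_eq_self n p]⟩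

theorem pow_eq_self_of_modEq {g : G} {m : ℕ} (h : m ≡ 1 [MOD orderOf g]) : g ^ m = g :=
  (pow_eq_pow_iff_modEq.2 h).trans (pow_one g)

/-- A normal `p`-subgroup lies in every Sylow subgroup. -/
theorem le_sylow [Fact p.Prime] [Finite G] {U : Subgroup G} [hn : U.Normal] (hU : IsPGroup p U)
    (D : Sylow p G) : U ≤ (D : Subgroup G) := by
  obtain ⟨Q, hQ⟩ := hU.exists_le_sylow
  obtain ⟨c, hc⟩ := MulAction.exists_smul_eq G Q D
  intro x hx
  rw [← hc, Sylow.coe_subgroup_smul, Subgroup.mem_pointwise_smul_iff_inv_smul_mem]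
  exact hQ (by simpa [mul_assoc] using hn.conj_mem x hx c⁻¹)

/-- An automorphism of order prime to `p` moving a point by fixed `p`-elements fixes it. -/
theorem eq_self_of_fixed_diff {R : Type*} [Group R] {β : MulAut R} {x : R}
    (ho : (orderOf β).Coprime p) (hfix : β (x⁻¹ * β x) = x⁻¹ * β x) {j : ℕ}
    (hm : (x⁻¹ * β x) ^ p ^ j = 1) : β x = x := by
  obtain ⟨m, hmv⟩ := exists_pow_eq_self_of_coprime (ho.symm.pow_left j)
  have h1 := pow_eq_one_of_fixed_diff hfix hm
  have h2 : ∀ k, ((β ^ p ^ j) ^ k) x = x := by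
    intro k
    induction k with
    | zero => simp
    | succ k ih => rw [pow_succ', MulAut.mul_apply, ih, h1]
  have h3 := h2 m
  rwa [hmv] at h3

/-- A product of a subgroup with a `p`-subgroup has `p`-power index over it. -/
theorem exists_relIndex_pow [Fact p.Prime] [Finite G] {R R' P : Subgroup G} (hP : IsPGroup p P)
    (hPR : P ≤ R) (h : ∀ c ∈ R, ∃ s ∈ P, s⁻¹ * c ∈ R') :
    ∃ k, R'.relIndex R = p ^ k := by
  obtain ⟨k, hk⟩ := hP.index (R'.subgroupOf P)
  refine ⟨k, ?_⟩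
  rw [← hk, Subgroup.relIndex, Subgroup.index, Subgroup.index]
  refine (Nat.card_congr (Equiv.ofBijective (Subgroup.quotientSubgroupOfEmbeddingOfLE R' hPR)
    ⟨(Subgroup.quotientSubgroupOfEmbeddingOfLE R' hPR).injective, fun q => ?_⟩)).symm
  induction q using QuotientGroup.induction_on with
  | _ c =>
    obtain ⟨s, hs, hsc⟩ := h c c.2
    refine ⟨QuotientGroup.mk (⟨s, hs⟩ : P), ?_⟩
    rw [Subgroup.quotientSubgroupOfEmbeddingOfLE_apply_mk, QuotientGroup.eq]
    exact Subgroup.mem_subgroupOf.2 hsc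

/-- In a product with a centralising subgroup every element splits. -/
theorem exists_mul_of_mem_sup {P C : Subgroup G} (h : C ≤ Subgroup.centralizer (P : Set G))
    {y : G} (hy : y ∈ P ⊔ C) : ∃ u ∈ P, ∃ c ∈ C, y = u * c := by
  have hn : P ≤ Subgroup.normalizer (C : Set G) := fun x hx => Subgroup.mem_normalizer_iff.2 fun c => by
    have hfix : ∀ z ∈ C, x * z * x⁻¹ = z := fun z hz => by
      rw [Subgroup.mem_centralizer_iff.1 (h hz) x hx, mul_inv_cancel_right]
    refine ⟨fun hc => (hfix c hc).symm ▸ hc, fun hc => ?_⟩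
    have h1 := Subgroup.mem_centralizer_iff.1 (h hc) x hx
    have h2 : x * c * x⁻¹ = c := by
      have h3 : x * c = x * (x * c * x⁻¹) := by rw [h1, inv_mul_cancel_right]
      exact (mul_left_cancel h3).symm
    exact h2 ▸ hc
  have hy' : y ∈ ((P ⊔ C : Subgroup G) : Set G) := hy
  rw [Subgroup.coe_mul_of_left_le_normalizer_right _ _ hn] at hy'
  obtain ⟨u, hu, c, hc, he⟩ := hy'
  exact ⟨u, hu, c, hc, he.symm⟩

end Groups

variable {Ω : Type*} [Group Ω] {S T : Subgroup Ω} {F : FusionSystem S} {E D : FusionSystem T}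
  {p : ℕ}

/-! ### Automizers and centric subgroups of invariant subsystems -/

/-- Maps of `F` carry automorphisms in `E` to automorphisms in `E`. -/
theorem mem_autGroup_transport (hI : E.IsInvariantIn F) {R P : Subgroup Ω} {f : Ω → Ω}
    {α : MulAut R} {β : MulAut P} (hRT : R ≤ T) (hf : IsIso F R P f) (hα : α ∈ E.autGroup R)
    (hv : ∀ x ∈ R, f (autFun α x) = autFun β (f x)) : β ∈ E.autGroup P := by
  obtain ⟨f', hf', hf'v⟩ := strongInvariant_of_invariant hI R R (autFun α) f le_rfl hRT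
    ((mem_autGroup_iff hRT α).1 hα).isMap (fun x hx => autFun_mem α hx) hf.isMap P hf.image_eq
  refine mem_autGroup_of_isMap hf' β fun y => ?_
  obtain ⟨x, hx, hxy⟩ := hf.surj y.2
  rw [← hxy, hf'v x hx, hv x hx, hxy, autFun_coe]

theorem map_mem_of_stronglyClosed (hI : E.IsInvariantIn F) {P : Subgroup Ω} {f : Ω → Ω}
    (hP : P ≤ T) (hf : IsMap F P f) {x : Ω} (hx : x ∈ P) : f x ∈ T :=
  isMap_mem_of_stronglyClosed hI.2.1 hf hx (hP hx)

theorem le_of_iso (hI : E.IsInvariantIn F) {P Q : Subgroup Ω} {f : Ω → Ω}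
    (hP : P ≤ T) (hf : IsIso F P Q f) : Q ≤ T := fun y hy => by
  obtain ⟨x, hx, rfl⟩ := hf.surj hy
  exact map_mem_of_stronglyClosed hI hP hf.isMap hx

theorem inv_mul_autFun (a : MulAut T) {x : Ω} (hx : x ∈ T) : autFun a⁻¹ (autFun a x) = x :=
  PPrime.autFun_inv_autFun a hx

theorem mul_inv_autFun (a : MulAut T) {x : Ω} (hx : x ∈ T) : autFun a (autFun a⁻¹ x) = x :=
  PPrime.autFun_autFun_inv a hx

theorem isCentric_imageAut (hI : E.IsInvariantIn F) {P : Subgroup Ω} (hP : E.IsCentric P)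
    {a : MulAut T} (ha : a ∈ F.autGroup T) : E.IsCentric (imageAut a P) := by
  refine ⟨imageAut_le _ _, fun Q hQ y hy => ?_⟩
  obtain ⟨f, hf⟩ := isConj_iff.1 hQ
  have hai := (F.autGroup T).inv_mem ha
  obtain ⟨f', hf', hv⟩ := exists_transport hI hf.isMap hai (coe_imageAut a⁻¹ (imageAut_le _ _))
  have hback : imageAut a⁻¹ (imageAut a P) = P := SetLike.coe_injective (by
    rw [← coe_imageAut a⁻¹ (imageAut_le _ _), ← coe_imageAut a hP.1, Set.image_image]
    exact (Set.image_congr fun x hx => inv_mul_autFun a (hP.1 hx)).trans (Set.image_id _))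
  rw [hback] at hf'
  have hiso : IsIso E P (imageAut a⁻¹ Q) f' := by
    refine ⟨hf', ?_⟩
    rw [← coe_imageAut a⁻¹ hf.le_right, ← hf.image_eq, Set.image_image]
    conv_lhs => rw [show (P : Set Ω) = autFun a⁻¹ '' (imageAut a P : Set Ω) by
      rw [coe_imageAut a⁻¹ (imageAut_le _ _), hback]]
    rw [Set.image_image]
    exact Set.image_congr fun x hx => hv x hx
  have hm := ((mem_autGroup_iff hI.2.1.1 a⁻¹).1 hai).isMap
  have hy' : autFun a⁻¹ y ∈ centralizerIn T (imageAut a⁻¹ Q) := by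
    refine ⟨autFun_mem _ hy.1, mem_centralizer_of_conj_eq fun z hz => ?_⟩
    rw [← SetLike.mem_coe, ← coe_imageAut a⁻¹ hf.le_right] at hz
    obtain ⟨w, hw, rfl⟩ := hz
    rw [← hm.map_conj hy.1 (hf.le_right hw), conj_eq_self_of_mem_centralizer hy.2 hw]
  exact (imageAut_inv_imageAut a⁻¹ hy.1).1 (hP.2 _ hiso.isConj hy')

theorem isCentric_of_iso (hI : E.IsInvariantIn F) {P Q : Subgroup Ω} {f : Ω → Ω}
    (hP : E.IsCentric P) (hf : IsIso F P Q f) : E.IsCentric Q := by
  obtain ⟨a, ha, f₀, hf₀, hv⟩ := exists_frattini hI hP.1 hf.isMap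
  obtain ⟨P₀, hP₀⟩ := hf₀.exists_iso
  have h := isCentric_imageAut hI (isCentric_of_isConj hP hP₀.isConj) ha
  rwa [show imageAut a P₀ = Q from SetLike.coe_injective (by
    rw [← coe_imageAut a hP₀.le_right, ← hP₀.image_eq, Set.image_image, ← hf.image_eq]
    exact Set.image_congr fun x hx => (hv x hx).symm)] at h

variable [Finite S] [Fact p.Prime]

/-! ### A placed position -/

/-- Automorphisms of `X` fixing `P` pointwise and acting trivially modulo it. -/
def trivMod (F : FusionSystem S) (X P : Subgroup Ω) : Subgroup (SatExtend.stabF F X P) where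
  carrier := {δ | (∀ x : X, (x : Ω) ∈ P → (δ : MulAut X) x = x) ∧
    ∀ x : X, ((x⁻¹ * (δ : MulAut X) x : X) : Ω) ∈ P}
  one_mem' := ⟨fun x _ => rfl, fun x => by simp⟩
  mul_mem' := by
    rintro a b ⟨ha, ha'⟩ ⟨hb, hb'⟩
    refine ⟨fun x hx => ?_, fun x => ?_⟩
    · rw [Subgroup.coe_mul, MulAut.mul_apply, hb x hx, ha x hx]
    · rw [Subgroup.coe_mul (SatExtend.stabF F X P), MulAut.mul_apply,
        show x⁻¹ * (a : MulAut X) ((b : MulAut X) x) =
          x⁻¹ * (b : MulAut X) x * (((b : MulAut X) x)⁻¹ * (a : MulAut X) ((b : MulAut X) x)) by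
          group, Subgroup.coe_mul]
      exact P.mul_mem (hb' x) (ha' _)
  inv_mem' := by
    rintro a ⟨ha, ha'⟩
    refine ⟨fun x hx => ?_, fun x => ?_⟩
    · rw [Subgroup.coe_inv]
      conv_lhs => rw [← ha x hx]
      rw [MulAut.inv_apply_self]
    · have h := P.inv_mem (ha' ((a : MulAut X)⁻¹ x))
      rw [MulAut.apply_inv_self] at h
      simpa using h

omit [Finite S] [Fact p.Prime] in
theorem trivMod_normal (X P : Subgroup Ω) : (trivMod F X P).Normal := by
  refine ⟨fun a ⟨ha, ha'⟩ n => ⟨fun x hx => ?_, fun x => ?_⟩⟩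
  · show (n : MulAut X) ((a : MulAut X) ((n : MulAut X)⁻¹ x)) = x
    rw [ha _ (((SatExtend.stabF F X P).inv_mem n.2).2 x |>.2 hx), MulAut.apply_inv_self]
  · show ((x⁻¹ * (n : MulAut X) ((a : MulAut X) ((n : MulAut X)⁻¹ x)) : X) : Ω) ∈ P
    have h : x⁻¹ * (n : MulAut X) ((a : MulAut X) ((n : MulAut X)⁻¹ x)) =
        (n : MulAut X) (((n : MulAut X)⁻¹ x)⁻¹ * (a : MulAut X) ((n : MulAut X)⁻¹ x)) := by
      simp [map_mul]
    rw [h, n.2.2]
    exact ha' _

theorem trivMod_isPGroup (hS : IsPGroup p S) {X : Subgroup Ω} (hX : X ≤ S) (P : Subgroup Ω) :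
    IsPGroup p (trivMod F X P) := by
  rintro ⟨δ, hδ1, hδ2⟩
  have := finite_of_le hX
  obtain ⟨j, hj⟩ := (hS.to_le hX).exists_card_eq
  refine ⟨j, Subtype.ext (Subtype.ext (MulEquiv.ext fun x => ?_))⟩
  show ((δ : MulAut X) ^ p ^ j) x = x
  exact pow_eq_one_of_fixed_diff (hδ1 _ (hδ2 x)) (hj ▸ pow_card_eq_one')

/-- Moving `P ≤ X` so that automorphisms fixing `P` and trivial modulo it come from `S`. -/
theorem exists_position (hS : IsPGroup p S) (hF : F.IsSaturated p) {P X M : Subgroup Ω}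
    (hPX : P ≤ X) (hX : X ≤ S) (hXM : X ≤ M) (hMX : M ≤ normalizerIn S X)
    (hMP : M ≤ normalizerIn S P) :
    ∃ Xs Ps : Subgroup Ω, ∃ u : Ω → Ω, IsMap F M u ∧ IsIso F X Xs u ∧ IsIso F P Ps u ∧
      F.IsReceptive Xs ∧ ∃ D : Sylow p (SatExtend.stabF F Xs Ps),
        trivMod F Xs Ps ≤ D ∧
        (D : Subgroup (SatExtend.stabF F Xs Ps)) =
          (autInducedBy S Xs ⊓ sclStabAut Xs Ps).subgroupOf (SatExtend.stabF F Xs Ps) := by
  obtain ⟨R, hR, hRa, hRr⟩ := hF X hX
  obtain ⟨k, hk⟩ := isConj_iff.1 hR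
  obtain ⟨P', hP'⟩ := (hk.isMap.mono hPX).exists_iso
  obtain ⟨β, hβ, Ps, hPs, hpl⟩ := SatExtend.exists_placed hS hRa (X := P') fun y hy => by
    obtain ⟨x, hx, rfl⟩ := hP'.surj hy
    exact hk.mem (hPX hx)
  have hu : IsIso F X R (autFun β ∘ k) := hk.comp ((mem_autGroup_iff hRa.1 β).1 hβ)
  have huP : IsIso F P Ps (autFun β ∘ k) :=
    ⟨hu.isMap.mono hPX, by rw [Set.image_comp, hP'.image_eq, hPs]⟩
  obtain ⟨u, hum, huX, huPs⟩ := SatExtend.exists_ext hS hRr hpl hu hPX huP hMX hMP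
  have := finite_of_le hRa.1
  have := finite_mulAut R
  obtain ⟨D, hD⟩ := SatExtend.exists_placed_sylow hS hRa.1 hpl
  haveI := trivMod_normal (F := F) R Ps
  exact ⟨R, Ps, u, hum, huX, huPs, hRr, D, le_sylow (trivMod_isPGroup hS hRa.1 Ps) D, hD⟩

/-! ### Automorphisms of `T` with restriction in the subsystem -/

/-- Automorphisms of `T` in `F` whose restriction to `P` lies in `E`. -/
def resIn (F : FusionSystem S) (E : FusionSystem T) (P : Subgroup Ω) : Subgroup (MulAut T) :=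
  Subgroup.closure {c | c ∈ F.autGroup T ∧ IsMap E P (autFun c)}

theorem mem_resIn (hI : E.IsInvariantIn F) {P : Subgroup Ω} (hP : P ≤ T) {c : MulAut T} :
    c ∈ resIn F E P ↔ c ∈ F.autGroup T ∧ IsMap E P (autFun c) := by
  have := finite_of_le hI.2.1.1
  have := finite_mulAut T
  refine ⟨fun h => ?_, fun h => Subgroup.subset_closure h⟩
  rw [resIn, ← Subgroup.mem_toSubmonoid, Subgroup.closure_toSubmonoid_of_finite] at h
  induction h using Submonoid.closure_induction with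
  | mem c hc => exact hc
  | one => exact ⟨Subgroup.one_mem _, (isMap_id hP).congr fun x hx => by
      rw [autFun_apply _ (hP hx)]; rfl⟩
  | mul c c' _ _ hc hc' =>
    refine ⟨(F.autGroup T).mul_mem hc.1 hc'.1, ?_⟩
    obtain ⟨g, hg, hgv⟩ := exists_transport hI hc'.2 hc.1 (coe_imageAut c hP)
    refine (hc.2.comp hg fun x hx => mem_imageAut c hx (hP hx)).congr fun x hx => ?_
    show g (autFun c x) = _
    rw [hgv x hx, ← autFun_mul _ _ (hP hx)]

omit [Finite S] [Fact p.Prime] in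
theorem resIn_mono {P Q : Subgroup Ω} (h : P ≤ Q) : resIn F E Q ≤ resIn F E P :=
  Subgroup.closure_mono fun _ hc => ⟨hc.1, hc.2.mono h⟩

theorem autGroup_le_resIn (hI : E.IsInvariantIn F) {P : Subgroup Ω} (hP : P ≤ T) :
    E.autGroup T ≤ resIn F E P := fun c hc => by
  have h := (mem_autGroup_iff le_rfl c).1 hc
  refine (mem_resIn hI hP).2 ⟨(mem_autGroup_iff hI.2.1.1 c).2 ?_, h.isMap.mono hP⟩
  exact ⟨isMap_of_subsystem hI.1 h.isMap, h.image_eq⟩

/-- The automorphisms of `T` in `F` with restriction to a centric subgroup in `E` are those of `E`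
up to `p`-elements. -/
theorem exists_relIndex_resIn (hS : IsPGroup p S) (h : E.IsWeaklyNormalIn F p) :
    ∀ (n : ℕ) (P : Subgroup Ω), Nat.card T - Nat.card P = n → E.IsCentric P →
      ∃ k, (E.autGroup T).relIndex (resIn F E P) = p ^ k := by
  obtain ⟨hEs, hF, hI⟩ := h
  intro n
  induction n using Nat.strong_induction_on with
  | _ n ih =>
  intro P hn hPc
  have hP := hPc.1
  have hTS := hI.2.1.1
  have := finite_of_le hTS
  have := finite_mulAut T
  have hT : IsPGroup p T := hS.to_le hTS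
  rcases eq_or_ne P T with rfl | hne
  · refine ⟨0, ?_⟩
    rw [pow_zero, Subgroup.relIndex_eq_one]
    intro c hc
    exact mem_autGroup_of_isMap ((mem_resIn hI le_rfl).1 hc).2 c fun x => (autFun_coe c x).symm
  set N := normalizerIn T P with hNdef
  have hPN : P < N := lt_normalizerIn hT hP hne
  have hNS : N ≤ S := inf_le_left.trans hTS
  obtain ⟨Ns, Ps, u, hum, huN, huP, -, D, hUD, hD⟩ := exists_position hS hF hPN.le hNS le_rfl
    (le_normalizerIn hNS) (fun x hx => ⟨hNS hx, hx.2⟩)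
  have hNsT : Ns ≤ T := le_of_iso hI inf_le_left huN
  have hPsNs : Ps ≤ Ns := fun y hy => by
    obtain ⟨x, hx, rfl⟩ := huP.surj hy
    exact huN.mem (hPN.le hx)
  have hPsT : Ps ≤ T := hPsNs.trans hNsT
  have hPsc : E.IsCentric Ps := isCentric_of_iso hI hPc huP
  -- transport to `Ps`
  obtain ⟨a, ha, u₀, hu₀, huv⟩ := exists_frattini hI hP huP.isMap
  obtain ⟨P₀, hP₀⟩ := hu₀.exists_iso
  have hP₀s : imageAut a P₀ = Ps := SetLike.coe_injective (by
    rw [← coe_imageAut a hP₀.le_right, ← hP₀.image_eq, Set.image_image, ← huP.image_eq]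
    exact Set.image_congr fun x hx => (huv x hx).symm)
  have hconj : ∀ {A B : Subgroup Ω} {f : Ω → Ω}, IsIso E A B f →
      resIn F E A ≤ resIn F E B := by
    intro A B f hf c hc
    obtain ⟨hcF, hcE⟩ := (mem_resIn hI hf.le_left).1 hc
    refine (mem_resIn hI hf.le_right).2 ⟨hcF, ?_⟩
    obtain ⟨r, hr, hr1, -⟩ := hf.exists_symm
    obtain ⟨g, hg, hgv⟩ := exists_transport hI hf.isMap hcF (coe_imageAut c hf.le_left)
    refine (((hr.isMap.comp hcE fun y hy => hr.mem hy).comp hg fun y hy => ?_)).congr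
      fun y hy => ?_
    · exact mem_imageAut c (hr.mem hy) (hf.le_left (hr.mem hy))
    · obtain ⟨x, hx, rfl⟩ := hf.surj hy
      show g (autFun c (r (f x))) = _
      rw [hr1 x hx, hgv x hx]
  obtain ⟨r₀, hr₀, -, -⟩ := hP₀.exists_symm
  have hresP : resIn F E P = resIn F E P₀ := le_antisymm (hconj hP₀) (hconj hr₀)
  have hmapres : (resIn F E P₀).map (MulAut.conj a).toMonoidHom = resIn F E Ps := by
    have hsub : ∀ {b : MulAut T}, b ∈ F.autGroup T → ∀ {A B : Subgroup Ω}, A ≤ T →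
        imageAut b A = B → ∀ c ∈ resIn F E A, b * c * b⁻¹ ∈ resIn F E B := by
      intro b hb A B hA hAB c hc
      obtain ⟨hcF, hcE⟩ := (mem_resIn hI hA).1 hc
      obtain ⟨g, hg, hgv⟩ := exists_transport hI hcE hb (P' := B)
        (by rw [coe_imageAut b hA, hAB])
      refine (mem_resIn hI hg.le).2
        ⟨(F.autGroup T).mul_mem ((F.autGroup T).mul_mem hb hcF) ((F.autGroup T).inv_mem hb),
          hg.congr fun y hy => ?_⟩
      rw [← SetLike.mem_coe, ← hAB, ← coe_imageAut b hA] at hy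
      obtain ⟨x, hx, rfl⟩ := hy
      rw [hgv x hx, autFun_mul _ _ (autFun_mem b (hA hx)), inv_mul_autFun b (hA hx),
        autFun_mul _ _ (hA hx)]
    apply le_antisymm
    · rintro _ ⟨c, hc, rfl⟩
      exact hsub ha hP₀.le_right hP₀s c hc
    · intro c hc
      have hback : imageAut a⁻¹ Ps = P₀ := SetLike.coe_injective (by
        rw [← coe_imageAut a⁻¹ hPsT, ← hP₀s, ← coe_imageAut a hP₀.le_right, Set.image_image]
        exact (Set.image_congr fun x hx => inv_mul_autFun a (hP₀.le_right hx)).trans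
          (Set.image_id _))
      refine ⟨a⁻¹ * c * a⁻¹⁻¹, hsub ((F.autGroup T).inv_mem ha) hPsT hback c hc, ?_⟩
      simp [mul_assoc]
  have hmapK : (E.autGroup T).map (MulAut.conj a).toMonoidHom = E.autGroup T := by
    have hsub : ∀ {b : MulAut T}, b ∈ F.autGroup T → ∀ c ∈ E.autGroup T,
        b * c * b⁻¹ ∈ E.autGroup T := fun {b} hb c hc =>
      mem_autGroup_transport hI le_rfl ((mem_autGroup_iff hTS b).1 hb) hc fun x hx => by
        rw [autFun_mul _ _ (autFun_mem b hx), inv_mul_autFun b hx, autFun_mul _ _ hx]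
    refine le_antisymm (by rintro _ ⟨c, hc, rfl⟩; exact hsub ha c hc) fun c hc => ?_
    exact ⟨_, hsub ((F.autGroup T).inv_mem ha) c hc, by simp [mul_assoc]⟩
  rw [hresP, ← Subgroup.relIndex_map_map_of_injective _ _ (f := (MulAut.conj a).toMonoidHom)
    (MulAut.conj a).injective, hmapres, hmapK]
  -- climb from `Ps` to `Ns`
  have hNsc : E.IsCentric Ns := isCentric_of_le hPsc hPsNs hNsT
  obtain ⟨k, hk⟩ := ih _ (by
    have h1 := SatExtend.card_lt_card hNS hPN
    have h2 := huN.card_eq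
    have h3 : Nat.card Ns ≤ Nat.card T := Subgroup.card_le_of_le hNsT
    omega) Ns rfl hNsc
  have hnorm : ∀ x ∈ Ns, x ∈ Subgroup.normalizer (Ps : Set Ω) := fun y hy => by
    obtain ⟨x, hx, rfl⟩ := huN.surj hy
    exact (hum.mem_normalizerIn hPN.le huP hx hx.2).2
  have hSTn : ∀ s ∈ S, s ∈ Subgroup.normalizer (T : Set Ω) := fun s hs =>
    mem_normalizer_of_conj_mem hTS fun _ hx =>
      isMap_mem_of_stronglyClosed hI.2.1 (isMap_conj le_rfl hs) (hTS hx) hx
  have hSig : autInducedBy (centralizerIn S Ps) T ≤ resIn F E Ps := fun σ hσ => by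
    obtain ⟨s, hs, hsv⟩ := (mem_autInducedBy_iff _ T σ).1 hσ
    refine (mem_resIn hI hPsT).2
      ⟨autInducedBy_le_autGroup hTS (autInducedBy_mono inf_le_left T hσ), ?_⟩
    refine (isMap_id hPsT).congr fun x hx => ?_
    rw [autFun_apply _ (hPsT hx), hsv, conj_eq_self_of_mem_centralizer hs.2 hx]
    rfl
  obtain ⟨l, hl⟩ : ∃ l, (resIn F E Ns).relIndex (resIn F E Ps) = p ^ l := by
    refine exists_relIndex_pow (isPGroup_autInducedBy (hS.to_le inf_le_left) T) hSig fun c hc => ?_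
    obtain ⟨hcF, hcE⟩ := (mem_resIn hI hPsT).1 ((resIn F E Ps).inv_mem hc)
    set d := c⁻¹ with hd
    obtain ⟨Q, hQ⟩ := hcE.exists_iso
    have hQc : E.IsCentric Q := isCentric_of_isConj hPsc hQ.isConj
    have hrec := isReceptive_of_isFullyCentralized hT hEs (isFullyCentralized_of_isCentric hQc)
    obtain ⟨f, hf, hfv⟩ := (isReceptive_iff.1 hrec).2 Ps _ hQ
    have hdm := ((mem_autGroup_iff hTS d).1 hcF).isMap
    have hN : Ns ≤ nPhi T Ps (autFun d) := fun y hy =>
      ⟨hNsT hy, hnorm y hy, autFun d y, autFun_mem _ (hNsT hy),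
        fun x hx => hdm.map_conj (hNsT hy) (hPsT hx)⟩
    have hfE := hf.mono hN
    -- the images of `Ns` under `f` and `d` agree
    have hdiff : ∀ y ∈ Ns, (autFun d y)⁻¹ * f y ∈ Q := fun y hy => by
      refine hQc.2 Q (isConj_refl hQc.1)
        ⟨T.mul_mem (T.inv_mem (autFun_mem _ (hNsT hy))) (hfE.mem hy), ?_⟩
      refine mem_centralizer_of_conj_eq fun z hz => ?_
      obtain ⟨x, hx, rfl⟩ := hQ.surj hz
      have h1 := hfE.map_conj hy (hPsNs hx)
      rw [hfv _ (conj_mem_of_mem_normalizer (hnorm y hy) hx), hfv x hx,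
        hdm.map_conj (hNsT hy) (hPsT hx)] at h1
      calc ((autFun d y)⁻¹ * f y) * autFun d x * ((autFun d y)⁻¹ * f y)⁻¹
          = (autFun d y)⁻¹ * (f y * autFun d x * (f y)⁻¹) * autFun d y := by group
        _ = (autFun d y)⁻¹ * (autFun d y * autFun d x * (autFun d y)⁻¹) * autFun d y := by rw [h1]
        _ = autFun d x := by group
    have hQB : Q ≤ imageAut d Ns := fun z hz => by
      obtain ⟨x, hx, rfl⟩ := hQ.surj hz
      exact mem_imageAut d (hPsNs hx) (hPsT hx)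
    have hmem : ∀ y ∈ Ns, f y ∈ imageAut d Ns := fun y hy => by
      rw [← mul_inv_cancel_left (autFun d y) (f y)]
      exact Subgroup.mul_mem _ (mem_imageAut d hy (hNsT hy)) (hQB (hdiff y hy))
    have := finite_of_le (imageAut_le d Ns)
    have hdiso : IsIso F Ns (imageAut d Ns) (autFun d) :=
      ⟨hdm.mono hNsT, coe_imageAut d hNsT⟩
    have hfiso : IsIso E Ns (imageAut d Ns) f := hfE.isIso_of_card_le hmem (hdiso.card_eq).le
    obtain ⟨r, hr, hr1, hr2⟩ := (hfiso.of_subsystem hI.1).exists_symm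
    obtain ⟨γ, hγ, hγv⟩ := exists_mem_autGroup (hdiso.comp hr)
    have hγfix : ∀ x : Ns, (x : Ω) ∈ Ps → γ x = x := fun x hx => Subtype.ext (by
      rw [hγv]
      show r (autFun d x) = x
      rw [← hfv x hx, hr1 x x.2])
    have := finite_of_le (hNsT.trans hTS)
    have hγst : γ ∈ sclStabAut Ns Ps := SatExtend.stab_iff hPsNs fun x hx => by rwa [hγfix x hx]
    have hγU : (⟨γ, hγ, hγst⟩ : SatExtend.stabF F Ns Ps) ∈ trivMod F Ns Ps := by
      refine ⟨hγfix, fun x => ?_⟩
      refine hPsc.2 Ps (isConj_refl hPsT) ⟨hNsT (SetLike.coe_mem _), ?_⟩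
      refine mem_centralizer_of_conj_eq fun z hz => ?_
      have hcm := conj_mem_of_mem_normalizer (hnorm x x.2) hz
      have h1 : (γ (x * ⟨z, hPsNs hz⟩ * x⁻¹) : Ω) = (x : Ω) * z * (x : Ω)⁻¹ := by
        rw [hγfix _ hcm]; rfl
      rw [map_mul, map_mul, map_inv, hγfix ⟨z, hPsNs hz⟩ hz] at h1
      have h2 : ((γ x : Ns) : Ω) * z * ((γ x : Ns) : Ω)⁻¹ = (x : Ω) * z * (x : Ω)⁻¹ := h1
      show ((x : Ω)⁻¹ * (γ x : Ω)) * z * ((x : Ω)⁻¹ * (γ x : Ω))⁻¹ = z
      rw [mul_inv_rev, inv_inv]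
      calc (x : Ω)⁻¹ * (γ x : Ω) * z * ((γ x : Ω)⁻¹ * (x : Ω))
          = (x : Ω)⁻¹ * ((γ x : Ω) * z * (γ x : Ω)⁻¹) * (x : Ω) := by group
        _ = z := by rw [h2]; group
    have hγD := hUD hγU
    rw [hD, Subgroup.mem_subgroupOf] at hγD
    obtain ⟨s, hs, hsv⟩ := (mem_autInducedBy_iff S Ns γ).1 hγD.1
    have hsC : s ∈ centralizerIn S Ps := ⟨hs, mem_centralizer_of_conj_eq fun z hz => by
      have h1 := hsv ⟨z, hPsNs hz⟩
      rw [hγfix ⟨z, hPsNs hz⟩ hz] at h1
      exact h1.symm⟩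
    set σ := conjAut T (hSTn s hs)
    have hσ : σ ∈ autInducedBy (centralizerIn S Ps) T := conjAut_mem_autInducedBy _ hsC
    refine ⟨σ⁻¹, Subgroup.inv_mem _ hσ, ?_⟩
    rw [inv_inv, show σ * c = (d * σ⁻¹)⁻¹ by rw [hd, mul_inv_rev, inv_inv, inv_inv]]
    refine Subgroup.inv_mem _ ((mem_resIn hI hNsT).2
      ⟨(F.autGroup T).mul_mem hcF ((F.autGroup T).inv_mem
        (autInducedBy_le_autGroup hTS (autInducedBy_mono inf_le_left T hσ))), ?_⟩)
    refine hfE.congr fun y hy => ?_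
    -- `d σ⁻¹ = f` on `Ns`
    obtain ⟨w, hw⟩ := γ.surjective ⟨y, hy⟩
    have hwv := congrArg Subtype.val hw
    have hσw : autFun σ⁻¹ y = w := by
      have h1 : autFun σ (w : Ω) = y := by
        rw [autFun_apply σ (hNsT w.2), conjAut_apply]
        exact (hsv w).symm.trans hwv
      rw [← h1, inv_mul_autFun σ (hNsT w.2)]
    rw [autFun_mul _ _ (hNsT hy), hσw]
    have h3 : r (autFun d w) = y := (hγv w).symm.trans hwv
    rw [← h3, hr2 _ (hdiso.mem w.2)]
  refine ⟨k + l, ?_⟩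
  rw [pow_add, ← hk, ← hl]
  exact (Subgroup.relIndex_mul_relIndex _ _ _ (autGroup_le_resIn hI hNsT)
    (resIn_mono hPsNs)).symm

/-- An automorphism of `T` of order prime to `p` whose restriction to a centric subgroup lies in `E`
lies in `E`. -/
theorem mem_autGroup_of_restrict (hS : IsPGroup p S) (h : E.IsWeaklyNormalIn F p)
    {P : Subgroup Ω} (hP : E.IsCentric P) {c : MulAut T} (hc : c ∈ F.autGroup T)
    (ho : (orderOf c).Coprime p) (hm : IsMap E P (autFun c)) : c ∈ E.autGroup T := by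
  have hI := h.2.2
  have := finite_of_le hI.2.1.1
  have := finite_mulAut T
  obtain ⟨k, hk⟩ := exists_relIndex_resIn hS h _ P rfl hP
  set R := resIn F E P
  haveI : ((E.autGroup T).subgroupOf R).Normal := ⟨fun x hx y => by
    rw [Subgroup.mem_subgroupOf] at hx ⊢
    refine mem_autGroup_transport hI le_rfl
      ((mem_autGroup_iff hI.2.1.1 (y : MulAut T)).1 ((mem_resIn hI hP.1).1 y.2).1) hx
      fun z hz => ?_
    simp only [Subgroup.coe_mul, Subgroup.coe_inv]
    rw [autFun_mul _ _ (autFun_mem _ hz), inv_mul_autFun _ hz, autFun_mul _ _ hz]⟩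
  have hpow := Subgroup.mem_subgroupOf.1 (Subgroup.pow_index_mem ((E.autGroup T).subgroupOf R)
    (⟨c, (mem_resIn hI hP.1).2 ⟨hc, hm⟩⟩ : R))
  obtain ⟨m, hmv⟩ := exists_pow_eq_self_of_coprime (x := c) (n := p ^ k) (ho.symm.pow_left k)
  rw [← hmv]
  refine (E.autGroup T).pow_mem ?_ m
  rw [SubgroupClass.coe_pow] at hpow
  change c ^ (E.autGroup T).relIndex R ∈ _ at hpow
  rwa [hk] at hpow

omit [Finite S] in
/-- Elements of `Aut_E(T)` split as inner times order prime to `p`. -/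
theorem exists_inner_mul [Finite T] (hT : IsPGroup p T) (hE : E.IsSaturated p) {b : MulAut T}
    (hb : b ∈ E.autGroup T) :
    ∃ x ∈ T, ∃ m : ℕ, (orderOf (b ^ m)).Coprime p ∧
      ∀ y : T, ((b ^ m) y : Ω) = x * (b y : Ω) * x⁻¹ := by
  have := finite_mulAut T
  obtain ⟨m, hm1, hmo⟩ := exists_pPrime_pow b (o := orderOf b / p ^ (orderOf b).factorization p)
    (Nat.coprime_ordCompl (Fact.out : p.Prime) (orderOf_pos b).ne').symm
  set q := b ^ m * b⁻¹ with hq
  have hqp : IsPGroup p (Subgroup.zpowers q) := by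
    refine IsPGroup.of_card (n := Nat.factorization (orderOf q) p) ?_
    rw [Nat.card_zpowers]
    obtain ⟨c, hc⟩ : orderOf b / p ^ (orderOf b).factorization p ∣ m + (orderOf b - 1) := by
      have h1 := hm1.add_right (orderOf b - 1)
      rw [Nat.add_sub_cancel' (orderOf_pos b)] at h1
      exact Nat.modEq_zero_iff_dvd.1 (h1.trans (Nat.modEq_zero_iff_dvd.2 (Nat.ordCompl_dvd _ _)))
    have hd : orderOf q ∣ p ^ (orderOf b).factorization p := by
      refine orderOf_dvd_of_pow_eq_one ?_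
      have hqb : q = b ^ (m + (orderOf b - 1)) := by
        rw [hq, pow_add, eq_comm, mul_right_inj, eq_inv_iff_mul_eq_one, ← pow_succ,
          Nat.sub_add_cancel (orderOf_pos b), pow_orderOf_eq_one]
      rw [hqb, hc, ← pow_mul, ← orderOf_dvd_iff_pow_eq_one]
      exact ⟨c, by rw [mul_comm, ← mul_assoc, Nat.ordProj_mul_ordCompl_eq_self]⟩
    obtain ⟨j, -, hj⟩ := (Nat.dvd_prime_pow (Fact.out : p.Prime)).1 hd
    rw [hj, (Fact.out : p.Prime).factorization_pow, Finsupp.single_eq_same]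
  have hqE : q ∈ E.autGroup T :=
    (E.autGroup T).mul_mem ((E.autGroup T).pow_mem hb m) ((E.autGroup T).inv_mem hb)
  obtain ⟨U, hU, ha, -⟩ := hE T le_rfl
  obtain ⟨f, hf⟩ := isConj_iff.1 hU
  have hUT : U = T := Subgroup.eq_of_le_of_card_ge hf.le_right hf.card_eq.ge
  subst hUT
  obtain ⟨δ, hδ, hδv⟩ := ((isFullyAutomized_iff hT).1 ha).2 (Subgroup.zpowers q)
    (Subgroup.zpowers_le.2 hqE) hqp
  obtain ⟨g, hg, hgv⟩ := (mem_autInducedBy_iff _ _ _).1 (hδv q (Subgroup.mem_zpowers q))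
  refine ⟨(δ⁻¹ ⟨g, hg⟩ : Ω), SetLike.coe_mem _, m, hmo, fun y => ?_⟩
  have hbq : b ^ m = q * b := by rw [hq, inv_mul_cancel_right]
  have h2 : (δ * q * δ⁻¹) (δ (b y)) = ⟨g, hg⟩ * δ (b y) * ⟨g, hg⟩⁻¹ := Subtype.ext (hgv _)
  have h3 := congrArg (⇑δ⁻¹) h2
  simp only [MulAut.mul_apply, MulAut.inv_apply_self, map_mul, map_inv] at h3
  rw [hbq, MulAut.mul_apply, h3]
  rfl

/-! ### Covering -/

/-- A weakly normal system covers every other one on the same subgroup. -/
theorem covers_of_weaklyNormal (hS : IsPGroup p S) (hE : E.IsWeaklyNormalIn F p)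
    (hD : D.IsWeaklyNormalIn F p) {P : Subgroup Ω} (hP : P ≤ T) :
    PPrime.opc E p P ≤ D.autGroup P := by
  have hI := hD.2.2
  have hTS := hI.2.1.1
  have := finite_of_le hTS
  have hT : IsPGroup p T := hS.to_le hTS
  rw [PPrime.opc_eq, Subgroup.closure_le]
  rintro α ⟨hα, k, hk⟩
  obtain ⟨R, hR, hRa, -⟩ := hE.1 P hP
  obtain ⟨φ, hφ⟩ := isConj_iff.1 hR
  have hp' : IsPGroup p ((Subgroup.zpowers α).map (MulAut.congr hφ.equiv).toMonoidHom) := by
    have := finite_of_le hP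
    have := finite_mulAut P
    exact (IsPGroup.of_card (n := k) (by rw [Nat.card_zpowers, hk])).map _
  obtain ⟨δ, hδ, hδv⟩ := ((isFullyAutomized_iff hT).1 hRa).2 _
    (by rintro _ ⟨b, hb, rfl⟩
        exact hφ.congr_mem_autGroup (Subgroup.zpowers_le.2 hα hb)) hp'
  have hc := hδv _ ⟨α, Subgroup.mem_zpowers α, rfl⟩
  have hψ : IsIso E P R (autFun δ ∘ φ) := hφ.comp ((mem_autGroup_iff hRa.1 δ).1 hδ)
  obtain ⟨r, hr, hr1, -⟩ := hψ.exists_symm
  refine mem_autGroup_transport hI hRa.1 (hr.of_subsystem hE.2.2.1)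
    (autInducedBy_le_autGroup hRa.1 hc) fun y hy => ?_
  obtain ⟨x, hx, rfl⟩ := hψ.surj hy
  rw [hr1 x hx]
  have h1 : autFun (δ * MulAut.congr hφ.equiv α * δ⁻¹) ((autFun δ ∘ φ) x) =
      (autFun δ ∘ φ) (autFun α x) := by
    show _ = autFun δ (φ (autFun α x))
    rw [autFun_apply α hx, ← hφ.congr_apply α ⟨x, hx⟩, autFun_coe,
      show (autFun δ ∘ φ) x = ((δ (hφ.equiv ⟨x, hx⟩) : R) : Ω) from autFun_apply δ (hφ.mem hx),
      autFun_coe, MulAut.mul_apply, MulAut.mul_apply, MulAut.inv_apply_self]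
  exact (congrArg r h1).trans (hr1 _ (autFun_mem α hx))

/-- The least closed system of `E` lies in every weakly normal system on the same subgroup. -/
theorem E0_le_of_weaklyNormal (hS : IsPGroup p S) (hE : E.IsWeaklyNormalIn F p)
    (hD : D.IsWeaklyNormalIn F p) : (PPrime.E0 E p).IsSubsystemOf D := by
  have hI := hD.2.2
  have := finite_of_le hI.2.1.1
  have hT : IsPGroup p T := hS.to_le hI.2.1.1
  set M := PPrime.meet E (fun X => X = D)
  have hMD : M.IsSubsystemOf D := PPrime.meet_le rfl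
  have hclosed : PPrime.Closed E p M := by
    refine ⟨PPrime.covers_meet fun X hX P hP => hX ▸ covers_of_weaklyNormal hS hE hD hP.1,
      fun b hb P hP hm => ?_⟩
    refine PPrime.mem_autGroup_meet le_rfl hb fun X hX => ?_
    subst hX
    have hmD := isMap_of_subsystem hMD hm
    obtain ⟨x, hx, m, hmo, hxv⟩ := exists_inner_mul hT hE.1 hb
    have hbm : b ^ m ∈ X.autGroup T := by
      have hXc : X.IsCentric P := by
        refine ⟨hP.1, fun Q hQ => ?_⟩
        exact (isCentric_of_iso hE.2.2 hP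
          ((isConj_iff.1 hQ).choose_spec.of_subsystem hI.1)).2 Q (isConj_refl (le_of_isConj hQ).2)
      refine mem_autGroup_of_restrict hS hD hXc ?_ hmo ?_
      · exact (F.autGroup T).pow_mem ((mem_autGroup_iff hI.2.1.1 b).2
          (((mem_autGroup_iff le_rfl b).1 hb).of_subsystem hE.2.2.1)) m
      · refine (hmD.comp (isMap_conj le_rfl hx) fun y hy => autFun_mem b (hP.1 hy)).congr
          fun y hy => ?_
        rw [Function.comp_apply, autFun_apply b (hP.1 hy), autFun_apply _ (hP.1 hy), hxv]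
    have hxi := X.autGroup T |>.inv_mem (autInducedBy_le_autGroup le_rfl
      (conjAut_mem_autInducedBy (K := T) (Subgroup.le_normalizer hx) hx))
    have e : b = (conjAut T (Subgroup.le_normalizer hx))⁻¹ * b ^ m := by
      rw [eq_inv_mul_iff_mul_eq]
      exact MulEquiv.ext fun y => Subtype.ext (by rw [MulAut.mul_apply, conjAut_apply, hxv])
    exact e ▸ (X.autGroup T).mul_mem hxi hbm
  exact fun P => (PPrime.meet_le hclosed P).trans (hMD P)

end CfsgLib.Fusion.Residual
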