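import Cfsg.Agent.Lib.Fusion.AgreeCentric
import Cfsg.Agent.Lib.Fusion.WeaklyNormalResidual
import Cfsg.Agent.Lib.Fusion.NormalizerSaturated
import Cfsg.Agent.Lib.Fusion.StrongInvariance
import Cfsg.Agent.Lib.Fusion.ModelNormalBase

/-!
The extension lemma for a normal subsystem `E` of `F`: for every `E`-centric `U`, every
automorphism of `U` in `E` extends to an automorphism of `U C_S(U)` in `F` which is trivial on
`C_S(U)` modulo `U`.
-/

set_option autoImplicit false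

namespace CfsgLib.Fusion.NormalCentralizer

open Cfsg Cfsg.FusionSystem

variable {Ω : Type*} [Group Ω] {S T : Subgroup Ω} {F : FusionSystem S} {E : FusionSystem T}

/-- `α` extends to an automorphism of `U C_S(U)` in `F` centralising `C_S(U)` modulo `U`. -/
def HasExt (F : FusionSystem S) (U : Subgroup Ω) (α : MulAut U) : Prop :=
  ∃ δ : MulAut ↥(U ⊔ centralizerIn S U), δ ∈ F.autGroup (U ⊔ centralizerIn S U) ∧
    (∀ x ∈ U, autFun δ x = autFun α x) ∧ ∀ c ∈ centralizerIn S U, c⁻¹ * autFun δ c ∈ U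

theorem centralizerIn_le_centralizer (S U : Subgroup Ω) :
    centralizerIn S U ≤ Subgroup.centralizer (U : Set Ω) :=
  inf_le_right

theorem sup_centralizerIn_le {U : Subgroup Ω} (hU : U ≤ S) : U ⊔ centralizerIn S U ≤ S :=
  sup_le hU inf_le_left

theorem autFun_one {P : Subgroup Ω} {x : Ω} (hx : x ∈ P) : autFun (1 : MulAut P) x = x := by
  rw [autFun_apply _ hx]
  rfl

theorem autFun_inv_self {P : Subgroup Ω} (δ : MulAut P) {x : Ω} (hx : x ∈ P) :
    autFun δ⁻¹ (autFun δ x) = x := by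
  rw [← autFun_mul δ⁻¹ δ hx, inv_mul_cancel, autFun_one hx]

theorem autFun_self_inv {P : Subgroup Ω} (δ : MulAut P) {x : Ω} (hx : x ∈ P) :
    autFun δ (autFun δ⁻¹ x) = x := by
  rw [← autFun_mul δ δ⁻¹ hx, mul_inv_cancel, autFun_one hx]

/-- The inverse extends the inverse. -/
theorem autFun_inv_eq {P U : Subgroup Ω} (hU : U ≤ P) {δ : MulAut P} {α : MulAut U}
    (h : ∀ x ∈ U, autFun δ x = autFun α x) {x : Ω} (hx : x ∈ U) :
    autFun δ⁻¹ x = autFun α⁻¹ x := by
  have hy := autFun_mem α⁻¹ hx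
  have e : autFun δ (autFun α⁻¹ x) = x := by rw [h _ hy, autFun_self_inv α hx]
  conv_lhs => rw [← e]
  rw [autFun_inv_self δ (hU hy)]

/-- An automorphism preserving `U` preserves its centraliser. -/
theorem autFun_mem_centralizerIn {P U : Subgroup Ω} (hU : U ≤ P) {δ : MulAut P} {α : MulAut U}
    (hδ : δ ∈ F.autGroup P) (hP : P ≤ S) (h : ∀ x ∈ U, autFun δ x = autFun α x) {c : Ω}
    (hc : c ∈ centralizerIn S U) (hcP : c ∈ P) : autFun δ c ∈ centralizerIn S U := by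
  have hm := ((mem_autGroup_iff hP δ).1 hδ).isMap
  refine ⟨hm.mem hcP, mem_centralizer_of_conj_eq fun x hx => ?_⟩
  have hy := autFun_mem α⁻¹ hx
  have hxy : autFun δ (autFun α⁻¹ x) = x := by rw [h _ hy, autFun_self_inv α hx]
  rw [← hxy, ← hm.map_conj hcP (hU hy), conj_eq_self_of_mem_centralizer hc.2 hy]

theorem hasExt_one {U : Subgroup Ω} : HasExt F U 1 :=
  ⟨1, Subgroup.one_mem _, fun x hx => by rw [autFun_one (Subgroup.mem_sup_left hx), autFun_one hx],
    fun c hc => by rw [autFun_one (Subgroup.mem_sup_right hc), inv_mul_cancel]; exact U.one_mem⟩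

theorem HasExt.mul {U : Subgroup Ω} (hU : U ≤ S) {α β : MulAut U} (hα : HasExt F U α)
    (hβ : HasExt F U β) : HasExt F U (α * β) := by
  obtain ⟨δ, hδ, hδU, hδc⟩ := hα
  obtain ⟨ε, hε, hεU, hεc⟩ := hβ
  refine ⟨δ * ε, Subgroup.mul_mem _ hδ hε, fun x hx => ?_, fun c hc => ?_⟩
  · rw [autFun_mul _ _ (Subgroup.mem_sup_left hx), hεU x hx, hδU _ (autFun_mem β hx),
      autFun_mul _ _ hx]
  have hcV : c ∈ U ⊔ centralizerIn S U := Subgroup.mem_sup_right hc
  have hm := ((mem_autGroup_iff (sup_centralizerIn_le hU) δ).1 hδ).isMap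
  have e : autFun ε c = c * (c⁻¹ * autFun ε c) := by group
  rw [autFun_mul _ _ hcV, e, hm.map_mul hcV (Subgroup.mem_sup_left (hεc c hc)),
    hδU _ (hεc c hc), ← mul_assoc]
  exact U.mul_mem (hδc c hc) (autFun_mem α (hεc c hc))

theorem HasExt.inv {U : Subgroup Ω} (hU : U ≤ S) {α : MulAut U} (hα : HasExt F U α) :
    HasExt F U α⁻¹ := by
  obtain ⟨δ, hδ, hδU, hδc⟩ := hα
  refine ⟨δ⁻¹, Subgroup.inv_mem _ hδ, fun x hx => autFun_inv_eq le_sup_left hδU hx,
    fun c hc => ?_⟩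
  have hcV : c ∈ U ⊔ centralizerIn S U := Subgroup.mem_sup_right hc
  have h1 := autFun_mem_centralizerIn le_sup_left (Subgroup.inv_mem _ hδ)
    (sup_centralizerIn_le hU) (fun x hx => autFun_inv_eq le_sup_left hδU hx) hc hcV
  have h2 := hδc _ h1
  rw [autFun_self_inv δ hcV] at h2
  simpa using U.inv_mem h2

/-- The automorphisms with such extensions. -/
def extGroup (F : FusionSystem S) (U : Subgroup Ω) (hU : U ≤ S) : Subgroup (MulAut U) where
  carrier := {α | HasExt F U α}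
  one_mem' := hasExt_one
  mul_mem' := HasExt.mul hU
  inv_mem' := HasExt.inv hU

/-- Extensions from maps defined on larger subgroups. -/
theorem hasExt_of_isMap [Finite S] {U X : Subgroup Ω} {g : Ω → Ω} (hg : IsMap F X g)
    (hX : U ⊔ centralizerIn S U ≤ X) {α : MulAut U} (hU : ∀ x ∈ U, g x = autFun α x)
    (hc : ∀ c ∈ centralizerIn S U, c⁻¹ * g c ∈ U) : HasExt F U α := by
  have hVS := hX.trans hg.le
  have := finite_of_le hVS
  have hmap : ∀ y ∈ U ⊔ centralizerIn S U, g y ∈ U ⊔ centralizerIn S U := by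
    intro y hy
    obtain ⟨u, hu, c, hcc, rfl⟩ :=
      Residual.exists_mul_of_mem_sup (centralizerIn_le_centralizer S U) hy
    rw [hg.map_mul (hX (Subgroup.mem_sup_left hu)) (hX (Subgroup.mem_sup_right hcc)), hU u hu,
      show g c = c * (c⁻¹ * g c) by group]
    exact Subgroup.mul_mem _ (Subgroup.mem_sup_left (autFun_mem α hu))
      (Subgroup.mul_mem _ (Subgroup.mem_sup_right hcc) (Subgroup.mem_sup_left (hc c hcc)))
  obtain ⟨δ, hδ, hδv⟩ := exists_mem_autGroup ((hg.mono hX).isIso_of_card_le hmap le_rfl)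
  refine ⟨δ, hδ, fun x hx => ?_, fun c hcc => ?_⟩
  · rw [autFun_apply δ (Subgroup.mem_sup_left hx), hδv]
    exact hU x hx
  · rw [autFun_apply δ (Subgroup.mem_sup_right hcc), hδv]
    exact hc c hcc

theorem autFun_pow_eq {P U : Subgroup Ω} (hU : U ≤ P) {δ : MulAut P} {α : MulAut U}
    (h : ∀ x ∈ U, autFun δ x = autFun α x) :
    ∀ (k : ℕ), ∀ x ∈ U, autFun (δ ^ k) x = autFun (α ^ k) x := by
  intro k
  induction k with
  | zero => intro x hx; rw [pow_zero, pow_zero, autFun_one (hU hx), autFun_one hx]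
  | succ k ih =>
    intro x hx
    rw [pow_succ', pow_succ', autFun_mul _ _ (hU hx), ih x hx, h _ (autFun_mem _ hx),
      autFun_mul _ _ hx]

variable {p : ℕ} [Fact p.Prime] [Finite S]

omit [Finite S] in
theorem normalizer_T (hI : E.IsInvariantIn F) {s x : Ω} (hs : s ∈ S) (hx : x ∈ T) :
    s * x * s⁻¹ ∈ T :=
  isMap_mem_of_stronglyClosed hI.2.1 (isMap_conj (F := F) hI.2.1.1 hs) hx hx

omit [Finite S] in
theorem mem_centralizerIn_conj {U : Subgroup Ω} {s c : Ω} (hs : s ∈ normalizerIn S U)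
    (hc : c ∈ centralizerIn S U) : s * c * s⁻¹ ∈ centralizerIn S U := by
  refine ⟨S.mul_mem (S.mul_mem hs.1 hc.1) (S.inv_mem hs.1), mem_centralizer_of_conj_eq
    fun x hx => ?_⟩
  have h := conj_eq_self_of_mem_centralizer hc.2
    (conj_mem_of_mem_normalizer (Subgroup.inv_mem _ hs.2) hx)
  calc s * c * s⁻¹ * x * (s * c * s⁻¹)⁻¹ = s * (c * (s⁻¹ * x * s⁻¹⁻¹) * c⁻¹) * s⁻¹ := by group
    _ = x := by rw [h]; group

/-- In a fully centralised `U` the extendable automorphisms are invariant under `Aut_F(U)`. -/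
theorem conj_mem_extGroup (hS : IsPGroup p S) (hF : F.IsSaturated p) {U : Subgroup Ω}
    (hU : F.IsFullyCentralized U) {γ α : MulAut U} (hγ : γ ∈ F.autGroup U) (hα : HasExt F U α) :
    HasExt F U (γ * α * γ⁻¹) := by
  have hUS := hU.1
  set V := U ⊔ centralizerIn S U
  obtain ⟨δ, hδ, hδU, hδc⟩ := hα
  have hVS : V ≤ S := sup_centralizerIn_le hUS
  have := finite_of_le hVS
  have hγi := (mem_autGroup_iff hUS γ).1 hγ
  obtain ⟨g, hg, hgv⟩ :=
    (isReceptive_iff.1 (isReceptive_of_isFullyCentralized hS hF hU)).2 U _ hγi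
  have hVN : V ≤ nPhi S U (autFun γ) := sup_le (le_nPhi hγi.isMap) (centralizerIn_le_nPhi U _)
  have hgi : IsIso F U U g := hγi.congr fun x hx => (hgv x hx).symm
  have hgV : ∀ y ∈ V, g y ∈ V := by
    intro y hy
    obtain ⟨u, hu, c, hc, rfl⟩ :=
      Residual.exists_mul_of_mem_sup (centralizerIn_le_centralizer S U) hy
    rw [hg.map_mul (hVN (Subgroup.mem_sup_left hu)) (hVN (Subgroup.mem_sup_right hc))]
    exact Subgroup.mul_mem_sup (hgi.mem hu)
      (hg.mem_centralizerIn (le_nPhi hγi.isMap) hgi (hVN (Subgroup.mem_sup_right hc)) hc.2)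
  obtain ⟨η, hη, hηv⟩ := exists_mem_autGroup ((hg.mono hVN).isIso_of_card_le hgV le_rfl)
  have hηU : ∀ x ∈ U, autFun η x = autFun γ x := fun x hx => by
    rw [autFun_apply η (Subgroup.mem_sup_left hx), hηv]
    exact hgv x hx
  refine ⟨η * δ * η⁻¹, Subgroup.mul_mem _ (Subgroup.mul_mem _ hη hδ) (Subgroup.inv_mem _ hη),
    fun x hx => ?_, fun c hc => ?_⟩
  · have hxV : x ∈ V := Subgroup.mem_sup_left hx
    have hx1 : autFun γ⁻¹ x ∈ U := autFun_mem _ hx
    rw [autFun_mul _ _ hxV, autFun_inv_eq le_sup_left hηU hx,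
      autFun_mul _ _ (Subgroup.mem_sup_left hx1), hδU _ hx1, hηU _ (autFun_mem α hx1),
      autFun_mul _ _ hx, autFun_mul _ _ hx1]
  have hcV : c ∈ V := Subgroup.mem_sup_right hc
  have hc' := autFun_mem_centralizerIn le_sup_left (Subgroup.inv_mem _ hη) hVS
    (fun x hx => autFun_inv_eq le_sup_left hηU hx) hc hcV
  set c' := autFun η⁻¹ c with hc'def
  have hc'V : c' ∈ V := Subgroup.mem_sup_right hc'
  have hu := hδc c' hc'
  rw [autFun_mul _ _ hcV, autFun_mul _ _ hc'V, show autFun δ c' = c' * (c'⁻¹ * autFun δ c') by group,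
    ((mem_autGroup_iff hVS η).1 hη).isMap.map_mul hc'V (Subgroup.mem_sup_left hu), hηU _ hu,
    hc'def, autFun_self_inv η hcV, inv_mul_cancel_left]
  exact autFun_mem γ hu

/-- Automorphisms induced by `N_T(U)` extend. -/
theorem hasExt_autInducedBy (hI : E.IsInvariantIn F) {U : Subgroup Ω} (hU : E.IsCentric U)
    {α : MulAut U} (hα : α ∈ autInducedBy T U) : HasExt F U α := by
  obtain ⟨t, ht, htv⟩ := (mem_autInducedBy_iff T U α).1 hα
  have hUS : U ≤ S := hU.1.trans hI.2.1.1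
  have htS : t ∈ normalizerIn S U := mem_normalizerIn_of_induces hUS (hI.2.1.1 ht) htv
  refine hasExt_of_isMap (g := fun x => t * x * t⁻¹)
    (isMap_conj (sup_centralizerIn_le hUS) htS.1) le_rfl
    (fun x hx => by rw [autFun_apply α hx]; exact (htv ⟨x, hx⟩).symm) fun c hc => ?_
  refine hU.2 U (isConj_refl hU.1) ⟨?_, Subgroup.mul_mem _ (Subgroup.inv_mem _ hc.2)
    (mem_centralizerIn_conj htS hc).2⟩
  show c⁻¹ * (t * c * t⁻¹) ∈ T
  have h := normalizer_T hI (S.inv_mem hc.1) ht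
  rw [inv_inv] at h
  rw [show c⁻¹ * (t * c * t⁻¹) = c⁻¹ * t * c * t⁻¹ by group]
  exact T.mul_mem h (T.inv_mem ht)

/-- The case of automorphisms normalising `Aut_T(U)`. -/
theorem hasExt_of_extend (hS : IsPGroup p S) (hF : F.IsSaturated p)
    (hE : E.IsWeaklyNormalIn F p) {U : Subgroup Ω} (hU : E.IsCentric U)
    {X : Subgroup Ω} (hXdef : X = normalizerIn T U)
    (hXn : F.IsFullyNormalized X) {γ₁ : MulAut X}
    (hγ₁ : γ₁ ∈ E.autGroup X) {α : MulAut U}
    (hαo : (orderOf α).Coprime p) (hres : ∀ x ∈ U, autFun γ₁ x = autFun α x)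
    (hext : HasExt F X γ₁) : HasExt F U α := by
  have hI := hE.2.2
  have hTS := hI.2.1.1
  have hTp : IsPGroup p T := hS.to_le hTS
  have := finite_of_le hTS
  have hUS : U ≤ S := hU.1.trans hTS
  have hXT : X ≤ T := hXdef.le.trans inf_le_left
  have hXS : X ≤ S := hXT.trans hTS
  have hUX : U ≤ X := hXdef.symm ▸ le_normalizerIn hU.1
  set D := centralizerIn S U with hDdef
  set CX := centralizerIn S X with hCXdef
  have hCXD : CX ≤ D := inf_le_inf_left _ (Subgroup.centralizer_le (show (U : Set Ω) ⊆ X from hUX))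
  set W := X ⊔ CX with hWdef
  obtain ⟨δ₁, hδ₁, hδ₁X, hδ₁c⟩ := hext
  have hWS : W ≤ S := sup_centralizerIn_le hXS
  have := finite_of_le hWS
  have := finite_mulAut W
  -- normalisation facts
  have hDN : ∀ d ∈ D, d ∈ normalizerIn S X := fun d hd =>
    ⟨hd.1, mem_normalizer_of_conj_mem hXS fun x hx => hXdef.ge
      ⟨normalizer_T hI hd.1 (hXdef.le hx).1,
      Subgroup.mul_mem _ (Subgroup.mul_mem _ (Subgroup.centralizer_le_normalizer _ hd.2)
        (hXdef.le hx).2) (Subgroup.inv_mem _ (Subgroup.centralizer_le_normalizer _ hd.2))⟩⟩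
  have hWN : W ≤ normalizerIn S X :=
    sup_le (le_normalizerIn hXS) (centralizerIn_le_normalizerIn S X)
  have hconjW : ∀ s ∈ normalizerIn S X, ∀ w ∈ W, s * w * s⁻¹ ∈ W := by
    intro s hs w hw
    obtain ⟨x, hx, c, hc, rfl⟩ :=
      Residual.exists_mul_of_mem_sup (centralizerIn_le_centralizer S X) hw
    rw [show s * (x * c) * s⁻¹ = (s * x * s⁻¹) * (s * c * s⁻¹) by group]
    exact Subgroup.mul_mem_sup (conj_mem_of_mem_normalizer hs.2 hx) (mem_centralizerIn_conj hs hc)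
  have hWn : ∀ s ∈ normalizerIn S X, s ∈ Subgroup.normalizer (W : Set Ω) := fun s hs =>
    mem_normalizer_of_conj_mem hWS (hconjW s hs)
  -- the normalizer system
  set N := normalizerSystem F X hXS with hNdef
  have hNs : N.IsSaturated p := isSaturated_normalizerSystem hS hF hXn fun _ => rfl
  have hiff := fun (P : Subgroup Ω) (f : Ω → Ω) =>
    isMap_normalizerSystem_iff (F := F) (Q := X) (E := N) (fun _ => rfl) (P := P) (f := f)
  have := finite_of_le (S := S) (P := normalizerIn S X) inf_le_left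
  have hNp : IsPGroup p (normalizerIn S X) := hS.to_le inf_le_left
  have hWfull : N.IsFullyNormalized W := by
    refine ⟨hWN, fun Q hQ => ?_⟩
    obtain ⟨f, hf⟩ := isConj_iff.1 hQ
    obtain ⟨-, -, g, hg, hgf, hgX⟩ := (hiff _ _).1 hf.isMap
    have hgi : IsIso F X X g := ⟨hg.mono le_sup_right, hgX⟩
    have hQW : Q ≤ W := fun y hy => by
      obtain ⟨w, hw, rfl⟩ := hf.surj hy
      obtain ⟨x, hx, c, hc, rfl⟩ :=
        Residual.exists_mul_of_mem_sup (centralizerIn_le_centralizer S X) hw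
      rw [← hgf _ hw, hg.map_mul (Subgroup.mem_sup_right hx)
        (Subgroup.mem_sup_left (Subgroup.mem_sup_right hc))]
      exact Subgroup.mul_mem_sup (hgi.mem hx) (hg.mem_centralizerIn le_sup_right hgi
        (Subgroup.mem_sup_left (Subgroup.mem_sup_right hc)) hc.2)
    rw [Subgroup.eq_of_le_of_card_ge hQW hf.card_eq.ge]
  have hmemY : ∀ β : MulAut W, β ∈ F.autGroup W → (∀ x ∈ X, autFun β x ∈ X) →
      β ∈ N.autGroup W := by
    intro β hβ hβX
    have hm := ((mem_autGroup_iff hWS β).1 hβ).isMap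
    have := finite_of_le hXS
    refine mem_autGroup_of_isMap (f := autFun β) ((hiff _ _).2 ⟨hWN,
      fun w hw => hWN (autFun_mem β hw), autFun β, hm.mono (sup_le le_rfl le_sup_left),
      fun _ _ => rfl, ((hm.mono le_sup_left).isIso_of_card_le hβX le_rfl).image_eq⟩) β
      fun w => (autFun_coe β w).symm
  have hYX : ∀ β ∈ N.autGroup W, ∀ x ∈ X, autFun β x ∈ X := by
    intro β hβ x hx
    obtain ⟨-, -, g, hg, hgf, hgX⟩ :=
      (hiff _ _).1 ((mem_autGroup_iff hWN β).1 hβ).isMap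
    rw [← hgf x (Subgroup.mem_sup_left hx)]
    exact hgX.subset ⟨x, hx, rfl⟩
  -- the normal `p`-subgroup of automorphisms trivial on `X` and on `W / X`
  let Lam : Subgroup (N.autGroup W) :=
    { carrier := {a | (∀ x : W, (x : Ω) ∈ X → (a : MulAut W) x = x) ∧
        ∀ x : W, ((x⁻¹ * (a : MulAut W) x : W) : Ω) ∈ X}
      one_mem' := ⟨fun _ _ => rfl, fun x => by simp⟩
      mul_mem' := by
        rintro a b ⟨ha, ha'⟩ ⟨hb, hb'⟩
        refine ⟨fun x hx => ?_, fun x => ?_⟩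
        · rw [Subgroup.coe_mul, MulAut.mul_apply, hb x hx, ha x hx]
        · show ((x⁻¹ * (a : MulAut W) ((b : MulAut W) x) : W) : Ω) ∈ X
          rw [show x⁻¹ * (a : MulAut W) ((b : MulAut W) x) = (x⁻¹ * (b : MulAut W) x) *
              (((b : MulAut W) x)⁻¹ * (a : MulAut W) ((b : MulAut W) x)) by group, Subgroup.coe_mul]
          exact X.mul_mem (hb' x) (ha' _)
      inv_mem' := by
        rintro a ⟨ha, ha'⟩
        refine ⟨fun x hx => ?_, fun x => ?_⟩
        · rw [Subgroup.coe_inv]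
          conv_lhs => rw [← ha x hx, MulAut.inv_apply_self]
        · have h1 := X.inv_mem (ha' ((a : MulAut W)⁻¹ x))
          rw [MulAut.apply_inv_self] at h1
          rw [Subgroup.coe_inv]
          simpa [mul_inv_rev] using h1 }
  have hLn : Lam.Normal := by
    refine ⟨fun a ha b => ⟨fun x hx => ?_, fun x => ?_⟩⟩
    · have h1 := hYX _ (Subgroup.inv_mem _ b.2) _ hx
      rw [autFun_coe] at h1
      rw [Subgroup.coe_mul, Subgroup.coe_mul, Subgroup.coe_inv, MulAut.mul_apply, MulAut.mul_apply,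
        ha.1 _ h1, MulAut.apply_inv_self]
    · have h1 := hYX _ b.2 _ (ha.2 ((b : MulAut W)⁻¹ x))
      rw [autFun_coe, map_mul, map_inv, MulAut.apply_inv_self] at h1
      exact h1
  have hLp : IsPGroup p Lam := by
    let L : ℕ → Subgroup W := fun i => if i = 0 then ⊥ else if i = 1 then X.subgroupOf W else ⊤
    have h := isPGroup_of_stabilizes_series (hS.to_le hWS) L 2 (if_pos rfl) (by simp [L])
      (Lam.map (N.autGroup W).subtype) ?_
    · exact h.of_equiv (Lam.equivMapOfInjective _ (N.autGroup W).subtype_injective).symm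
    rintro _ ⟨a, ha, rfl⟩ i hi x hx
    interval_cases i
    · simp only [L, if_neg one_ne_zero, zero_add] at hx
      simp only [L, if_pos rfl, Subgroup.mem_bot]
      rw [show ((N.autGroup W).subtype a) x = x from ha.1 x hx, inv_mul_cancel]
    · simp only [L, if_neg one_ne_zero]
      exact ha.2 x
  obtain ⟨-, RW, hRW⟩ := isFullyAutomized_of_isFullyNormalized hNp hNs hWfull
  have hLam : Lam ≤ (autInducedBy (normalizerIn S X) W).subgroupOf (N.autGroup W) :=
    hRW ▸ (Residual.le_sylow (hn := hLn) hLp RW)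
  -- behaviour of `δ₁` modulo `X`
  have hm₁ := ((mem_autGroup_iff hWS δ₁).1 hδ₁).isMap
  have hmod : ∀ w ∈ W, w⁻¹ * autFun δ₁ w ∈ X := by
    intro w hw
    obtain ⟨x, hx, c, hc, rfl⟩ :=
      Residual.exists_mul_of_mem_sup (centralizerIn_le_centralizer S X) hw
    rw [hm₁.map_mul (Subgroup.mem_sup_left hx) (Subgroup.mem_sup_right hc), hδ₁X x hx,
      show (x * c)⁻¹ * (autFun γ₁ x * autFun δ₁ c) =
        c⁻¹ * (x⁻¹ * autFun γ₁ x) * c⁻¹⁻¹ * (c⁻¹ * autFun δ₁ c) by group]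
    exact X.mul_mem (conj_mem_of_mem_normalizer
      (Subgroup.inv_mem _ (centralizerIn_le_normalizerIn S X hc).2)
      (X.mul_mem (X.inv_mem hx) (autFun_mem γ₁ hx))) (hδ₁c c hc)
  have hmod' : ∀ w ∈ W, w⁻¹ * autFun δ₁⁻¹ w ∈ X := fun w hw => by
    have h := X.inv_mem (hmod _ (autFun_mem δ₁⁻¹ hw))
    rw [autFun_self_inv δ₁ hw] at h
    simpa using h
  -- the extender contains `D`
  have hδ₁Y : δ₁ ∈ N.autGroup W := hmemY δ₁ hδ₁ fun x hx => by
    rw [hδ₁X x hx]; exact autFun_mem γ₁ hx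
  set f₁ := autFun δ₁
  set N₁ := nPhi (normalizerIn S X) W f₁ with hN₁def
  have hkey : ∀ d ∈ D, ∃ z ∈ U, z ∈ Subgroup.centralizer (U : Set Ω) ∧ ∃ s ∈ CX,
      ∀ w ∈ W, f₁ (d * w * d⁻¹) = (z * s * d) * f₁ w * (z * s * d)⁻¹ := by
    intro d hd
    have hdX := hDN d hd
    have hdi : IsIso F X X (fun x => d * x * d⁻¹) := by
      have := finite_of_le hXS
      exact (isMap_conj hXS hd.1).isIso_of_card_le
        (fun x hx => conj_mem_of_mem_normalizer hdX.2 hx) le_rfl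
    have hν : γ₁ * (conjAut X hdX.2 * γ₁⁻¹ * (conjAut X hdX.2)⁻¹) ∈ E.autGroup X := by
      refine Subgroup.mul_mem _ hγ₁ (Residual.mem_autGroup_transport hI hXT hdi
        (Subgroup.inv_mem _ hγ₁) fun x hx => ?_)
      have hx' : d * x * d⁻¹ ∈ X := conj_mem_of_mem_normalizer hdX.2 hx
      rw [autFun_mul _ _ hx', autFun_mul _ _ (autFun_mem _ hx'),
        show autFun (conjAut X hdX.2)⁻¹ (d * x * d⁻¹) = x by
          have h := autFun_inv_self (conjAut X hdX.2) hx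
          rwa [autFun_apply _ hx, conjAut_apply] at h,
        autFun_apply (conjAut X hdX.2) (autFun_mem _ hx), conjAut_apply]
    set ν := γ₁ * (conjAut X hdX.2 * γ₁⁻¹ * (conjAut X hdX.2)⁻¹) with hνdef
    have hcdinv : ∀ x ∈ X, autFun (conjAut X hdX.2)⁻¹ x = d⁻¹ * x * d := fun x hx => by
      have hx' : d⁻¹ * x * d ∈ X := by
        simpa using conj_mem_of_mem_normalizer (Subgroup.inv_mem _ hdX.2) hx
      have h := autFun_inv_self (conjAut X hdX.2) hx'
      rw [autFun_apply _ hx', conjAut_apply, show d * (d⁻¹ * x * d) * d⁻¹ = x by group] at h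
      exact h
    have hνv : ∀ x ∈ X,
        autFun ν x = autFun γ₁ (d * autFun γ₁⁻¹ (d⁻¹ * x * d) * d⁻¹) := fun x hx => by
      rw [hνdef, autFun_mul _ _ hx, autFun_mul _ _ hx, autFun_mul _ _ (autFun_mem _ hx),
        hcdinv x hx]
      have hy : autFun γ₁⁻¹ (d⁻¹ * x * d) ∈ X :=
        autFun_mem _ (by simpa using conj_mem_of_mem_normalizer (Subgroup.inv_mem _ hdX.2) hx)
      rw [autFun_apply (conjAut X hdX.2) hy, conjAut_apply]
    have hUfix : ∀ x ∈ U, id x = autFun ν x := fun x hx => by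
      have hinv : ∀ y ∈ U, autFun γ₁⁻¹ y = autFun α⁻¹ y := fun y hy =>
        autFun_inv_eq hUX hres hy
      have hdx : d⁻¹ * x * d = x := by
        simpa using conj_eq_self_of_mem_centralizer (Subgroup.inv_mem _ hd.2) hx
      rw [hνv x (hUX hx), hdx, hinv x hx,
        conj_eq_self_of_mem_centralizer hd.2 (autFun_mem _ hx), hres _ (autFun_mem _ hx),
        autFun_self_inv α hx]
      rfl
    obtain ⟨z, hz, hzc, hzv⟩ := exists_center_of_agree hTp hE.1 (isMap_id hXT)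
      ((mem_autGroup_iff hXT ν).1 hν).isMap _ U rfl hUX hU hUfix
    have hzv' : ∀ y ∈ X, autFun ν y = z * y * z⁻¹ := hzv
    have hzX : z ∈ normalizerIn S X := le_normalizerIn hXS (hUX hz)
    set cz := conjAut W (hWn z hzX) with hczdef
    set cd := conjAut W (hWn d hdX) with hcddef
    have hconjY : ∀ s (hs : s ∈ normalizerIn S X), conjAut W (hWn s hs) ∈ N.autGroup W :=
      fun s hs => autInducedBy_le_autGroup hWN (conjAut_mem_autInducedBy _ hs)
    set μ' : N.autGroup W := ⟨cz⁻¹ * (δ₁ * cd * δ₁⁻¹ * cd⁻¹),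
      Subgroup.mul_mem _ (Subgroup.inv_mem _ (hconjY z hzX))
        (Subgroup.mul_mem _ (Subgroup.mul_mem _ (Subgroup.mul_mem _ hδ₁Y (hconjY d hdX))
          (Subgroup.inv_mem _ hδ₁Y)) (Subgroup.inv_mem _ (hconjY d hdX)))⟩ with hμdef
    have hczi : ∀ w ∈ W, autFun cz⁻¹ w = z⁻¹ * w * z := fun w hw => by
      have hw' : z⁻¹ * w * z ∈ W := by
        simpa using hconjW z⁻¹ (Subgroup.inv_mem _ hzX) w hw
      have h := autFun_inv_self cz hw'
      rw [autFun_apply _ hw', conjAut_apply, show z * (z⁻¹ * w * z) * z⁻¹ = w by group] at h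
      exact h
    have hcdi : ∀ w ∈ W, autFun cd⁻¹ w = d⁻¹ * w * d := fun w hw => by
      have hw' : d⁻¹ * w * d ∈ W := by
        simpa using hconjW d⁻¹ (Subgroup.inv_mem _ hdX) w hw
      have h := autFun_inv_self cd hw'
      rw [autFun_apply _ hw', conjAut_apply, show d * (d⁻¹ * w * d) * d⁻¹ = w by group] at h
      exact h
    have hμv : ∀ w ∈ W, autFun (μ' : MulAut W) w =
        z⁻¹ * f₁ (d * autFun δ₁⁻¹ (d⁻¹ * w * d) * d⁻¹) * z := fun w hw => by
      have h1 : d⁻¹ * w * d ∈ W := by simpa using hconjW d⁻¹ (Subgroup.inv_mem _ hdX) w hw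
      show autFun (cz⁻¹ * (δ₁ * cd * δ₁⁻¹ * cd⁻¹)) w = _
      rw [autFun_mul _ _ hw, hczi _ (autFun_mem _ hw), autFun_mul _ _ hw, hcdi w hw,
        autFun_mul _ _ h1, autFun_mul _ _ (autFun_mem _ h1), autFun_apply cd (autFun_mem _ h1),
        conjAut_apply]
    have hμL : μ' ∈ Lam := by
      refine ⟨fun x hx => ?_, fun x => ?_⟩
      · refine Subtype.ext ?_
        rw [← autFun_coe, hμv x x.2]
        have hx' : d⁻¹ * (x : Ω) * d ∈ X := by
          simpa using conj_mem_of_mem_normalizer (Subgroup.inv_mem _ hdX.2) hx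
        have hy : d * autFun γ₁⁻¹ (d⁻¹ * (x : Ω) * d) * d⁻¹ ∈ X :=
          conj_mem_of_mem_normalizer hdX.2 (autFun_mem _ hx')
        rw [autFun_inv_eq le_sup_left hδ₁X hx', show f₁ _ = _ from hδ₁X _ hy, ← hνv _ hx,
          hzv' _ hx]
        group
      · rw [Subgroup.coe_mul, Subgroup.coe_inv, ← autFun_coe, hμv x x.2]
        set w : Ω := (x : Ω)
        have hw : w ∈ W := x.2
        have h1 : d⁻¹ * w * d ∈ W := by simpa using hconjW d⁻¹ (Subgroup.inv_mem _ hdX) w hw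
        have ha : (d⁻¹ * w * d)⁻¹ * autFun δ₁⁻¹ (d⁻¹ * w * d) ∈ X := hmod' _ h1
        have h2 : d * autFun δ₁⁻¹ (d⁻¹ * w * d) * d⁻¹ ∈ W := hconjW d hdX _ (autFun_mem _ h1)
        have hb := hmod _ h2
        have ha' := conj_mem_of_mem_normalizer hdX.2 ha
        have hzw : w⁻¹ * z⁻¹ * w⁻¹⁻¹ ∈ X :=
          conj_mem_of_mem_normalizer (Subgroup.inv_mem _ (hWN hw).2) (X.inv_mem (hUX hz))
        rw [show w⁻¹ * (z⁻¹ * f₁ (d * autFun δ₁⁻¹ (d⁻¹ * w * d) * d⁻¹) * z) =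
          (w⁻¹ * z⁻¹ * w⁻¹⁻¹) * ((d * ((d⁻¹ * w * d)⁻¹ * autFun δ₁⁻¹ (d⁻¹ * w * d)) * d⁻¹) *
            ((d * autFun δ₁⁻¹ (d⁻¹ * w * d) * d⁻¹)⁻¹ *
              f₁ (d * autFun δ₁⁻¹ (d⁻¹ * w * d) * d⁻¹)) * z) by group]
        exact X.mul_mem hzw (X.mul_mem (X.mul_mem ha' hb) (hUX hz))
    obtain ⟨s, hs, hsv⟩ := (mem_autInducedBy_iff _ _ _).1 (hLam hμL)
    refine ⟨z, hz, hzc, s, ⟨hs.1, mem_centralizer_of_conj_eq fun x hx => ?_⟩, fun w hw => ?_⟩
    · have h : ((μ' : MulAut W) ⟨x, Subgroup.mem_sup_left hx⟩ : Ω) = x :=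
        congrArg Subtype.val (hμL.1 ⟨x, Subgroup.mem_sup_left hx⟩ hx)
      exact (hsv ⟨x, Subgroup.mem_sup_left hx⟩).symm.trans h
    · have hw1 : f₁ w ∈ W := autFun_mem δ₁ hw
      have hw2 : d * f₁ w * d⁻¹ ∈ W := hconjW d hdX _ hw1
      have h := hμv _ hw2
      rw [show d⁻¹ * (d * f₁ w * d⁻¹) * d = f₁ w by group, autFun_inv_self δ₁ hw] at h
      have h' := hsv ⟨_, hw2⟩
      rw [← autFun_coe] at h'
      rw [show f₁ (d * w * d⁻¹) = z * autFun (μ' : MulAut W) (d * f₁ w * d⁻¹) * z⁻¹ by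
        rw [h]; group, show autFun (μ' : MulAut W) (d * f₁ w * d⁻¹) = s * (d * f₁ w * d⁻¹) * s⁻¹
        from h']
      group
  have hi₁ : IsIso N W W f₁ := (mem_autGroup_iff hWN δ₁).1 hδ₁Y
  obtain ⟨g₂, hg₂N, hg₂W⟩ :=
    (isReceptive_iff.1 (isReceptive_of_isFullyNormalized hNp hNs hWfull)).2 W f₁ hi₁
  obtain ⟨hN₁le, -, gF, hgF, hgFv, -⟩ := (hiff _ _).1 hg₂N
  have hg₂ : IsMap F N₁ g₂ := (hgF.mono le_sup_left).congr hgFv
  have hDN₁ : D ≤ N₁ := fun d hd => by
    obtain ⟨z, hz, -, s, hs, hv⟩ := hkey d hd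
    exact ⟨hDN d hd, hWn d (hDN d hd), z * s * d, Subgroup.mul_mem _
      (Subgroup.mul_mem _ (le_normalizerIn hXS (hUX hz)) (centralizerIn_le_normalizerIn S X hs))
      (hDN d hd), hv⟩
  have hXN₁ : X ≤ N₁ := le_sup_left.trans (le_nPhi hi₁.isMap)
  have hg₂X : ∀ x ∈ X, g₂ x = autFun γ₁ x := fun x hx =>
    (hg₂W x (Subgroup.mem_sup_left hx)).trans (hδ₁X x hx)
  set W₂ := X ⊔ D with hW₂def
  have hW₂N : W₂ ≤ N₁ := sup_le hXN₁ hDN₁
  have hW₂S : W₂ ≤ S := hW₂N.trans hg₂.le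
  have := finite_of_le hW₂S
  have hUi : IsIso F U U g₂ := by
    have := finite_of_le hUS
    exact (hg₂.mono (hUX.trans hXN₁)).isIso_of_card_le
      (fun x hx => by rw [hg₂X x (hUX hx), hres x hx]; exact autFun_mem α hx) le_rfl
  have hgD : ∀ d ∈ D, g₂ d ∈ D := fun d hd =>
    hg₂.mem_centralizerIn (hUX.trans hXN₁) hUi (hDN₁ hd) hd.2
  have hW₂map : ∀ y ∈ W₂, g₂ y ∈ W₂ := by
    intro y hy
    have hy' : y ∈ ((X ⊔ D : Subgroup Ω) : Set Ω) := hy
    rw [Subgroup.coe_mul_of_right_le_normalizer_left _ _ fun d hd => (hDN d hd).2] at hy'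
    obtain ⟨x, hx, d, hd, rfl⟩ := hy'
    rw [hg₂.map_mul (hXN₁ hx) (hDN₁ hd), hg₂X x hx]
    exact Subgroup.mul_mem_sup (autFun_mem γ₁ hx) (hgD d hd)
  obtain ⟨δ, hδ, hδv⟩ := exists_mem_autGroup ((hg₂.mono hW₂N).isIso_of_card_le hW₂map le_rfl)
  have hδv' : ∀ y ∈ W₂, autFun δ y = g₂ y := fun y hy => (autFun_apply δ hy).trans (hδv ⟨y, hy⟩)
  have hδU : ∀ x ∈ U, autFun δ x = autFun α x := fun x hx => by
    rw [hδv' x (Subgroup.mem_sup_left (hUX hx)), hg₂X x (hUX hx), hres x hx]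
  have := finite_of_le hUS
  have := finite_mulAut U
  have := finite_mulAut W₂
  obtain ⟨m, hm1, hmo⟩ := Residual.exists_pPrime_pow (p := p) δ hαo
  refine hasExt_of_isMap (X := W₂) (g := autFun (δ ^ m))
    ((mem_autGroup_iff hW₂S _).1 (Subgroup.pow_mem _ hδ m)).isMap
    (sup_le (hUX.trans le_sup_left) le_sup_right)
    (fun x hx => by
      rw [autFun_pow_eq (hUX.trans le_sup_left) hδU m x hx, Residual.pow_eq_self_of_modEq hm1])
    fun d hd => ?_
  -- `δ` acts on `d` by `Z(U)` modulo a fixed translation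
  obtain ⟨z, hz, hzc, s, hs, hv⟩ := hkey d hd
  have hdX := hDN d hd
  set y := g₂ d * d⁻¹ with hydef
  have hyD : y ∈ D := Subgroup.mul_mem _ (hgD d hd) (Subgroup.inv_mem _ hd)
  have hk : (z * s * d)⁻¹ * g₂ d ∈ Subgroup.centralizer (X : Set Ω) := by
    refine mem_centralizer_of_conj_eq fun x hx => ?_
    obtain ⟨w, hw, hwx⟩ := hi₁.surj (show x ∈ W from Subgroup.mem_sup_left hx)
    have h1 := hg₂.map_conj (hDN₁ hd) (le_nPhi hi₁.isMap hw)
    rw [hg₂W _ (hconjW d hdX w hw), hg₂W w hw, hv w hw, hwx] at h1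
    rw [show (z * s * d)⁻¹ * g₂ d * x * ((z * s * d)⁻¹ * g₂ d)⁻¹ =
      (z * s * d)⁻¹ * (g₂ d * x * (g₂ d)⁻¹) * (z * s * d) by group, ← h1]
    group
  obtain ⟨c, hc, hyc⟩ : ∃ c ∈ CX, y = z * c := by
    refine ⟨s * (d * ((z * s * d)⁻¹ * g₂ d) * d⁻¹), CX.mul_mem hs
      (mem_centralizerIn_conj hdX ⟨S.mul_mem (S.inv_mem ?_) (hgD d hd).1, hk⟩), by
        rw [hydef]; group⟩
    exact S.mul_mem (S.mul_mem (hUS hz) hs.1) hd.1
  set ZU := U ⊓ Subgroup.centralizer (U : Set Ω)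
  have hZc : ∀ u ∈ ZU, ∀ e ∈ D, Commute u e := fun u hu e he =>
    Subgroup.mem_centralizer_iff.1 he.2 u hu.1
  have hZα : ∀ u ∈ ZU, autFun α u ∈ ZU := fun u hu => ⟨autFun_mem α hu.1,
    mem_centralizer_of_conj_eq fun x hx => by
      obtain ⟨w, hw, hwx⟩ := hUi.surj hx
      have hux : u * w * u⁻¹ = w := conj_eq_self_of_mem_centralizer hu.2 hw
      have h := hg₂.map_conj (hXN₁ (hUX hu.1)) (hXN₁ (hUX hw))
      rw [hux, hg₂X u (hUX hu.1), hres u hu.1, hwx] at h
      exact h.symm⟩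
  have hcD : c ∈ D := hCXD hc
  have ha : c⁻¹ * g₂ c ∈ ZU := by
    have h1 : c⁻¹ * g₂ c ∈ T := by
      rw [hg₂W c (Subgroup.mem_sup_right hc)]
      exact hXT (hδ₁c c hc)
    have h2 : c⁻¹ * g₂ c ∈ D := D.mul_mem (D.inv_mem hcD) (hgD c hcD)
    exact ⟨hU.2 U (isConj_refl hU.1) ⟨h1, h2.2⟩, h2.2⟩
  obtain ⟨u₀, hu₀, hgy⟩ : ∃ u ∈ ZU, g₂ y = u * y := by
    refine ⟨autFun α z * (c⁻¹ * g₂ c) * z⁻¹,
      ZU.mul_mem (ZU.mul_mem (hZα z ⟨hz, hzc⟩) ha) (ZU.inv_mem ⟨hz, hzc⟩), ?_⟩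
    rw [hyc, hg₂.map_mul (hXN₁ (hUX hz)) (hDN₁ hcD), hg₂X z (hUX hz), hres z hz]
    calc autFun α z * g₂ c = autFun α z * (c * (c⁻¹ * g₂ c)) := by group
      _ = autFun α z * ((c⁻¹ * g₂ c) * c) := by rw [(hZc _ ha c hcD).eq]
      _ = _ := by group
  have hyk : ∀ k : ℕ, ∃ u ∈ ZU, autFun (δ ^ k) d = u * y ^ k * d := by
    intro k
    induction k with
    | zero => exact ⟨1, ZU.one_mem, by
        rw [pow_zero, pow_zero, autFun_one (Subgroup.mem_sup_right hd)]; simp⟩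
    | succ k ih =>
      obtain ⟨u, hu, he⟩ := ih
      have hdW : d ∈ W₂ := Subgroup.mem_sup_right hd
      refine ⟨autFun α u * u₀ ^ k, ZU.mul_mem (hZα u hu) (ZU.pow_mem hu₀ k), ?_⟩
      have hyN : y ∈ N₁ := hDN₁ hyD
      have hpowm : ∀ j : ℕ, g₂ (y ^ j) = g₂ y ^ j := fun j => by
        have := hg₂.map_zpow hyN (j : ℤ)
        rwa [zpow_natCast, zpow_natCast] at this
      rw [pow_succ', autFun_mul _ _ hdW, he,
        hδv' _ (W₂.mul_mem (W₂.mul_mem (Subgroup.mem_sup_left (hUX hu.1))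
          (W₂.pow_mem (Subgroup.mem_sup_right hyD) k)) hdW),
        hg₂.map_mul (N₁.mul_mem (hXN₁ (hUX hu.1)) (N₁.pow_mem hyN k)) (hDN₁ hd),
        hg₂.map_mul (hXN₁ (hUX hu.1)) (N₁.pow_mem hyN k), hpowm, hgy,
        (hZc u₀ hu₀ y hyD).mul_pow, hg₂X u (hUX hu.1), hres u hu.1, pow_succ, hydef]
      group
  obtain ⟨u, hu, he⟩ := hyk (m * orderOf (δ ^ m))
  have hone : δ ^ (m * orderOf (δ ^ m)) = 1 := by rw [pow_mul, pow_orderOf_eq_one]
  rw [hone, autFun_one (Subgroup.mem_sup_right hd)] at he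
  have hyn : (y ^ m) ^ orderOf (δ ^ m) ∈ ZU := by
    rw [← pow_mul]
    have h : u * y ^ (m * orderOf (δ ^ m)) = 1 := mul_eq_right.1 he.symm
    rw [show y ^ (m * orderOf (δ ^ m)) = u⁻¹ from eq_inv_of_mul_eq_one_right h]
    exact ZU.inv_mem hu
  obtain ⟨j, hj⟩ := ModelNormal.exists_pow_eq_one hS (S.pow_mem hyD.1 m)
  have hym : y ^ m ∈ ZU :=
    ModelNormal.mem_of_pow_mem_coprime (hmo.pow_right j) hyn (hj ▸ ZU.one_mem)
  obtain ⟨u', hu', he'⟩ := hyk m
  rw [he', show d⁻¹ * (u' * y ^ m * d) = u' * y ^ m by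
    rw [inv_mul_eq_iff_eq_mul]
    exact (hZc _ (ZU.mul_mem hu' hym) d hd).eq]
  exact (ZU.mul_mem hu' hym).1

/-- The key step at a fully normalised subgroup. -/
theorem hasExt_step (hS : IsPGroup p S) (hF : F.IsSaturated p) (hE : E.IsWeaklyNormalIn F p)
    {U : Subgroup Ω} (hU : E.IsCentric U) (hUn : F.IsFullyNormalized U)
    (hUE : E.IsFullyNormalized U) (hXn : F.IsFullyNormalized (normalizerIn T U))
    (ih : ∀ β ∈ E.autGroup (normalizerIn T U), HasExt F (normalizerIn T U) β)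
    {α : MulAut U} (hα : α ∈ E.autGroup U) : HasExt F U α := by
  have hI := hE.2.2
  have hTS := hI.2.1.1
  have hTp : IsPGroup p T := hS.to_le hTS
  have := finite_of_le hTS
  have := finite_of_le hUn.1
  have := finite_mulAut U
  have hUS : U ≤ S := hUn.1
  set K := (extGroup F U hUS).subgroupOf (E.autGroup U)
  have hKn : K.Normal := ⟨fun a ha b => conj_mem_extGroup hS hF
    (isFullyCentralized_of_isFullyNormalized hS hF hUn)
    (mem_autGroup_of_isMap (isMap_of_subsystem hI.1 ((mem_autGroup_iff hU.1 _).1 b.2).isMap) _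
      fun x => (autFun_coe _ x).symm) ha⟩
  obtain ⟨-, R, hR⟩ := isFullyAutomized_of_isFullyNormalized hTp hE.1 hUE
  have hRK : (R : Subgroup (E.autGroup U)) ≤ K := by
    rw [hR]
    exact fun a ha => hasExt_autInducedBy hI hU ha
  suffices h : ∀ n ∈ Subgroup.normalizer (R : Set (E.autGroup U)),
      n ∈ K by
    have hm : (⟨α, hα⟩ : E.autGroup U) ∈ ((Subgroup.normalizer
        (R : Set (E.autGroup U)) ⊔ K : Subgroup _) : Set (E.autGroup U)) := by
      rw [Sylow.normalizer_sup_eq_top' R hRK]; exact Subgroup.mem_top _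
    have h2 : Subgroup.normalizer (R : Set (E.autGroup U)) ⊔ K ≤ K :=
      sup_le h le_rfl
    exact h2 hm
  intro n hn
  obtain ⟨a, r, hr, -, hco, hpa⟩ := CfsgLib.Transfer.exists_pow_coprime_part (p := p) n
  refine ModelNormal.mem_of_pow_mem_coprime
    (((Fact.out : p.Prime).coprime_iff_not_dvd.2 hr).pow_left a) ?_ ?_
  swap
  · obtain ⟨Q, hQ⟩ := (CfsgLib.Transfer.isPGroup_zpowers ⟨a, hpa⟩).exists_le_sylow
    obtain ⟨c, hc⟩ := MulAction.exists_smul_eq (E.autGroup U) Q R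
    generalize n ^ r = w at hQ ⊢
    have h1 : c * w * c⁻¹ ∈ (R : Subgroup (E.autGroup U)) := by
      rw [← hc, Sylow.coe_subgroup_smul, Subgroup.mem_pointwise_smul_iff_inv_smul_mem]
      simpa [mul_assoc] using hQ (Subgroup.mem_zpowers _)
    have h2 := hKn.conj_mem _ (hRK h1) c⁻¹
    rwa [show c⁻¹ * (c * w * c⁻¹) * c⁻¹⁻¹ = w by group] at h2
  have hn'R := Subgroup.pow_mem _ hn (p ^ a)
  generalize n ^ p ^ a = n' at hco hn'R ⊢
  set X := normalizerIn T U with hXdef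
  have hni := (mem_autGroup_iff hU.1 _).1 n'.2
  have hXle : X ≤ nPhi T U (autFun (n' : MulAut U)) := by
    intro g hg
    have hgR : (⟨conjAut U hg.2, autInducedBy_le_autGroup hU.1
        (conjAut_mem_autInducedBy hg.2 hg.1)⟩ : E.autGroup U) ∈ (R : Subgroup _) := by
      rw [hR]; exact conjAut_mem_autInducedBy hg.2 hg.1
    have h1 := (Subgroup.mem_normalizer_iff.1 hn'R _).1 hgR
    rw [hR] at h1
    obtain ⟨h, hh, hv⟩ := (mem_autInducedBy_iff T U _).1 h1
    refine ⟨hg.1, hg.2, h, hh, fun x hx => ?_⟩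
    have h2 := hv ((n' : MulAut U) ⟨x, hx⟩)
    simp only [Subgroup.subtype_apply, Subgroup.coe_mul, Subgroup.coe_inv, MulAut.mul_apply,
      MulAut.inv_apply_self] at h2
    rw [autFun_apply _ (conj_mem_of_mem_normalizer hg.2 hx), autFun_apply _ hx, ← h2]
    rfl
  obtain ⟨g, hg, hgv⟩ :=
    (isReceptive_iff.1 (isReceptive_of_isFullyNormalized hTp hE.1 hUE)).2 U _ hni
  have hXS : X ≤ S := inf_le_left.trans hTS
  have := finite_of_le hXS
  have hUi : IsIso E U U g := hni.congr fun x hx => (hgv x hx).symm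
  have hgX : ∀ x ∈ X, g x ∈ X := fun x hx =>
    hg.mem_normalizerIn (le_nPhi hni.isMap) hUi (hXle hx) hx.2
  obtain ⟨γ₁, hγ₁, hγ₁v⟩ := exists_mem_autGroup ((hg.mono hXle).isIso_of_card_le hgX le_rfl)
  refine hasExt_of_extend hS hF hE hU hXdef hXn hγ₁ ?_ (fun x hx => ?_) (ih γ₁ hγ₁)
  · show (orderOf ((n' : E.autGroup U) : MulAut U)).Coprime p
    rw [Subgroup.orderOf_coe]
    exact hco
  · rw [autFun_apply γ₁ (le_normalizerIn hU.1 hx), hγ₁v]
    exact hgv x hx

/-- The property is invariant under maps of normalizers. -/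
theorem hasExt_transfer (hI : E.IsInvariantIn F) {U U' : Subgroup Ω} (hUT : U ≤ T)
    {f : Ω → Ω} (hf : IsMap F (normalizerIn S U) f) (hfi : IsIso F U U' f)
    (h : ∀ β ∈ E.autGroup U', HasExt F U' β) {α : MulAut U} (hα : α ∈ E.autGroup U) :
    HasExt F U α := by
  have hUS := hfi.le_left
  have hU'S := hfi.le_right
  set β := MulAut.congr hfi.equiv α with hβdef
  have hβv : ∀ x ∈ U, f (autFun α x) = autFun β (f x) := fun x hx => by
    rw [autFun_apply β (hfi.mem hx), autFun_apply α hx,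
      show (⟨f x, hfi.mem hx⟩ : U') = hfi.equiv ⟨x, hx⟩ from rfl, hfi.congr_apply]
  obtain ⟨δ, hδ, hδU, hδc⟩ := h β (Residual.mem_autGroup_transport hI hUT hfi hα hβv)
  set V := U ⊔ centralizerIn S U
  have hVN : V ≤ normalizerIn S U :=
    sup_le (le_normalizerIn hUS) (centralizerIn_le_normalizerIn S U)
  have hfC : ∀ c ∈ centralizerIn S U, f c ∈ centralizerIn S U' := fun c hc =>
    hf.mem_centralizerIn (le_normalizerIn hUS) hfi (centralizerIn_le_normalizerIn S U hc) hc.2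
  have hfV : ∀ y ∈ V, f y ∈ U' ⊔ centralizerIn S U' := by
    intro y hy
    obtain ⟨u, hu, c, hc, rfl⟩ :=
      Residual.exists_mul_of_mem_sup (centralizerIn_le_centralizer S U) hy
    rw [hf.map_mul (hVN (Subgroup.mem_sup_left hu)) (hVN (Subgroup.mem_sup_right hc))]
    exact Subgroup.mul_mem_sup (hfi.mem hu) (hfC c hc)
  have hm := ((mem_autGroup_iff (sup_centralizerIn_le hU'S) δ).1 hδ).isMap
  obtain ⟨V', hV'⟩ := (hf.mono hVN).exists_iso
  obtain ⟨r, hr, hr1, -⟩ := hV'.exists_symm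
  have hback : ∀ y ∈ V, autFun δ (f y) ∈ V' := by
    intro y hy
    obtain ⟨u, hu, c, hc, rfl⟩ :=
      Residual.exists_mul_of_mem_sup (centralizerIn_le_centralizer S U) hy
    obtain ⟨w, hw, hwe⟩ := hfi.surj (hδc _ (hfC c hc))
    rw [hf.map_mul (hVN (Subgroup.mem_sup_left hu)) (hVN (Subgroup.mem_sup_right hc)),
      hm.map_mul (Subgroup.mem_sup_left (hfi.mem hu)) (Subgroup.mem_sup_right (hfC c hc)),
      hδU _ (hfi.mem hu), show autFun δ (f c) = f c * ((f c)⁻¹ * autFun δ (f c)) by group]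
    exact V'.mul_mem (hβv u hu ▸ hV'.mem (Subgroup.mem_sup_left (autFun_mem α hu)))
      (V'.mul_mem (hV'.mem (Subgroup.mem_sup_right hc)) (hwe ▸ hV'.mem (Subgroup.mem_sup_left hw)))
  have := finite_of_le (sup_centralizerIn_le hUS)
  refine hasExt_of_isMap (X := V) (g := r ∘ autFun δ ∘ f)
    (((hf.mono hVN).comp hm hfV).comp hr.isMap hback) le_rfl (fun x hx => ?_) fun c hc => ?_
  · show r (autFun δ (f x)) = autFun α x
    rw [hδU _ (hfi.mem hx), ← hβv x hx, hr1 _ (Subgroup.mem_sup_left (autFun_mem α hx))]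
  · show c⁻¹ * r (autFun δ (f c)) ∈ U
    obtain ⟨w, hw, hwe⟩ := hfi.surj (hδc _ (hfC c hc))
    have h1 : autFun δ (f c) = f (c * w) := by
      rw [hf.map_mul (hVN (Subgroup.mem_sup_right hc)) (hVN (Subgroup.mem_sup_left hw)), hwe]
      group
    rw [h1, hr1 _ (Subgroup.mul_mem _ (Subgroup.mem_sup_right hc) (Subgroup.mem_sup_left hw)),
      inv_mul_cancel_left]
    exact hw

/-- A subgroup of `T` fully normalised in `F` is fully normalised in `E`. -/
theorem isFullyNormalized_of_super (hS : IsPGroup p S) (hF : F.IsSaturated p)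
    (hI : E.IsInvariantIn F) {U : Subgroup Ω} (hU : F.IsFullyNormalized U) (hUT : U ≤ T) :
    E.IsFullyNormalized U := by
  refine ⟨hUT, fun Q hQ => ?_⟩
  obtain ⟨f, hf, -, hfN, -⟩ := exists_map_normalizerIn hS
    (isFullyAutomized_of_isFullyNormalized hS hF hU) (isReceptive_of_isFullyNormalized hS hF hU)
    (isConj_symm (isConj_of_subsystem hI.1 hQ))
  have := finite_of_le (S := S) (P := normalizerIn T U) (inf_le_left.trans hI.2.1.1)
  have hle : normalizerIn T Q ≤ normalizerIn S Q := inf_le_inf_right _ hI.2.1.1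
  exact (hf.mono hle).card_le fun g hg =>
    ⟨isMap_mem_of_stronglyClosed hI.2.1 hf (hle hg) hg.1, (hfN g (hle hg)).2⟩

/-- The extension lemma. -/
theorem hasExt (hS : IsPGroup p S) (hF : F.IsSaturated p) (hE : E.IsNormalIn F p)
    {U : Subgroup Ω} (hU : E.IsCentric U) {α : MulAut U} (hα : α ∈ E.autGroup U) :
    HasExt F U α := by
  have hI := hE.1.2.2
  have hTS := hI.2.1.1
  have hTp : IsPGroup p T := hS.to_le hTS
  have := finite_of_le hTS
  suffices key : ∀ (n : ℕ) (U : Subgroup Ω), Nat.card T - Nat.card U = n → E.IsCentric U →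
      ∀ α ∈ E.autGroup U, HasExt F U α from key _ U rfl hU α hα
  intro n
  induction n using Nat.strong_induction_on with
  | _ n ih =>
  intro U hn hU α hα
  have hUS : U ≤ S := hU.1.trans hTS
  rcases eq_or_ne U T with rfl | hUT
  · obtain ⟨β, hβ, hβT, hβC⟩ := hE.2 α hα
    refine ⟨β, hβ, fun x hx => ?_, fun c hc => ?_⟩
    · rw [autFun_apply β (Subgroup.mem_sup_left hx), autFun_apply α hx]
      exact hβT ⟨x, hx⟩
    · rw [autFun_apply β (Subgroup.mem_sup_right hc)]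
      exact (hβC ⟨c, Subgroup.mem_sup_right hc⟩ hc).1
  -- choose a conjugate with both it and its normalizer in `T` fully normalised
  obtain ⟨U₁, hc₁, hU₁⟩ := exists_isFullyNormalized (F := F) hUS
  obtain ⟨e₀, he₀⟩ := isConj_iff.1 hc₁
  have hU₁T : U₁ ≤ T := Residual.le_of_iso hI hU.1 he₀
  set X := normalizerIn T U₁ with hXdef
  have hXS : X ≤ S := inf_le_left.trans hTS
  obtain ⟨Q, hXQ, hQ⟩ := exists_isFullyNormalized (F := F) hXS
  obtain ⟨f, hf, hfi, hfN, -⟩ := exists_map_normalizerIn hS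
    (isFullyAutomized_of_isFullyNormalized hS hF hQ) (isReceptive_of_isFullyNormalized hS hF hQ) hXQ
  have hNX : normalizerIn S U₁ ≤ normalizerIn S X := fun g hg =>
    ⟨hg.1, mem_normalizer_of_conj_mem hXS fun x hx => ⟨normalizer_T hI hg.1 hx.1,
      Subgroup.mul_mem _ (Subgroup.mul_mem _ hg.2 hx.2) (Subgroup.inv_mem _ hg.2)⟩⟩
  obtain ⟨U₂, he₁⟩ := (hf.mono ((le_normalizerIn hU₁.1).trans hNX)).exists_iso
  have hc₂ : F.IsConj U U₂ := isConj_trans hc₁ he₁.isConj
  have hfU : ∀ g ∈ normalizerIn S U₁, f g ∈ normalizerIn S U₂ := fun g hg =>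
    (hf.mono hNX).mem_normalizerIn (le_normalizerIn hU₁.1) he₁ hg hg.2
  have := finite_of_le (S := S) (P := normalizerIn S U₂) inf_le_left
  have hU₂ : F.IsFullyNormalized U₂ := ⟨he₁.le_right, fun R hR =>
    (hU₁.2 R (isConj_trans he₁.isConj hR)).trans ((hf.mono hNX).card_le hfU)⟩
  have hU₂T : U₂ ≤ T := Residual.le_of_iso hI hU₁T he₁
  have hQX : normalizerIn T U₂ = Q := by
    have := finite_of_le (S := S) (P := normalizerIn T U₁) hXS
    have hle : Q ≤ normalizerIn T U₂ := fun y hy => by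
      obtain ⟨x, hx, rfl⟩ := hfi.surj hy
      exact ⟨isMap_mem_of_stronglyClosed hI.2.1 hf (le_normalizerIn hXS hx) hx.1,
        (hfU x ⟨hTS hx.1, hx.2⟩).2⟩
    obtain ⟨f', hf', -, hfN', -⟩ := exists_map_normalizerIn hS
      (isFullyAutomized_of_isFullyNormalized hS hF hU₁)
      (isReceptive_of_isFullyNormalized hS hF hU₁) (isConj_symm he₁.isConj)
    have hle' : normalizerIn T U₂ ≤ normalizerIn S U₂ := inf_le_inf_right _ hTS
    have := finite_of_le (S := S) (P := normalizerIn T U₂) (inf_le_left.trans hTS)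
    refine (Subgroup.eq_of_le_of_card_ge hle ?_).symm
    rw [hfi.card_eq]
    exact (hf'.mono hle').card_le fun g hg =>
      ⟨isMap_mem_of_stronglyClosed hI.2.1 hf' (hle' hg) hg.1, (hfN' g (hle' hg)).2⟩
  obtain ⟨e, he, hei, -, -⟩ := exists_map_normalizerIn hS
    (isFullyAutomized_of_isFullyNormalized hS hF hU₂) (isReceptive_of_isFullyNormalized hS hF hU₂)
    hc₂
  refine hasExt_transfer hI hU.1 he hei (fun β hβ => ?_) hα
  have hU₂c : E.IsCentric U₂ := Residual.isCentric_of_iso hI hU hei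
  refine hasExt_step hS hF hE.1 hU₂c hU₂ (isFullyNormalized_of_super hS hF hI hU₂ hU₂T)
    (hQX ▸ hQ) (fun γ hγ => ?_) hβ
  have := finite_of_le (S := S) (P := normalizerIn T U₂) (inf_le_left.trans hTS)
  have hne : U₂ ≠ T := fun h => hUT (Subgroup.eq_of_le_of_card_ge hU.1
    (h ▸ hei.card_eq).le)
  have hlt := lt_normalizerIn hTp hU₂T hne
  have h1 : Nat.card U₂ < Nat.card (normalizerIn T U₂) :=
    lt_of_le_of_ne (Subgroup.card_le_of_le hlt.le)
      fun h => hlt.ne (Subgroup.eq_of_le_of_card_ge hlt.le h.ge)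
  have h2 : Nat.card (normalizerIn T U₂) ≤ Nat.card T := Subgroup.card_le_of_le inf_le_left
  have h3 := hei.card_eq
  exact ih _ (by omega) _ rfl (isCentric_of_le hU₂c hlt.le inf_le_left) γ hγ

end CfsgLib.Fusion.NormalCentralizer
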