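import Cfsg.Agent.Lib.Fusion.CentricExtension
import Cfsg.Agent.Lib.Fusion.Tate
import Cfsg.Agent.Lib.Fusion.KSystem

/-!
The centraliser `C_S(E)` of a normal subsystem `E` of `F`: the elements of `C_S(T)` fixed by the
extensions of the automorphisms of order prime to `p` of the `E`-centric subgroups.
-/

set_option autoImplicit false

namespace CfsgLib.Fusion.NormalCentralizer

open Cfsg Cfsg.FusionSystem
open scoped commutatorElement

universe u

variable {Ω : Type u} [Group Ω] {S T : Subgroup Ω} {F : FusionSystem S} {E : FusionSystem T}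
  {p : ℕ}

/-- An extension of order prime to `p` of an automorphism of `U` in `E`. -/
structure IsExt (E : FusionSystem T) (F : FusionSystem S) (p : ℕ) (U : Subgroup Ω)
    (δ : MulAut ↥(U ⊔ centralizerIn S U)) : Prop where
  mem : δ ∈ F.autGroup (U ⊔ centralizerIn S U)
  coprime : (orderOf δ).Coprime p
  exists_restrict : ∃ α ∈ E.autGroup U, ∀ x ∈ U, autFun δ x = autFun α x
  mod : ∀ c ∈ centralizerIn S U, c⁻¹ * autFun δ c ∈ U

theorem IsExt.map_mem {U : Subgroup Ω} {δ : MulAut ↥(U ⊔ centralizerIn S U)}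
    (h : IsExt E F p U δ) {x : Ω} (hx : x ∈ U) : autFun δ x ∈ U := by
  obtain ⟨α, -, hα⟩ := h.exists_restrict
  rw [hα x hx]
  exact autFun_mem α hx

theorem IsExt.inv_map_mem {U : Subgroup Ω} {δ : MulAut ↥(U ⊔ centralizerIn S U)}
    (h : IsExt E F p U δ) {x : Ω} (hx : x ∈ U) : autFun δ⁻¹ x ∈ U := by
  obtain ⟨α, -, hα⟩ := h.exists_restrict
  rw [autFun_inv_eq le_sup_left hα hx]
  exact autFun_mem α⁻¹ hx

theorem IsExt.mem_centralizerIn {U : Subgroup Ω} (hUS : U ≤ S)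
    {δ : MulAut ↥(U ⊔ centralizerIn S U)} (h : IsExt E F p U δ) {x : Ω}
    (hx : x ∈ centralizerIn S U) : autFun δ x ∈ centralizerIn S U := by
  obtain ⟨α, -, hα⟩ := h.exists_restrict
  exact autFun_mem_centralizerIn le_sup_left h.mem (sup_centralizerIn_le hUS) hα hx
    (Subgroup.mem_sup_right hx)

theorem IsExt.isMap {U : Subgroup Ω} (hUS : U ≤ S) {δ : MulAut ↥(U ⊔ centralizerIn S U)}
    (h : IsExt E F p U δ) : IsMap F (U ⊔ centralizerIn S U) (autFun δ) :=
  ((mem_autGroup_iff (sup_centralizerIn_le hUS) δ).1 h.mem).isMap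

theorem coprime_orderOf_restrict {P U : Subgroup Ω} (hU : U ≤ P) {δ : MulAut P} {α : MulAut U}
    (h : ∀ x ∈ U, autFun δ x = autFun α x) (ho : (orderOf δ).Coprime p) :
    (orderOf α).Coprime p := by
  refine Nat.Coprime.coprime_dvd_left (orderOf_dvd_of_pow_eq_one (MulEquiv.ext fun x =>
    Subtype.ext ?_)) ho
  have e := autFun_pow_eq hU h (orderOf δ) x x.2
  rw [pow_orderOf_eq_one, autFun_one (hU x.2), autFun_coe] at e
  exact e.symm

theorem eq_one_of_coprime_pow {G : Type*} [Group G] {x : G} {n m : ℕ} (h : n.Coprime m)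
    (hn : x ^ n = 1) (hm : x ^ m = 1) : x = 1 :=
  orderOf_eq_one_iff.1 (Nat.eq_one_of_dvd_coprimes h (orderOf_dvd_of_pow_eq_one hn)
    (orderOf_dvd_of_pow_eq_one hm))

variable [Fact p.Prime] [Finite S]

theorem exists_isExt (hS : IsPGroup p S) (hF : F.IsSaturated p) (hE : E.IsNormalIn F p)
    {U : Subgroup Ω} (hU : E.IsCentric U) {α : MulAut U} (hα : α ∈ E.autGroup U)
    (hαo : (orderOf α).Coprime p) :
    ∃ δ, IsExt E F p U δ ∧ ∀ x ∈ U, autFun δ x = autFun α x := by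
  have hUS : U ≤ S := hU.1.trans hE.1.2.2.2.1.1
  obtain ⟨δ, hδ, hδU, hδc⟩ := hasExt hS hF hE hU hα
  have := finite_of_le (sup_centralizerIn_le (S := S) hUS)
  have := finite_mulAut ↥(U ⊔ centralizerIn S U)
  obtain ⟨m, hm1, hmo⟩ := Residual.exists_pPrime_pow (p := p) δ hαo
  have hpow : ∀ k : ℕ, HasExt F U (α ^ k) ∧
      ∀ c ∈ centralizerIn S U, c⁻¹ * autFun (δ ^ k) c ∈ U := by
    intro k
    refine ⟨Subgroup.pow_mem (extGroup F U hUS) (show α ∈ extGroup F U hUS from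
      ⟨δ, hδ, hδU, hδc⟩) k, ?_⟩
    induction k with
    | zero =>
      intro c hc
      rw [pow_zero, autFun_one (Subgroup.mem_sup_right hc), inv_mul_cancel]
      exact U.one_mem
    | succ k ih =>
      intro c hc
      have hu := hδc c hc
      have hm := ((mem_autGroup_iff (sup_centralizerIn_le hUS) (δ ^ k)).1
        (Subgroup.pow_mem _ hδ k)).isMap
      rw [pow_succ, autFun_mul _ _ (Subgroup.mem_sup_right hc),
        show autFun δ c = c * (c⁻¹ * autFun δ c) by group,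
        hm.map_mul (Subgroup.mem_sup_right hc) (Subgroup.mem_sup_left hu),
        autFun_pow_eq le_sup_left hδU k _ hu, ← mul_assoc]
      exact U.mul_mem (ih c hc) (autFun_mem _ hu)
  refine ⟨δ ^ m, ⟨Subgroup.pow_mem _ hδ m, hmo, ⟨α, hα, fun x hx => ?_⟩, (hpow m).2⟩,
    fun x hx => ?_⟩
  all_goals rw [autFun_pow_eq le_sup_left hδU m x hx, Residual.pow_eq_self_of_modEq hm1]

omit [Fact p.Prime] [Finite S] in
/-- Quotients along maps trivial on `U` lie in the focal subgroup of `C_F(U)`. -/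
theorem mem_focal {U P : Subgroup Ω} (hUS : U ≤ S) {ξ : Ω → Ω} (hξ : IsMap F P ξ) (hUP : U ≤ P)
    {x : Ω} (hxP : x ∈ P) (hxD : x ∈ centralizerIn S U) (hfix : ∀ u ∈ U, ξ u = u) :
    x⁻¹ * ξ x ∈ (centralizerSystem F U hUS).focalSubgroup := by
  have hle : Subgroup.zpowers x ≤ centralizerIn S U := Subgroup.zpowers_le.2 hxD
  have hleP : Subgroup.zpowers x ≤ P := Subgroup.zpowers_le.2 hxP
  have hi : IsIso F U U ξ := ⟨hξ.mono hUP, (Set.image_congr hfix).trans (Set.image_id' _)⟩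
  have hm : IsMap (centralizerSystem F U hUS) (Subgroup.zpowers x) ξ :=
    (isMap_centralizerSystem_iff (fun _ => rfl)).2 ⟨hle, fun y hy =>
      hξ.mem_centralizerIn hUP hi (hleP hy) (hle hy).2,
      ξ, hξ.mono (sup_le hleP hUP), fun _ _ => rfl, hfix⟩
  obtain ⟨φ, hφ, hv⟩ := hm
  exact Subgroup.subset_closure ⟨_, φ, ⟨x, Subgroup.mem_zpowers x⟩, hφ, by rw [hv]⟩

/-- Extensions fix the focal quotients of maps trivial on a fully centralised `U`. -/
theorem fix_of_fullyCentralized (hS : IsPGroup p S) (hF : F.IsSaturated p) {U : Subgroup Ω}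
    (hU : F.IsFullyCentralized U) {δ : MulAut ↥(U ⊔ centralizerIn S U)} (hδ : IsExt E F p U δ)
    {P : Subgroup Ω} {ξ : Ω → Ω} (hξ : IsMap F P ξ) (hUP : U ≤ P) {x : Ω} (hxP : x ∈ P)
    (hxD : x ∈ centralizerIn S U) (hfix : ∀ u ∈ U, ξ u = u) :
    autFun δ (x⁻¹ * ξ x) = x⁻¹ * ξ x := by
  have hUS := hU.1
  have hVS : (U ⊔ centralizerIn S U) ≤ S := sup_centralizerIn_le hUS
  have hDV : (centralizerIn S U) ≤ (U ⊔ centralizerIn S U) := le_sup_right
  have := finite_of_le hVS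
  have := finite_of_le (S := S) (P := (centralizerIn S U)) inf_le_left
  set C := centralizerSystem F U hUS with hCdef
  have hCs : C.IsSaturated p := isSaturated_centralizerSystem hS hF hU fun _ => rfl
  have hm : IsMap F (U ⊔ centralizerIn S U) (autFun δ) := hδ.isMap hUS
  have hfocD : ∀ f ∈ C.focalSubgroup, f ∈ (centralizerIn S U) := by
    refine fun f hf => (Subgroup.closure_le (K := (centralizerIn S U))).2 ?_ hf
    rintro _ ⟨R, φ, y, hφ, rfl⟩
    exact Subgroup.mul_mem _ (Subgroup.inv_mem _ ((C.le_of_mem hφ).1 y.2)) ((C.le_of_mem hφ).2 y)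
  have hfoc : ∀ f ∈ C.focalSubgroup, autFun δ f ∈ C.focalSubgroup := by
    intro f hf
    induction hf using Subgroup.closure_induction with
    | mem f hf =>
      obtain ⟨R, φ, y, hφ, rfl⟩ := hf
      obtain ⟨hRD, hvals, g, hg, hgR, hgU⟩ :=
        (isMap_centralizerSystem_iff (fun _ => rfl)).1 (isMap_homFun hφ)
      have hφy : homFun φ y = φ y := homFun_coe φ y
      have hyD : (y : Ω) ∈ (centralizerIn S U) := hRD y.2
      have hφD : φ y ∈ (centralizerIn S U) := hφy ▸ hvals y y.2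
      have hRU : R ⊔ U ≤ (U ⊔ centralizerIn S U) := sup_le (hRD.trans hDV) le_sup_left
      obtain ⟨I, hI⟩ := (hm.mono hRU).exists_iso
      obtain ⟨r, hr, hr1, -⟩ := hI.exists_symm
      have hgV : ∀ z ∈ R ⊔ U, g z ∈ (U ⊔ centralizerIn S U) := mem_of_mem_sup hg le_sup_left le_sup_right
        (fun z hz => hDV (by rw [hgR z hz]; exact hvals z hz))
        (fun z hz => by rw [hgU z hz]; exact Subgroup.mem_sup_left hz)
      have hcomp : IsMap F I (fun z => autFun δ (g (r z))) :=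
        (hr.isMap.comp hg fun z hz => hr.mem hz).comp hm fun z hz => hgV _ (hr.mem hz)
      have hUI : ∀ u ∈ U, u ∈ I ∧ r u ∈ U ∧ autFun δ (r u) = u := fun u hu => by
        have hu' := hδ.inv_map_mem hu
        have e : autFun δ (autFun δ⁻¹ u) = u := autFun_self_inv δ (Subgroup.mem_sup_left hu)
        have h1 := hr1 _ (Subgroup.mem_sup_right hu')
        rw [e] at h1
        exact ⟨e ▸ hI.mem (Subgroup.mem_sup_right hu'), h1 ▸ hu', by rw [h1, e]⟩
      have h := mem_focal hUS hcomp (fun u hu => (hUI u hu).1)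
        (hI.mem (Subgroup.mem_sup_left y.2)) (hδ.mem_centralizerIn hUS hyD)
        fun u hu => by rw [hgU _ (hUI u hu).2.1, (hUI u hu).2.2]
      rw [hr1 _ (Subgroup.mem_sup_left y.2), hgR _ y.2, hφy] at h
      rwa [hm.map_mul (Subgroup.inv_mem _ (hDV hyD)) (hDV hφD), hm.map_inv (hDV hyD)]
    | one => rw [hm.map_one]; exact Subgroup.one_mem _
    | mul a b ha hb iha ihb =>
      rw [hm.map_mul (hDV (hfocD a ha)) (hDV (hfocD b hb))]
      exact Subgroup.mul_mem _ iha ihb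
    | inv a ha iha =>
      rw [hm.map_inv (hDV (hfocD a ha))]
      exact Subgroup.inv_mem _ iha
  set f₀ := x⁻¹ * ξ x with hf₀def
  have hf₀ : f₀ ∈ C.focalSubgroup := mem_focal hUS hξ hUP hxP hxD hfix
  have hf₀D := hfocD f₀ hf₀
  set l := f₀⁻¹ * autFun δ f₀ with hldef
  have hlU : l ∈ U := hδ.mod f₀ hf₀D
  have hlfoc : l ∈ C.focalSubgroup := Subgroup.mul_mem _ (Subgroup.inv_mem _ hf₀) (hfoc f₀ hf₀)
  have hlD : l ∈ (centralizerIn S U) := hfocD l hlfoc
  have hlcomm : l ∈ ⁅(centralizerIn S U), (centralizerIn S U)⁆ := by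
    have : Finite ↥(S ⊓ Subgroup.centralizer (U : Set Ω)) := finite_of_le (S := S) inf_le_left
    refine mem_commutator_of_fixed_mem_focal (hS.to_le inf_le_left) hCs hlD
      (fun y hy R f hf hyR => ?_) hlfoc
    obtain ⟨-, -, g, -, hgR, hgU⟩ := (isMap_centralizerSystem_iff (fun _ => rfl)).1 hf
    rw [← hgR y hyR, hgU y (Subgroup.zpowers_le.2 hlU hy)]
  have hcommD : ⁅(centralizerIn S U), (centralizerIn S U)⁆ ≤ (centralizerIn S U) :=
    Subgroup.commutator_le.2 fun a ha b hb => Subgroup.mul_mem _ (Subgroup.mul_mem _ (Subgroup.mul_mem _ ha hb)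
      (Subgroup.inv_mem _ ha)) (Subgroup.inv_mem _ hb)
  have hcent : ∀ a ∈ (centralizerIn S U), ∀ b ∈ (centralizerIn S U), a * (b⁻¹ * autFun δ b) = (b⁻¹ * autFun δ b) * a :=
    fun a ha b hb => (Subgroup.mem_centralizer_iff.1 ha.2 _ (hδ.mod b hb)).symm
  have hfixc : ∀ w ∈ ⁅(centralizerIn S U), (centralizerIn S U)⁆, autFun δ w = w := by
    intro w hw
    have hwD := hcommD hw
    rw [Subgroup.commutator_def] at hw
    induction hw using Subgroup.closure_induction with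
    | mem w hw =>
      obtain ⟨a, ha, b, hb, rfl⟩ := hw
      rw [commutatorElement_def, hm.map_mul (hDV (Subgroup.mul_mem _ (Subgroup.mul_mem _ ha hb) (Subgroup.inv_mem _ ha)))
        (Subgroup.inv_mem _ (hDV hb)), hm.map_conj (hDV ha) (hDV hb), hm.map_inv (hDV hb)]
      set za := a⁻¹ * autFun δ a with hza
      set zb := b⁻¹ * autFun δ b with hzb
      have hδa : autFun δ a = a * za := by rw [hza]; group
      have hδb : autFun δ b = b * zb := by rw [hzb]; group
      have hbD : b * zb ∈ (centralizerIn S U) := by rw [← hδb]; exact hδ.mem_centralizerIn hUS hb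
      have h1 : za * (b * zb) = (b * zb) * za := (hcent _ hbD a ha).symm
      have h2 : a * zb = zb * a := hcent a ha b hb
      have h3 : a⁻¹ * zb = zb * a⁻¹ := hcent _ (Subgroup.inv_mem _ ha) b hb
      rw [hδa, hδb, mul_inv_rev, show a * za * (b * zb) * (za⁻¹ * a⁻¹) * (b * zb)⁻¹ =
        a * (za * (b * zb)) * za⁻¹ * a⁻¹ * (b * zb)⁻¹ by group, h1,
        show a * (b * zb * za) * za⁻¹ * a⁻¹ * (b * zb)⁻¹ =
          a * b * (zb * a⁻¹) * (b * zb)⁻¹ by group, ← h3]
      group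
    | one => rw [hm.map_one]
    | mul a b ha hb iha ihb =>
      rw [← Subgroup.commutator_def] at ha hb
      rw [hm.map_mul (hDV (hcommD ha)) (hDV (hcommD hb)), iha (hcommD ha), ihb (hcommD hb)]
    | inv a ha iha =>
      rw [← Subgroup.commutator_def] at ha
      rw [hm.map_inv (hDV (hcommD ha)), iha (hcommD ha)]
  have hiter : ∀ k : ℕ, autFun (δ ^ k) f₀ = f₀ * l ^ k := by
    intro k
    induction k with
    | zero => rw [pow_zero, pow_zero, autFun_one (hDV hf₀D), mul_one]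
    | succ k ih =>
      have hpow : autFun δ (l ^ k) = l ^ k := hfixc _ (Subgroup.pow_mem _ hlcomm k)
      rw [pow_succ', autFun_mul _ _ (hDV hf₀D), ih, hm.map_mul (hDV hf₀D) (Subgroup.pow_mem (U ⊔ centralizerIn S U) (hDV hlD) k),
        hpow, pow_succ', ← mul_assoc, show f₀ * l = autFun δ f₀ by rw [hldef]; group]
  have hone := hiter (orderOf δ)
  rw [pow_orderOf_eq_one, autFun_one (hDV hf₀D), left_eq_mul] at hone
  obtain ⟨j, hj⟩ := ModelNormal.exists_pow_eq_one hS (hlD.1)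
  have hl1 := eq_one_of_coprime_pow (hδ.coprime.pow_right j) hone hj
  rw [hldef, inv_mul_eq_one] at hl1
  exact hl1.symm

/-- Transport of an extension to a fully normalised conjugate. -/
theorem exists_fullyNormalized_ext (hS : IsPGroup p S) (hF : F.IsSaturated p)
    (hE : E.IsNormalIn F p) {U : Subgroup Ω} (hU : E.IsCentric U)
    {δ : MulAut ↥(U ⊔ centralizerIn S U)} (hδ : IsExt E F p U δ) :
    ∃ U', F.IsFullyCentralized U' ∧ E.IsCentric U' ∧ ∃ f, IsMap F (normalizerIn S U) f ∧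
      IsIso F U U' f ∧ ∃ δ', IsExt E F p U' δ' ∧
        ∀ x ∈ U, autFun δ' (f x) = f (autFun δ x) := by
  have hI := hE.1.2.2
  have hUS : U ≤ S := hU.1.trans hI.2.1.1
  obtain ⟨U', hc, hU'⟩ := exists_isFullyNormalized (F := F) hUS
  obtain ⟨f, hf, hfi, -, -⟩ := exists_map_normalizerIn hS
    (isFullyAutomized_of_isFullyNormalized hS hF hU') (isReceptive_of_isFullyNormalized hS hF hU') hc
  obtain ⟨α, hα, hαv⟩ := hδ.exists_restrict
  set β := MulAut.congr hfi.equiv α with hβdef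
  have hβv : ∀ x ∈ U, f (autFun α x) = autFun β (f x) := fun x hx => by
    rw [autFun_apply β (hfi.mem hx), autFun_apply α hx,
      show (⟨f x, hfi.mem hx⟩ : U') = hfi.equiv ⟨x, hx⟩ from rfl, hfi.congr_apply]
  have hU'c : E.IsCentric U' := Residual.isCentric_of_iso hI hU hfi
  obtain ⟨δ', hδ', hδ'v⟩ := exists_isExt hS hF hE hU'c
    (Residual.mem_autGroup_transport hI hU.1 hfi hα hβv) (by
      rw [hβdef, MulEquiv.orderOf_eq]
      exact coprime_orderOf_restrict le_sup_left hαv hδ.coprime)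
  exact ⟨U', isFullyCentralized_of_isFullyNormalized hS hF hU', hU'c, f, hf, hfi, δ', hδ',
    fun x hx => by rw [hδ'v _ (hfi.mem hx), ← hβv x hx, hαv x hx]⟩

/-- Transported focal quotients are fixed by transported extensions. -/
theorem fix_transport (hS : IsPGroup p S) (hF : F.IsSaturated p) {U U' : Subgroup Ω}
    (hUS : U ≤ S) (hU' : F.IsFullyCentralized U') {f : Ω → Ω}
    (hf : IsMap F (normalizerIn S U) f) (hfi : IsIso F U U' f)
    {δ' : MulAut ↥(U' ⊔ centralizerIn S U')} (hδ' : IsExt E F p U' δ')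
    {P : Subgroup Ω} {ξ : Ω → Ω} (hξ : IsMap F P ξ) (hUP : U ≤ P) {x : Ω} (hxP : x ∈ P)
    (hxD : x ∈ centralizerIn S U) (hfix : ∀ u ∈ U, ξ u = u) :
    autFun δ' (f (x⁻¹ * ξ x)) = f (x⁻¹ * ξ x) := by
  have hDN := centralizerIn_le_normalizerIn S U
  have hξx : ξ x ∈ centralizerIn S U := hξ.mem_centralizerIn hUP
    (⟨hξ.mono hUP, (Set.image_congr hfix).trans (Set.image_id' _)⟩ : IsIso F U U ξ) hxP hxD.2
  have hP₀ : U ⊔ Subgroup.zpowers x ≤ normalizerIn S U :=
    sup_le (le_normalizerIn hUS) (Subgroup.zpowers_le.2 (hDN hxD))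
  have hP₀P : U ⊔ Subgroup.zpowers x ≤ P := sup_le hUP (Subgroup.zpowers_le.2 hxP)
  obtain ⟨I, hI⟩ := (hf.mono hP₀).exists_iso
  obtain ⟨r, hr, hr1, -⟩ := hI.exists_symm
  have hvals : ∀ z ∈ U ⊔ Subgroup.zpowers x, ξ z ∈ normalizerIn S U :=
    mem_of_mem_sup hξ hUP (Subgroup.zpowers_le.2 hxP)
      (fun z hz => by rw [hfix z hz]; exact le_normalizerIn hUS hz) fun z hz => by
      obtain ⟨n, rfl⟩ := hz
      show ξ (x ^ n) ∈ _
      rw [hξ.map_zpow hxP]
      exact Subgroup.zpow_mem _ (hDN hξx) n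
  have hcomp : IsMap F I (fun z => f (ξ (r z))) :=
    (hr.isMap.comp (hξ.mono hP₀P) fun z hz => hr.mem hz).comp hf fun z hz => hvals _ (hr.mem hz)
  have hUI : ∀ u ∈ U', u ∈ I ∧ f (ξ (r u)) = u := fun u hu => by
    obtain ⟨w, hw, rfl⟩ := hfi.surj hu
    exact ⟨hI.mem (Subgroup.mem_sup_left hw),
      by rw [hr1 _ (Subgroup.mem_sup_left hw), hfix w hw]⟩
  have h := fix_of_fullyCentralized hS hF hU' hδ' hcomp (fun u hu => (hUI u hu).1)
    (hI.mem (Subgroup.mem_sup_right (Subgroup.mem_zpowers x)))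
    (hf.mem_centralizerIn (le_normalizerIn hUS) hfi (hDN hxD) hxD.2) fun u hu => (hUI u hu).2
  have e : (f x)⁻¹ * f (ξ x) = f (x⁻¹ * ξ x) := by
    rw [hf.map_mul (Subgroup.inv_mem _ (hDN hxD)) (hDN hξx), hf.map_inv (hDN hxD)]
  rwa [hr1 _ (Subgroup.mem_sup_right (Subgroup.mem_zpowers x)), e] at h

/-- Focal quotients lying in `U` are fixed. -/
theorem fix_of_mem (hS : IsPGroup p S) (hF : F.IsSaturated p) (hE : E.IsNormalIn F p)
    {U : Subgroup Ω} (hU : E.IsCentric U) {δ : MulAut ↥(U ⊔ centralizerIn S U)}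
    (hδ : IsExt E F p U δ) {P : Subgroup Ω} {ξ : Ω → Ω} (hξ : IsMap F P ξ) (hUP : U ≤ P)
    {x : Ω} (hxP : x ∈ P) (hxD : x ∈ centralizerIn S U) (hfix : ∀ u ∈ U, ξ u = u)
    (hmem : x⁻¹ * ξ x ∈ U) : autFun δ (x⁻¹ * ξ x) = x⁻¹ * ξ x := by
  have hUS : U ≤ S := hU.1.trans hE.1.2.2.2.1.1
  obtain ⟨U', hU', -, f, hf, hfi, δ', hδ', hδv⟩ := exists_fullyNormalized_ext hS hF hE hU hδ
  have h := fix_transport hS hF hUS hU' hf hfi hδ' hξ hUP hxP hxD hfix
  rw [hδv _ hmem] at h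
  exact hfi.isMap.injOn (hδ.map_mem hmem) hmem h

/-- An element of `C_S(U)` fixed by some map extending the automorphism is fixed by the
extension. -/
theorem fix_of_exists_map (hS : IsPGroup p S) (hF : F.IsSaturated p) (hE : E.IsNormalIn F p)
    {U : Subgroup Ω} (hU : E.IsCentric U) {δ : MulAut ↥(U ⊔ centralizerIn S U)}
    (hδ : IsExt E F p U δ) {P : Subgroup Ω} {χ : Ω → Ω} (hχ : IsMap F P χ) (hUP : U ≤ P)
    {y : Ω} (hyP : y ∈ P) (hyD : y ∈ centralizerIn S U)
    (hres : ∀ u ∈ U, χ u = autFun δ u) (hy : χ y = y) : autFun δ y = y := by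
  have hUS : U ≤ S := hU.1.trans hE.1.2.2.2.1.1
  have hVS : (U ⊔ centralizerIn S U) ≤ S := sup_centralizerIn_le hUS
  have hm : IsMap F (U ⊔ centralizerIn S U) (autFun δ) := hδ.isMap hUS
  have hP₀P : U ⊔ Subgroup.zpowers y ≤ P := sup_le hUP (Subgroup.zpowers_le.2 hyP)
  have hP₀V : U ⊔ Subgroup.zpowers y ≤ (U ⊔ centralizerIn S U) :=
    sup_le le_sup_left (Subgroup.zpowers_le.2 (Subgroup.mem_sup_right hyD))
  obtain ⟨I, hI⟩ := (hm.mono hP₀V).exists_iso
  obtain ⟨r, hr, hr1, -⟩ := hI.exists_symm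
  have hcomp : IsMap F I (fun z => χ (r z)) := hr.isMap.comp hχ fun z hz => hP₀P (hr.mem hz)
  have hUI : ∀ u ∈ U, u ∈ I ∧ χ (r u) = u := fun u hu => by
    have hu' := hδ.inv_map_mem hu
    have e : autFun δ (autFun δ⁻¹ u) = u := autFun_self_inv δ (Subgroup.mem_sup_left hu)
    have h1 := hr1 _ (Subgroup.mem_sup_left hu')
    rw [e] at h1
    exact ⟨e ▸ hI.mem (Subgroup.mem_sup_left hu'), by rw [h1, hres _ hu', e]⟩
  set z := y⁻¹ * autFun δ y with hzdef
  have hzU : z ∈ U := hδ.mod y hyD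
  have hyI : autFun δ y ∈ I := hI.mem (Subgroup.mem_sup_right (Subgroup.mem_zpowers y))
  have e : (autFun δ y)⁻¹ * χ (r (autFun δ y)) = z⁻¹ := by
    rw [hr1 _ (Subgroup.mem_sup_right (Subgroup.mem_zpowers y)), hy,
      show autFun δ y = y * z by rw [hzdef]; group]
    group
  have h := fix_of_mem hS hF hE hU hδ hcomp (fun u hu => (hUI u hu).1) hyI
    (hδ.mem_centralizerIn hUS hyD) (fun u hu => (hUI u hu).2) (e ▸ U.inv_mem hzU)
  rw [e, hm.map_inv (Subgroup.mem_sup_left hzU), inv_inj] at h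
  have hiter : ∀ k : ℕ, autFun (δ ^ k) y = y * z ^ k := by
    intro k
    induction k with
    | zero => rw [pow_zero, pow_zero, autFun_one (Subgroup.mem_sup_right hyD), mul_one]
    | succ k ih =>
      have hpow : autFun δ (z ^ k) = z ^ k := by
        have := hm.map_zpow (Subgroup.mem_sup_left hzU) (k : ℤ)
        rw [zpow_natCast, zpow_natCast, h] at this
        exact this
      rw [pow_succ', autFun_mul _ _ (Subgroup.mem_sup_right hyD), ih,
        hm.map_mul (Subgroup.mem_sup_right hyD) (Subgroup.pow_mem (U ⊔ centralizerIn S U) (Subgroup.mem_sup_left hzU) k), hpow,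
        pow_succ', ← mul_assoc, show y * z = autFun δ y by rw [hzdef]; group]
  have hone := hiter (orderOf δ)
  rw [pow_orderOf_eq_one, autFun_one (Subgroup.mem_sup_right hyD), left_eq_mul] at hone
  obtain ⟨j, hj⟩ := ModelNormal.exists_pow_eq_one hS (hUS hzU)
  have hz1 := eq_one_of_coprime_pow (hδ.coprime.pow_right j) hone hj
  rw [hzdef, inv_mul_eq_one] at hz1
  exact hz1.symm

/-- Extensions fix all quotients of maps trivial on `U`. -/
theorem fix_quot (hS : IsPGroup p S) (hF : F.IsSaturated p) (hE : E.IsNormalIn F p)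
    {U : Subgroup Ω} (hU : E.IsCentric U) {δ : MulAut ↥(U ⊔ centralizerIn S U)}
    (hδ : IsExt E F p U δ) {P : Subgroup Ω} {ξ : Ω → Ω} (hξ : IsMap F P ξ) (hUP : U ≤ P)
    {x : Ω} (hxP : x ∈ P) (hxD : x ∈ centralizerIn S U) (hfix : ∀ u ∈ U, ξ u = u) :
    autFun δ (x⁻¹ * ξ x) = x⁻¹ * ξ x := by
  have hUS : U ≤ S := hU.1.trans hE.1.2.2.2.1.1
  obtain ⟨U', hU', -, f, hf, hfi, δ', hδ', hδv⟩ := exists_fullyNormalized_ext hS hF hE hU hδ
  have hDN := centralizerIn_le_normalizerIn S U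
  have h := fix_transport hS hF hUS hU' hf hfi hδ' hξ hUP hxP hxD hfix
  set y := x⁻¹ * ξ x
  have hyD : y ∈ centralizerIn S U :=
    Subgroup.mul_mem _ (Subgroup.inv_mem _ hxD) (hξ.mem_centralizerIn hUP
      (⟨hξ.mono hUP, (Set.image_congr hfix).trans (Set.image_id' _)⟩ : IsIso F U U ξ) hxP hxD.2)
  have hm := hδ'.isMap hfi.le_right
  have hP₀ : U ⊔ Subgroup.zpowers y ≤ normalizerIn S U :=
    sup_le (le_normalizerIn hUS) (Subgroup.zpowers_le.2 (hDN hyD))
  have hfC : f y ∈ centralizerIn S U' :=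
    hf.mem_centralizerIn (le_normalizerIn hUS) hfi (hDN hyD) hyD.2
  have hfy : f y ∈ U' ⊔ centralizerIn S U' := Subgroup.mem_sup_right hfC
  obtain ⟨I, hI⟩ := (hf.mono hP₀).exists_iso
  obtain ⟨r, hr, hr1, -⟩ := hI.exists_symm
  have hfV : ∀ z ∈ U ⊔ Subgroup.zpowers y, f z ∈ U' ⊔ centralizerIn S U' :=
    mem_of_mem_sup (hf.mono hP₀) le_sup_left le_sup_right
      (fun z hz => Subgroup.mem_sup_left (hfi.mem hz)) fun z hz => by
      obtain ⟨n, rfl⟩ := hz
      show f (y ^ n) ∈ _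
      rw [hf.map_zpow (hDN hyD)]
      exact Subgroup.zpow_mem _ hfy n
  have hδI : ∀ z ∈ U ⊔ Subgroup.zpowers y, autFun δ' (f z) ∈ I :=
    mem_of_mem_sup ((hf.mono hP₀).comp hm hfV) le_sup_left le_sup_right
      (fun z hz => by
        show autFun δ' (f z) ∈ I
        rw [hδv z hz]
        exact hI.mem (Subgroup.mem_sup_left (hδ.map_mem hz))) fun z hz => by
      obtain ⟨n, rfl⟩ := hz
      show autFun δ' (f (y ^ n)) ∈ I
      rw [hf.map_zpow (hDN hyD), hm.map_zpow hfy, h]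
      exact Subgroup.zpow_mem _ (hI.mem (Subgroup.mem_sup_right (Subgroup.mem_zpowers y))) n
  refine fix_of_exists_map hS hF hE hU hδ (((hf.mono hP₀).comp hm hfV).comp hr.isMap hδI)
    le_sup_left (Subgroup.mem_sup_right (Subgroup.mem_zpowers y)) hyD (fun u hu => ?_) ?_
  · show r (autFun δ' (f u)) = autFun δ u
    rw [hδv u hu, hr1 _ (Subgroup.mem_sup_left (hδ.map_mem hu))]
  · show r (autFun δ' (f y)) = y
    rw [h, hr1 _ (Subgroup.mem_sup_right (Subgroup.mem_zpowers y))]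

/-! ### The centraliser -/

omit [Fact p.Prime] [Finite S] in
theorem mem_centralizerIn_of_le {U : Subgroup Ω} (hU : U ≤ T) {c : Ω}
    (hc : c ∈ centralizerIn S T) : c ∈ centralizerIn S U :=
  ⟨hc.1, Subgroup.centralizer_le (show (U : Set Ω) ⊆ T from hU) hc.2⟩

/-- `C_S(E)`. -/
def centE (E : FusionSystem T) (F : FusionSystem S) (p : ℕ) (hTS : T ≤ S) : Subgroup Ω where
  carrier := {c | c ∈ centralizerIn S T ∧
    ∀ (U : Subgroup Ω) (δ : MulAut ↥(U ⊔ centralizerIn S U)),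
      E.IsCentric U → IsExt E F p U δ → autFun δ c = c}
  one_mem' := ⟨Subgroup.one_mem _, fun U δ hU hδ => (hδ.isMap (hU.1.trans hTS)).map_one⟩
  mul_mem' := fun {a b} ha hb => ⟨Subgroup.mul_mem _ ha.1 hb.1, fun U δ hU hδ => by
    rw [(hδ.isMap (hU.1.trans hTS)).map_mul
      (Subgroup.mem_sup_right (mem_centralizerIn_of_le hU.1 ha.1))
      (Subgroup.mem_sup_right (mem_centralizerIn_of_le hU.1 hb.1)), ha.2 U δ hU hδ, hb.2 U δ hU hδ]⟩
  inv_mem' := fun {a} ha => ⟨Subgroup.inv_mem _ ha.1, fun U δ hU hδ => by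
    rw [(hδ.isMap (hU.1.trans hTS)).map_inv
      (Subgroup.mem_sup_right (mem_centralizerIn_of_le hU.1 ha.1)), ha.2 U δ hU hδ]⟩

omit [Fact p.Prime] [Finite S] in
theorem centE_le (hTS : T ≤ S) : centE E F p hTS ≤ centralizerIn S T := fun _ hc => hc.1

theorem le_centralizerIn_centE (hTS : T ≤ S) :
    T ≤ centralizerIn S (centE E F p hTS) := fun t ht =>
  ⟨hTS ht, Subgroup.mem_centralizer_iff.2 fun c hc =>
    (Subgroup.mem_centralizer_iff.1 (centE_le hTS hc).2 t ht).symm⟩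

/-- The maps of `E` that are maps of `C_F(X)`. -/
def meetCentralizer (E : FusionSystem T) (F : FusionSystem S) (X : Subgroup Ω) (hX : X ≤ S)
    (hT : T ≤ centralizerIn S X) : FusionSystem T where
  Hom P := E.Hom P ∩ F.centralizerHom X P
  le_of_mem h := E.le_of_mem h.1
  injective_of_mem h := E.injective_of_mem h.1
  conj_mem hP hg := ⟨E.conj_mem hP hg, (centralizerSystem F X hX).conj_mem (hP.trans hT) (hT hg)⟩
  comp_mem hφ hψ h := ⟨E.comp_mem hφ.1 hψ.1 h, (centralizerSystem F X hX).comp_mem hφ.2 hψ.2 h⟩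
  inv_mem := by
    intro P φ hφ
    obtain ⟨ψ, hψ, hψv⟩ := E.inv_mem hφ.1
    obtain ⟨χ, hχ, hχv⟩ := (centralizerSystem F X hX).inv_mem hφ.2
    have e : ψ = χ := MonoidHom.ext fun ⟨_, x, rfl⟩ => (hψv x).trans (hχv x).symm
    exact ⟨ψ, ⟨hψ, e ▸ hχ⟩, hψv⟩

theorem centralizes_centE (hS : IsPGroup p S) (hF : F.IsSaturated p) (hE : E.IsNormalIn F p)
    (P : Subgroup Ω) : E.Hom P ⊆ F.centralizerHom (centE E F p hE.1.2.2.2.1.1) P := by
  have hI := hE.1.2.2
  have hTS := hI.2.1.1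
  have hTp : IsPGroup p T := hS.to_le hTS
  have := finite_of_le hTS
  set X := centE E F p hTS with hXdef
  have hXS : X ≤ S := (centE_le hTS).trans inf_le_left
  set M := meetCentralizer E F X hXS (le_centralizerIn_centE hTS) with hMdef
  intro φ hφ
  suffices h : E ≤ M from (h P hφ).2
  refine le_of_autGroup_le' hTp hE.1.1 fun U hU γ hγ => ?_
  have hUfn : E.IsFullyNormalized U := by
    rcases hU with rfl | hU
    · refine ⟨le_rfl, fun Q _ => ?_⟩
      have := finite_of_le (S := S) (P := normalizerIn U U) (inf_le_left.trans hTS)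
      exact Subgroup.card_le_of_le (inf_le_left.trans (le_normalizerIn le_rfl))
    · exact hU.2.1
  have hUc : E.IsCentric U := by
    rcases hU with rfl | hU
    · exact ⟨le_rfl, fun Q hQ => by
        have hc := isConj_iff.1 hQ
        obtain ⟨f, hf⟩ := hc
        have hQT : Q = U := Subgroup.eq_of_le_of_card_ge hf.le_right hf.card_eq.ge
        exact hQT.symm ▸ inf_le_left⟩
    · exact hU.1
  have := finite_of_le hUfn.1
  have := finite_mulAut U
  obtain ⟨-, R, hR⟩ := isFullyAutomized_of_isFullyNormalized hTp hE.1.1 hUfn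
  refine ModelNormal.le_of_sylow_coprime (A := M.autGroup U) R (fun a ha => ?_)
    (fun α hα hαo => ?_) hγ
  · rw [hR] at ha
    exact autInducedBy_le_autGroup hUfn.1 ha
  obtain ⟨δ, hδ, hδv⟩ := exists_isExt hS hF hE hUc hα hαo
  have hUS : U ≤ S := hUfn.1.trans hTS
  obtain ⟨ψ, hψ, hψv⟩ := ((mem_autGroup_iff hUfn.1 α).1 hα).isMap
  have hUX : U ⊔ X ≤ U ⊔ centralizerIn S U :=
    sup_le_sup le_rfl fun c hc => mem_centralizerIn_of_le hUfn.1 (centE_le hTS hc)
  have hc : IsMap (centralizerSystem F X hXS) U (autFun α) :=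
    (isMap_centralizerSystem_iff (fun _ => rfl)).2
      ⟨hUfn.1.trans (le_centralizerIn_centE hTS),
        fun x hx => le_centralizerIn_centE hTS (hUfn.1 (autFun_mem α hx)),
        autFun δ, (hδ.isMap hUS).mono hUX, hδv, fun c hc => hc.2 U δ hUc hδ⟩
  obtain ⟨χ, hχ, hχv⟩ := hc
  have e : ψ = χ := MonoidHom.ext fun x => (hψv x).trans (hχv x).symm
  exact mem_autGroup_of_isMap (F := M) (f := autFun α) ⟨ψ, ⟨hψ, e ▸ hχ⟩, hψv⟩ α
    fun x => (autFun_coe α x).symm

theorem le_centE (hS : IsPGroup p S) (hF : F.IsSaturated p) (hE : E.IsNormalIn F p)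
    {Y : Subgroup Ω} (hY : Y ≤ centralizerIn S T)
    (hEY : ∀ P : Subgroup Ω, E.Hom P ⊆ F.centralizerHom Y P) :
    Y ≤ centE E F p hE.1.2.2.2.1.1 := fun y hy => ⟨hY hy, fun U δ hU hδ => by
  obtain ⟨α, hα, hαv⟩ := hδ.exists_restrict
  obtain ⟨φ, hφ, hφv⟩ := ((mem_autGroup_iff hU.1 α).1 hα).isMap
  obtain ⟨-, -, -, ψ, hψ, hag, hfix⟩ := hEY U hφ
  refine fix_of_exists_map hS hF hE hU hδ (isMap_homFun hψ) le_sup_left (Subgroup.mem_sup_right hy)
    (mem_centralizerIn_of_le hU.1 (hY hy)) (fun u hu => ?_) ?_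
  · rw [homFun_apply ψ (Subgroup.mem_sup_left hu), hαv u hu]
    exact (hag ⟨u, hu⟩).trans (hφv ⟨u, hu⟩)
  · rw [homFun_apply ψ (Subgroup.mem_sup_right hy)]
    exact hfix ⟨y, hy⟩⟩

/-- The focal subgroup of `C_F(T)` lies in `C_S(E)`. -/
theorem focal_le_centE (hS : IsPGroup p S) (hF : F.IsSaturated p) (hE : E.IsNormalIn F p)
    (D : FusionSystem (centralizerIn S T)) (hD : F.IsCentralizerSystem T D) :
    D.focalSubgroup ≤ centE E F p hE.1.2.2.2.1.1 := by
  refine (Subgroup.closure_le _).2 ?_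
  rintro _ ⟨P, φ, x, hφ, rfl⟩
  obtain ⟨hP, hv, g, hg, hgP, hgT⟩ :=
    (isMap_centralizerSystem_iff hD).1 (isMap_homFun hφ)
  have hx : (x : Ω) ∈ centralizerIn S T := hP x.2
  have hφx : g x = φ x := (hgP x x.2).trans (homFun_coe φ x)
  refine ⟨Subgroup.mul_mem _ (Subgroup.inv_mem _ hx) ((D.le_of_mem hφ).2 x), fun U δ hU hδ => ?_⟩
  have h := fix_quot hS hF hE hU hδ hg ((hU.1).trans le_sup_right) (Subgroup.mem_sup_left x.2)
    (mem_centralizerIn_of_le hU.1 hx) fun u hu => hgT u (hU.1 hu)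
  rwa [hφx] at h

end CfsgLib.Fusion.NormalCentralizer
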