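import Mathlib
import Cfsg.Agent.Lib.Fusion.TransportGroup
import Cfsg.Agent.Lib.Transfer.Basic

/-!
Fusion lifts from quotients by `p'`-cores; minimal realizations of simple systems are simple groups.
-/

set_option autoImplicit false

namespace CfsgLib.Fusion

open Cfsg Cfsg.FusionSystem

universe u

variable {G : Type u} [Group G] [Finite G] {p : ℕ} [Fact p.Prime]

theorem exists_lift_of_quotient [hN : (pPrimeCore p G).Normal] (S : Sylow p G) (P : Subgroup G)
    (hP : P ≤ (S : Subgroup G)) (γ : G ⧸ pPrimeCore p G)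
    (hγ : ∀ x ∈ P, γ * QuotientGroup.mk x * γ⁻¹ ∈
      ((S : Subgroup G).map (QuotientGroup.mk' (pPrimeCore p G)))) :
    ∃ g : G, ∀ x ∈ P, g * x * g⁻¹ ∈ S ∧
      (QuotientGroup.mk (g * x * g⁻¹) : G ⧸ pPrimeCore p G) = γ * QuotientGroup.mk x * γ⁻¹ := by
  obtain ⟨g₀, rfl⟩ := QuotientGroup.mk_surjective γ
  set N := pPrimeCore p G
  set M : Subgroup G := ((S : Subgroup G).map (QuotientGroup.mk' N)).comap (QuotientGroup.mk' N)
  have hSM : (S : Subgroup G) ≤ M := Subgroup.le_comap_map _ _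
  obtain ⟨R, hR⟩ := (exists_sylow_eq_iff (N := M) S.isPGroup' hSM).2 fun U _ hU => by
    obtain ⟨g, hg⟩ := exists_conj_le_sylow S hU
    rw [← card_map_conj U g]
    exact Subgroup.card_le_of_le hg
  have hU : P.map (MulAut.conj g₀).toMonoidHom ≤ M := by
    rintro _ ⟨x, hx, rfl⟩
    exact hγ x hx
  obtain ⟨y, hy⟩ := exists_conj_le_sylow R
    (((S.isPGroup'.to_le hP).map (MulAut.conj g₀).toMonoidHom).of_equiv
      (Subgroup.subgroupOfEquivOfLe hU).symm)
  have hym : (y : G) ∈ M := y.2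
  obtain ⟨s, hs, hsy⟩ := hym
  refine ⟨s⁻¹ * y * g₀, fun x hx => ?_⟩
  have hxm : g₀ * x * g₀⁻¹ ∈ P.map (MulAut.conj g₀).toMonoidHom := ⟨x, hx, rfl⟩
  have hm := hy ⟨⟨_, hU hxm⟩, hxm, rfl⟩
  rw [hR] at hm
  have hm' : (y : G) * (g₀ * x * g₀⁻¹) * (y : G)⁻¹ ∈ (S : Subgroup G) := hm
  refine ⟨?_, ?_⟩
  · have := (S : Subgroup G).mul_mem ((S : Subgroup G).mul_mem ((S : Subgroup G).inv_mem hs) hm') hs
    rwa [show s⁻¹ * ((y : G) * (g₀ * x * g₀⁻¹) * (y : G)⁻¹) * s
      = s⁻¹ * y * g₀ * x * (s⁻¹ * y * g₀)⁻¹ by group] at this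
  · have e : (QuotientGroup.mk s : G ⧸ N) = QuotientGroup.mk (y : G) := hsy
    simp only [QuotientGroup.mk_mul, QuotientGroup.mk_inv]
    rw [show (QuotientGroup.mk (y : G) : G ⧸ pPrimeCore p G) = QuotientGroup.mk s from e.symm]
    group

omit [Finite G] in
theorem fsos_hom_eq_of_eq {H T T' : Subgroup G} (hT : T ≤ H) (hT' : T' ≤ H) (e : T = T')
    (P : Subgroup G) :
    (fusionSystemOfSubgroup H T hT).Hom P = (fusionSystemOfSubgroup H T' hT').Hom P := by
  subst e; rfl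

theorem isSimpleGroup_of_minimal (S : Sylow p G)
    (hsimple : (groupFusionSystem (S : Subgroup G)).IsSimple p) (hcore : pPrimeCore p G = ⊥)
    (hmin : ∀ (H : Subgroup G) (hSH : (S : Subgroup G) ≤ H), H ≠ ⊤ → ∃ P : Subgroup G,
      (fusionSystemOfSubgroup H (S : Subgroup G) hSH).Hom P ≠
        (groupFusionSystem (S : Subgroup G)).Hom P) : IsSimpleGroup G := by
  have hnt : Nontrivial G := by
    by_contra h
    rw [not_nontrivial_iff_subsingleton] at h
    exact hsimple.2.1 (Subgroup.eq_bot_of_subsingleton _)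
  refine { exists_pair_ne := hnt.exists_pair_ne, eq_bot_or_eq_top_of_normal := fun N hN => ?_ }
  rcases hsimple.2.2 _ _ (isNormalIn_fsos S N) with h1 | ⟨h1, heq⟩
  · refine Or.inl (eq_bot_iff.2 (hcore ▸ CfsgLib.Transfer.le_pPrimeCore hN ?_))
    refine (((Fact.out : p.Prime).coprime_iff_not_dvd).2 fun hd => ?_).symm
    obtain ⟨x, hx⟩ := exists_prime_orderOf_dvd_card' (G := N) p hd
    have hxp : IsPGroup p (Subgroup.zpowers (x : G)) := by
      refine IsPGroup.of_card (n := 1) ?_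
      rw [Nat.card_zpowers, Subgroup.orderOf_coe, hx, pow_one]
    have := card_le_inf_of_normal S N (Subgroup.zpowers_le.2 x.2) hxp
    rw [h1, Subgroup.card_bot, Nat.card_zpowers, Subgroup.orderOf_coe, hx] at this
    exact absurd (Fact.out : p.Prime).two_le (by omega)
  · refine Or.inr ?_
    by_contra hne
    have hSN : (S : Subgroup G) ≤ N := h1.ge.trans inf_le_right
    obtain ⟨P, hP⟩ := hmin N hSN hne
    exact hP ((fsos_hom_eq_of_eq hSN inf_le_right h1.symm P).trans (heq P))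

end CfsgLib.Fusion
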