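import Mathlib
import Cfsg.Agent.Lib.Fusion.Model
import Cfsg.Agent.Lib.Fusion.ModelExists
import Cfsg.Agent.Lib.Fusion.MinimalRealization
import Cfsg.Agent.Lib.PSolvable.Core
import Cfsg.Agent.Lib.Layer.PComponent

/-!
Fusion systems of `p`-solvable groups are the constrained systems with `p`-solvable automizer of
the core.
-/

set_option autoImplicit false

namespace CfsgLib.Fusion

open Cfsg Cfsg.FusionSystem

universe u

variable {Ω : Type u} [Group Ω] {S : Subgroup Ω} {F : FusionSystem S} {p : ℕ}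
variable [Fact p.Prime]

/-- Dividing by `O_{p'}` does not change the fusion. -/
theorem isRealizedBy_pPrimeCore_quotient {G : Type*} [Group G] [Finite G]
    [(Cfsg.pPrimeCore p G).Normal] {ι : S →* G} (h : F.IsRealizedBy ι) (T : Sylow p G)
    (hT : (T : Subgroup G) = ι.range) :
    F.IsRealizedBy ((QuotientGroup.mk' (Cfsg.pPrimeCore p G)).comp ι) := by
  set N := Cfsg.pPrimeCore p G
  have hTN : ∀ x y : G, x ∈ (T : Subgroup G) → y ∈ (T : Subgroup G) →
      (QuotientGroup.mk x : G ⧸ N) = QuotientGroup.mk y → x = y := by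
    intro x y hx hy hxy
    have h1 : x⁻¹ * y ∈ (T : Subgroup G) ⊓ N :=
      ⟨Subgroup.mul_mem _ (Subgroup.inv_mem _ hx) hy, QuotientGroup.eq.1 hxy⟩
    rw [Subgroup.inf_eq_bot_of_coprime] at h1
    · exact inv_mul_eq_one.1 (Subgroup.mem_bot.1 h1)
    · obtain ⟨k, hk⟩ := IsPGroup.iff_card.1 T.isPGroup'
      rw [hk]
      exact ((CfsgLib.Transfer.pPrimeCore_coprime p).symm.pow_left k)
  have hmem : ∀ s : S, ι s ∈ (T : Subgroup G) := fun s => hT ▸ ⟨s, rfl⟩
  refine ⟨fun a b hab => h.1 (hTN _ _ (hmem a) (hmem b) hab), fun P hP φ hφ => ?_⟩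
  rw [h.2 P hP φ hφ]
  constructor
  · rintro ⟨g, hg⟩
    exact ⟨QuotientGroup.mk' N g, fun x => by
      rw [MonoidHom.comp_apply, MonoidHom.comp_apply, hg x, map_mul, map_mul, map_inv]⟩
  · rintro ⟨γ, hγ⟩
    set P' := (P.subgroupOf S).map ι
    obtain ⟨g, hg⟩ := exists_lift_of_quotient T P' (Subgroup.map_le_range _ _ |>.trans hT.ge) γ (by
      rintro _ ⟨s, hs, rfl⟩
      have h1 := hγ ⟨s, hs⟩
      simp only [MonoidHom.comp_apply, QuotientGroup.mk'_apply] at h1
      rw [← h1]
      exact ⟨_, hmem _, rfl⟩)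
    refine ⟨g, fun x => ?_⟩
    obtain ⟨h1, h2⟩ := hg (ι ⟨x, hP x.2⟩) ⟨⟨x, hP x.2⟩, x.2, rfl⟩
    refine (hTN _ _ h1 (hmem _) ?_).symm
    rw [h2]
    exact (hγ x).symm

/-- The automizer of a subgroup of `S` is a section of a realizing group. -/
theorem isPSolvable_autGroup {G : Type*} [Group G] [Finite G] {ι : S →* G}
    (h : F.IsRealizedBy ι) (hG : Cfsg.IsPSolvable p G) {Q : Subgroup Ω} (hQ : Q ≤ S) :
    Cfsg.IsPSolvable p (F.autGroup Q) := by
  let j : Q →* G := ι.comp (Subgroup.inclusion hQ)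
  have hj : Function.Injective j := h.1.comp (Subgroup.inclusion_injective hQ)
  let e : Q ≃* j.range := MonoidHom.ofInjective hj
  let ρ : Subgroup.normalizer (j.range : Set G) →* MulAut Q :=
    (MulAut.congr e.symm).toMonoidHom.comp j.range.normalizerMonoidHom
  have hle : F.autGroup Q ≤ ρ.range := by
    intro α hα
    obtain ⟨hf, -⟩ := (mem_autGroup_iff hQ α).1 hα
    obtain ⟨φ, hφ, hv⟩ := hf
    obtain ⟨g, hg⟩ := (h.2 Q hQ φ (F.le_of_mem hφ).2).1 hφ
    have hg' : ∀ x : Q, j (α x) = g * j x * g⁻¹ := fun x => by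
      rw [← show ι ⟨x, hQ x.2⟩ = j x from rfl, ← hg x]
      show ι (Subgroup.inclusion hQ (α x)) = _
      exact congrArg ι (Subtype.ext ((autFun_coe α x).symm.trans (hv x).symm))
    have : Finite j.range := inferInstance
    have hgn : g ∈ Subgroup.normalizer (j.range : Set G) := by
      refine Subgroup.mem_normalizer_fintype ?_
      rintro _ ⟨x, rfl⟩
      exact ⟨α x, hg' x⟩
    refine ⟨⟨g, hgn⟩, MulEquiv.ext fun x => e.injective (Subtype.ext ?_)⟩
    show ((e (e.symm (j.range.normalizerMonoidHom ⟨g, hgn⟩ (e x))) : j.range) : G) = _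
    rw [e.apply_symm_apply]
    exact (hg' x).symm
  have h1 : Cfsg.IsPSolvable p ρ.range :=
    CfsgLib.PSolvable.isPSolvable_of_surjective ρ.rangeRestrict ρ.rangeRestrict_surjective
      (CfsgLib.PSolvable.isPSolvable_subgroup _ hG)
  have : Finite ρ.range := Finite.of_surjective ρ.rangeRestrict ρ.rangeRestrict_surjective
  exact CfsgLib.PSolvable.isPSolvable_of_injective (Subgroup.inclusion hle)
    (Subgroup.inclusion_injective hle) h1

/-- A model built on a centric normal subgroup with `p`-solvable automizer is `p`-solvable. -/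
theorem exists_pSolvable_model [Finite S] {Q : Subgroup Ω} (hS : IsPGroup p S)
    (hF : F.IsSaturated p) (hn : F.IsNormal Q) (hc : F.IsCentric Q)
    (hA : Cfsg.IsPSolvable p (F.autGroup Q)) :
    ∃ (G : Type u) (_ : Group G) (_ : Finite G) (ι : S →* G), Cfsg.IsPSolvable p G ∧
      F.IsRealizedBy ι ∧ ∃ T : Sylow p G, (T : Subgroup G) = ι.range := by
  have h : CentricNormal F p Q := ⟨hS, hF, hn, hc⟩
  obtain ⟨σ⟩ := h.exists_sections
  have := finite_of_le h.le
  have := finite_mulAut Q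
  letI := Fintype.ofFinite (CosetsQ h)
  obtain ⟨hfin, hreal, hT, -⟩ := σ.isModel
  refine ⟨σ.Model, inferInstance, hfin, σ.incl, ?_, hreal, hT⟩
  have hker : IsPGroup p σ.proj.ker := by
    refine (hS.of_surjective σ.incl.rangeRestrict σ.incl.rangeRestrict_surjective).to_le
      (fun γ hγ => ?_)
    obtain ⟨z, rfl⟩ := σ.exists_eq_incl (MonoidHom.mem_ker.1 hγ)
    exact ⟨_, rfl⟩
  haveI : σ.proj.ker.Normal := inferInstance
  refine CfsgLib.PSolvable.isPSolvable_of_quotient σ.proj.ker (Or.inl hker) ?_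
  exact CfsgLib.PSolvable.isPSolvable_of_injective
    (QuotientGroup.quotientKerEquivOfSurjective σ.proj σ.proj_surjective).toMonoidHom
    (MulEquiv.injective _) hA

end CfsgLib.Fusion
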