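import Mathlib
import Cfsg.Agent.Lib.Fusion.TransferMap
import Cfsg.Agent.Lib.Fusion.Tate

/-!
Twist values: a character of `S` invariant under a system gives a value on its maps.
-/

set_option autoImplicit false

namespace CfsgLib.Fusion.PowerIndex

open Cfsg Cfsg.FusionSystem MulAction

universe u

/-- A product of an invariant function over a `p`-group set only sees the fixed points. -/
theorem prod_eq_prod_fixed {P Q A : Type*} [Group P] [MulAction P Q] [Fintype Q] [DecidableEq Q]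
    [CommMonoid A] {p : ℕ} [Fact p.Prime] [Finite P] (hP : IsPGroup p P)
    (hA : ∀ a : A, a ^ p = 1) (f : Q → A) (hf : ∀ (g : P) q, f (g • q) = f q)
    [DecidablePred fun q : Q => ∀ g : P, g • q = q] :
    ∏ q, f q = ∏ q ∈ Finset.univ.filter (fun q => ∀ g : P, g • q = q), f q := by
  classical
  rw [← Finset.prod_filter_mul_prod_filter_not Finset.univ (fun q : Q => ∀ g : P, g • q = q)]
  refine (congrArg _ ?_).trans (mul_one _)
  rw [← Finset.prod_fiberwise_of_maps_to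
    (g := fun q : Q => Quotient.mk (MulAction.orbitRel P Q) q) (fun q _ => Finset.mem_univ _)]
  refine Finset.prod_eq_one fun o _ => ?_
  induction o using Quotient.inductionOn with
  | h q₀ =>
    set s := (Finset.univ.filter fun q : Q => ¬ ∀ g : P, g • q = q).filter
      fun q => Quotient.mk (MulAction.orbitRel P Q) q = Quotient.mk _ q₀
    have hmem : ∀ q ∈ s, q ∈ MulAction.orbit P q₀ := fun q hq => by
      have h := (Finset.mem_filter.1 hq).2
      exact MulAction.orbitRel_apply.1 (Quotient.exact h)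
    by_cases hfix : ∀ g : P, g • q₀ = q₀
    · refine Finset.prod_eq_one fun q hq => ?_
      obtain ⟨g, rfl⟩ := hmem q hq
      exact absurd (fun h : P => show h • g • q₀ = g • q₀ by rw [hfix g, hfix h]) (Finset.mem_filter.1
        (Finset.mem_filter.1 hq).1).2
    have hconst : ∀ q ∈ s, f q = f q₀ := fun q hq => by
      obtain ⟨g, rfl⟩ := hmem q hq
      exact hf g q₀
    rw [Finset.prod_congr rfl hconst, Finset.prod_const]
    have hs : s.card = Nat.card (MulAction.orbit P q₀) := by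
      rw [← Nat.card_eq_finsetCard]
      refine Nat.card_congr (Equiv.subtypeEquivRight fun q => ⟨hmem q, fun hq => ?_⟩)
      refine Finset.mem_filter.2 ⟨Finset.mem_filter.2 ⟨Finset.mem_univ _, fun h => hfix ?_⟩,
        Quotient.sound (MulAction.orbitRel_apply.2 hq)⟩
      obtain ⟨g, rfl⟩ := hq
      intro k
      have h1 := h (g * k * g⁻¹)
      rw [smul_smul, inv_mul_cancel_right, mul_smul] at h1
      exact MulAction.injective g h1
    obtain ⟨k, hk⟩ := hP.card_orbit q₀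
    rcases k with _ | k
    · exfalso
      refine hfix fun g => ?_
      have : Subsingleton (MulAction.orbit P q₀) := by
        rw [← Finite.card_le_one_iff_subsingleton, hk, pow_zero]
      exact congrArg Subtype.val (Subsingleton.elim
        (⟨g • q₀, MulAction.mem_orbit q₀ g⟩ : MulAction.orbit P q₀) ⟨q₀, MulAction.mem_orbit_self q₀⟩)
    · rw [hs, hk, pow_succ', pow_mul, hA, one_pow]

variable {Ω : Type u} [Group Ω] {S : Subgroup Ω} {F : FusionSystem S} {p : ℕ}
  {X : Type u} [MulAction (S × S) X] {A : Type*} [CommGroup A]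

/-- A character of `S` invariant under the system. -/
def Invariant (F : FusionSystem S) (χ : S →* A) : Prop :=
  ∀ (P : Subgroup Ω) (f : Ω → Ω), IsMap F P f →
    ∀ x y : S, (x : Ω) ∈ P → (y : Ω) = f x → χ y = χ x

/-- Representatives on which the cocycle has the character of its argument. -/
theorem exists_normal_reps (hfree : TwFree F X) {χ : S →* A} (hχ : Invariant F χ) :
    ∃ r : Quotient (rOrb S X) → X, (∀ q, Quotient.mk (rOrb S X) (r q) = q) ∧
      ∀ u q, χ (cocyc r u q) = χ u := by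
  let oS : Setoid (Quotient (rOrb S X)) :=
    { r := fun q q' => ∃ v : S, actQ v q = q'
      iseqv := ⟨fun q => ⟨1, actQ_one q⟩,
        fun {q q'} ⟨v, e⟩ => ⟨v⁻¹, by rw [← e, ← actQ_mul, inv_mul_cancel, actQ_one]⟩,
        fun {a b c} ⟨v, e⟩ ⟨w, e'⟩ => ⟨w * v, by rw [actQ_mul, e, e']⟩⟩ }
  let base : Quotient (rOrb S X) → X := fun q =>
    Quotient.out (Quotient.out (Quotient.mk oS q) : Quotient (rOrb S X))
  have hb : ∀ q, ∃ v : S, actQ v (Quotient.out (Quotient.mk oS q)) = q :=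
    fun q => Quotient.mk_out (s := oS) q
  choose v hv using hb
  let r : Quotient (rOrb S X) → X := fun q => ((v q, v q) : S × S) • base q
  have hr : ∀ q, Quotient.mk (rOrb S X) (r q) = q := fun q => by
    rw [mk_smul]
    show actQ (v q) (Quotient.mk _ (Quotient.out _)) = q
    rw [Quotient.out_eq, hv]
  refine ⟨r, hr, fun u q => ?_⟩
  have h := cocyc_spec hr u q
  have hbase : base (actQ u q) = base q := by
    show Quotient.out (Quotient.out (Quotient.mk oS (actQ u q))) = _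
    rw [show Quotient.mk oS (actQ u q) = Quotient.mk oS q from
      Quotient.sound (oS.iseqv.symm ⟨u, rfl⟩)]
  change (u, cocyc r u q) • (v q, v q) • base q =
    (v (actQ u q), v (actQ u q)) • base (actQ u q) at h
  rw [hbase, ← inv_smul_eq_iff, smul_smul, smul_smul] at h
  obtain ⟨f, hf, hfv⟩ := hfree (base q)
  have hl := mem_stabilizer_iff.2 h
  have h1 := hχ _ f hf _ _ (mem_srcSub hl) (hfv _ hl).symm
  simp only [Prod.fst_mul, Prod.snd_mul, Prod.fst_inv, Prod.snd_inv, map_mul, map_inv] at h1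
  exact mul_left_cancel (mul_right_cancel h1)

variable [Finite S] [Finite X]

noncomputable local instance : Fintype (Quotient (rOrb S X)) := Fintype.ofFinite _

variable (r : Quotient (rOrb S X) → X) (χ : S →* A)

/-- `w` is a twist value of `f` on `P`. -/
def Tw (F : FusionSystem S) (r : Quotient (rOrb S X) → X) (χ : S →* A) (P : Subgroup Ω)
    (f : Ω → Ω) (w : A) : Prop :=
  IsMap F P f ∧ ∃ (e : Equiv.Perm (Quotient (rOrb S X))) (z : Quotient (rOrb S X) → S),
    (∀ x y : S, (x : Ω) ∈ P → (y : Ω) = f x → ∀ q, actQ y (e q) = e (actQ x q) ∧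
      cocyc r y (e q) = (z (actQ x q))⁻¹ * cocyc r x q * z q) ∧ ∏ q, χ (z q) = w

variable {r χ}

theorem Tw.congr {P : Subgroup Ω} {f g : Ω → Ω} {w : A} (h : Tw F r χ P f w)
    (he : ∀ x ∈ P, f x = g x) : Tw F r χ P g w := by
  obtain ⟨hf, e, z, hez, hw⟩ := h
  exact ⟨hf.congr he, e, z, fun x y hx hy => hez x y hx (hy.trans (he _ hx).symm), hw⟩

theorem Tw.mono {P Q : Subgroup Ω} {f : Ω → Ω} {w : A} (h : Tw F r χ Q f w) (hPQ : P ≤ Q) :
    Tw F r χ P f w := by
  obtain ⟨hf, e, z, hez, hw⟩ := h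
  exact ⟨hf.mono hPQ, e, z, fun x y hx => hez x y (hPQ hx), hw⟩

theorem Tw.comp {P Q : Subgroup Ω} {f g : Ω → Ω} {w w' : A} (h : Tw F r χ P f w)
    (h' : Tw F r χ Q g w') (hm : ∀ x ∈ P, f x ∈ Q) : Tw F r χ P (g ∘ f) (w * w') := by
  obtain ⟨hf, e, z, hez, hw⟩ := h
  obtain ⟨hg, e', z', hez', hw'⟩ := h'
  refine ⟨hf.comp hg hm, e.trans e', fun q => z q * z' (e q), fun x y hx hy q => ?_, ?_⟩
  · set m : S := ⟨f x, hf.mem hx⟩
    obtain ⟨h1, h2⟩ := hez x m hx rfl q
    obtain ⟨h3, h4⟩ := hez' m y (hm _ hx) hy (e q)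
    refine ⟨by simp only [Equiv.trans_apply]; rw [h3, h1], ?_⟩
    simp only [Equiv.trans_apply]
    rw [h4, h1, h2]
    group
  · simp only [map_mul, Finset.prod_mul_distrib, hw]
    rw [Equiv.prod_comp e (fun q => χ (z' q)), hw']

theorem Tw.symm {P Q : Subgroup Ω} {f g : Ω → Ω} {w : A} (h : Tw F r χ P f w)
    (hi : IsIso F P Q f) (hg : IsIso F Q P g) (h1 : ∀ x ∈ P, g (f x) = x) :
    Tw F r χ Q g w⁻¹ := by
  obtain ⟨hf, e, z, hez, hw⟩ := h
  refine ⟨hg.isMap, e.symm, fun q => (z (e.symm q))⁻¹, fun y x hy hx q => ?_, ?_⟩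
  · obtain ⟨a, ha, hae⟩ := hi.surj hy
    have hxa : (x : Ω) = a := by rw [hx, ← hae, h1 a ha]
    obtain ⟨h2, h3⟩ := hez x y (hxa ▸ ha) (by rw [hxa, hae]) (e.symm q)
    rw [Equiv.apply_symm_apply] at h2 h3
    have h4 : e.symm (actQ y q) = actQ x (e.symm q) := by rw [h2, Equiv.symm_apply_apply]
    refine ⟨h4.symm, ?_⟩
    simp only
    rw [h4, h3]
    group
  · simp only [map_inv, Finset.prod_inv_distrib]
    rw [Equiv.prod_comp e.symm (fun q => χ (z q)), hw]

theorem tw_conj (hfree : TwFree F X) (hr : ∀ q, Quotient.mk (rOrb S X) (r q) = q)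
    (hn : ∀ u q, χ (cocyc r u q) = χ u) {P : Subgroup Ω} (hP : P ≤ S) (g : S) :
    Tw F r χ P (fun x => (g : Ω) * x * (g : Ω)⁻¹)
      ((χ g ^ Nat.card (Quotient (rOrb S X)))⁻¹) := by
  refine ⟨isMap_conj hP g.2, permQ g, fun q => (cocyc r g q)⁻¹, fun x y _ hy q => ?_, ?_⟩
  · have hyx : y = g * x * g⁻¹ := Subtype.ext hy
    have h1 : actQ y (actQ g q) = actQ g (actQ x q) := by
      rw [hyx, ← actQ_mul, inv_mul_cancel_right, actQ_mul]
    refine ⟨h1, ?_⟩
    show cocyc r y (actQ g q) = _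
    have h2 := cocyc_mul hfree hr y g q
    rw [show y * g = g * x by rw [hyx, inv_mul_cancel_right], cocyc_mul hfree hr g x q] at h2
    rw [inv_inv, h2, mul_inv_cancel_right]
  · simp only [map_inv, hn, Finset.prod_inv_distrib, Finset.prod_const, Finset.card_univ,
      Nat.card_eq_fintype_card]

theorem exists_tw (hfree : TwFree F X) (hst : StableFrom F X 0)
    (hr : ∀ q, Quotient.mk (rOrb S X) (r q) = q) {R : Subgroup Ω} {f : Ω → Ω}
    (hf : IsMap F R f) : ∃ w, Tw F r χ R f w := by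
  let P : Subgroup S := R.subgroupOf S
  have hPR : P.map S.subtype = R := Subgroup.map_subgroupOf_eq_of_le hf.le
  let ψ : P →* S := MonoidHom.mk' (fun y => ⟨f ((y : S) : Ω), hf.mem y.2⟩)
    fun a b => Subtype.ext (hf.map_mul a.2 b.2)
  obtain ⟨Θ, hΘ⟩ := exists_twist hfree hst P ψ (f := f) (by rw [hPR]; exact hf) fun y => rfl
  have hΘ1 : ∀ (s : S) (a : X), Θ (((1 : S), s) • a) = ((1, s) : S × S) • Θ a := fun s a => by
    have := hΘ 1 s a
    rwa [map_one, OneMemClass.coe_one] at this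
  let e : Equiv.Perm (Quotient (rOrb S X)) := Quotient.congr Θ fun a b => by
    constructor
    · rintro ⟨s, rfl⟩; exact ⟨s, (hΘ1 s a).symm⟩
    · rintro ⟨s, hs⟩; exact ⟨s, Θ.injective ((hΘ1 s a).trans hs)⟩
  have hz : ∀ q, ∃ s : S, ((1, s) : S × S) • r (e q) = Θ (r q) := fun q =>
    Quotient.exact (show Quotient.mk (rOrb S X) (r (e q)) = Quotient.mk _ (Θ (r q)) by
      rw [hr]; conv_lhs => rw [← hr q]
      rfl)
  choose z hz using hz
  refine ⟨_, hf, e, z, fun x y hx hy q => ?_, rfl⟩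
  have hyψ : y = ψ ⟨x, hx⟩ := Subtype.ext hy
  subst hyψ
  have hact : actQ (ψ ⟨x, hx⟩) (e q) = e (actQ x q) := by
    conv_lhs => rw [← hr q]
    conv_rhs => rw [← hr q, ← mk_smul (x, (1 : S))]
    show actQ (ψ ⟨x, hx⟩) (Quotient.mk _ (Θ (r q))) = Quotient.mk _ (Θ _)
    have h0 := hΘ ⟨x, hx⟩ 1 (r q)
    rw [show Θ ((x, (1 : S)) • r q) = _ from h0, mk_smul]
  refine ⟨hact, cocyc_eq hfree hr ?_⟩
  have h1 : ((ψ ⟨x, hx⟩, cocyc r x q) : S × S) • Θ (r q) = Θ (r (actQ x q)) := by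
    rw [← hΘ ⟨x, hx⟩ (cocyc r x q) (r q)]
    exact congrArg Θ (cocyc_spec hr x q)
  rw [← hz, ← hz, ← inv_smul_eq_iff, smul_smul, smul_smul] at h1
  rw [hact, ← h1]
  congr 1
  simp [mul_assoc]

/-- The identity has trivial twist value when centralisers of conjugates have trivial character. -/
theorem tw_id_eq_one [Fact p.Prime] (hS : IsPGroup p S) (hfree : TwFree F X)
    (hr : ∀ q, Quotient.mk (rOrb S X) (r q) = q) (hn : ∀ u q, χ (cocyc r u q) = χ u)
    (hA : ∀ a : A, a ^ p = 1) {P : Subgroup Ω} (hP : P ≤ S)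
    (hker : ∀ P', F.IsConj P P' → ∀ s : S, (s : Ω) ∈ centralizerIn S P' → χ s = 1) {w : A}
    (h : Tw F r χ P id w) : w = 1 := by
  classical
  obtain ⟨-, e, z, hez, hw⟩ := h
  subst hw
  have := finite_of_le hP
  letI : MulAction P (Quotient (rOrb S X)) :=
    { smul := fun x q => actQ (⟨x, hP x.2⟩ : S) q
      one_smul := fun q => actQ_one q
      mul_smul := fun a b q => actQ_mul (⟨a, hP a.2⟩ : S) ⟨b, hP b.2⟩ q }
  let x' : P → S := fun x => ⟨x, hP x.2⟩
  have hcast : ∀ (x : P) (q : Quotient (rOrb S X)), x • q = actQ (x' x) q := fun _ _ => rfl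
  have hinv : ∀ (x : P) q, χ (z (x • q)) = χ (z q) := fun x q => by
    obtain ⟨-, h2⟩ := hez (x' x) (x' x) x.2 rfl q
    have h3 := congrArg χ h2
    rw [map_mul, map_mul, map_inv, hn, hn, mul_assoc, eq_inv_mul_iff_mul_eq,
      mul_comm (χ (z (actQ (x' x) q)))] at h3
    exact mul_left_cancel h3
  rw [prod_eq_prod_fixed (hS.to_le hP) hA (fun q => χ (z q)) hinv]
  set Fx := Finset.univ.filter (fun q : Quotient (rOrb S X) => ∀ g : P, g • q = q)
  have hfx : ∀ q ∈ Fx, ∀ x : P, actQ (x' x) q = q := fun q hq x => (Finset.mem_filter.1 hq).2 x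
  have heF : ∀ q, q ∈ Fx ↔ e q ∈ Fx := fun q => by
    simp only [Fx, Finset.mem_filter, Finset.mem_univ, true_and, hcast]
    refine forall_congr' fun x => ?_
    rw [(hez (x' x) (x' x) x.2 rfl q).1, e.injective.eq_iff]
  let ρ : {q // q ∈ Fx} → P → S := fun q x => cocyc r (x' x) q
  let oF : Setoid {q // q ∈ Fx} :=
    { r := fun q q' => ∃ s : S, ∀ x, ρ q' x = s * ρ q x * s⁻¹
      iseqv := ⟨fun q => ⟨1, fun x => by group⟩,
        fun {a b} ⟨s, hs⟩ => ⟨s⁻¹, fun x => by rw [hs]; group⟩,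
        fun {a b c} ⟨s, hs⟩ ⟨t, ht⟩ => ⟨t * s, fun x => by rw [ht, hs]; group⟩⟩ }
  have hσ : ∀ q : {q // q ∈ Fx}, ∃ s : S, ∀ x,
      ρ q x = s * ρ (Quotient.out (Quotient.mk oF q)) x * s⁻¹ :=
    fun q => Quotient.mk_out (s := oF) q
  choose σ hσ using hσ
  have hcent : ∀ (q : {q // q ∈ Fx}) (s : S), (∀ x, s * ρ q x * s⁻¹ = ρ q x) → χ s = 1 := by
    intro q s hs
    obtain ⟨f, hf, hfv⟩ := hfree (r q)
    have hst : ∀ x : P, ((x' x, ρ q x) : S × S) ∈ stabilizer (S × S) (r q) := fun x => by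
      refine mem_stabilizer_iff.2 ?_
      have h1 := cocyc_spec hr (x' x) (q : Quotient (rOrb S X))
      rwa [hfx q q.2 x] at h1
    obtain ⟨P', hP'⟩ := (hf.mono fun x hx => mem_srcSub (hst ⟨x, hx⟩)).exists_iso
    refine hker P' hP'.isConj s ⟨s.2, mem_centralizer_of_conj_eq fun y hy => ?_⟩
    obtain ⟨x, hx, rfl⟩ := hP'.surj hy
    rw [show f x = (ρ q ⟨x, hx⟩ : Ω) from hfv _ (hst ⟨x, hx⟩)]
    exact congrArg Subtype.val (hs ⟨x, hx⟩)
  have hstep : ∀ q : {q // q ∈ Fx}, χ (z q) * χ (σ ⟨e q, (heF q).1 q.2⟩) = χ (σ q) := by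
    intro q
    set q' : {q // q ∈ Fx} := ⟨e q, (heF q).1 q.2⟩
    have hrel : ∀ x, ρ q' x = (z q)⁻¹ * ρ q x * z q := fun x => by
      have h1 := (hez (x' x) (x' x) x.2 rfl q).2
      rwa [hfx q q.2 x] at h1
    have hmk : Quotient.mk oF q' = Quotient.mk oF q :=
      Quotient.sound (oF.iseqv.symm ⟨(z q)⁻¹, fun x => by rw [hrel, inv_inv]⟩)
    have h1 := hcent (Quotient.out (Quotient.mk oF q)) ((σ q')⁻¹ * (z q)⁻¹ * σ q) fun x => by
      have e1 := hσ q' x
      rw [hmk, hrel x, hσ q x] at e1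
      calc (σ q')⁻¹ * (z q)⁻¹ * σ q * ρ (Quotient.out (Quotient.mk oF q)) x *
            ((σ q')⁻¹ * (z q)⁻¹ * σ q)⁻¹
          = (σ q')⁻¹ * ((z q)⁻¹ * (σ q * ρ (Quotient.out (Quotient.mk oF q)) x * (σ q)⁻¹) * z q) *
              σ q' := by group
        _ = _ := by rw [e1]; group
    simp only [map_mul, map_inv] at h1
    rw [mul_comm, ← inv_mul_eq_one, mul_inv_rev, mul_comm (χ (z q))⁻¹]
    exact h1
  rw [← Finset.prod_attach]
  have hperm : ∏ q : {q // q ∈ Fx}, χ (σ ⟨e q, (heF q).1 q.2⟩) = ∏ q, χ (σ q) := by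
    refine Equiv.prod_comp (e.subtypeEquiv heF) fun q => χ (σ q)
  have hall : (∏ q : {q // q ∈ Fx}, χ (z q)) * ∏ q : {q // q ∈ Fx}, χ (σ q) =
      ∏ q : {q // q ∈ Fx}, χ (σ q) := by
    conv_lhs => rw [← hperm]
    rw [← Finset.prod_mul_distrib]
    exact Finset.prod_congr rfl fun q _ => hstep q
  exact mul_eq_right.1 hall

end CfsgLib.Fusion.PowerIndex
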