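import Mathlib
import Cfsg.Agent.Lib.Fusion.WeaklyNormalResidual

/-!
The `p'`-residual of a weakly normal subsystem satisfies the extension condition.
-/

set_option autoImplicit false

namespace CfsgLib.Fusion.Residual

open Cfsg Cfsg.FusionSystem

variable {Ω : Type*} [Group Ω] {S T : Subgroup Ω} {F : FusionSystem S} {E : FusionSystem T}
  {p : ℕ}

/-- `C_S(T)` centralises every subgroup of `T`. -/
theorem cs_le_centralizer {P : Subgroup Ω} (hP : P ≤ T) :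
    centralizerIn S T ≤ Subgroup.centralizer (P : Set Ω) :=
  inf_le_right.trans (Subgroup.centralizer_le hP)

/-- `f` extends over `C_S(T)`, trivially modulo `T`. -/
def Ext (F : FusionSystem S) (T P : Subgroup Ω) (f : Ω → Ω) : Prop :=
  ∃ g, IsMap F (P ⊔ centralizerIn S T) g ∧ (∀ x ∈ P, g x = f x) ∧
    ∀ c ∈ centralizerIn S T, c⁻¹ * g c ∈ T

theorem Ext.mono {P R : Subgroup Ω} {f : Ω → Ω} (h : Ext F T P f) (hRP : R ≤ P) : Ext F T R f := by
  obtain ⟨g, hg, hv, hc⟩ := h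
  exact ⟨g, hg.mono (sup_le_sup_right hRP _), fun x hx => hv x (hRP hx), hc⟩

theorem Ext.congr {P : Subgroup Ω} {f f' : Ω → Ω} (h : Ext F T P f) (he : ∀ x ∈ P, f x = f' x) :
    Ext F T P f' := by
  obtain ⟨g, hg, hv, hc⟩ := h
  exact ⟨g, hg, fun x hx => (hv x hx).trans (he x hx), hc⟩

/-- The image of an extension. -/
theorem ext_iso (hTS : T ≤ S) {P P' : Subgroup Ω} {f g : Ω → Ω} (hPc : E.IsCentric P)
    (hf : IsIso E P P' f) (hg : IsMap F (P ⊔ centralizerIn S T) g)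
    (hv : ∀ x ∈ P, g x = f x) (hc : ∀ c ∈ centralizerIn S T, c⁻¹ * g c ∈ T) :
    (∀ c ∈ centralizerIn S T, c⁻¹ * g c ∈ P') ∧
      IsIso F (P ⊔ centralizerIn S T) (P' ⊔ centralizerIn S T) g := by
  have hP' := hf.le_right
  have hP'c := isCentric_of_isConj hPc hf.isConj
  have hmod : ∀ c ∈ centralizerIn S T, c⁻¹ * g c ∈ P' := fun c hc' => by
    refine hP'c.2 P' (isConj_refl hP') ⟨hc c hc', mem_centralizer_of_conj_eq fun z hz => ?_⟩
    obtain ⟨x, hx, rfl⟩ := hf.surj hz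
    have h1 := hg.map_conj (Subgroup.mem_sup_right hc') (Subgroup.mem_sup_left hx)
    rw [conj_eq_self_of_mem_centralizer (cs_le_centralizer hPc.1 hc') hx, hv x hx] at h1
    have h2 := conj_eq_self_of_mem_centralizer (cs_le_centralizer hP' hc') hz
    calc c⁻¹ * g c * f x * (c⁻¹ * g c)⁻¹ = c⁻¹ * (g c * f x * (g c)⁻¹) * c := by group
      _ = c⁻¹ * f x * c := by rw [← h1]
      _ = c⁻¹ * (c * f x * c⁻¹) * c := by rw [h2]
      _ = f x := by group
  refine ⟨hmod, hg, ?_⟩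
  ext y
  constructor
  · rintro ⟨z, hz, rfl⟩
    obtain ⟨u, hu, c, hc', rfl⟩ := exists_mul_of_mem_sup (cs_le_centralizer hPc.1) hz
    rw [hg.map_mul (Subgroup.mem_sup_left hu) (Subgroup.mem_sup_right hc'), hv u hu,
      ← mul_inv_cancel_left c (g c)]
    exact Subgroup.mul_mem _ (Subgroup.mem_sup_left (hf.mem hu))
      (Subgroup.mul_mem _ (Subgroup.mem_sup_right hc') (Subgroup.mem_sup_left (hmod c hc')))
  · intro hy
    obtain ⟨w, hw, c, hc', rfl⟩ := exists_mul_of_mem_sup (cs_le_centralizer hP') hy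
    obtain ⟨u, hu, rfl⟩ := hf.surj hw
    obtain ⟨u', hu', hu'e⟩ := hf.surj (hmod c hc')
    have hm : c * u'⁻¹ ∈ P ⊔ centralizerIn S T :=
      Subgroup.mul_mem _ (Subgroup.mem_sup_right hc') (Subgroup.mem_sup_left (P.inv_mem hu'))
    refine ⟨u * (c * u'⁻¹), Subgroup.mul_mem _ (Subgroup.mem_sup_left hu) hm, ?_⟩
    rw [hg.map_mul (Subgroup.mem_sup_left hu) hm,
      hg.map_mul (Subgroup.mem_sup_right hc') (Subgroup.mem_sup_left (P.inv_mem hu')),
      hg.map_inv (Subgroup.mem_sup_left hu'), hv u hu, hv u' hu', hu'e]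
    group

/-- Maps of `E` extending well on all centric subgroups of their sources. -/
def Good (F : FusionSystem S) (E : FusionSystem T) (P : Subgroup Ω) (f : Ω → Ω) : Prop :=
  IsMap E P f ∧ ∀ R ≤ P, E.IsCentric R → Ext F T R f

theorem isSubPred_good (hTS : T ≤ S) :
    PPrime.IsSubPred E (Good F E) where
  isMap h := h.1
  congr h he := ⟨h.1.congr he, fun R hR hc => (h.2 R hR hc).congr fun x hx => he x (hR hx)⟩
  conj := fun {P g} hP hg => by
    refine ⟨isMap_conj hP hg, fun R hR _ => ⟨fun x => g * x * g⁻¹,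
      isMap_conj (sup_le ((hR.trans hP).trans hTS) inf_le_left) (hTS hg), fun x _ => rfl,
      fun c hc => ?_⟩⟩
    have h1 : g * c = c * g := Subgroup.mem_centralizer_iff.1 hc.2 g hg
    show c⁻¹ * (g * c * g⁻¹) ∈ T
    rw [h1, mul_inv_cancel_right, inv_mul_cancel]
    exact T.one_mem
  comp := fun {P Q f f'} hf hf' hm => by
    refine ⟨hf.1.comp hf'.1 hm, fun R hR hc => ?_⟩
    obtain ⟨g, hg, hv, hcT⟩ := hf.2 R hR hc
    obtain ⟨R', hR'⟩ := (hf.1.mono hR).exists_iso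
    obtain ⟨hmod, hiso⟩ := ext_iso hTS hc hR' hg hv hcT
    have hR'Q : R' ≤ Q := fun y hy => by
      obtain ⟨x, hx, rfl⟩ := hR'.surj hy
      exact hm x (hR hx)
    obtain ⟨g', hg', hv', hcT'⟩ := hf'.2 R' hR'Q (isCentric_of_isConj hc hR'.isConj)
    refine ⟨g' ∘ g, hiso.isMap.comp hg' fun x hx => hiso.mem hx, fun x hx => ?_, fun c hcC => ?_⟩
    · show g' (g x) = f' (f x)
      rw [hv x hx, hv' _ (hR'.mem hx)]
    · show c⁻¹ * g' (g c) ∈ T
      rw [← mul_inv_cancel_left c (g c), hg'.map_mul (Subgroup.mem_sup_right hcC)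
        (Subgroup.mem_sup_left (hmod c hcC)), ← mul_assoc, hv' _ (hmod c hcC)]
      exact T.mul_mem (hcT' c hcC) (hf'.1.mem (hR'Q (hmod c hcC)))
  inv := fun {P Q f r} hf hi hr h1 => by
    refine ⟨hr.isMap, fun R hR hc => ?_⟩
    obtain ⟨R₀, hR₀⟩ := (hr.isMap.mono hR).exists_iso
    have hR₀P : R₀ ≤ P := fun y hy => by
      obtain ⟨x, hx, rfl⟩ := hR₀.surj hy
      exact hr.mem (hR hx)
    have hR₀c := isCentric_of_isConj hc hR₀.isConj
    obtain ⟨g, hg, hv, hcT⟩ := hf.2 R₀ hR₀P hR₀c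
    have hfr : ∀ x ∈ R, f (r x) = x := fun x hx => by
      obtain ⟨w, hw, rfl⟩ := hi.surj (hR hx)
      rw [h1 w hw]
    have hfi : IsIso E R₀ R f := ⟨hf.1.mono hR₀P, by
      rw [← hR₀.image_eq, Set.image_image]
      exact (Set.image_congr hfr).trans (Set.image_id _)⟩
    obtain ⟨hmod, hiso⟩ := ext_iso hTS hR₀c hfi hg hv hcT
    obtain ⟨g', hg', hg'1, -⟩ := hiso.exists_symm
    refine ⟨g', hg'.isMap, fun x hx => ?_, fun c hcC => ?_⟩
    · have h2 := hg'1 _ (Subgroup.mem_sup_left (hR₀.mem hx))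
      rwa [hv _ (hR₀.mem hx), hfr x hx] at h2
    · obtain ⟨u, hu, hue⟩ := hfi.surj (hmod c hcC)
      have hm : c * u⁻¹ ∈ R₀ ⊔ centralizerIn S T :=
        Subgroup.mul_mem _ (Subgroup.mem_sup_right hcC) (Subgroup.mem_sup_left (R₀.inv_mem hu))
      have h2 : g (c * u⁻¹) = c := by
        rw [hg.map_mul (Subgroup.mem_sup_right hcC) (Subgroup.mem_sup_left (R₀.inv_mem hu)),
          hg.map_inv (Subgroup.mem_sup_left hu), hv u hu, hue]
        group
      have h3 := hg'1 _ hm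
      rw [h2] at h3
      rw [h3, inv_mul_cancel_left]
      exact T.inv_mem (hR₀c.1 hu)

variable [Finite S] [Fact p.Prime]

theorem stronglyClosed_normal (hI : E.IsInvariantIn F) :
    S ≤ Subgroup.normalizer (T : Set Ω) := fun _ hs =>
  mem_normalizer_of_conj_mem hI.2.1.1 fun _ hx =>
    isMap_mem_of_stronglyClosed hI.2.1 (isMap_conj le_rfl hs) (hI.2.1.1 hx) hx

/-- `p`-elements of the automizer of a centric subgroup extend well. -/
theorem good_of_pElement (hS : IsPGroup p S) (h : E.IsWeaklyNormalIn F p) {P : Subgroup Ω}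
    (hPc : E.IsCentric P) {α : MulAut P} (hα : α ∈ E.autGroup P) {k : ℕ}
    (hk : orderOf α = p ^ k) : Good F E P (autFun α) := by
  obtain ⟨hEs, hF, hI⟩ := h
  have hTS := hI.2.1.1
  have hP := hPc.1
  have := finite_of_le hTS
  have hT : IsPGroup p T := hS.to_le hTS
  have hTn := stronglyClosed_normal hI
  refine ⟨((mem_autGroup_iff hP α).1 hα).isMap, fun R hR _ => Ext.mono ?_ hR⟩
  obtain ⟨Ps, hPs, hPsn⟩ := exists_isFullyNormalized (F := F) (hP.trans hTS)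
  have hra := isFullyAutomized_of_isFullyNormalized hS hF hPsn
  have hrr := isReceptive_of_isFullyNormalized hS hF hPsn
  obtain ⟨f, hf, hfP, hfN, hfC⟩ := exists_map_normalizerIn hS hra hrr hPs
  have hPsT : Ps ≤ T := le_of_iso hI hP hfP
  have hPsc : E.IsCentric Ps := isCentric_of_iso hI hPc hfP
  -- `Ps` is fully normalised in `E`
  have hPsE : E.IsFullyNormalized Ps := by
    refine ⟨hPsT, fun Q hQ => ?_⟩
    obtain ⟨q, hq, hqP, -, -⟩ := exists_map_normalizerIn hS hra hrr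
      (isConj_symm (isConj_of_subsystem hI.1 hQ))
    have hQT := (le_of_isConj hQ).2
    have := finite_of_le (S := S) (P := normalizerIn T Ps) (inf_le_left.trans hTS)
    have hle : normalizerIn T Q ≤ normalizerIn S Q := inf_le_inf_right _ hTS
    exact (hq.mono hle).card_le fun x hx =>
      ⟨isMap_mem_of_stronglyClosed hI.2.1 hq (hle hx) hx.1,
        (hq.mem_normalizerIn (le_normalizerIn (hQT.trans hTS)) hqP (hle hx) hx.2).2⟩
  set α' := MulAut.congr hfP.equiv α with hα'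
  have hfα : ∀ x ∈ P, autFun α' (f x) = f (autFun α x) := fun x hx => by
    rw [autFun_apply α hx, ← hfP.congr_apply α ⟨x, hx⟩, autFun_apply _ (hfP.mem hx)]
    rfl
  have hα'E : α' ∈ E.autGroup Ps :=
    mem_autGroup_transport hI hP hfP hα fun x hx => (hfα x hx).symm
  have := finite_of_le hP
  have := finite_mulAut P
  obtain ⟨δ, hδ, hδv⟩ := ((isFullyAutomized_iff hT).1
    (isFullyAutomized_of_isFullyNormalized hT hEs hPsE)).2 (Subgroup.zpowers α')
    (Subgroup.zpowers_le.2 hα'E) (by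
      have := finite_of_le hPsT
      have := finite_mulAut Ps
      exact IsPGroup.of_card (n := k) (by rw [Nat.card_zpowers, hα', MulEquiv.orderOf_eq, hk]))
  obtain ⟨g₁, hg₁, hgv⟩ := (mem_autInducedBy_iff T Ps _).1 (hδv α' (Subgroup.mem_zpowers α'))
  have hg₁S := hTS hg₁
  have hg₁n := (mem_normalizerIn_of_induces (hPsT.trans hTS) hg₁S hgv).2
  set Cs := centralizerIn S Ps
  set Xs := Ps ⊔ Cs
  have hPsS := hPsT.trans hTS
  have hXsS : Xs ≤ S := sup_le hPsS inf_le_left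
  have hδm := (mem_autGroup_iff hPsS δ).1
    ((mem_autGroup_iff hPsS δ).2 (((mem_autGroup_iff hPsT δ).1 hδ).of_subsystem hI.1))
  obtain ⟨δ', hδ', hδ'v⟩ := (isReceptive_iff.1 hrr).2 Ps _ hδm
  have hXle : Xs ≤ nPhi S Ps (autFun δ) :=
    sup_le (le_nPhi hδm.isMap) (centralizerIn_le_nPhi _ _)
  have hδX := hδ'.mono hXle
  have hδP : IsIso F Ps Ps δ' := hδm.congr fun x hx => (hδ'v x hx).symm
  have hδC : ∀ c ∈ Cs, δ' c ∈ Cs := fun c hc =>
    hδX.mem_centralizerIn le_sup_left hδP (Subgroup.mem_sup_right hc) hc.2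
  have := finite_of_le hXsS
  have hδiso : IsIso F Xs Xs δ' := hδX.isIso_of_card_le (fun y hy => by
    obtain ⟨u, hu, c, hc, rfl⟩ := exists_mul_of_mem_sup (inf_le_right : Cs ≤ _) hy
    rw [hδX.map_mul (Subgroup.mem_sup_left hu) (Subgroup.mem_sup_right hc)]
    exact Subgroup.mul_mem _ (Subgroup.mem_sup_left (hδP.mem hu))
      (Subgroup.mem_sup_right (hδC c hc))) le_rfl
  obtain ⟨r, hr, hr1, -⟩ := hδiso.exists_symm
  have hgC : ∀ w ∈ Cs, w⁻¹ * (g₁ * w * g₁⁻¹) ∈ Ps := fun w hw => by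
    refine hPsc.2 Ps (isConj_refl hPsT) ⟨?_, mem_centralizer_of_conj_eq fun z hz => ?_⟩
    · rw [← mul_assoc, ← mul_assoc]
      exact T.mul_mem ((Subgroup.mem_normalizer_iff''.1 (hTn hw.1) g₁).1 hg₁) (T.inv_mem hg₁)
    · have h1 := conj_eq_self_of_mem_centralizer hw.2 hz
      have hz' : g₁⁻¹ * z * g₁ ∈ Ps := (Subgroup.mem_normalizer_iff''.1 hg₁n z).1 hz
      have h2 := conj_eq_self_of_mem_centralizer hw.2 hz'
      calc w⁻¹ * (g₁ * w * g₁⁻¹) * z * (w⁻¹ * (g₁ * w * g₁⁻¹))⁻¹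
          = w⁻¹ * (g₁ * (w * (g₁⁻¹ * z * g₁) * w⁻¹) * g₁⁻¹) * w := by group
        _ = w⁻¹ * z * w := by rw [h2]; group
        _ = z := by
          rw [mul_assoc, inv_mul_eq_iff_eq_mul]
          exact (mul_inv_eq_iff_eq_mul.1 h1).symm
  have hgX : ∀ y ∈ Xs, g₁ * y * g₁⁻¹ ∈ Xs := fun y hy => by
    obtain ⟨u, hu, c, hc, rfl⟩ := exists_mul_of_mem_sup (inf_le_right : Cs ≤ _) hy
    rw [show g₁ * (u * c) * g₁⁻¹ = g₁ * u * g₁⁻¹ * (c * (c⁻¹ * (g₁ * c * g₁⁻¹))) by group]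
    exact Subgroup.mul_mem _ (Subgroup.mem_sup_left (conj_mem_of_mem_normalizer hg₁n hu))
      (Subgroup.mul_mem _ (Subgroup.mem_sup_right hc) (Subgroup.mem_sup_left (hgC c hc)))
  set β := r ∘ (fun y => g₁ * y * g₁⁻¹) ∘ δ' with hβdef
  have hβ : IsMap F Xs β :=
    (hδX.comp (isMap_conj hXsS hg₁S) fun y hy => hδiso.mem hy).comp hr.isMap
      fun y hy => hgX _ (hδiso.mem hy)
  have hβP : ∀ x ∈ Ps, β x = autFun α' x := fun x hx => by
    show r (g₁ * δ' x * g₁⁻¹) = _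
    have h1 := hgv (δ ⟨x, hx⟩)
    simp only [MulAut.mul_apply, MulAut.inv_apply_self] at h1
    have h2 : autFun δ (autFun α' x) = g₁ * δ' x * g₁⁻¹ := by
      rw [hδ'v x hx, autFun_apply δ hx, autFun_apply α' hx, autFun_coe]
      exact h1
    rw [← h2, ← hδ'v _ (autFun_mem α' hx), hr1 _ (Subgroup.mem_sup_left (autFun_mem α' hx))]
  have hβC : ∀ c ∈ Cs, c⁻¹ * β c ∈ Ps := fun c hc => by
    obtain ⟨z, hz, hze⟩ := hδP.surj (hgC _ (hδC c hc))
    show c⁻¹ * r (g₁ * δ' c * g₁⁻¹) ∈ Ps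
    rw [show g₁ * δ' c * g₁⁻¹ = δ' (c * z) by
      rw [hδX.map_mul (Subgroup.mem_sup_right hc) (Subgroup.mem_sup_left hz), hze,
        mul_inv_cancel_left],
      hr1 _ (Subgroup.mul_mem _ (Subgroup.mem_sup_right hc) (Subgroup.mem_sup_left hz)),
      inv_mul_cancel_left]
    exact hz
  -- back along `f`
  obtain ⟨B, hB⟩ := hf.exists_iso
  obtain ⟨r₀, hr₀, hr₀1, -⟩ := hB.exists_symm
  set C := centralizerIn S T
  have hCP : C ≤ centralizerIn S P := fun x hx => ⟨hx.1, cs_le_centralizer hP hx⟩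
  have hle : P ⊔ C ≤ normalizerIn S P :=
    sup_le (le_normalizerIn (hP.trans hTS)) (hCP.trans (centralizerIn_le_normalizerIn S P))
  have hfCs : ∀ c ∈ C, f c ∈ Cs := fun c hc => hfC c (hCP hc)
  have hfX : ∀ y ∈ P ⊔ C, f y ∈ Xs := fun y hy => by
    obtain ⟨u, hu, c, hc, rfl⟩ := exists_mul_of_mem_sup (cs_le_centralizer hP) hy
    rw [hf.map_mul (hle (Subgroup.mem_sup_left hu)) (hle (Subgroup.mem_sup_right hc))]
    exact Subgroup.mul_mem _ (Subgroup.mem_sup_left (hfP.mem hu))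
      (Subgroup.mem_sup_right (hfCs c hc))
  have hβf : ∀ u ∈ P, β (f u) = f (autFun α u) := fun u hu => by
    rw [hβP _ (hfP.mem hu), hfα u hu]
  have hinB : ∀ y ∈ P ⊔ C, β (f y) ∈ B := fun y hy => by
    obtain ⟨u, hu, c, hc, rfl⟩ := exists_mul_of_mem_sup (cs_le_centralizer hP) hy
    rw [hf.map_mul (hle (Subgroup.mem_sup_left hu)) (hle (Subgroup.mem_sup_right hc)),
      hβ.map_mul (Subgroup.mem_sup_left (hfP.mem hu)) (Subgroup.mem_sup_right (hfCs c hc)),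
      hβf u hu, ← mul_inv_cancel_left (f c) (β (f c))]
    obtain ⟨w, hw, hwe⟩ := hfP.surj (hβC _ (hfCs c hc))
    exact B.mul_mem (hB.mem (hle (Subgroup.mem_sup_left (autFun_mem α hu))))
      (B.mul_mem (hB.mem (hle (Subgroup.mem_sup_right hc)))
        (hwe ▸ hB.mem (hle (Subgroup.mem_sup_left hw))))
  refine ⟨r₀ ∘ β ∘ f, ((hf.mono hle).comp hβ hfX).comp hr₀.isMap hinB, fun x hx => ?_,
    fun c hc => ?_⟩
  · show r₀ (β (f x)) = _
    rw [hβf x hx, hr₀1 _ (hle (Subgroup.mem_sup_left (autFun_mem α hx)))]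
  · obtain ⟨w, hw, hwe⟩ := hfP.surj (hβC _ (hfCs c hc))
    show c⁻¹ * r₀ (β (f c)) ∈ T
    have h2 : β (f c) = f (c * w) := by
      rw [hf.map_mul (hle (Subgroup.mem_sup_right hc)) (hle (Subgroup.mem_sup_left hw)), hwe,
        mul_inv_cancel_left]
    rw [h2, hr₀1 _ (Subgroup.mul_mem _ (hle (Subgroup.mem_sup_right hc))
      (hle (Subgroup.mem_sup_left hw))), inv_mul_cancel_left]
    exact hP hw

/-- An automorphism of order prime to `p` of `P C_S(T)` fixing `P` extends to one of `T C_S(T)`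
fixing `T`. -/
theorem exists_kernel_ext (hS : IsPGroup p S) (h : E.IsWeaklyNormalIn F p) :
    ∀ (n : ℕ) (P : Subgroup Ω), Nat.card T - Nat.card P = n → E.IsCentric P →
      ∀ α ∈ F.autGroup (P ⊔ centralizerIn S T), (orderOf α).Coprime p →
        (∀ x ∈ P, autFun α x = x) →
        ∃ κ ∈ F.autGroup (T ⊔ centralizerIn S T), (∀ x ∈ T, autFun κ x = x) ∧
          ∀ c ∈ centralizerIn S T, autFun κ c = autFun α c := by
  obtain ⟨-, hF, hI⟩ := h
  intro n
  induction n using Nat.strong_induction_on with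
  | _ n ih =>
  intro P hn hPc
  have hP := hPc.1
  have hTS := hI.2.1.1
  have := finite_of_le hTS
  have hT : IsPGroup p T := hS.to_le hTS
  rcases eq_or_ne P T with rfl | hne
  · exact fun α hα _ hfix => ⟨α, hα, hfix, fun c _ => rfl⟩
  set C := centralizerIn S T with hC
  set N := normalizerIn T P
  have hPN : P < N := lt_normalizerIn hT hP hne
  have hNT : N ≤ T := inf_le_left
  set X := P ⊔ C
  set M := N ⊔ C
  intro α hα ho hfix
  have hXS : X ≤ S := sup_le (hP.trans hTS) inf_le_left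
  have hMS : M ≤ S := sup_le (hNT.trans hTS) inf_le_left
  have := finite_of_le hXS
  have hXM : X ≤ M := sup_le_sup_right hPN.le _
  have hMP : M ≤ normalizerIn S P :=
    sup_le (fun x hx => ⟨hTS hx.1, hx.2⟩)
      (fun x hx => centralizerIn_le_normalizerIn S P ⟨hx.1, cs_le_centralizer hP hx⟩)
  have hMX : M ≤ normalizerIn S X := by
    refine fun x hx => ⟨hMS hx, mem_normalizer_of_conj_mem hXS fun y hy => ?_⟩
    obtain ⟨u, hu, c, hc, rfl⟩ := exists_mul_of_mem_sup (cs_le_centralizer hP) hy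
    obtain ⟨n', hn', c', hc', rfl⟩ := exists_mul_of_mem_sup (cs_le_centralizer hNT) hx
    have h1 := conj_mem_of_mem_normalizer (hMP hx).2 hu
    rw [show n' * c' * (u * c) * (n' * c')⁻¹ =
      n' * c' * u * (n' * c')⁻¹ * (n' * (c' * c * c'⁻¹) * n'⁻¹) by group,
      conj_eq_self_of_mem_centralizer
        (Subgroup.mem_centralizer_iff.2 fun w hw => ?_ : n' ∈ Subgroup.centralizer (C : Set Ω))
        (C.mul_mem (C.mul_mem hc' hc) (C.inv_mem hc'))]
    · exact Subgroup.mul_mem _ (Subgroup.mem_sup_left h1)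
        (Subgroup.mem_sup_right (C.mul_mem (C.mul_mem hc' hc) (C.inv_mem hc')))
    · exact (Subgroup.mem_centralizer_iff.1 (Subgroup.mem_inf.1 hw).2 n' (hNT hn')).symm
  obtain ⟨Xs, Ps, u, hum, huX, huP, hrec, D, hUD, hD⟩ :=
    exists_position hS hF (le_sup_left : P ≤ X) hXS hXM hMX hMP
  obtain ⟨B, hB⟩ := hum.exists_iso
  have hXsS := hrec.1
  have hPsT : Ps ≤ T := le_of_iso hI hP huP
  have hPsc : E.IsCentric Ps := isCentric_of_iso hI hPc huP
  have := finite_of_le hXsS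
  have := finite_mulAut Xs
  have := finite_of_le hB.le_right
  have := finite_mulAut B
  set γ := MulAut.congr huX.equiv α with hγdef
  have hγF : γ ∈ F.autGroup Xs := huX.congr_mem_autGroup hα
  have hγo : (orderOf γ).Coprime p := by rwa [hγdef, MulEquiv.orderOf_eq]
  have hγv : ∀ x ∈ X, autFun γ (u x) = u (autFun α x) := fun x hx => by
    rw [autFun_apply α hx, ← huX.congr_apply α ⟨x, hx⟩, autFun_apply _ (huX.mem hx)]
    rfl
  have hγfix : ∀ z ∈ Ps, autFun γ z = z := fun z hz => by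
    obtain ⟨x, hx, rfl⟩ := huP.surj hz
    rw [hγv x (Subgroup.mem_sup_left hx), hfix x hx]
  have hPsXs : Ps ≤ Xs := fun z hz => by
    obtain ⟨x, hx, rfl⟩ := huP.surj hz
    exact huX.mem (Subgroup.mem_sup_left hx)
  have hsplit : ∀ y ∈ Xs, ∃ q ∈ Ps, ∃ c ∈ C, y = q * u c := fun y hy => by
    obtain ⟨x, hx, rfl⟩ := huX.surj hy
    obtain ⟨v, hv, c, hc, rfl⟩ := exists_mul_of_mem_sup (cs_le_centralizer hP) hx
    exact ⟨u v, huP.mem hv, c, hc,
      hum.map_mul (hXM (Subgroup.mem_sup_left hv)) (hXM (Subgroup.mem_sup_right hc))⟩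
  have hcomm : ∀ m ∈ N, ∀ c ∈ C, u m * u c * (u m)⁻¹ = u c := fun m hm c hc => by
    rw [← hum.map_conj (Subgroup.mem_sup_left hm) (Subgroup.mem_sup_right hc),
      show m * c * m⁻¹ = c by
        rw [Subgroup.mem_centralizer_iff.1 hc.2 m (hNT hm), mul_inv_cancel_right]]
  -- the images of `N` normalise the automorphism
  have hnphi : ∀ m ∈ N, u m ∈ nPhi S Xs (autFun γ) := fun m hm => by
    have hmM : m ∈ M := Subgroup.mem_sup_left hm
    have hnX := hum.mem_normalizerIn hXM huX hmM (hMX hmM).2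
    have hnP := hum.mem_normalizerIn (le_sup_left.trans hXM) huP hmM (hMP hmM).2
    set cx := conjAut Xs hnX.2
    have hcxS : cx ∈ autInducedBy S Xs := conjAut_mem_autInducedBy hnX.2 hnX.1
    have hcxG : cx ∈ SatExtend.stabF F Xs Ps :=
      ⟨autInducedBy_le_autGroup hXsS hcxS, SatExtend.stab_iff hPsXs fun z hz => by
        rw [conjAut_apply]; exact conj_mem_of_mem_normalizer hnP.2 hz⟩
    have hγG : γ ∈ SatExtend.stabF F Xs Ps :=
      ⟨hγF, SatExtend.stab_iff hPsXs fun z hz => by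
        rw [← autFun_coe γ, hγfix _ hz]; exact hz⟩
    set g₀ : SatExtend.stabF F Xs Ps := ⟨γ, hγG⟩
    set x₀ : SatExtend.stabF F Xs Ps := ⟨cx, hcxG⟩
    have hfixγ : ∀ z : Xs, (z : Ω) ∈ Ps → γ z = z ∧ γ⁻¹ z = z := fun z hz => by
      have h1 : γ z = z := Subtype.ext (by rw [← autFun_coe γ]; exact hγfix _ hz)
      exact ⟨h1, by conv_lhs => rw [← h1, MulAut.inv_apply_self]⟩
    have hkU : g₀ * x₀ * g₀⁻¹ * x₀⁻¹ ∈ trivMod F Xs Ps := by
      have hv : ∀ z : Xs, ((g₀ * x₀ * g₀⁻¹ * x₀⁻¹ : SatExtend.stabF F Xs Ps) : MulAut Xs) z =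
          γ (cx (γ⁻¹ (cx⁻¹ z))) := fun z => rfl
      have hfixκ : ∀ z : Xs, (z : Ω) ∈ Ps → γ (cx (γ⁻¹ (cx⁻¹ z))) = z := fun z hz => by
        have hz' : ((cx⁻¹ z : Xs) : Ω) ∈ Ps :=
          (((SatExtend.stabF F Xs Ps).inv_mem hcxG).2 z).2 hz
        rw [(hfixγ _ hz').2, MulAut.apply_inv_self, (hfixγ z hz).1]
      refine ⟨fun z hz => by rw [hv]; exact hfixκ z hz, fun z => ?_⟩
      rw [hv]
      obtain ⟨q, hq, c, hc, hze⟩ := hsplit z z.2
      have hcX : u c ∈ Xs := huX.mem (Subgroup.mem_sup_right hc)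
      have hz : z = (⟨q, hPsXs hq⟩ : Xs) * ⟨u c, hcX⟩ := Subtype.ext hze
      have hcx : cx (⟨u c, hcX⟩ : Xs) = ⟨u c, hcX⟩ :=
        Subtype.ext (by rw [conjAut_apply]; exact hcomm m hm c hc)
      have hcxi : cx⁻¹ (⟨u c, hcX⟩ : Xs) = ⟨u c, hcX⟩ := by
        conv_lhs => rw [← hcx, MulAut.inv_apply_self]
      -- where `c` goes
      obtain ⟨q', hq', c', hc', hee⟩ := hsplit _ (γ⁻¹ (⟨u c, hcX⟩ : Xs)).2
      have hc'X : u c' ∈ Xs := huX.mem (Subgroup.mem_sup_right hc')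
      have he : γ⁻¹ (⟨u c, hcX⟩ : Xs) = (⟨q', hPsXs hq'⟩ : Xs) * ⟨u c', hc'X⟩ := Subtype.ext hee
      have hc'x : cx (⟨u c', hc'X⟩ : Xs) = ⟨u c', hc'X⟩ :=
        Subtype.ext (by rw [conjAut_apply]; exact hcomm m hm c' hc')
      have hq'' : (u m * q' * (u m)⁻¹ * q'⁻¹) ∈ Ps :=
        Ps.mul_mem (conj_mem_of_mem_normalizer hnP.2 hq') (Ps.inv_mem hq')
      have hstep : cx (γ⁻¹ (⟨u c, hcX⟩ : Xs)) =
          (⟨_, hPsXs hq''⟩ : Xs) * γ⁻¹ (⟨u c, hcX⟩ : Xs) := by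
        rw [he, map_mul, hc'x, ← mul_assoc]
        congr 1
        apply Subtype.ext
        rw [conjAut_apply]
        show _ = u m * q' * (u m)⁻¹ * q'⁻¹ * q'
        rw [inv_mul_cancel_right]
      have hmain : γ (cx (γ⁻¹ (cx⁻¹ (⟨u c, hcX⟩ : Xs)))) =
          (⟨_, hPsXs hq''⟩ : Xs) * ⟨u c, hcX⟩ := by
        rw [hcxi, hstep, map_mul, (hfixγ _ hq'').1, MulAut.apply_inv_self]
      rw [hz, map_mul, map_mul, map_mul, map_mul, hfixκ _ hq, hmain]
      show ((q * u c)⁻¹ * (q * (u m * q' * (u m)⁻¹ * q'⁻¹ * u c))) ∈ Ps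
      have h5 : (u c)⁻¹ * (u m * q' * (u m)⁻¹ * q'⁻¹) * u c = u m * q' * (u m)⁻¹ * q'⁻¹ := by
        have hcc : ∀ v ∈ Ps, u c * v * (u c)⁻¹ = v := fun v hv => by
          obtain ⟨v', hv', rfl⟩ := huP.surj hv
          rw [← hum.map_conj (Subgroup.mem_sup_right hc) (hXM (Subgroup.mem_sup_left hv')),
            conj_eq_self_of_mem_centralizer (cs_le_centralizer hP hc) hv']
        conv_rhs => rw [← inv_mul_cancel_left (u c) (u m * q' * (u m)⁻¹ * q'⁻¹)]
        conv_lhs => rw [← hcc _ hq'']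
        group
      rw [show (q * u c)⁻¹ * (q * (u m * q' * (u m)⁻¹ * q'⁻¹ * u c)) =
        (u c)⁻¹ * (u m * q' * (u m)⁻¹ * q'⁻¹) * u c by group, h5]
      exact hq''
    have hxD : x₀ ∈ (D : Subgroup (SatExtend.stabF F Xs Ps)) := by
      rw [hD, Subgroup.mem_subgroupOf]
      exact ⟨hcxS, hcxG.2⟩
    have hgxg := Subgroup.mul_mem _ (hUD hkU) hxD
    rw [inv_mul_cancel_right, hD, Subgroup.mem_subgroupOf] at hgxg
    obtain ⟨s, hs, hsv⟩ := (mem_autInducedBy_iff S Xs _).1 hgxg.1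
    refine ⟨hnX.1, hnX.2, s, hs, fun z hz => ?_⟩
    have h1 := hsv (γ ⟨z, hz⟩)
    rw [autFun_apply γ (conj_mem_of_mem_normalizer hnX.2 hz), autFun_apply γ hz, ← h1]
    show _ = ((γ (cx (γ⁻¹ (γ ⟨z, hz⟩))) : Xs) : Ω)
    rw [MulAut.inv_apply_self]
    rfl
  obtain ⟨γ', hγ', hγ'v⟩ := (isReceptive_iff.1 hrec).2 Xs _ ((mem_autGroup_iff hXsS γ).1 hγF)
  have hBN : B ≤ nPhi S Xs (autFun γ) := fun y hy => by
    obtain ⟨x, hx, rfl⟩ := hB.surj hy
    obtain ⟨m, hm, c, hc, rfl⟩ := exists_mul_of_mem_sup (cs_le_centralizer hNT) hx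
    rw [hum.map_mul (Subgroup.mem_sup_left hm) (Subgroup.mem_sup_right hc)]
    exact Subgroup.mul_mem _ (hnphi m hm)
      (le_nPhi ((mem_autGroup_iff hXsS γ).1 hγF).isMap (huX.mem (Subgroup.mem_sup_right hc)))
  have hγB := hγ'.mono hBN
  have hXB : Xs ≤ B := fun y hy => by
    obtain ⟨x, hx, rfl⟩ := huX.surj hy
    exact hB.mem (hXM hx)
  have huNT : ∀ m ∈ N, u m ∈ T := fun m hm =>
    isMap_mem_of_stronglyClosed hI.2.1 hum (Subgroup.mem_sup_left hm) (hNT hm)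
  have hmodP : ∀ m ∈ N, (u m)⁻¹ * γ' (u m) ∈ Ps := fun m hm => by
    have hmB : u m ∈ B := hB.mem (Subgroup.mem_sup_left hm)
    refine hPsc.2 Ps (isConj_refl hPsT) ⟨T.mul_mem (T.inv_mem (huNT m hm))
      (isMap_mem_of_stronglyClosed hI.2.1 hγB hmB (huNT m hm)),
      mem_centralizer_of_conj_eq fun z hz => ?_⟩
    have hnP := hum.mem_normalizerIn (le_sup_left.trans hXM) huP (Subgroup.mem_sup_left hm)
      (hMP (Subgroup.mem_sup_left hm)).2
    have hcm := conj_mem_of_mem_normalizer hnP.2 hz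
    have h1 := hγB.map_conj hmB (hXB (hPsXs hz))
    rw [hγ'v _ (hPsXs hz), hγfix z hz, hγ'v _ (hPsXs hcm), hγfix _ hcm] at h1
    calc (u m)⁻¹ * γ' (u m) * z * ((u m)⁻¹ * γ' (u m))⁻¹
        = (u m)⁻¹ * (γ' (u m) * z * (γ' (u m))⁻¹) * u m := by group
      _ = z := by rw [← h1]; group
  have hmapB : ∀ y ∈ B, γ' y ∈ B := fun y hy => by
    obtain ⟨x, hx, rfl⟩ := hB.surj hy
    obtain ⟨m, hm, c, hc, rfl⟩ := exists_mul_of_mem_sup (cs_le_centralizer hNT) hx
    have hc' := huX.mem (Subgroup.mem_sup_right hc)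
    rw [hum.map_mul (Subgroup.mem_sup_left hm) (Subgroup.mem_sup_right hc),
      hγB.map_mul (hB.mem (Subgroup.mem_sup_left hm)) (hXB hc'), hγ'v _ hc',
      ← mul_inv_cancel_left (u m) (γ' (u m))]
    exact B.mul_mem (B.mul_mem (hB.mem (Subgroup.mem_sup_left hm))
      (hXB (hPsXs (hmodP m hm)))) (hXB (autFun_mem γ hc'))
  obtain ⟨δ₀, hδ₀, hδ₀v⟩ := exists_mem_autGroup (hγB.isIso_of_card_le hmapB le_rfl)
  obtain ⟨m₁, hm₁, hm₁o⟩ := exists_pPrime_pow δ₀ hγo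
  set δ := δ₀ ^ m₁
  have hpowX : ∀ (k : ℕ) (z : Xs), ((δ₀ ^ k) ⟨z, hXB z.2⟩ : Ω) = ((γ ^ k) z : Ω) := by
    intro k
    induction k with
    | zero => intro z; rfl
    | succ k ihk =>
      intro z
      rw [pow_succ', pow_succ', MulAut.mul_apply, MulAut.mul_apply, hδ₀v, ihk z,
        hγ'v _ (SetLike.coe_mem _), autFun_coe]
  have hδX : ∀ z : Xs, (δ ⟨z, hXB z.2⟩ : Ω) = (γ z : Ω) := fun z => by
    rw [hpowX, pow_eq_self_of_modEq hm₁]
  have hδP : ∀ z : B, (z : Ω) ∈ Ps → δ z = z := fun z hz => Subtype.ext (by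
    have h1 := hδX ⟨z, hPsXs hz⟩
    rw [← autFun_coe γ, hγfix _ hz] at h1
    exact h1)
  have hδN : ∀ x ∈ N, ∀ (hx : u x ∈ B), δ ⟨u x, hx⟩ = ⟨u x, hx⟩ := fun x hx hxB => by
    obtain ⟨j, hj⟩ := (hS.to_le hB.le_right).exists_card_eq
    have hmod : ∀ k : ℕ, ((⟨u x, hxB⟩ : B)⁻¹ * (δ₀ ^ k) ⟨u x, hxB⟩ : B).1 ∈ Ps := by
      intro k
      induction k with
      | zero => simp
      | succ k ihk =>
        set w := (⟨u x, hxB⟩ : B)⁻¹ * (δ₀ ^ k) ⟨u x, hxB⟩
        have h1 : (δ₀ ^ (k + 1)) ⟨u x, hxB⟩ = δ₀ ⟨u x, hxB⟩ * δ₀ w := by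
          rw [pow_succ', MulAut.mul_apply, ← map_mul, mul_inv_cancel_left]
        have h2 : (δ₀ w : Ω) = w := by
          rw [hδ₀v, hγ'v _ (hPsXs ihk), hγfix _ ihk]
        rw [h1, ← mul_assoc, Subgroup.coe_mul, h2]
        refine Ps.mul_mem ?_ ihk
        show (u x)⁻¹ * (δ₀ ⟨u x, hxB⟩ : Ω) ∈ Ps
        rw [hδ₀v]
        exact hmodP x hx
    exact eq_self_of_fixed_diff hm₁o (hδP _ (hmod m₁)) (j := j)
      (by rw [← hj]; exact pow_card_eq_one')
  set κ₁ := (MulAut.congr hB.equiv).symm δ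
  have hκ₁F : κ₁ ∈ F.autGroup M := hB.congr_symm_mem_autGroup ((F.autGroup B).pow_mem hδ₀ m₁)
  have hκ₁o : (orderOf κ₁).Coprime p := by rw [MulEquiv.orderOf_eq]; exact hm₁o
  have hκ₁v : ∀ x ∈ M, ∀ (hx : u x ∈ B), u (autFun κ₁ x) = (δ ⟨u x, hx⟩ : Ω) := fun x hx hxB => by
    rw [autFun_apply κ₁ hx, ← hB.congr_apply κ₁ ⟨x, hx⟩]
    simp [κ₁]
    rfl
  have hκ₁N : ∀ x ∈ N, autFun κ₁ x = x := fun x hx => by
    refine hum.injOn (autFun_mem κ₁ (Subgroup.mem_sup_left hx)) (Subgroup.mem_sup_left hx) ?_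
    rw [hκ₁v x (Subgroup.mem_sup_left hx) (hB.mem (Subgroup.mem_sup_left hx)), hδN x hx]
  have hκ₁X : ∀ x ∈ X, autFun κ₁ x = autFun α x := fun x hx => by
    refine hum.injOn (autFun_mem κ₁ (hXM hx)) (hXM (autFun_mem α hx)) ?_
    rw [hκ₁v x (hXM hx) (hB.mem (hXM hx)), ← hγv x hx, autFun_apply γ (huX.mem hx)]
    exact hδX ⟨u x, huX.mem hx⟩
  have hNc : E.IsCentric N := isCentric_of_le hPc hPN.le hNT
  obtain ⟨κ, hκ, hκT, hκC⟩ := ih _ (by
    have h1 := SatExtend.card_lt_card (hNT.trans hTS) hPN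
    have h2 : Nat.card N ≤ Nat.card T := Subgroup.card_le_of_le hNT
    omega) N rfl hNc κ₁ hκ₁F hκ₁o hκ₁N
  exact ⟨κ, hκ, hκT, fun c hc => (hκC c hc).trans (hκ₁X c (Subgroup.mem_sup_right hc))⟩

/-- Extending well passes from a centric subgroup to `T`, for automorphisms of order prime to
`p`. -/
theorem ext_top (hS : IsPGroup p S) (h : E.IsWeaklyNormalIn F p) {P : Subgroup Ω}
    (hPc : E.IsCentric P) {b : MulAut T} (hb : b ∈ E.autGroup T) (ho : (orderOf b).Coprime p)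
    (hext : Ext F T P (autFun b)) : Ext F T T (autFun b) := by
  obtain ⟨g, hg, hgP, hgC⟩ := hext
  have hw := h
  obtain ⟨-, hF, hI⟩ := h
  have hP := hPc.1
  have hTS := hI.2.1.1
  have := finite_of_le hTS
  set C := centralizerIn S T with hC
  set X := T ⊔ C
  have hXS : X ≤ S := sup_le hTS inf_le_left
  have := finite_of_le hXS
  have := finite_mulAut X
  have hTn : F.IsFullyNormalized T := ⟨hTS, fun Q hQ => by
    obtain ⟨q, hq⟩ := isConj_iff.1 hQ
    rw [Subgroup.eq_of_le_of_card_ge (le_of_iso hI le_rfl hq) hq.card_eq.ge]⟩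
  have hbE := (mem_autGroup_iff le_rfl b).1 hb
  have hbF := hbE.of_subsystem hI.1
  obtain ⟨β', hβ', hβ'v⟩ :=
    (isReceptive_iff.1 (isReceptive_of_isFullyNormalized hS hF hTn)).2 T _ hbF
  have hXn : X ≤ nPhi S T (autFun b) := sup_le (le_nPhi hbF.isMap) (centralizerIn_le_nPhi _ _)
  have hβX := hβ'.mono hXn
  have hβT : IsIso F T T β' := hbF.congr fun x hx => (hβ'v x hx).symm
  have hβC : ∀ c ∈ C, β' c ∈ C := fun c hc =>
    hβX.mem_centralizerIn le_sup_left hβT (Subgroup.mem_sup_right hc) hc.2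
  obtain ⟨β₀, hβ₀, hβ₀v⟩ := exists_mem_autGroup (hβX.isIso_of_card_le (fun y hy => by
    obtain ⟨t, ht, c, hc, rfl⟩ := exists_mul_of_mem_sup (cs_le_centralizer le_rfl) hy
    rw [hβX.map_mul (Subgroup.mem_sup_left ht) (Subgroup.mem_sup_right hc)]
    exact Subgroup.mul_mem _ (Subgroup.mem_sup_left (hβT.mem ht))
      (Subgroup.mem_sup_right (hβC c hc))) le_rfl)
  obtain ⟨m, hm, hmo⟩ := exists_pPrime_pow β₀ ho
  set β := β₀ ^ m
  have hβF : β ∈ F.autGroup X := (F.autGroup X).pow_mem hβ₀ m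
  have hβm := ((mem_autGroup_iff hXS β).1 hβF).isMap
  have hβpT : ∀ (k : ℕ) (t : T),
      ((β₀ ^ k) ⟨t, Subgroup.mem_sup_left t.2⟩ : Ω) = ((b ^ k) t : Ω) := by
    intro k
    induction k with
    | zero => intro t; rfl
    | succ k ihk =>
      intro t
      rw [pow_succ', pow_succ', MulAut.mul_apply, MulAut.mul_apply, hβ₀v, ihk t,
        hβ'v _ (SetLike.coe_mem _), autFun_coe]
  have hβb : ∀ x ∈ T, autFun β x = autFun b x := fun x hx => by
    rw [autFun_apply β (Subgroup.mem_sup_left hx), hβpT m ⟨x, hx⟩, pow_eq_self_of_modEq hm,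
      autFun_apply b hx]
  have hβTi : IsIso F T T (autFun β) := hbF.congr fun x hx => (hβb x hx).symm
  have hβc : ∀ c ∈ C, autFun β c ∈ C := fun c hc =>
    hβm.mem_centralizerIn le_sup_left hβTi (Subgroup.mem_sup_right hc) hc.2
  -- compare with `g` on `P C`
  obtain ⟨P', hP'⟩ := (hbE.isMap.mono hP).exists_iso
  obtain ⟨hmod, hgi⟩ := ext_iso hTS hPc hP' hg hgP hgC
  set X₀ := P ⊔ C
  have hX₀X : X₀ ≤ X := sup_le_sup_right hP _
  have hYS : P' ⊔ C ≤ S := sup_le (hP'.le_right.trans hTS) inf_le_left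
  have := finite_of_le hYS
  have hβ₁ : IsIso F X₀ (P' ⊔ C) (autFun β) := (hβm.mono hX₀X).isIso_of_card_le (fun y hy => by
    obtain ⟨u, hu, c, hc, rfl⟩ := exists_mul_of_mem_sup (cs_le_centralizer hP) hy
    rw [hβm.map_mul (hX₀X (Subgroup.mem_sup_left hu)) (hX₀X (Subgroup.mem_sup_right hc)),
      hβb u (hP hu)]
    exact Subgroup.mul_mem _ (Subgroup.mem_sup_left (hP'.mem hu))
      (Subgroup.mem_sup_right (hβc c hc))) hgi.card_eq.le
  obtain ⟨r, hr, hr1, hr2⟩ := hgi.exists_symm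
  obtain ⟨γ₀, hγ₀, hγ₀v⟩ := exists_mem_autGroup (hβ₁.comp hr)
  have := finite_of_le (hX₀X.trans hXS)
  have := finite_mulAut X₀
  have hγfix : ∀ x : X₀, (x : Ω) ∈ P → γ₀ x = x := fun x hx => Subtype.ext (by
    rw [hγ₀v]
    show r (autFun β x) = x
    rw [hβb _ (hP hx), ← hgP _ hx, hr1 _ x.2])
  have hTn' : ∀ s ∈ C, ∀ t ∈ T, s * t * s⁻¹ = t := fun s hs t ht =>
    conj_eq_self_of_mem_centralizer hs.2 ht
  have hdiff : ∀ y : X₀, (autFun β y)⁻¹ * (γ₀ y : Ω) ∈ T := by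
    have hC' : ∀ c ∈ C, ∀ (hc' : c ∈ X₀), (autFun β c)⁻¹ * (γ₀ ⟨c, hc'⟩ : Ω) ∈ T := by
      intro c hc hc'
      obtain ⟨u, hu, d, hd, hud⟩ :=
        exists_mul_of_mem_sup (cs_le_centralizer hP) (γ₀ ⟨c, hc'⟩).2
      have h1 : g (γ₀ ⟨c, hc'⟩ : Ω) = autFun β c := by
        rw [hγ₀v]
        exact hr2 _ (hβ₁.mem hc')
      rw [hud, hgi.isMap.map_mul (Subgroup.mem_sup_left hu) (Subgroup.mem_sup_right hd),
        hgP u hu, ← mul_inv_cancel_left d (g d)] at h1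
      rw [hud, ← h1, show (autFun b u * (d * (d⁻¹ * g d)))⁻¹ * (u * d) =
        (d⁻¹ * g d)⁻¹ * (d⁻¹ * ((autFun b u)⁻¹ * u) * d) by group]
      refine T.mul_mem (T.inv_mem (hgC d hd)) ?_
      have ht : (autFun b u)⁻¹ * u ∈ T := T.mul_mem (T.inv_mem (autFun_mem b (hP hu))) (hP hu)
      have h2 := hTn' _ (C.inv_mem hd) _ ht
      rw [inv_inv] at h2
      rw [h2]
      exact ht
    intro y
    obtain ⟨u, hu, c, hc, hy⟩ := exists_mul_of_mem_sup (cs_le_centralizer hP) y.2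
    have hyv : y = (⟨u, Subgroup.mem_sup_left hu⟩ : X₀) * ⟨c, Subgroup.mem_sup_right hc⟩ :=
      Subtype.ext hy
    rw [hy, hyv, map_mul, hγfix ⟨u, Subgroup.mem_sup_left hu⟩ hu, Subgroup.coe_mul,
      hβm.map_mul (hX₀X (Subgroup.mem_sup_left hu)) (hX₀X (Subgroup.mem_sup_right hc)),
      show (autFun β u * autFun β c)⁻¹ * (u * (γ₀ ⟨c, Subgroup.mem_sup_right hc⟩ : Ω)) =
        ((autFun β c)⁻¹ * ((autFun β u)⁻¹ * u) * autFun β c) *
          ((autFun β c)⁻¹ * (γ₀ ⟨c, Subgroup.mem_sup_right hc⟩ : Ω)) by group]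
    refine T.mul_mem ?_ (hC' c hc _)
    have ht : (autFun β u)⁻¹ * u ∈ T := by
      rw [hβb u (hP hu)]
      exact T.mul_mem (T.inv_mem (autFun_mem b (hP hu))) (hP hu)
    have h2 := hTn' _ (C.inv_mem (hβc c hc)) _ ht
    rw [inv_inv] at h2
    rw [h2]
    exact ht
  obtain ⟨m', hm', hm'o⟩ := exists_pPrime_pow γ₀ hmo
  have hpow : ∀ (k : ℕ) (y : X₀),
      (((β ^ k) ⟨y, hX₀X y.2⟩ : X) : Ω)⁻¹ * ((γ₀ ^ k) y : Ω) ∈ T := by
    intro k
    induction k with
    | zero => intro y; simp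
    | succ k ihk =>
      intro y
      set e := (γ₀ ^ k) y
      set w := (β ^ k) ⟨y, hX₀X y.2⟩
      have hkt := ihk y
      rw [pow_succ', pow_succ', MulAut.mul_apply, MulAut.mul_apply, ← autFun_coe β w]
      show (autFun β w)⁻¹ * (γ₀ e : Ω) ∈ T
      have h2 : autFun β (e : Ω) = autFun β w * autFun β ((w : Ω)⁻¹ * (e : Ω)) := by
        rw [← hβm.map_mul w.2 (Subgroup.mem_sup_left hkt), mul_inv_cancel_left]
      have h3 := hdiff e
      rw [h2] at h3
      have h4 := T.mul_mem (hβTi.mem hkt) h3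
      rwa [show autFun β ((w : Ω)⁻¹ * (e : Ω)) *
        ((autFun β w * autFun β ((w : Ω)⁻¹ * (e : Ω)))⁻¹ * (γ₀ e : Ω)) =
        (autFun β w)⁻¹ * (γ₀ e : Ω) by group] at h4
  obtain ⟨κ, hκ, hκT, hκC⟩ := exists_kernel_ext hS hw _ P rfl hPc (γ₀ ^ m')
    ((F.autGroup X₀).pow_mem hγ₀ m') hm'o fun x hx => by
      rw [autFun_apply _ (Subgroup.mem_sup_left hx)]
      have : ∀ k : ℕ, (γ₀ ^ k) ⟨x, Subgroup.mem_sup_left hx⟩ = ⟨x, Subgroup.mem_sup_left hx⟩ := by
        intro k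
        induction k with
        | zero => rfl
        | succ k ihk => rw [pow_succ', MulAut.mul_apply, ihk, hγfix _ hx]
      rw [this]
  have hβ1 := hβF
  have hlast : ∀ y ∈ X, (autFun β y)⁻¹ * autFun κ y ∈ T := fun y hy => by
    obtain ⟨t, ht, c, hc, rfl⟩ := exists_mul_of_mem_sup (cs_le_centralizer le_rfl) hy
    have htX : t ∈ X := Subgroup.mem_sup_left ht
    have hcX : c ∈ X := Subgroup.mem_sup_right hc
    have hκm := ((mem_autGroup_iff hXS κ).1 hκ).isMap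
    rw [hβm.map_mul htX hcX, hκm.map_mul htX hcX, hκT t ht,
      show (autFun β t * autFun β c)⁻¹ * (t * autFun κ c) =
        ((autFun β c)⁻¹ * ((autFun β t)⁻¹ * t) * autFun β c) *
          ((autFun β c)⁻¹ * autFun κ c) by group]
    refine T.mul_mem ?_ ?_
    · have ht' : (autFun β t)⁻¹ * t ∈ T := T.mul_mem (T.inv_mem (hβTi.mem ht)) ht
      have h2 := hTn' _ (C.inv_mem (hβc c hc)) _ ht'
      rw [inv_inv] at h2
      rw [h2]
      exact ht'
    · rw [hκC c hc, autFun_apply β hcX, autFun_apply (γ₀ ^ m') (Subgroup.mem_sup_right hc)]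
      have h2 := hpow m' ⟨c, Subgroup.mem_sup_right hc⟩
      rwa [pow_eq_self_of_modEq hm'] at h2
  refine ⟨autFun (β * κ⁻¹),
    ((mem_autGroup_iff hXS _).1 ((F.autGroup X).mul_mem hβF ((F.autGroup X).inv_mem hκ))).isMap,
    fun x hx => ?_, fun c hc => ?_⟩
  · have hxX : x ∈ X := Subgroup.mem_sup_left hx
    rw [autFun_mul _ _ hxX]
    have h1 : autFun κ⁻¹ x = x := by
      conv_lhs => rw [← hκT x hx, inv_mul_autFun κ hxX]
    rw [h1, hβb x hx]
  · have hcX : c ∈ X := Subgroup.mem_sup_right hc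
    rw [autFun_mul _ _ hcX]
    have h1 := T.inv_mem (hlast _ (autFun_mem κ⁻¹ hcX))
    rwa [mul_inv_rev, inv_inv, mul_inv_autFun κ hcX] at h1

/-- The automorphisms of `T` in the residual extend well. -/
theorem ext_of_mem_E0 (hS : IsPGroup p S) (h : E.IsWeaklyNormalIn F p) {α : MulAut T}
    (hα : α ∈ (PPrime.E0 E p).autGroup T) : Ext F T T (autFun α) := by
  have hI := h.2.2
  have hTS := hI.2.1.1
  have := finite_of_le hTS
  have hT : IsPGroup p T := hS.to_le hTS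
  set M := PPrime.ofPred E (Good F E) (isSubPred_good hTS)
  have hclosed : PPrime.Closed E p M := by
    refine ⟨fun P hP => ?_, fun b hb P hP hm => ?_⟩
    · rw [PPrime.opc_eq, Subgroup.closure_le]
      rintro a ⟨ha, k, hk⟩
      exact mem_autGroup_of_isMap ((PPrime.isMap_ofPred _).2 (good_of_pElement hS h hP ha hk)) a
        fun x => (autFun_coe a x).symm
    · obtain ⟨x, hx, m, hmo, hxv⟩ := exists_inner_mul hT h.1 hb
      have hbm : IsMap M P (autFun (b ^ m)) := (hm.comp (isMap_conj le_rfl hx)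
        fun y hy => autFun_mem b (hP.1 hy)).congr fun y hy => by
          rw [Function.comp_apply, autFun_apply b (hP.1 hy), autFun_apply _ (hP.1 hy), hxv]
      have hext := ext_top hS h hP ((E.autGroup T).pow_mem hb m) hmo
        (((PPrime.isMap_ofPred _).1 hbm).2 P le_rfl hP)
      have hbT : IsMap M T (autFun (b ^ m)) := (PPrime.isMap_ofPred _).2
        ⟨((mem_autGroup_iff le_rfl _).1 ((E.autGroup T).pow_mem hb m)).isMap,
          fun R hR _ => hext.mono hR⟩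
      refine mem_autGroup_of_isMap (hbT.comp (isMap_conj le_rfl (T.inv_mem hx))
        fun y hy => autFun_mem _ hy) b fun y => ?_
      show (b y : Ω) = x⁻¹ * autFun (b ^ m) y * x⁻¹⁻¹
      rw [autFun_coe, hxv]
      group
  have hTc : E.IsCentric T := ⟨le_rfl, fun Q hQ => by
    obtain ⟨q, hq⟩ := isConj_iff.1 hQ
    rw [Subgroup.eq_of_le_of_card_ge hq.le_right hq.card_eq.ge]
    exact inf_le_left⟩
  exact ((PPrime.isMap_ofPred _).1 (isMap_of_subsystem (PPrime.meet_le hclosed)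
    ((mem_autGroup_iff le_rfl α).1 hα).isMap)).2 T le_rfl hTc

omit [Finite S] [Fact p.Prime] in
/-- `Aut_F(T)` preserves the least closed system. -/
theorem autInv_E0 (hI : E.IsInvariantIn F) {a : MulAut T} (ha : a ∈ F.autGroup T) {P : Subgroup Ω}
    {f : Ω → Ω} (hf : IsMap (PPrime.E0 E p) P f) :
    IsMap (PPrime.E0 E p) (imageAut a⁻¹ P) (autFun a⁻¹ ∘ f ∘ autFun a) := by
  refine ((PPrime.isMap_ofPred (PPrime.isSubPred_conjd (F := E) (E := PPrime.E0 E p) a)).1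
    ((PPrime.isMap_meet.1 hf).2 _ ?_)).2
  have hTS := hI.2.1.1
  have hai := (F.autGroup T).inv_mem ha
  refine ⟨fun P hP α hα => ?_, fun b hb P hP hm => ?_⟩
  · have hc := isCentric_imageAut hI hP hai
    have hi : IsIso F P (imageAut a⁻¹ P) (autFun a⁻¹) :=
      ⟨((mem_autGroup_iff hTS a⁻¹).1 hai).isMap.mono hP.1, coe_imageAut a⁻¹ hP.1⟩
    have htr : ∀ c ∈ E.autGroup P, MulAut.congr hi.equiv c ∈ E.autGroup (imageAut a⁻¹ P) :=
      fun c hcE => mem_autGroup_transport hI hP.1 hi hcE fun x hx => by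
        rw [autFun_apply c hx, ← hi.congr_apply c ⟨x, hx⟩, autFun_apply _ (hi.mem hx)]
        rfl
    have hop : MulAut.congr hi.equiv α ∈ PPrime.opc E p (imageAut a⁻¹ P) := by
      rw [PPrime.opc_eq] at hα ⊢
      induction hα using Subgroup.closure_induction with
      | mem c hc =>
        exact Subgroup.subset_closure ⟨htr c hc.1, hc.2.imp fun k hk => by
          rw [MulEquiv.orderOf_eq, hk]⟩
      | one => rw [map_one]; exact Subgroup.one_mem _
      | mul x y _ _ hx hy => rw [map_mul]; exact Subgroup.mul_mem _ hx hy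
      | inv x _ hx => rw [map_inv]; exact Subgroup.inv_mem _ hx
    have h := (mem_autGroup_iff hc.1 _).1 (PPrime.closed_E0.1 _ hc hop)
    refine mem_autGroup_of_isMap ((PPrime.isMap_ofPred _).2
      ⟨((mem_autGroup_iff hP.1 α).1 (PPrime.opc_le _ hα)).isMap, h.isMap.congr fun y hy => ?_⟩) α
        fun x => (autFun_coe α x).symm
    obtain ⟨x, hx, rfl⟩ := hi.surj hy
    show _ = autFun a⁻¹ (autFun α (autFun a (autFun a⁻¹ x)))
    rw [mul_inv_autFun a (hP.1 hx), autFun_apply α hx, autFun_apply _ hy]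
    exact hi.congr_apply α ⟨x, hx⟩
  · have hc := isCentric_imageAut hI hP hai
    have hval : ∀ x ∈ T, autFun (a⁻¹ * b * a) x = (autFun a⁻¹ ∘ autFun b ∘ autFun a) x :=
      fun x hx => by
        rw [autFun_mul _ _ hx, autFun_mul _ _ (autFun_mem a hx)]
        rfl
    have hbE : a⁻¹ * b * a ∈ E.autGroup T :=
      mem_autGroup_transport hI le_rfl ((mem_autGroup_iff hTS a⁻¹).1 hai) hb fun x hx => by
        rw [autFun_mul _ _ (autFun_mem _ hx), mul_inv_autFun a hx, autFun_mul _ _ hx]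
    have h := PPrime.closed_E0.2 _ hbE _ hc (((PPrime.isMap_ofPred _).1 hm).2.congr
      fun x hx => (hval x (PPrime.mem_imageAut_inv a hx).1).symm)
    refine mem_autGroup_of_isMap ((PPrime.isMap_ofPred _).2 ⟨((mem_autGroup_iff le_rfl b).1 hb).isMap,
      ?_⟩) b fun x => (autFun_coe b x).symm
    exact (((mem_autGroup_iff le_rfl _).1 h).isMap.mono (imageAut_le _ _)).congr
      fun x hx => hval x (PPrime.mem_imageAut_inv a hx).1

/-- The `p'`-residual of a weakly normal subsystem is normal. -/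
theorem isNormalIn_residual (hS : IsPGroup p S) (h : E.IsWeaklyNormalIn F p)
    {D : FusionSystem T} (hD : E.IsPPrimeResidual p D) : D.IsNormalIn F p := by
  have hI := h.2.2
  have hTS := hI.2.1.1
  have := finite_of_le hTS
  have hT : IsPGroup p T := hS.to_le hTS
  obtain ⟨h0s, h0i, h0least⟩ := PPrime.isPPrimeResidual_E0 hT h.1
  have hle : D.IsSubsystemOf (PPrime.E0 E p) := hD.2.2 _ h0s h0i
  have hge : (PPrime.E0 E p).IsSubsystemOf D := h0least D hD.1 hD.2.1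
  refine ⟨⟨hD.1, h.2.1, fun P φ hφ => hI.1 P (hD.2.1.1 P hφ), hI.2.1, ?_, ?_⟩, ?_⟩
  · intro P hPT φ hφ a ha
    have hf := autInv_E0 (a := a⁻¹) hI ((F.autGroup T).inv_mem ha)
      (isMap_of_subsystem hle (isMap_homFun hφ))
    rw [inv_inv] at hf
    obtain ⟨χ, hχ, hχv⟩ := isMap_of_subsystem hge hf
    refine ⟨χ, hχ, fun x hφx hax => ?_⟩
    refine (hχv ⟨_, hax⟩).trans ?_
    show autFun a (homFun φ (autFun a⁻¹ ((a ⟨x, hPT x.2⟩ : T) : Ω))) = _
    rw [← autFun_apply a (hPT x.2), inv_mul_autFun a (hPT x.2), homFun_coe, autFun_apply a hφx]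
  · intro P hP φ hφ
    obtain ⟨a, ha, f₀, hf₀, hv⟩ := exists_frattini hI hP (isMap_homFun hφ)
    obtain ⟨-, hfac, -⟩ := PPrime.hasPrimeToPIndex hT h.1 hD.2.1.1
      (fun Q hQ => hD.2.1.2 Q hQ.1)
    obtain ⟨b, hb, f₁, hf₁, hw⟩ := hfac hf₀
    have hbF : b ∈ F.autGroup T :=
      (mem_autGroup_iff hTS b).2 (((mem_autGroup_iff le_rfl b).1 hb).of_subsystem hI.1)
    obtain ⟨φ₀, hφ₀, hv₀⟩ := hf₁
    refine ⟨a * b, (F.autGroup T).mul_mem ha hbF, φ₀, hφ₀, fun x hx => ?_⟩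
    have e := hv x x.2
    rw [homFun_coe, hw x x.2, ← hv₀ x, ← autFun_mul _ _ hx, autFun_apply _ hx] at e
    exact e
  · intro α hα
    obtain ⟨g, hg, hgT, hgC⟩ := ext_of_mem_E0 hS h
      ((mem_autGroup_iff le_rfl α).2 (((mem_autGroup_iff le_rfl α).1 hα).of_subsystem hle))
    have hαT : IsIso F T T g := by
      refine (((mem_autGroup_iff le_rfl α).1 hα).of_subsystem ?_).congr fun x hx => (hgT x hx).symm
      exact fun Q => (hD.2.1.1 Q).trans (hI.1 Q)
    have hCC : ∀ c ∈ centralizerIn S T, g c ∈ centralizerIn S T := fun c hc =>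
      hg.mem_centralizerIn le_sup_left hαT (Subgroup.mem_sup_right hc) hc.2
    have hXS : T ⊔ centralizerIn S T ≤ S := sup_le hTS inf_le_left
    have := finite_of_le hXS
    obtain ⟨β, hβ, hβv⟩ := exists_mem_autGroup (hg.isIso_of_card_le (fun y hy => by
      obtain ⟨t, ht, c, hc, rfl⟩ := exists_mul_of_mem_sup (cs_le_centralizer le_rfl) hy
      rw [hg.map_mul (Subgroup.mem_sup_left ht) (Subgroup.mem_sup_right hc)]
      exact Subgroup.mul_mem _ (Subgroup.mem_sup_left (hαT.mem ht))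
        (Subgroup.mem_sup_right (hCC c hc))) le_rfl)
    refine ⟨β, hβ, fun x => ?_, fun c hc => ?_⟩
    · rw [hβv]
      show g x = _
      rw [hgT x x.2, autFun_coe]
    · rw [hβv]
      refine ⟨hgC c hc, ?_⟩
      exact Subgroup.mul_mem _ (Subgroup.inv_mem _ hc.2) (hCC c hc).2

end CfsgLib.Fusion.Residual
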