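import Mathlib
import Cfsg.Agent.Lib.Fusion.PowerIndexBase
import Cfsg.Agent.Lib.Fusion.ResidualExtension

/-!
Subsystems of `p`-power index.
-/

set_option autoImplicit false

namespace CfsgLib.Fusion.PowerIndex

open Cfsg Cfsg.FusionSystem MulAction

universe u

variable {Ω : Type u} [Group Ω] {S T U : Subgroup Ω} {F : FusionSystem S} {p : ℕ}

/-- The automorphisms of order prime to `p` of subgroups of `T` lie in `E`. -/
def Cov (F : FusionSystem S) (p : ℕ) (T : Subgroup Ω) {U : Subgroup Ω} (E : FusionSystem U) :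
    Prop :=
  ∀ P : Subgroup Ω, P ≤ T → ∀ α ∈ F.autGroup P, (orderOf α).Coprime p → α ∈ E.autGroup P

theorem cov_iff {E : FusionSystem U} : Cov F p T E ↔ ∀ P : Subgroup Ω, P ≤ T →
    (Cfsg.pResidual p (F.autGroup P)).map (F.autGroup P).subtype ≤ E.autGroup P := by
  refine ⟨fun h P hP => ?_, fun h P hP α hα ho => ?_⟩
  · rw [Cfsg.pResidual, MonoidHom.map_closure, Subgroup.closure_le]
    rintro _ ⟨a, ha, rfl⟩
    exact h P hP a a.2 (by rw [Subgroup.orderOf_coe]; exact ha)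
  · exact h P hP ⟨⟨α, hα⟩, CfsgLib.Transfer.mem_pResidual_of_coprime
      (by rw [← Subgroup.orderOf_coe]; exact ho), rfl⟩

theorem hyperfocal_mono {E : FusionSystem U} (hE : E.IsSubsystemOf F) :
    E.hyperfocalSubgroup p ≤ F.hyperfocalSubgroup p := by
  refine (Subgroup.closure_le _).2 ?_
  rintro _ ⟨P, α, x, hP, hα, rfl⟩
  have hle : E.autGroup P ≤ F.autGroup P :=
    Subgroup.closure_mono fun β hβ => hE P hβ
  have hPS : P ≤ S := (F.le_of_mem (hE P
    ((mem_hom_iff (F := E) P.subtype).2 ((isMap_id hP).congr fun x hx => by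
      rw [homFun_apply _ hx]; rfl)))).1
  exact inv_mul_mem_hyperfocal hPS (α := Subgroup.inclusion hle α)
    (CfsgLib.Transfer.map_pResidual_le (Subgroup.inclusion hle) ⟨α, hα, rfl⟩) x

variable [Finite S] [Fact p.Prime]

/-- A saturated subsystem on `T` lies in every system covering `T`. -/
theorem le_of_cov (hS : IsPGroup p S) (hTS : T ≤ S) {E : FusionSystem T} (hE : E.IsSaturated p)
    (hEF : E.IsSubsystemOf F) {D : FusionSystem U} (hTU : T ≤ U) (hD : Cov F p T D) :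
    E.IsSubsystemOf D := by
  have := finite_of_le hTS
  have hT : IsPGroup p T := hS.to_le hTS
  have hM : PPrime.IsSubPred E fun P f => IsMap E P f ∧ IsMap D P f :=
    { isMap := fun h => h.1
      congr := fun h he => ⟨h.1.congr he, h.2.congr he⟩
      conj := fun hP hg => ⟨isMap_conj hP hg, isMap_conj (hP.trans hTU) (hTU hg)⟩
      comp := fun h h' hm => ⟨h.1.comp h'.1 hm, h.2.comp h'.2 hm⟩
      inv := fun {P Q f r} h hi hr h1 => by
        refine ⟨hr.isMap, ?_⟩
        obtain ⟨r', hr', hr'1, -⟩ := IsIso.exists_symm ⟨h.2, hi.image_eq⟩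
        refine hr'.isMap.congr fun y hy => ?_
        obtain ⟨x, hx, rfl⟩ := hi.surj hy
        rw [hr'1 x hx, h1 x hx] }
  suffices h : ∀ (P : Subgroup Ω) (f : Ω → Ω), IsMap E P f → IsMap (PPrime.ofPred E _ hM) P f from
    fun P φ hφ => (mem_hom_iff φ).2 ((PPrime.isMap_ofPred hM).1 (h P _ (isMap_homFun hφ))).2
  refine le_of_autGroup_le hT hE fun Q hQ α hα => ?_
  have hQn : E.IsFullyNormalized Q := by
    rcases hQ with rfl | hess
    · refine ⟨le_rfl, fun R hR => ?_⟩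
      obtain ⟨g, hg⟩ := isConj_iff.1 hR
      rw [Subgroup.eq_of_le_of_card_ge hg.le_right hg.card_eq.ge]
    · exact hess.2.1
  have hQT := hQn.1
  have := finite_of_le hQT
  have := finite_mulAut Q
  obtain ⟨Sy, hSy⟩ := (isFullyAutomized_of_isFullyNormalized hT hE hQn).2
  haveI := CfsgLib.Transfer.pResidual_normal p (E.autGroup Q)
  have htop : (⟨α, hα⟩ : E.autGroup Q) ∈
      (Sy : Subgroup (E.autGroup Q)) ⊔ Cfsg.pResidual p (E.autGroup Q) := by
    rw [CfsgLib.Transfer.sylow_sup_pResidual]; exact Subgroup.mem_top _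
  obtain ⟨t, ht, β, hβ, htβ⟩ := Subgroup.mem_sup_of_normal_right.1 htop
  have hα' : α = (t : MulAut Q) * (β : MulAut Q) := congrArg Subtype.val htβ.symm
  rw [hα']
  refine Subgroup.mul_mem _ ?_ ?_
  · rw [hSy] at ht
    obtain ⟨g, hg, hgv⟩ := (mem_autInducedBy_iff T Q _).1 ht
    exact mem_autGroup_of_isMap (isMap_conj hQT hg) _ hgv
  · clear hα' htβ htop
    induction hβ using Subgroup.closure_induction with
    | mem b hb =>
      have hbF : (b : MulAut Q) ∈ F.autGroup Q := (mem_autGroup_iff (hQT.trans hTS) _).2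
        (((mem_autGroup_iff hQT _).1 b.2).of_subsystem hEF)
      have hbD := hD Q hQT _ hbF (by rw [Subgroup.orderOf_coe]; exact hb)
      exact mem_autGroup_of_isMap ((PPrime.isMap_ofPred hM).2
        ⟨((mem_autGroup_iff hQT _).1 b.2).isMap,
          ((mem_autGroup_iff (hQT.trans hTU) _).1 hbD).isMap⟩) _ fun x => (autFun_coe _ x).symm
    | one => exact Subgroup.one_mem _
    | mul a b _ _ ha hb => exact Subgroup.mul_mem _ ha hb
    | inv a _ ha => exact Subgroup.inv_mem _ ha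

theorem eq_of_cov (hS : IsPGroup p S) (hTS : T ≤ S) {E E' : FusionSystem T}
    (hE : E.IsSaturated p) (hEF : E.IsSubsystemOf F) (hc : Cov F p T E) (hE' : E'.IsSaturated p)
    (hEF' : E'.IsSubsystemOf F) (hc' : Cov F p T E') : E' = E := by
  have h1 := le_of_cov hS hTS hE hEF le_rfl hc'
  have h2 := le_of_cov hS hTS hE' hEF' le_rfl hc
  obtain ⟨H, _, _, _, _, _⟩ := E
  obtain ⟨H', _, _, _, _, _⟩ := E'
  congr 1
  exact funext fun P => Set.Subset.antisymm (h2 P) (h1 P)

/-- Every map of `F` on a subgroup of `T` is a conjugation after a map of `E`. -/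
def Fac (F : FusionSystem S) (E : FusionSystem T) : Prop :=
  ∀ P : Subgroup Ω, P ≤ T → ∀ f, IsMap F P f →
    ∃ g ∈ S, ∃ f₀, IsMap E P f₀ ∧ ∀ x ∈ P, f x = g * f₀ x * g⁻¹

/-- Index `p`. -/
theorem exists_of_index_prime (hS : IsPGroup p S) (hF : F.IsSaturated p) (hTS : T ≤ S)
    (hn : (T.subgroupOf S).Normal) (hidx : (T.subgroupOf S).index = p)
    (hT : F.hyperfocalSubgroup p ≤ T) :
    ∃ E : FusionSystem T, E.IsSaturated p ∧ E.IsSubsystemOf F ∧ Cov F p T E ∧ Fac F E := by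
  have hp : p.Prime := Fact.out
  have hA' : Nat.card (Multiplicative (ZMod p)) = p := by
    rw [Nat.card_congr Multiplicative.toAdd, Nat.card_zmod]
  let e₀ : S ⧸ T.subgroupOf S ≃* Multiplicative (ZMod p) :=
    mulEquivOfPrimeCardEq (p := p) (by rw [← Subgroup.index_eq_card, hidx]) hA'
  let χ : S →* Multiplicative (ZMod p) := e₀.toMonoidHom.comp (QuotientGroup.mk' _)
  have hker : ∀ s : S, χ s = 1 ↔ (s : Ω) ∈ T := fun s => by
    show e₀ (QuotientGroup.mk' _ s) = 1 ↔ _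
    rw [MulEquiv.map_eq_one_iff, QuotientGroup.mk'_apply, QuotientGroup.eq_one_iff,
      Subgroup.mem_subgroupOf]
  have hsurj : Function.Surjective χ :=
    e₀.surjective.comp (QuotientGroup.mk'_surjective _)
  have hχ : Invariant F χ := by
    intro P f hf x y hx hy
    obtain ⟨γ, hγ, h⟩ := exists_conj_mod_hyperfocal hS hF hf
    have h1 := hT (h x hx)
    rw [← hy] at h1
    have h2 : χ (((⟨γ, hγ⟩ : S) * x * (⟨γ, hγ⟩ : S)⁻¹)⁻¹ * y) = 1 := (hker _).2 h1
    rw [map_mul, map_inv, inv_mul_eq_one] at h2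
    rw [← h2, map_mul, map_mul, map_inv, mul_inv_cancel_comm]
  have hAp : ∀ a : Multiplicative (ZMod p), a ^ p = 1 := fun a => by
    have := pow_card_eq_one' (x := a)
    rwa [hA'] at this
  obtain ⟨X, _, _, hfree, hst, hpQ⟩ := exists_biset' hS hF
  obtain ⟨r, hr, hnr⟩ := exists_normal_reps hfree hχ
  set n := Nat.card (Quotient (rOrb S X))
  have hcop : ∀ a : Multiplicative (ZMod p), n.Coprime (orderOf a) := fun a => by
    have hd : orderOf a ∣ p := orderOf_dvd_of_pow_eq_one (hAp a)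
    exact (Nat.Coprime.coprime_dvd_left hd (hp.coprime_iff_not_dvd.2 hpQ)).symm
  have hninj : ∀ a b : Multiplicative (ZMod p), a ^ n = b ^ n → a = b := fun a b h => by
    have h1 : (a * b⁻¹) ^ n = 1 := by rw [mul_pow, inv_pow, h, mul_inv_cancel]
    obtain ⟨m, hm⟩ := exists_pow_eq_self_of_coprime (hcop (a * b⁻¹))
    rw [h1, one_pow] at hm
    exact mul_inv_eq_one.1 hm.symm
  have hroot : ∀ w : Multiplicative (ZMod p), ∃ a, a ^ n = w := fun w => by
    obtain ⟨m, hm⟩ := exists_pow_eq_self_of_coprime (hcop w)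
    exact ⟨w ^ m, by rw [← pow_mul, mul_comm, pow_mul, hm]⟩
  -- the system
  have hmemT : ∀ {P : Subgroup Ω} {f : Ω → Ω}, IsMap F P f → P ≤ T → ∀ x ∈ P, f x ∈ T :=
    fun {P f} hf hP x hx => by
      have h1 := hχ P f hf ⟨x, hf.le hx⟩ ⟨f x, hf.mem hx⟩ hx rfl
      rw [(hker ⟨x, hf.le hx⟩).2 (hP hx)] at h1
      exact (hker ⟨f x, hf.mem hx⟩).1 h1
  let E : FusionSystem T :=
    { Hom := fun P => {φ | P ≤ T ∧ Tw F r χ P (homFun φ) 1}
      le_of_mem := fun {P φ} hφ => ⟨hφ.1, fun x => by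
        have h1 := hmemT hφ.2.1 hφ.1 x x.2
        rwa [homFun_coe] at h1⟩
      injective_of_mem := fun {P φ} hφ => F.injective_of_mem ((mem_hom_iff φ).2 hφ.2.1)
      conj_mem := fun {P g} hP hg => by
        refine ⟨hP, ?_⟩
        have h := tw_conj (χ := χ) hfree hr hnr (hP.trans hTS) ⟨g, hTS hg⟩
        rw [(hker ⟨g, hTS hg⟩).2 hg, one_pow, inv_one] at h
        exact h.congr fun x hx => by rw [homFun_apply _ hx]; rfl
      comp_mem := fun {P Q φ ψ} hφ hψ hm => by
        refine ⟨hφ.1, ?_⟩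
        have h := hφ.2.comp hψ.2 fun x hx => by rw [homFun_apply φ hx]; exact hm _
        rw [one_mul] at h
        refine h.congr fun x hx => ?_
        show homFun ψ (homFun φ x) = _
        rw [homFun_apply φ hx, homFun_apply ψ (hm _), homFun_apply _ hx]
        rfl
      inv_mem := fun {P φ} hφ => by
        have hφF := (mem_hom_iff φ).2 hφ.2.1
        obtain ⟨ψ, hψ, hv⟩ := F.inv_mem hφF
        have h1 : ∀ x ∈ P, homFun ψ (homFun φ x) = x := fun x hx => by
          rw [homFun_apply φ hx, homFun_apply ψ (⟨_, rfl⟩ : φ ⟨x, hx⟩ ∈ φ.range)]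
          exact hv ⟨x, hx⟩
        have hi : IsIso F φ.range P (homFun ψ) := ⟨isMap_homFun hψ, by
          rw [← image_homFun φ, Set.image_image]
          exact (Set.image_congr h1).trans (Set.image_id _)⟩
        refine ⟨ψ, ⟨?_, ?_⟩, hv⟩
        · rintro _ ⟨x, rfl⟩
          have h2 := hmemT hφ.2.1 hφ.1 x x.2
          rwa [homFun_coe] at h2
        · have h := hφ.2.symm (isIso_homFun hφF) hi h1
          rwa [inv_one] at h }
  have hEiff : ∀ {P : Subgroup Ω} {f : Ω → Ω}, IsMap E P f ↔ P ≤ T ∧ Tw F r χ P f 1 := by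
    intro P f
    constructor
    · rintro ⟨φ, hφ, hv⟩
      exact ⟨hφ.1, hφ.2.congr fun x hx => by rw [homFun_apply φ hx]; exact hv ⟨x, hx⟩⟩
    · rintro ⟨hP, h⟩
      obtain ⟨φ, hφ, hv⟩ := h.1
      exact ⟨φ, ⟨hP, h.congr fun x hx => by rw [homFun_apply φ hx]; exact (hv ⟨x, hx⟩).symm⟩, hv⟩
  have hsub : E.IsSubsystemOf F := fun P φ hφ => (mem_hom_iff φ).2 hφ.2.1
  -- every map is a conjugation after a map of the system
  have hfac : Fac F E := by
    intro P hP f hf
    obtain ⟨w, hw⟩ := exists_tw (χ := χ) hfree hst hr hf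
    obtain ⟨Q, hQ⟩ := hf.exists_iso
    obtain ⟨a, ha⟩ := hroot w
    obtain ⟨s, rfl⟩ := hsurj a
    have hc := tw_conj (χ := χ) hfree hr hnr hQ.le_right s
    have h := hw.comp hc fun x hx => hQ.mem hx
    rw [ha, mul_inv_cancel] at h
    refine ⟨(s : Ω)⁻¹, S.inv_mem s.2, _, hEiff.2 ⟨hP, h⟩, fun x hx => ?_⟩
    show f x = (s : Ω)⁻¹ * ((s : Ω) * f x * (s : Ω)⁻¹) * (s : Ω)⁻¹⁻¹
    group
  have hcov : Cov F p T E := by
    intro P hP α hα ho
    have hPS := hP.trans hTS
    have := finite_of_le hPS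
    have := finite_mulAut P
    obtain ⟨w, hw⟩ := exists_tw (χ := χ) hfree hst hr ((mem_autGroup_iff hPS α).1 hα).isMap
    have hid : Tw F r χ P id 1 := by
      have h := tw_conj (χ := χ) hfree hr hnr hPS 1
      rw [map_one, one_pow, inv_one] at h
      exact h.congr fun x _ => by simp
    have hpow : ∀ k : ℕ, Tw F r χ P (autFun (α ^ k)) (w ^ k) := by
      intro k
      induction k with
      | zero =>
        rw [pow_zero, pow_zero]
        exact hid.congr fun x hx => by rw [autFun_apply _ hx]; rfl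
      | succ k ih =>
        rw [pow_succ w k, pow_succ' α k]
        refine (ih.comp hw fun x hx => autFun_mem _ hx).congr fun x hx => ?_
        show autFun α (autFun (α ^ k) x) = _
        rw [← autFun_mul _ _ hx]
    obtain ⟨m, hm1, hm0⟩ := Nat.chineseRemainder ho 1 0
    have h := hpow m
    rw [Residual.pow_eq_self_of_modEq hm1] at h
    obtain ⟨c, rfl⟩ := Nat.modEq_zero_iff_dvd.1 hm0
    rw [pow_mul, hAp, one_pow] at h
    exact mem_autGroup_of_isMap (hEiff.2 ⟨hP, h⟩) α fun x => (autFun_coe α x).symm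
  -- twist values of the identity come from centralisers
  have hkernel : ∀ {Q : Subgroup Ω}, F.IsFullyNormalized Q → ∀ {w : Multiplicative (ZMod p)},
      Tw F r χ Q id w → ∃ c : S, (c : Ω) ∈ centralizerIn S Q ∧ χ c ^ n = w := by
    intro Q hQ w hw
    obtain ⟨a, rfl⟩ := hroot w
    by_cases h : ∃ c : S, (c : Ω) ∈ centralizerIn S Q ∧ χ c ≠ 1
    · obtain ⟨c, hc, hne⟩ := h
      obtain ⟨k, hk⟩ := mem_powers_of_prime_card (g := χ c) (g' := a) hA' hne
      simp only at hk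
      exact ⟨c ^ k, by rw [Subgroup.coe_pow]; exact Subgroup.pow_mem _ hc k,
        by rw [map_pow, hk]⟩
    · push Not at h
      have h1 := tw_id_eq_one hS hfree hr hnr hAp hQ.1 (fun P' hP' s hs => ?_) hw
      · exact ⟨1, Subgroup.one_mem _, by rw [map_one, one_pow, h1]⟩
      · obtain ⟨q, hq, -, -, hqC⟩ := exists_map_normalizerIn hS
          (isFullyAutomized_of_isFullyNormalized hS hF hQ)
          (isReceptive_of_isFullyNormalized hS hF hQ) (isConj_symm hP')
        have hsN := centralizerIn_le_normalizerIn S P' hs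
        have h2 := hχ _ q hq s ⟨q s, hq.mem hsN⟩ hsN rfl
        rw [h ⟨q s, hq.mem hsN⟩ (hqC _ hs)] at h2
        exact h2.symm
  refine ⟨E, fun P hP => ?_, hsub, hcov, hfac⟩
  obtain ⟨R, hPR, hR⟩ := exists_isFullyNormalized (F := F) (hP.trans hTS)
  obtain ⟨f, hf⟩ := isConj_iff.1 hPR
  obtain ⟨g, hg, f₀, hf₀, hv⟩ := hfac P hP f hf.isMap
  obtain ⟨Q, hQ⟩ := hf₀.exists_iso
  have hQT := hQ.le_right
  have hQS := hQT.trans hTS
  have hRQ : IsIso F R Q (fun y => g⁻¹ * y * g⁻¹⁻¹) := by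
    refine ⟨isMap_conj hR.1 (S.inv_mem hg), ?_⟩
    rw [← hf.image_eq, ← hQ.image_eq, Set.image_image]
    exact Set.image_congr fun x hx => by rw [hv x hx]; group
  have hQn : F.IsFullyNormalized Q := by
    refine ⟨hQS, fun A hA => ?_⟩
    refine (hR.2 A (isConj_trans hRQ.isConj hA)).trans ?_
    have := finite_of_le (S := S) (P := normalizerIn S Q) inf_le_left
    have hN := isMap_conj (F := F) (inf_le_left : normalizerIn S R ≤ S) (S.inv_mem hg)
    exact hN.card_le fun x hx => hN.mem_normalizerIn (le_normalizerIn hR.1) hRQ hx hx.2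
  have hra := isFullyAutomized_of_isFullyNormalized hS hF hQn
  have hrr := isReceptive_of_isFullyNormalized hS hF hQn
  have := finite_of_le hTS
  refine ⟨Q, hQ.isConj, (isFullyAutomized_iff (hS.to_le hTS)).2 ⟨hQT, fun B hB hBp => ?_⟩,
    isReceptive_iff.2 ⟨hQT, fun R' q hq => ?_⟩⟩
  · have := finite_of_le hQS
    have := finite_mulAut Q
    have hle : E.autGroup Q ≤ F.autGroup Q := fun b hb =>
      (mem_autGroup_iff hQS b).2 (((mem_autGroup_iff hQT b).1 hb).of_subsystem hsub)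
    obtain ⟨δ, hδ, hδv⟩ := ((isFullyAutomized_iff hS).1 hra).2 B (hB.trans hle) hBp
    obtain ⟨-, Sy, hSy⟩ := hra
    haveI := CfsgLib.Transfer.pResidual_normal p (F.autGroup Q)
    have htop : (⟨δ, hδ⟩ : F.autGroup Q) ∈
        (Sy : Subgroup (F.autGroup Q)) ⊔ Cfsg.pResidual p (F.autGroup Q) := by
      rw [CfsgLib.Transfer.sylow_sup_pResidual]; exact Subgroup.mem_top _
    obtain ⟨t, ht, β, hβ, htβ⟩ := Subgroup.mem_sup_of_normal_right.1 htop
    rw [hSy, Subgroup.mem_subgroupOf] at ht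
    have hδ' : δ = (t : MulAut Q) * (β : MulAut Q) := congrArg Subtype.val htβ.symm
    have hβE : (β : MulAut Q) ∈ E.autGroup Q := cov_iff.1 hcov Q hQT ⟨β, hβ, rfl⟩
    refine ⟨β, hβE, fun b hb => ?_⟩
    have h1 : (β : MulAut Q) * b * (β : MulAut Q)⁻¹ ∈ autInducedBy S Q := by
      have h := hδv b hb
      rw [hδ'] at h
      have h' := Subgroup.mul_mem _ (Subgroup.mul_mem _ (Subgroup.inv_mem _ ht) h) ht
      convert h' using 1
      group
    have h2 : (β : MulAut Q) * b * (β : MulAut Q)⁻¹ ∈ E.autGroup Q :=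
      (E.autGroup Q).mul_mem ((E.autGroup Q).mul_mem hβE (hB hb)) ((E.autGroup Q).inv_mem hβE)
    set b' := (β : MulAut Q) * b * (β : MulAut Q)⁻¹
    obtain ⟨s, hs, hsv⟩ := (mem_autInducedBy_iff S Q b').1 h1
    have hbE := (hEiff.1 ((mem_autGroup_iff hQT b').1 h2).isMap).2
    have hsi := tw_conj (χ := χ) hfree hr hnr hQS (⟨s, hs⟩⁻¹ : S)
    have hid := (hbE.comp hsi fun x hx => autFun_mem b' hx).congr (g := id) fun x hx => by
      show s⁻¹ * autFun b' x * s⁻¹⁻¹ = x
      rw [autFun_apply b' hx, hsv]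
      group
    obtain ⟨c, hc, hcv⟩ := hkernel hQn hid
    rw [map_inv, inv_pow, inv_inv, one_mul] at hcv
    refine (mem_autInducedBy_iff T Q b').2 ⟨s * (c : Ω)⁻¹, ?_, fun x => ?_⟩
    · refine (hker (⟨s, hs⟩ * c⁻¹)).1 ?_
      rw [map_mul, map_inv, hninj _ _ hcv, mul_inv_cancel]
    · rw [hsv]
      have h3 := conj_eq_self_of_mem_centralizer ((centralizerIn S Q).inv_mem hc).2 x.2
      calc s * (x : Ω) * s⁻¹ = s * ((c : Ω)⁻¹ * x * ((c : Ω)⁻¹)⁻¹) * s⁻¹ := by rw [h3]
        _ = _ := by group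
  · have hqF := hq.of_subsystem hsub
    obtain ⟨ψ, hψ, hψv⟩ := (isReceptive_iff.1 hrr).2 R' q hqF
    have hNle : nPhi T R' q ≤ nPhi S R' q := fun x hx => by
      obtain ⟨hxT, hxn, h, hh, hhv⟩ := hx
      exact ⟨hTS hxT, hxn, h, hTS hh, hhv⟩
    have hψN := hψ.mono hNle
    obtain ⟨w, hw⟩ := exists_tw (χ := χ) hfree hst hr hψN
    obtain ⟨rq, hrq, hrq1, hrq2⟩ := hq.exists_symm
    have hrN : R' ≤ nPhi T R' q := le_nPhi hq.isMap
    have hrT := (hEiff.1 hrq.isMap).2
    have hid := (hrT.comp (hw.mono hrN) fun y hy => hrq.mem hy).congr (g := id) fun y hy => by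
      show ψ (rq y) = y
      rw [hψv _ (hrq.mem hy), hrq2 y hy]
    rw [one_mul] at hid
    obtain ⟨c, hc, hcv⟩ := hkernel hQn hid
    obtain ⟨B, hB⟩ := hψN.exists_iso
    have h := hw.comp (tw_conj (χ := χ) hfree hr hnr hB.le_right c) fun x hx => hB.mem hx
    rw [hcv, mul_inv_cancel] at h
    refine ⟨_, hEiff.2 ⟨nPhi_le_self _ _, h⟩, fun x hx => ?_⟩
    show (c : Ω) * ψ x * (c : Ω)⁻¹ = q x
    rw [hψv x hx, conj_eq_self_of_mem_centralizer hc.2 (hq.mem hx)]

omit [Finite S] in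
/-- A maximal subgroup of a finite `p`-group. -/
theorem exists_le_index_prime {G : Type*} [Group G] [Finite G] (hG : IsPGroup p G)
    {H : Subgroup G} (hH : H ≠ ⊤) : ∃ M : Subgroup G, H ≤ M ∧ M.Normal ∧ M.index = p := by
  haveI := hG.isNilpotent
  obtain ⟨M, hM, hHM⟩ := (IsCoatomic.eq_top_or_exists_le_coatom H).resolve_left hH
  have hMn : M.Normal := Subgroup.NormalizerCondition.normal_of_coatom (H := M) normalizerCondition_of_isNilpotent hM
  refine ⟨M, hHM, hMn, ?_⟩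
  obtain ⟨k, hk⟩ := hG.index M
  have hnt : M.index ≠ 1 := fun e => hM.1 (Subgroup.index_eq_one.1 e)
  rcases k with _ | _ | k
  · exact absurd (by rw [hk, pow_zero]) hnt
  · rw [hk, zero_add, pow_one]
  · exfalso
    have hd : p ∣ Nat.card (G ⧸ M) := by
      rw [← Subgroup.index_eq_card, hk]; exact dvd_pow_self p (by omega)
    obtain ⟨x, hx⟩ := exists_prime_orderOf_dvd_card' p hd
    obtain ⟨K, hK⟩ : ∃ K : Subgroup G, K = (Subgroup.zpowers x).comap (QuotientGroup.mk' M) :=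
      ⟨_, rfl⟩
    have hMK : M ≤ K := hK ▸ fun y hy => by
      rw [Subgroup.mem_comap, QuotientGroup.mk'_apply, (QuotientGroup.eq_one_iff y).2 hy]
      exact Subgroup.one_mem _
    have hKi : K.index = (Subgroup.zpowers x).index :=
      hK ▸ Subgroup.index_comap_of_surjective _ (QuotientGroup.mk'_surjective M)
    have hc := (Subgroup.zpowers x).card_mul_index
    rw [Nat.card_zpowers, hx, ← Subgroup.index_eq_card, hk, ← hKi, pow_succ'] at hc
    have hKi' : K.index = p ^ (k + 1) := Nat.eq_of_mul_eq_mul_left (Fact.out : p.Prime).pos hc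
    rcases eq_or_ne M K with e | e
    · rw [← e, hk] at hKi'
      exact absurd (Nat.pow_right_injective (Fact.out : p.Prime).two_le hKi') (by omega)
    · have := hM.2 K (lt_of_le_of_ne hMK e)
      rw [this, Subgroup.index_top] at hKi'
      exact absurd hKi'.symm (Nat.one_lt_pow (by omega) (Fact.out : p.Prime).one_lt).ne'

omit [Finite S] in
/-- The subsystem of `p`-power index on a subgroup containing the hyperfocal subgroup. -/
theorem exists_subsystem (T : Subgroup Ω) :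
    ∀ (n : ℕ) (S : Subgroup Ω) [Finite S], Nat.card S = n → IsPGroup p S → ∀ F : FusionSystem S,
      F.IsSaturated p → T ≤ S → F.hyperfocalSubgroup p ≤ T →
        ∃ E : FusionSystem T, E.IsSaturated p ∧ E.IsSubsystemOf F ∧ Cov F p T E ∧ Fac F E := by
  intro n
  induction n using Nat.strong_induction_on with
  | _ n ih =>
  intro S _ hn hS F hF hTS hT
  rcases eq_or_ne T S with rfl | hne
  · exact ⟨F, hF, fun P φ h => h, fun P _ α hα _ => hα, fun P _ f hf =>
      ⟨1, Subgroup.one_mem _, f, hf, fun x _ => by group⟩⟩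
  have hne' : T.subgroupOf S ≠ ⊤ := fun e => hne (le_antisymm hTS (Subgroup.subgroupOf_eq_top.1 e))
  obtain ⟨M, hTM, hMn, hMi⟩ := exists_le_index_prime hS hne'
  set T₁ := M.map S.subtype
  have hT₁S : T₁ ≤ S := Subgroup.map_subtype_le _
  have hsub : T₁.subgroupOf S = M := Subgroup.comap_map_eq_self_of_injective S.subtype_injective M
  have hTT₁ : T ≤ T₁ := fun x hx => ⟨⟨x, hTS hx⟩, hTM hx, rfl⟩
  obtain ⟨E₁, hE₁, hE₁F, hc₁, hf₁⟩ := exists_of_index_prime hS hF hT₁S (hsub.symm ▸ hMn)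
    (hsub.symm ▸ hMi) (hT.trans hTT₁)
  have := finite_of_le hT₁S
  have hlt : Nat.card T₁ < n := by
    rw [← hn]
    refine lt_of_le_of_ne (Subgroup.card_le_of_le hT₁S) fun e => ?_
    have h1 := Subgroup.eq_of_le_of_card_ge hT₁S e.ge
    rw [h1, Subgroup.subgroupOf_self] at hsub
    rw [← hsub, Subgroup.index_top] at hMi
    exact (Fact.out : p.Prime).ne_one hMi.symm
  obtain ⟨E, hE, hEE₁, hc, hf⟩ := ih _ hlt T₁ rfl (hS.to_le hT₁S) E₁ hE₁ hTT₁
    ((hyperfocal_mono hE₁F).trans hT)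
  refine ⟨E, hE, fun P => (hEE₁ P).trans (hE₁F P),
    fun P hP α hα ho => hc P hP α (hc₁ P (hP.trans hTT₁) α hα ho) ho, fun P hP f hfm => ?_⟩
  obtain ⟨g₁, hg₁, f₁, hf₁m, hv₁⟩ := hf₁ P (hP.trans hTT₁) f hfm
  obtain ⟨g₂, hg₂, f₀, hf₀, hv₂⟩ := hf P hP f₁ hf₁m
  exact ⟨g₁ * g₂, S.mul_mem hg₁ (hT₁S hg₂), f₀, hf₀, fun x hx => by
    rw [hv₁ x hx, hv₂ x hx]; group⟩

/-- The subsystem of `p`-power index is normal. -/
theorem isNormalIn (hS : IsPGroup p S) (hF : F.IsSaturated p) (hTS : T ≤ S)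
    (hn : (T.subgroupOf S).Normal) (hT : F.hyperfocalSubgroup p ≤ T) {E : FusionSystem T}
    (hE : E.IsSaturated p) (hEF : E.IsSubsystemOf F) (hc : Cov F p T E) :
    E.IsNormalIn F p := by
  obtain ⟨E', hE', hEF', hc', hfac⟩ := exists_subsystem T _ S rfl hS F hF hTS hT
  obtain rfl := eq_of_cov hS hTS hE hEF hc hE' hEF' hc'
  have := finite_of_le hTS
  have hTp : IsPGroup p T := hS.to_le hTS
  have hTn : ∀ g ∈ S, ∀ x ∈ T, g * x * g⁻¹ ∈ T := fun g hg x hx =>
    hn.conj_mem (⟨x, hTS hx⟩ : S) hx ⟨g, hg⟩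
  have hsc : F.StronglyClosed T := stronglyClosed_iff.2 ⟨hTS, fun P f hf x hx hxT => by
    obtain ⟨γ, hγ, h⟩ := exists_conj_mod_hyperfocal hS hF hf
    have := T.mul_mem (hTn γ hγ x hxT) (hT (h x hx))
    rwa [mul_inv_cancel_left] at this⟩
  refine ⟨⟨hE', hF, hEF', hsc, ?_, ?_⟩, ?_⟩
  · intro P hPT φ hφ a ha
    have hai := (F.autGroup T).inv_mem ha
    have hM := PPrime.isSubPred_conjd (F := E') (E := E') a⁻¹
    have hcov : Cov F p T (PPrime.ofPred E' _ hM) := by
      intro R hR α hα ho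
      have hi : IsIso F R (imageAut a⁻¹⁻¹ R) (autFun a⁻¹⁻¹) :=
        ⟨((mem_autGroup_iff hTS a⁻¹⁻¹).1 ((F.autGroup T).inv_mem hai)).isMap.mono hR,
          coe_imageAut a⁻¹⁻¹ hR⟩
      have h := hc' _ (imageAut_le _ _) (MulAut.congr hi.equiv α) (hi.congr_mem_autGroup hα)
        (by rwa [MulEquiv.orderOf_eq])
      refine mem_autGroup_of_isMap ((PPrime.isMap_ofPred hM).2
        ⟨((mem_autGroup_iff hR α).1 (hc' R hR α hα ho)).isMap,
          ((mem_autGroup_iff (imageAut_le _ _) _).1 h).isMap.congr fun y hy => ?_⟩) α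
            fun x => (autFun_coe α x).symm
      obtain ⟨x, hx, rfl⟩ := hi.surj hy
      show _ = autFun a⁻¹⁻¹ (autFun α (autFun a⁻¹ (autFun a⁻¹⁻¹ x)))
      rw [PPrime.autFun_autFun_inv a⁻¹ (hR hx), autFun_apply α hx, autFun_apply _ hy]
      exact hi.congr_apply α ⟨x, hx⟩
    have h1 := ((PPrime.isMap_ofPred hM).1
      (isMap_of_subsystem (le_of_cov hS hTS hE' hEF' le_rfl hcov) (isMap_homFun hφ))).2
    rw [inv_inv] at h1
    obtain ⟨χ, hχ, hχv⟩ := h1
    refine ⟨χ, hχ, fun x hφx hax => ?_⟩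
    refine (hχv ⟨_, hax⟩).trans ?_
    show autFun a (homFun φ (autFun a⁻¹ ((a ⟨x, hPT x.2⟩ : T) : Ω))) = _
    rw [← autFun_apply a (hPT x.2), PPrime.autFun_inv_autFun a (hPT x.2), homFun_coe,
      autFun_apply a hφx]
  · intro P hP φ hφ
    obtain ⟨g, hg, f₀, ⟨φ₀, hφ₀, hv₀⟩, hv⟩ := hfac P hP _ (isMap_homFun hφ)
    have hgn : g ∈ Subgroup.normalizer (T : Set Ω) :=
      mem_normalizer_of_conj_mem hTS fun x hx => hTn g hg x hx
    refine ⟨conjAut T hgn, autInducedBy_le_autGroup hTS (conjAut_mem_autInducedBy hgn hg), φ₀, hφ₀,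
      fun x hx => ?_⟩
    have e := hv x x.2
    rw [homFun_coe, ← hv₀ x] at e
    rw [conjAut_apply]
    exact e
  · intro α hα
    obtain ⟨x, hx, m, hmo, hxv⟩ := Residual.exists_inner_mul hTp hE' hα
    set C := centralizerIn S T
    have hXS : T ⊔ C ≤ S := sup_le hTS inf_le_left
    have := finite_of_le hXS
    have := finite_mulAut (T ⊔ C : Subgroup Ω)
    have hTnz : F.IsFullyNormalized T := ⟨hTS, fun Q hQ => by
      obtain ⟨q, hq⟩ := isConj_iff.1 hQ
      have hQT : Q ≤ T := fun y hy => by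
        obtain ⟨z, hz, rfl⟩ := hq.surj hy
        exact isMap_mem_of_stronglyClosed hsc hq.isMap hz hz
      rw [Subgroup.eq_of_le_of_card_ge hQT hq.card_eq.ge]⟩
    have hb : IsIso F T T (autFun (α ^ m)) :=
      ((mem_autGroup_iff le_rfl _).1 ((E'.autGroup T).pow_mem hα m)).of_subsystem hEF'
    obtain ⟨β', hβ', hβ'v⟩ :=
      (isReceptive_iff.1 (isReceptive_of_isFullyNormalized hS hF hTnz)).2 T _ hb
    have hX := hβ'.mono
      (sup_le (le_nPhi hb.isMap) (centralizerIn_le_nPhi _ _) : T ⊔ C ≤ nPhi S T (autFun (α ^ m)))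
    have hT' : IsIso F T T β' := hb.congr fun y hy => (hβ'v y hy).symm
    obtain ⟨β₀, hβ₀, hβ₀v⟩ := exists_mem_autGroup (hX.isIso_of_card_le (fun y hy => by
      obtain ⟨t, ht, c, hc, rfl⟩ :=
        Residual.exists_mul_of_mem_sup (Residual.cs_le_centralizer le_rfl) hy
      rw [hX.map_mul (Subgroup.mem_sup_left ht) (Subgroup.mem_sup_right hc)]
      exact Subgroup.mul_mem _ (Subgroup.mem_sup_left (hT'.mem ht))
        (Subgroup.mem_sup_right (hX.mem_centralizerIn le_sup_left hT'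
          (Subgroup.mem_sup_right hc) hc.2))) le_rfl)
    obtain ⟨m', hm', hm'o⟩ := Residual.exists_pPrime_pow β₀ hmo
    have hpT : ∀ (k : ℕ) (t : T), ((β₀ ^ k) ⟨t, Subgroup.mem_sup_left t.2⟩ : Ω) =
        (((α ^ m) ^ k) t : Ω) := by
      intro k
      induction k with
      | zero => intro t; rfl
      | succ k ih =>
        intro t
        rw [pow_succ', pow_succ', MulAut.mul_apply, MulAut.mul_apply, hβ₀v, ih t,
          hβ'v _ (SetLike.coe_mem _), autFun_coe]
    set β := β₀ ^ m' with hβdef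
    have hβF : β ∈ F.autGroup (T ⊔ C) := (F.autGroup (T ⊔ C)).pow_mem hβ₀ m'
    have hβT : ∀ t : T, (β ⟨t, Subgroup.mem_sup_left t.2⟩ : Ω) = ((α ^ m) t : Ω) := fun t => by
      rw [hβdef, hpT m' t, Residual.pow_eq_self_of_modEq hm']
    have hxn : x⁻¹ ∈ Subgroup.normalizer ((T ⊔ C : Subgroup Ω) : Set Ω) :=
      mem_normalizer_of_conj_mem hXS fun y hy =>
        Subgroup.mul_mem _ (Subgroup.mul_mem _ (Subgroup.mem_sup_left (T.inv_mem hx)) hy)
          (Subgroup.inv_mem _ (Subgroup.mem_sup_left (T.inv_mem hx)))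
    refine ⟨conjAut (T ⊔ C) hxn * β, Subgroup.mul_mem _ (autInducedBy_le_autGroup hXS
      (conjAut_mem_autInducedBy hxn (hTS (T.inv_mem hx)))) hβF, fun t => ?_, fun c hc => ?_⟩
    · rw [MulAut.mul_apply, conjAut_apply]
      show x⁻¹ * (β ⟨t, Subgroup.mem_sup_left t.2⟩ : Ω) * x⁻¹⁻¹ = _
      rw [hβT, hxv]
      group
    · have hβT' : IsIso F T T (autFun β) := hb.congr fun y hy => by
        rw [autFun_apply β (Subgroup.mem_sup_left hy), hβT ⟨y, hy⟩, autFun_apply _ hy]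
      have hcC : (β c : Ω) ∈ centralizerIn S T := by
        rw [← autFun_coe β]
        exact ((mem_autGroup_iff hXS β).1 hβF).isMap.mem_centralizerIn le_sup_left hβT' c.2 hc.2
      rw [MulAut.mul_apply, conjAut_apply,
        conj_eq_self_of_mem_centralizer (Subgroup.mem_centralizer_iff.2 fun y hy =>
          (Subgroup.mem_centralizer_iff.1 (Subgroup.mem_inf.1 hy).2 _ (T.inv_mem hx)).symm :
            x⁻¹ ∈ Subgroup.centralizer ((centralizerIn S T : Subgroup Ω) : Set Ω)) hcC]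
      refine ⟨hT (inv_mul_mem_hyperfocal hXS (α := ⟨β, hβF⟩)
        (CfsgLib.Transfer.mem_pResidual_of_coprime
          (by rw [← Subgroup.orderOf_coe]; exact hm'o)) c), ?_⟩
      exact Subgroup.mul_mem _ (Subgroup.inv_mem _ hc.2) hcC.2

end CfsgLib.Fusion.PowerIndex
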