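import Mathlib
import Cfsg.Agent.Lib.Fusion.Solvable
import Cfsg.Agent.Lib.Fusion.Invariant

/-!
Solvability passes to normal subsystems and factor systems, and back.
-/

set_option autoImplicit false

namespace CfsgLib.Fusion

open Cfsg Cfsg.FusionSystem
open scoped commutatorElement

variable {Ω : Type*} [Group Ω] {S T : Subgroup Ω} {F : FusionSystem S} {E : FusionSystem T}

theorem solvStep_inf (h : E.IsSubsystemOf F) (hT : T ≤ S) {A B : Subgroup Ω}
    (hAB : SolvStep F A B) : SolvStep E (A ⊓ T) (B ⊓ T) := by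
  refine ⟨inf_le_inf_right _ hAB.1, ⟨inf_le_right, fun R hR φ hφ x => ⟨?_, ?_⟩⟩,
    commutator_le_inf_of_le hAB.2.2⟩
  · exact hAB.2.1.2 R (hR.trans inf_le_left) φ (h R hφ) x
  · exact (E.le_of_mem hφ).2 x

/-- The largest `Aut_F(T)`-invariant subgroup of `U ∩ T`. -/
def invCore (F : FusionSystem S) (T U : Subgroup Ω) : Subgroup Ω :=
  (⨅ a ∈ F.autGroup T, (U.subgroupOf T).comap (a : MulAut T).toMonoidHom).map T.subtype

theorem mem_invCore {U : Subgroup Ω} {x : Ω} :
    x ∈ invCore F T U ↔ ∃ hx : x ∈ T, ∀ a ∈ F.autGroup T, ((a ⟨x, hx⟩ : T) : Ω) ∈ U := by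
  constructor
  · rintro ⟨y, hy, rfl⟩
    simp only [SetLike.mem_coe, Subgroup.mem_iInf] at hy
    exact ⟨y.2, fun a ha => hy a ha⟩
  · rintro ⟨hx, h⟩
    refine ⟨⟨x, hx⟩, ?_, rfl⟩
    simp only [SetLike.mem_coe, Subgroup.mem_iInf]
    exact fun a ha => h a ha

theorem invCore_le (U : Subgroup Ω) : invCore F T U ≤ U := fun x hx => by
  obtain ⟨hxT, h⟩ := mem_invCore.1 hx
  exact h 1 (Subgroup.one_mem _)

theorem invCore_mono {U V : Subgroup Ω} (h : U ≤ V) : invCore F T U ≤ invCore F T V := fun x hx => by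
  obtain ⟨hxT, hU⟩ := mem_invCore.1 hx
  exact mem_invCore.2 ⟨hxT, fun a ha => h (hU a ha)⟩

theorem invCore_self : invCore F T T = T :=
  le_antisymm (invCore_le T) fun _ hx => mem_invCore.2 ⟨hx, fun _ _ => Subtype.coe_prop _⟩

theorem stronglyClosed_invCore (hE : E.IsInvariantIn F) {U : Subgroup Ω}
    (hU : E.StronglyClosed U) : F.StronglyClosed (invCore F T U) := by
  have hle : invCore F T U ≤ T := fun x hx => (mem_invCore.1 hx).1
  refine stronglyClosed_iff.2 ⟨hle.trans hE.2.1.1, fun P f hf x hx hxI => ?_⟩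
  obtain ⟨hxT, hxU⟩ := mem_invCore.1 hxI
  obtain ⟨a, ha, f₀, hf₀, hv⟩ := exists_frattini hE (inf_le_right : P ⊓ T ≤ T)
    (hf.mono (inf_le_left : P ⊓ T ≤ P))
  refine mem_invCore.2 ⟨isMap_mem_of_stronglyClosed hE.2.1 hf hx hxT, fun b hb => ?_⟩
  set c := b * a
  have hc : c ∈ F.autGroup T := Subgroup.mul_mem _ hb ha
  obtain ⟨f', hf', hf'v⟩ := exists_transport hE hf₀ hc
    (P' := ((P ⊓ T).subgroupOf T).map (T.subtype.comp (c : MulAut T).toMonoidHom)) (by
      ext y
      constructor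
      · rintro ⟨z, hz, rfl⟩
        exact ⟨⟨z, hz.2⟩, hz, (autFun_apply c hz.2).symm⟩
      · rintro ⟨z, hz, rfl⟩
        exact ⟨z, hz, autFun_coe c z⟩)
  have hxc : autFun c x ∈ U := by rw [autFun_apply c hxT]; exact hxU c hc
  have h1 := isMap_mem_of_stronglyClosed hU hf'
    (show autFun c x ∈ ((P ⊓ T).subgroupOf T).map (T.subtype.comp (c : MulAut T).toMonoidHom) from
      ⟨⟨x, hxT⟩, ⟨hx, hxT⟩, (autFun_apply c hxT).symm⟩) hxc
  rw [hf'v x ⟨hx, hxT⟩, autFun_apply c (hf₀.mem ⟨hx, hxT⟩)] at h1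
  have h2 : (⟨f x, isMap_mem_of_stronglyClosed hE.2.1 hf hx hxT⟩ : T) =
      a ⟨f₀ x, hf₀.mem ⟨hx, hxT⟩⟩ :=
    Subtype.ext ((hv x ⟨hx, hxT⟩).trans (autFun_apply a _))
  rw [h2]
  exact h1

theorem solvStep_invCore (hE : E.IsInvariantIn F) {A B : Subgroup Ω} (hAB : SolvStep E A B) :
    SolvStep F (invCore F T A) (invCore F T B) := by
  refine ⟨invCore_mono hAB.1, stronglyClosed_invCore hE hAB.2.1, ?_⟩
  rw [Subgroup.commutator_le]
  intro x hx y hy
  obtain ⟨hxT, hxB⟩ := mem_invCore.1 hx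
  obtain ⟨hyT, hyB⟩ := mem_invCore.1 hy
  refine mem_invCore.2 ⟨T.mul_mem (T.mul_mem (T.mul_mem hxT hyT) (T.inv_mem hxT)) (T.inv_mem hyT),
    fun a ha => hAB.2.2 ?_⟩
  rw [show (⟨⁅x, y⁆, _⟩ : T) = ⁅(⟨x, hxT⟩ : T), ⟨y, hyT⟩⁆ from rfl, map_commutatorElement]
  exact Subgroup.commutator_mem_commutator (hxB a ha) (hyB a ha)

theorem lift_series {α β : Type*} {r : α → α → Prop} {q : β → β → Prop} (f : α → β)
    (h : ∀ a b, r a b → q (f a) (f b)) {a b : α} (hab : Relation.ReflTransGen r a b) :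
    Relation.ReflTransGen q (f a) (f b) := by
  induction hab with
  | refl => exact Relation.ReflTransGen.refl
  | tail _ hbc ih => exact ih.tail (h _ _ hbc)

variable {p : ℕ} [Fact p.Prime] [Finite S]
variable {Ω' : Type*} [Group Ω'] {S' : Subgroup Ω'} {θ : S →* Ω'} {D : FusionSystem S'}

theorem solvable_iff_normal_and_factor (hS : IsPGroup p S) (hF : F.IsSaturated p)
    (hE : E.IsWeaklyNormalIn F p) (hD : F.IsFactorSystem T θ D) :
    F.IsSolvableSystem ↔ E.IsSolvableSystem ∧ D.IsSolvableSystem := by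
  obtain ⟨hEs, -, hEi⟩ := hE
  have hT := hEi.2.1
  have hr : θ.range = S' := hD.2.2.1
  haveI : Finite T := finite_of_le hT.1
  haveI : Finite S' := hr ▸ Finite.of_surjective _ θ.rangeRestrict_surjective
  have hS' : IsPGroup p S' := hr ▸ hS.of_surjective θ.rangeRestrict θ.rangeRestrict_surjective
  have hDs := isSaturated_factor hS hF hT hD
  rw [isSolvableSystem_iff_series hS hF, isSolvableSystem_iff_series (hS.to_le hT.1) hEs,
    isSolvableSystem_iff_series hS' hDs]
  constructor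
  · intro h
    refine ⟨?_, ?_⟩
    · have := lift_series (r := SolvStep F) (q := SolvStep E) (fun A => A ⊓ T)
        (fun A B hAB => solvStep_inf hEi.1 hT.1 hAB) h
      simpa [inf_eq_right.2 hT.1] using this
    · have := lift_series (r := SolvStep F) (q := SolvStep D) (fun A => imageAlong θ A)
        (fun A B hAB => ⟨Subgroup.map_mono (Subgroup.comap_mono hAB.1),
          stronglyClosed_imageAlong hD hAB.2.1, commutator_imageAlong_le θ hAB.2.2⟩) h
      rwa [imageAlong_self, hr, show imageAlong θ (⊥ : Subgroup Ω) = ⊥ by simp [imageAlong]] at this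
  · rintro ⟨h₁, h₂⟩
    have h1 : Relation.ReflTransGen (SolvStep F) (invCore F T ⊥) (invCore F T T) :=
      lift_series (invCore F T) (fun A B hAB => solvStep_invCore hEi hAB) h₁
    have h2 : Relation.ReflTransGen (SolvStep F) (preimageAlong θ ⊥) (preimageAlong θ S') :=
      lift_series (preimageAlong θ) (fun A B hAB => ⟨preimageAlong_mono θ hAB.1,
        stronglyClosed_preimageAlong (isSurjectiveMorphism_factor hS hF hT hD).1 hAB.2.1,
        commutator_preimageAlong_le θ hAB.2.2⟩) h₂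
    rw [invCore_self, eq_bot_iff.2 (invCore_le (F := F) (T := T) ⊥)] at h1
    rw [preimageAlong_bot hD, preimageAlong_range hr] at h2
    exact h1.trans h2

end CfsgLib.Fusion
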