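import Mathlib
import Cfsg.Agent.Lib.Fusion.SolvableNormal
import Cfsg.Agent.Lib.Fusion.PowerIndex
import Cfsg.Agent.Lib.Fusion.ResidualExtension
import Cfsg.Agent.Lib.Fusion.PSolvableRealization
import Cfsg.Agent.Lib.Fusion.WeaklyNormalCore
import Cfsg.Agent.Lib.Fusion.ModelUnique
import Cfsg.Agent.Lib.Fusion.NormalCentralizer
import Cfsg.Agent.Lib.PSolvable.Core
import Cfsg.Agent.Lib.PSolvable.TwoPrimes
import Cfsg.Prelude.Def_FusionComponents

/-!
The alternating residual series terminates exactly for the constrained systems with `p`-solvable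
automizers.
-/

set_option autoImplicit false
set_option linter.style.haveILetI false
set_option linter.unusedSectionVars false

namespace CfsgLib.Fusion.ResidualSeries

open Cfsg Cfsg.FusionSystem
open scoped commutatorElement
open CfsgLib.Fusion.NormalCentralizer (autFun_inv_eq)

universe u

/-! ### Group lemmas -/

section Groups

variable {p : ℕ} [Fact p.Prime]

theorem isPSolvable_of_isPGroup {G : Type*} [Group G] [Finite G] (h : IsPGroup p G) :
    Cfsg.IsPSolvable p G := by
  have := h.isNilpotent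
  exact PSolvable.isPSolvable_of_isSolvable inferInstance

theorem isPSolvable_of_coprime {G : Type*} [Group G] [Finite G] (h : (Nat.card G).Coprime p) :
    Cfsg.IsPSolvable p G :=
  PSolvable.isPSolvable_of_quotient ⊤ (Or.inr (by rwa [Subgroup.card_top]))
    (isPSolvable_of_isPGroup (IsPGroup.of_card (n := 0) (by
      rw [← Subgroup.index_eq_card, Subgroup.index_top, pow_zero])))

/-- An extension of `p`-solvable groups is `p`-solvable. -/
theorem isPSolvable_ext {G : Type u} [Group G] [Finite G] (N : Subgroup G) [N.Normal]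
    (hN : Cfsg.IsPSolvable p N) (hQ : Cfsg.IsPSolvable p (G ⧸ N)) : Cfsg.IsPSolvable p G := by
  suffices key : ∀ (n : ℕ) (G : Type u) [Group G] [Finite G] (N : Subgroup G) [N.Normal],
      Nat.card G = n → Cfsg.IsPSolvable p N → Cfsg.IsPSolvable p (G ⧸ N) →
        Cfsg.IsPSolvable p G from key _ G N rfl hN hQ
  intro n
  induction n using Nat.strong_induction_on with
  | _ n ih =>
  intro G _ _ N _ hn hN hQ
  rcases eq_or_ne N ⊥ with rfl | hne
  · exact PSolvable.isPSolvable_of_quotient ⊥ (Or.inl IsPGroup.of_bot) hQ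
  haveI : Nontrivial N := (Subgroup.nontrivial_iff_ne_bot N).2 hne
  obtain ⟨M, hMn, hMne, hM⟩ := TwoPrimes.exists_normal_pGroup_or_coprime hN
  obtain ⟨L, hLn, hLne, hLN, hL⟩ : ∃ L : Subgroup G, L.Normal ∧ L ≠ ⊥ ∧ L ≤ N ∧
      (IsPGroup p L ∨ (Nat.card L).Coprime p) := by
    rcases hM with h | h
    · refine ⟨_, PSolvable.normal_map_of_characteristic N (Cfsg.pCore p N), ?_, Subgroup.map_subtype_le _,
        Or.inl ((CfsgLib.Fitting.pCore_isPGroup p).map _)⟩
      rw [Ne, Subgroup.map_eq_bot_iff_of_injective _ N.subtype_injective]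
      exact fun e => hMne (eq_bot_iff.2 (e ▸ CfsgLib.Fitting.le_pCore hMn h))
    · refine ⟨_, PSolvable.normal_map_of_characteristic N (Cfsg.pPrimeCore p N), ?_,
        Subgroup.map_subtype_le _, Or.inr ?_⟩
      · rw [Ne, Subgroup.map_eq_bot_iff_of_injective _ N.subtype_injective]
        exact fun e => hMne (eq_bot_iff.2 (e ▸ Transfer.le_pPrimeCore hMn h))
      · rw [Subgroup.card_map_of_injective N.subtype_injective]
        exact Transfer.pPrimeCore_coprime p
  refine PSolvable.isPSolvable_of_quotient L hL ?_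
  have hlt : Nat.card (G ⧸ L) < n := by
    rw [← hn, Subgroup.card_eq_card_quotient_mul_card_subgroup L]
    exact lt_mul_of_one_lt_right Nat.card_pos (L.one_lt_card_iff_ne_bot.2 hLne)
  let f : N →* ↥(N.map (QuotientGroup.mk' L)) := (QuotientGroup.mk' L).subgroupMap N
  refine ih _ hlt (G ⧸ L) (N.map (QuotientGroup.mk' L)) rfl
    (PSolvable.isPSolvable_of_surjective f ((QuotientGroup.mk' L).subgroupMap_surjective N) hN) ?_
  exact PSolvable.isPSolvable_of_injective
    (QuotientGroup.quotientQuotientEquivQuotient L N hLN).toMonoidHom (MulEquiv.injective _) hQ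

/-- A `p`-solvable group generated by `p`-elements and equal to its `p`-residual is trivial. -/
theorem eq_one_of_perfect {G : Type u} [Group G] [Finite G] (hG : Cfsg.IsPSolvable p G)
    (h1 : Cfsg.pResidual p G = ⊤)
    (h2 : Subgroup.closure {x : G | ∃ k : ℕ, orderOf x = p ^ k} = ⊤) (x : G) : x = 1 := by
  suffices key : ∀ (n : ℕ) (G : Type u) [Group G] [Finite G], Nat.card G = n →
      Cfsg.IsPSolvable p G → Cfsg.pResidual p G = ⊤ →
        Subgroup.closure {x : G | ∃ k : ℕ, orderOf x = p ^ k} = ⊤ → ∀ x : G, x = 1 from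
    key _ G rfl hG h1 h2 x
  intro n
  induction n using Nat.strong_induction_on with
  | _ n ih =>
  intro G _ _ hn hG h1 h2 x
  by_contra hx
  haveI : Nontrivial G := ⟨⟨x, 1, hx⟩⟩
  obtain ⟨L, hLn, hLne, hL⟩ := TwoPrimes.exists_normal_pGroup_or_coprime hG
  have hlt : Nat.card (G ⧸ L) < n := by
    rw [← hn, Subgroup.card_eq_card_quotient_mul_card_subgroup L]
    exact lt_mul_of_one_lt_right Nat.card_pos (L.one_lt_card_iff_ne_bot.2 hLne)
  have hsurj := QuotientGroup.mk'_surjective L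
  have q1 : Cfsg.pResidual p (G ⧸ L) = ⊤ := eq_top_iff.2 <| by
    rw [← Subgroup.map_top_of_surjective _ hsurj, ← h1]
    exact Transfer.map_pResidual_le _
  have q2 : Subgroup.closure {y : G ⧸ L | ∃ k : ℕ, orderOf y = p ^ k} = ⊤ := eq_top_iff.2 <| by
    rw [← Subgroup.map_top_of_surjective _ hsurj, ← h2, MonoidHom.map_closure]
    refine Subgroup.closure_mono ?_
    rintro _ ⟨g, ⟨k, hk⟩, rfl⟩
    obtain ⟨j, -, hj⟩ := (Nat.dvd_prime_pow (Fact.out : p.Prime)).1
      (hk ▸ orderOf_map_dvd (QuotientGroup.mk' L) g)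
    exact ⟨j, hj⟩
  have htriv := ih _ hlt (G ⧸ L) rfl (PSolvable.isPSolvable_of_surjective _ hsurj hG) q1 q2
  have hall : ∀ g : G, g ∈ L := fun g => (QuotientGroup.eq_one_iff g).1 (htriv _)
  rcases hL with hL | hL
  · refine hx (Subgroup.mem_bot.1 ((?_ : (⊤ : Subgroup G) ≤ ⊥) (Subgroup.mem_top x)))
    rw [← h1]
    exact (Subgroup.closure_le _).2 fun g hg => Subgroup.mem_bot.2 <|
      Subtype.ext_iff.1 (Transfer.orderOf_eq_one_of_coprime_of_isPGroup hL (y := ⟨g, hall g⟩)
        (by rw [Subgroup.orderOf_mk]; exact hg))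
  · refine hx (Subgroup.mem_bot.1 ((?_ : (⊤ : Subgroup G) ≤ ⊥) (Subgroup.mem_top x)))
    rw [← h2]
    refine (Subgroup.closure_le _).2 fun g ⟨k, hk⟩ => Subgroup.mem_bot.2 (orderOf_eq_one_iff.1 ?_)
    have hd : p ^ k ∣ Nat.card L := hk ▸ (Subgroup.orderOf_mk g (hall g)) ▸ orderOf_dvd_natCard _
    rw [hk]
    exact Nat.Coprime.eq_one_of_dvd ((hL.pow_right k).symm) hd

end Groups

variable {Ω : Type u} [Group Ω] {S : Subgroup Ω} {F : FusionSystem S} {p : ℕ} [Fact p.Prime]
  [Finite S]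

/-! ### Automizers along the series -/

omit [Finite S] in
theorem exists_restrictHom {P R : Subgroup Ω} (hP : P ≤ S) (hRP : R ≤ P) [Finite R]
    (hinv : ∀ b ∈ F.autGroup P, ∀ x ∈ R, autFun b x ∈ R) :
    ∃ r : F.autGroup P →* F.autGroup R,
      ∀ (b : F.autGroup P), ∀ x ∈ R, autFun (r b : MulAut R) x = autFun (b : MulAut P) x := by
  have h : ∀ b : F.autGroup P, ∃ c : F.autGroup R,
      ∀ x ∈ R, autFun (c : MulAut R) x = autFun (b : MulAut P) x := fun b => by
    obtain ⟨c, hc, hv⟩ := exists_mem_autGroup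
      (((mem_autGroup_iff hP _).1 b.2).isMap.mono hRP |>.isIso_of_card_le (hinv _ b.2) le_rfl)
    exact ⟨⟨c, hc⟩, fun x hx => by rw [autFun_apply c hx]; exact hv _⟩
  choose r hr using h
  refine ⟨MonoidHom.mk' r fun a b => Subtype.ext (MulEquiv.ext fun x => Subtype.ext ?_), hr⟩
  rw [← autFun_coe, hr _ _ x.2, Subgroup.coe_mul, autFun_mul _ _ (hRP x.2), ← hr b _ x.2,
    ← hr a _ (autFun_mem _ x.2), ← autFun_mul _ _ x.2, ← Subgroup.coe_mul, autFun_coe]

/-- One step of the series preserves `p`-solvability of all automizers. -/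
theorem isPSolvable_step (hS : IsPGroup p S) {E : FusionSystem S}
    {D : FusionSystem (E.hyperfocalSubgroup p)} (hE : F.IsPPrimeResidual p E)
    (hD : E.IsPResidual p D)
    (ih : ∀ R, R ≤ E.hyperfocalSubgroup p → Cfsg.IsPSolvable p (D.autGroup R))
    {P : Subgroup Ω} (hP : P ≤ S) : Cfsg.IsPSolvable p (F.autGroup P) := by
  have hU := stronglyClosed_hyperfocal hS hE.1
  have := finite_of_le hP
  have := finite_mulAut P
  set R := P ⊓ (E.hyperfocalSubgroup p)
  have := finite_of_le (inf_le_left.trans hP : R ≤ S)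
  have := finite_mulAut R
  obtain ⟨r, hr⟩ := exists_restrictHom (F := E) hP (inf_le_left : R ≤ P) fun b hb x hx =>
    ⟨autFun_mem b hx.1, isMap_mem_of_stronglyClosed hU ((mem_autGroup_iff hP b).1 hb).isMap
      hx.1 hx.2⟩
  set X := Cfsg.pResidual p (E.autGroup P)
  haveI : X.Normal := Transfer.pResidual_normal p _
  -- `O^p` of the automizer in `E`
  have hB : Cfsg.IsPSolvable p (E.autGroup P) := by
    refine isPSolvable_ext X ?_ (isPSolvable_of_isPGroup Transfer.isPGroup_quotient_pResidual)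
    let g : X →* MulAut R := (E.autGroup R).subtype.comp (r.comp X.subtype)
    have hgD : g.range ≤ D.autGroup R := by
      rintro _ ⟨x, rfl⟩
      exact hD.2.2.2 R inf_le_right ⟨_, Transfer.map_pResidual_le r ⟨x, x.2, rfl⟩, rfl⟩
    have hker : IsPGroup p g.ker := by
      rintro ⟨⟨⟨x, hxA⟩, hxX⟩, hx⟩
      obtain ⟨j, hj⟩ := (hS.to_le hP).exists_card_eq
      refine ⟨j, Subtype.ext (Subtype.ext (Subtype.ext (MulEquiv.ext fun z => ?_)))⟩
      show (x ^ p ^ j) z = z
      refine pow_eq_one_of_fixed_diff ?_ (hj ▸ pow_card_eq_one')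
      have hm : ((z⁻¹ * x z : P) : Ω) ∈ (E.hyperfocalSubgroup p) := inv_mul_mem_hyperfocal hP hxX z
      have hv := hr ⟨x, hxA⟩ _ (show ((z⁻¹ * x z : P) : Ω) ∈ R from ⟨(z⁻¹ * x z).2, hm⟩)
      have h1 : (r ⟨x, hxA⟩ : MulAut R) = 1 := hx
      rw [h1, autFun_apply 1 (show ((z⁻¹ * x z : P) : Ω) ∈ R from ⟨(z⁻¹ * x z).2, hm⟩),
        autFun_coe] at hv
      exact Subtype.ext hv.symm
    have hDs : Cfsg.IsPSolvable p g.range :=
      PSolvable.isPSolvable_of_injective (Subgroup.inclusion hgD)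
        (Subgroup.inclusion_injective hgD) (ih R inf_le_right)
    exact PSolvable.isPSolvable_of_quotient g.ker (Or.inl hker) <|
      PSolvable.isPSolvable_of_injective
        (QuotientGroup.quotientKerEquivRange g).toMonoidHom (MulEquiv.injective _) hDs
  set N := Subgroup.closure {α : F.autGroup P | ∃ k : ℕ, orderOf α = p ^ k}
  haveI hNn : N.Normal := by
    refine ⟨fun n hn g => ?_⟩
    induction hn using Subgroup.closure_induction with
    | mem a ha =>
      obtain ⟨k, hk⟩ := ha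
      exact Subgroup.subset_closure ⟨k, by rw [← hk]; exact MulEquiv.orderOf_eq (MulAut.conj g) a⟩
    | one => simp
    | mul a b _ _ ha hb =>
      rw [show g * (a * b) * g⁻¹ = (g * a * g⁻¹) * (g * b * g⁻¹) by group]
      exact Subgroup.mul_mem _ ha hb
    | inv a _ ha =>
      rw [show g * a⁻¹ * g⁻¹ = (g * a * g⁻¹)⁻¹ by group]
      exact Subgroup.inv_mem _ ha
  refine isPSolvable_ext N ?_ ?_
  · let e : N →* E.autGroup P := ((F.autGroup P).subtype.comp N.subtype).codRestrict _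
      fun a => hE.2.1.2 P hP ⟨a, a.2, rfl⟩
    refine PSolvable.isPSolvable_of_injective e (fun a b hab => ?_) hB
    exact Subtype.ext (Subtype.ext (congrArg (fun t : E.autGroup P => (t : MulAut P)) hab))
  · refine isPSolvable_of_coprime ?_
    rw [← Subgroup.index_eq_card]
    let W : Sylow p (F.autGroup P) := default
    refine ((Fact.out : p.Prime).coprime_iff_not_dvd.2 fun hd =>
      W.not_dvd_index (hd.trans (Subgroup.index_dvd_of_le fun w hw => ?_))).symm
    obtain ⟨k, hk⟩ := IsPGroup.iff_orderOf.1 W.isPGroup' ⟨w, hw⟩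
    exact Subgroup.subset_closure ⟨k, by rw [← hk]; exact (Subgroup.orderOf_mk w hw).symm⟩

theorem isInvariantIn_self (F : FusionSystem S) : F.IsInvariantIn F := by
  refine ⟨fun P φ h => h, stronglyClosed_top F, fun P hP φ hφ a ha => ?_,
    fun P hP φ hφ => ⟨1, Subgroup.one_mem _, φ, hφ, fun x _ => rfl⟩⟩
  have hi := (mem_autGroup_iff le_rfl a).1 ha
  have hi' := ((mem_autGroup_iff le_rfl a⁻¹).1 (Subgroup.inv_mem _ ha)).isMap
  have hback : ∀ y ∈ imageAut a P, autFun a⁻¹ y ∈ P := fun y hy => by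
    rw [← SetLike.mem_coe, ← coe_imageAut a hP] at hy
    obtain ⟨x, hx, rfl⟩ := hy
    rwa [PPrime.autFun_inv_autFun a (hP hx)]
  obtain ⟨χ, hχ, hv⟩ := ((hi'.mono (imageAut_le a P)).comp (isMap_homFun hφ) hback).comp hi.isMap
    fun y hy => (isMap_homFun hφ).mem (hback y hy)
  refine ⟨χ, hχ, fun x hφx hax => ?_⟩
  refine (hv ⟨_, hax⟩).trans ?_
  show autFun a (homFun φ (autFun a⁻¹ ((a ⟨x, hP x.2⟩ : S) : Ω))) = _
  rw [← autFun_apply a (hP x.2), PPrime.autFun_inv_autFun a (hP x.2), homFun_coe,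
    autFun_apply a hφx]

/-- The hyperfocal step: a series reaches `S` from any strongly closed subgroup above the
hyperfocal one. -/
theorem series_above_hyperfocal (hS : IsPGroup p S) (hF : F.IsSaturated p) :
    Relation.ReflTransGen (SolvStep F) (F.hyperfocalSubgroup p) S := by
  set U := F.hyperfocalSubgroup p
  suffices key : ∀ (n : ℕ) (R : Subgroup Ω), Nat.card R = n → U ≤ R → R ≤ S →
      (∀ s ∈ S, ∀ x ∈ R, s * x * s⁻¹ ∈ R) → Relation.ReflTransGen (SolvStep F) U R from
    key _ S rfl hyperfocal_le le_rfl fun s hs x hx => S.mul_mem (S.mul_mem hs hx) (S.inv_mem hs)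
  intro n
  induction n using Nat.strong_induction_on with
  | _ n ih =>
  intro R hn hUR hRS hR
  rcases eq_or_ne R U with rfl | hne
  · exact Relation.ReflTransGen.refl
  have := finite_of_le hRS
  have hcR : ⁅R, R⁆ ≤ R := Subgroup.commutator_le.2 fun a ha b hb =>
    R.mul_mem (R.mul_mem (R.mul_mem ha hb) (R.inv_mem ha)) (R.inv_mem hb)
  set R' := U ⊔ ⁅R, R⁆ with hR'def
  have hR'R : R' ≤ R := sup_le hUR hcR
  have hR' : ∀ s ∈ S, ∀ x ∈ R', s * x * s⁻¹ ∈ R' := by
    intro s hs x hx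
    have hmap : R'.map (MulAut.conj s).toMonoidHom ≤ R' := by
      rw [hR'def, Subgroup.map_sup, Subgroup.map_commutator]
      refine sup_le_sup ?_ (Subgroup.commutator_mono ?_ ?_)
      · rintro _ ⟨y, hy, rfl⟩; exact conj_mem_hyperfocal hs hy
      all_goals rintro _ ⟨y, hy, rfl⟩; exact hR s hs y hy
    exact hmap ⟨x, hx, rfl⟩
  have hlt : Nat.card R' < n := by
    rw [← hn]
    refine lt_of_le_of_ne (Subgroup.card_le_of_le hR'R) fun e => hne ?_
    have e' : R' = R := Subgroup.eq_of_le_of_card_ge hR'R e.ge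
    have h1 : U.subgroupOf R ⊔ _root_.commutator R = ⊤ := by
      refine Subgroup.map_injective R.subtype_injective ?_
      rw [Subgroup.map_sup, Subgroup.map_subgroupOf_eq_of_le hUR, Subgroup.map_subtype_commutator,
        ← MonoidHom.range_eq_map, Subgroup.range_subtype]
      exact e'
    have h2 : U.subgroupOf R ⊔ frattini R = ⊤ := eq_top_iff.2 <|
      h1.ge.trans (sup_le_sup_left (PSolvable.commutator_le_frattini (hS.to_le hRS)).1 _)
    exact le_antisymm (Subgroup.subgroupOf_eq_top.1 (frattini_nongenerating h2)) hUR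
  refine (ih _ hlt R' rfl le_sup_left (hR'R.trans hRS) hR').tail ⟨hR'R, ?_, le_sup_right⟩
  refine stronglyClosed_iff.2 ⟨hRS, fun P f hf x hx hxR => ?_⟩
  obtain ⟨γ, hγ, h⟩ := exists_conj_mod_hyperfocal hS hF hf
  have := R.mul_mem (hR γ hγ x hxR) (hUR (h x hx))
  rwa [mul_inv_cancel_left] at this

/-- A terminating system has `p`-solvable automizers and a series. -/
theorem of_terminating (h : F.HasTerminatingResidualSeries p) :
    Finite S → IsPGroup p S → F.IsSaturated p →
      (∀ P, P ≤ S → Cfsg.IsPSolvable p (F.autGroup P)) ∧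
        Relation.ReflTransGen (SolvStep F) ⊥ S := by
  revert ‹Fact p.Prime›
  induction h with
  | @trivial S F p hbot =>
    intro _ _ _ _
    refine ⟨fun P hP => ?_, hbot ▸ Relation.ReflTransGen.refl⟩
    have hP' : P = ⊥ := eq_bot_iff.2 (hbot ▸ hP)
    subst hP'
    have : Subsingleton (MulAut (⊥ : Subgroup Ω)) :=
      ⟨fun a b => MulEquiv.ext fun x => Subsingleton.elim _ _⟩
    exact isPSolvable_of_isPGroup (IsPGroup.of_card (n := 0) (by simp))
  | @step S F E p D hE hD _ ih =>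
    intro hp hfin hS hF
    haveI := hfin
    have hUS : E.hyperfocalSubgroup p ≤ S := hyperfocal_le
    have := finite_of_le hUS
    have hUp := hS.to_le hUS
    obtain ⟨hsol, hser⟩ := ih this hUp hD.1
    refine ⟨fun P hP => isPSolvable_step hS hE hD hsol hP, ?_⟩
    have hDE : D.IsNormalIn E p :=
      PowerIndex.isNormalIn hS hE.1 hUS ⟨fun n hn g => conj_mem_hyperfocal g.2 hn⟩ le_rfl hD.1
        hD.2.1 (PowerIndex.cov_iff.2 hD.2.2.2)
    have h1 := lift_series (invCore E (E.hyperfocalSubgroup p))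
      (fun A B hAB => solvStep_invCore hDE.1.2.2 hAB) hser
    rw [invCore_self, eq_bot_iff.2 (invCore_le (F := E) (T := E.hyperfocalSubgroup p) ⊥)] at h1
    have hEF : E.IsNormalIn F p :=
      Residual.isNormalIn_residual hS ⟨hF, hF, isInvariantIn_self F⟩ hE
    have h2 := lift_series (invCore F S) (fun A B hAB => solvStep_invCore hEF.1.2.2 hAB)
      (h1.trans (series_above_hyperfocal hS hE.1))
    rwa [invCore_self, eq_bot_iff.2 (invCore_le (F := F) (T := S) ⊥)] at h2

/-! ### Constrained systems with `p`-solvable automizers -/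

/-- An automorphism of order prime to `p` fixing a centric subgroup is trivial. -/
theorem eq_one_of_fix_centric (hS : IsPGroup p S) {P R : Subgroup Ω} (hP : F.IsCentric P)
    (hPR : P ≤ R) (hR : R ≤ S) {β : MulAut R} (ho : (orderOf β).Coprime p)
    (hfix : ∀ x ∈ P, autFun β x = x) : β = 1 := by
  have := finite_of_le hR
  set U : Subgroup Ω := ((MonoidHom.eqLocus β.toMonoidHom (MonoidHom.id R))).map R.subtype
  have hmemU : ∀ x : Ω, x ∈ U ↔ x ∈ R ∧ autFun β x = x := fun x => by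
    constructor
    · rintro ⟨y, hy, rfl⟩
      exact ⟨y.2, by rw [Subgroup.subtype_apply, autFun_coe]; exact congrArg Subtype.val hy⟩
    · rintro ⟨hx, e⟩
      exact ⟨⟨x, hx⟩, Subtype.ext ((autFun_apply β hx).symm.trans e), rfl⟩
  have hUR : U ≤ R := Subgroup.map_subtype_le _
  have hPU : P ≤ U := fun x hx => (hmemU x).2 ⟨hPR hx, hfix x hx⟩
  have hUc := isCentric_of_le hP hPU (hUR.trans hR)
  by_contra hne
  have hlt : U ≠ R := fun e => hne <| MulEquiv.ext fun x => Subtype.ext <| by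
    have h := ((hmemU x).1 (e.symm ▸ x.2)).2
    rwa [autFun_coe] at h
  obtain ⟨x, hx, hxU⟩ := SetLike.exists_of_lt (lt_normalizerIn (hS.to_le hR) hUR hlt)
  obtain ⟨hxR, hxn⟩ := hx
  refine hxU ((hmemU x).2 ⟨hxR, ?_⟩)
  rw [autFun_apply β hxR]
  have hd : ∀ u ∈ U, (x⁻¹ * ((β ⟨x, hxR⟩ : R) : Ω)) * u * (x⁻¹ * ((β ⟨x, hxR⟩ : R) : Ω))⁻¹ = u := by
    intro u hu
    obtain ⟨huR, hue⟩ := (hmemU u).1 hu
    have hu' := conj_mem_of_mem_normalizer hxn hu
    obtain ⟨hu'R, hu'e⟩ := (hmemU _).1 hu'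
    rw [autFun_apply β hu'R,
      show (⟨x * u * x⁻¹, hu'R⟩ : R) = ⟨x, hxR⟩ * ⟨u, huR⟩ * ⟨x, hxR⟩⁻¹ from rfl, map_mul,
      map_mul, map_inv, Subgroup.coe_mul, Subgroup.coe_mul, Subgroup.coe_inv, ← autFun_apply β huR,
      hue] at hu'e
    calc (x⁻¹ * ((β ⟨x, hxR⟩ : R) : Ω)) * u * (x⁻¹ * ((β ⟨x, hxR⟩ : R) : Ω))⁻¹
        = x⁻¹ * (((β ⟨x, hxR⟩ : R) : Ω) * u * ((β ⟨x, hxR⟩ : R) : Ω)⁻¹) * x := by group
      _ = u := by rw [hu'e]; group
  have hdU : x⁻¹ * ((β ⟨x, hxR⟩ : R) : Ω) ∈ U := hUc.2 U (isConj_refl hUc.1)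
    ⟨S.mul_mem (S.inv_mem (hR hxR)) (hR (SetLike.coe_mem _)), mem_centralizer_of_conj_eq hd⟩
  obtain ⟨hdR, hde⟩ := (hmemU _).1 hdU
  obtain ⟨j, hj⟩ := (hS.to_le hR).exists_card_eq
  refine congrArg Subtype.val (Residual.eq_self_of_fixed_diff ho (x := ⟨x, hxR⟩) (j := j) ?_
    (hj ▸ pow_card_eq_one'))
  refine Subtype.ext ?_
  rw [autFun_apply β hdR] at hde
  exact hde

variable {Q : Subgroup Ω}

/-- The maps of `F` whose extension to `Q` lies in `O^{p'}(Aut_F(Q))`. -/
def InK (F : FusionSystem S) (p : ℕ) (Q P : Subgroup Ω) (f : Ω → Ω) : Prop :=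
  IsMap F P f ∧ ∃ g, IsMap F (P ⊔ Q) g ∧ (∀ x ∈ P, g x = f x) ∧
    ∃ a ∈ PPrime.opc F p Q, ∀ q ∈ Q, g q = autFun a q

theorem isSubPred_inK (h : CentricNormal F p Q) : PPrime.IsSubPred F (InK F p Q) := by
  refine ⟨fun h => h.1, ?_, ?_, ?_, ?_⟩
  · rintro P f f' ⟨hf, g, hg, hgP, ha⟩ he
    exact ⟨hf.congr he, g, hg, fun x hx => (hgP x hx).trans (he x hx), ha⟩
  · intro P s hP hs
    have hn : s ∈ Subgroup.normalizer (Q : Set Ω) := h.le_normalizer hs
    refine ⟨isMap_conj hP hs, fun x => s * x * s⁻¹, isMap_conj (sup_le hP h.le) hs, fun _ _ => rfl,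
      conjAut Q hn, PPrime.le_opc (autInducedBy_le_autGroup h.le) (isPGroup_autInducedBy h.hS Q)
        (conjAut_mem_autInducedBy hn hs), fun q hq => ?_⟩
    rw [autFun_apply _ hq, conjAut_apply]
  · rintro P P' f f' ⟨hf, g, hg, hgP, a, ha, hgQ⟩ ⟨hf', g', hg', hg'P, a', ha', hg'Q⟩ hm
    refine ⟨hf.comp hf' hm, g' ∘ g, hg.comp hg' (mem_of_mem_sup hg le_sup_left le_sup_right
        (fun x hx => by rw [hgP x hx]; exact Subgroup.mem_sup_left (hm x hx))
        fun q hq => by rw [hgQ q hq]; exact Subgroup.mem_sup_right (autFun_mem a hq)),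
      fun x hx => ?_, a' * a, Subgroup.mul_mem _ ha' ha, fun q hq => ?_⟩
    · show g' (g x) = f' (f x)
      rw [hgP x hx, hg'P _ (hm x hx)]
    · show g' (g q) = _
      rw [hgQ q hq, hg'Q _ (autFun_mem a hq), autFun_mul _ _ hq]
  · rintro P P' f r ⟨hf, g, hg, hgP, a, ha, hgQ⟩ hi hr hr1
    obtain ⟨I, hI⟩ := hg.exists_iso
    obtain ⟨k, hk, hk1, -⟩ := hI.exists_symm
    have hle : P' ⊔ Q ≤ I := sup_le
      (fun y hy => by
        obtain ⟨x, hx, rfl⟩ := hi.surj hy
        exact hgP x hx ▸ hI.mem (Subgroup.mem_sup_left hx))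
      fun y hy => by
        obtain ⟨q, hq, rfl⟩ := (h.isIso hg le_sup_right).surj hy
        exact hI.mem (Subgroup.mem_sup_right hq)
    refine ⟨hr.isMap, k, hk.isMap.mono hle, fun y hy => ?_, a⁻¹, Subgroup.inv_mem _ ha,
      fun q hq => ?_⟩
    · obtain ⟨x, hx, rfl⟩ := hi.surj hy
      rw [hr1 x hx, ← hgP x hx, hk1 x (Subgroup.mem_sup_left hx)]
    · have hq' : autFun a⁻¹ q ∈ Q := autFun_mem _ hq
      conv_lhs => rw [← PPrime.autFun_inv_autFun a⁻¹ hq, inv_inv, ← hgQ _ hq']
      exact hk1 _ (Subgroup.mem_sup_right hq')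

theorem closed_inK (h : CentricNormal F p Q) :
    PPrime.Closed F p (PPrime.ofPred F _ (isSubPred_inK h)) := by
  have := finite_of_le h.le
  have := finite_mulAut Q
  have hQsc := stronglyClosed_of_isNormal h.hn
  refine ⟨fun P hP => ?_, fun a ha P hP hm => ?_⟩
  · rw [PPrime.opc_eq, Subgroup.closure_le]
    rintro α ⟨hα, k, hk⟩
    have hαi := (mem_autGroup_iff hP.1 α).1 hα
    obtain ⟨g, hg, hgP, hgQ⟩ := (isNormal_iff.1 h.hn).2 P _ hαi.isMap
    have hPQ : P ⊔ Q ≤ S := sup_le hP.1 h.le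
    have := finite_of_le hPQ
    have := finite_mulAut (↥(P ⊔ Q))
    obtain ⟨γ, hγ, hγv⟩ := exists_mem_autGroup (hg.isIso_of_card_le
      (mem_of_mem_sup hg le_sup_left le_sup_right
        (fun x hx => by rw [hgP x hx]; exact Subgroup.mem_sup_left (autFun_mem α hx))
        fun q hq => Subgroup.mem_sup_right (hgQ.subset ⟨q, hq, rfl⟩)) le_rfl)
    obtain ⟨a, m, hm, hom, -, hoa⟩ := Transfer.exists_pow_coprime_part (p := p) γ
    obtain ⟨d, hd⟩ : ∃ d, m * d ≡ 1 [MOD p ^ k] := by
      obtain ⟨d, -, hd⟩ := Nat.exists_mul_mod_eq_of_coprime 1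
        ((((Fact.out : p.Prime).coprime_iff_not_dvd.2 hm).pow_left k).symm)
        (pow_ne_zero k (Fact.out : p.Prime).ne_zero)
      exact ⟨d, hd⟩
    set γ' := γ ^ (m * d) with hγ'
    have hγP : ∀ x ∈ P, autFun γ x = autFun α x := fun x hx => by
      rw [autFun_apply γ (Subgroup.mem_sup_left hx), hγv]; exact hgP x hx
    have hγ'P : ∀ x ∈ P, autFun γ' x = autFun α x := fun x hx => by
      rw [NormalCentralizer.autFun_pow_eq le_sup_left hγP _ x hx,
        Residual.pow_eq_self_of_modEq (hk ▸ hd)]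
    have hγ'm := ((mem_autGroup_iff hPQ γ').1 (Subgroup.pow_mem _ hγ _)).isMap
    obtain ⟨b, hb, hbv⟩ := exists_mem_autGroup (h.isIso hγ'm le_sup_right)
    refine mem_autGroup_of_isMap ((PPrime.isMap_ofPred _).2
      ⟨hαi.isMap, autFun γ', hγ'm, hγ'P, b, ?_, fun q hq => ?_⟩) α fun x => (autFun_coe α x).symm
    swap
    · rw [autFun_apply b hq, hbv]
    rw [PPrime.opc_eq]
    refine Subgroup.subset_closure ⟨hb, ?_⟩
    obtain ⟨j, hj⟩ : ∃ j : ℕ, b ^ p ^ j = 1 := by
      refine ⟨a, MulEquiv.ext fun q => Subtype.ext ?_⟩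
      have h1 : γ' ^ p ^ a = 1 := by
        rw [hγ', pow_mul, ← pow_mul, mul_comm d, pow_mul, ← hoa, pow_orderOf_eq_one, one_pow]
      rw [← autFun_coe, ← NormalCentralizer.autFun_pow_eq le_sup_right (δ := γ') (α := b)
        (fun q hq => by rw [autFun_apply b hq, hbv]) (p ^ a) q q.2, h1,
        autFun_apply _ (Subgroup.mem_sup_right q.2)]
      rfl
    obtain ⟨i, -, hi⟩ := (Nat.dvd_prime_pow (Fact.out : p.Prime)).1 (orderOf_dvd_of_pow_eq_one hj)
    exact ⟨i, hi⟩
  · obtain ⟨-, g, hg, hgP, b, hb, hbv⟩ := (PPrime.isMap_ofPred _).1 hm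
    have hai := (mem_autGroup_iff le_rfl a).1 ha
    obtain ⟨c, hc, hcv⟩ := exists_mem_autGroup (h.isIso (hai.isMap) h.le)
    refine mem_autGroup_of_isMap ((PPrime.isMap_ofPred _).2 ⟨hai.isMap, autFun a,
      hai.isMap.mono (sup_le le_rfl h.le), fun _ _ => rfl, c, ?_,
      fun q hq => by rw [autFun_apply c hq, hcv]⟩) a fun x => (autFun_coe a x).symm
    -- `a⁻¹ g` fixes `P`
    have hPQ : P ⊔ Q ≤ S := sup_le hP.1 h.le
    have := finite_of_le hPQ
    have := finite_mulAut (↥(P ⊔ Q))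
    have hgS : ∀ z ∈ P ⊔ Q, g z ∈ S := fun z hz => hg.mem hz
    have hai' := ((mem_autGroup_iff le_rfl a⁻¹).1 (Subgroup.inv_mem _ ha)).isMap
    have hcomp : IsMap F (P ⊔ Q) (autFun a⁻¹ ∘ g) := hg.comp hai' hgS
    have hfixP : ∀ x ∈ P, autFun a⁻¹ (g x) = x := fun x hx => by
      rw [hgP x hx, PPrime.autFun_inv_autFun a (hP.1 hx)]
    obtain ⟨γ, hγ, hγv⟩ := exists_mem_autGroup (hcomp.isIso_of_card_le
      (mem_of_mem_sup hcomp le_sup_left le_sup_right
        (fun x hx => Subgroup.mem_sup_left (by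
          show autFun a⁻¹ (g x) ∈ P
          rwa [hfixP x hx]))
        fun q hq => Subgroup.mem_sup_right
          ((h.isIso hcomp le_sup_right).mem hq)) le_rfl)
    obtain ⟨j, m', hm', -, hco, -⟩ := Transfer.exists_pow_coprime_part (p := p) γ
    have hfix : ∀ x ∈ P, autFun γ x = autFun (1 : MulAut P) x := fun x hx => by
      rw [autFun_apply γ (Subgroup.mem_sup_left hx), hγv, autFun_apply 1 hx]
      exact hfixP x hx
    have hγ1 : γ ^ p ^ j = 1 := eq_one_of_fix_centric h.hS hP le_sup_left hPQ hco fun x hx => by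
      rw [NormalCentralizer.autFun_pow_eq le_sup_left hfix _ x hx, one_pow, autFun_apply 1 hx]
      rfl
    set d := c⁻¹ * b
    have hd : ∀ q ∈ Q, autFun γ q = autFun d q := fun q hq => by
      rw [autFun_apply γ (Subgroup.mem_sup_right hq), hγv]
      show autFun a⁻¹ (g q) = autFun (c⁻¹ * b) q
      rw [hbv q hq, autFun_mul _ _ hq]
      refine (autFun_inv_eq h.le (fun y hy => ?_) (autFun_mem b hq))
      rw [autFun_apply c hy, hcv]
    have hdj : d ^ p ^ j = 1 := MulEquiv.ext fun q => Subtype.ext <| by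
      rw [← autFun_coe, ← NormalCentralizer.autFun_pow_eq le_sup_right hd _ q q.2, hγ1,
        autFun_apply _ (Subgroup.mem_sup_right q.2)]
      rfl
    obtain ⟨i, -, hi⟩ := (Nat.dvd_prime_pow (Fact.out : p.Prime)).1 (orderOf_dvd_of_pow_eq_one hdj)
    have hdK : d ∈ PPrime.opc F p Q := by
      rw [PPrime.opc_eq]
      exact Subgroup.subset_closure
        ⟨(F.autGroup Q).mul_mem ((F.autGroup Q).inv_mem hc) (PPrime.opc_le Q hb), i, hi⟩
    have := Subgroup.mul_mem _ hb (Subgroup.inv_mem _ hdK)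
    rwa [show b * d⁻¹ = c by simp only [d]; group] at this

/-- In a constrained system with `p`-solvable automizer of a centric normal subgroup the
`p'`-residual has proper hyperfocal subgroup. -/
theorem hyperfocal_residual_ne (h : CentricNormal F p Q) (hne : S ≠ ⊥)
    (hA : Cfsg.IsPSolvable p (F.autGroup Q)) :
    (PPrime.E0 F p).hyperfocalSubgroup p ≠ S := by
  have := finite_of_le h.le
  have := finite_mulAut Q
  set K := PPrime.opc F p Q
  have hK2 : Finite K := inferInstance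
  set c : S →* K := (((F.autGroup Q).subtype.comp h.conjQ)).codRestrict K fun u =>
    PPrime.le_opc (autInducedBy_le_autGroup h.le) (isPGroup_autInducedBy h.hS Q)
      ((h.mem_range_conjQ_iff _).1 ⟨u, rfl⟩)
  have hcv : ∀ (u : S) (x : Q), (((c u : MulAut Q) x : Q) : Ω) = u * x * (u : Ω)⁻¹ :=
    h.conjQ_apply
  set K2 := Cfsg.pResidual p K
  haveI : K2.Normal := Transfer.pResidual_normal p K
  -- the part of `S` inside `O^p` of `O^{p'}`
  have hcomm : ∀ (P : Subgroup Ω) (hP : P ≤ S) (α : MulAut P),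
      α ∈ (PPrime.E0 F p).autGroup P → (orderOf α).Coprime p → ∀ x : P,
        ∃ b : K, (orderOf b).Coprime p ∧ (∀ (hQx : (x : Ω) ∈ Q), ((α x : P) : Ω) =
          (((b : MulAut Q) ⟨x, hQx⟩ : Q) : Ω)) ∧
          c (⟨x, hP x.2⟩⁻¹ * ⟨(α x : P), hP (α x).2⟩) =
            (c ⟨x, hP x.2⟩)⁻¹ * (b * c ⟨x, hP x.2⟩ * b⁻¹) := by
    intro P hP α hα ho x
    have hαi := (mem_autGroup_iff hP α).1 hα
    obtain ⟨-, g, hg, hgP, a, ha, hgQ⟩ := (PPrime.isMap_ofPred _).1
      ((PPrime.isMap_meet.1 hαi.isMap).2 _ (closed_inK h))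
    have hPQ : P ⊔ Q ≤ S := sup_le hP h.le
    have := finite_of_le hPQ
    have := finite_mulAut (↥(P ⊔ Q))
    obtain ⟨γ, hγ, hγv⟩ := exists_mem_autGroup (hg.isIso_of_card_le
      (mem_of_mem_sup hg le_sup_left le_sup_right
        (fun x hx => by rw [hgP x hx]; exact Subgroup.mem_sup_left (autFun_mem α hx))
        fun q hq => by rw [hgQ q hq]; exact Subgroup.mem_sup_right (autFun_mem a hq)) le_rfl)
    obtain ⟨m, hm, hmo⟩ := Residual.exists_pPrime_pow γ ho
    have hγP : ∀ y ∈ P, autFun (γ ^ m) y = autFun α y := fun y hy => by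
      rw [NormalCentralizer.autFun_pow_eq le_sup_left (α := α) (fun y hy => by
        rw [autFun_apply γ (Subgroup.mem_sup_left hy), hγv]; exact hgP y hy) m y hy,
        Residual.pow_eq_self_of_modEq hm]
    have hγQ : ∀ q ∈ Q, autFun (γ ^ m) q = autFun (a ^ m) q :=
      NormalCentralizer.autFun_pow_eq le_sup_right (fun q hq => by
        rw [autFun_apply γ (Subgroup.mem_sup_right hq), hγv]; exact hgQ q hq) m
    refine ⟨⟨a ^ m, Subgroup.pow_mem _ ha m⟩, ?_, fun hQx => ?_, ?_⟩
    · rw [← Subgroup.orderOf_coe]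
      exact NormalCentralizer.coprime_orderOf_restrict le_sup_right hγQ hmo
    · rw [← autFun_coe α, ← hγP x x.2, hγQ x hQx, autFun_apply _ hQx]
    · rw [map_mul, map_inv]
      congr 1
      rw [eq_mul_inv_iff_mul_eq]
      refine Subtype.ext (MulEquiv.ext fun q => Subtype.ext ?_)
      rw [Subgroup.coe_mul, Subgroup.coe_mul, MulAut.mul_apply, MulAut.mul_apply, hcv]
      show ((α x : P) : Ω) * (((a ^ m) q : Q) : Ω) * ((α x : P) : Ω)⁻¹ =
        (((a ^ m) (((c ⟨x, hP x.2⟩ : K) : MulAut Q) q) : Q) : Ω)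
      have hmap := ((mem_autGroup_iff hPQ _).1 (Subgroup.pow_mem _ hγ m)).isMap
      rw [← autFun_coe α, ← autFun_coe (a ^ m), ← autFun_coe (a ^ m), hcv, ← hγP x x.2,
        ← hγQ q q.2, ← hγQ _ (conj_mem_of_mem_normalizer (h.le_normalizer (hP x.2)) q.2),
        hmap.map_conj (Subgroup.mem_sup_left x.2) (Subgroup.mem_sup_right q.2)]
  intro heq
  have hKs : Cfsg.IsPSolvable p K :=
    PSolvable.isPSolvable_of_injective (Subgroup.inclusion (PPrime.opc_le Q))
      (Subgroup.inclusion_injective (PPrime.opc_le Q)) hA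
  -- the hyperfocal subgroup stays in the preimage `U`
  have hle : ∀ U : Subgroup Ω, (∀ (P : Subgroup Ω) (hP : P ≤ S) (α : MulAut P),
      α ∈ (PPrime.E0 F p).autGroup P → (orderOf α).Coprime p → ∀ x : P,
        (x : Ω)⁻¹ * (α x : P) ∈ U) → S ≤ U := by
    intro U hU
    rw [← heq]
    refine (Subgroup.closure_le _).2 ?_
    rintro _ ⟨P, α, x, hP, hα, rfl⟩
    revert x
    induction hα using Subgroup.closure_induction with
    | mem b hb => exact hU P hP _ b.2 (by rwa [Subgroup.orderOf_coe])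
    | one => intro x; simp
    | mul a b _ _ ha hb =>
      intro x
      have := U.mul_mem (hb x) (ha ((b : MulAut P) x))
      rw [mul_assoc, mul_inv_cancel_left] at this
      exact this
    | inv a _ ha =>
      intro x
      have := U.inv_mem (ha (((a : MulAut P))⁻¹ x))
      rw [mul_inv_rev, inv_inv, MulAut.apply_inv_self] at this
      exact this
  by_cases hKb : ∀ b : K, b = 1
  · have hQS : ∀ u : S, (u : Ω) ∈ Q := fun u =>
      h.mem_of_conjQ_eq_one (Subtype.ext (show ((c u : K) : MulAut Q) = 1 by rw [hKb (c u)]; rfl))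
    refine hne (eq_bot_iff.2 (hle ⊥ fun P hP α hα ho x => ?_))
    obtain ⟨b, -, hb, -⟩ := hcomm P hP α hα ho x
    have hx := hQS ⟨x, hP x.2⟩
    rw [hb hx, hKb b]
    simp
  · -- `c` meets `O^p(K)` properly
    have hS' : S ≤ (K2.comap c).map S.subtype := hle _ fun P hP α hα ho x => by
      obtain ⟨b, hb, -, hbc⟩ := hcomm P hP α hα ho x
      refine ⟨⟨x, hP x.2⟩⁻¹ * ⟨(α x : P), hP (α x).2⟩, ?_, rfl⟩
      rw [SetLike.mem_coe, Subgroup.mem_comap, hbc]
      have h1 : b ∈ K2 := Transfer.mem_pResidual_of_coprime hb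
      have h2 := K2.mul_mem ((inferInstance : K2.Normal).conj_mem b h1 (c ⟨x, hP x.2⟩)⁻¹)
        (K2.inv_mem h1)
      convert h2 using 1
      group
    have hcK : ∀ u : S, c u ∈ K2 := fun u => by
      obtain ⟨v, hv, hvu⟩ := hS' u.2
      rwa [Subtype.ext hvu] at hv
    -- every `p`-element of the automizer lies in `O^p(K)`
    set L : Subgroup (F.autGroup Q) := (K2.map K.subtype).subgroupOf (F.autGroup Q)
    have hrange : h.conjQ.range ≤ L := by
      rintro _ ⟨u, rfl⟩
      exact ⟨c u, hcK u, rfl⟩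
    have hLi : (L.index).Coprime p := h.coprime_index.coprime_dvd_left (Subgroup.index_dvd_of_le hrange)
    have htop : K2 = ⊤ := by
      by_contra hK2
      obtain ⟨n, hn⟩ := (Transfer.isPGroup_quotient_pResidual (p := p) (G := K)).exists_card_eq
      rw [← Subgroup.index_eq_card] at hn
      have hdvd : K2.index ∣ L.index := by
        have h1 : K2.index = (K2.map K.subtype).relIndex K := by
          rw [Subgroup.relIndex, Subgroup.subgroupOf,
            Subgroup.comap_map_eq_self_of_injective K.subtype_injective]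
        rw [show L.index = (K2.map K.subtype).relIndex (F.autGroup Q) from rfl,
          ← Subgroup.relIndex_mul_relIndex _ K _ (Subgroup.map_subtype_le _) (PPrime.opc_le Q), h1]
        exact dvd_mul_right _ _
      have h1 : K2.index = 1 := by
        rw [hn] at hdvd ⊢
        exact Nat.Coprime.eq_one_of_dvd ((hLi.pow_right n).symm) hdvd
      exact hK2 (Subgroup.index_eq_one.1 h1)
    refine hKb (eq_one_of_perfect hKs htop ?_)
    refine Subgroup.map_injective K.subtype_injective ?_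
    rw [MonoidHom.map_closure, ← MonoidHom.range_eq_map, Subgroup.range_subtype]
    show _ = PPrime.opc F p Q
    rw [PPrime.opc_eq]
    congr 1
    ext α
    constructor
    · rintro ⟨y, ⟨k, hk⟩, rfl⟩
      exact ⟨PPrime.opc_le Q y.2, k, by rw [Subgroup.coe_subtype, Subgroup.orderOf_coe, hk]⟩
    · rintro ⟨hα, k, hk⟩
      have hm : α ∈ K := by
        show α ∈ PPrime.opc F p Q
        rw [PPrime.opc_eq]; exact Subgroup.subset_closure ⟨hα, k, hk⟩
      exact ⟨⟨α, hm⟩, ⟨k, by rw [← hk, Subgroup.orderOf_mk]⟩, rfl⟩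

/-- All automizers are `p`-solvable if that of a centric normal subgroup is. -/
theorem isPSolvable_autGroup_all (hS : IsPGroup p S) (hF : F.IsConstrained p)
    (hA : Cfsg.IsPSolvable p (F.autGroup F.core)) {P : Subgroup Ω} (hP : P ≤ S) :
    Cfsg.IsPSolvable p (F.autGroup P) := by
  obtain ⟨hsat, Q, hn, hc⟩ := hF
  obtain ⟨G, _, _, ι, hG, hreal, -⟩ := exists_pSolvable_model hS hsat (isNormal_core F)
    (isCentric_of_le hc (le_sSup hn) (isNormal_core F).1) hA
  exact isPSolvable_autGroup hreal hG hP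

omit [Finite S] in
/-- Constrained systems with `p`-solvable automizers have terminating series. -/
theorem terminating_of_constrained :
    ∀ (n : ℕ) (S : Subgroup Ω) [Finite S] (F : FusionSystem S), Nat.card S = n → IsPGroup p S →
      F.IsConstrained p → (∀ P, P ≤ S → Cfsg.IsPSolvable p (F.autGroup P)) →
        F.HasTerminatingResidualSeries p := by
  intro n
  induction n using Nat.strong_induction_on with
  | _ n ih =>
  intro S _ F hn hS hc hA
  rcases eq_or_ne S ⊥ with hbot | hne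
  · exact .trivial F p hbot
  obtain ⟨hF, Q, hQn, hQc⟩ := hc
  have h : CentricNormal F p Q := ⟨hS, hF, hQn, hQc⟩
  have hE := PPrime.isPPrimeResidual_E0 hS hF
  set E := PPrime.E0 F p
  set U := E.hyperfocalSubgroup p
  have hUS : U ≤ S := hyperfocal_le
  have hlt : U ≠ S := hyperfocal_residual_ne h hne (hA Q h.le)
  obtain ⟨D, hD, hDE, hcov, -⟩ := PowerIndex.exists_subsystem U _ S rfl hS E hE.1 hUS le_rfl
  refine .step F E p D hE ⟨hD, hDE, le_rfl, PowerIndex.cov_iff.1 hcov⟩ ?_
  have := finite_of_le hUS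
  have hEc : E.IsConstrained p := isConstrained_of_stronglyClosed hS ⟨hF, Q, hQn, hQc⟩ hE.1
    hE.2.1.1 (stronglyClosed_top F)
  refine ih _ ?_ U D rfl (hS.to_le hUS)
    (isConstrained_of_stronglyClosed hS hEc hD hDE (stronglyClosed_hyperfocal hS hE.1))
    fun P hP => ?_
  · rw [← hn]
    exact SatExtend.card_lt_card le_rfl (lt_of_le_of_ne hUS hlt)
  · have hle : D.autGroup P ≤ F.autGroup P := fun α hα =>
      (mem_autGroup_iff (hP.trans hUS) α).2
        ((((mem_autGroup_iff hP α).1 hα).of_subsystem hDE).of_subsystem hE.2.1.1)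
    have := finite_of_le (hP.trans hUS)
    have := finite_mulAut P
    exact PSolvable.isPSolvable_of_injective (Subgroup.inclusion hle)
      (Subgroup.inclusion_injective hle) (hA P (hP.trans hUS))

/-- A model of a system with `p`-solvable automizers is `p`-solvable. -/
theorem isPSolvable_model (hS : IsPGroup p S) (hF : F.IsConstrained p)
    (hA : ∀ P, P ≤ S → Cfsg.IsPSolvable p (F.autGroup P)) {G : Type*} [Group G] {ι : S →* G}
    (hG : F.IsModel p G ι) : Cfsg.IsPSolvable p G := by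
  obtain ⟨hsat, Q, hn, hc⟩ := hF
  have h : CentricNormal F p Q := ⟨hS, hsat, hn, hc⟩
  obtain ⟨ρ, -, hρs, -, hker⟩ := h.exists_action hG
  have := hG.1
  have := finite_of_le h.le
  have := finite_mulAut Q
  refine PSolvable.isPSolvable_of_quotient ρ.ker (Or.inl ?_)
    (PSolvable.isPSolvable_of_injective
      (QuotientGroup.quotientKerEquivOfSurjective ρ hρs).toMonoidHom (MulEquiv.injective _)
      (hA Q h.le))
  refine (hS.of_surjective ι.rangeRestrict ι.rangeRestrict_surjective).to_le fun g hg => ?_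
  obtain ⟨z, -, hz⟩ := hker g hg
  exact ⟨z, hz⟩

/-- The criterion. -/
theorem terminating_iff (hS : IsPGroup p S) (hF : F.IsSaturated p) :
    F.HasTerminatingResidualSeries p ↔ (F.IsConstrained p ∧
      ∀ (G : Type u) [Group G] (ι : S →* G), F.IsModel p G ι → Cfsg.IsPSolvable p G) := by
  constructor
  · intro h
    obtain ⟨hA, hser⟩ := of_terminating h inferInstance hS hF
    have hc := isConstrained_of_series hS hF hser
    exact ⟨hc, fun G _ ι hG => isPSolvable_model hS hc hA hG⟩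
  · rintro ⟨hc, hsol⟩
    have hc' := hc
    obtain ⟨-, Q, hn, hQc⟩ := hc'
    have h : CentricNormal F p Q := ⟨hS, hF, hn, hQc⟩
    obtain ⟨σ⟩ := h.exists_sections
    have := finite_of_le h.le
    have := finite_mulAut Q
    letI := Fintype.ofFinite (CosetsQ h)
    have hmod := σ.isModel
    refine terminating_of_constrained _ S F rfl hS hc fun P hP => ?_
    obtain ⟨hfin, hreal, -, -⟩ := id hmod
    exact isPSolvable_autGroup hreal (hsol _ _ hmod) hP

end CfsgLib.Fusion.ResidualSeries
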