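import Mathlib

/-!
Groups of automorphisms of an abelian `p`-group whose Sylow `p`-subgroup is generated by a
transvection.
-/

set_option autoImplicit false

namespace CfsgLib.Fusion

variable {M : Type*} [Group M]

/-- The automorphisms in `A` fixing `W` pointwise and acting trivially modulo `U ≤ W`. -/
def serStab (A : Subgroup (MulAut M)) {U W : Subgroup M} (hUW : U ≤ W) :
    Subgroup (MulAut M) where
  carrier := {α | α ∈ A ∧ (∀ w ∈ W, α w = w) ∧ ∀ x, x⁻¹ * α x ∈ U}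
  one_mem' := ⟨A.one_mem, fun _ _ => rfl, fun x => by simp⟩
  mul_mem' := by
    rintro a b ⟨ha, ha1, ha2⟩ ⟨hb, hb1, hb2⟩
    refine ⟨A.mul_mem ha hb, fun w hw => by rw [MulAut.mul_apply, hb1 w hw, ha1 w hw], fun x => ?_⟩
    rw [MulAut.mul_apply, show x⁻¹ * a (b x) = (x⁻¹ * b x) * ((b x)⁻¹ * a (b x)) by group]
    exact U.mul_mem (hb2 x) (ha2 _)
  inv_mem' := by
    rintro a ⟨ha, ha1, ha2⟩
    refine ⟨A.inv_mem ha, fun w hw => ?_, fun x => ?_⟩
    · conv_lhs => rw [← ha1 w hw, MulAut.inv_apply_self]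
    · have h := U.inv_mem (ha2 (a⁻¹ x))
      rwa [MulAut.apply_inv_self, mul_inv_rev, inv_inv] at h

theorem pow_apply_of_fixed {α : MulAut M} {x : M} (h : α (x⁻¹ * α x) = x⁻¹ * α x) :
    ∀ n : ℕ, (α ^ n) x = x * (x⁻¹ * α x) ^ n := by
  intro n
  induction n with
  | zero => simp
  | succ n ih =>
    rw [pow_succ' α, MulAut.mul_apply, ih, map_mul, map_pow, h, pow_succ', ← mul_assoc,
      mul_inv_cancel_left]

theorem isPGroup_serStab {p : ℕ} [Fact p.Prime] [Finite M] (hM : IsPGroup p M)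
    (A : Subgroup (MulAut M)) {U W : Subgroup M} (hUW : U ≤ W) :
    IsPGroup p (serStab A hUW) := by
  obtain ⟨n, hn⟩ := IsPGroup.iff_card.1 hM
  rintro ⟨α, -, hα1, hα2⟩
  refine ⟨n, Subtype.ext (MulEquiv.ext fun x => ?_)⟩
  show (α ^ p ^ n) x = x
  rw [pow_apply_of_fixed (hα1 _ (hUW (hα2 x))), ← hn, pow_card_eq_one', mul_one]

theorem exists_pow_mul_eq_one {p : ℕ} [Fact p.Prime] {Y : Subgroup M} (hY : Nat.card Y = p)
    {y z : M} (hy : y ∈ Y) (hy1 : y ≠ 1) (hz : z ∈ Y) : ∃ k : ℕ, z * y ^ k = 1 := by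
  haveI : Finite Y := Nat.finite_of_card_ne_zero (hY ▸ (Fact.out : p.Prime).ne_zero)
  have hg : (⟨z, hz⟩⁻¹ : Y) ∈ Subgroup.zpowers (⟨y, hy⟩ : Y) :=
    mem_zpowers_of_prime_card hY (fun h => hy1 (congrArg Subtype.val h))
  rw [← mem_powers_iff_mem_zpowers, Submonoid.mem_powers_iff] at hg
  obtain ⟨k, hk⟩ := hg
  refine ⟨k, ?_⟩
  have h := congrArg Subtype.val hk
  simp only [SubgroupClass.coe_pow, Subgroup.coe_inv] at h
  rw [h, mul_inv_cancel]

/-- A transvection generating a Sylow `p`-subgroup of `A`: `Y` is its centre, `Z` its axis. -/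
structure IsTransvection (p : ℕ) (A : Subgroup (MulAut M)) (t : MulAut M) (Z Y : Subgroup M) :
    Prop where
  comm : ∀ x y : M, x * y = y * x
  pgroup : IsPGroup p M
  mem : t ∈ A
  fixed : ∀ x, t x = x ↔ x ∈ Z
  diff : ∀ x, x⁻¹ * t x ∈ Y
  le : Y ≤ Z
  card : Nat.card Y = p
  ne_top : Z ≠ ⊤
  maximal : ∀ K : Subgroup (MulAut M), K ≤ A → IsPGroup p K → t ∈ K → K ≤ Subgroup.zpowers t

namespace IsTransvection

variable {p : ℕ} [hp : Fact p.Prime] [Finite M] {A : Subgroup (MulAut M)} {t : MulAut M}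
  {Z Y : Subgroup M}

omit hp [Finite M] in
theorem powers_mem (h : IsTransvection p A t Z Y) {τ : MulAut M}
    (hτ : τ ∈ Subgroup.zpowers t) : (∀ z ∈ Z, τ z = z) ∧ ∀ x, x⁻¹ * τ x ∈ Y := by
  have hle : Subgroup.zpowers t ≤ serStab A h.le :=
    Subgroup.zpowers_le.2 ⟨h.mem, fun z hz => (h.fixed z).2 hz, h.diff⟩
  exact (hle hτ).2

omit hp [Finite M] in
theorem fixed_conj (h : IsTransvection p A t Z Y) (a : MulAut M) {x : M} :
    (a * t * a⁻¹) x = x ↔ a⁻¹ x ∈ Z := by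
  rw [← h.fixed, MulAut.mul_apply, MulAut.mul_apply]
  constructor
  · intro e
    conv_rhs => rw [← e, MulAut.inv_apply_self]
  · intro e
    rw [e, MulAut.apply_inv_self]

omit hp [Finite M] in
theorem diff_conj (a : MulAut M) (x : M) :
    x⁻¹ * (a * t * a⁻¹) x = a ((a⁻¹ x)⁻¹ * t (a⁻¹ x)) := by
  rw [map_mul, map_inv, MulAut.apply_inv_self, MulAut.mul_apply, MulAut.mul_apply]

/-- `Y` is generated by the displacements of `t`. -/
theorem exists_diff (h : IsTransvection p A t Z Y) {y : M} (hy : y ∈ Y) :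
    ∃ x, x⁻¹ * t x = y := by
  obtain ⟨x, hx⟩ := SetLike.exists_of_lt (lt_top_iff_ne_top.2 h.ne_top)
  have hd : x⁻¹ * t x ≠ 1 := fun e => hx.2 ((h.fixed x).1 (inv_mul_eq_one.1 e).symm)
  obtain ⟨k, hk⟩ := exists_pow_mul_eq_one h.card (h.diff x) hd (Y.inv_mem hy)
  refine ⟨x ^ k, ?_⟩
  rw [map_pow, ← inv_pow, ← (show Commute x⁻¹ (t x) from h.comm _ _).mul_pow]
  exact inv_mul_eq_one.1 hk |>.symm

theorem map_mem_of_conj_mem (h : IsTransvection p A t Z Y) {a : MulAut M}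
    (ha : a * t * a⁻¹ ∈ Subgroup.zpowers t) {y : M} (hy : y ∈ Y) : a y ∈ Y := by
  obtain ⟨x, hx⟩ := h.exists_diff hy
  have h1 := (h.powers_mem ha).2 (a x)
  rwa [diff_conj, MulAut.inv_apply_self, hx] at h1

theorem conj_mem_of_map_le (h : IsTransvection p A t Z Y) {a : MulAut M} (ha : a ∈ A)
    (hY : ∀ y ∈ Y, a y ∈ Y) : a * t * a⁻¹ ∈ Subgroup.zpowers t := by
  refine h.maximal (serStab A (le_refl Y)) (fun α hα => hα.1)
    (isPGroup_serStab h.pgroup A le_rfl)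
    ⟨h.mem, fun y hy => (h.fixed y).2 (h.le hy), h.diff⟩ ⟨?_, fun w hw => ?_, fun x => ?_⟩
  · exact A.mul_mem (A.mul_mem ha h.mem) (A.inv_mem ha)
  · rw [h.fixed_conj]
    refine h.le ?_
    obtain ⟨⟨z, hz⟩, hzw⟩ := ((Finite.injective_iff_surjective
      (f := fun y : Y => (⟨a y, hY y y.2⟩ : Y))).1
        fun y y' e => Subtype.ext (a.injective (congrArg Subtype.val e))) ⟨w, hw⟩
    rw [show w = a z from (congrArg Subtype.val hzw).symm, MulAut.inv_apply_self]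
    exact hz
  · rw [diff_conj]
    exact hY _ (h.diff _)

theorem conj_mem_of_axis_le (h : IsTransvection p A t Z Y) {a : MulAut M} (ha : a ∈ A)
    (hZ : ∀ z ∈ Z, a z ∈ Z) : a * t * a⁻¹ ∈ Subgroup.zpowers t := by
  refine h.maximal (serStab A (le_refl Z)) (fun α hα => hα.1)
    (isPGroup_serStab h.pgroup A le_rfl)
    ⟨h.mem, fun z hz => (h.fixed z).2 hz, fun x => h.le (h.diff x)⟩ ⟨?_, fun w hw => ?_, fun x => ?_⟩
  · exact A.mul_mem (A.mul_mem ha h.mem) (A.inv_mem ha)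
  · rw [h.fixed_conj]
    obtain ⟨⟨z, hz⟩, hzw⟩ := ((Finite.injective_iff_surjective
      (f := fun y : Z => (⟨a y, hZ y y.2⟩ : Z))).1
        fun y y' e => Subtype.ext (a.injective (congrArg Subtype.val e))) ⟨w, hw⟩
    rw [show w = a z from (congrArg Subtype.val hzw).symm, MulAut.inv_apply_self]
    exact hz
  · rw [diff_conj]
    exact hZ _ (h.le (h.diff _))

/-- A conjugate of `t` whose centre lies in the axis of `t` is a power of `t`. -/
theorem conj_mem_of_center_le (h : IsTransvection p A t Z Y) {a : MulAut M} (ha : a ∈ A)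
    (hYZ : ∀ y ∈ Y, a y ∈ Z) : a * t * a⁻¹ ∈ Subgroup.zpowers t := by
  set s := a * t * a⁻¹ with hs
  have hsA : s ∈ A := A.mul_mem (A.mul_mem ha h.mem) (A.inv_mem ha)
  have hds : ∀ x, ∃ y ∈ Y, x⁻¹ * s x = a y := fun x => ⟨_, h.diff (a⁻¹ x), diff_conj a x⟩
  have hsZ : ∀ z ∈ Z, s z ∈ Z := fun z hz => by
    obtain ⟨y, hy, hye⟩ := hds z
    rw [inv_mul_eq_iff_eq_mul.1 hye]
    exact Z.mul_mem hz (hYZ y hy)
  have h1 := h.conj_mem_of_axis_le hsA hsZ
  by_cases hY : ∀ y ∈ Y, a y ∈ Y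
  · exact h.conj_mem_of_map_le ha hY
  push Not at hY
  obtain ⟨y₀, hy₀, hy₀Y⟩ := hY
  have hsY : ∀ y ∈ Y, s y = y := fun y hy => by
    obtain ⟨y', hy', hye⟩ := hds y
    have hin : a y' ∈ Y := hye ▸ Y.mul_mem (Y.inv_mem hy) (h.map_mem_of_conj_mem h1 hy)
    by_contra hne
    have hy'1 : y' ≠ 1 := fun e => hne (by
      rw [inv_mul_eq_iff_eq_mul.1 hye, e, map_one, mul_one])
    obtain ⟨k, hk⟩ := exists_pow_mul_eq_one h.card hy' hy'1 (Y.inv_mem hy₀)
    refine hy₀Y ?_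
    rw [inv_mul_eq_one.1 hk, map_pow]
    exact Y.pow_mem hin k
  let U : Subgroup M := Y ⊔ Y.map a.toMonoidHom
  have hUZ : U ≤ Z := sup_le h.le (by rintro _ ⟨y, hy, rfl⟩; exact hYZ y hy)
  refine h.maximal (serStab A (le_refl U)) (fun α hα => hα.1)
    (isPGroup_serStab h.pgroup A le_rfl)
    ⟨h.mem, fun z hz => (h.fixed z).2 (hUZ hz), fun x => Subgroup.mem_sup_left (h.diff x)⟩
    ⟨hsA, fun w hw => ?_, fun x => ?_⟩
  · have hle : U ≤ (s.toMonoidHom.eqLocus (MonoidHom.id M)) := by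
      refine sup_le (fun y hy => hsY y hy) ?_
      rintro _ ⟨y, hy, rfl⟩
      show s (a y) = a y
      rw [hs, h.fixed_conj, MulAut.inv_apply_self]
      exact h.le hy
    exact hle hw
  · obtain ⟨y', hy', hye⟩ := hds x
    rw [hye]
    exact Subgroup.mem_sup_right ⟨y', hy', rfl⟩

/-- The structure of `M` when `Y` is not invariant under `A`. -/
theorem exists_split (h : IsTransvection p A t Z Y) (hbad : ∃ a ∈ A, ∃ y ∈ Y, a y ∉ Y) :
    ∃ (C : Subgroup M) (v : M), C ≤ Z ∧ C ⊓ Y = ⊥ ∧ C ⊔ Y = Z ∧ v ∉ Z ∧ v ^ p = 1 ∧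
      (∀ b ∈ A, ∀ c ∈ C, b c ∈ C) ∧
      (∀ b ∈ A, ∃ g ∈ A, (∀ c ∈ C, g c = c) ∧
        (∀ x, x⁻¹ * g x ∈ Y ⊔ Subgroup.zpowers v) ∧
        (g * b) * t * (g * b)⁻¹ ∈ Subgroup.zpowers t) ∧
      ∃ τ ∈ A, τ * t * τ⁻¹ = t ∧ (∀ c ∈ C, τ c = c) ∧ ∀ y ∈ Y, τ y = y⁻¹ := by
  obtain ⟨a, ha, y₀, hy₀, hy₀Y⟩ := hbad
  haveI : Finite Y := inferInstance
  set s := a * t * a⁻¹ with hs
  have hsA : s ∈ A := A.mul_mem (A.mul_mem ha h.mem) (A.inv_mem ha)
  -- the two centres meet the other axis trivially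
  have hZv : ∀ y ∈ Y, a y ∈ Z → y = 1 := fun y hy hyZ => by
    by_contra hne
    refine hy₀Y (h.map_mem_of_conj_mem (h.conj_mem_of_center_le ha fun w hw => ?_) hy₀)
    obtain ⟨k, hk⟩ := exists_pow_mul_eq_one h.card hy hne (Y.inv_mem hw)
    rw [inv_mul_eq_one.1 hk, map_pow]
    exact Z.pow_mem hyZ k
  have hYs : ∀ y ∈ Y, a⁻¹ y ∈ Z → y = 1 := fun y hy hyZ => by
    by_contra hne
    have h1 := h.conj_mem_of_center_le (A.inv_mem ha) fun w hw => by
      obtain ⟨k, hk⟩ := exists_pow_mul_eq_one h.card hy hne (Y.inv_mem hw)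
      rw [inv_mul_eq_one.1 hk, map_pow]
      exact Z.pow_mem hyZ k
    have h2 : ∀ w ∈ Y, a⁻¹ w ∈ Y := fun w hw => h.map_mem_of_conj_mem h1 hw
    refine hy₀Y ?_
    obtain ⟨⟨w, hw⟩, hwe⟩ := ((Finite.injective_iff_surjective
      (f := fun y : Y => (⟨a⁻¹ y, h2 y y.2⟩ : Y))).1
        fun y y' e => Subtype.ext (a⁻¹.injective (congrArg Subtype.val e))) ⟨y₀, hy₀⟩
    rw [show y₀ = a⁻¹ w from (congrArg Subtype.val hwe).symm, MulAut.apply_inv_self]
    exact hw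
  obtain ⟨u, hu, hu1⟩ : ∃ u ∈ Y, u ≠ 1 :=
    ⟨y₀, hy₀, fun e => hy₀Y (by rw [e, map_one]; exact Y.one_mem)⟩
  have hup : ∀ y ∈ Y, y ^ p = 1 := fun y hy => by
    have := pow_card_eq_one' (x := (⟨y, hy⟩ : Y))
    rw [h.card] at this
    exact congrArg Subtype.val this
  -- normalise `s`
  set v₁ := u⁻¹ * s u with hv₁
  obtain ⟨y₁, hy₁, hv₁y⟩ : ∃ y ∈ Y, v₁ = a y := ⟨_, h.diff (a⁻¹ u), diff_conj a u⟩
  have hsv : ∀ y ∈ Y, s (a y) = a y := fun y hy => by
    rw [hs, h.fixed_conj, MulAut.inv_apply_self]; exact h.le hy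
  have hv₁1 : v₁ ≠ 1 := fun e => hu1 (hYs u hu ((h.fixed_conj a).1 (inv_mul_eq_one.1 e).symm))
  have hv₁Z : v₁ ∉ Z := fun e => hv₁1 (by rw [hv₁y, hZv y₁ hy₁ (hv₁y ▸ e), map_one])
  obtain ⟨m, hm⟩ := exists_pow_mul_eq_one h.card (h.diff v₁)
    (fun e => hv₁Z ((h.fixed v₁).1 (inv_mul_eq_one.1 e).symm)) hu
  set v := v₁ ^ m with hv
  set σ := s ^ m with hσ
  have hσA : σ ∈ A := A.pow_mem hsA m
  have hσu : σ u = u * v := pow_apply_of_fixed (by rw [← hv₁, hv₁y]; exact hsv y₁ hy₁) m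
  have hsfix : ∀ x, s x = x → σ x = x := fun x hx => by
    rw [hσ, pow_apply_of_fixed (by rw [hx, inv_mul_cancel, map_one]), hx, inv_mul_cancel, one_pow,
      mul_one]
  have hσv : σ v = v := hsfix v (by rw [hv, map_pow, hv₁y, hsv y₁ hy₁])
  have htv : t v = v * u⁻¹ := by
    have h1 : (v₁⁻¹ * t v₁) ^ m = u⁻¹ := eq_inv_of_mul_eq_one_right hm
    rw [← h1, hv, map_pow, (show Commute v₁⁻¹ (t v₁) from h.comm _ _).mul_pow, ← mul_assoc,
      inv_pow, mul_inv_cancel, one_mul]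
  have htu : t u = u := (h.fixed u).2 (h.le hu)
  have hvZ : v ∉ Z := fun e => hu1 (by
    have := (h.fixed v).2 e
    rw [htv, mul_eq_left] at this
    exact inv_eq_one.1 this)
  have hvp : v ^ p = 1 := by
    rw [hv, hv₁y, ← map_pow, ← map_pow, ← pow_mul, mul_comm, pow_mul, hup y₁ hy₁, one_pow,
      map_one]
  have hv1 : v ≠ 1 := fun e => hvZ (e ▸ Z.one_mem)
  have hvord : Nat.card (Subgroup.zpowers v) = p := by
    rw [Nat.card_zpowers]; exact orderOf_eq_prime hvp hv1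
  have hVv : ∀ y ∈ Y, a y ∈ Subgroup.zpowers v := fun y hy => by
    have hy1' : y₁ ^ m ≠ 1 := fun e => hv1 (by rw [hv, hv₁y, ← map_pow, e, map_one])
    obtain ⟨k, hk⟩ := exists_pow_mul_eq_one h.card (Y.pow_mem hy₁ m) hy1' (Y.inv_mem hy)
    rw [inv_mul_eq_one.1 hk, map_pow, map_pow, ← hv₁y, ← hv]
    exact Subgroup.pow_mem _ (Subgroup.mem_zpowers v) k
  set W := Y ⊔ Subgroup.zpowers v with hW
  let Zs : Subgroup M := Z.comap (a⁻¹ : MulAut M).toMonoidHom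
  set C := Z ⊓ Zs with hC
  have htfix : ∀ c ∈ C, t c = c := fun c hc => (h.fixed c).2 hc.1
  have hsC : ∀ c ∈ C, s c = c := fun c hc => (h.fixed_conj a).2 hc.2
  -- the decomposition
  have hZC : C ⊔ Y = Z := by
    refine le_antisymm (sup_le inf_le_left h.le) fun z hz => ?_
    obtain ⟨y', hy', hye⟩ : ∃ y ∈ Y, z⁻¹ * s z = a y := ⟨_, h.diff (a⁻¹ z), diff_conj a z⟩
    have hy₁1 : y₁ ≠ 1 := fun e => hv₁1 (by rw [hv₁y, e, map_one])
    obtain ⟨k, hk⟩ := exists_pow_mul_eq_one h.card hy₁ hy₁1 hy'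
    have hzu : z * u ^ k ∈ C := by
      refine ⟨Z.mul_mem hz (Z.pow_mem (h.le hu) k), (h.fixed_conj a).1 ?_⟩
      rw [← hs, map_mul, map_pow, inv_mul_eq_iff_eq_mul.1 hye,
        show s u = u * v₁ by rw [hv₁, mul_inv_cancel_left],
        (show Commute u v₁ from h.comm _ _).mul_pow, hv₁y, ← map_pow,
        h.comm (u ^ k) (a (y₁ ^ k)), ← mul_assoc, mul_assoc z, ← map_mul, hk, map_one, mul_one]
    have := Subgroup.mul_mem (C ⊔ Y) (Subgroup.mem_sup_left hzu)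
      (Subgroup.mem_sup_right (Y.inv_mem (Y.pow_mem hu k)))
    rwa [mul_inv_cancel_right] at this
  have hCY : C ⊓ Y = ⊥ :=
    (Subgroup.eq_bot_iff_forall _).2 fun y hy => hYs y hy.2 hy.1.2
  have hgen : ∀ x, ∃ z ∈ Z, ∃ k : ℕ, x = z * v ^ k := by
    intro x
    obtain ⟨k, hk⟩ := exists_pow_mul_eq_one h.card (Y.inv_mem hu) (inv_ne_one.2 hu1) (h.diff x)
    have hzZ : x * v ^ k ∈ Z := by
      rw [← h.fixed, map_mul, map_pow, htv, (show Commute v u⁻¹ from h.comm _ _).mul_pow,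
        h.comm (v ^ k) (u⁻¹ ^ k), ← mul_assoc]
      congr 1
      conv_lhs => rw [← mul_inv_cancel_left x (t x), mul_assoc, hk, mul_one]
    obtain ⟨j, hj⟩ := exists_pow_mul_eq_one hvord (Subgroup.mem_zpowers v) hv1
      (Subgroup.pow_mem _ (Subgroup.mem_zpowers v) k)
    exact ⟨x * v ^ k, hzZ, j, by rw [mul_assoc, hj, mul_one]⟩
  -- the group generated by the two transvections
  let G : Subgroup (MulAut M) :=
    { carrier := {g | g ∈ A ∧ (∀ c ∈ C, g c = c) ∧ ∀ x, x⁻¹ * g x ∈ W}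
      one_mem' := ⟨A.one_mem, fun c _ => rfl, fun x => by simp⟩
      mul_mem' := by
        rintro g g' ⟨hg, hg1, hg2⟩ ⟨hg', hg1', hg2'⟩
        refine ⟨A.mul_mem hg hg', fun c hc => by rw [MulAut.mul_apply, hg1' c hc, hg1 c hc],
          fun x => ?_⟩
        rw [MulAut.mul_apply,
          show x⁻¹ * g (g' x) = (x⁻¹ * g' x) * ((g' x)⁻¹ * g (g' x)) by group]
        exact W.mul_mem (hg2' x) (hg2 _)
      inv_mem' := by
        rintro g ⟨hg, hg1, hg2⟩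
        refine ⟨A.inv_mem hg, fun c hc => ?_, fun x => ?_⟩
        · conv_lhs => rw [← hg1 c hc, MulAut.inv_apply_self]
        · have := W.inv_mem (hg2 (g⁻¹ x))
          rwa [MulAut.apply_inv_self, mul_inv_rev, inv_inv] at this }
  have htG : t ∈ G := ⟨h.mem, htfix, fun x => Subgroup.mem_sup_left (h.diff x)⟩
  have hsG : s ∈ G := ⟨hsA, hsC, fun x => Subgroup.mem_sup_right (by
    rw [hs, diff_conj]; exact hVv _ (h.diff _))⟩
  have hσG : σ ∈ G := G.pow_mem hsG m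
  have hcover : ∀ x, ∃ g ∈ G, g x ∈ Z := by
    intro x
    obtain ⟨z, hz, k, rfl⟩ := hgen x
    obtain ⟨c, hc, y, hy, rfl⟩ : ∃ c ∈ C, ∃ y ∈ Y, z = c * y := by
      rw [← hZC, ← SetLike.mem_coe, Subgroup.coe_mul_of_right_le_normalizer_left C Y] at hz
      · obtain ⟨c, hc, y, hy, rfl⟩ := hz
        exact ⟨c, hc, y, hy, rfl⟩
      · intro y _
        rw [Subgroup.mem_normalizer_iff]
        intro w
        rw [h.comm y w, mul_inv_cancel_right]
    obtain ⟨j, hj⟩ := exists_pow_mul_eq_one h.card hu hu1 (Y.inv_mem hy)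
    rw [inv_mul_eq_one] at hj
    subst hj
    have key : ∀ (g : MulAut M), g ∈ G → g (u ^ j * v ^ k) ∈ Z →
        g (c * u ^ j * v ^ k) ∈ Z := by
      intro g hg hgz
      rw [mul_assoc, map_mul, hg.2.1 c hc]
      exact Z.mul_mem hc.1 hgz
    have hσpow : ∀ (i : ℕ), (σ ^ i) u = u * v ^ i := fun i => by
      rw [pow_apply_of_fixed (by rw [hσu, inv_mul_cancel_left, hσv]), hσu, inv_mul_cancel_left]
    have hσpv : ∀ (i : ℕ), (σ ^ i) v = v := fun i => by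
      rw [pow_apply_of_fixed (by rw [hσv, inv_mul_cancel, map_one]), hσv, inv_mul_cancel, one_pow,
        mul_one]
    -- first make the `u`-coordinate nonzero, then kill the `v`-coordinate
    have kill : ∀ w ∈ Y, w ≠ 1 → ∀ n : ℕ, ∃ g ∈ G, g (w * v ^ n) ∈ Z := by
      intro w hw hw1 n
      obtain ⟨i, hi⟩ := exists_pow_mul_eq_one h.card hu hu1 (Y.inv_mem hw)
      rw [inv_mul_eq_one] at hi
      subst hi
      have hvi : v ^ i ≠ 1 := fun e => hw1 (by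
        have h1 := congrArg t e
        rw [map_pow, htv, (show Commute v u⁻¹ from h.comm _ _).mul_pow, e, one_mul, map_one,
          inv_pow, inv_eq_one] at h1
        exact h1)
      obtain ⟨l, hl⟩ := exists_pow_mul_eq_one hvord
        (Subgroup.pow_mem _ (Subgroup.mem_zpowers v) i) hvi
        (Subgroup.pow_mem _ (Subgroup.mem_zpowers v) n)
      refine ⟨σ ^ l, G.pow_mem hσG l, ?_⟩
      rw [map_mul, map_pow, map_pow, hσpow, hσpv, (show Commute u (v ^ l) from h.comm _ _).mul_pow,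
        mul_assoc, ← pow_mul, mul_comm l i, pow_mul, h.comm _ (v ^ n), hl, mul_one]
      exact Z.pow_mem (h.le hu) i
    by_cases hvk : v ^ k = 1
    · refine ⟨1, G.one_mem, ?_⟩
      rw [hvk, mul_one]
      exact Z.mul_mem hc.1 (Z.pow_mem (h.le hu) j)
    by_cases huj : u ^ j = 1
    · have huk : u⁻¹ ^ k ≠ 1 := fun e => hvk (by
        rw [inv_pow, inv_eq_one, ← orderOf_dvd_iff_pow_eq_one,
          orderOf_eq_prime (hup u hu) hu1] at e
        obtain ⟨q, rfl⟩ := e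
        rw [pow_mul, hvp, one_pow])
      obtain ⟨g, hg, hgz⟩ := kill _ (Y.pow_mem (Y.inv_mem hu) k) huk k
      refine ⟨g * t, G.mul_mem hg htG, key _ (G.mul_mem hg htG) ?_⟩
      rw [huj, one_mul, MulAut.mul_apply, map_pow, htv,
        (show Commute v u⁻¹ from h.comm _ _).mul_pow, h.comm (v ^ k)]
      exact hgz
    · obtain ⟨g, hg, hgz⟩ := kill _ (Y.pow_mem hu j) huj k
      exact ⟨g, hg, key g hg hgz⟩
  have hnorm : ∀ b ∈ A, ∃ g ∈ G, (g * b) * t * (g * b)⁻¹ ∈ Subgroup.zpowers t := by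
    intro b hb
    obtain ⟨g, hg, hgu⟩ := hcover (b u)
    refine ⟨g, hg, h.conj_mem_of_center_le (A.mul_mem hg.1 hb) fun y hy => ?_⟩
    obtain ⟨k, hk⟩ := exists_pow_mul_eq_one h.card hu hu1 (Y.inv_mem hy)
    rw [inv_mul_eq_one.1 hk, map_pow, MulAut.mul_apply]
    exact Z.pow_mem hgu k
  have hall : ∀ b ∈ A, ∀ c ∈ C, (b * t * b⁻¹) c = c := by
    intro b hb c hc
    obtain ⟨g, hg, hgt⟩ := hnorm b hb
    have h1 := (h.powers_mem hgt).1 c hc.1
    have h2 : (g⁻¹ * ((g * b) * t * (g * b)⁻¹) * g) c = c := by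
      rw [MulAut.mul_apply, MulAut.mul_apply, hg.2.1 c hc, h1]
      exact (G.inv_mem hg).2.1 c hc
    rwa [show g⁻¹ * ((g * b) * t * (g * b)⁻¹) * g = b * t * b⁻¹ by group] at h2
  refine ⟨C, v, inf_le_left, hCY, hZC, hvZ, hvp, fun b hb c hc => ⟨?_, ?_⟩, fun b hb => ?_, ?_⟩
  · have h1 := (h.fixed_conj b⁻¹).1 (hall b⁻¹ (A.inv_mem hb) c hc)
    rwa [inv_inv] at h1
  · have h1 := (h.fixed_conj (b⁻¹ * a)).1
      (hall (b⁻¹ * a) (A.mul_mem (A.inv_mem hb) ha) c hc)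
    rw [mul_inv_rev, inv_inv, MulAut.mul_apply] at h1
    exact h1
  · obtain ⟨g, hg, hgt⟩ := hnorm b hb
    exact ⟨g, hg.1, hg.2.1, hg.2.2, hgt⟩
  · set r := t * σ * t with hr
    have hru : r u = v := by
      rw [hr, MulAut.mul_apply, MulAut.mul_apply, htu, hσu, map_mul, htu, htv, h.comm v u⁻¹,
        mul_inv_cancel_left]
    have hrv : r v = u⁻¹ := by
      rw [hr, MulAut.mul_apply, MulAut.mul_apply, htv, map_mul, map_inv, hσv, hσu, mul_inv_rev,
        mul_inv_cancel_left, map_inv, htu]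
    have hrG : r ∈ G := G.mul_mem (G.mul_mem htG hσG) htG
    have hτu : (r * r) u = u⁻¹ := by rw [MulAut.mul_apply, hru, hrv]
    have hτv : (r * r) v = v⁻¹ := by rw [MulAut.mul_apply, hrv, map_inv, hru]
    have hτC : ∀ c ∈ C, (r * r) c = c := (G.mul_mem hrG hrG).2.1
    have hτY : ∀ y ∈ Y, (r * r) y = y⁻¹ := fun y hy => by
      obtain ⟨k, hk⟩ := exists_pow_mul_eq_one h.card hu hu1 (Y.inv_mem hy)
      rw [inv_mul_eq_one.1 hk, map_pow, hτu, inv_pow]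
    refine ⟨r * r, (G.mul_mem hrG hrG).1, ?_, hτC, hτY⟩
    refine mul_inv_eq_iff_eq_mul.2 (MulEquiv.ext fun x => ?_)
    have hle : (⊤ : Subgroup M) ≤
        ((r * r * t).toMonoidHom.eqLocus (t * (r * r)).toMonoidHom) := by
      intro x _
      obtain ⟨z, hz, k, rfl⟩ := hgen x
      refine Subgroup.mul_mem _ ?_ (Subgroup.pow_mem _ ?_ k)
      · refine (show C ⊔ Y ≤ _ from sup_le (fun c hc => ?_) fun y hy => ?_) (hZC.symm ▸ hz)
        · show (r * r) (t c) = t ((r * r) c)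
          rw [htfix c hc, hτC c hc, htfix c hc]
        · show (r * r) (t y) = t ((r * r) y)
          rw [(h.fixed y).2 (h.le hy), hτY y hy, map_inv,
            (h.fixed y).2 (h.le hy)]
      · show (r * r) (t v) = t ((r * r) v)
        rw [htv, map_mul, map_inv, hτv, hτu, map_inv, htv,
          inv_inv, mul_inv_rev, inv_inv, h.comm]
    exact hle (Subgroup.mem_top x)

end IsTransvection

end CfsgLib.Fusion
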