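import Mathlib
import Cfsg.Agent.Lib.Fusion.Solvable
import Cfsg.Agent.Lib.Fusion.Invariant
import Cfsg.Agent.Lib.Fusion.TransvectionSplit

/-!
Centric subgroups meeting a strongly closed subgroup non-centrically are not radical.
-/

set_option autoImplicit false

namespace CfsgLib.Fusion

open Cfsg Cfsg.FusionSystem

variable {Ω : Type*} [Group Ω] {S : Subgroup Ω} {F : FusionSystem S} {p : ℕ}
variable [Finite S] [Fact p.Prime]

omit [Finite S] [Fact p.Prime] in
theorem pCore_map_le_inn_of_radical {P P' : Subgroup Ω} {f : Ω → Ω} (hf : IsIso F P P' f)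
    (hr : F.IsRadical p P) :
    (Cfsg.pCore p (F.autGroup P')).map (F.autGroup P').subtype ≤ Cfsg.Inn P' := by
  rintro _ ⟨β, hβ, rfl⟩
  let e : F.autGroup P →* F.autGroup P' :=
    ((MulAut.congr hf.equiv).toMonoidHom.comp (F.autGroup P).subtype).codRestrict _
      fun α => hf.congr_mem_autGroup α.2
  have hesurj : Function.Surjective e := fun γ =>
    ⟨⟨(MulAut.congr hf.equiv).symm γ, hf.congr_symm_mem_autGroup γ.2⟩,
      Subtype.ext ((MulAut.congr hf.equiv).apply_symm_apply (γ : MulAut P'))⟩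
  have hinj : Function.Injective e := fun a b h => Subtype.ext
    ((MulAut.congr hf.equiv).injective (congrArg Subtype.val h))
  obtain ⟨α, rfl⟩ := hesurj β
  have hα : α ∈ Cfsg.pCore p (F.autGroup P) :=
    CfsgLib.Fitting.le_pCore ((CfsgLib.Fitting.pCore_normal p).comap e)
      ((CfsgLib.Fitting.pCore_isPGroup p).comap_of_injective e hinj)
      (show α ∈ (Cfsg.pCore p (F.autGroup P')).comap e from hβ)
  obtain ⟨u, hu, hv⟩ := (mem_inn_iff _).1 (hr.2.le ⟨α, hα, rfl⟩)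
  refine (mem_inn_iff _).2 ⟨f u, hf.mem hu, fun y => ?_⟩
  obtain ⟨x, rfl⟩ := hf.equiv.surjective y
  show (MulAut.congr hf.equiv (α : MulAut P) (hf.equiv x) : Ω) = _
  rw [hf.congr_apply, show ((α : MulAut P) x : Ω) = u * x * u⁻¹ from hv x,
    hf.isMap.map_conj hu x.2, hf.equiv_apply]

/-- The key configuration. -/
theorem exists_core_automorphism (hS : IsPGroup p S) (hF : F.IsSaturated p) {T : Subgroup Ω}
    {E : FusionSystem T} (hEF : E.IsSubsystemOf F) (hT : F.StronglyClosed T) {P : Subgroup Ω}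
    (hP : P ≤ S) (hPT : ¬ E.IsCentric (P ⊓ T)) :
    ∃ φ ∈ F.Hom P, ∃ x ∈ S ⊓ Subgroup.normalizer (φ.range : Set Ω), x ∉ φ.range ∧
      ∃ α ∈ ((Cfsg.pCore p (F.autGroup φ.range)).map (F.autGroup φ.range).subtype :
        Subgroup (MulAut φ.range)), ∀ y : φ.range, ((α y : φ.range) : Ω) = x * y * x⁻¹ := by
  have hSnT : ∀ {g u : Ω}, g ∈ S → u ∈ T → g * u * g⁻¹ ∈ T := conjMem_of_stronglyClosed hT
  set U := P ⊓ T with hU
  have hUS : U ≤ S := inf_le_left.trans hP
  obtain ⟨Q₀, hQ₀, hQ₀c⟩ : ∃ Q₀, E.IsConj U Q₀ ∧ ¬ centralizerIn T Q₀ ≤ Q₀ := by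
    by_contra hcon
    push Not at hcon
    exact hPT ⟨inf_le_right, hcon⟩
  obtain ⟨c, hc, hcQ⟩ := SetLike.not_le_iff_exists.1 hQ₀c
  obtain ⟨R, hR, hRn⟩ := exists_isFullyNormalized (F := F) hUS
  have ha := isFullyAutomized_of_isFullyNormalized hS hF hRn
  have hrec := isReceptive_of_isFullyNormalized hS hF hRn
  obtain ⟨k, hk, hkQ, -, hkC⟩ := exists_map_normalizerIn hS ha hrec
    (isConj_trans (isConj_symm (isConj_of_subsystem hEF hQ₀)) hR)
  -- `C_T(R)` is not inside `R`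
  have hcS : c ∈ centralizerIn S Q₀ := ⟨hT.1 hc.1, hc.2⟩
  have hcN := centralizerIn_le_normalizerIn S Q₀ hcS
  have hc' : k c ∈ centralizerIn S R ⊓ T :=
    ⟨hkC c hcS, isMap_mem_of_stronglyClosed hT hk hcN hc.1⟩
  have hc'R : k c ∉ R := by
    intro hm
    obtain ⟨w, hw, hwe⟩ := hkQ.surj hm
    exact hcQ (hk.injOn (le_normalizerIn hkQ.le_left hw) hcN hwe ▸ hw)
  -- move `P`
  obtain ⟨f, hf, hfU, -, -⟩ := exists_map_normalizerIn hS ha hrec hR
  have hPN : P ≤ normalizerIn S U := fun x hx => ⟨hP hx, mem_normalizer_of_conj_mem hUS fun y hy =>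
    ⟨P.mul_mem (P.mul_mem hx hy.1) (P.inv_mem hx), hSnT (hP hx) hy.2⟩⟩
  obtain ⟨P', hP'⟩ := (hf.mono hPN).exists_iso
  have hP'S := hP'.le_right
  have := finite_of_le hP'S
  have := finite_mulAut P'
  obtain ⟨f', hf', hl, -⟩ := hP'.exists_symm
  have hRP' : R ≤ P' := fun y hy => by
    obtain ⟨x, hx, rfl⟩ := hfU.surj hy
    exact hP'.mem hx.1
  have hRT : R ≤ T := fun y hy => by
    obtain ⟨x, hx, rfl⟩ := hfU.surj hy
    exact isMap_mem_of_stronglyClosed hT hfU.isMap hx hx.2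
  have hinf : ∀ y ∈ P', y ∈ T → y ∈ R := fun y hy hyT => by
    obtain ⟨x, hx, rfl⟩ := hP'.surj hy
    have := isMap_mem_of_stronglyClosed hT hf'.isMap hy hyT
    rw [hl x hx] at this
    exact hfU.mem ⟨hx, this⟩
  set C := centralizerIn S R ⊓ T with hC
  have hCS : C ≤ S := inf_le_left.trans inf_le_left
  have hPC : P' ≤ Subgroup.normalizer (C : Set Ω) := fun u hu =>
    mem_normalizer_of_conj_mem hCS fun y hy => by
      refine ⟨⟨S.mul_mem (S.mul_mem (hP'S hu) hy.1.1) (S.inv_mem (hP'S hu)),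
        mem_centralizer_of_conj_eq fun r hr => ?_⟩, hSnT (hP'S hu) hy.2⟩
      have hr' : u⁻¹ * r * u ∈ R := by
        refine hinf _ (P'.mul_mem (P'.mul_mem (P'.inv_mem hu) (hRP' hr)) hu) ?_
        have := hSnT (S.inv_mem (hP'S hu)) (hRT hr)
        rwa [inv_inv] at this
      rw [show u * y * u⁻¹ * r * (u * y * u⁻¹)⁻¹ = u * (y * (u⁻¹ * r * u) * y⁻¹) * u⁻¹ by group,
        conj_eq_self_of_mem_centralizer hy.1.2 hr']
      group
  have hsup : P' ⊔ C ≤ S := sup_le hP'S hCS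
  have := finite_of_le hsup
  have hne : P' ≠ P' ⊔ C := fun he => hc'R
    (hinf _ (he ▸ Subgroup.mem_sup_right hc') hc'.2)
  obtain ⟨g, hg, hgP⟩ := SetLike.exists_of_lt (lt_normalizerIn (hS.to_le hsup) le_sup_left hne)
  have hg1 : g ∈ ((P' ⊔ C : Subgroup Ω) : Set Ω) := hg.1
  rw [Subgroup.coe_mul_of_left_le_normalizer_right _ _ hPC] at hg1
  obtain ⟨u, hu, x, hx, hux⟩ := hg1
  have hux' : u * x = g := hux
  have hxn : x ∈ Subgroup.normalizer (P' : Set Ω) := by
    rw [← inv_mul_cancel_left u x, hux']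
    exact Subgroup.mul_mem _ (Subgroup.inv_mem _ (Subgroup.le_normalizer hu)) hg.2
  have hxP : x ∉ P' := fun h => hgP (hux' ▸ P'.mul_mem hu h)
  -- the stabilizer of `R ≤ P'`
  set R' := R.subgroupOf P'
  set K := serStab (F.autGroup P') (le_refl R')
  have hKle : K ≤ F.autGroup P' := fun a ha => ha.1
  have hb : ∀ (b : F.autGroup P') (y : P'), (y : Ω) ∈ R → (((b : MulAut P') y : P') : Ω) ∈ R :=
    fun b y hy => hinf _ (SetLike.coe_mem _) (by
      have := isMap_mem_of_stronglyClosed hT ((mem_autGroup_iff hP'S _).1 b.2).isMap y.2 (hRT hy)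
      rwa [autFun_coe] at this)
  have hKn : (K.subgroupOf (F.autGroup P')).Normal := by
    refine ⟨fun a ha b => ⟨(b * a * b⁻¹ : F.autGroup P').2, fun y hy => ?_, fun y => ?_⟩⟩
    · exact (congrArg (b : MulAut P') (ha.2.1 _ (hb b⁻¹ y hy))).trans
        (MulAut.apply_inv_self _ _ _)
    · have h1 := hb b _ (Subgroup.mem_subgroupOf.1 (ha.2.2 ((↑b⁻¹ : MulAut P') y)))
      rw [map_mul, map_inv] at h1
      have h2 : ((b : MulAut P') ((↑b⁻¹ : MulAut P') y)) = y := MulAut.apply_inv_self _ _ _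
      rwa [h2] at h1
  have hxK : conjAut P' hxn ∈ K := by
    refine ⟨autInducedBy_le_autGroup hP'S (conjAut_mem_autInducedBy hxn hx.1.1),
      fun y hy => Subtype.ext ?_, fun y => ?_⟩
    · rw [conjAut_apply]
      exact conj_eq_self_of_mem_centralizer hx.1.2 hy
    · show ((y⁻¹ * conjAut P' hxn y : P') : Ω) ∈ R
      refine hinf _ (SetLike.coe_mem _) ?_
      rw [Subgroup.coe_mul, Subgroup.coe_inv, conjAut_apply,
        show (y : Ω)⁻¹ * (x * y * x⁻¹) = ((y : Ω)⁻¹ * x * y) * x⁻¹ by group]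
      refine T.mul_mem ?_ (T.inv_mem hx.2)
      have := hSnT (S.inv_mem (hP'S y.2)) hx.2
      rwa [inv_inv] at this
  have hKp : IsPGroup p K := isPGroup_serStab (hS.to_le hP'S) _ le_rfl
  have hcore := CfsgLib.Fitting.le_pCore hKn
    (hKp.of_equiv (Subgroup.subgroupOfEquivOfLe hKle).symm)
    (show (⟨_, hKle hxK⟩ : F.autGroup P') ∈ K.subgroupOf _ from hxK)
  obtain ⟨φ, hφ, hv⟩ := hP'.isMap.exists_hom
  have hrange : φ.range = P' := SetLike.coe_injective (by
    rw [← image_homFun φ, ← hP'.image_eq]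
    exact Set.image_congr fun y hy => (homFun_apply φ hy).trans (hv ⟨y, hy⟩))
  subst hrange
  exact ⟨φ, hφ, x, ⟨hx.1.1, hxn⟩, hxP, _, ⟨_, hcore, rfl⟩, fun y => conjAut_apply _ hxn y⟩

/-- A centric subgroup meeting `T` non-centrically is not radical. -/
theorem not_isRadical_of_meet (hS : IsPGroup p S) (hF : F.IsSaturated p) {T : Subgroup Ω}
    {E : FusionSystem T} (hEF : E.IsSubsystemOf F) (hT : F.StronglyClosed T) {P : Subgroup Ω}
    (hP : F.IsCentric P) (hPT : ¬ E.IsCentric (P ⊓ T)) : ¬ F.IsRadical p P := by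
  intro hr
  obtain ⟨φ, hφ, x, hx, hxP, α, hα, hαv⟩ := exists_core_automorphism hS hF hEF hT hP.1 hPT
  obtain ⟨u, hu, hv⟩ :=
    (mem_inn_iff _).1 (pCore_map_le_inn_of_radical (isIso_homFun hφ) hr hα)
  have hmem : u⁻¹ * x ∈ centralizerIn S φ.range :=
    ⟨S.mul_mem (S.inv_mem ((isIso_homFun hφ).le_right hu)) hx.1,
      mul_inv_mem_centralizer fun y hy => (hαv ⟨y, hy⟩).symm.trans (hv ⟨y, hy⟩)⟩
  refine hxP ?_
  have := φ.range.mul_mem hu (hP.2 _ (isIso_homFun hφ).isConj hmem)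
  rwa [mul_inv_cancel_left] at this

end CfsgLib.Fusion
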