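import Mathlib
import Cfsg.Prelude.Def_PLocal
import Cfsg.Agent.Lib.OddOmega.Basic
import Cfsg.Agent.Lib.Transfer.Basic
import Cfsg.Agent.Lib.Fusion.NormalSeries

/-!
For odd `p` a strongly closed subgroup whose `Ω₁` has a strongly closed central series is normal.
-/

set_option autoImplicit false

namespace CfsgLib.Fusion

open Cfsg Cfsg.FusionSystem
open scoped commutatorElement

variable {Ω : Type*} [Group Ω] {S : Subgroup Ω} {F : FusionSystem S} {p : ℕ}

theorem omegaOne_le_self (p : ℕ) (P : Subgroup Ω) : Cfsg.omegaOne p P ≤ P :=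
  (Subgroup.closure_le _).2 fun _ hx => hx.1

theorem omegaOne_characteristic (p : ℕ) (P : Subgroup Ω) :
    ((Cfsg.omegaOne p P).subgroupOf P).Characteristic := by
  refine Subgroup.characteristic_iff_map_le.2 fun φ => ?_
  rw [Subgroup.map_le_iff_le_comap]
  have h : Cfsg.omegaOne p P ≤
      ((((Cfsg.omegaOne p P).subgroupOf P).comap φ.toMonoidHom).map P.subtype) := by
    refine (Subgroup.closure_le _).2 ?_
    rintro x ⟨hx, hxp⟩
    refine ⟨⟨x, hx⟩, Subgroup.subset_closure ⟨SetLike.coe_mem _, ?_⟩, rfl⟩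
    show ((φ ⟨x, hx⟩ : P) : Ω) ^ p = 1
    rw [← SubgroupClass.coe_pow, ← map_pow, show (⟨x, hx⟩ : P) ^ p = 1 from Subtype.ext hxp,
      map_one, Subgroup.coe_one]
  intro y hy
  obtain ⟨z, hz, he⟩ := h hy
  rwa [← Subtype.ext he]

theorem fixed_of_diff {R : Type*} [Group R] [Fact p.Prime] (hR : IsPGroup p R) (β : MulAut R)
    (hβ : Nat.Coprime (orderOf β) p) {x : R} (h : β (x⁻¹ * β x) = x⁻¹ * β x) : β x = x := by
  set c := x⁻¹ * β x with hc
  have hx : β x = x * c := by rw [hc, mul_inv_cancel_left]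
  have hiter : ∀ k : ℕ, (β ^ k) x = x * c ^ k := by
    intro k
    induction k with
    | zero => simp
    | succ k ih => rw [pow_succ', MulAut.mul_apply, ih, map_mul, map_pow, h, hx, mul_assoc, ← pow_succ']
  have h1 := hiter (orderOf β)
  rw [pow_orderOf_eq_one, MulAut.one_apply, left_eq_mul] at h1
  obtain ⟨n, hn⟩ := hR c
  have h2 : orderOf c = 1 := Nat.eq_one_of_dvd_coprimes (hβ.symm.pow_left n)
    (orderOf_dvd_of_pow_eq_one hn) (orderOf_dvd_of_pow_eq_one h1)
  rw [orderOf_eq_one_iff] at h2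
  rw [hx, h2, mul_one]

variable [Finite S] [Fact p.Prime]

theorem le_of_omega_series (hS : IsPGroup p S) (hp : p ≠ 2) {R P : Subgroup Ω}
    (hc : F.IsCentric R) (hr : F.IsRadical p R) (hP : F.StronglyClosed P) (n : ℕ)
    (Qs : ℕ → Subgroup Ω) (h0 : Qs 0 = ⊥) (hn : Qs n = Cfsg.omegaOne p P)
    (hcl : ∀ i, i ≤ n → F.StronglyClosed (Qs i))
    (hcomm : ∀ i < n, ∀ x ∈ Qs (i + 1), ∀ g ∈ P, ⁅x, g⁆ ∈ Qs i) : P ≤ R := by
  have := finite_of_le hc.1
  have := finite_mulAut R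
  have hPn : S ≤ Subgroup.normalizer (P : Set Ω) := fun g hg =>
    mem_normalizer_of_conj_mem hP.1 fun x hx =>
      isMap_mem_of_stronglyClosed hP (isMap_conj le_rfl hg) (hP.1 hx) hx
  have hpres : ∀ {T : Subgroup Ω}, F.StronglyClosed T → ∀ α ∈ F.autGroup R, ∀ x : R,
      (x : Ω) ∈ T → (α x : Ω) ∈ T := by
    intro T hT α hα x hx
    have := isMap_mem_of_stronglyClosed hT ((mem_autGroup_iff hc.1 α).1 hα).isMap x.2 hx
    rwa [autFun_coe] at this
  let K : Subgroup (MulAut R) :=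
    { carrier := {α | α ∈ F.autGroup R ∧ (∀ x : R, ((x⁻¹ * α x : R) : Ω) ∈ P) ∧
        ∀ i < n, ∀ x : R, (x : Ω) ∈ Qs (i + 1) → ((x⁻¹ * α x : R) : Ω) ∈ Qs i}
      one_mem' := ⟨Subgroup.one_mem _, fun x => by simp, fun i _ x _ => by simp⟩
      mul_mem' := by
        rintro a b ⟨ha, ha1, ha2⟩ ⟨hb, hb1, hb2⟩
        have e : ∀ x : R, x⁻¹ * (a * b) x = (x⁻¹ * b x) * ((b x)⁻¹ * a (b x)) := fun x => by
          rw [MulAut.mul_apply]; group
        refine ⟨Subgroup.mul_mem _ ha hb, fun x => ?_, fun i hi x hx => ?_⟩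
        · rw [e, Subgroup.coe_mul]
          exact P.mul_mem (hb1 x) (ha1 _)
        · rw [e, Subgroup.coe_mul]
          exact (Qs i).mul_mem (hb2 i hi x hx) (ha2 i hi _ (hpres (hcl (i + 1) hi) b hb x hx))
      inv_mem' := by
        rintro a ⟨ha, ha1, ha2⟩
        refine ⟨Subgroup.inv_mem _ ha, fun x => ?_, fun i hi x hx => ?_⟩
        · have h := P.inv_mem (ha1 (a⁻¹ x))
          rw [MulAut.apply_inv_self, ← Subgroup.coe_inv, mul_inv_rev, inv_inv] at h
          exact h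
        · have h := (Qs i).inv_mem
            (ha2 i hi (a⁻¹ x) (hpres (hcl (i + 1) hi) _ (Subgroup.inv_mem _ ha) x hx))
          rw [MulAut.apply_inv_self, ← Subgroup.coe_inv, mul_inv_rev, inv_inv] at h
          exact h }
  have hKle : K ≤ F.autGroup R := fun a ha => ha.1
  have hKn : (K.subgroupOf (F.autGroup R)).Normal := by
    refine ⟨fun a ha b => ?_⟩
    have e : ∀ x : R, x⁻¹ * ((b : MulAut R) * a * (b : MulAut R)⁻¹) x =
        (b : MulAut R) (((b : MulAut R)⁻¹ x)⁻¹ * (a : MulAut R) ((b : MulAut R)⁻¹ x)) := fun x => by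
      simp only [MulAut.mul_apply, map_mul, map_inv, MulAut.apply_inv_self]
    refine ⟨(b * a * b⁻¹ : F.autGroup R).2, fun x => ?_, fun i hi x hx => ?_⟩
    · show ((x⁻¹ * ((b : MulAut R) * a * (b : MulAut R)⁻¹) x : R) : Ω) ∈ P
      rw [e]
      exact hpres hP _ b.2 _ (ha.2.1 _)
    · show ((x⁻¹ * ((b : MulAut R) * a * (b : MulAut R)⁻¹) x : R) : Ω) ∈ Qs i
      rw [e]
      exact hpres (hcl i hi.le) _ b.2 _
        (ha.2.2 i hi _ (hpres (hcl (i + 1) hi) _ (Subgroup.inv_mem _ b.2) x hx))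
  have hKp : IsPGroup p K := by
    rintro ⟨α, hα⟩
    obtain ⟨a, -, -, -, hcop, -⟩ := CfsgLib.Transfer.exists_pow_coprime_part (p := p) α
    refine ⟨a, Subtype.ext ?_⟩
    show α ^ p ^ a = 1
    set β := α ^ p ^ a
    have hβK : β ∈ K := K.pow_mem hα _
    have hR : IsPGroup p R := hS.to_le hc.1
    have hfix : ∀ i ≤ n, ∀ x : R, (x : Ω) ∈ Qs i → β x = x := by
      intro i
      induction i with
      | zero =>
        intro _ x hx
        rw [h0, Subgroup.mem_bot] at hx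
        rw [show x = 1 from Subtype.ext hx, map_one]
      | succ i ih =>
        intro hi x hx
        exact fixed_of_diff hR β hcop (ih (by omega) _ (hβK.2.2 i (by omega) x hx))
    -- on `P ⊓ R`
    set U : Subgroup R := P.subgroupOf R
    have hUpres : ∀ x : R, x ∈ U ↔ β x ∈ U := fun x => by
      refine ⟨fun hx => hpres hP β hβK.1 x hx, fun hx => ?_⟩
      have := hpres hP _ (Subgroup.inv_mem _ hβK.1) _ hx
      rwa [MulAut.inv_apply_self] at this
    let γ : MulAut U :=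
      { toFun := fun x => ⟨β x, (hUpres x).1 x.2⟩
        invFun := fun x => ⟨β⁻¹ x, (hUpres _).2 (by rw [MulAut.apply_inv_self]; exact x.2)⟩
        left_inv := fun x => Subtype.ext (MulAut.inv_apply_self R β x)
        right_inv := fun x => Subtype.ext (MulAut.apply_inv_self R β x)
        map_mul' := fun x y => Subtype.ext (map_mul β (x : R) y) }
    have hγpow : ∀ (k : ℕ) (x : U), (((γ ^ k) x : U) : R) = (β ^ k) x := by
      intro k
      induction k with
      | zero => intro x; rfl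
      | succ k ih =>
        intro x
        rw [pow_succ', pow_succ', MulAut.mul_apply, MulAut.mul_apply, ← ih]
        rfl
    have hγord : ¬ p ∣ orderOf γ := by
      intro h
      have hd : orderOf γ ∣ orderOf β := orderOf_dvd_of_pow_eq_one
        (MulEquiv.ext fun x => Subtype.ext (by rw [hγpow, pow_orderOf_eq_one]; rfl))
      exact (Fact.out : p.Prime).ne_one
        (Nat.Coprime.eq_one_of_dvd hcop.symm (h.trans hd))
    have hγ : γ = 1 := by
      refine CfsgLib.OddOmega.eq_one_of_fixes_omega hp (hR.to_subgroup U) γ hγord fun x hx => ?_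
      refine Subtype.ext (hfix n le_rfl x ?_)
      rw [hn]
      exact Subgroup.subset_closure ⟨x.2, congrArg (fun z : U => ((z : R) : Ω)) hx⟩
    refine MulEquiv.ext fun x => ?_
    rw [MulAut.one_apply]
    refine fixed_of_diff hR β hcop ?_
    exact congrArg Subtype.val (MulEquiv.congr_fun hγ ⟨x⁻¹ * β x, hβK.2.1 x⟩)
  refine le_of_normalizer_inf_le hS hc.1 hP.1 (fun x hx => hPn (hc.1 hx)) fun g hgP hgn => ?_
  have hgK : conjAut R hgn ∈ K := by
    refine ⟨autInducedBy_le_autGroup hc.1 (conjAut_mem_autInducedBy hgn (hP.1 hgP)),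
      fun x => ?_, fun i hi x hx => ?_⟩
    · show (x : Ω)⁻¹ * (g * x * g⁻¹) ∈ P
      rw [show (x : Ω)⁻¹ * (g * x * g⁻¹) = ((x : Ω)⁻¹ * g * ((x : Ω)⁻¹)⁻¹) * g⁻¹ by group]
      exact P.mul_mem (conj_mem_of_mem_normalizer (hPn (S.inv_mem (hc.1 x.2))) hgP) (P.inv_mem hgP)
    · show (x : Ω)⁻¹ * (g * x * g⁻¹) ∈ Qs i
      rw [show (x : Ω)⁻¹ * (g * x * g⁻¹) = ⁅(x : Ω)⁻¹, g⁆ by rw [commutatorElement_def]; group]
      exact hcomm i hi _ ((Qs (i + 1)).inv_mem hx) g hgP
  exact mem_of_mem_pCore hc hr ⟨hP.1 hgP, hgn⟩ (α := ⟨_, hKle hgK⟩) (conjAut_apply R hgn)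
    (CfsgLib.Fitting.le_pCore hKn (hKp.of_equiv (Subgroup.subgroupOfEquivOfLe hKle).symm) hgK)

end CfsgLib.Fusion
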