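import Mathlib
import Cfsg.Agent.Lib.OddOmega.Exp
import Cfsg.Agent.Lib.Fusion.Hyperfocal
import Cfsg.Agent.Lib.Fusion.OmegaSeries

/-!
Criteria through the action on elements of order `p` (and `4` for `p = 2`).
-/

set_option autoImplicit false

namespace CfsgLib.Fusion

open Cfsg Cfsg.FusionSystem
open scoped commutatorElement

section Auto

variable {R : Type*} [Group R] [Finite R] {p : ℕ} [Fact p.Prime]

/-- A `p'`-automorphism fixing the small elements of an invariant subgroup fixes it. -/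
theorem fixes_of_fixes_small (hR : IsPGroup p R) (β : MulAut R)
    (hβ : Nat.Coprime (orderOf β) p) (U : Subgroup R) (hU : ∀ x ∈ U, β x ∈ U)
    (hfix : ∀ x ∈ U, x ^ CfsgLib.OddOmega.omegaExp p = 1 → β x = x) : ∀ x ∈ U, β x = x := by
  let f : U →* U :=
    { toFun := fun x => ⟨β x, hU x x.2⟩
      map_one' := Subtype.ext (map_one β)
      map_mul' := fun a b => Subtype.ext (map_mul β _ _) }
  have hinj : Function.Injective f := fun a b e =>
    Subtype.ext (β.injective (congrArg Subtype.val e))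
  let γ : MulAut U := MulEquiv.ofBijective f ⟨hinj, Finite.surjective_of_injective hinj⟩
  have hpow : ∀ (k : ℕ) (x : U), ((γ ^ k) x : R) = (β ^ k) x := by
    intro k
    induction k with
    | zero => intro x; rfl
    | succ k ih =>
      intro x
      rw [pow_succ', pow_succ', MulAut.mul_apply, MulAut.mul_apply, ← ih]
      rfl
  have hd : orderOf γ ∣ orderOf β := orderOf_dvd_of_pow_eq_one
    (MulEquiv.ext fun x => Subtype.ext (by rw [hpow, pow_orderOf_eq_one]; rfl))
  have hγ : γ = 1 := CfsgLib.OddOmega.eq_one_of_fixes_exp (hR.to_subgroup U) γ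
    (fun h => (Fact.out : p.Prime).ne_one (Nat.Coprime.eq_one_of_dvd hβ.symm (h.trans hd)))
    fun x hx => Subtype.ext (hfix x x.2 (congrArg Subtype.val hx))
  intro x hx
  exact congrArg Subtype.val (MulEquiv.congr_fun hγ ⟨x, hx⟩)

end Auto

variable {Ω : Type*} [Group Ω] {S : Subgroup Ω} {F : FusionSystem S} {p : ℕ}
variable [Finite S] [Fact p.Prime]

/-- A `p'`-automorphism fixing the small elements in a strongly closed `T` containing all its
displacements is trivial. -/
theorem eq_one_of_fixes_small (hS : IsPGroup p S) {T P : Subgroup Ω} (hT : F.StronglyClosed T)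
    (hP : P ≤ S) {β : MulAut P} (hβ : β ∈ F.autGroup P) (hcop : Nat.Coprime (orderOf β) p)
    (hd : ∀ x : P, ((x⁻¹ * β x : P) : Ω) ∈ T)
    (hfix : ∀ x : P, (x : Ω) ∈ T → x ^ CfsgLib.OddOmega.omegaExp p = 1 → β x = x) : β = 1 := by
  have := finite_of_le hP
  have hU := fixes_of_fixes_small (hS.to_le hP) β hcop (T.subgroupOf P) (fun x hx => by
    have := isMap_mem_of_stronglyClosed hT ((mem_autGroup_iff hP β).1 hβ).isMap x.2 hx
    rw [autFun_coe] at this
    exact this) fun x hx => hfix x hx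
  refine MulEquiv.ext fun x => ?_
  rw [MulAut.one_apply]
  exact fixed_of_diff (hS.to_le hP) β hcop (hU _ (hd x))

theorem inv_mul_mem_hyperfocal_of_coprime {P : Subgroup Ω} (hP : P ≤ S) {β : MulAut P}
    (hβ : β ∈ F.autGroup P) (hcop : Nat.Coprime (orderOf β) p) (x : P) :
    ((x⁻¹ * β x : P) : Ω) ∈ F.hyperfocalSubgroup p := by
  have h := inv_mul_mem_hyperfocal (α := ⟨β, hβ⟩) hP
    (CfsgLib.Transfer.mem_pResidual_of_coprime (by rwa [← Subgroup.orderOf_coe])) x
  simpa using h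

theorem isPGroup_autGroup_of_fix_small (hS : IsPGroup p S) (hF : F.IsSaturated p)
    {P : Subgroup Ω} (hP : P ≤ S)
    (h : ∀ β ∈ F.autGroup P, Nat.Coprime (orderOf β) p → ∀ x : P,
      (x : Ω) ∈ F.hyperfocalSubgroup p → x ^ CfsgLib.OddOmega.omegaExp p = 1 → β x = x) :
    IsPGroup p (F.autGroup P) := by
  rintro ⟨α, hα⟩
  have := finite_of_le hP
  have := finite_mulAut P
  obtain ⟨a, -, -, -, hcop, -⟩ := CfsgLib.Transfer.exists_pow_coprime_part (p := p) α
  exact ⟨a, Subtype.ext (eq_one_of_fixes_small hS (stronglyClosed_hyperfocal hS hF) hP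
    ((F.autGroup P).pow_mem hα _) hcop
    (inv_mul_mem_hyperfocal_of_coprime hP ((F.autGroup P).pow_mem hα _) hcop)
    fun x hxT hx => h _ ((F.autGroup P).pow_mem hα _) hcop x hxT hx)⟩

/-- If fusion of small hyperfocal elements is inner, every automorphism group is a `p`-group. -/
theorem fix_small_of_conj (hS : IsPGroup p S) (hF : F.IsSaturated p)
    (hconj : ∀ (P : Subgroup Ω) (f : Ω → Ω), IsMap F P f → ∀ x ∈ P,
      x ∈ F.hyperfocalSubgroup p → x ^ CfsgLib.OddOmega.omegaExp p = 1 →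
        ∃ s ∈ S, f x = s * x * s⁻¹)
    {P : Subgroup Ω} (hP : P ≤ S) : IsPGroup p (F.autGroup P) := by
  refine isPGroup_autGroup_of_fix_small hS hF hP fun β hβ hcop => ?_
  have := finite_of_le hP
  have hT := stronglyClosed_hyperfocal hS hF
  haveI : Group.IsNilpotent S := hS.isNilpotent
  let L : ℕ → Subgroup Ω := fun i => (Subgroup.upperCentralSeries S i).map S.subtype
  have hLn : ∀ (i : ℕ), ∀ x ∈ L (i + 1), ∀ s ∈ S, x⁻¹ * (s * x * s⁻¹) ∈ L i := by
    rintro i _ ⟨x, hx, rfl⟩ s hs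
    refine ⟨⁅x⁻¹, ⟨s, hs⟩⁆, (Subgroup.inv_mem _ hx :) ⟨s, hs⟩, ?_⟩
    simp only [commutatorElement_def, map_mul, map_inv, Subgroup.coe_subtype]
    group
  suffices h : ∀ (i : ℕ) (x : P), (x : Ω) ∈ L i → (x : Ω) ∈ F.hyperfocalSubgroup p →
      x ^ CfsgLib.OddOmega.omegaExp p = 1 → β x = x by
    intro x hxT hx
    refine h (Group.nilpotencyClass S) x ⟨⟨x, hP x.2⟩, ?_, rfl⟩ hxT hx
    rw [upperCentralSeries_nilpotencyClass]
    exact Subgroup.mem_top _
  intro i
  induction i with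
  | zero =>
    intro x hx _ _
    obtain ⟨u, hu, hue⟩ := hx
    rw [Subgroup.upperCentralSeries_zero, SetLike.mem_coe, Subgroup.mem_bot] at hu
    subst hu
    rw [show x = 1 from Subtype.ext hue.symm, map_one]
  | succ i ih =>
    intro x hx hxT hxe
    set d := x⁻¹ * β x with hd
    have hD : ∀ j : ℕ, ((x⁻¹ * (β ^ j) x : P) : Ω) ∈ L i := fun j => by
      obtain ⟨s, hs, hsv⟩ := hconj P _
        ((mem_autGroup_iff hP (β ^ j)).1 (Subgroup.pow_mem _ hβ j)).isMap x x.2 hxT
        (by simpa using congrArg Subtype.val hxe)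
      rw [autFun_coe] at hsv
      rw [Subgroup.coe_mul, Subgroup.coe_inv, hsv]
      exact hLn i x hx s hs
    set W := Subgroup.closure (Set.range fun j : ℕ => (β ^ j) d)
    have hWL : ∀ w ∈ W, (w : Ω) ∈ L i ⊓ F.hyperfocalSubgroup p := by
      intro w hw
      induction hw using Subgroup.closure_induction with
      | mem w hw =>
        obtain ⟨j, rfl⟩ := hw
        show ((β ^ j) (x⁻¹ * β x) : Ω) ∈ L i ⊓ F.hyperfocalSubgroup p
        refine ⟨?_, ?_⟩
        · rw [show (β ^ j) (x⁻¹ * β x) = (x⁻¹ * (β ^ j) x)⁻¹ * (x⁻¹ * (β ^ (j + 1)) x) by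
            rw [pow_succ, MulAut.mul_apply, map_mul, map_inv]; group, Subgroup.coe_mul,
            Subgroup.coe_inv]
          exact Subgroup.mul_mem _ (Subgroup.inv_mem _ (hD j)) (hD (j + 1))
        · have := isMap_mem_of_stronglyClosed hT
            ((mem_autGroup_iff hP (β ^ j)).1 (Subgroup.pow_mem _ hβ j)).isMap
            (x⁻¹ * β x).2 (inv_mul_mem_hyperfocal_of_coprime hP hβ hcop x)
          rwa [autFun_coe] at this
      | one => exact Subgroup.one_mem _
      | mul a b _ _ ha hb => exact Subgroup.mul_mem _ ha hb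
      | inv a _ ha => exact Subgroup.inv_mem _ ha
    have hWinv : ∀ w ∈ W, β w ∈ W := by
      intro w hw
      have : W ≤ W.comap β.toMonoidHom := by
        refine (Subgroup.closure_le _).2 ?_
        rintro _ ⟨j, rfl⟩
        exact Subgroup.subset_closure ⟨j + 1, show (β ^ (j + 1)) d = β ((β ^ j) d) by rw [pow_succ']; rfl⟩
      exact this hw
    have hfix := fixes_of_fixes_small (hS.to_le hP) β hcop W hWinv
      (fun w hw hwe => ih w (hWL w hw).1 (hWL w hw).2 hwe) d
      (Subgroup.subset_closure ⟨0, show (β ^ 0) d = d by rw [pow_zero, MulAut.one_apply]⟩)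
    exact fixed_of_diff (hS.to_le hP) β hcop hfix

/-! ### All small focal cyclic subgroups normal -/

theorem focal_le : F.focalSubgroup ≤ S := by
  refine (Subgroup.closure_le _).2 ?_
  rintro _ ⟨P, φ, x, hφ, rfl⟩
  exact S.mul_mem (S.inv_mem ((F.le_of_mem hφ).1 x.2)) ((F.le_of_mem hφ).2 x)

theorem inv_mul_mem_focal {P : Subgroup Ω} {f : Ω → Ω} (hf : IsMap F P f) {x : Ω} (hx : x ∈ P) :
    x⁻¹ * f x ∈ F.focalSubgroup := by
  obtain ⟨φ, hφ, hv⟩ := hf
  exact Subgroup.subset_closure ⟨P, φ, ⟨x, hx⟩, hφ, by rw [hv]⟩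

theorem stronglyClosed_focal : F.StronglyClosed F.focalSubgroup :=
  stronglyClosed_iff.2 ⟨focal_le, fun P f hf x hx hxT => by
    have := Subgroup.mul_mem _ hxT (inv_mul_mem_focal hf hx)
    rwa [mul_inv_cancel_left] at this⟩

/-- An element of order `p` generating a normal subgroup of a `p`-group is central. -/
theorem commute_of_conj_mem_zpowers (hS : IsPGroup p S) {z s : Ω} (hz : z ^ p = 1) (hs : s ∈ S)
    (h : s * z * s⁻¹ ∈ Subgroup.zpowers z) : s * z * s⁻¹ = z := by
  obtain ⟨i, hi⟩ := Subgroup.mem_zpowers_iff.1 h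
  rcases eq_or_ne z 1 with rfl | hz1
  · simp
  have hord : orderOf z = p := orderOf_eq_prime hz hz1
  obtain ⟨k, hk⟩ := hS ⟨s, hs⟩
  have hk' : s ^ p ^ k = 1 := congrArg Subtype.val hk
  have hiter : ∀ n : ℕ, s ^ n * z * (s ^ n)⁻¹ = z ^ (i ^ n) := by
    intro n
    induction n with
    | zero => simp
    | succ n ih =>
      calc s ^ (n + 1) * z * (s ^ (n + 1))⁻¹ = s * (s ^ n * z * (s ^ n)⁻¹) * s⁻¹ := by
            rw [pow_succ']; group
        _ = (s * z * s⁻¹) ^ (i ^ n) := by rw [ih, conj_zpow]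
        _ = z ^ (i ^ (n + 1)) := by rw [← hi, ← zpow_mul, pow_succ']
  have h1 := hiter (p ^ k)
  rw [hk', one_mul, inv_one, mul_one] at h1
  have h2 : z ^ (1 : ℤ) = z ^ (i ^ p ^ k) := by rwa [zpow_one]
  rw [zpow_eq_zpow_iff_modEq, hord, ← ZMod.intCast_eq_intCast_iff] at h2
  push_cast at h2
  rw [ZMod.pow_card_pow] at h2
  rw [← hi]
  conv_rhs => rw [← zpow_one z]
  rw [zpow_eq_zpow_iff_modEq, hord, ← ZMod.intCast_eq_intCast_iff, Int.cast_one]
  exact h2.symm

theorem isNormal_top_of_small_normal (hS : IsPGroup p S) (hF : F.IsSaturated p)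
    (hnorm : ∀ x ∈ F.focalSubgroup, x ^ CfsgLib.OddOmega.omegaExp p = 1 →
      ∀ s ∈ S, s * x * s⁻¹ ∈ Subgroup.zpowers x) : F.IsNormal S := by
  refine (isNormal_iff_stronglyClosed_le hS hF).2
    ⟨⟨le_rfl, fun R _ φ hφ x => (F.le_of_mem hφ).2 x⟩, fun P hc hr => ?_⟩
  have hP := hc.1
  have := finite_of_le hP
  have := finite_mulAut P
  set T := F.focalSubgroup
  set e := CfsgLib.OddOmega.omegaExp p
  have hT := stronglyClosed_focal (F := F)
  obtain ⟨m, hm⟩ := CfsgLib.OddOmega.dvd_omegaExp p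
  have hpe : ∀ z : Ω, z ^ p = 1 → z ^ e = 1 := fun z hz => by
    show z ^ CfsgLib.OddOmega.omegaExp p = 1
    rw [hm, pow_mul, hz, one_pow]
  have hcentral : ∀ z ∈ T, z ^ p = 1 → ∀ s ∈ S, s * z * s⁻¹ = z := fun z hz hzp s hs =>
    commute_of_conj_mem_zpowers hS hzp hs (hnorm z hz (hpe z hzp) s hs)
  have hpres : ∀ α ∈ F.autGroup P, ∀ x : P, (x : Ω) ∈ T → (α x : Ω) ∈ T := by
    intro α hα x hx
    have := isMap_mem_of_stronglyClosed hT ((mem_autGroup_iff hP α).1 hα).isMap x.2 hx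
    rwa [autFun_coe] at this
  have hdT : ∀ α ∈ F.autGroup P, ∀ x : P, ((x⁻¹ * α x : P) : Ω) ∈ T := by
    intro α hα x
    have := inv_mul_mem_focal ((mem_autGroup_iff hP α).1 hα).isMap x.2
    rw [autFun_coe] at this
    simpa using this
  let K : Subgroup (MulAut P) :=
    { carrier := {α | α ∈ F.autGroup P ∧
        (∀ x : P, (x : Ω) ∈ T → x ^ p = 1 → α x = x) ∧
        ∀ x : P, (x : Ω) ∈ T → x ^ e = 1 → (x⁻¹ * α x) ^ p = 1}
      one_mem' := ⟨Subgroup.one_mem _, fun x _ _ => rfl, fun x _ _ => by simp⟩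
      mul_mem' := by
        rintro a b ⟨ha, ha1, ha2⟩ ⟨hb, hb1, hb2⟩
        refine ⟨Subgroup.mul_mem _ ha hb, fun x hx hxp => by
          rw [MulAut.mul_apply, hb1 x hx hxp, ha1 x hx hxp], fun x hx hxe => ?_⟩
        have hy : (b x) ^ e = 1 := by rw [← map_pow, hxe, map_one]
        rw [MulAut.mul_apply,
          show x⁻¹ * a (b x) = (x⁻¹ * b x) * ((b x)⁻¹ * a (b x)) by group]
        have h1 := hb2 x hx hxe
        have h2 := ha2 (b x) (hpres b hb x hx) hy
        have hc : Commute (x⁻¹ * b x) ((b x)⁻¹ * a (b x)) := by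
          refine Subtype.ext ?_
          have := hcentral _ (hdT a ha (b x)) (by simpa using congrArg Subtype.val h2)
            (x⁻¹ * b x : P) (hP (x⁻¹ * b x).2)
          exact mul_inv_eq_iff_eq_mul.1 this
        rw [hc.mul_pow, h1, h2, one_mul]
      inv_mem' := by
        rintro a ⟨ha, ha1, ha2⟩
        refine ⟨Subgroup.inv_mem _ ha, fun x hx hxp => ?_, fun x hx hxe => ?_⟩
        · conv_lhs => rw [← ha1 x hx hxp, MulAut.inv_apply_self]
        · have hy : (a⁻¹ x) ^ e = 1 := by rw [← map_pow, hxe, map_one]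
          have h := ha2 (a⁻¹ x) (hpres _ (Subgroup.inv_mem _ ha) x hx) hy
          rw [MulAut.apply_inv_self] at h
          rw [show x⁻¹ * a⁻¹ x = ((a⁻¹ x)⁻¹ * x)⁻¹ by group, inv_pow, h, inv_one] }
  have hKle : K ≤ F.autGroup P := fun a ha => ha.1
  have hKn : (K.subgroupOf (F.autGroup P)).Normal := by
    refine ⟨fun a ha b => ⟨(b * a * b⁻¹ : F.autGroup P).2, fun x hx hxp => ?_, fun x hx hxe => ?_⟩⟩
    · show ((b : MulAut P) * a * (b : MulAut P)⁻¹) x = x
      have h := ha.2.1 ((b : MulAut P)⁻¹ x) (hpres _ (Subgroup.inv_mem _ b.2) x hx)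
        (by rw [← map_pow, hxp, map_one])
      rw [MulAut.mul_apply, MulAut.mul_apply]
      exact (congrArg (b : MulAut P) h).trans (MulAut.apply_inv_self _ _ _)
    · show (x⁻¹ * ((b : MulAut P) * a * (b : MulAut P)⁻¹) x) ^ p = 1
      have h := ha.2.2 ((b : MulAut P)⁻¹ x) (hpres _ (Subgroup.inv_mem _ b.2) x hx)
        (by rw [← map_pow, hxe, map_one])
      have h2 := congrArg (b : MulAut P) h
      rw [map_pow, map_one, map_mul, map_inv, MulAut.apply_inv_self] at h2
      exact h2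
  have hKp : IsPGroup p K := by
    rintro ⟨α, hα⟩
    obtain ⟨a, -, -, -, hcop, -⟩ := CfsgLib.Transfer.exists_pow_coprime_part (p := p) α
    have hβ : α ^ p ^ a ∈ K := K.pow_mem hα _
    refine ⟨a, Subtype.ext (eq_one_of_fixes_small hS hT hP hβ.1 hcop (hdT _ hβ.1) fun x hx hxe =>
      fixed_of_diff (hS.to_le hP) _ hcop (hβ.2.1 _ (hdT _ hβ.1 x) (hβ.2.2 x hx hxe)))⟩
  refine le_of_normalizer_inf_le hS hP le_rfl (fun x hx => Subgroup.le_normalizer (hP hx))
    fun g hg hgn => ?_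
  have hgK : conjAut P hgn ∈ K := by
    refine ⟨autInducedBy_le_autGroup hP (conjAut_mem_autInducedBy hgn hg), fun x hx hxp =>
      Subtype.ext ?_, fun x hx hxe => Subtype.ext ?_⟩
    · exact hcentral _ hx (by simpa using congrArg Subtype.val hxp) g hg
    · rw [SubgroupClass.coe_pow, Subgroup.coe_mul, Subgroup.coe_inv, Subgroup.coe_one,
        conjAut_apply]
      have hxe' : (x : Ω) ^ e = 1 := by simpa using congrArg Subtype.val hxe
      rcases eq_or_ne p 2 with hp2 | hp2
      · subst hp2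
        obtain ⟨i, hi⟩ := Subgroup.mem_zpowers_iff.1 (hnorm _ hx hxe' g hg)
        rw [← hi, ← zpow_neg_one, ← zpow_add, ← zpow_natCast, ← zpow_mul]
        have he4 : (x : Ω) ^ (4 : ℤ) = 1 := by exact_mod_cast hxe'
        rcases Int.even_or_odd i with ⟨j, hj⟩ | ⟨j, hj⟩
        · have h1 : (g * x * g⁻¹) ^ 2 = 1 := by
            rw [← hi, hj, ← zpow_natCast, ← zpow_mul,
              show (j + j) * ((2 : ℕ) : ℤ) = 4 * j by push_cast; ring, zpow_mul, he4, one_zpow]
          have h2 : (x : Ω) ^ 2 = 1 := by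
            rw [conj_pow, mul_inv_eq_one] at h1
            exact mul_left_cancel (h1.trans (mul_one g).symm)
          rw [mul_comm (-1 + i), zpow_mul, zpow_natCast, h2, one_zpow]
        · rw [hj, show (-1 + (2 * j + 1)) * ((2 : ℕ) : ℤ) = 4 * j by push_cast; ring, zpow_mul,
            he4, one_zpow]
      · have he : e = p := if_neg hp2
        rw [he] at hxe'
        rw [hcentral _ hx hxe' g hg, inv_mul_cancel, one_pow]
  exact mem_of_mem_pCore hc hr ⟨hg, hgn⟩ (α := ⟨_, hKle hgK⟩) (conjAut_apply P hgn)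
    (CfsgLib.Fitting.le_pCore hKn (hKp.of_equiv (Subgroup.subgroupOfEquivOfLe hKle).symm) hgK)

end CfsgLib.Fusion
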