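import Mathlib
import Cfsg.Agent.Lib.Fusion.SmallMaps
import Cfsg.Agent.Lib.Fusion.SubsystemAgree
import Cfsg.Agent.Lib.Fusion.KSystem
import Cfsg.Agent.Lib.Fusion.CentricMeet
import Cfsg.Agent.Lib.Fusion.RadicalNormalizer
import Cfsg.Agent.Lib.Fusion.NormalizerSaturated
import Cfsg.Agent.Lib.Critical.Basic

/-!
Control of fusion by small abelian subgroups.
-/

set_option autoImplicit false
set_option linter.style.haveILetI false

namespace CfsgLib.Fusion.SmallControl

open Cfsg Cfsg.FusionSystem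
open scoped commutatorElement

variable {Ω : Type*} [Group Ω] {p : ℕ}

/-- An abelian subgroup of exponent dividing `p` (or `4` if `p = 2`). -/
def Small (p : ℕ) (A : Subgroup Ω) : Prop :=
  (∀ a ∈ A, ∀ b ∈ A, a * b = b * a) ∧ ∀ a ∈ A, a ^ CfsgLib.OddOmega.omegaExp p = 1

theorem Small.sup {A B : Subgroup Ω} (hA : Small p A) (hB : Small p B)
    (h : ∀ a ∈ A, ∀ b ∈ B, a * b = b * a) : Small p (A ⊔ B) := by
  have hc : ∀ x ∈ A ⊔ B, ∀ y ∈ A ⊔ B, x * y = y * x := by
    have h1 : ∀ y, (∀ a ∈ A, a * y = y * a) → (∀ b ∈ B, b * y = y * b) →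
        ∀ x ∈ A ⊔ B, x * y = y * x := fun y ha hb x hx => by
      have : A ⊔ B ≤ Subgroup.centralizer {y} := sup_le
        (fun a haA => Subgroup.mem_centralizer_singleton_iff.2 (ha a haA))
        (fun b hbB => Subgroup.mem_centralizer_singleton_iff.2 (hb b hbB))
      exact Subgroup.mem_centralizer_singleton_iff.1 (this hx)
    intro x hx y hy
    refine h1 y (fun a ha => ?_) (fun b hb => ?_) x hx
    · exact (h1 a (fun a' ha' => hA.1 a' ha' a ha) (fun b hb => (h a ha b hb).symm) y hy).symm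
    · exact (h1 b (fun a ha => h a ha b hb) (fun b' hb' => hB.1 b' hb' b hb) y hy).symm
  refine ⟨hc, fun x hx => ?_⟩
  have hx' := hx
  rw [Subgroup.sup_eq_closure] at hx
  induction hx using Subgroup.closure_induction with
  | mem y hy => exact hy.elim (hA.2 y) (hB.2 y)
  | one => exact one_pow _
  | mul u v hu hv iu iv =>
    rw [← Subgroup.sup_eq_closure] at hu hv
    rw [Commute.mul_pow (hc u hu v hv), iu hu, iv hv, one_mul]
  | inv u hu iu =>
    rw [← Subgroup.sup_eq_closure] at hu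
    rw [inv_pow, iu hu, inv_one]

theorem Small.image {S : Subgroup Ω} {F : FusionSystem S} {A B : Subgroup Ω} {f : Ω → Ω}
    (hA : Small p A) (hf : IsIso F A B f) : Small p B := by
  refine ⟨fun a ha b hb => ?_, fun a ha => ?_⟩
  · obtain ⟨u, hu, rfl⟩ := hf.surj ha
    obtain ⟨v, hv, rfl⟩ := hf.surj hb
    rw [← hf.isMap.map_mul hu hv, ← hf.isMap.map_mul hv hu, hA.1 u hu v hv]
  · obtain ⟨u, hu, rfl⟩ := hf.surj ha
    rw [← zpow_natCast, ← hf.isMap.map_zpow hu, zpow_natCast, hA.2 u hu, hf.isMap.map_one]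

section Group

theorem eq_top_of_sylow_coprime {G : Type*} [Group G] [Finite G] [Fact p.Prime] (R : Sylow p G)
    (H : Subgroup G) (hR : (R : Subgroup G) ≤ H)
    (h : ∀ x : G, (orderOf x).Coprime p → x ∈ H) : H = ⊤ := by
  have hp := (Fact.out : p.Prime)
  rw [← Subgroup.index_eq_one]
  by_contra hne
  set q := H.index.minFac
  have hq : q.Prime := Nat.minFac_prime hne
  have hqd : q ∣ H.index := H.index.minFac_dvd
  haveI := Fact.mk hq
  by_cases hqp : q = p
  · exact R.not_dvd_index (hqp.symm.dvd.trans (hqd.trans (Subgroup.index_dvd_of_le hR)))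
  · obtain ⟨Q⟩ : Nonempty (Sylow q G) := inferInstance
    refine Q.not_dvd_index (hqd.trans (Subgroup.index_dvd_of_le fun x hx => h x ?_))
    obtain ⟨k, hk⟩ := Q.2 ⟨x, hx⟩
    refine Nat.Coprime.coprime_dvd_left (orderOf_dvd_of_pow_eq_one (congrArg Subtype.val hk)) ?_
    exact Nat.Coprime.pow_left _ ((Nat.coprime_primes hq hp).2 hqp)

theorem le_sylow_of_normal {G : Type*} [Group G] [Finite G] [Fact p.Prime] (R : Sylow p G)
    {N : Subgroup G} (hN : N.Normal) (hNp : IsPGroup p N) : N ≤ R := by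
  haveI := hN
  have := R.3 (hNp.to_sup_of_normal_left' R.2 (fun x _ => by
    rw [Subgroup.normalizer_eq_top]; exact Subgroup.mem_top x)) le_sup_right
  exact this ▸ le_sup_left

variable {V : Type*} [Group V] (G : Subgroup (MulAut V))

/-- The automorphisms in `G` trivial on `D` and modulo `D`. -/
def stab (D : Subgroup V) [D.Normal] : Subgroup G where
  carrier := {α | (∀ z ∈ D, (α : MulAut V) z = z) ∧ ∀ y, y⁻¹ * (α : MulAut V) y ∈ D}
  one_mem' := ⟨fun z _ => rfl, fun y => by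
    show y⁻¹ * y ∈ D
    rw [inv_mul_cancel]; exact one_mem _⟩
  mul_mem' := by
    intro a b ha hb
    refine ⟨fun z hz => ?_, fun y => ?_⟩
    · rw [Subgroup.coe_mul, MulAut.mul_apply, hb.1 z hz, ha.1 z hz]
    · rw [Subgroup.coe_mul, MulAut.mul_apply,
        show y⁻¹ * (a : MulAut V) ((b : MulAut V) y) = (y⁻¹ * (b : MulAut V) y) *
          (((b : MulAut V) y)⁻¹ * (a : MulAut V) ((b : MulAut V) y)) by group]
      exact mul_mem (hb.2 y) (ha.2 _)
  inv_mem' := by
    intro a ha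
    refine ⟨fun z hz => ?_, fun y => ?_⟩
    · conv_lhs => rw [← ha.1 z hz]
      rw [Subgroup.coe_inv, MulAut.inv_apply_self]
    · have := InvMemClass.inv_mem (ha.2 (((a⁻¹ : G) : MulAut V) y))
      rw [Subgroup.coe_inv] at this ⊢
      rwa [MulAut.apply_inv_self, mul_inv_rev, inv_inv] at this

theorem stab_normal (D : Subgroup V) [D.Normal]
    (h : ∀ β : G, ∀ z ∈ D, (β : MulAut V) z ∈ D) : (stab G D).Normal := by
  refine ⟨fun α hα β => ⟨fun z hz => ?_, fun y => ?_⟩⟩
  · show (β : MulAut V) ((α : MulAut V) ((β : MulAut V)⁻¹ z)) = z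
    rw [hα.1 _ (show (β : MulAut V)⁻¹ z ∈ D from h β⁻¹ z hz), MulAut.apply_inv_self]
  · have := h β _ (hα.2 ((β : MulAut V)⁻¹ y))
    rw [map_mul, map_inv, MulAut.apply_inv_self] at this
    exact this

theorem stab_pgroup [Finite V] [Fact p.Prime] (hV : IsPGroup p V) (D : Subgroup V)
    [D.Normal] : IsPGroup p (stab G D) := by
  have h : IsPGroup p ((stab G D).map G.subtype) := by
    let L : ℕ → Subgroup V := fun i => if i = 0 then ⊥ else if i = 1 then D else ⊤
    refine isPGroup_of_stabilizes_series hV L 2 rfl rfl _ ?_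
    rintro _ ⟨α, hα, rfl⟩ i hi x hx
    match i, hi with
    | 0, _ => exact Subgroup.mem_bot.2 (by rw [G.coe_subtype, hα.1 x hx, inv_mul_cancel])
    | 1, _ => exact hα.2 x
  exact h.of_equiv ((stab G D).equivMapOfInjective G.subtype G.subtype_injective).symm

end Group

variable [Fact p.Prime] {S : Subgroup Ω} [Finite S] {E F : FusionSystem S}

/-- The system `F` centralises modulo `T`. -/
def Disp (F : FusionSystem S) (p : ℕ) (T : Subgroup Ω) : Prop :=
  ∀ P : Subgroup Ω, P ≤ S → ∀ β ∈ F.autGroup P, (orderOf β).Coprime p →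
    ∀ x : P, ((x⁻¹ * β x : P) : Ω) ∈ T

/-- `E` contains all maps of `F` between small abelian subgroups of `T`. -/
def Ctrl (E F : FusionSystem S) (p : ℕ) (T : Subgroup Ω) : Prop :=
  ∀ (A : Subgroup Ω) (f : Ω → Ω), A ≤ T → Small p A → IsMap F A f → IsMap E A f

/-- The maps of `F` fixing `A` pointwise on subgroups of `C_S(A)` are maps of `E`. -/
def CentOK (E F : FusionSystem S) (A : Subgroup Ω) : Prop :=
  ∀ (P : Subgroup Ω) (g : Ω → Ω), A ≤ P → P ≤ centralizerIn S A → IsMap F P g →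
    (∀ x ∈ A, g x = x) → IsMap E P g

/-- An automorphism of order prime to `p` fixing the small normal subgroups in `T` is trivial. -/
theorem eq_one_of_fixes_normal_small (hS : IsPGroup p S) {T P : Subgroup Ω} (hT : F.StronglyClosed T)
    (hTd : Disp F p T) (hP : P ≤ S) {β : MulAut P} (hβ : β ∈ F.autGroup P)
    (hcop : (orderOf β).Coprime p)
    (hfix : ∀ A : Subgroup Ω, A ≤ P → A ≤ T → Small p A →
      (∀ x ∈ P, ∀ a ∈ A, x * a * x⁻¹ ∈ A) → ∀ a : P, (a : Ω) ∈ A → β a = a) : β = 1 := by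
  haveI := finite_of_le hP
  have hp := (Fact.out : p.Prime)
  set e := CfsgLib.OddOmega.omegaExp p
  obtain ⟨m, hm⟩ := CfsgLib.OddOmega.dvd_omegaExp p
  obtain ⟨C, hCchar, hCpow, hCcomm, hCcen⟩ := CfsgLib.Critical.exists_isCrit (hS.to_le hP)
  haveI := hCchar
  set Tp := T.subgroupOf P
  have hTn : ∀ (x n : P), n ∈ Tp → x * n * x⁻¹ ∈ Tp := fun x n hn => by
    have := isMap_mem_of_stronglyClosed hT (isMap_conj hP (hP x.2)) (x := (n : Ω)) n.2 hn
    exact this
  have hinvC : ∀ x ∈ C, β x ∈ C := fun x hx =>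
    (Subgroup.characteristic_iff_map_le.1 hCchar β) ⟨x, hx, rfl⟩
  have hinvT : ∀ x ∈ Tp, β x ∈ Tp := fun x hx => by
    have := isMap_mem_of_stronglyClosed hT ((mem_autGroup_iff hP β).1 hβ).isMap x.2 hx
    rwa [autFun_coe] at this
  set D := C ⊓ Tp
  have hfixD : ∀ x ∈ D, β x = x := by
    refine fixes_of_fixes_small (hS.to_le hP) β hcop D
      (fun x hx => ⟨hinvC x hx.1, hinvT x hx.2⟩) fun x hx hxe => ?_
    let W0 : Subgroup P :=
      { carrier := {z | z ∈ D ∧ z ^ e = 1 ∧ z ∈ Subgroup.centralizer (C : Set P)}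
        one_mem' := ⟨one_mem _, one_pow _, one_mem _⟩
        mul_mem' := fun {a b} ha hb => ⟨mul_mem ha.1 hb.1, by
          rw [Commute.mul_pow (show Commute a b from (ha.2.2 b hb.1.1).symm), ha.2.1, hb.2.1, one_mul],
          mul_mem ha.2.2 hb.2.2⟩
        inv_mem' := fun {a} ha => ⟨InvMemClass.inv_mem ha.1, by rw [inv_pow, ha.2.1, inv_one], InvMemClass.inv_mem ha.2.2⟩ }
    have hcz : ∀ u : P, ⁅x, u⁆ ∈ W0 := by
      intro u
      have hz := hCcomm (Subgroup.commutator_mem_commutator hx.1 (Subgroup.mem_top u))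
      refine ⟨⟨hz.1, ?_⟩, ?_, hz.2⟩
      · rw [commutatorElement_def, show x * u * x⁻¹ * u⁻¹ = x * (u * x⁻¹ * u⁻¹) by group]
        exact mul_mem hx.2 (hTn u x⁻¹ (InvMemClass.inv_mem hx.2))
      · set c := ⁅x, u⁆
        have hc : ∀ w ∈ C, Commute c w := fun w hw => (hz.2 w hw).symm
        have hu : u * x * u⁻¹ = c⁻¹ * x := by
          simp only [c, commutatorElement_def]; group
        have h1 : (u * x * u⁻¹) ^ e = 1 := by rw [conj_pow, hxe, mul_one, mul_inv_cancel]
        rw [hu, Commute.mul_pow (hc x hx.1).inv_left, hxe, mul_one, inv_pow, inv_eq_one] at h1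
        exact h1
    let W := W0 ⊔ Subgroup.zpowers x
    have hWs : Small p (W.map P.subtype) := by
      have h1 : Small p (W0.map P.subtype) := by
        refine ⟨?_, ?_⟩
        · rintro _ ⟨a, ha, rfl⟩ _ ⟨b, hb, rfl⟩
          rw [← map_mul, ← map_mul, (ha.2.2 b hb.1.1).symm]
        · rintro _ ⟨a, ha, rfl⟩
          rw [← map_pow, ha.2.1, map_one]
      have h2 : Small p ((Subgroup.zpowers x).map P.subtype) := by
        refine ⟨?_, ?_⟩
        · rintro _ ⟨a, ha, rfl⟩ _ ⟨b, hb, rfl⟩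
          obtain ⟨i, rfl⟩ := ha
          obtain ⟨j, rfl⟩ := hb
          rw [← map_mul, ← map_mul]
          exact congrArg _ (Commute.zpow_zpow (Commute.refl x) i j)
        · rintro _ ⟨a, ha, rfl⟩
          obtain ⟨i, rfl⟩ := ha
          rw [← map_pow]
          show P.subtype ((x ^ i) ^ e) = 1
          rw [← zpow_natCast, ← zpow_mul, mul_comm, zpow_mul, zpow_natCast, hxe, one_zpow, map_one]
      rw [Subgroup.map_sup]
      refine h1.sup h2 ?_
      rintro _ ⟨a, ha, rfl⟩ _ ⟨b, hb, rfl⟩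
      rw [← map_mul, ← map_mul, (ha.2.2 b (Subgroup.zpowers_le.2 hx.1 hb)).symm]
    have hWn : ∀ u : P, ∀ a ∈ W, u * a * u⁻¹ ∈ W := by
      intro u a ha
      have hle : W ≤ W.comap (MulAut.conj u).toMonoidHom := by
        refine sup_le (fun z hz => Subgroup.mem_sup_left ?_) (Subgroup.zpowers_le.2 ?_)
        · refine ⟨⟨(inferInstance : C.Normal).conj_mem z hz.1.1 u, hTn u z hz.1.2⟩, ?_, fun w hw => ?_⟩
          · show (u * z * u⁻¹) ^ e = 1
            rw [conj_pow, hz.2.1, mul_one, mul_inv_cancel]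
          · have := congrArg (fun t => u * t * u⁻¹)
              (hz.2.2 _ ((inferInstance : C.Normal).conj_mem w hw u⁻¹))
            simp only [inv_inv] at this
            show w * (u * z * u⁻¹) = u * z * u⁻¹ * w
            calc w * (u * z * u⁻¹) = u * (u⁻¹ * w * u * z) * u⁻¹ := by group
              _ = u * (z * (u⁻¹ * w * u)) * u⁻¹ := this
              _ = _ := by group
        · show u * x * u⁻¹ ∈ W
          rw [show u * x * u⁻¹ = ⁅x, u⁆⁻¹ * x by simp only [commutatorElement_def]; group]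
          exact mul_mem (InvMemClass.inv_mem (Subgroup.mem_sup_left (hcz u)))
            (Subgroup.mem_sup_right (Subgroup.mem_zpowers x))
      exact hle ha
    have hWT : W ≤ Tp := sup_le (fun z hz => hz.1.2) (Subgroup.zpowers_le.2 hx.2)
    refine hfix (W.map P.subtype) (Subgroup.map_subtype_le _) ?_ hWs ?_ x
      ⟨x, Subgroup.mem_sup_right (Subgroup.mem_zpowers x), rfl⟩
    · rintro _ ⟨a, ha, rfl⟩
      exact hWT ha
    · rintro u hu _ ⟨a, ha, rfl⟩
      exact ⟨⟨u, hu⟩ * a * ⟨u, hu⟩⁻¹, hWn _ a ha, rfl⟩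
  refine CfsgLib.Critical.mulAut_eq_one (hS.to_le hP) C hCcen β hcop fun x hx => ?_
  exact fixed_of_diff (hS.to_le hP) β hcop
    (hfixD _ ⟨C.mul_mem (C.inv_mem hx) (hinvC x hx), hTd P hP β hβ hcop x⟩)

theorem isFullyNormalized_sub (hEF : E.IsSubsystemOf F) {A : Subgroup Ω}
    (hA : F.IsFullyNormalized A) : E.IsFullyNormalized A :=
  ⟨hA.1, fun Q hQ => hA.2 Q (isConj_of_subsystem hEF hQ)⟩

/-- Maps fixing a fully normalised `A` pointwise, on subgroups normalising it. -/
theorem mem_of_fixes (hS : IsPGroup p S) (hE : E.IsSaturated p) (hF : F.IsSaturated p)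
    (hEF : E.IsSubsystemOf F) {A : Subgroup Ω} (hA : F.IsFullyNormalized A)
    (hAc : ∀ a ∈ A, ∀ b ∈ A, a * b = b * a) (hcent : CentOK E F A) {P : Subgroup Ω} {g : Ω → Ω}
    (hAP : A ≤ P) (hPN : P ≤ normalizerIn S A) (hg : IsMap F P g) (hfix : ∀ x ∈ A, g x = x) :
    IsMap E P g := by
  have hAS := hA.1
  set N := normalizerIn S A with hN
  have hNS : N ≤ S := inf_le_left
  haveI := finite_of_le hNS
  have hNp : IsPGroup p N := hS.to_le hNS
  have hF1s : F.IsNormalizerSystem A (normalizerSystem F A hAS) := fun _ => rfl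
  have hE1s : E.IsNormalizerSystem A (normalizerSystem E A hAS) := fun _ => rfl
  have hEn := isFullyNormalized_sub hEF hA
  set F1 := normalizerSystem F A hAS
  set E1 := normalizerSystem E A hAS
  have hF1 := isSaturated_normalizerSystem hS hF hA hF1s
  have hE1 := isSaturated_normalizerSystem hS hE hEn hE1s
  have hFn := isNormal_normalizerSystem hAS hF1s
  have hE1n := isNormal_normalizerSystem hAS hE1s
  set F2 := kSystem F1 A hFn.1 (autInducedBy N A) (conj_adm hFn)
  set E2 := kSystem E1 A hE1n.1 (autInducedBy N A) (conj_adm hE1n)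
  have hF2 : F2.IsSaturated p := isSaturated_kSystem hNp hF1 hFn
  have hE2 : E2.IsSaturated p := isSaturated_kSystem hNp hE1 hE1n
  have h12 : ∀ {P : Subgroup Ω} {f : Ω → Ω}, IsMap E1 P f → IsMap F1 P f := fun {P f} hf => by
    obtain ⟨h1, h2, g, hg, hgf, hgA⟩ := (isMap_normalizerSystem_iff hE1s).1 hf
    exact (isMap_normalizerSystem_iff hF1s).2 ⟨h1, h2, g, isMap_of_subsystem hEF hg, hgf, hgA⟩
  have hsub : E2.IsSubsystemOf F2 := fun P φ hφ => by
    obtain ⟨h1, g, hg, hag, hK⟩ := isMap_kSystem_iff.1 (isMap_homFun hφ)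
    exact (mem_hom_iff φ).2 (isMap_kSystem_iff.2 ⟨h12 h1, g, h12 hg, hag, hK⟩)
  have hAN : A ≤ N := le_normalizerIn hAS
  -- the action on `A`
  have hadm2 : ∀ {P : Subgroup Ω} {f : Ω → Ω}, IsMap F2 P f → A ≤ P →
      KAdm (autInducedBy N A) f := fun {P f} hf hAP => by
    obtain ⟨-, g, -, hag, hK⟩ := isMap_kSystem_iff.1 hf
    exact hK.congr fun x hx => hag x (hAP hx)
  have himA : ∀ {P : Subgroup Ω} {f : Ω → Ω}, IsMap F2 P f → A ≤ P → ∀ x ∈ A, f x ∈ A :=
    fun hf hAP x hx => (hadm2 hf hAP).mem hx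
  -- centralisers of `U ∩ C(A)`
  have hshut : ∀ U : Subgroup Ω, U ≤ N → A ≤ U → (U = N ∨ (F2.IsCentric U ∧ F2.IsRadical p U)) →
      centralizerIn N (U ⊓ Subgroup.centralizer (A : Set Ω)) ≤ U := by
    intro U hUN hAU hU
    rcases hU with rfl | ⟨hc, hr⟩
    · exact inf_le_left
    set U0 := U ⊓ Subgroup.centralizer (A : Set Ω)
    have hU0n : ∀ u ∈ U, ∀ x ∈ U0, u * x * u⁻¹ ∈ U0 := fun u hu x hx =>
      ⟨U.mul_mem (U.mul_mem hu hx.1) (U.inv_mem hu), mem_centralizer_of_conj_eq fun a ha => by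
        have := conj_eq_self_of_mem_centralizer hx.2
          (conj_mem_of_mem_normalizer (InvMemClass.inv_mem (hUN hu).2) ha)
        calc u * x * u⁻¹ * a * (u * x * u⁻¹)⁻¹ = u * (x * (u⁻¹ * a * u⁻¹⁻¹) * x⁻¹) * u⁻¹ := by group
          _ = u * (u⁻¹ * a * u⁻¹⁻¹) * u⁻¹ := by rw [this]
          _ = a := by group⟩
    refine le_of_normalizer_inf_le hNp hUN inf_le_left (fun u hu => ?_) fun y hy hyn => ?_
    · refine mem_normalizer_of_conj_mem (S := N) inf_le_left fun z hz => ⟨N.mul_mem (N.mul_mem (hUN hu) hz.1) (N.inv_mem (hUN hu)),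
        mem_centralizer_of_conj_eq fun x hx => ?_⟩
      have := conj_eq_self_of_mem_centralizer hz.2 (hU0n _ (InvMemClass.inv_mem hu) x hx)
      calc u * z * u⁻¹ * x * (u * z * u⁻¹)⁻¹ = u * (z * (u⁻¹ * x * u⁻¹⁻¹) * z⁻¹) * u⁻¹ := by group
        _ = u * (u⁻¹ * x * u⁻¹⁻¹) * u⁻¹ := by rw [this]
        _ = x := by group
    haveI := finite_of_le hUN
    haveI := finite_mulAut U
    haveI : (U0.subgroupOf U).Normal := ⟨fun n hn u => hU0n u u.2 n hn⟩
    have hfixA : ∀ a ∈ A, y * a * y⁻¹ = a := fun a ha => conj_eq_self_of_mem_centralizer hy.2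
      ⟨hAU ha, fun b hb => hAc b hb a ha⟩
    let α : F2.autGroup U := ⟨_, autInducedBy_le_autGroup hUN (conjAut_mem_autInducedBy hyn hy.1)⟩
    refine mem_of_mem_pCore hc hr ⟨hy.1, hyn⟩ (α := α) (conjAut_apply U hyn)
      (CfsgLib.Fitting.le_pCore (stab_normal _ (U0.subgroupOf U) fun β z hz => ?_)
        (stab_pgroup _ (hNp.to_le hUN) _) (⟨fun z hz => Subtype.ext ?_, fun u => ?_⟩ : α ∈ stab _ (U0.subgroupOf U)))
    · have hm := ((mem_autGroup_iff hUN (β : MulAut U)).1 β.2).isMap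
      refine ⟨((β : MulAut U) z).2, mem_centralizer_of_conj_eq fun a ha => ?_⟩
      obtain ⟨w, hw, rfl⟩ := (hadm2 hm hAU).image_eq.ge ha
      show (((β : MulAut U) z : U) : Ω) * autFun (β : MulAut U) w * (((β : MulAut U) z : U) : Ω)⁻¹ = _
      rw [show (((β : MulAut U) z : U) : Ω) = autFun (β : MulAut U) z from (autFun_coe _ _).symm,
        ← hm.map_conj z.2 (hAU hw), show (z : Ω) * w * (z : Ω)⁻¹ = w from conj_eq_self_of_mem_centralizer hz.2 hw]
    · show y * (z : Ω) * y⁻¹ = z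
      exact conj_eq_self_of_mem_centralizer hy.2 hz
    · refine ⟨(u⁻¹ * (α : MulAut U) u : U).2, mem_centralizer_of_conj_eq fun a ha => ?_⟩
      show (u : Ω)⁻¹ * (y * u * y⁻¹) * a * ((u : Ω)⁻¹ * (y * u * y⁻¹))⁻¹ = a
      have ha' : (u : Ω) * a * (u : Ω)⁻¹ ∈ A := conj_mem_of_mem_normalizer (hUN u.2).2 ha
      have h1 : y⁻¹ * a * y = a := by
        calc y⁻¹ * a * y = y⁻¹ * (y * a * y⁻¹) * y := by rw [hfixA a ha]
          _ = a := by group
      calc (u : Ω)⁻¹ * (y * u * y⁻¹) * a * ((u : Ω)⁻¹ * (y * u * y⁻¹))⁻¹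
          = (u : Ω)⁻¹ * (y * (u * (y⁻¹ * a * y) * (u : Ω)⁻¹) * y⁻¹) * u := by group
        _ = a := by rw [h1, hfixA _ ha']; group
  -- the automorphism groups
  have hauto : ∀ U : Subgroup Ω, (U = N ∨ F2.IsEssential p U) → F2.autGroup U ≤ E2.autGroup U := by
    intro U hU
    have hcr : U = N ∨ (F2.IsCentric U ∧ F2.IsRadical p U) :=
      hU.imp_right fun h => ⟨h.1, isRadical_of_isEssential hNp h⟩
    have hUn : F2.IsFullyNormalized U := by
      rcases hU with rfl | h
      · haveI : Finite ↥(normalizerIn N N) := finite_of_le (S := N) inf_le_left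
        exact ⟨le_rfl, fun Q hQ => Subgroup.card_le_of_le (inf_le_left.trans (le_normalizerIn le_rfl))⟩
      · exact h.2.1
    have hUN := hUn.1
    haveI := finite_of_le hUN
    haveI := finite_mulAut U
    have hA2 : F2.IsNormal A := by
      refine isNormal_iff.2 ⟨hAN, fun P f hf => ?_⟩
      obtain ⟨h1, g, hg, hag, hK⟩ := isMap_kSystem_iff.1 hf
      refine ⟨g, isMap_kSystem_iff.2 ⟨hg, g, ?_, fun _ _ => rfl, hK⟩, hag, hK.image_eq⟩
      rwa [sup_assoc, sup_idem]
    have hAU : A ≤ U := by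
      rcases hcr with rfl | h
      · exact hAN
      · exact le_of_isNormal hNp hA2 h.1 h.2
    set U0 := U ⊓ Subgroup.centralizer (A : Set Ω) with hU0
    have hAU0 : A ≤ U0 := fun a ha => ⟨hAU ha, fun b hb => hAc b hb a ha⟩
    have hU0N : U0 ≤ N := inf_le_left.trans hUN
    have hU0c : U0 ≤ centralizerIn S A := fun x hx => ⟨hNS (hU0N hx), hx.2⟩
    haveI := finite_of_le hU0N
    have hU0n : U ≤ normalizerIn N U0 := fun u hu => ⟨hUN hu,
      mem_normalizer_of_conj_mem (S := N) hU0N fun x hx => ⟨U.mul_mem (U.mul_mem hu hx.1) (U.inv_mem hu),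
        mem_centralizer_of_conj_eq fun a ha => by
          have := conj_eq_self_of_mem_centralizer hx.2
            (conj_mem_of_mem_normalizer (InvMemClass.inv_mem (hUN hu).2) ha)
          calc u * x * u⁻¹ * a * (u * x * u⁻¹)⁻¹ = u * (x * (u⁻¹ * a * u⁻¹⁻¹) * x⁻¹) * u⁻¹ := by group
            _ = u * (u⁻¹ * a * u⁻¹⁻¹) * u⁻¹ := by rw [this]
            _ = a := by group⟩⟩
    haveI : (U0.subgroupOf U).Normal := ⟨fun n hn u =>
      ⟨U.mul_mem (U.mul_mem u.2 hn.1) (U.inv_mem u.2),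
        (conj_mem_of_mem_normalizer (hU0n u.2).2 (show (n : Ω) ∈ U0 from hn)).2⟩⟩
    have hcU := hshut U hUN hAU hcr
    -- `U0` is fully centralised in `E2`
    have hU0fc : E2.IsFullyCentralized U0 := by
      obtain ⟨Q, hQc, hQn⟩ := exists_isFullyNormalized (F := E2) hU0N
      obtain ⟨h, hh, hiso, -, hcenh⟩ := exists_map_normalizerIn hNp
        (isFullyAutomized_of_isFullyNormalized hNp hE2 hQn)
        (isReceptive_of_isFullyNormalized hNp hE2 hQn) hQc
      obtain ⟨U', hU'⟩ := (hh.mono hU0n).exists_iso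
      have hU'2 : IsIso F2 U U' h := hU'.of_subsystem hsub
      have hhA : ∀ x ∈ A, h x ∈ A := himA hU'2.isMap hAU
      have himg : h '' (A : Set Ω) = A := (hadm2 hU'2.isMap hAU).image_eq
      have hAU' : A ≤ U' := fun a ha => by
        obtain ⟨w, hw, rfl⟩ := himg.ge ha
        exact hU'.mem (hAU hw)
      have hcr' : U' = N ∨ (F2.IsCentric U' ∧ F2.IsRadical p U') := by
        rcases hcr with rfl | ⟨hc, hr⟩
        · exact .inl (Subgroup.eq_of_le_of_card_ge hU'.le_right hU'.card_eq.ge)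
        · have hc' := isCentric_of_isConj hc hU'2.isConj
          haveI := finite_of_le hU'.le_right
          haveI := finite_mulAut U'
          refine .inr ⟨hc', hU'.le_right, le_antisymm (pCore_map_le_inn_of_radical hU'2 hr) ?_⟩
          rw [← Subgroup.map_subgroupOf_eq_of_le (inn_le_autGroup (F := F2) hU'.le_right)]
          refine Subgroup.map_mono (CfsgLib.Fitting.le_pCore (inn_subgroupOf_normal F2 U') ?_)
          rw [inn_eq_autInducedBy]
          exact (isPGroup_autInducedBy (hNp.to_le hU'.le_right) U').comap_subtype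
      have hQeq : U' ⊓ Subgroup.centralizer (A : Set Ω) ≤ Q := fun z hz => by
        obtain ⟨u, hu, rfl⟩ := hU'.surj hz.1
        refine hiso.mem ⟨hu, mem_centralizer_of_conj_eq fun a ha => ?_⟩
        refine hU'.isMap.injOn (mul_mem (mul_mem hu (hAU ha)) (InvMemClass.inv_mem hu)) (hAU ha) ?_
        rw [hU'.isMap.map_conj hu (hAU ha), conj_eq_self_of_mem_centralizer hz.2 (hhA a ha)]
      have hQU' : centralizerIn N Q ≤ U' := fun z hz =>
        hshut U' hU'.le_right hAU' hcr' ⟨hz.1, fun w hw => hz.2 w (hQeq hw)⟩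
      obtain ⟨h', hh', h'1, -⟩ := hU'.exists_symm
      refine ⟨hU0N, fun R hR => ?_⟩
      refine ((isFullyCentralized_of_isFullyNormalized hNp hE2 hQn).2 R
        (isConj_trans (isConj_symm hQc) hR)).trans ?_
      haveI : Finite (centralizerIn N U0) := finite_of_le (S := N) inf_le_left
      refine (hh'.isMap.mono hQU').card_le fun z hz => ⟨hh'.le_right (hh'.mem (hQU' hz)),
        mem_centralizer_of_conj_eq fun x hx => ?_⟩
      obtain ⟨u, hu, rfl⟩ := hU'.surj (hQU' hz)
      rw [h'1 u hu]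
      refine hU'.isMap.injOn (mul_mem (mul_mem hu hx.1) (InvMemClass.inv_mem hu)) hx.1 ?_
      rw [hU'.isMap.map_conj hu hx.1, conj_eq_self_of_mem_centralizer hz.2 (hiso.mem hx)]
    set G := F2.autGroup U
    obtain ⟨R, hR⟩ := (isFullyAutomized_of_isFullyNormalized hNp hF2 hUn).2
    have hRH : (R : Subgroup G) ≤ (E2.autGroup U).subgroupOf G := by
      rw [hR]
      exact fun α hα => autInducedBy_le_autGroup hUN hα
    have hinv : ∀ α : G, ∀ z ∈ U0.subgroupOf U, (α : MulAut U) z ∈ U0.subgroupOf U := fun α z hz => by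
      have hm := ((mem_autGroup_iff hUN (α : MulAut U)).1 α.2).isMap
      refine ⟨((α : MulAut U) z).2, mem_centralizer_of_conj_eq fun a ha => ?_⟩
      obtain ⟨w, hw, rfl⟩ := (hadm2 hm hAU).image_eq.ge ha
      show (((α : MulAut U) z : U) : Ω) * autFun (α : MulAut U) w * (((α : MulAut U) z : U) : Ω)⁻¹ = _
      rw [show (((α : MulAut U) z : U) : Ω) = autFun (α : MulAut U) z from (autFun_coe _ _).symm,
        ← hm.map_conj z.2 (hAU hw), show (z : Ω) * w * (z : Ω)⁻¹ = w from conj_eq_self_of_mem_centralizer hz.2 hw]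
    have hfixed : ∀ α : G, (∀ a : U, (a : Ω) ∈ A → (α : MulAut U) a = a) →
        α ∈ (E2.autGroup U).subgroupOf G := by
      intro α hα
      set f := autFun (α : MulAut U)
      have hfi : IsIso F2 U U f := (mem_autGroup_iff hUN _).1 α.2
      have hfA : ∀ x ∈ A, f x = x := fun x hx => by
        rw [show f x = _ from autFun_apply _ (hAU hx), hα ⟨x, hAU hx⟩ hx]
      have hfF : IsMap F U f := by
        obtain ⟨-, -, g, hg, hgf, -⟩ :=
          (isMap_normalizerSystem_iff hF1s).1 (isMap_of_kSystem hfi.isMap)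
        exact (hg.mono le_sup_left).congr hgf
      have hδ : IsMap E U0 f := hcent U0 f hAU0 hU0c (hfF.mono inf_le_left) hfA
      have hf0 : ∀ x ∈ U0, f x ∈ U0 := fun x hx => by
        show autFun (α : MulAut U) x ∈ U0
        rw [autFun_apply _ (inf_le_left (b := Subgroup.centralizer (A : Set Ω)) hx)]
        exact hinv α ⟨x, hx.1⟩ hx
      have hδ1 : IsMap E1 U0 f := (isMap_normalizerSystem_iff hE1s).2
        ⟨hU0N, fun x hx => hU0N (hf0 x hx), f, by rwa [sup_eq_left.2 hAU0], fun _ _ => rfl,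
          by rw [Set.image_congr hfA, Set.image_id']⟩
      have hδ2 : IsMap E2 U0 f := isMap_kSystem_iff.2 ⟨hδ1, f, by rwa [sup_eq_left.2 hAU0],
        fun _ _ => rfl, 1, one_mem _, fun x hx => by rw [hfA x hx, autFun_apply _ hx]; rfl⟩
      obtain ⟨ψ, hψ, hψv⟩ := (isReceptive_iff.1
        (isReceptive_of_isFullyCentralized hNp hE2 hU0fc)).2 U0 f (hδ2.isIso_of_card_le hf0 le_rfl)
      have hUψ : U ≤ nPhi N U0 f := fun u hu => ⟨hUN hu, (hU0n hu).2, f u,
        hfi.le_right (hfi.mem hu), fun x hx => hfi.isMap.map_conj hu hx.1⟩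
      have hψU : ∀ u ∈ U, ψ u ∈ U := by
        intro u hu
        have h1 : (f u)⁻¹ * ψ u ∈ centralizerIn N U0 := by
          refine ⟨N.mul_mem (N.inv_mem (hfi.le_right (hfi.mem hu))) (hψ.mem (hUψ hu)),
            mul_inv_mem_centralizer fun w hw => ?_⟩
          obtain ⟨x, hx, rfl⟩ := (hδ2.isIso_of_card_le hf0 le_rfl).surj hw
          have hcj : u * x * u⁻¹ ∈ U0 := conj_mem_of_mem_normalizer (hU0n hu).2 hx
          rw [← hfi.isMap.map_conj hu hx.1, ← hψv x hx, ← hψ.map_conj (hUψ hu) (hUψ hx.1),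
            hψv _ hcj]
        have := mul_mem (hfi.mem hu) (hcU h1)
        rwa [mul_inv_cancel_left] at this
      have hψi : IsIso E2 U U ψ := (hψ.mono hUψ).isIso_of_card_le hψU le_rfl
      obtain ⟨β, hβ, hβv⟩ := exists_mem_autGroup hψi
      have hβF : β ∈ G := (mem_autGroup_iff hUN β).2
        (((mem_autGroup_iff hUN β).1 hβ).of_subsystem hsub)
      have hst : (⟨β, hβF⟩ : G)⁻¹ * α ∈ (R : Subgroup G) := by
        refine le_sylow_of_normal R (stab_normal G (U0.subgroupOf U) hinv)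
          (stab_pgroup G (hNp.to_le hUN) _) ?_
        have hfixU0 : ∀ z ∈ U0.subgroupOf U, (α : MulAut U) z = β z := fun z hz => by
          refine Subtype.ext ?_
          rw [hβv, hψv (z : Ω) hz]
          exact (autFun_coe _ z).symm
        refine ⟨fun z hz => ?_, fun u => ?_⟩
        · show β⁻¹ ((α : MulAut U) z) = z
          rw [hfixU0 z hz, MulAut.inv_apply_self]
        · have hγ : ∀ a : U, (a : Ω) ∈ A → (((⟨β, hβF⟩ : G)⁻¹ * α : G) : MulAut U) a = a := fun a ha => by
            show β⁻¹ ((α : MulAut U) a) = a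
            rw [hfixU0 a (hAU0 ha), MulAut.inv_apply_self]
          set γ := (((⟨β, hβF⟩ : G)⁻¹ * α : G) : MulAut U)
          refine ⟨(u⁻¹ * γ u : U).2, mem_centralizer_of_conj_eq fun a ha => ?_⟩
          have hca : u * (⟨a, hAU ha⟩ : U) * u⁻¹ = ⟨(u : Ω) * a * (u : Ω)⁻¹,
              mul_mem (mul_mem u.2 (hAU ha)) (InvMemClass.inv_mem u.2)⟩ := rfl
          have h2 := congrArg γ hca
          rw [map_mul, map_mul, map_inv, hγ ⟨a, hAU ha⟩ ha,
            hγ ⟨(u : Ω) * a * (u : Ω)⁻¹, mul_mem (mul_mem u.2 (hAU ha)) (InvMemClass.inv_mem u.2)⟩ (conj_mem_of_mem_normalizer (hUN u.2).2 ha)] at h2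
          have h3 := congrArg Subtype.val h2
          simp only [Subgroup.coe_mul, Subgroup.coe_inv] at h3 ⊢
          calc (u : Ω)⁻¹ * (γ u : Ω) * a * ((u : Ω)⁻¹ * (γ u : Ω))⁻¹
              = (u : Ω)⁻¹ * ((γ u : Ω) * a * (γ u : Ω)⁻¹) * u := by group
            _ = a := by rw [h3]; group
      have := mul_mem (show (⟨β, hβF⟩ : G) ∈ (E2.autGroup U).subgroupOf G from hβ) (hRH hst)
      rwa [mul_inv_cancel_left] at this
    intro α hα
    have htop : (E2.autGroup U).subgroupOf G = ⊤ := by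
      refine eq_top_of_sylow_coprime R _ hRH fun γ hγ => hfixed γ fun a ha => ?_
      have hm := ((mem_autGroup_iff hUN (γ : MulAut U)).1 γ.2).isMap
      obtain ⟨κ, hκ, hκv⟩ := hadm2 hm hAU
      have hb : ∀ b : A, (γ : MulAut U) ⟨b, hAU b.2⟩ = ⟨κ b, hAU (κ b).2⟩ := fun b => Subtype.ext (by
        rw [← autFun_coe (γ : MulAut U), hκv b b.2, autFun_coe])
      have hiter : ∀ (n : ℕ) (b : A), ((γ : MulAut U) ^ n) ⟨b, hAU b.2⟩ = ⟨(κ ^ n) b, hAU ((κ ^ n) b).2⟩ := by
        intro n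
        induction n with
        | zero => intro b; rfl
        | succ n ih => intro b; rw [pow_succ, MulAut.mul_apply, hb, ih (κ b)]; rfl
      have hk1 : κ ^ orderOf (γ : MulAut U) = 1 := MulEquiv.ext fun b => Subtype.ext (by
        have := congrArg Subtype.val (hiter (orderOf (γ : MulAut U)) b)
        rw [pow_orderOf_eq_one] at this
        exact this.symm)
      obtain ⟨k, hk⟩ := isPGroup_autInducedBy hNp A ⟨κ, hκ⟩
      have hκ1 : κ = 1 := by
        have hcp : Nat.Coprime (orderOf (γ : MulAut U)) (p ^ k) :=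
          Nat.Coprime.pow_right _ (by rwa [Subgroup.orderOf_coe])
        have := pow_gcd_eq_one.2 ⟨hk1, (congrArg Subtype.val hk : κ ^ p ^ k = 1)⟩
        rwa [hcp.gcd_eq_one, pow_one] at this
      have := hb ⟨a, ha⟩
      rw [hκ1] at this
      exact this
    exact (htop ▸ Subgroup.mem_top _ : (⟨α, hα⟩ : G) ∈ (E2.autGroup U).subgroupOf G)
  have himg : g '' (A : Set Ω) = A := by rw [Set.image_congr hfix, Set.image_id']
  have hg2 : IsMap F2 P g := by
    have hg1 : IsMap F1 P g := (isMap_normalizerSystem_iff hF1s).2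
      ⟨hPN, fun x hx => hg.mem_normalizerIn hAP ⟨hg.mono hAP, himg⟩ hx (hPN hx).2,
        g, by rwa [sup_eq_left.2 hAP], fun _ _ => rfl, himg⟩
    exact isMap_kSystem_iff.2 ⟨hg1, g, by rwa [sup_eq_left.2 hAP], fun _ _ => rfl, 1, one_mem _,
      fun x hx => by rw [hfix x hx, autFun_apply _ hx]; rfl⟩
  obtain ⟨-, -, g', hg', hgg, -⟩ := (isMap_normalizerSystem_iff hE1s).1
    (isMap_of_kSystem (le_of_autGroup_le hNp hF2 hauto P g hg2))
  exact (hg'.mono le_sup_left).congr hgg

/-- The control theorem. -/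
theorem isMap_of_small_control : ∀ (n : ℕ) {S : Subgroup Ω} [Finite S] {E F : FusionSystem S}
    {T : Subgroup Ω}, Nat.card S = n → IsPGroup p S → E.IsSaturated p → F.IsSaturated p →
    E.IsSubsystemOf F → F.StronglyClosed T → Disp F p T → Ctrl E F p T →
    ∀ (P : Subgroup Ω) (f : Ω → Ω), IsMap F P f → IsMap E P f := by
  intro n
  induction n using Nat.strong_induction_on with
  | _ n ih =>
  intro S _ E F T hn hS hE hF hEF hT hTd hctrl
  -- centraliser systems
  have hcentsys : ∀ A : Subgroup Ω, A ≤ T → Small p A → F.IsFullyNormalized A →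
      ¬ A ≤ Subgroup.centralizer (S : Set Ω) → CentOK E F A := by
    intro A hAT hAs hA hAc
    have hAS := hA.1
    set N := centralizerIn S A
    have hNS : N ≤ S := inf_le_left
    haveI := finite_of_le hNS
    have hlt : Nat.card N < n := by
      refine hn ▸ lt_of_le_of_ne (Subgroup.card_le_of_le hNS) fun h => hAc fun a ha s hs => ?_
      have : s ∈ N := (Subgroup.eq_of_le_of_card_ge hNS h.ge).ge hs
      exact (this.2 a ha).symm
    have hFs : F.IsCentralizerSystem A (centralizerSystem F A hAS) := fun _ => rfl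
    have hEs : E.IsCentralizerSystem A (centralizerSystem E A hAS) := fun _ => rfl
    have hfc := isFullyCentralized_of_isFullyNormalized hS hF hA
    set F' := centralizerSystem F A hAS
    set E' := centralizerSystem E A hAS
    have hFE : ∀ {B : Subgroup Ω} {f : Ω → Ω}, IsMap F' B f → IsMap F B f := fun {B f} hf => by
      obtain ⟨-, -, g, hg, hgf, -⟩ := (isMap_centralizerSystem_iff hFs).1 hf
      exact (hg.mono le_sup_left).congr hgf
    have hsub : E'.IsSubsystemOf F' := fun B φ hφ => by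
      obtain ⟨h1, h2, g, hg, hgf, hgA⟩ := (isMap_centralizerSystem_iff hEs).1 (isMap_homFun hφ)
      exact (mem_hom_iff φ).2 ((isMap_centralizerSystem_iff hFs).2
        ⟨h1, h2, g, isMap_of_subsystem hEF hg, hgf, hgA⟩)
    have hT' : F'.StronglyClosed (T ⊓ N) := stronglyClosed_iff.2 ⟨inf_le_right, fun B f hf x hx hxT =>
      ⟨isMap_mem_of_stronglyClosed hT (hFE hf) hx hxT.1, hf.mem hx⟩⟩
    have hd' : Disp F' p (T ⊓ N) := fun B hB β hβ hcop x =>
      ⟨hTd B (hB.trans hNS) β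
        (mem_autGroup_of_isMap (hFE ((mem_autGroup_iff hB β).1 hβ).isMap) β fun y => (autFun_coe β y).symm)
        hcop x, hB (x⁻¹ * β x).2⟩
    have hc' : Ctrl E' F' p (T ⊓ N) := fun B f hB hBs hf => by
      obtain ⟨h1, h2, g, hg, hgf, hgA⟩ := (isMap_centralizerSystem_iff hFs).1 hf
      refine (isMap_centralizerSystem_iff hEs).2 ⟨h1, h2, g, ?_, hgf, hgA⟩
      exact hctrl _ g (sup_le (hB.trans inf_le_left) hAT)
        (hBs.sup hAs fun b hb a ha => ((h1 hb).2 a ha).symm) hg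
    intro P g hAP hPN hg hfix
    have h' : IsMap F' P g := (isMap_centralizerSystem_iff hFs).2
      ⟨hPN, fun x hx => ⟨hg.mem hx, fun a ha => by
        have := congrArg g ((hPN hx).2 a ha)
        rwa [hg.map_mul (hAP ha) hx, hg.map_mul hx (hAP ha), hfix a ha] at this⟩,
        g, by rwa [sup_eq_left.2 hAP], fun _ _ => rfl, hfix⟩
    obtain ⟨-, -, g', hg', hgg, -⟩ := (isMap_centralizerSystem_iff hEs).1
      (ih _ hlt rfl (hS.to_le hNS) (isSaturated_centralizerSystem hS hF hfc hFs |> fun _ =>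
        isSaturated_centralizerSystem hS hE
          (isFullyCentralized_of_isFullyNormalized hS hE (isFullyNormalized_sub hEF hA)) hEs)
        (isSaturated_centralizerSystem hS hF hfc hFs) hsub hT' hd' hc' P g h')
    exact (hg'.mono le_sup_left).congr hgg
  -- the small central elements in `T`
  let Z : Subgroup Ω :=
    { carrier := {z | z ∈ S ∧ z ∈ T ∧ z ∈ Subgroup.centralizer (S : Set Ω) ∧
        z ^ CfsgLib.OddOmega.omegaExp p = 1}
      one_mem' := ⟨one_mem _, one_mem _, one_mem _, one_pow _⟩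
      mul_mem' := fun {a b} ha hb => ⟨mul_mem ha.1 hb.1, mul_mem ha.2.1 hb.2.1,
        mul_mem ha.2.2.1 hb.2.2.1, by
          rw [Commute.mul_pow (show Commute a b from (ha.2.2.1 b hb.1).symm), ha.2.2.2, hb.2.2.2, one_mul]⟩
      inv_mem' := fun {a} ha => ⟨InvMemClass.inv_mem ha.1, InvMemClass.inv_mem ha.2.1, InvMemClass.inv_mem ha.2.2.1, by
        rw [inv_pow, ha.2.2.2, inv_one]⟩ }
  have hZS : Z ≤ S := fun z hz => hz.1
  have hZT : Z ≤ T := fun z hz => hz.2.1
  have hZc : ∀ z ∈ Z, ∀ s ∈ S, z * s = s * z := fun z hz s hs => (hz.2.2.1 s hs).symm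
  have hZs : Small p Z := ⟨fun a ha b hb => hZc a ha b hb.1, fun a ha => ha.2.2.2⟩
  have hTS : T ≤ S := hT.1
  -- moving small normal subgroups
  have hmove : ∀ (A P : Subgroup Ω) (f : Ω → Ω), A ≤ T → Small p A →
      ¬ A ≤ Subgroup.centralizer (S : Set Ω) → A ≤ P →
      (∀ x ∈ P, ∀ a ∈ A, x * a * x⁻¹ ∈ A) → Z ≤ P → IsMap F P f → IsMap E P f := by
    intro A₁ P f hA₁T hA₁s hA₁c hA₁P hA₁n hZP hf
    set A := A₁ ⊔ Z with hAdef
    have hPS := hf.le
    have hAT : A ≤ T := sup_le hA₁T hZT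
    have hAs : Small p A := hA₁s.sup hZs fun a ha z hz => (hZc z hz a (hTS (hA₁T ha))).symm
    have hAP : A ≤ P := sup_le hA₁P hZP
    have hAn : ∀ x ∈ P, ∀ a ∈ A, x * a * x⁻¹ ∈ A := fun x hx a ha => by
      have : A ≤ A.comap (MulAut.conj x).toMonoidHom :=
        sup_le (fun b hb => Subgroup.mem_sup_left (hA₁n x hx b hb)) fun z hz => by
          show x * z * x⁻¹ ∈ A
          rw [← hZc z hz x (hPS hx), mul_inv_cancel_right]
          exact Subgroup.mem_sup_right hz
      exact this ha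
    obtain ⟨B, hB⟩ := (hf.mono hAP).exists_iso
    obtain ⟨A0, hA0c, hA0⟩ := exists_isFullyNormalized (F := F) (hAP.trans hPS)
    obtain ⟨a, ha⟩ := isConj_iff.1 hA0c
    have hA0T : A0 ≤ T := fun y hy => by
      obtain ⟨x, hx, rfl⟩ := ha.surj hy
      exact isMap_mem_of_stronglyClosed hT ha.isMap hx (hAT hx)
    have hA0s := hAs.image ha
    have hA0nc : ¬ A0 ≤ Subgroup.centralizer (S : Set Ω) := by
      intro hc
      have hle : A0 ≤ Z := fun y hy => ⟨hA0.1 hy, hA0T hy, hc hy, hA0s.2 y hy⟩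
      haveI := finite_of_le (hAP.trans hPS)
      haveI := finite_of_le hZS
      refine hA₁c fun x hx => ?_
      have : A ≤ Z := (Subgroup.eq_of_le_of_card_ge (le_sup_right : Z ≤ A)
        (ha.card_eq.ge.trans (Subgroup.card_le_of_le hle))).ge
      exact (this (Subgroup.mem_sup_left hx)).2.2.1
    have hEn := isFullyNormalized_sub hEF hA0
    have htrans : ∀ A' : Subgroup Ω, A' ≤ T → Small p A' → F.IsConj A' A0 →
        ∃ h, IsMap E (normalizerIn S A') h ∧ IsIso E A' A0 h ∧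
          ∀ g ∈ normalizerIn S A', h g ∈ normalizerIn S A0 := by
      intro A' hA'T hA's hc
      obtain ⟨b, hb⟩ := isConj_iff.1 hc
      obtain ⟨h, h1, h2, h3, -⟩ := exists_map_normalizerIn hS
        (isFullyAutomized_of_isFullyNormalized hS hE hEn) (isReceptive_of_isFullyNormalized hS hE hEn)
        (IsIso.isConj (⟨hctrl A' b hA'T hA's hb.isMap, hb.image_eq⟩ : IsIso E A' A0 b))
      exact ⟨h, h1, h2, h3⟩
    obtain ⟨h, hh, hhA, hhN⟩ := htrans A hAT hAs hA0c
    obtain ⟨h₁, hh₁, hh₁A, hh₁N⟩ := htrans B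
      (fun y hy => by
        obtain ⟨x, hx, rfl⟩ := hB.surj hy
        exact isMap_mem_of_stronglyClosed hT hB.isMap hx (hAT hx))
      (hAs.image hB) (isConj_trans (isConj_symm hB.isConj) hA0c)
    have hPN : P ≤ normalizerIn S A := fun x hx =>
      ⟨hPS hx, mem_normalizer_of_conj_mem (hAP.trans hPS) (hAn x hx)⟩
    have hfN : ∀ x ∈ P, f x ∈ normalizerIn S B := fun x hx =>
      hf.mem_normalizerIn hAP hB hx (hPN hx).2
    obtain ⟨P1, hP1⟩ := (hh.mono hPN).exists_iso
    obtain ⟨k, hk, hk1, hk2⟩ := hP1.exists_symm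
    set g := h₁ ∘ f ∘ k
    have hg : IsMap F P1 g :=
      ((isMap_of_subsystem hEF hk.isMap).comp hf fun x hx => hk.mem hx).comp
        (isMap_of_subsystem hEF hh₁) fun x hx => hfN _ (hk.mem hx)
    have hA0P1 : A0 ≤ P1 := fun y hy => by
      obtain ⟨x, hx, rfl⟩ := hhA.surj hy
      exact hP1.mem (hAP hx)
    have hgA : ∀ y ∈ A0, g y ∈ A0 := fun y hy => by
      obtain ⟨x, hx, rfl⟩ := hhA.surj hy
      show h₁ (f (k (h x))) ∈ A0
      rw [hk1 x (hAP hx)]
      exact hh₁A.mem (hB.mem hx)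
    haveI := finite_of_le hA0.1
    have he : IsIso E A0 A0 g :=
      (hctrl A0 g hA0T hA0s (hg.mono hA0P1)).isIso_of_card_le hgA le_rfl
    have hP1N : P1 ≤ normalizerIn S A0 := fun y hy => by
      obtain ⟨x, hx, rfl⟩ := hP1.surj hy
      exact hhN x (hPN hx)
    obtain ⟨ψ, hψ, hψv⟩ := (isReceptive_iff.1 (isReceptive_of_isFullyNormalized hS hE hEn)).2 A0 g he
    have hP1ψ : P1 ≤ nPhi S A0 g := fun y hy => ⟨(hP1N hy).1, (hP1N hy).2, g y, hg.mem hy,
      fun x hx => hg.map_conj hy (hA0P1 hx)⟩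
    obtain ⟨P2, hP2⟩ := (hψ.mono hP1ψ).exists_iso
    obtain ⟨ψ', hψ', hψ1, hψ2⟩ := hP2.exists_symm
    have hc : IsMap F P2 (g ∘ ψ') := (isMap_of_subsystem hEF hψ'.isMap).comp hg fun x hx => hψ'.mem hx
    have hA0P2 : A0 ≤ P2 := fun y hy => by
      obtain ⟨x, hx, rfl⟩ := he.surj hy
      rw [← hψv x hx]
      exact hP2.mem (hA0P1 hx)
    have hfix : ∀ y ∈ A0, (g ∘ ψ') y = y := fun y hy => by
      obtain ⟨x, hx, rfl⟩ := he.surj hy
      show g (ψ' (g x)) = g x
      conv_lhs => rw [← hψv x hx, hψ1 x (hA0P1 hx)]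
    have hP2N : P2 ≤ normalizerIn S A0 := fun y hy => by
      obtain ⟨x, hx, rfl⟩ := hP2.surj hy
      exact (hψ.mono hP1ψ).mem_normalizerIn hA0P1
        (he.congr fun z hz => (hψv z hz).symm) hx (hP1N hx).2
    have hcE := mem_of_fixes hS hE hF hEF hA0 hA0s.1 (hcentsys A0 hA0T hA0s hA0 hA0nc) hA0P2
      hP2N hc hfix
    have hgE : IsMap E P1 g := (hP2.isMap.comp hcE fun x hx => hP2.mem hx).congr fun x hx => by
      show g (ψ' (ψ x)) = g x
      rw [hψ1 x hx]
    -- back to `P`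
    obtain ⟨Pf, hPf⟩ := hf.exists_iso
    obtain ⟨P3, hP3⟩ := (hh₁.mono (show Pf ≤ normalizerIn S B from fun y hy => by
      obtain ⟨x, hx, rfl⟩ := hPf.surj hy
      exact hfN x hx)).exists_iso
    obtain ⟨k₁, hk₁, hk₁1, -⟩ := hP3.exists_symm
    have hmem : ∀ x ∈ P, g (h x) ∈ P3 := fun x hx => by
      show h₁ (f (k (h x))) ∈ P3
      rw [hk1 x hx]
      exact hP3.mem (hPf.mem hx)
    exact (((hh.mono hPN).comp hgE fun x hx => hP1.mem hx).comp hk₁.isMap hmem).congr fun x hx => by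
      show k₁ (h₁ (f (k (h x)))) = f x
      rw [hk1 x hx, hk₁1 _ (hPf.mem hx)]
  -- when there is no small normal subgroup to move
  have hrest : ∀ P : Subgroup Ω, P ≤ S → ¬ (∃ A : Subgroup Ω, A ≤ T ∧ Small p A ∧
      ¬ A ≤ Subgroup.centralizer (S : Set Ω) ∧ A ≤ P ∧ ∀ x ∈ P, ∀ a ∈ A, x * a * x⁻¹ ∈ A) →
      ∀ α ∈ F.autGroup P, (orderOf α).Coprime p → (∀ a : P, (a : Ω) ∈ Z → α a = a) → α = 1 := by
    intro P hP hno α hα hcop hfix
    refine eq_one_of_fixes_normal_small hS hT hTd hP hα hcop fun A hAP hAT hAs hAn a ha => hfix a ?_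
    refine ⟨hP a.2, hAT ha, ?_, hAs.2 _ ha⟩
    by_contra hc
    exact hno ⟨A, hAT, hAs, fun h => hc (h ha), hAP, hAn⟩
  have hZP : ∀ {P : Subgroup Ω}, F.IsCentric P → Z ≤ P := fun {P} hP z hz =>
    hP.2 P (isConj_refl hP.1) ⟨hz.1, fun y hy => (hZc z hz y (hP.1 hy)).symm⟩
  have hScen : F.IsCentric S := ⟨le_rfl, fun Q hQ => by
    obtain ⟨f, hf⟩ := isConj_iff.1 hQ
    rw [Subgroup.eq_of_le_of_card_ge hf.le_right hf.card_eq.ge]
    exact inf_le_left⟩
  -- maps fixing `Z`
  have hfixZ : CentOK E F Z := by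
    set N := centralizerIn S Z
    have hNS : S ≤ N := fun s hs => ⟨hs, fun z hz => hZc z hz s hs⟩
    have hNle : N ≤ S := inf_le_left
    haveI : Finite N := finite_of_le hNle
    have hNp : IsPGroup p N := hS.to_le inf_le_left
    have hFs : F.IsCentralizerSystem Z (centralizerSystem F Z hZS) := fun _ => rfl
    have hEs : E.IsCentralizerSystem Z (centralizerSystem E Z hZS) := fun _ => rfl
    have hfc : F.IsFullyCentralized Z := ⟨hZS, fun Q _ =>
      Subgroup.card_le_of_le (inf_le_left.trans hNS)⟩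
    have hF' := isSaturated_centralizerSystem hS hF hfc hFs
    intro P g hZP' hPN hg hfix
    have hauto : ∀ U : Subgroup Ω, (U = N ∨ (centralizerSystem F Z hZS).IsEssential p U) →
        (centralizerSystem F Z hZS).autGroup U ≤ (centralizerSystem E Z hZS).autGroup U := by
      intro U hU
      have hUn : (centralizerSystem F Z hZS).IsFullyNormalized U := by
        rcases hU with rfl | h
        · haveI : Finite ↥(normalizerIn N N) := finite_of_le (S := N) inf_le_left
          exact ⟨le_rfl, fun Q _ => Subgroup.card_le_of_le (inf_le_left.trans (le_normalizerIn le_rfl))⟩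
        · exact h.2.1
      have hUN := hUn.1
      have hUS : U ≤ S := hUN.trans inf_le_left
      haveI := finite_of_le hUN
      haveI := finite_mulAut U
      have hZU : Z ≤ U := by
        rcases hU with rfl | h
        · exact fun z hz => hNS hz.1
        · exact fun z hz => h.1.2 U (isConj_refl hUN)
            ⟨hNS hz.1, fun y hy => (hZc z hz y (hUS hy)).symm⟩
      intro α hα
      have hαi := (mem_autGroup_iff hUN α).1 hα
      obtain ⟨-, -, g', hg', hgg, hgZ⟩ := (isMap_centralizerSystem_iff hFs).1 hαi.isMap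
      have hαF : IsMap F U (autFun α) := (hg'.mono le_sup_left).congr hgg
      have hαZ : ∀ x ∈ Z, autFun α x = x := fun x hx => (hgg x (hZU hx)).symm.trans (hgZ x hx)
      by_cases hA : ∃ A : Subgroup Ω, A ≤ T ∧ Small p A ∧
        ¬ A ≤ Subgroup.centralizer (S : Set Ω) ∧ A ≤ U ∧ ∀ x ∈ U, ∀ a ∈ A, x * a * x⁻¹ ∈ A
      · obtain ⟨A, hAT, hAs, hAc, hAU, hAn⟩ := hA
        have := hmove A U _ hAT hAs hAc hAU hAn hZU hαF
        refine mem_autGroup_of_isMap ((isMap_centralizerSystem_iff hEs).2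
          ⟨hUN, fun x hx => hUN (autFun_mem α hx), autFun α, by rwa [sup_eq_left.2 hZU],
            fun _ _ => rfl, hαZ⟩) α fun x => (autFun_coe α x).symm
      · obtain ⟨R, hR⟩ := (isFullyAutomized_of_isFullyNormalized hNp hF' hUn).2
        have htop : ((centralizerSystem E Z hZS).autGroup U).subgroupOf
            ((centralizerSystem F Z hZS).autGroup U) = ⊤ := by
          refine eq_top_of_sylow_coprime R _ (by rw [hR]; exact fun β hβ => autInducedBy_le_autGroup hUN hβ)
            fun γ hγ => ?_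
          have hγi := (mem_autGroup_iff hUN (γ : MulAut U)).1 γ.2
          obtain ⟨-, -, g'', hg'', hgg', hgZ'⟩ := (isMap_centralizerSystem_iff hFs).1 hγi.isMap
          have : (γ : MulAut U) = 1 := hrest U hUS hA _
            (mem_autGroup_of_isMap ((hg''.mono le_sup_left).congr hgg') _ fun x => (autFun_coe _ x).symm)
            (by rwa [Subgroup.orderOf_coe]) fun a ha => Subtype.ext (by
              rw [← autFun_coe (γ : MulAut U), ← hgg' _ a.2, hgZ' _ ha])
          rw [Subgroup.mem_subgroupOf, this]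
          exact one_mem _
        exact (htop ▸ Subgroup.mem_top _ : (⟨α, hα⟩ : (centralizerSystem F Z hZS).autGroup U) ∈
          ((centralizerSystem E Z hZS).autGroup U).subgroupOf _)
    obtain ⟨-, -, g', hg', hgg, -⟩ := (isMap_centralizerSystem_iff hEs).1
      (le_of_autGroup_le hNp hF' hauto P g ((isMap_centralizerSystem_iff hFs).2
        ⟨hPN, fun x hx => hNS (hg.mem hx), g, by rwa [sup_eq_left.2 hZP'], fun _ _ => rfl, hfix⟩))
    exact (hg'.mono le_sup_left).congr hgg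
  refine le_of_autGroup_le hS hF fun P hP α hα => ?_
  have hPc : F.IsCentric P := by
    rcases hP with rfl | h
    · exact hScen
    · exact h.1
  have hPS := hPc.1
  have hZ := hZP hPc
  have hαi := (mem_autGroup_iff hPS α).1 hα
  refine mem_autGroup_of_isMap (?_ : IsMap E P (autFun α)) α fun x => (autFun_coe α x).symm
  by_cases hA : ∃ A : Subgroup Ω, A ≤ T ∧ Small p A ∧
    ¬ A ≤ Subgroup.centralizer (S : Set Ω) ∧ A ≤ P ∧ ∀ x ∈ P, ∀ a ∈ A, x * a * x⁻¹ ∈ A
  · obtain ⟨A, hAT, hAs, hAc, hAP, hAn⟩ := hA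
    exact hmove A P _ hAT hAs hAc hAP hAn hZ hαi.isMap
  obtain ⟨B, hB⟩ := (hαi.isMap.mono hZ).exists_iso
  have hBT : B ≤ T := fun y hy => by
    obtain ⟨x, hx, rfl⟩ := hB.surj hy
    exact isMap_mem_of_stronglyClosed hT hB.isMap hx (hZT hx)
  have hBZ : B ≤ Z := by
    intro y hy
    refine ⟨hB.le_right hy, hBT hy, ?_, (hZs.image hB).2 y hy⟩
    by_contra hc
    refine hA ⟨B, hBT, hZs.image hB, fun h => hc (h hy), fun w hw => ?_, fun x hx w hw => ?_⟩
    · obtain ⟨u, hu, rfl⟩ := hB.surj hw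
      exact hαi.mem (hZ hu)
    · obtain ⟨x', hx', rfl⟩ := hαi.surj hx
      obtain ⟨u, hu, rfl⟩ := hB.surj hw
      rw [← hαi.isMap.map_conj hx' (hZ hu), ← hZc u hu x' (hPS hx'), mul_inv_cancel_right]
      exact hB.mem hu
  haveI := finite_of_le hZS
  have he : IsIso E Z Z (autFun α) :=
    (hctrl Z _ hZT hZs (hαi.isMap.mono hZ)).isIso_of_card_le (fun x hx => hBZ (hB.mem hx)) le_rfl
  haveI : Finite ↥(normalizerIn S Z) := finite_of_le (S := S) inf_le_left
  have hEn : E.IsFullyNormalized Z := ⟨hZS, fun Q _ => Subgroup.card_le_of_le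
    (show normalizerIn S Q ≤ normalizerIn S Z from fun y hy => ⟨hy.1,
      mem_normalizer_of_conj_mem hZS fun z hz => by
        rwa [← hZc z hz y hy.1, mul_inv_cancel_right]⟩)⟩
  obtain ⟨ψ, hψ, hψv⟩ := (isReceptive_iff.1 (isReceptive_of_isFullyNormalized hS hE hEn)).2 Z _ he
  have hPψ : P ≤ nPhi S Z (autFun α) := fun y hy => ⟨hPS hy,
    mem_normalizer_of_conj_mem hZS (fun z hz => by
      rwa [← hZc z hz y (hPS hy), mul_inv_cancel_right]), 1, one_mem _, fun z hz => by
    rw [← hZc z hz y (hPS hy), mul_inv_cancel_right, one_mul, inv_one, mul_one]⟩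
  obtain ⟨P', hP'⟩ := (hψ.mono hPψ).exists_iso
  obtain ⟨ψ', hψ', hψ1, -⟩ := hP'.exists_symm
  have hc := hfixZ P' (autFun α ∘ ψ') (fun y hy => by
      obtain ⟨x, hx, rfl⟩ := he.surj hy
      rw [← hψv x hx]
      exact hP'.mem (hZ hx))
    (fun y hy => ⟨hP'.le_right hy, fun z hz => hZc z hz y (hP'.le_right hy)⟩)
    ((isMap_of_subsystem hEF hψ'.isMap).comp hαi.isMap fun x hx => hψ'.mem hx)
    fun y hy => by
      obtain ⟨x, hx, rfl⟩ := he.surj hy
      show autFun α (ψ' (autFun α x)) = autFun α x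
      conv_lhs => rw [← hψv x hx, hψ1 x (hZ hx)]
  exact (hP'.isMap.comp hc fun x hx => hP'.mem hx).congr fun x hx => by
    show autFun α (ψ' (ψ x)) = autFun α x
    rw [hψ1 x hx]

end CfsgLib.Fusion.SmallControl
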