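import Mathlib
import Cfsg.Agent.Lib.Fusion.SmallControl
import Cfsg.Agent.Lib.Fusion.Normal

/-!
Groups of automorphisms of an abelian `p`-group whose Sylow `p`-subgroup fixes a subgroup of index
`p` pointwise and acts trivially modulo it.
-/

set_option autoImplicit false
set_option linter.style.haveILetI false

namespace CfsgLib.Fusion.Transvections

open CfsgLib.Fusion CfsgLib.Fusion.SmallControl

variable {V : Type*} [CommGroup V] [Finite V] {p : ℕ} [hp : Fact p.Prime]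

/-- Automorphisms stabilising `1 ≤ D₁ ≤ D₂ ≤ V`. -/
def seriesStab (D₁ D₂ : Subgroup V) (hD : D₁ ≤ D₂) : Subgroup (MulAut V) :=
  haveI : Finite (MulAut V) :=
    Finite.of_injective (fun e : MulAut V => (e : V → V)) fun a b h => MulEquiv.ext (congrFun h)
  let M : Submonoid (MulAut V) :=
    { carrier := {α | (∀ x ∈ D₁, α x = x) ∧ (∀ x ∈ D₂, x⁻¹ * α x ∈ D₁) ∧ ∀ x, x⁻¹ * α x ∈ D₂}
      one_mem' := ⟨fun x _ => rfl, fun x _ => by simp, fun x => by simp⟩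
      mul_mem' := by
        rintro a b ⟨ha1, ha2, ha3⟩ ⟨hb1, hb2, hb3⟩
        have key : ∀ x, x⁻¹ * (a * b) x = (x⁻¹ * b x) * ((b x)⁻¹ * a (b x)) := fun x => by
          rw [MulAut.mul_apply, mul_assoc, mul_inv_cancel_left]
        refine ⟨fun x hx => by rw [MulAut.mul_apply, hb1 x hx, ha1 x hx], fun x hx => ?_, fun x => ?_⟩
        · have hbx : b x ∈ D₂ := by
            have := D₂.mul_mem hx (hD (hb2 x hx))
            rwa [mul_inv_cancel_left] at this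
          rw [key]
          exact D₁.mul_mem (hb2 x hx) (ha2 _ hbx)
        · rw [key]
          exact D₂.mul_mem (hb3 x) (ha3 _) }
  { M with
    inv_mem' := fun {a} ha => by
      have h : a⁻¹ = a ^ (orderOf a - 1) := by
        refine inv_eq_of_mul_eq_one_right ?_
        rw [← pow_succ', Nat.sub_add_cancel (orderOf_pos a), pow_orderOf_eq_one]
      rw [h]
      exact M.pow_mem ha _ }

theorem mem_seriesStab {D₁ D₂ : Subgroup V} {hD : D₁ ≤ D₂} {α : MulAut V} :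
    α ∈ seriesStab D₁ D₂ hD ↔
      (∀ x ∈ D₁, α x = x) ∧ (∀ x ∈ D₂, x⁻¹ * α x ∈ D₁) ∧ ∀ x, x⁻¹ * α x ∈ D₂ := Iff.rfl

theorem isPGroup_seriesStab (hV : IsPGroup p V) (D₁ D₂ : Subgroup V) (hD : D₁ ≤ D₂) :
    IsPGroup p (seriesStab D₁ D₂ hD) := by
  let L : ℕ → Subgroup V := fun i =>
    if i = 0 then ⊥ else if i = 1 then D₁ else if i = 2 then D₂ else ⊤
  refine isPGroup_of_stabilizes_series hV L 3 rfl rfl _ fun α hα i hi x hx => ?_
  obtain ⟨h1, h2, h3⟩ := mem_seriesStab.1 hα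
  match i, hi with
  | 0, _ => exact Subgroup.mem_bot.2 (by rw [h1 x hx, inv_mul_cancel])
  | 1, _ => exact h2 x hx
  | 2, _ => exact h3 x

/-- The main structure: one line, and an element inverting it and fixing a complement. -/
theorem exists_split (hV : IsPGroup p V) (G : Subgroup (MulAut V)) (Z L : Subgroup V)
    (hZ : Z.index = p) (hLZ : L ≤ Z) {y₀ : V} (hy₀ : y₀ ∉ Z) (U : Subgroup (MulAut V)) (hUG : U ≤ G)
    (hUfix : ∀ g ∈ U, ∀ z ∈ Z, g z = z) (hUdisp : ∀ g ∈ U, ∀ y, y⁻¹ * g y ∈ L)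
    (hUL : ∀ l ∈ L, ∃ g ∈ U, y₀⁻¹ * g y₀ = l) (hUstab : ∀ g ∈ G, (∀ z ∈ Z, g z = z) →
      (∀ y, y⁻¹ * g y ∈ Z) → g ∈ U)
    (hsyl : ∀ T : Subgroup (MulAut V), T ≤ G → IsPGroup p T →
      ∃ γ ∈ G, ∀ t ∈ T, γ * t * γ⁻¹ ∈ U)
    {β : MulAut V} (hβG : β ∈ G) (hβ : ¬ ∀ z ∈ Z, β z ∈ Z) (hU1 : U ≠ ⊥) :
    Nat.card L = p ∧ (Z ⊓ Z.map β.toMonoidHom) ⊓ L = ⊥ ∧ L ⊔ (Z ⊓ Z.map β.toMonoidHom) = Z ∧
      ∃ t ∈ G, (∀ l ∈ L, t l = l⁻¹) ∧ (∀ l ∈ L, t (β l) = (β l)⁻¹) ∧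
        (∀ x ∈ Z ⊓ Z.map β.toMonoidHom, t x = x) := by
  classical
  haveI : Finite (MulAut V) :=
    Finite.of_injective (fun e : MulAut V => (e : V → V)) fun a b h => MulEquiv.ext (congrFun h)
  have hpp := hp.out
  have hgen : ∀ y, y ∉ Z → Subgroup.zpowers y ⊔ Z = ⊤ := by
    intro y hy
    have hle : Z ≤ Subgroup.zpowers y ⊔ Z := le_sup_right
    rcases (Nat.dvd_prime hpp).1 (hZ ▸ Subgroup.index_dvd_of_le hle) with e | e
    · exact Subgroup.index_eq_one.1 e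
    · refine absurd (hle.antisymm ?_) fun e' => hy (e'.ge (Subgroup.mem_sup_left (Subgroup.mem_zpowers y)))
      have h1 := Subgroup.relIndex_mul_index hle
      rw [e, hZ] at h1
      exact Subgroup.relIndex_eq_one.1 (Nat.eq_of_mul_eq_mul_right hpp.pos (h1.trans (one_mul p).symm))
  -- nontrivial members of `U` fix nothing outside `Z`
  have hfix : ∀ g ∈ U, g ≠ 1 → ∀ y, g y = y → y ∈ Z := by
    intro g hg hg1 y hy
    by_contra hyZ
    refine hg1 (MulEquiv.ext fun v => ?_)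
    obtain ⟨a, ha, z, hz, rfl⟩ := Subgroup.mem_sup.1 ((hgen y hyZ).ge (Subgroup.mem_top v))
    obtain ⟨i, rfl⟩ := Subgroup.mem_zpowers_iff.1 ha
    rw [map_mul, map_zpow, hy, hUfix g hg z hz, MulAut.one_apply]
  have hdispL : ∀ g ∈ U, ∀ y, y⁻¹ * g y ∈ Subgroup.zpowers (y₀⁻¹ * g y₀) := by
    intro g hg y
    obtain ⟨a, ha, z, hz, rfl⟩ := Subgroup.mem_sup.1 ((hgen y₀ hy₀).ge (Subgroup.mem_top y))
    obtain ⟨i, rfl⟩ := Subgroup.mem_zpowers_iff.1 ha
    refine ⟨i, ?_⟩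
    show (y₀⁻¹ * g y₀) ^ i = _
    rw [map_mul, map_zpow, hUfix g hg z hz, mul_zpow, inv_zpow, mul_inv]
    rw [show (y₀ ^ i)⁻¹ * z⁻¹ * (g y₀ ^ i * z) = (y₀ ^ i)⁻¹ * g y₀ ^ i * (z⁻¹ * z) by ac_rfl,
      inv_mul_cancel, mul_one]
  -- key: a member of `U` does not move into the moved hyperplane
  have hkey : ∀ γ ∈ G, (¬ ∀ z ∈ Z, γ z ∈ Z) → ∀ l ∈ L, l ∈ Z.map γ.toMonoidHom → l = 1 := by
    intro γ hγ hγZ l hl hlγ
    by_contra hl1
    obtain ⟨g, hg, rfl⟩ := hUL l hl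
    have hg1 : g ≠ 1 := fun e => hl1 (by rw [e, MulAut.one_apply, inv_mul_cancel])
    obtain ⟨u, hu, hu1⟩ : ∃ u ∈ U, u ≠ 1 := by
      obtain ⟨⟨u, hu⟩, h⟩ := Subgroup.ne_bot_iff_exists_ne_one.1 hU1
      exact ⟨u, hu, fun e => h (Subtype.ext e)⟩
    set h := γ * u * γ⁻¹ with hh
    have hhfix : ∀ z ∈ Z, h (γ z) = γ z := fun z hz => by
      rw [hh, MulAut.mul_apply, MulAut.mul_apply, MulAut.inv_apply_self, hUfix u hu z hz]
    have hhdisp : ∀ y, y⁻¹ * h y ∈ Subgroup.zpowers (γ (y₀⁻¹ * u y₀)) := by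
      intro y
      obtain ⟨y, rfl⟩ := γ.surjective y
      obtain ⟨i, hi⟩ := Subgroup.mem_zpowers_iff.1 (hdispL u hu y)
      refine ⟨i, ?_⟩
      show γ _ ^ i = _
      rw [← map_zpow, hi, map_mul, map_inv, hh, MulAut.mul_apply, MulAut.mul_apply,
        MulAut.inv_apply_self]
    set a := y₀⁻¹ * g y₀ with ha
    set b := γ (y₀⁻¹ * u y₀) with hb
    have haZ : a ∈ Z := hLZ (hUdisp g hg y₀)
    have hgS : g ∈ seriesStab (Subgroup.zpowers a) (Subgroup.zpowers a ⊔ Subgroup.zpowers b) le_sup_left :=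
      mem_seriesStab.2 ⟨fun x hx => hUfix g hg x (Subgroup.zpowers_le.2 haZ hx),
        fun x _ => hdispL g hg x, fun x => Subgroup.mem_sup_left (hdispL g hg x)⟩
    have hhS : h ∈ seriesStab (Subgroup.zpowers a) (Subgroup.zpowers a ⊔ Subgroup.zpowers b) le_sup_left := by
      have hba : Subgroup.zpowers a ⊔ Subgroup.zpowers b ≤ Z.map γ.toMonoidHom :=
        sup_le (Subgroup.zpowers_le.2 hlγ)
          (Subgroup.zpowers_le.2 ⟨_, hLZ (hUdisp u hu y₀), rfl⟩)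
      have hfixb : ∀ x ∈ Z.map γ.toMonoidHom, h x = x := by
        rintro _ ⟨z, hz, rfl⟩
        exact hhfix z hz
      exact mem_seriesStab.2 ⟨fun x hx => hfixb x (hba (Subgroup.mem_sup_left hx)),
        fun x hx => by rw [hfixb x (hba hx), inv_mul_cancel]; exact one_mem _,
        fun x => Subgroup.mem_sup_right (hhdisp x)⟩
    obtain ⟨δ, hδ, hδc⟩ := hsyl (seriesStab (Subgroup.zpowers a) (Subgroup.zpowers a ⊔ Subgroup.zpowers b) le_sup_left ⊓ G)
      inf_le_right ((isPGroup_seriesStab hV _ _ _).to_le inf_le_left)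
    have hgc := hδc g (Subgroup.mem_inf.2 ⟨hgS, hUG hg⟩)
    have hhc := hδc h (Subgroup.mem_inf.2 ⟨hhS, G.mul_mem (G.mul_mem hγ (hUG hu)) (G.inv_mem hγ)⟩)
    have hg1' : δ * g * δ⁻¹ ≠ 1 := fun e => hg1 (conj_eq_one_iff.1 e)
    have hh1' : δ * h * δ⁻¹ ≠ 1 := fun e => hu1 (conj_eq_one_iff.1 (conj_eq_one_iff.1 e))
    refine hγZ fun z hz => ?_
    have h1 : δ (γ z) ∈ Z := hfix _ hhc hh1' _ (by
      rw [MulAut.mul_apply, MulAut.mul_apply, MulAut.inv_apply_self, hhfix z hz])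
    -- `δ` preserves `Z`
    have h2 : ∀ w ∈ Z, δ w ∈ Z := fun w hw => hfix _ hgc hg1' _ (by
      rw [MulAut.mul_apply, MulAut.mul_apply, MulAut.inv_apply_self, hUfix g hg w hw])
    have h3 : Z.map δ.toMonoidHom = Z := Subgroup.eq_of_le_of_card_ge
      (by rintro _ ⟨w, hw, rfl⟩; exact h2 w hw)
      (Subgroup.card_map_of_injective (MulEquiv.injective δ)).ge
    obtain ⟨w, hw, hwe⟩ := h3.ge h1
    rwa [← δ.injective hwe]
  set X := Z ⊓ Z.map β.toMonoidHom with hX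
  have hβinv : ¬ ∀ z ∈ Z, β⁻¹ z ∈ Z := by
    intro hall
    have h3 : Z.map (β⁻¹ : MulAut V).toMonoidHom = Z := Subgroup.eq_of_le_of_card_ge
      (by rintro _ ⟨w, hw, rfl⟩; exact hall w hw)
      (Subgroup.card_map_of_injective (MulEquiv.injective (β⁻¹ : MulAut V))).ge
    refine hβ fun z hz => ?_
    obtain ⟨w, hw, rfl⟩ := h3.ge hz
    show β (β⁻¹ w) ∈ Z
    rwa [MulAut.apply_inv_self]
  have hXL : X ⊓ L = ⊥ := by
    rw [Subgroup.eq_bot_iff_forall]
    rintro x ⟨⟨-, hxβ⟩, hxL⟩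
    exact hkey β hβG hβ x hxL hxβ
  -- orders
  have hβidx : (Z.map β.toMonoidHom).index = p := by
    rw [← hZ]
    exact Subgroup.index_map_equiv Z β
  have hquot : Nat.card L ≤ p := by
    refine le_of_le_of_eq (Nat.card_le_card_of_injective
      (fun l : L => (QuotientGroup.mk (l : V) : V ⧸ Z.map β.toMonoidHom)) fun l m e => ?_)
      (by rw [← Subgroup.index_eq_card, hβidx])
    have h1 : (l : V)⁻¹ * m ∈ Z.map β.toMonoidHom := QuotientGroup.eq.1 e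
    exact Subtype.ext (inv_mul_eq_one.1 (hkey β hβG hβ _ (L.mul_mem (L.inv_mem l.2) m.2) h1))
  obtain ⟨g, hg, hg1⟩ : ∃ u ∈ U, u ≠ 1 := by
    obtain ⟨⟨u, hu⟩, h⟩ := Subgroup.ne_bot_iff_exists_ne_one.1 hU1
    exact ⟨u, hu, fun e => h (Subtype.ext e)⟩
  set v := y₀⁻¹ * g y₀ with hv
  have hvL : v ∈ L := hUdisp g hg y₀
  have hv1 : v ≠ 1 := fun e => hy₀ (hfix g hg hg1 y₀ (inv_mul_eq_one.1 e).symm)
  have hLc : Nat.card L = p := by
    obtain ⟨k, hk⟩ := IsPGroup.iff_card.1 (hV.to_subgroup L)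
    rw [hk] at hquot ⊢
    rcases Nat.eq_zero_or_pos k with rfl | hk0
    · rw [pow_zero] at hk
      exact absurd ((Subgroup.eq_bot_of_card_eq L hk).le hvL) (by rwa [Subgroup.mem_bot])
    · exact le_antisymm hquot (Nat.le_self_pow hk0.ne' p)
  have hLgen : ∀ u, u ∈ L → u ≠ 1 → Subgroup.zpowers u = L := fun u hu hu1 => by
    refine Subgroup.eq_of_le_of_card_ge (Subgroup.zpowers_le.2 hu) ?_
    rw [hLc, Nat.card_zpowers]
    rcases (Nat.dvd_prime hpp).1 (hLc ▸ Subgroup.orderOf_dvd_natCard L hu) with e | e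
    · exact absurd (orderOf_eq_one_iff.1 e) hu1
    · rw [e]
  have hLX : L ⊔ X = Z := by
    refine le_antisymm (sup_le hLZ inf_le_left) fun z hz => ?_
    have h1 : L ⊔ Z.map β.toMonoidHom = ⊤ := by
      rcases (Nat.dvd_prime hpp).1 (hβidx ▸ Subgroup.index_dvd_of_le
        (le_sup_right : Z.map β.toMonoidHom ≤ L ⊔ Z.map β.toMonoidHom)) with e | e
      · exact Subgroup.index_eq_one.1 e
      · exfalso
        have h2 := Subgroup.relIndex_mul_index
          (le_sup_right : Z.map β.toMonoidHom ≤ L ⊔ Z.map β.toMonoidHom)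
        rw [e, hβidx] at h2
        exact hv1 (hkey β hβG hβ v hvL (Subgroup.relIndex_eq_one.1
          (Nat.eq_of_mul_eq_mul_right hpp.pos (h2.trans (one_mul p).symm)) (Subgroup.mem_sup_left hvL)))
    obtain ⟨l, hl, w, hw, rfl⟩ := Subgroup.mem_sup.1 (h1.ge (Subgroup.mem_top z))
    refine Subgroup.mul_mem_sup hl ⟨?_, hw⟩
    have := Z.mul_mem (Z.inv_mem (hLZ hl)) hz
    rwa [inv_mul_cancel_left] at this
  refine ⟨hLc, hXL, hLX, ?_⟩
  -- the second line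
  set w := β v with hw
  have hwZ : w ∉ Z := fun h => hv1 (hkey β⁻¹ (G.inv_mem hβG) hβinv v hvL
    ⟨w, h, by show β⁻¹ (β v) = v; exact MulAut.inv_apply_self _ _ _⟩)
  have hgw : g w ≠ w := fun e => hwZ (hfix g hg hg1 w e)
  set v' := w⁻¹ * g w with hv'
  have hv'L : v' ∈ L := hUdisp g hg w
  have hv'1 : v' ≠ 1 := fun e => hgw (inv_mul_eq_one.1 e).symm
  have hgw' : g w = w * v' := by rw [hv', mul_inv_cancel_left]
  obtain ⟨h, hh⟩ : ∃ h, h = β * g * β⁻¹ := ⟨_, rfl⟩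
  have hhfix : ∀ x ∈ Z.map β.toMonoidHom, h x = x := by
    rintro _ ⟨z, hz, rfl⟩
    show h (β z) = β z
    rw [hh, MulAut.mul_apply, MulAut.mul_apply, MulAut.inv_apply_self, hUfix g hg z hz]
  have hwβ : w ∈ Z.map β.toMonoidHom := ⟨v, hLZ hvL, rfl⟩
  have hhv : v' ⁻¹ * h v' ∈ Subgroup.zpowers w := by
    obtain ⟨y, hy⟩ := β.surjective v'
    obtain ⟨i, hi⟩ := Subgroup.mem_zpowers_iff.1 (hdispL g hg y)
    refine ⟨i, ?_⟩
    show w ^ i = _
    rw [← hy, hw, ← map_zpow, hi, hh, MulAut.mul_apply, MulAut.mul_apply, MulAut.inv_apply_self,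
      map_mul, map_inv]
  have hhv1 : v'⁻¹ * h v' ≠ 1 := by
    intro e
    obtain ⟨y, hy⟩ := β.surjective v'
    have h1 : g y = y := β.injective (by
      have := inv_mul_eq_one.1 e
      rw [← hy, hh, MulAut.mul_apply, MulAut.mul_apply, MulAut.inv_apply_self] at this
      exact this.symm)
    exact hv'1 (hkey β hβG hβ v' hv'L ⟨y, hfix g hg hg1 y h1, hy⟩)
  obtain ⟨u, hu⟩ : ∃ u, h v' = v' * u := ⟨v'⁻¹ * h v', by rw [mul_inv_cancel_left]⟩
  rw [hu, inv_mul_cancel_left] at hhv hhv1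
  obtain ⟨k, hk⟩ : ∃ k : ℕ, u ^ k = w⁻¹ := by
    have h1 : Subgroup.zpowers u = Subgroup.zpowers w := by
      refine Subgroup.eq_of_le_of_card_ge (Subgroup.zpowers_le.2 hhv) ?_
      rw [Nat.card_zpowers, Nat.card_zpowers]
      have hwo : orderOf w = p := by
        rw [hw, MulEquiv.orderOf_eq]
        rw [← Nat.card_zpowers, hLgen v hvL hv1, hLc]
      rcases (Nat.dvd_prime hpp).1 (hwo ▸ orderOf_dvd_of_mem_zpowers hhv) with e | e
      · exact absurd (orderOf_eq_one_iff.1 e) hhv1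
      · rw [e, hwo]
    have h2 : w⁻¹ ∈ Submonoid.powers u := by
      rw [mem_powers_iff_mem_zpowers, h1]
      exact Subgroup.inv_mem _ (Subgroup.mem_zpowers w)
    exact (Submonoid.mem_powers_iff _ _).1 h2
  have hb : ∀ m : ℕ, (h ^ m) w = w ∧ (h ^ m) v' = v' * u ^ m := by
    intro m
    induction m with
    | zero => simp
    | succ m ih =>
      have hhw := hhfix w hwβ
      have hhu : h u = u := by
        obtain ⟨i, rfl⟩ := Subgroup.mem_zpowers_iff.1 hhv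
        rw [map_zpow, hhw]
      rw [pow_succ', MulAut.mul_apply, MulAut.mul_apply, ih.1, ih.2, map_mul, map_pow, hu, hhu,
        hhw, mul_assoc, ← pow_succ']
      exact ⟨rfl, rfl⟩
  have hbk := hb k
  rw [hk] at hbk
  set b := h ^ k with hbdef
  have hbX : ∀ x ∈ X, b x = x := by
    intro x hx
    have hpow : ∀ m : ℕ, (h ^ m) x = x := by
      intro m
      induction m with
      | zero => rfl
      | succ m ih => rw [pow_succ', MulAut.mul_apply, ih, hhfix x hx.2]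
    exact hpow k
  have hgv : g v' = v' := hUfix g hg v' (hLZ hv'L)
  have h1 : (g * b * g) v' = w⁻¹ := by
    rw [MulAut.mul_apply, MulAut.mul_apply, hgv, hbk.2, map_mul, map_inv, hgv, hgw', mul_inv_rev,
      mul_inv_cancel_left]
  have h2 : (g * b * g) w = v' := by
    rw [MulAut.mul_apply, MulAut.mul_apply, hgw', map_mul, hbk.1, hbk.2, ← mul_assoc,
      mul_right_comm, mul_inv_cancel, one_mul, hgv]
  refine ⟨g * b * g * (g * b * g), ?_, fun l hl => ?_, fun l hl => ?_, fun x hx => ?_⟩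
  · have hG : g * b * g ∈ G := G.mul_mem (G.mul_mem (hUG hg) (by
      rw [hbdef, hh]
      exact G.pow_mem (G.mul_mem (G.mul_mem hβG (hUG hg)) (G.inv_mem hβG)) k)) (hUG hg)
    exact G.mul_mem hG hG
  · obtain ⟨i, rfl⟩ := Subgroup.mem_zpowers_iff.1 ((hLgen v' hv'L hv'1).ge hl)
    rw [MulAut.mul_apply, map_zpow (g * b * g), h1, inv_zpow, map_inv, map_zpow (g * b * g), h2]
  · obtain ⟨i, rfl⟩ := Subgroup.mem_zpowers_iff.1 ((hLgen v hvL hv1).ge hl)
    rw [map_zpow β, ← hw, MulAut.mul_apply, map_zpow (g * b * g), h2, map_zpow (g * b * g), h1,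
      inv_zpow]
  · have h3 : (g * b * g) x = x := by
      rw [MulAut.mul_apply, MulAut.mul_apply, hUfix g hg x hx.1, hbX x hx, hUfix g hg x hx.1]
    rw [MulAut.mul_apply, h3, h3]

end CfsgLib.Fusion.Transvections
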