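import Mathlib
import Cfsg.Agent.Lib.Fusion.Transvections
import Cfsg.Agent.Lib.Fusion.Normal

/-!
Saturated fusion systems over nonabelian `p`-groups with an abelian subgroup of index `p` which is
not essential: Oliver's structure theorem for systems with trivial core.
-/

set_option autoImplicit false
set_option linter.style.haveILetI false
set_option linter.unusedSectionVars false

namespace CfsgLib.Fusion.AbelianIndexP

open Cfsg Cfsg.FusionSystem CfsgLib.Fusion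
open scoped commutatorElement

variable {Ω : Type*} [Group Ω] {S : Subgroup Ω} {F : FusionSystem S} {p : ℕ}

/-- A nonabelian `p`-group `S` with an abelian subgroup `A` of index `p`. -/
structure Setting (S A : Subgroup Ω) (p : ℕ) : Prop where
  pgroup : IsPGroup p S
  le : A ≤ S
  comm : ∀ a ∈ A, ∀ b ∈ A, a * b = b * a
  index : (A.subgroupOf S).index = p
  nonabelian : ¬ ∀ a ∈ S, ∀ b ∈ S, a * b = b * a

variable {A : Subgroup Ω} [Finite S] [hpF : Fact p.Prime]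

/-- The centre of `S` inside the ambient group. -/
abbrev Zc (S : Subgroup Ω) : Subgroup Ω := S ⊓ Subgroup.centralizer (S : Set Ω)

omit [Finite S] in
theorem mem_Zc {z : Ω} : z ∈ Zc S ↔ z ∈ S ∧ ∀ s ∈ S, s * z = z * s :=
  ⟨fun h => ⟨h.1, fun s hs => Subgroup.mem_centralizer_iff.1 h.2 s hs⟩,
    fun h => Subgroup.mem_inf.2 ⟨h.1, Subgroup.mem_centralizer_iff.2 h.2⟩⟩

omit [Finite S] in
theorem conj_Zc {z s : Ω} (hz : z ∈ Zc S) (hs : s ∈ S) : s * z * s⁻¹ = z := by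
  rw [(mem_Zc.1 hz).2 s hs, mul_inv_cancel_right]

theorem normal_subgroupOf (h : Setting S A p) : (A.subgroupOf S).Normal := by
  obtain ⟨n, hn⟩ := IsPGroup.iff_card.1 h.pgroup
  refine Subgroup.normal_of_index_eq_minFac_card ?_
  rw [h.index, hn]
  rcases Nat.eq_zero_or_pos n with rfl | hn0
  · exfalso
    have := Subgroup.index_dvd_card (A.subgroupOf S)
    rw [h.index, hn, pow_zero] at this
    exact hpF.out.one_lt.ne' (Nat.dvd_one.1 this)
  · exact (Nat.Prime.pow_minFac hpF.out hn0.ne').symm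

theorem conj_mem (h : Setting S A p) {s a : Ω} (hs : s ∈ S) (ha : a ∈ A) : s * a * s⁻¹ ∈ A :=
  (normal_subgroupOf h).conj_mem ⟨a, h.le ha⟩ ha ⟨s, hs⟩

theorem conj_mem' (h : Setting S A p) {s a : Ω} (hs : s ∈ S) (ha : a ∈ A) : s⁻¹ * a * s ∈ A := by
  simpa using conj_mem h (S.inv_mem hs) ha

theorem pow_mem (h : Setting S A p) {x : Ω} (hx : x ∈ S) : x ^ p ∈ A := by
  have := normal_subgroupOf h
  have e : (QuotientGroup.mk ⟨x, hx⟩ : S ⧸ A.subgroupOf S) ^ p = 1 := by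
    rw [← h.index, Subgroup.index_eq_card]
    exact pow_card_eq_one'
  rw [← QuotientGroup.mk_pow, QuotientGroup.eq_one_iff] at e
  exact e

theorem exists_decomp (h : Setting S A p) {x : Ω} (hx : x ∈ S) (hxA : x ∉ A) {s : Ω} (hs : s ∈ S) :
    ∃ a ∈ A, ∃ i : ℤ, s = a * x ^ i := by
  have := normal_subgroupOf h
  have hK : A.subgroupOf S ⊔ Subgroup.zpowers (⟨x, hx⟩ : S) = ⊤ := by
    have hle : A.subgroupOf S ≤ A.subgroupOf S ⊔ Subgroup.zpowers (⟨x, hx⟩ : S) := le_sup_left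
    rcases (Nat.dvd_prime hpF.out).1 (h.index ▸ Subgroup.index_dvd_of_le hle) with e | e
    · exact Subgroup.index_eq_one.1 e
    · exfalso
      have h1 := Subgroup.relIndex_mul_index hle
      rw [e, h.index] at h1
      have h2 := Subgroup.relIndex_eq_one.1
        (Nat.eq_of_mul_eq_mul_right hpF.out.pos (h1.trans (one_mul p).symm))
      exact hxA (h2 (Subgroup.mem_sup_right (Subgroup.mem_zpowers (⟨x, hx⟩ : S))))
  have hmem : (⟨s, hs⟩ : S) ∈
      ((A.subgroupOf S ⊔ Subgroup.zpowers (⟨x, hx⟩ : S) : Subgroup S) : Set S) :=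
    hK.ge (Subgroup.mem_top _)
  rw [Subgroup.normal_mul] at hmem
  obtain ⟨a, ha, b, hb, e⟩ := hmem
  obtain ⟨i, rfl⟩ := Subgroup.mem_zpowers_iff.1 hb
  exact ⟨(a : Ω), ha, i, by simpa using (congrArg Subtype.val e).symm⟩

theorem Zc_le (h : Setting S A p) : Zc S ≤ A := by
  intro z hz
  by_contra hzA
  refine h.nonabelian fun a ha b hb => ?_
  obtain ⟨a', ha', i, rfl⟩ := exists_decomp h hz.1 hzA ha
  obtain ⟨b', hb', j, rfl⟩ := exists_decomp h hz.1 hzA hb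
  have hc : ∀ (c : Ω), c ∈ S → ∀ k : ℤ, Commute c (z ^ k) := fun c hc k =>
    Commute.zpow_right ((mem_Zc.1 hz).2 c hc) k
  have h1 : Commute a' b' := h.comm a' ha' b' hb'
  exact ((h1.mul_right (hc a' (h.le ha') j)).mul_left
    ((hc b' (h.le hb') i).symm.mul_right ((Commute.refl z).zpow_zpow i j))).eq

theorem mem_Zc_of_commute (h : Setting S A p) {x a : Ω} (hx : x ∈ S) (hxA : x ∉ A) (ha : a ∈ A)
    (hc : x * a = a * x) : a ∈ Zc S := by
  refine mem_Zc.2 ⟨h.le ha, fun s hs => ?_⟩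
  obtain ⟨b, hb, i, rfl⟩ := exists_decomp h hx hxA hs
  exact ((show Commute b a from h.comm b hb a ha).mul_left (Commute.zpow_left hc i)).eq

/-- For any `x` outside `A`, the derived subgroup of `S` consists of the commutators `[x, a]`. -/
theorem mem_derived (h : Setting S A p) {x : Ω} (hx : x ∈ S) (hxA : x ∉ A) {c : Ω} :
    c ∈ ⁅S, S⁆ ↔ ∃ a ∈ A, c = x * a * x⁻¹ * a⁻¹ := by
  refine ⟨fun hc => ?_, fun ⟨a, ha, e⟩ => e ▸ ?_⟩
  swap
  · rw [← commutatorElement_def]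
    exact Subgroup.commutator_mem_commutator hx (h.le ha)
  let D : Subgroup Ω :=
    { carrier := {c | ∃ a ∈ A, c = x * a * x⁻¹ * a⁻¹}
      one_mem' := ⟨1, A.one_mem, by group⟩
      mul_mem' := by
        rintro _ _ ⟨a, ha, rfl⟩ ⟨b, hb, rfl⟩
        refine ⟨a * b, A.mul_mem ha hb, ?_⟩
        have e1 : a⁻¹ * (x * b * x⁻¹) = (x * b * x⁻¹) * a⁻¹ :=
          h.comm _ (A.inv_mem ha) _ (conj_mem h hx hb)
        have e2 : a⁻¹ * b⁻¹ = b⁻¹ * a⁻¹ := h.comm _ (A.inv_mem ha) _ (A.inv_mem hb)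
        calc x * a * x⁻¹ * a⁻¹ * (x * b * x⁻¹ * b⁻¹)
            = x * a * x⁻¹ * (a⁻¹ * (x * b * x⁻¹)) * b⁻¹ := by group
          _ = x * (a * b) * x⁻¹ * (a⁻¹ * b⁻¹) := by rw [e1]; group
          _ = x * (a * b) * x⁻¹ * (a * b)⁻¹ := by rw [e2]; group
      inv_mem' := by
        rintro _ ⟨a, ha, rfl⟩
        refine ⟨a⁻¹, A.inv_mem ha, ?_⟩
        have e1 : a * (x * a⁻¹ * x⁻¹) = (x * a⁻¹ * x⁻¹) * a :=
          h.comm _ ha _ (conj_mem h hx (A.inv_mem ha))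
        calc (x * a * x⁻¹ * a⁻¹)⁻¹ = a * (x * a⁻¹ * x⁻¹) := by group
          _ = _ := by rw [e1]; group }
  have hDA : D ≤ A := by
    rintro _ ⟨a, ha, rfl⟩
    exact A.mul_mem (conj_mem h hx ha) (A.inv_mem ha)
  let K : Subgroup Ω :=
    { carrier := {g | g ∈ S ∧ ∀ a ∈ A, g * a * g⁻¹ * a⁻¹ ∈ D}
      one_mem' := ⟨S.one_mem, fun a _ => by simp⟩
      mul_mem' := by
        rintro g k ⟨hg, hgv⟩ ⟨hk, hkv⟩
        refine ⟨S.mul_mem hg hk, fun a ha => ?_⟩
        have := D.mul_mem (hgv _ (conj_mem h hk ha)) (hkv a ha)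
        convert this using 1
        group
      inv_mem' := by
        rintro g ⟨hg, hgv⟩
        refine ⟨S.inv_mem hg, fun a ha => ?_⟩
        have := D.inv_mem (hgv _ (conj_mem' h hg ha))
        convert this using 1
        group }
  have hAK : A ≤ K := fun g hg => ⟨h.le hg, fun a ha => by
    rw [h.comm g hg a ha, mul_inv_cancel_right, mul_inv_cancel]; exact D.one_mem⟩
  have hxK : x ∈ K := ⟨hx, fun a ha => ⟨a, ha, rfl⟩⟩
  have hSK : ∀ g ∈ S, ∀ a ∈ A, g * a * g⁻¹ * a⁻¹ ∈ D := by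
    intro g hg
    obtain ⟨b, hb, i, rfl⟩ := exists_decomp h hx hxA hg
    exact (K.mul_mem (hAK hb) (K.zpow_mem hxK i)).2
  suffices ⁅S, S⁆ ≤ D from this hc
  rw [Subgroup.commutator_le]
  intro s hs t ht
  obtain ⟨a, ha, i, rfl⟩ := exists_decomp h hx hxA hs
  obtain ⟨b, hb, j, rfl⟩ := exists_decomp h hx hxA ht
  have h1 : x ^ i * b * (x ^ i)⁻¹ * b⁻¹ ∈ D := hSK _ (S.zpow_mem hx i) b hb
  have h2 : (b * x ^ j) * a * (b * x ^ j)⁻¹ * a⁻¹ ∈ D := hSK _ ht a ha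
  have e : ⁅a * x ^ i, b * x ^ j⁆
      = a * (x ^ i * b * (x ^ i)⁻¹ * b⁻¹) * a⁻¹
        * ((b * x ^ j) * a * (b * x ^ j)⁻¹ * a⁻¹)⁻¹ := by
    rw [commutatorElement_def]; group
  rw [e, h.comm a ha _ (hDA h1), mul_inv_cancel_right]
  exact D.mul_mem h1 (D.inv_mem h2)

theorem derived_le (h : Setting S A p) : ⁅S, S⁆ ≤ A := by
  intro c hc
  obtain ⟨x, hx, hxA⟩ := SetLike.exists_of_lt (show A < S from h.le.lt_of_ne fun e => by
    refine h.nonabelian fun a ha b hb => h.comm a (e ▸ ha) b (e ▸ hb))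
  obtain ⟨a, ha, rfl⟩ := (mem_derived h hx hxA).1 hc
  exact A.mul_mem (conj_mem h hx ha) (A.inv_mem ha)

theorem exists_notMem (h : Setting S A p) : ∃ x ∈ S, x ∉ A :=
  SetLike.exists_of_lt (h.le.lt_of_ne fun e =>
    h.nonabelian fun a ha b hb => h.comm a (e ▸ ha) b (e ▸ hb))

/-! ### Maps on the centre -/

theorem extend_center (hF : F.IsSaturated p) (hS : IsPGroup p S) {f : Ω → Ω}
    (hf : IsIso F (Zc S) (Zc S) f) : ∃ g, IsMap F S g ∧ ∀ z ∈ Zc S, g z = f z := by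
  have hc : ∀ Q : Subgroup Ω, Nat.card (centralizerIn S Q) ≤ Nat.card (centralizerIn S (Zc S)) := by
    intro Q
    have : centralizerIn S (Zc S) = S := le_antisymm inf_le_left fun s hs => by
      refine Subgroup.mem_inf.2 ⟨hs, Subgroup.mem_centralizer_iff.2 fun z hz => ?_⟩
      exact ((mem_Zc.1 hz).2 s hs).symm
    rw [this]
    exact Subgroup.card_le_of_le inf_le_left
  obtain ⟨g, hg, hag⟩ := (isReceptive_iff.1 (isReceptive_of_isFullyCentralized hS hF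
    ⟨inf_le_left, fun Q _ => hc Q⟩)).2 _ f hf
  refine ⟨g, hg.mono fun s hs => centralizerIn_le_nPhi _ _ ?_, hag⟩
  refine Subgroup.mem_inf.2 ⟨hs, Subgroup.mem_centralizer_iff.2 fun z hz => ?_⟩
  exact ((mem_Zc.1 hz).2 s hs).symm

theorem map_derived {g : Ω → Ω} (hg : IsMap F S g) {c : Ω} (hc : c ∈ ⁅S, S⁆) :
    g c ∈ ⁅S, S⁆ := by
  obtain ⟨φ, hφ, hv⟩ := hg
  have hcS : c ∈ S := Subgroup.commutator_le_self S hc
  have h1 : φ ⟨c, hcS⟩ ∈ (⁅(⊤ : Subgroup S), (⊤ : Subgroup S)⁆).map φ := by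
    refine ⟨⟨c, hcS⟩, ?_, rfl⟩
    have : c ∈ (⁅(⊤ : Subgroup S), (⊤ : Subgroup S)⁆).map S.subtype := by
      rw [Subgroup.map_commutator, ← MonoidHom.range_eq_map, Subgroup.range_subtype]
      exact hc
    obtain ⟨d, hd, e⟩ := this
    rwa [show d = ⟨c, hcS⟩ from Subtype.ext e] at hd
  rw [Subgroup.map_commutator] at h1
  have hle : (⊤ : Subgroup S).map φ ≤ S := by
    rintro _ ⟨x, -, rfl⟩
    exact (F.le_of_mem hφ).2 x
  rw [← hv ⟨c, hcS⟩]
  exact Subgroup.commutator_mono hle hle h1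

/-- `L = Z(S) ∩ [S,S]` is invariant under the maps on the centre. -/
theorem map_line (hF : F.IsSaturated p) (hS : IsPGroup p S) {f : Ω → Ω}
    (hf : IsIso F (Zc S) (Zc S) f) {l : Ω} (hl : l ∈ Zc S ⊓ ⁅S, S⁆) :
    f l ∈ Zc S ⊓ ⁅S, S⁆ := by
  obtain ⟨g, hg, hag⟩ := extend_center hF hS hf
  refine Subgroup.mem_inf.2 ⟨hf.mem hl.1, ?_⟩
  rw [← hag l hl.1]
  exact map_derived hg hl.2

theorem eq_one_of_pow_eq_one (hF : F.IsSaturated p) (hS : IsPGroup p S)
    {α : MulAut (Zc S : Subgroup Ω)} (hα : α ∈ F.autGroup (Zc S)) (hαp : ∃ k : ℕ, α ^ p ^ k = 1) :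
    α = 1 := by
  have hn : F.IsFullyNormalized (Zc S) := by
    haveI : Finite (normalizerIn S (Zc S)) := finite_of_le (S := S) inf_le_left
    refine ⟨inf_le_left, fun Q _ => Subgroup.card_le_of_le ?_⟩
    refine inf_le_left.trans fun s hs => Subgroup.mem_inf.2 ⟨hs, ?_⟩
    exact mem_normalizer_of_conj_mem inf_le_left fun z hz => by rwa [conj_Zc hz hs]
  obtain ⟨k, hk⟩ := hαp
  obtain ⟨β, -, hβ⟩ := ((isFullyAutomized_iff hS).1
    (isFullyAutomized_of_isFullyNormalized hS hF hn)).2 (Subgroup.zpowers α)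
      (Subgroup.zpowers_le.2 hα) (IsPGroup.of_card_dvd_pow (n := k) (by
        rw [Nat.card_zpowers]; exact orderOf_dvd_of_pow_eq_one hk))
  obtain ⟨g, hg, hgv⟩ := (mem_autInducedBy_iff S _ _).1 (hβ α (Subgroup.mem_zpowers α))
  have : β * α * β⁻¹ = 1 := MulEquiv.ext fun z => Subtype.ext (by
    rw [hgv z, MulAut.one_apply, conj_Zc z.2 hg])
  exact conj_eq_one_iff.1 this

/-! ### Essential subgroups other than `A` -/

theorem isIso_center {P : Subgroup Ω} (hPS : P ≤ S) (hZP : Zc S ≤ P) {α : MulAut P}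
    (hα : α ∈ F.autGroup P) (h : ∀ z ∈ Zc S, autFun α z ∈ Zc S) :
    IsIso F (Zc S) (Zc S) (autFun α) :=
  haveI := finite_of_le (S := S) (inf_le_left : Zc S ≤ S)
  (((mem_autGroup_iff hPS α).1 hα).isMap.mono hZP).isIso_of_card_le h le_rfl

theorem center_le_essential {P : Subgroup Ω} (hP : F.IsCentric P) : Zc S ≤ P := by
  intro z hz
  refine hP.2 P (isConj_refl hP.1) (Subgroup.mem_inf.2 ⟨hz.1,
    Subgroup.mem_centralizer_iff.2 fun u hu => (mem_Zc.1 hz).2 u (hP.1 hu)⟩)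

theorem not_le_of_centric (h : Setting S A p) {P : Subgroup Ω} (hP : F.IsCentric P) (hne : P ≠ A) :
    ∃ y ∈ P, y ∉ A := by
  by_contra hcon
  push Not at hcon
  refine hne (le_antisymm hcon fun a ha => hP.2 P (isConj_refl hP.1) (Subgroup.mem_inf.2 ⟨h.le ha,
    Subgroup.mem_centralizer_iff.2 fun u hu => h.comm u (hcon u hu) a ha⟩))

theorem inf_eq_of_comm (h : Setting S A p) {P : Subgroup Ω} (hPS : P ≤ S)
    (hc : ∀ a ∈ P, ∀ b ∈ P, a * b = b * a) {y u : Ω} (hy : y ∈ P) (hyA : y ∉ A) (hu : u ∈ P)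
    (huA : u ∈ A) : u ∈ Zc S :=
  mem_Zc_of_commute h (hPS hy) hyA huA (hc y hy u hu)

theorem eq_sup_of_comm (h : Setting S A p) {P : Subgroup Ω} (hPS : P ≤ S) (hZP : Zc S ≤ P)
    (hc : ∀ a ∈ P, ∀ b ∈ P, a * b = b * a) {y : Ω} (hy : y ∈ P) (hyA : y ∉ A) :
    P = Zc S ⊔ Subgroup.zpowers y := by
  refine le_antisymm (fun u hu => ?_) (sup_le hZP (Subgroup.zpowers_le.2 hy))
  obtain ⟨a, ha, i, rfl⟩ := exists_decomp h (hPS hy) hyA (hPS hu)
  refine Subgroup.mul_mem_sup (inf_eq_of_comm h hPS hc hy hyA ?_ ha)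
    (Subgroup.zpow_mem_zpowers y i)
  have := P.mul_mem hu (P.inv_mem (P.zpow_mem hy i))
  rwa [mul_inv_cancel_right] at this

/-- In a nonabelian essential subgroup other than `A` the centre of `S` is the whole centre. -/
theorem center_invariant_of_nonabelian (h : Setting S A p) {P : Subgroup Ω}
    (hP : F.IsCentric P) (hne : P ≠ A) (hna : ¬ ∀ a ∈ P, ∀ b ∈ P, a * b = b * a)
    {α : MulAut P} {z : Ω} (hz : z ∈ Zc S) : autFun α z ∈ Zc S := by
  have hZP := center_le_essential hP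
  have hcent : ∀ u ∈ P, u * autFun α z = autFun α z * u := by
    intro u hu
    obtain ⟨v, hv⟩ := α.surjective ⟨u, hu⟩
    have e : v * ⟨z, hZP hz⟩ = ⟨z, hZP hz⟩ * v :=
      Subtype.ext ((mem_Zc.1 hz).2 v (hP.1 v.2))
    have e2 := congrArg (fun w : P => (w : Ω)) (congrArg α e)
    simp only [map_mul, Subgroup.coe_mul, hv] at e2
    rw [autFun_apply _ (hZP hz)]
    exact e2
  have hwP := autFun_mem α (hZP hz)
  obtain ⟨y, hy, hyA⟩ := not_le_of_centric h hP hne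
  by_cases hwA : autFun α z ∈ A
  · exact mem_Zc_of_commute h (hP.1 hy) hyA hwA (hcent y hy)
  · refine absurd (fun a ha b hb => ?_) hna
    -- then `P` is generated by `autFun α z` over central elements
    have key : ∀ u ∈ P, ∀ v ∈ P, u ∈ A → u * v = v * u := fun u hu v hv huA =>
      ((mem_Zc.1 (mem_Zc_of_commute h (hP.1 hwP) hwA huA (hcent u hu).symm)).2 v (hP.1 hv)).symm
    obtain ⟨a', ha', i, rfl⟩ := exists_decomp h (hP.1 hwP) hwA (hP.1 ha)
    have ha'P : a' ∈ P := by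
      have := P.mul_mem ha (P.inv_mem (P.zpow_mem hwP i))
      rwa [mul_inv_cancel_right] at this
    have c1 : Commute a' b := key a' ha'P b hb ha'
    have c2 : Commute (autFun α z) b := (hcent b hb).symm
    exact (c1.mul_left (c2.zpow_left i)).eq

/-- A complement `W` of `L` in the centre which is fixed by an automorphism inverting `L`. -/
def IsSplit (F : FusionSystem S) (W : Subgroup Ω) : Prop :=
  W ≤ Zc S ∧ W ⊓ (Zc S ⊓ ⁅S, S⁆) = ⊥ ∧ (Zc S ⊓ ⁅S, S⁆) ⊔ W = Zc S ∧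
    ∃ f, IsIso F (Zc S) (Zc S) f ∧ (∀ l ∈ Zc S ⊓ ⁅S, S⁆, f l = l⁻¹) ∧ ∀ w ∈ W, f w = w

theorem mul_comm_Zc {a b : Ω} (ha : a ∈ Zc S) (hb : b ∈ Zc S) : a * b = b * a :=
  (mem_Zc.1 hb).2 a ha.1

theorem exists_mul_of_split {W : Subgroup Ω} (hW : IsSplit F W) {z : Ω} (hz : z ∈ Zc S) :
    ∃ l ∈ Zc S ⊓ ⁅S, S⁆, ∃ w ∈ W, z = l * w := by
  have hn : Zc S ⊓ ⁅S, S⁆ ≤ Subgroup.normalizer (W : Set Ω) := fun l hl =>
    Subgroup.mem_normalizer_iff.2 fun w => by
      have hc : ∀ v ∈ Zc S, l * v * l⁻¹ = v := fun v hv => conj_Zc hv hl.1.1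
      constructor
      · intro hw; rwa [hc w (hW.1 hw)]
      · intro hw
        have hwZ : w ∈ Zc S := by
          have := (Zc S).mul_mem ((Zc S).mul_mem ((Zc S).inv_mem hl.1) (hW.1 hw)) hl.1
          simpa [mul_assoc] using this
        rwa [hc w hwZ] at hw
  have : z ∈ (((Zc S ⊓ ⁅S, S⁆) ⊔ W : Subgroup Ω) : Set Ω) := hW.2.2.1.ge hz
  rw [Subgroup.coe_mul_of_left_le_normalizer_right _ _ hn] at this
  obtain ⟨l, hl, w, hw, e⟩ := this
  exact ⟨l, hl, w, hw, e.symm⟩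

theorem eq_one_of_sq (hS : IsPGroup p S) (hp : p ≠ 2) {l : Ω} (hl : l ∈ S) (h : l⁻¹ = l) :
    l = 1 := by
  have h2 : (⟨l, hl⟩ : S) ^ 2 = 1 := Subtype.ext (show l ^ 2 = 1 by
    rw [pow_two]; nth_rewrite 1 [← h]; exact inv_mul_cancel l)
  obtain ⟨k, hk⟩ := hS ⟨l, hl⟩
  have hcop : Nat.Coprime (p ^ k) 2 := by
    refine Nat.Coprime.pow_left k ?_
    exact (Nat.coprime_primes hpF.out Nat.prime_two).2 hp
  have h3 : orderOf (⟨l, hl⟩ : S) ∣ Nat.gcd (p ^ k) 2 :=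
    Nat.dvd_gcd (orderOf_dvd_of_pow_eq_one hk) (orderOf_dvd_of_pow_eq_one h2)
  rw [hcop.gcd_eq_one, Nat.dvd_one, orderOf_eq_one_iff] at h3
  exact congrArg Subtype.val h3

/-- Every map on the centre preserves a split complement. -/
theorem split_invariant (hF : F.IsSaturated p) (hS : IsPGroup p S) (hp : p ≠ 2) {W : Subgroup Ω}
    (hW : IsSplit F W) {g : Ω → Ω} (hg : IsIso F (Zc S) (Zc S) g) {w : Ω} (hw : w ∈ W) :
    g w ∈ W := by
  obtain ⟨hWZ, hWL, hsup, f, hf, hfL, hfW⟩ := hW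
  haveI := finite_of_le (S := S) (inf_le_left : Zc S ≤ S)
  haveI := finite_mulAut (Zc S : Subgroup Ω)
  letI : CommGroup (Zc S : Subgroup Ω) := { (inferInstance : Group (Zc S : Subgroup Ω)) with
    mul_comm := fun a b => Subtype.ext (mul_comm_Zc a.2 b.2) }
  obtain ⟨τ, hτ, hτv⟩ := exists_mem_autGroup hf
  obtain ⟨σ, hσ, hσv⟩ := exists_mem_autGroup hg
  let LL := (Zc S ⊓ ⁅S, S⁆).subgroupOf (Zc S)
  have hσL : ∀ z, z ∈ LL → σ z ∈ LL := fun z hz => by
    show (σ z : Ω) ∈ Zc S ⊓ ⁅S, S⁆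
    rw [hσv]; exact map_line hF hS hg hz
  have hσL' : ∀ z, z ∈ LL → σ⁻¹ z ∈ LL := by
    intro z hz
    have h1 : LL.map σ.toMonoidHom = LL := Subgroup.eq_of_le_of_card_ge
      (by rintro _ ⟨v, hv, rfl⟩; exact hσL v hv)
      (Subgroup.card_map_of_injective (MulEquiv.injective σ)).ge
    obtain ⟨v, hv, rfl⟩ := h1.ge hz
    show σ⁻¹ (σ v) ∈ LL
    rwa [MulAut.inv_apply_self]
  have hτL : ∀ z, z ∈ LL → τ z = z⁻¹ := fun z hz => Subtype.ext (by
    rw [hτv]; exact hfL _ hz)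
  have hτd : ∀ z, z⁻¹ * τ z ∈ LL := by
    intro z
    obtain ⟨l, hl, u, hu, e⟩ := exists_mul_of_split ⟨hWZ, hWL, hsup, f, hf, hfL, hfW⟩ z.2
    have ez : z = ⟨l, hl.1⟩ * ⟨u, hWZ hu⟩ := Subtype.ext e
    have eu : τ ⟨u, hWZ hu⟩ = ⟨u, hWZ hu⟩ := Subtype.ext (by rw [hτv]; exact hfW u hu)
    rw [ez, map_mul, hτL _ hl, eu, mul_inv_rev,
      show ∀ a b : (Zc S : Subgroup Ω), b⁻¹ * a⁻¹ * (a⁻¹ * b) = a⁻¹ * a⁻¹ * (b⁻¹ * b) from
        fun a b => by ac_rfl, inv_mul_cancel, mul_one]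
    exact LL.mul_mem (LL.inv_mem hl) (LL.inv_mem hl)
  let c := σ * τ * σ⁻¹ * τ⁻¹
  have hc1 : c ∈ Transvections.seriesStab LL LL le_rfl := by
    have e : ∀ z, c z = σ (τ (σ⁻¹ (τ⁻¹ z))) := fun z => rfl
    have hd : ∀ z, z⁻¹ * c z ∈ LL := by
      intro z
      obtain ⟨v, rfl⟩ := τ.surjective z
      rw [e, MulAut.inv_apply_self]
      obtain ⟨u, rfl⟩ := σ.surjective v
      rw [MulAut.inv_apply_self]
      have h1 : σ u * (σ u)⁻¹ * ((τ (σ u))⁻¹ * σ (τ u)) ∈ LL := by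
        rw [show σ u * (σ u)⁻¹ * ((τ (σ u))⁻¹ * σ (τ u))
            = ((σ u)⁻¹ * τ (σ u))⁻¹ * σ (u⁻¹ * τ u) by
          rw [map_mul, map_inv, mul_inv, inv_inv]; simp only [mul_comm, mul_left_comm, mul_assoc]]
        exact LL.mul_mem (LL.inv_mem (hτd _)) (hσL _ (hτd u))
      rwa [mul_inv_cancel, one_mul] at h1
    refine Transvections.mem_seriesStab.2 ⟨fun z hz => ?_, fun z _ => hd z, hd⟩
    rw [e]
    have h1 : τ⁻¹ z = z⁻¹ := τ.injective (by
      rw [MulAut.apply_inv_self, map_inv, hτL z hz, inv_inv])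
    rw [h1, map_inv, map_inv, map_inv, hτL _ (hσL' z hz), map_inv, inv_inv, MulAut.apply_inv_self]
  have hc : c = 1 := by
    refine eq_one_of_pow_eq_one hF hS ?_ ?_
    · exact mul_mem (mul_mem (mul_mem hσ hτ) (inv_mem hσ)) (inv_mem hτ)
    · obtain ⟨k, hk⟩ := Transvections.isPGroup_seriesStab
        (hS.to_le (inf_le_left : Zc S ≤ S)) LL LL le_rfl ⟨c, hc1⟩
      exact ⟨k, congrArg Subtype.val hk⟩
  have hcomm : σ * τ = τ * σ := by
    calc σ * τ = c * (τ * σ) := by simp only [c]; group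
      _ = τ * σ := by rw [hc, one_mul]
  have hfix : f (g w) = g w := by
    have h1 := DFunLike.congr_fun hcomm ⟨w, hWZ hw⟩
    rw [MulAut.mul_apply, MulAut.mul_apply,
      show τ ⟨w, hWZ hw⟩ = ⟨w, hWZ hw⟩ from Subtype.ext (by rw [hτv]; exact hfW w hw)] at h1
    have h2 := congrArg (fun v : (Zc S : Subgroup Ω) => (v : Ω)) h1
    simp only [hσv, hτv] at h2
    exact h2.symm
  obtain ⟨l, hl, u, hu, e⟩ :=
    exists_mul_of_split ⟨hWZ, hWL, hsup, f, hf, hfL, hfW⟩ (hg.mem (hWZ hw))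
  rw [e, hf.isMap.map_mul hl.1 (hWZ hu), hfL l hl, hfW u hu] at hfix
  rw [e, eq_one_of_sq hS hp hl.1.1 (mul_right_cancel hfix), one_mul]
  exact hu

theorem split_unique (hF : F.IsSaturated p) (hS : IsPGroup p S) (hp : p ≠ 2) {W W' : Subgroup Ω}
    (hW : IsSplit F W) (hW' : IsSplit F W') : W' ≤ W := by
  intro v hv
  obtain ⟨hWZ, hWL, hsup, f, hf, hfL, hfW⟩ := hW
  have h1 : f v ∈ W' := split_invariant hF hS hp hW' hf hv
  obtain ⟨l, hl, u, hu, rfl⟩ :=
    exists_mul_of_split ⟨hWZ, hWL, hsup, f, hf, hfL, hfW⟩ (hW'.1 hv)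
  rw [hf.isMap.map_mul hl.1 (hWZ hu), hfL l hl, hfW u hu] at h1
  have h2 : l * l ∈ W' ⊓ (Zc S ⊓ ⁅S, S⁆) := by
    refine Subgroup.mem_inf.2 ⟨?_, Subgroup.mul_mem _ hl hl⟩
    have := W'.mul_mem hv (W'.inv_mem h1)
    simpa [mul_assoc] using this
  rw [hW'.2.1, Subgroup.mem_bot] at h2
  have h3 : l = 1 := eq_one_of_sq hS hp hl.1.1 (inv_eq_of_mul_eq_one_right h2)
  rw [h3, one_mul]
  exact hu

/-- An abelian essential subgroup gives a split complement and preserves it. -/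
theorem essential_split (h : Setting S A p) (hF : F.IsSaturated p) (hp : p ≠ 2)
    {P : Subgroup Ω} (hP : F.IsEssential p P) (hne : P ≠ A)
    (hc : ∀ a ∈ P, ∀ b ∈ P, a * b = b * a) :
    (∃ W, IsSplit F W ∧ Nat.card (Zc S ⊓ ⁅S, S⁆ : Subgroup Ω) = p) ∧
      ∀ W, IsSplit F W → ∀ α ∈ F.autGroup P, ∀ w ∈ W, autFun α w ∈ W := by
  classical
  have hS := h.pgroup
  have hPS : P ≤ S := hP.1.1
  have hZP := center_le_essential hP.1
  obtain ⟨y, hy, hyA⟩ := not_le_of_centric h hP.1 hne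
  haveI := finite_of_le hPS
  haveI := finite_mulAut P
  letI : CommGroup P := { (inferInstance : Group P) with
    mul_comm := fun a b => Subtype.ext (hc a a.2 b b.2) }
  obtain ⟨ZV, hZV⟩ : ∃ ZV : Subgroup P, ZV = (Zc S).subgroupOf P := ⟨_, rfl⟩
  obtain ⟨LV, hLV⟩ : ∃ LV : Subgroup P, LV = (Zc S ⊓ ⁅S, S⁆).subgroupOf P := ⟨_, rfl⟩
  have mZ : ∀ v : P, v ∈ ZV ↔ (v : Ω) ∈ Zc S := fun v => by rw [hZV]; rfl
  have mL : ∀ v : P, v ∈ LV ↔ (v : Ω) ∈ Zc S ⊓ ⁅S, S⁆ := fun v => by rw [hLV]; rfl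
  have hyZ : (⟨y, hy⟩ : P) ∉ ZV := fun e => hyA (Zc_le h ((mZ _).1 e))
  have hindex : ZV.index = p := by
    have := normal_subgroupOf h
    have hd : (A.subgroupOf S).relIndex (P.subgroupOf S) ∣ p :=
      h.index ▸ Subgroup.relIndex_dvd_index_of_normal _ _
    rw [Subgroup.relIndex_subgroupOf hPS] at hd
    have e : ZV = A.subgroupOf P := by
      ext v
      exact ⟨fun hv => Zc_le h ((mZ v).1 hv), fun hv => (mZ v).2 (inf_eq_of_comm h hPS hc hy hyA v.2 hv)⟩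
    rcases (Nat.dvd_prime hpF.out).1 hd with e1 | e1
    · exact absurd (Subgroup.relIndex_eq_one.1 e1 hy) hyA
    · rw [e]; exact e1
  have hUfix : ∀ g ∈ autInducedBy S P, ∀ z ∈ ZV, g z = z := by
    intro g hg z hz
    obtain ⟨s, hs, hsv⟩ := (mem_autInducedBy_iff S P g).1 hg
    exact Subtype.ext (by rw [hsv z, conj_Zc ((mZ z).1 hz) hs])
  have hUdisp : ∀ g ∈ autInducedBy S P, ∀ v, v⁻¹ * g v ∈ LV := by
    intro g hg v
    obtain ⟨s, hs, hsv⟩ := (mem_autInducedBy_iff S P g).1 hg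
    have hD : ((v⁻¹ * g v : P) : Ω) ∈ ⁅S, S⁆ := by
      rw [Subgroup.coe_mul, Subgroup.coe_inv, hsv v,
        show (v : Ω)⁻¹ * (s * v * s⁻¹) = ⁅(v : Ω)⁻¹, s⁆ by rw [commutatorElement_def]; group]
      exact Subgroup.commutator_mem_commutator (S.inv_mem (hPS v.2)) hs
    exact (mL _).2 (Subgroup.mem_inf.2
      ⟨inf_eq_of_comm h hPS hc hy hyA (SetLike.coe_mem _) (derived_le h hD), hD⟩)
  have hUL : ∀ l ∈ LV, ∃ g ∈ autInducedBy S P, (⟨y, hy⟩ : P)⁻¹ * g ⟨y, hy⟩ = l := by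
    intro l hl
    obtain ⟨a, ha, e⟩ := (mem_derived h (S.inv_mem (hPS hy)) (fun e => hyA (by simpa using A.inv_mem e))).1
      ((mL l).1 hl).2
    have e1 : a * y * a⁻¹ = y * l := by rw [e]; group
    have hn : a ∈ Subgroup.normalizer (P : Set Ω) := by
      refine mem_normalizer_of_conj_mem hPS fun u hu => ?_
      rw [eq_sup_of_comm h hPS hZP hc hy hyA] at hu
      have hle : Zc S ⊔ Subgroup.zpowers y ≤ P.comap (MulAut.conj a).toMonoidHom := by
        refine sup_le (fun z hz => ?_) (Subgroup.zpowers_le.2 ?_)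
        · show a * z * a⁻¹ ∈ P
          rw [conj_Zc hz (h.le ha)]
          exact hZP hz
        · show a * y * a⁻¹ ∈ P
          rw [e1]
          exact P.mul_mem hy l.2
      exact hle hu
    refine ⟨conjAut P hn, conjAut_mem_autInducedBy hn (h.le ha), Subtype.ext ?_⟩
    rw [Subgroup.coe_mul, Subgroup.coe_inv, conjAut_apply, e1, inv_mul_cancel_left]
  have hfa := (isFullyAutomized_iff hS).1 (isFullyAutomized_of_isFullyNormalized hS hF hP.2.1)
  obtain ⟨T, hT⟩ : ∃ T : Subgroup (MulAut P),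
      T = Transvections.seriesStab ZV ZV le_rfl ⊓ F.autGroup P := ⟨_, rfl⟩
  have hTp : IsPGroup p T := by
    rw [hT]
    exact (Transvections.isPGroup_seriesStab (hS.to_le hPS) ZV ZV le_rfl).to_le inf_le_left
  have hUle := autInducedBy_le_autGroup (F := F) hPS
  have hUT : autInducedBy S P ≤ T := by
    intro g hg
    rw [hT]
    refine Subgroup.mem_inf.2 ⟨Transvections.mem_seriesStab.2 ⟨hUfix g hg, fun z _ => ?_,
      fun z => ?_⟩, hUle hg⟩
    · exact (mZ _).2 ((mL _).1 (hUdisp g hg z)).1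
    · exact (mZ _).2 ((mL _).1 (hUdisp g hg z)).1
  have hTU : T = autInducedBy S P := by
    obtain ⟨β, -, hβ⟩ := hfa.2 T (by rw [hT]; exact inf_le_right) hTp
    refine (Subgroup.eq_of_le_of_card_ge hUT ?_).symm
    refine Nat.card_le_card_of_injective (fun t : T => (⟨β * t * β⁻¹, hβ _ t.2⟩ : autInducedBy S P))
      fun s t e => Subtype.ext ?_
    exact mul_left_cancel (mul_right_cancel (congrArg Subtype.val e))
  have hUstab : ∀ g ∈ F.autGroup P, (∀ z ∈ ZV, g z = z) → (∀ v, v⁻¹ * g v ∈ ZV) →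
      g ∈ autInducedBy S P := by
    intro g hg h1 h2
    rw [← hTU, hT]
    exact Subgroup.mem_inf.2 ⟨Transvections.mem_seriesStab.2 ⟨h1, fun z _ => h2 z, h2⟩, hg⟩
  obtain ⟨g, hgN, hgP⟩ := SetLike.exists_of_lt (lt_normalizerIn hS hPS (ne_of_isEssential hS hF hP))
  have hu : conjAut P hgN.2 ∈ autInducedBy S P := conjAut_mem_autInducedBy hgN.2 hgN.1
  have hU1 : autInducedBy S P ≠ ⊥ := by
    intro e
    rw [e, Subgroup.mem_bot] at hu
    refine hgP (hP.1.2 P (isConj_refl hPS) (Subgroup.mem_inf.2 ⟨hgN.1,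
      mem_centralizer_of_conj_eq fun x hx => ?_⟩))
    rw [← conjAut_apply P hgN.2 ⟨x, hx⟩, hu]
    rfl
  have mover : ∀ β ∈ F.autGroup P, (¬ ∀ z ∈ ZV, β z ∈ ZV) →
      IsSplit F ((ZV ⊓ ZV.map β.toMonoidHom).map P.subtype) ∧
        Nat.card (Zc S ⊓ ⁅S, S⁆ : Subgroup Ω) = p := by
    intro β hβ hβ'
    obtain ⟨hLc, hXL, hLX, t, ht, htL, -, htX⟩ := Transvections.exists_split (hS.to_le hPS)
      (F.autGroup P) ZV LV hindex (fun v hv => (mZ v).2 ((mL v).1 hv).1) hyZ (autInducedBy S P)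
      hUle hUfix hUdisp hUL hUstab hfa.2 hβ hβ' hU1
    refine ⟨?_, by
      rw [← hLc, hLV]
      exact (Nat.card_congr (Subgroup.subgroupOfEquivOfLe (inf_le_left.trans hZP)).toEquiv).symm⟩
    refine ⟨?_, ?_, ?_, autFun t, isIso_center hPS hZP ht fun z hz => ?_, fun l hl => ?_,
      fun w hw => ?_⟩
    · rintro _ ⟨v, hv, rfl⟩
      exact (mZ v).1 hv.1
    · rw [Subgroup.eq_bot_iff_forall]
      rintro _ ⟨⟨v, hv, rfl⟩, hl⟩
      have : v ∈ (ZV ⊓ ZV.map β.toMonoidHom) ⊓ LV := Subgroup.mem_inf.2 ⟨hv, (mL v).2 hl⟩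
      rw [hXL, Subgroup.mem_bot] at this
      rw [this]; rfl
    · refine le_antisymm (sup_le inf_le_left ?_) fun z hz => ?_
      · rintro _ ⟨v, hv, rfl⟩
        exact (mZ v).1 hv.1
      · obtain ⟨l, hl, x, hx, e⟩ :=
          Subgroup.mem_sup.1 (hLX.ge ((mZ ⟨z, hZP hz⟩).2 hz))
        have : z = (l : Ω) * x := (congrArg Subtype.val e).symm
        rw [this]
        exact Subgroup.mul_mem_sup ((mL l).1 hl) ⟨x, hx, rfl⟩
    · obtain ⟨l, hl, x, hx, e⟩ := Subgroup.mem_sup.1 (hLX.ge ((mZ ⟨z, hZP hz⟩).2 hz))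
      rw [autFun_apply _ (hZP hz), ← e, map_mul, htL l hl, htX x hx]
      exact (mZ _).1 (ZV.mul_mem (ZV.inv_mem ((mZ l).2 ((mL l).1 hl).1)) hx.1)
    · rw [autFun_apply _ (hZP hl.1), htL _ ((mL _).2 hl)]
      rfl
    · obtain ⟨v, hv, rfl⟩ := hw
      exact (autFun_coe t v).trans (congrArg Subtype.val (htX v hv))
  refine ⟨?_, fun W hW α hα w hw => ?_⟩
  · by_contra hno
    have hall : ∀ β ∈ F.autGroup P, ∀ z ∈ ZV, β z ∈ ZV := fun β hβ => by
      by_contra hb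
      exact hno ⟨_, mover β hβ hb⟩
    have hn : ((autInducedBy S P).subgroupOf (F.autGroup P)).Normal := by
      refine ⟨fun a ha b => hUstab _ (SetLike.coe_mem (b * a * b⁻¹)) (fun z hz => ?_) fun v => ?_⟩
      · show (b : MulAut P) ((a : MulAut P) ((b : MulAut P)⁻¹ z)) = z
        rw [show (a : MulAut P) ((b : MulAut P)⁻¹ z) = (b : MulAut P)⁻¹ z from
          hUfix _ ha _ (hall _ (inv_mem b.2) z hz), MulAut.apply_inv_self]
      · obtain ⟨u, rfl⟩ := (b : MulAut P).surjective v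
        show ((b : MulAut P) u)⁻¹ * (b : MulAut P) ((a : MulAut P) ((b : MulAut P)⁻¹ ((b : MulAut P) u))) ∈ ZV
        rw [MulAut.inv_apply_self, ← map_inv, ← map_mul]
        exact hall _ b.2 _ ((mZ _).2 ((mL _).1 (hUdisp _ ha u)).1)
    exact hgP (mem_of_mem_pCore hP.1 (isRadical_of_isEssential hS hP) hgN
      (α := ⟨conjAut P hgN.2, hUle hu⟩) (conjAut_apply P hgN.2)
      (CfsgLib.Fitting.le_pCore hn ((isPGroup_autInducedBy hS P).of_equiv
        (Subgroup.subgroupOfEquivOfLe hUle).symm) hu))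
  · by_cases hb : ∀ z ∈ ZV, α z ∈ ZV
    · refine split_invariant hF hS hp hW (isIso_center hPS hZP hα fun z hz => ?_) hw
      rw [autFun_apply _ (hZP hz)]
      exact (mZ _).1 (hb _ ((mZ ⟨z, hZP hz⟩).2 hz))
    · -- `W` is the intersection of the centre with its image under `α⁻¹`
      have hb' : ¬ ∀ z ∈ ZV, α⁻¹ z ∈ ZV := by
        intro hall
        have h3 : ZV.map (α⁻¹ : MulAut P).toMonoidHom = ZV := Subgroup.eq_of_le_of_card_ge
          (by rintro _ ⟨z, hz, rfl⟩; exact hall z hz)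
          (Subgroup.card_map_of_injective (MulEquiv.injective (α⁻¹ : MulAut P))).ge
        refine hb fun z hz => ?_
        obtain ⟨z', hz', rfl⟩ := h3.ge hz
        show α (α⁻¹ z') ∈ ZV
        rwa [MulAut.apply_inv_self]
      obtain ⟨v, hv, hvw⟩ := split_unique hF hS hp (mover _ (inv_mem hα) hb').1 hW hw
      obtain ⟨z, hz, hzv⟩ := hv.2
      have h4 : α v ∈ ZV ⊓ ZV.map α.toMonoidHom := by
        refine Subgroup.mem_inf.2 ⟨?_, ⟨v, hv.1, rfl⟩⟩
        rw [← hzv]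
        show α (α⁻¹ z) ∈ ZV
        rwa [MulAut.apply_inv_self]
      have h5 := split_unique hF hS hp hW (mover α hα hb).1 ⟨α v, h4, rfl⟩
      rw [← hvw]
      exact (autFun_coe α v).symm ▸ h5

/-! ### The structure theorem -/

/-- A normal subgroup of a system with trivial core is trivial. -/
theorem eq_bot_of_isNormal (hcore : F.core = ⊥) {Q : Subgroup Ω} (hQ : F.IsNormal Q) : Q = ⊥ :=
  le_bot_iff.1 (hcore ▸ le_sSup hQ)

theorem center_ne_bot (h : Setting S A p) : Zc S ≠ ⊥ := by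
  obtain ⟨x, hx, hxA⟩ := exists_notMem h
  haveI : Nontrivial S := ⟨⟨x, hx⟩, 1, fun e => hxA (by
    have : x = 1 := congrArg Subtype.val e
    rw [this]; exact A.one_mem)⟩
  have := h.pgroup.center_nontrivial
  obtain ⟨⟨z, hz⟩, hz1⟩ := exists_ne (1 : Subgroup.center S)
  intro e
  refine hz1 (Subtype.ext (Subtype.ext ?_))
  have hzZ : (z : Ω) ∈ Zc S := mem_Zc.2 ⟨z.2, fun s hs =>
    congrArg Subtype.val (Subgroup.mem_center_iff.1 hz ⟨s, hs⟩)⟩
  rw [e, Subgroup.mem_bot] at hzZ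
  exact hzZ

theorem exists_essential_and_line (h : Setting S A p) (hF : F.IsSaturated p) (hp : p ≠ 2)
    (hcore : F.core = ⊥) (hAe : ¬ F.IsEssential p A) :
    (∃ x ∈ S, x ∉ A ∧ F.IsEssential p (Zc S ⊔ Subgroup.zpowers x)) ∧ Zc S ≤ ⁅S, S⁆ ∧
      Nat.card (Zc S : Subgroup Ω) = p := by
  have hS := h.pgroup
  have hSinv : ∀ α ∈ F.autGroup S, ∀ z ∈ Zc S, autFun α z ∈ Zc S := by
    intro α hα z hz
    rw [autFun_apply _ hz.1]
    refine mem_Zc.2 ⟨SetLike.coe_mem _, fun s hs => ?_⟩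
    obtain ⟨u, hu⟩ := α.surjective ⟨s, hs⟩
    have e : u * ⟨z, hz.1⟩ = ⟨z, hz.1⟩ * u := Subtype.ext ((mem_Zc.1 hz).2 u u.2)
    have e2 := congrArg (fun w : S => (w : Ω)) (congrArg α e)
    simpa only [map_mul, Subgroup.coe_mul, hu] using e2
  by_cases hab : ∃ P, F.IsEssential p P ∧ ∀ a ∈ P, ∀ b ∈ P, a * b = b * a
  · obtain ⟨P, hP, hc⟩ := hab
    have hne : P ≠ A := fun e => hAe (e ▸ hP)
    obtain ⟨y, hy, hyA⟩ := not_le_of_centric h hP.1 hne
    refine ⟨⟨y, hP.1.1 hy, hyA, ?_⟩, ?_⟩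
    · rw [← eq_sup_of_comm h hP.1.1 (center_le_essential hP.1) hc hy hyA]
      exact hP
    obtain ⟨W, hW, hL⟩ := (essential_split h hF hp hP hne hc).1
    have hWn : F.IsNormal W := by
      refine isNormal_of_generators hS hF (hW.1.trans inf_le_left) fun Q hQ => ?_
      rcases hQ with hQS | hQ
      · subst hQS
        exact ⟨hW.1.trans inf_le_left, fun α hα w hw => split_invariant hF hS hp hW
          (isIso_center le_rfl inf_le_left hα fun z hz => hSinv α hα z hz) hw⟩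
      · have hQA : Q ≠ A := fun e => hAe (e ▸ hQ)
        have hZQ := center_le_essential hQ.1
        refine ⟨hW.1.trans hZQ, fun α hα w hw => ?_⟩
        by_cases hQc : ∀ a ∈ Q, ∀ b ∈ Q, a * b = b * a
        · exact (essential_split h hF hp hQ hQA hQc).2 W hW α hα w hw
        · exact split_invariant hF hS hp hW (isIso_center hQ.1.1 hZQ hα fun z hz =>
            center_invariant_of_nonabelian h hQ.1 hQA hQc hz) hw
    have hW1 := eq_bot_of_isNormal hcore hWn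
    have := hW.2.2.1
    rw [hW1, sup_bot_eq] at this
    exact ⟨this.ge.trans inf_le_right, this ▸ hL⟩
  · push Not at hab
    refine absurd (eq_bot_of_isNormal hcore (isNormal_of_generators hS hF inf_le_left
      fun Q hQ => ?_)) (center_ne_bot h)
    rcases hQ with hQS | hQ
    · subst hQS
      exact ⟨inf_le_left, hSinv⟩
    · obtain ⟨a, ha, b, hb, hab'⟩ := hab Q hQ
      exact ⟨center_le_essential hQ.1, fun α hα z hz => center_invariant_of_nonabelian h hQ.1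
        (fun e => hAe (e ▸ hQ)) (fun hc => hab' (hc a ha b hb)) hz⟩

/-! ### Maximal class -/

theorem pow_le_card_lowerCentralSeries (h : Setting S A p) {n : ℕ} (hn : Nat.card S = p ^ n)
    (hZ : Nat.card (Zc S : Subgroup Ω) = p) : ∀ k : ℕ,
      p ^ n ≤ Nat.card (Subgroup.lowerCentralSeries S (k + 1) : Subgroup Ω) * p ^ (k + 2) := by
  classical
  obtain ⟨x, hx, hxA⟩ := exists_notMem h
  haveI := finite_of_le h.le
  have hle : ∀ k, Subgroup.lowerCentralSeries S (k + 1) ≤ A := fun k => by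
    refine le_trans (Subgroup.lowerCentralSeries_antitone (S := S) (Nat.le_add_left 1 k)) ?_
    rw [Subgroup.lowerCentralSeries_succ, Subgroup.lowerCentralSeries_zero]
    exact derived_le h
  have step : ∀ B C : Subgroup Ω, B ≤ A → C ≤ S → (∀ a ∈ B, x * a * x⁻¹ * a⁻¹ ∈ C) →
      Nat.card B ≤ Nat.card C * p := by
    intro B C hB hC hmap
    haveI := finite_of_le (hB.trans h.le)
    haveI := finite_of_le hC
    haveI := finite_of_le (S := S) (inf_le_left : Zc S ≤ S)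
    let δ : B →* C := MonoidHom.mk' (fun a => ⟨x * a * x⁻¹ * (a : Ω)⁻¹, hmap a a.2⟩) fun a b => by
      refine Subtype.ext ?_
      show x * ((a : Ω) * b) * x⁻¹ * ((a : Ω) * b)⁻¹
        = x * a * x⁻¹ * (a : Ω)⁻¹ * (x * b * x⁻¹ * (b : Ω)⁻¹)
      have e1 : (a : Ω)⁻¹ * (x * b * x⁻¹) = (x * b * x⁻¹) * (a : Ω)⁻¹ :=
        h.comm _ (A.inv_mem (hB a.2)) _ (conj_mem h hx (hB b.2))
      have e2 : (a : Ω)⁻¹ * (b : Ω)⁻¹ = (b : Ω)⁻¹ * (a : Ω)⁻¹ :=
        h.comm _ (A.inv_mem (hB a.2)) _ (A.inv_mem (hB b.2))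
      symm
      calc x * a * x⁻¹ * (a : Ω)⁻¹ * (x * b * x⁻¹ * (b : Ω)⁻¹)
          = x * a * x⁻¹ * ((a : Ω)⁻¹ * (x * b * x⁻¹)) * (b : Ω)⁻¹ := by group
        _ = x * ((a : Ω) * b) * x⁻¹ * ((a : Ω)⁻¹ * (b : Ω)⁻¹) := by rw [e1]; group
        _ = x * ((a : Ω) * b) * x⁻¹ * ((a : Ω) * b)⁻¹ := by rw [e2]; group
    have hk : ∀ a : δ.ker, (((a : B) : Ω)) ∈ Zc S := fun a => by
      have e : x * ((a : B) : Ω) * x⁻¹ * ((a : B) : Ω)⁻¹ = 1 := congrArg Subtype.val a.2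
      exact mem_Zc_of_commute h hx hxA (hB (a : B).2)
        (mul_inv_eq_iff_eq_mul.1 (mul_inv_eq_one.1 e))
    have h1 : Nat.card δ.ker ≤ p := hZ ▸ Nat.card_le_card_of_injective
      (fun a => (⟨((a : B) : Ω), hk a⟩ : (Zc S : Subgroup Ω))) fun a b e => by
        have e' := Subtype.ext_iff.1 e
        exact Subtype.ext (Subtype.ext e')
    rw [Subgroup.card_eq_card_quotient_mul_card_subgroup δ.ker]
    refine Nat.mul_le_mul ?_ h1
    rw [Nat.card_congr (QuotientGroup.quotientKerEquivRange δ).toEquiv]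
    exact Subgroup.card_le_card_group _
  have hA : Nat.card A * p = p ^ n := by
    rw [← hn, ← Nat.card_congr (Subgroup.subgroupOfEquivOfLe h.le).toEquiv, ← h.index,
      Subgroup.card_mul_index]
  intro k
  induction k with
  | zero =>
    have := step A (Subgroup.lowerCentralSeries S 1) le_rfl ((hle 0).trans h.le) fun a ha => by
      rw [Subgroup.lowerCentralSeries_succ, Subgroup.lowerCentralSeries_zero, ← commutatorElement_def]
      exact Subgroup.commutator_mem_commutator hx (h.le ha)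
    calc p ^ n = Nat.card A * p := hA.symm
      _ ≤ Nat.card (Subgroup.lowerCentralSeries S 1 : Subgroup Ω) * p * p :=
        Nat.mul_le_mul_right p this
      _ = _ := by rw [show 0 + 2 = 2 from rfl, pow_two, mul_assoc]
  | succ k ih =>
    have := step _ (Subgroup.lowerCentralSeries S (k + 1 + 1)) (hle k) ((hle _).trans h.le)
      fun a ha => by
        rw [Subgroup.lowerCentralSeries_succ, ← commutatorElement_def, ← commutatorElement_inv]
        exact Subgroup.inv_mem _ (Subgroup.commutator_mem_commutator ha hx)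
    calc p ^ n ≤ _ := ih
      _ ≤ Nat.card (Subgroup.lowerCentralSeries S (k + 1 + 1) : Subgroup Ω) * p * p ^ (k + 2) :=
        Nat.mul_le_mul_right _ this
      _ = _ := by rw [mul_assoc, ← pow_succ']

theorem lowerCentralSeries_ne_bot (h : Setting S A p) {n : ℕ} (hn : Nat.card S = p ^ n)
    (hn3 : 3 ≤ n) (hZ : Nat.card (Zc S : Subgroup Ω) = p) :
    Subgroup.lowerCentralSeries S (n - 2) ≠ ⊥ := by
  intro e
  have := pow_le_card_lowerCentralSeries h hn hZ (n - 3)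
  rw [show n - 3 + 1 = n - 2 by omega, e, Subgroup.card_bot, one_mul] at this
  have := (Nat.pow_le_pow_iff_right hpF.out.one_lt).1 this
  omega

end CfsgLib.Fusion.AbelianIndexP
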