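import Mathlib

/-!
Layers of finite abelian `p`-groups, and plane automorphisms without an invariant line.
-/

set_option autoImplicit false
set_option linter.style.haveILetI false

namespace CfsgLib.Fusion.AbelianLayers

/-- In a cyclic group the elements with `y ^ p = 1` are the powers of any element of order `p`. -/
theorem mem_zpowers_of_pow {C : Type*} [Group C] [Finite C] [IsCyclic C] {p : ℕ} [Fact p.Prime]
    {x y : C} (hx : x ^ p = 1) (hx1 : x ≠ 1) (hy : y ^ p = 1) : y ∈ Subgroup.zpowers x := by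
  classical
  letI := Fintype.ofFinite C
  have ho : orderOf x = p := orderOf_eq_prime hx hx1
  have hsub : (Finset.univ.filter fun z : C => z ∈ Subgroup.zpowers x) ⊆
      (Finset.univ.filter fun z : C => z ^ p = 1) := by
    intro z hz
    simp only [Finset.mem_filter, Finset.mem_univ, true_and] at hz ⊢
    obtain ⟨k, rfl⟩ := Subgroup.mem_zpowers_iff.1 hz
    rw [← zpow_natCast, ← zpow_mul, mul_comm, zpow_mul, zpow_natCast, hx, one_zpow]
  have hle : (Finset.univ.filter fun z : C => z ^ p = 1).card ≤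
      (Finset.univ.filter fun z : C => z ∈ Subgroup.zpowers x).card := by
    refine (IsCyclic.card_pow_eq_one_le (Fact.out : p.Prime).pos).trans ?_
    rw [← Fintype.card_subtype, Fintype.card_zpowers, ho]
  have := (Finset.eq_of_subset_of_card_le hsub hle).symm.subset
    (Finset.mem_filter.2 ⟨Finset.mem_univ y, hy⟩)
  exact (Finset.mem_filter.1 this).2

/-- Each layer of the socle has order at most `p`. -/
def Thin (X : Type*) [CommGroup X] (p : ℕ) : Prop :=
  ∀ (e : ℕ) (x y : X), x ^ p = 1 → (∃ u, u ^ p ^ e = x) → y ^ p = 1 → (∃ u, u ^ p ^ e = y) →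
    (¬ ∃ u, u ^ p ^ (e + 1) = x) → ∃ k : ℤ, ∃ u, u ^ p ^ (e + 1) = y * (x ^ k)⁻¹

variable {X : Type*} [CommGroup X] [Finite X] {p : ℕ} [Fact p.Prime]

theorem thin_or_repeated (hX : IsPGroup p X) : Thin X p ∨ ∃ (n : ℕ) (H : Type) (_ : CommGroup H),
    0 < n ∧ Nonempty (X ≃* (Multiplicative (ZMod (p ^ n)) × Multiplicative (ZMod (p ^ n))) × H) := by
  classical
  obtain ⟨ι, _, n, hn, ⟨f⟩⟩ := CommGroup.equiv_prod_multiplicative_zmod_of_finite X
  obtain ⟨m, hm⟩ := hX.exists_card_eq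
  have hprod : ∏ i, n i = p ^ m := by
    rw [← hm, Nat.card_congr f.toEquiv, Nat.card_pi]
    exact Finset.prod_congr rfl fun i _ =>
      (Nat.card_zmod (n i)).symm
  have hpow : ∀ i, ∃ a, 1 ≤ a ∧ n i = p ^ a := by
    intro i
    obtain ⟨a, -, ha⟩ := (Nat.dvd_prime_pow (Fact.out : p.Prime)).1
      (hprod ▸ Finset.dvd_prod_of_mem n (Finset.mem_univ i))
    refine ⟨a, ?_, ha⟩
    by_contra h
    have := hn i
    rw [ha, show a = 0 by omega, pow_zero] at this
    exact lt_irrefl 1 this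
  choose a ha1 ha using hpow
  obtain rfl : n = fun i => p ^ a i := funext ha
  by_cases hinj : Function.Injective a
  · left
    intro e x y hx hxe hy hye hxn
    have key : ∀ z : X, z ^ p = 1 → (∃ u, u ^ p ^ e = z) → (∀ i, a i = e + 1 → f z i = 1) →
        ∃ u, u ^ p ^ (e + 1) = z := by
      intro z hz ⟨u, hu⟩ hz0
      have hc : ∀ i, ∃ v, v ^ p ^ (e + 1) = f z i := by
        intro i
        have hzi : f z i ^ p = 1 := by rw [← Pi.pow_apply, ← map_pow, hz, map_one]; rfl
        have hcard : ∀ v : Multiplicative (ZMod (p ^ a i)), v ^ p ^ a i = 1 := fun v => by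
          have h := pow_card_eq_one' (x := v)
          rwa [Nat.card_congr Multiplicative.toAdd, Nat.card_zmod] at h
        rcases Nat.lt_trichotomy (a i) (e + 1) with h | h | h
        · refine ⟨1, ?_⟩
          obtain ⟨d, hd⟩ : p ^ a i ∣ p ^ e := Nat.pow_dvd_pow p (by omega)
          rw [← hu, map_pow, Pi.pow_apply, hd, pow_mul, hcard, one_pow, one_pow]
        · exact ⟨1, by rw [one_pow, hz0 i h]⟩
        · let g : Multiplicative (ZMod (p ^ a i)) := Multiplicative.ofAdd 1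
          have hg : orderOf g = p ^ a i := by
            rw [show orderOf g = addOrderOf (1 : ZMod (p ^ a i)) from orderOf_ofAdd_eq_addOrderOf _,
              ZMod.addOrderOf_one]
          have hg1 : g ^ p ^ (a i - 1) ≠ 1 := by
            intro h'
            have := orderOf_dvd_of_pow_eq_one h'
            rw [hg, Nat.pow_dvd_pow_iff_le_right (Fact.out : p.Prime).one_lt] at this
            omega
          have hgp : (g ^ p ^ (a i - 1)) ^ p = 1 := by
            rw [← pow_mul, ← pow_succ, show a i - 1 + 1 = a i by omega, hcard]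
          obtain ⟨j, hj⟩ := Subgroup.mem_zpowers_iff.1 (mem_zpowers_of_pow hgp hg1 hzi)
          refine ⟨(g ^ p ^ (a i - 1 - (e + 1))) ^ j, ?_⟩
          rw [← hj, ← zpow_natCast, ← zpow_mul, mul_comm, zpow_mul, zpow_natCast, ← pow_mul, ← pow_add]
          congr 3
          omega
      choose v hv using hc
      refine ⟨f.symm v, f.injective ?_⟩
      rw [map_pow, f.apply_symm_apply]
      exact funext hv
    by_cases hk : ∃ i, a i = e + 1
    · obtain ⟨i0, hi0⟩ := hk
      have hxi : f x i0 ≠ 1 := fun h => hxn (key x hx hxe fun i hi => hinj (hi.trans hi0.symm) ▸ h)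
      have hp1 : ∀ z : X, z ^ p = 1 → f z i0 ^ p = 1 := fun z hz => by
        rw [← Pi.pow_apply, ← map_pow, hz, map_one]; rfl
      obtain ⟨k, hk⟩ := Subgroup.mem_zpowers_iff.1 (mem_zpowers_of_pow (hp1 x hx) hxi (hp1 y hy))
      refine ⟨k, key _ ?_ ?_ fun i hi => ?_⟩
      · rw [mul_pow, hy, one_mul, inv_pow, ← zpow_natCast, ← zpow_mul, mul_comm, zpow_mul,
          zpow_natCast, hx, one_zpow, inv_one]
      · obtain ⟨u, rfl⟩ := hxe
        obtain ⟨w, rfl⟩ := hye
        refine ⟨w * (u ^ k)⁻¹, ?_⟩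
        rw [mul_pow, inv_pow, ← zpow_natCast (u ^ k), ← zpow_mul, mul_comm k, zpow_mul, zpow_natCast]
      · obtain rfl := hinj (hi.trans hi0.symm)
        rw [map_mul, Pi.mul_apply, map_inv, Pi.inv_apply, map_zpow, Pi.pow_apply, hk, mul_inv_cancel]
    · refine ⟨0, ?_⟩
      rw [zpow_zero, inv_one, mul_one]
      exact key y hy hye fun i hi => absurd ⟨i, hi⟩ hk
  · right
    simp only [Function.Injective, not_forall] at hinj
    obtain ⟨k, l, hkl, hne⟩ := hinj
    refine ⟨a k, ∀ i : {i : ι // i ≠ k ∧ i ≠ l}, Multiplicative (ZMod (p ^ a i)), inferInstance,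
      ha1 k, ⟨f.trans ?_⟩⟩
    let cast : Multiplicative (ZMod (p ^ a l)) ≃* Multiplicative (ZMod (p ^ a k)) :=
      (ZMod.ringEquivCongr (by rw [hkl])).toAddEquiv.toMultiplicative
    refine MulEquiv.ofBijective (MonoidHom.mk' (fun z => ((z k, cast (z l)), fun i => z i))
      fun z w => by simp [Prod.ext_iff, funext_iff]) ⟨fun z w h => ?_, fun v => ?_⟩
    · simp only [MonoidHom.mk'_apply, Prod.mk.injEq, funext_iff, Subtype.forall] at h
      funext i
      rcases eq_or_ne i k with rfl | hik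
      · exact h.1.1
      rcases eq_or_ne i l with rfl | hil
      · exact cast.injective h.1.2
      exact h.2 i ⟨hik, hil⟩
    · refine ⟨fun i => if h : i = k then h ▸ v.1.1 else if h' : i = l then h' ▸ cast.symm v.1.2
        else v.2 ⟨i, h, h'⟩, ?_⟩
      simp only [MonoidHom.mk'_apply]
      refine Prod.ext (Prod.ext (by simp) ?_) (funext fun i => ?_)
      · simp [Ne.symm hne]
      · simp [i.2.1, i.2.2]

/-- The refinement of the series of kernels of powers by the series of images. -/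
def layer (X : Type*) [CommGroup X] (p j i : ℕ) : Subgroup X :=
  (powMonoidHom (p ^ j) : X →* X).ker ⊔
    ((powMonoidHom (p ^ (j + 1)) : X →* X).ker ⊓ (powMonoidHom (p ^ i) : X →* X).range)

omit [Finite X] [Fact p.Prime] in
theorem layer_map (α : X ≃* X) {j i : ℕ} {z : X} (hz : z ∈ layer X p j i) :
    α z ∈ layer X p j i := by
  rw [layer, Subgroup.mem_sup] at hz ⊢
  obtain ⟨u, hu, w, ⟨hw, v, hv⟩, rfl⟩ := hz
  simp only [MonoidHom.mem_ker, powMonoidHom_apply, SetLike.mem_coe] at hu hw hv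
  have hw : w ^ p ^ (j + 1) = 1 := hw
  refine ⟨α u, ?_, α w, ⟨?_, α v, ?_⟩, (map_mul α u w).symm⟩
  · rw [MonoidHom.mem_ker, powMonoidHom_apply, ← map_pow, hu, map_one]
  · show (α w) ^ p ^ (j + 1) = 1
    rw [← map_pow, hw, map_one]
  · rw [powMonoidHom_apply, ← map_pow, hv]

omit [Finite X] [Fact p.Prime] in
theorem layer_step (hT : Thin X p) (j i : ℕ) :
    ∃ x : X, layer X p j i = layer X p j (i + 1) ⊔ Subgroup.zpowers x := by
  have hle : layer X p j (i + 1) ≤ layer X p j i := by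
    refine sup_le_sup_left (inf_le_inf_left _ ?_) _
    rintro _ ⟨v, rfl⟩
    exact ⟨v ^ p, by simp [← pow_mul, pow_succ']⟩
  set B := (powMonoidHom (p ^ (j + 1)) : X →* X).ker ⊓ (powMonoidHom (p ^ i) : X →* X).range with hB
  by_cases hall : ∀ x ∈ B, x ∈ layer X p j (i + 1)
  · refine ⟨1, ?_⟩
    rw [Subgroup.zpowers_one_eq_bot, sup_bot_eq]
    exact le_antisymm (sup_le le_sup_left hall) hle
  push Not at hall
  obtain ⟨x, hxB, hx⟩ := hall
  refine ⟨x, le_antisymm (sup_le (le_sup_left.trans le_sup_left) fun y hy => ?_)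
    (sup_le hle (Subgroup.zpowers_le.2 (Subgroup.mem_sup_right hxB)))⟩
  obtain ⟨hx1, u, hu⟩ := hxB
  obtain ⟨hy1, w, hw⟩ := hy
  have hx1 : x ^ p ^ (j + 1) = 1 := hx1
  have hy1 : y ^ p ^ (j + 1) = 1 := hy1
  simp only [powMonoidHom_apply] at hu hw
  have hin : ∀ (z v : X), z ^ p ^ (j + 1) = 1 → v ^ p ^ (i + j + 1) = z ^ p ^ j →
      z ∈ layer X p j (i + 1) := by
    intro z v hz hv
    rw [layer, Subgroup.mem_sup]
    refine ⟨z * (v ^ p ^ (i + 1))⁻¹, ?_, v ^ p ^ (i + 1), ⟨?_, v, rfl⟩, by simp⟩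
    · rw [MonoidHom.mem_ker, powMonoidHom_apply, mul_pow, inv_pow, ← pow_mul, ← pow_add,
        show i + 1 + j = i + j + 1 by omega, hv, mul_inv_cancel]
    · show (v ^ p ^ (i + 1)) ^ p ^ (j + 1) = 1
      rw [← pow_mul, ← pow_add,
        show i + 1 + (j + 1) = (i + j + 1) + 1 by omega, pow_succ, pow_mul, hv, ← pow_mul,
        ← pow_succ, hz]
  have hp : ∀ z : X, z ^ p ^ (j + 1) = 1 → (z ^ p ^ j) ^ p = 1 := fun z hz => by
    rw [← pow_mul, ← pow_succ, hz]
  obtain ⟨k, v, hv⟩ := hT (i + j) (x ^ p ^ j) (y ^ p ^ j) (hp x hx1)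
    ⟨u, by rw [← hu, ← pow_mul, ← pow_add]⟩ (hp y hy1) ⟨w, by rw [← hw, ← pow_mul, ← pow_add]⟩
    (fun ⟨v, hv⟩ => hx (hin x v hx1 hv))
  have hpk : (x ^ p ^ j) ^ k = (x ^ k) ^ p ^ j := by
    rw [← zpow_natCast x, ← zpow_mul, mul_comm, zpow_mul, zpow_natCast]
  have hyz : y * (x ^ k)⁻¹ ∈ layer X p j (i + 1) := by
    refine hin _ v ?_ (by rw [hv, hpk, mul_pow, inv_pow])
    rw [mul_pow, hy1, one_mul, inv_pow, ← zpow_natCast, ← zpow_mul, mul_comm, zpow_mul,
      zpow_natCast, hx1, one_zpow, inv_one]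
  rw [show y = y * (x ^ k)⁻¹ * x ^ k by simp]
  exact Subgroup.mul_mem_sup hyz (Subgroup.zpow_mem_zpowers x k)

variable (C : Type*) [CommGroup C]

/-- `(a, b) ↦ (b⁻¹, a)`. -/
def rot : MulAut (C × C) where
  toFun v := (v.2⁻¹, v.1)
  invFun v := (v.2, v.1⁻¹)
  left_inv v := by simp
  right_inv v := by simp
  map_mul' v w := by simp [mul_comm]

/-- `(a, b) ↦ (a⁻¹, b)`. -/
def flip' : MulAut (C × C) where
  toFun v := (v.1⁻¹, v.2)
  invFun v := (v.1⁻¹, v.2)
  left_inv v := by simp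
  right_inv v := by simp
  map_mul' v w := by simp [mul_comm]

/-- `(a, b) ↦ (b⁻¹, a b⁻¹)`. -/
def tri : MulAut (C × C) where
  toFun v := (v.2⁻¹, v.1 * v.2⁻¹)
  invFun v := (v.2 * v.1⁻¹, v.1⁻¹)
  left_inv v := by simp
  right_inv v := by simp
  map_mul' v w := by simp [mul_comm, mul_left_comm, mul_assoc]

variable {C}

omit [Fact p.Prime] in
/-- A group of automorphisms of `C × C`, of order prime to `p`, without an invariant line in the socle. -/
theorem exists_irreducible_aut [Finite C] [IsCyclic C] [Fact p.Prime] :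
    ∃ A : Subgroup (MulAut (C × C)), (Nat.card A).Coprime p ∧ ∀ W : Subgroup (C × C),
      (∀ α ∈ A, ∀ v ∈ W, α v ∈ W) → (∃ v ∈ W, v ^ p = 1 ∧ v ≠ 1) → ∀ v : C × C, v ^ p = 1 → v ∈ W := by
  classical
  have hp : p.Prime := Fact.out
  have hsplit : ∀ (W : Subgroup (C × C)) (z : C), z ^ p = 1 → z ≠ 1 → (z, 1) ∈ W → (1, z) ∈ W →
      ∀ v : C × C, v ^ p = 1 → v ∈ W := by
    rintro W z hz hz1 h1 h2 ⟨a, b⟩ hv
    simp only [Prod.pow_mk, Prod.mk_eq_one] at hv
    obtain ⟨i, rfl⟩ := Subgroup.mem_zpowers_iff.1 (mem_zpowers_of_pow hz hz1 hv.1)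
    obtain ⟨k, rfl⟩ := Subgroup.mem_zpowers_iff.1 (mem_zpowers_of_pow hz hz1 hv.2)
    have := W.mul_mem (W.zpow_mem h1 i) (W.zpow_mem h2 k)
    simpa [Prod.mk_mul_mk] using this
  rcases hp.eq_two_or_odd' with rfl | hodd
  · have ht : (tri C) ^ 3 = 1 := MulEquiv.ext fun v => by
      show tri C (tri C (tri C v)) = v
      simp [tri, mul_comm]
    refine ⟨Subgroup.zpowers (tri C), ?_, fun W hW ⟨⟨a, b⟩, hv, hv2, hv1⟩ => ?_⟩
    · rw [Nat.card_zpowers]
      exact Nat.Coprime.coprime_dvd_left (orderOf_dvd_of_pow_eq_one ht) (by norm_num)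
    simp only [Prod.pow_mk, Prod.mk_eq_one] at hv2
    have hinv : ∀ c : C, c ^ 2 = 1 → c⁻¹ = c := fun c hc =>
      inv_eq_of_mul_eq_one_right (by rw [← sq, hc])
    have htri : ∀ u w : C, w ^ 2 = 1 → (u, w) ∈ W → (w, u * w) ∈ W := fun u w hw h => by
      have := hW _ (Subgroup.mem_zpowers _) _ h
      simpa [tri, hinv w hw] using this
    obtain ⟨z, hz, hz1, hzW⟩ : ∃ z : C, z ^ 2 = 1 ∧ z ≠ 1 ∧ ((z, 1) : C × C) ∈ W := by
      by_cases hb : b = 1
      · subst hb
        exact ⟨a, hv2.1, fun e => hv1 (by rw [e]; rfl), hv⟩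
      by_cases ha : a = 1
      · subst ha
        have h2 := htri _ _ (by simpa using hv2.2) (htri _ _ hv2.2 hv)
        rw [one_mul, ← sq, hv2.2] at h2
        exact ⟨b, hv2.2, hb, h2⟩
      · obtain ⟨i, rfl⟩ := Subgroup.mem_zpowers_iff.1 (mem_zpowers_of_pow hv2.1 ha hv2.2)
        rcases Int.even_or_odd' i with ⟨c, rfl | rfl⟩
        · rw [zpow_mul, show (2 : ℤ) = ((2 : ℕ) : ℤ) from rfl, zpow_natCast, hv2.1, one_zpow] at hb
          exact absurd rfl hb
        · rw [zpow_add_one, zpow_mul, show (2 : ℤ) = ((2 : ℕ) : ℤ) from rfl, zpow_natCast, hv2.1,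
            one_zpow, one_mul] at hv
          have h2 := htri _ _ hv2.1 hv
          rw [← sq, hv2.1] at h2
          exact ⟨a, hv2.1, ha, h2⟩
    have h2 := htri z 1 (one_pow 2) hzW
    rw [mul_one] at h2
    exact hsplit W z hz hz1 hzW h2
  · have hr : (rot C) ^ 4 = 1 := MulEquiv.ext fun v => by
      show rot C (rot C (rot C (rot C v))) = v
      simp [rot]
    have hf : (flip' C) ^ 2 = 1 := MulEquiv.ext fun v => by
      show flip' C (flip' C v) = v
      simp [flip']
    have hconj : flip' C * rot C * (flip' C)⁻¹ = (rot C)⁻¹ := MulEquiv.ext fun v => by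
      show flip' C (rot C ((flip' C).symm v)) = (rot C).symm v
      simp [flip', rot]
    haveI : Fact (Nat.Prime 2) := ⟨Nat.prime_two⟩
    have hle : Subgroup.zpowers (flip' C) ≤
        Subgroup.normalizer (Subgroup.zpowers (rot C) : Set (MulAut (C × C))) := by
      rw [Subgroup.zpowers_le, Subgroup.mem_normalizer_iff]
      intro g
      have key : ∀ g ∈ Subgroup.zpowers (rot C), flip' C * g * (flip' C)⁻¹ ∈ Subgroup.zpowers (rot C) := by
        intro g hg
        obtain ⟨i, rfl⟩ := Subgroup.mem_zpowers_iff.1 hg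
        rw [← conj_zpow, hconj]
        exact Subgroup.zpow_mem _ (Subgroup.inv_mem _ (Subgroup.mem_zpowers _)) i
      refine ⟨key g, fun h => ?_⟩
      have := key _ h
      have hff : flip' C * flip' C = 1 := by rw [← sq, hf]
      rw [inv_eq_of_mul_eq_one_right hff] at this
      rwa [← mul_assoc, ← mul_assoc, hff, one_mul, mul_assoc, hff, mul_one] at this
    have hP : IsPGroup 2 ↥(Subgroup.zpowers (rot C) ⊔ Subgroup.zpowers (flip' C)) := by
      refine IsPGroup.to_sup_of_normal_left' (IsPGroup.of_card_dvd_pow (n := 2) ?_) (IsPGroup.of_card_dvd_pow (n := 1) ?_) hle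
      · rw [Nat.card_zpowers]; exact orderOf_dvd_of_pow_eq_one hr
      · rw [Nat.card_zpowers]; exact orderOf_dvd_of_pow_eq_one hf
    refine ⟨Subgroup.zpowers (rot C) ⊔ Subgroup.zpowers (flip' C), ?_,
      fun W hW ⟨⟨a, b⟩, hv, hv2, hv1⟩ => ?_⟩
    · obtain ⟨m, hm⟩ := hP.exists_card_eq
      rw [hm]
      exact ((Nat.coprime_primes Nat.prime_two hp).2 (fun h => by
        subst h; exact absurd hodd (by decide))).pow_left m
    simp only [Prod.pow_mk, Prod.mk_eq_one] at hv2
    have hrot : ∀ u w : C, (u, w) ∈ W → (w⁻¹, u) ∈ W := fun u w h =>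
      hW _ (Subgroup.mem_sup_left (Subgroup.mem_zpowers _)) _ h
    have hflip : ∀ u w : C, (u, w) ∈ W → (u⁻¹, w) ∈ W := fun u w h =>
      hW _ (Subgroup.mem_sup_right (Subgroup.mem_zpowers _)) _ h
    obtain ⟨z, hz, hz1, hzW⟩ : ∃ z : C, z ^ p = 1 ∧ z ≠ 1 ∧ ((z, 1) : C × C) ∈ W := by
      by_cases ha : a = 1
      · subst ha
        exact ⟨b⁻¹, by rw [inv_pow, hv2.2, inv_one], by simpa using hv1, hrot _ _ hv⟩
      · have h2 : ((a * a, 1) : C × C) ∈ W := by
          have := W.mul_mem hv (W.inv_mem (hflip _ _ hv))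
          simpa using this
        refine ⟨a * a, by rw [mul_pow, hv2.1, one_mul], fun e => ha ?_, h2⟩
        obtain ⟨c, hc⟩ := hodd
        rw [hc, pow_succ, pow_mul, sq, e, one_pow, one_mul] at hv2
        exact hv2.1
    exact hsplit W z hz hz1 hzW (hrot _ _ hzW |> fun h => by simpa using h)

end CfsgLib.Fusion.AbelianLayers
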