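import Mathlib
import Cfsg.Agent.Lib.Fusion.Hyperfocal
import Cfsg.Agent.Lib.Fusion.NormalSeries

/-!
Saturated systems on abelian `p`-groups: controlled by an automorphism group of order prime to `p`.
-/

set_option autoImplicit false

namespace CfsgLib.Fusion

open Cfsg Cfsg.FusionSystem

variable {Ω : Type*} [Group Ω] {S : Subgroup Ω} {F : FusionSystem S} {p : ℕ}
variable [Finite S] [Fact p.Prime]

theorem isNormal_top_of_abelian (hS : IsPGroup p S) (hF : F.IsSaturated p)
    (hab : ∀ x ∈ S, ∀ y ∈ S, x * y = y * x) : F.IsNormal S :=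
  isNormal_of_abelian hS hF ⟨le_rfl, fun _ _ φ hφ x => (F.le_of_mem hφ).2 x⟩ hab

theorem exists_aut_of_abelian (hS : IsPGroup p S) (hF : F.IsSaturated p)
    (hab : ∀ x ∈ S, ∀ y ∈ S, x * y = y * x) {P : Subgroup Ω} {f : Ω → Ω} (hf : IsMap F P f) :
    ∃ α ∈ F.autGroup S, ∀ x ∈ P, autFun α x = f x := by
  obtain ⟨g, hg, hag, hgS⟩ := (isNormal_iff.1 (isNormal_top_of_abelian hS hF hab)).2 P f hf
  obtain ⟨α, hα, hαv⟩ := exists_mem_autGroup (F := F) (f := g) ⟨hg.mono le_sup_right, hgS⟩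
  exact ⟨α, hα, fun x hx => by rw [autFun_apply α (hf.le hx), hαv, hag x hx]⟩

theorem coprime_card_autGroup_of_abelian (hS : IsPGroup p S) (hF : F.IsSaturated p)
    (hab : ∀ x ∈ S, ∀ y ∈ S, x * y = y * x) : Nat.Coprime (Nat.card (F.autGroup S)) p := by
  have := finite_mulAut S
  obtain ⟨-, R, hR⟩ := ((isSaturated_iff_top_automized_receptive hS).1 hF).1
  have hbot : autInducedBy S S = ⊥ := by
    rw [eq_bot_iff]
    intro α hα
    obtain ⟨g, hg, hv⟩ := (mem_autInducedBy_iff S S α).1 hα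
    refine Subgroup.mem_bot.2 (MulEquiv.ext fun x => Subtype.ext ?_)
    rw [hv, hab g hg x x.2, mul_inv_cancel_right, MulAut.one_apply]
  rw [hbot, Subgroup.bot_subgroupOf] at hR
  have h := R.not_dvd_index
  rw [hR, Subgroup.index_bot] at h
  exact ((Fact.out : p.Prime).coprime_iff_not_dvd.2 h).symm

theorem center_inf_focal_of_abelian (hS : IsPGroup p S) (hF : F.IsSaturated p)
    (hab : ∀ x ∈ S, ∀ y ∈ S, x * y = y * x) :
    F.center ⊓ F.focalSubgroup = ⊥ ∧ F.center ⊔ F.focalSubgroup = S := by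
  classical
  have := finite_mulAut S
  letI : CommGroup S :=
    { (inferInstance : Group S) with mul_comm := fun a b => Subtype.ext (hab a a.2 b b.2) }
  letI : Fintype (F.autGroup S) := Fintype.ofFinite _
  set A := F.autGroup S
  have hn := coprime_card_autGroup_of_abelian hS hF hab
  rw [Nat.card_eq_fintype_card] at hn
  have hsplit : ∀ x : S, ∀ k, x ^ p ^ k = 1 → ∃ m : ℕ, (x ^ Fintype.card A) ^ m = x := by
    intro x k hk
    obtain ⟨j, hj⟩ := exists_pow_eq_self_of_coprime (x := x)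
      (n := Fintype.card A) ((hn.pow_right k).coprime_dvd_right (orderOf_dvd_of_pow_eq_one hk))
    exact ⟨j, hj⟩
  let N : S →* S :=
    { toFun := fun x => ∏ α : A, (α : MulAut S) x
      map_one' := by simp
      map_mul' := fun x y => by simp [Finset.prod_mul_distrib] }
  have hNinv : ∀ (a : A) (x : S), N ((a : MulAut S) x) = N x := by
    intro a x
    exact Fintype.prod_equiv (Equiv.mulRight a) _ _ fun b => rfl
  have hNfix : ∀ (a : A) (x : S), (a : MulAut S) (N x) = N x := by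
    intro a x
    show (a : MulAut S) (∏ α : A, (α : MulAut S) x) = _
    rw [map_prod]
    exact Fintype.prod_equiv (Equiv.mulLeft a) _ _ fun b => rfl
  have hfocS : F.focalSubgroup ≤ S := by
    refine (Subgroup.closure_le _).2 ?_
    rintro _ ⟨P, φ, x, hφ, rfl⟩
    exact S.mul_mem (S.inv_mem ((F.le_of_mem hφ).1 x.2)) ((F.le_of_mem hφ).2 x)
  have hker : ∀ z : S, (z : Ω) ∈ F.focalSubgroup → N z = 1 := by
    have h : F.focalSubgroup ≤ N.ker.map S.subtype := by
      refine (Subgroup.closure_le _).2 ?_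
      rintro _ ⟨P, φ, x, hφ, rfl⟩
      obtain ⟨α, hα, hv⟩ := exists_aut_of_abelian hS hF hab (isMap_homFun hφ)
      have hxS : (x : Ω) ∈ S := (F.le_of_mem hφ).1 x.2
      refine ⟨(⟨x, hxS⟩ : S)⁻¹ * α ⟨x, hxS⟩, ?_, ?_⟩
      · rw [SetLike.mem_coe, MonoidHom.mem_ker, map_mul, map_inv, hNinv ⟨α, hα⟩, inv_mul_cancel]
      · have h1 := hv x x.2
        rw [autFun_apply α hxS, homFun_coe] at h1
        simp [h1]
    intro z hz
    obtain ⟨y, hy, he⟩ := h hz
    rw [← Subtype.ext he]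
    exact hy
  have hcen : ∀ z : S, (∀ a : A, (a : MulAut S) z = z) → (z : Ω) ∈ F.center := by
    intro z hz
    have h : F.IsCentral (Subgroup.zpowers (z : Ω)) := by
      refine isCentral_of_fixed hS hF (Subgroup.zpowers_le.2 z.2) fun P f hf x hx hxz => ?_
      obtain ⟨i, rfl⟩ := Subgroup.mem_zpowers_iff.1 hxz
      obtain ⟨α, hα, hv⟩ := exists_aut_of_abelian hS hF hab hf
      rw [← hv _ hx, ← SubgroupClass.coe_zpow, autFun_coe, map_zpow, hz ⟨α, hα⟩]
    exact (le_sSup h : Subgroup.zpowers (z : Ω) ≤ F.center) (Subgroup.mem_zpowers _)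
  have hfixed : ∀ z : S, (z : Ω) ∈ F.center → ∀ a : A, (a : MulAut S) z = z := by
    intro z hz a
    obtain ⟨g, hg, hag, hfix⟩ := (isCentral_iff.1 (isCentral_center F)).2 S _
      ((mem_autGroup_iff le_rfl (a : MulAut S)).1 a.2).isMap
    refine Subtype.ext ?_
    rw [← autFun_coe (a : MulAut S) z, ← hag z z.2]
    exact hfix z hz
  constructor
  · rw [eq_bot_iff]
    rintro x ⟨hxC, hxF⟩
    have h1 := hker ⟨x, hfocS hxF⟩ hxF
    have h2 : N ⟨x, hfocS hxF⟩ = (⟨x, hfocS hxF⟩ : S) ^ Fintype.card A := by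
      show (∏ α : A, (α : MulAut S) ⟨x, hfocS hxF⟩) = _
      rw [Finset.prod_congr rfl fun a _ => hfixed _ hxC a, Finset.prod_const, Finset.card_univ]
    rw [h2] at h1
    obtain ⟨k, hk⟩ := hS ⟨x, hfocS hxF⟩
    obtain ⟨m, hm⟩ := hsplit _ k hk
    rw [h1, one_pow] at hm
    exact Subgroup.mem_bot.2 (congrArg Subtype.val hm.symm)
  · refine le_antisymm (sup_le (isCentral_center F).1 hfocS) fun x hx => ?_
    set y : S := ⟨x, hx⟩
    have h1 : ∀ a : A, ((y⁻¹ * (a : MulAut S) y : S) : Ω) ∈ F.focalSubgroup := by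
      intro a
      obtain ⟨φ, hφ, hv⟩ := ((mem_autGroup_iff le_rfl (a : MulAut S)).1 a.2).isMap
      refine Subgroup.subset_closure ⟨S, φ, y, hφ, ?_⟩
      rw [hv, autFun_coe]
      rfl
    let W : Subgroup S := (F.center ⊔ F.focalSubgroup).subgroupOf S
    have h2 : y ^ Fintype.card A = N y * (∏ a : A, y⁻¹ * (a : MulAut S) y)⁻¹ := by
      rw [Finset.prod_mul_distrib, Finset.prod_const, Finset.card_univ, mul_inv_rev, inv_pow,
        inv_inv]
      show _ = (∏ α : A, (α : MulAut S) y) * _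
      rw [mul_inv_cancel_left]
    have h3 : y ^ Fintype.card A ∈ W := by
      rw [h2]
      refine W.mul_mem ?_ (W.inv_mem (prod_mem fun a _ => ?_))
      · exact Subgroup.mem_subgroupOf.2 (Subgroup.mem_sup_left (hcen _ fun a => hNfix a y))
      · exact Subgroup.mem_subgroupOf.2 (Subgroup.mem_sup_right (h1 a))
    obtain ⟨k, hk⟩ := hS y
    obtain ⟨m, hm⟩ := hsplit y k hk
    have h4 := W.pow_mem h3 m
    rw [hm] at h4
    exact h4

end CfsgLib.Fusion
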