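import Cfsg.Agent.Lib.Fusion.Simple

/-!
Variants of the simplicity criterion: `p`-elements of any normalizer induce maps of an invariant
subsystem, and maps climb inside any subgroup normalized by the element.
-/

set_option autoImplicit false

namespace CfsgLib.Fusion

open Cfsg Cfsg.FusionSystem

variable {G : Type*} [Group G] [Finite G] {p : ℕ} [Fact p.Prime] {S : Sylow p G}
variable {E : FusionSystem (S : Subgroup G)}

/-- Every element of `p`-power order normalizing a subgroup of `S` induces a map of an invariant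
subsystem on `S` there. -/
theorem isMap_conj_of_pElement (hinv : E.IsInvariantIn (groupFusionSystem (S : Subgroup G)))
    {R : Subgroup G} (hR : R ≤ (S : Subgroup G)) {x : G}
    (hx : x ∈ Subgroup.normalizer (R : Set G)) (hxp : ∃ k : ℕ, orderOf x = p ^ k) :
    IsMap E R (fun r => x * r * x⁻¹) := by
  obtain ⟨R', hRR', hfn⟩ := exists_isFullyNormalized (F := groupFusionSystem (S : Subgroup G)) hR
  obtain ⟨h₀, hh₀⟩ := isConj_iff.1 hRR'
  obtain ⟨-, -, g, hg⟩ := isMap_group_iff.1 hh₀.isMap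
  have hiso : IsIso (groupFusionSystem (S : Subgroup G)) R R' (fun r => g * r * g⁻¹) :=
    hh₀.congr hg
  have hx' : g * x * g⁻¹ ∈ Subgroup.normalizer (R' : Set G) := by
    refine Subgroup.mem_normalizer_fintype fun y hy => ?_
    obtain ⟨r, hr, rfl⟩ := hiso.surj hy
    rw [show g * x * g⁻¹ * (g * r * g⁻¹) * (g * x * g⁻¹)⁻¹ = g * (x * r * x⁻¹) * g⁻¹ by group]
    exact hiso.mem (conj_mem_of_mem_normalizer hx hr)
  have hxp' : ∃ k : ℕ, orderOf (g * x * g⁻¹) = p ^ k := by
    obtain ⟨k, hk⟩ := hxp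
    exact ⟨k, hk ▸ orderOf_injective (MulAut.conj g).toMonoidHom (MulAut.conj g).injective x⟩
  obtain ⟨-, hmap⟩ :=
    isMap_conj_of_mem_closure hinv hfn (Subgroup.subset_closure ⟨hx', hxp'⟩)
  obtain ⟨a, ha, f₀, hf₀, hv⟩ := exists_frattini hinv hR hiso.isMap
  obtain ⟨Q, hQ⟩ := hf₀.exists_iso
  have hQS := hQ.le_right
  have hR'S := hfn.1
  have him : autFun a⁻¹ '' (R' : Set G) = Q := by
    rw [← hQ.image_eq, ← hiso.image_eq, Set.image_image]
    refine Set.image_congr fun r hr => ?_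
    rw [hv r hr, autFun_apply a (hf₀.mem hr), autFun_coe, MulAut.inv_apply_self]
  obtain ⟨f', hf', hf'v⟩ := exists_transport hinv hmap (Subgroup.inv_mem _ ha) him
  obtain ⟨f₁, hf₁, hf₁v, -⟩ := hQ.exists_symm
  have hinvv : ∀ r ∈ R, autFun a⁻¹ (g * r * g⁻¹) = f₀ r := fun r hr => by
    rw [hv r hr, autFun_apply a (hf₀.mem hr), autFun_coe, MulAut.inv_apply_self]
  have hstep : ∀ r ∈ R, f' (f₀ r) = f₀ (x * r * x⁻¹) := fun r hr => by
    rw [← hinvv r hr, hf'v _ (hiso.mem hr),
      show g * x * g⁻¹ * (g * r * g⁻¹) * (g * x * g⁻¹)⁻¹ = g * (x * r * x⁻¹) * g⁻¹ by group,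
      hinvv _ (conj_mem_of_mem_normalizer hx hr)]
  have hmemQ : ∀ r ∈ R, f' (f₀ r) ∈ Q := fun r hr =>
    hstep r hr ▸ hQ.mem (conj_mem_of_mem_normalizer hx hr)
  refine ((hf₀.comp hf' fun r hr => hQ.mem hr).comp hf₁.isMap hmemQ).congr fun r hr => ?_
  show f₁ (f' (f₀ r)) = _
  rw [hstep r hr, hf₁v _ (conj_mem_of_mem_normalizer hx hr)]

/-- The elements of `N(R)` inducing maps of `E` on `R`. -/
def mapGroup (E : FusionSystem (S : Subgroup G)) (R : Subgroup G) : Subgroup G :=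
  ((E.autGroup R).comap R.normalizerMonoidHom).map (Subgroup.normalizer (R : Set G)).subtype

theorem mem_mapGroup_iff {R : Subgroup G} (hR : R ≤ (S : Subgroup G)) {x : G} :
    x ∈ mapGroup E R ↔
      x ∈ Subgroup.normalizer (R : Set G) ∧ IsMap E R (fun r => x * r * x⁻¹) := by
  constructor
  · rintro ⟨⟨y, hy⟩, hyE, rfl⟩
    exact ⟨hy, ((mem_autGroup_iff hR _).1 hyE).isMap.congr fun r hr => by
      rw [autFun_apply _ hr]; rfl⟩
  · rintro ⟨hx, hmap⟩
    exact ⟨⟨x, hx⟩, mem_autGroup_of_isMap hmap _ fun r => rfl, rfl⟩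

theorem mem_mapGroup_of_pElement (hinv : E.IsInvariantIn (groupFusionSystem (S : Subgroup G)))
    {R : Subgroup G} (hR : R ≤ (S : Subgroup G)) {x : G}
    (hx : x ∈ Subgroup.normalizer (R : Set G)) (hxp : ∃ k : ℕ, orderOf x = p ^ k) :
    x ∈ mapGroup E R :=
  (mem_mapGroup_iff hR).2 ⟨hx, isMap_conj_of_pElement hinv hR hx hxp⟩

/-- An element normalizing the centric `R` and a subgroup `U` of `S` above it, inducing a map of
`E` on `R`, does so on `N_U(R)`. -/
theorem isMap_conj_normalizerIn_of (hsat : E.IsSaturated p)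
    (hsub : E.IsSubsystemOf (groupFusionSystem (S : Subgroup G))) {R U : Subgroup G}
    (hU : U ≤ (S : Subgroup G)) (hRU : R ≤ U)
    (hR : (groupFusionSystem (S : Subgroup G)).IsCentric R) {g : G}
    (hgU : g ∈ Subgroup.normalizer (U : Set G)) (hgR : g ∈ Subgroup.normalizer (R : Set G))
    (hmap : IsMap E R (fun x => g * x * g⁻¹)) :
    IsMap E (normalizerIn U R) (fun x => g * x * g⁻¹) := by
  set N := normalizerIn U R
  have hNS : N ≤ (S : Subgroup G) := inf_le_left.trans hU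
  have hRN : R ≤ N := le_normalizerIn hRU
  have hrec : E.IsReceptive R := isReceptive_of_isFullyCentralized S.isPGroup' hsat
    (isFullyCentralized_of_isCentric (isCentric_of_subsystem hsub hR))
  have hiso : IsIso E R R (fun x => g * x * g⁻¹) := by
    refine ⟨hmap, Set.ext fun y => ⟨?_, fun hy => ?_⟩⟩
    · rintro ⟨x, hx, rfl⟩
      exact conj_mem_of_mem_normalizer hgR hx
    · exact ⟨g⁻¹ * y * g, (Subgroup.mem_normalizer_iff''.1 hgR y).1 hy, by group⟩
  obtain ⟨f, hf, hfv⟩ := (isReceptive_iff.1 hrec).2 R _ hiso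
  have hN : N ≤ nPhi (S : Subgroup G) R (fun x => g * x * g⁻¹) := by
    intro a ha
    exact ⟨hU ha.1, ha.2, g * a * g⁻¹, hU (conj_mem_of_mem_normalizer hgU ha.1),
      fun x _ => by group⟩
  have hfN := hf.mono hN
  obtain ⟨-, -, k, hk⟩ := isMap_group_iff.1 (isMap_of_subsystem hsub hfN)
  have hfR : IsIso E R R f := hiso.congr fun x hx => (hfv x hx).symm
  have hgN : ∀ a ∈ N, g * a * g⁻¹ ∈ N := fun a ha =>
    ⟨conj_mem_of_mem_normalizer hgU ha.1,
      Subgroup.mul_mem _ (Subgroup.mul_mem _ hgR ha.2) (Subgroup.inv_mem _ hgR)⟩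
  set c := k⁻¹ * g with hc
  have hkR : ∀ x ∈ R, k * x * k⁻¹ = g * x * g⁻¹ := fun x hx => by
    rw [← hk x (hRN hx), hfv x hx]
  have hcR : c ∈ Subgroup.centralizer (R : Set G) := mul_inv_mem_centralizer fun x hx => (hkR x hx).symm
  have hZ : centralizerIn (S : Subgroup G) R ≤ R := hR.2 R (isConj_refl hR.1)
  have hkN : ∀ a ∈ N, k * a * k⁻¹ ∈ N := fun a ha => by
    have hkS : k * a * k⁻¹ ∈ (S : Subgroup G) := by rw [← hk a ha]; exact hfN.mem ha
    have hd : (g * a * g⁻¹)⁻¹ * (k * a * k⁻¹) ∈ R := by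
      refine hZ ⟨Subgroup.mul_mem _ (Subgroup.inv_mem _ (hNS (hgN a ha))) hkS,
        mem_centralizer_of_conj_eq fun y hy => ?_⟩
      have hy1 : g⁻¹ * y * g ∈ R := (Subgroup.mem_normalizer_iff''.1 hgR y).1 hy
      have hy2 : a * (g⁻¹ * y * g) * a⁻¹ ∈ R := conj_mem_of_mem_normalizer ha.2 hy1
      have e1 : k⁻¹ * y * k = g⁻¹ * y * g := by
        have := hkR _ hy1
        rw [show g * (g⁻¹ * y * g) * g⁻¹ = y by group] at this
        conv_lhs => rw [← this]
        group
      calc (g * a * g⁻¹)⁻¹ * (k * a * k⁻¹) * y * ((g * a * g⁻¹)⁻¹ * (k * a * k⁻¹))⁻¹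
          = (g * a * g⁻¹)⁻¹ * (k * (a * (k⁻¹ * y * k) * a⁻¹) * k⁻¹) * (g * a * g⁻¹) := by group
        _ = y := by rw [e1, hkR _ hy2]; group
    have := N.mul_mem (hgN a ha) (hRN hd)
    rwa [mul_inv_cancel_left] at this
  have hknorm : k ∈ Subgroup.normalizer (N : Set G) := by
    haveI : Finite N := inferInstance
    exact Subgroup.mem_normalizer_fintype hkN
  have hcN : c ∈ Subgroup.normalizer (N : Set G) :=
    Subgroup.mul_mem _ (Subgroup.inv_mem _ hknorm) (Subgroup.mem_normalizer_fintype hgN)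
  -- split `c` into its `p`-part and `p'`-part
  obtain ⟨a, r, hr, hord⟩ := Nat.exists_eq_pow_mul_and_not_dvd (orderOf_pos c).ne' p
    (Fact.out : p.Prime).ne_one
  obtain ⟨u, hu1, hu0⟩ := Nat.chineseRemainder
    (((Fact.out : p.Prime).coprime_iff_not_dvd).2 hr |>.pow_left a) 1 0
  have hzp : (c ^ u) ^ p ^ a = 1 := by
    rw [← pow_mul, ← orderOf_dvd_iff_pow_eq_one, hord, mul_comm u]
    exact mul_dvd_mul_left _ (Nat.modEq_zero_iff_dvd.1 hu0)
  set k' := c ^ ((1 : ℤ) - u) with hk'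
  have hk'r : k' ^ r = 1 := by
    rw [hk', ← zpow_natCast, ← zpow_mul, ← orderOf_dvd_iff_zpow_eq_one, hord]
    push_cast
    exact mul_dvd_mul_right (Nat.modEq_iff_dvd.1 hu1) _
  have hcsplit : c = c ^ u * k' := by
    rw [hk', ← zpow_natCast, ← zpow_add]
    simp
  have hzR : c ^ u ∈ R := by
    set Z := centralizerIn (S : Subgroup G) R
    have hzc : c ^ u ∈ Subgroup.centralizer (R : Set G) := Subgroup.pow_mem _ hcR u
    have hzp' : IsPGroup p (Subgroup.zpowers (c ^ u)) := fun x => ⟨a, by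
      obtain ⟨_, m, rfl⟩ := x
      apply Subtype.ext
      show ((c ^ u) ^ m) ^ p ^ a = 1
      rw [← zpow_natCast, ← zpow_mul, mul_comm, zpow_mul, zpow_natCast, hzp, one_zpow]⟩
    have hnorm : Subgroup.zpowers (c ^ u) ≤ Subgroup.normalizer (Z : Set G) := by
      rw [Subgroup.zpowers_le]
      exact Subgroup.mem_normalizer_fintype fun x hx =>
        (conj_eq_self_of_mem_centralizer hzc (hZ hx)).symm ▸ hx
    have hp' : IsPGroup p (Subgroup.zpowers (c ^ u) ⊔ Z : Subgroup G) :=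
      hzp'.to_sup_of_normal_right' (S.isPGroup'.to_le inf_le_left) hnorm
    have hcard := (isFullyCentralized_group_iff S hR.1).1 (isFullyCentralized_of_isCentric hR) _
      (sup_le (Subgroup.zpowers_le.2 hzc) inf_le_right) hp'
    exact hZ ((Subgroup.eq_of_le_of_card_ge le_sup_right hcard).ge
      (Subgroup.mem_sup_left (Subgroup.mem_zpowers _)))
  -- the `p'`-part centralizes `N`
  have hk'C : ∀ x ∈ N, k' * x * k'⁻¹ = x := by
    intro x hx
    have hk'R : k' ∈ Subgroup.centralizer (R : Set G) := Subgroup.zpow_mem _ hcR _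
    set d := k' * x * k'⁻¹ * x⁻¹ with hd
    have hdN : d ∈ N :=
      N.mul_mem (conj_mem_of_mem_normalizer (Subgroup.zpow_mem _ hcN _) hx) (N.inv_mem hx)
    have hdR : d ∈ R := hZ ⟨hNS hdN, mem_centralizer_of_conj_eq fun y hy => by
      have hy' := conj_mem_of_mem_normalizer (inv_mem hx.2) hy
      calc d * y * d⁻¹ = k' * (x * (k'⁻¹ * (x⁻¹ * y * x⁻¹⁻¹) * k'⁻¹⁻¹) * x⁻¹) * k'⁻¹ := by
            rw [hd]; group
        _ = k' * y * k'⁻¹ := by
            rw [conj_eq_self_of_mem_centralizer (inv_mem hk'R) hy']; group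
        _ = y := conj_eq_self_of_mem_centralizer hk'R hy⟩
    have hpow : ∀ n : ℕ, k' ^ n * x * (k' ^ n)⁻¹ = d ^ n * x := by
      intro n
      induction n with
      | zero => simp
      | succ n ih =>
        calc k' ^ (n + 1) * x * (k' ^ (n + 1))⁻¹
            = k' * (k' ^ n * x * (k' ^ n)⁻¹) * k'⁻¹ := by rw [pow_succ']; group
          _ = (k' * d ^ n * k'⁻¹) * (k' * x * k'⁻¹) := by rw [ih]; group
          _ = d ^ (n + 1) * x := by
            rw [conj_eq_self_of_mem_centralizer hk'R (R.pow_mem hdR n), pow_succ, hd]; group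
    have hdr : d ^ r = 1 := by
      have := hpow r
      rw [hk'r] at this
      simpa using this.symm
    obtain ⟨b, hb⟩ := S.isPGroup' ⟨d, hNS hdN⟩
    have hd1 : d = 1 := by
      have h1 : orderOf d ∣ Nat.gcd (p ^ b) r :=
        Nat.dvd_gcd (orderOf_dvd_of_pow_eq_one (congrArg Subtype.val hb))
          (orderOf_dvd_of_pow_eq_one hdr)
      rw [(((Fact.out : p.Prime).coprime_iff_not_dvd).2 hr |>.pow_left b).gcd_eq_one,
        Nat.dvd_one, orderOf_eq_one_iff] at h1
      exact h1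
    rw [hd, mul_inv_eq_one] at hd1
    exact hd1
  refine ((isMap_conj hNS (hR.1 hzR)).comp hfN fun x hx =>
    N.mul_mem (N.mul_mem (hRN hzR) hx) (N.inv_mem (hRN hzR))).congr fun x hx => ?_
  show f (c ^ u * x * (c ^ u)⁻¹) = g * x * g⁻¹
  rw [hk _ (N.mul_mem (N.mul_mem (hRN hzR) hx) (N.inv_mem (hRN hzR)))]
  calc k * (c ^ u * x * (c ^ u)⁻¹) * k⁻¹
      = k * (c ^ u * (k' * x * k'⁻¹) * (c ^ u)⁻¹) * k⁻¹ := by rw [hk'C x hx]
    _ = k * ((c ^ u * k') * x * (c ^ u * k')⁻¹) * k⁻¹ := by group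
    _ = g * x * g⁻¹ := by rw [← hcsplit, hc]; group

/-- Climbing from a centric subgroup to `U`. -/
theorem isMap_conj_climb (hsat : E.IsSaturated p)
    (hsub : E.IsSubsystemOf (groupFusionSystem (S : Subgroup G))) {U : Subgroup G}
    (hU : U ≤ (S : Subgroup G)) {g : G}
    (hgU : g ∈ Subgroup.normalizer (U : Set G)) {R : Subgroup G} (hRU : R ≤ U)
    (hR : (groupFusionSystem (S : Subgroup G)).IsCentric R)
    (hgR : g ∈ Subgroup.normalizer (R : Set G))
    (hmap : IsMap E R (fun x => g * x * g⁻¹)) : IsMap E U (fun x => g * x * g⁻¹) := by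
  induction hd : Nat.card U - Nat.card R using Nat.strong_induction_on generalizing R with
  | _ n ih =>
  rcases eq_or_ne R U with rfl | hne
  · exact hmap
  · have hlt : R < normalizerIn U R := lt_normalizerIn (S.isPGroup'.to_le hU) hRU hne
    have h1 : Nat.card R < Nat.card (normalizerIn U R) := by
      refine lt_of_le_of_ne (Subgroup.card_le_of_le hlt.le) fun h => ?_
      exact hlt.ne (Subgroup.eq_of_le_of_card_ge hlt.le h.ge)
    have h2 : Nat.card (normalizerIn U R) ≤ Nat.card U := Subgroup.card_le_of_le inf_le_left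
    refine ih (Nat.card U - Nat.card (normalizerIn U R)) (by omega) inf_le_left (isCentric_of_le hR hlt.le (inf_le_left.trans hU)) ?_
      (isMap_conj_normalizerIn_of hsat hsub hU hRU hR hgU hgR hmap) rfl
    exact Subgroup.mem_normalizer_fintype fun a ha =>
      ⟨conj_mem_of_mem_normalizer hgU ha.1,
        Subgroup.mul_mem _ (Subgroup.mul_mem _ hgR ha.2) (Subgroup.inv_mem _ hgR)⟩

/-- A subgroup containing its centralizer is centric. -/
theorem isCentric_group_of_centralizer_le {R : Subgroup G} (hR : R ≤ (S : Subgroup G))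
    (hc : Subgroup.centralizer (R : Set G) ≤ R) :
    (groupFusionSystem (S : Subgroup G)).IsCentric R := by
  refine ⟨hR, fun Q hQ c hc' => ?_⟩
  obtain ⟨h₀, hh₀⟩ := isConj_iff.1 hQ
  obtain ⟨-, -, g, hg⟩ := isMap_group_iff.1 hh₀.isMap
  have h1 : g⁻¹ * c * g ∈ R := hc fun r hr => by
    have := hc'.2 (g * r * g⁻¹) (hg r hr ▸ hh₀.mem hr)
    calc r * (g⁻¹ * c * g) = g⁻¹ * ((g * r * g⁻¹) * c) * g := by group
      _ = g⁻¹ * c * g * r := by rw [this]; group
  have := hh₀.mem h1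
  rwa [hg _ h1, show g * (g⁻¹ * c * g) * g⁻¹ = c by group] at this

/-- An invariant saturated subsystem on `S` containing all maps induced by `N(S)` is everything. -/
theorem hom_eq_of_normalizer (hinv : E.IsInvariantIn (groupFusionSystem (S : Subgroup G)))
    (hN : ∀ g ∈ Subgroup.normalizer ((S : Subgroup G) : Set G),
      IsMap E (S : Subgroup G) (fun x => g * x * g⁻¹)) :
    ∀ P : Subgroup G, E.Hom P = (groupFusionSystem (S : Subgroup G)).Hom P := by
  intro P
  refine Set.Subset.antisymm (hinv.1 P) fun φ hφ => ?_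
  have hP := ((groupFusionSystem (S : Subgroup G)).le_of_mem hφ).1
  obtain ⟨a, ha, f₀, hf₀, hv⟩ := exists_frattini hinv hP (isMap_homFun hφ)
  rw [autGroup_groupFusionSystem S le_rfl, mem_autInducedBy_iff] at ha
  obtain ⟨g, -, hg⟩ := ha
  have hgS : g ∈ Subgroup.normalizer ((S : Subgroup G) : Set G) :=
    Subgroup.mem_normalizer_fintype fun x hx => hg ⟨x, hx⟩ ▸ SetLike.coe_mem _
  refine (mem_hom_iff φ).2 ((hf₀.comp (hN g hgS) fun x hx => hf₀.mem hx).congr fun x hx => ?_)
  rw [hv x hx, autFun_apply a (hf₀.mem hx), hg]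
  rfl

end CfsgLib.Fusion
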