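import Cfsg.Agent.Lib.Fusion.Simple

/-!
Corollaries of the simplicity criterion.
-/

set_option autoImplicit false

namespace CfsgLib.Fusion

open Cfsg Cfsg.FusionSystem

variable {G : Type*} [Group G] [Finite G] {p : ℕ} [Fact p.Prime]

/-- `Aut_G(S)` a `p`-group means it is induced by `S`. -/
theorem autInducedBy_top_le (S : Sylow p G)
    (h : IsPGroup p (autInducedBy ⊤ (S : Subgroup G))) :
    autInducedBy ⊤ (S : Subgroup G) ≤ autInducedBy (S : Subgroup G) (S : Subgroup G) := by
  have hfn : (groupFusionSystem (S : Subgroup G)).IsFullyNormalized S := by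
    refine (isFullyNormalized_group_iff S le_rfl).2 fun T _ hT => ?_
    have h1 : (S : Subgroup G) ≤ normalizerIn (S : Subgroup G) S := le_normalizerIn le_rfl
    obtain ⟨g, hg⟩ := exists_conj_le_sylow S hT
    rw [← card_map_conj T g]
    exact (Subgroup.card_le_of_le hg).trans (Subgroup.card_le_of_le h1)
  obtain ⟨-, R, hR⟩ := isFullyAutomized_group S le_rfl hfn
  intro α hα
  have hα' : α ∈ (groupFusionSystem (S : Subgroup G)).autGroup (S : Subgroup G) := by
    rw [autGroup_groupFusionSystem S le_rfl]; exact hα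
  have htop : IsPGroup p (⊤ : Subgroup ((groupFusionSystem (S : Subgroup G)).autGroup
      (S : Subgroup G))) := by
    refine IsPGroup.of_equiv ?_ Subgroup.topEquiv.symm
    rwa [autGroup_groupFusionSystem S le_rfl]
  have hRtop := R.is_maximal' htop le_top
  have : (⟨α, hα'⟩ : (groupFusionSystem (S : Subgroup G)).autGroup (S : Subgroup G)) ∈
      R.toSubgroup := hRtop.le (Subgroup.mem_top _)
  rw [hR] at this
  exact this

/-- Simplicity when `Aut_G(S)` is a `p`-group and nothing proper is strongly closed. -/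
theorem isSimple_group_of_isPGroup (S : Sylow p G) (hS1 : (S : Subgroup G) ≠ ⊥)
    (ha : ∀ T : Subgroup G, (groupFusionSystem (S : Subgroup G)).StronglyClosed T →
      T = ⊥ ∨ T = (S : Subgroup G))
    (h : IsPGroup p (autInducedBy ⊤ (S : Subgroup G))) :
    (groupFusionSystem (S : Subgroup G)).IsSimple p := by
  refine isSimple_group S hS1 ha ?_
  have hfn : (groupFusionSystem (S : Subgroup G)).IsFullyNormalized S := by
    refine ⟨le_rfl, fun Q hQ => Subgroup.card_le_of_le ?_⟩
    exact inf_le_left.trans (le_inf le_rfl Subgroup.le_normalizer)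
  have hcen : (groupFusionSystem (S : Subgroup G)).IsCentric S := by
    refine ⟨le_rfl, fun Q hQ => ?_⟩
    obtain ⟨f, hf⟩ := isConj_iff.1 hQ
    have hQS : Q = (S : Subgroup G) := Subgroup.eq_of_le_of_card_ge hf.le_right hf.card_eq.ge
    rw [hQS]
    exact inf_le_left
  refine le_trans ?_ (le_iSup₂_of_le (S : Subgroup G) ⟨hfn, hcen⟩ le_rfl)
  refine (autInducedBy_top_le S h).trans (autInducedBy_mono (fun g hg => ?_) _)
  refine Subgroup.subset_closure ⟨Subgroup.le_normalizer hg, ?_⟩
  obtain ⟨k, hk⟩ := IsPGroup.iff_orderOf.1 S.isPGroup' ⟨g, hg⟩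
  exact ⟨k, by rw [← hk, ← Subgroup.orderOf_coe]⟩

/-- If all elements of order `p` in `S` are conjugate and generate `S`, then `S` has no proper
nontrivial strongly closed subgroup. -/
theorem stronglyClosed_of_one_class (S : Sylow p G)
    (hconj : ∀ x y : G, x ∈ (S : Subgroup G) → y ∈ (S : Subgroup G) → orderOf x = p → orderOf y = p →
      ∃ g : G, g * x * g⁻¹ = y)
    (hgen : (S : Subgroup G) ≤ Subgroup.closure {x : G | x ∈ (S : Subgroup G) ∧ orderOf x = p})
    (T : Subgroup G) (hT : (groupFusionSystem (S : Subgroup G)).StronglyClosed T) :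
    T = ⊥ ∨ T = (S : Subgroup G) := by
  refine or_iff_not_imp_left.2 fun hne => le_antisymm hT.1 (hgen.trans ?_)
  have : Nontrivial T := (Subgroup.nontrivial_iff_ne_bot T).2 hne
  obtain ⟨k, hk, hk'⟩ := (S.isPGroup'.to_le hT.1).nontrivial_iff_card.1 this
  obtain ⟨x, hx⟩ := exists_prime_orderOf_dvd_card' (G := T) p (hk' ▸ dvd_pow_self p hk.ne')
  rw [Subgroup.closure_le]
  rintro y ⟨hy, hyo⟩
  obtain ⟨g, hg⟩ := hconj x y (hT.1 x.2) hy (by rw [Subgroup.orderOf_coe, hx]) hyo
  have hsub : Subgroup.zpowers (x : G) ≤ (S : Subgroup G) := Subgroup.zpowers_le.2 (hT.1 x.2)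
  have hmap : IsMap (groupFusionSystem (S : Subgroup G)) (Subgroup.zpowers (x : G))
      (fun z => g * z * g⁻¹) := by
    refine isMap_group_of_conj g hsub ?_
    rintro _ ⟨m, rfl⟩
    rw [← conj_zpow, hg]
    exact Subgroup.zpow_mem _ hy m
  obtain ⟨φ, hφ, hv⟩ := hmap
  have := hT.2 _ (Subgroup.zpowers_le.2 x.2) φ hφ ⟨x, Subgroup.mem_zpowers _⟩
  rw [hv] at this
  exact hg ▸ this

end CfsgLib.Fusion
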