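import Mathlib
import Cfsg.Agent.Lib.Fusion.AbelianSystem
import Cfsg.Agent.Lib.Fusion.Axioms

/-!
The system that a group of automorphisms of a `p`-group defines, if it contains the inner ones
with index prime to `p`.
-/

set_option autoImplicit false

namespace CfsgLib.Fusion

open Cfsg Cfsg.FusionSystem

variable {Ω : Type*} [Group Ω] {S : Subgroup Ω}

theorem autFun_one {x : Ω} (hx : x ∈ S) : autFun (1 : MulAut S) x = x := by
  rw [autFun_apply _ hx]
  rfl

theorem autFun_mul' (α β : MulAut S) {x : Ω} (hx : x ∈ S) :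
    autFun (α * β) x = autFun α (autFun β x) := by
  rw [autFun_apply _ hx, autFun_apply β hx, autFun_coe]
  rfl

/-- The system whose maps are the restrictions of the members of `A`. -/
def autSystem (A : Subgroup (MulAut S)) (hinn : autInducedBy S S ≤ A) : FusionSystem S where
  Hom P := {φ | P ≤ S ∧ ∃ α ∈ A, ∀ x : P, φ x = autFun α x}
  le_of_mem := by
    rintro P φ ⟨hP, α, -, hv⟩
    exact ⟨hP, fun x => hv x ▸ autFun_mem α (hP x.2)⟩
  injective_of_mem := by
    rintro P φ ⟨hP, α, -, hv⟩ a b hab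
    rw [hv, hv, autFun_apply α (hP a.2), autFun_apply α (hP b.2)] at hab
    exact Subtype.ext (Subtype.mk.injEq _ _ _ _ ▸ α.injective (Subtype.ext hab) :)
  conj_mem := by
    intro P g hP hg
    refine ⟨hP, conjAut S (Subgroup.le_normalizer hg),
      hinn (conjAut_mem_autInducedBy _ hg), fun x => ?_⟩
    rw [autFun_apply _ (hP x.2), conjAut_apply]
    rfl
  comp_mem := by
    rintro P Q φ ψ ⟨hP, α, hα, hv⟩ ⟨-, β, hβ, hw⟩ hPQ
    refine ⟨hP, β * α, A.mul_mem hβ hα, fun x => ?_⟩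
    show ψ ⟨φ x, hPQ x⟩ = _
    rw [hw, autFun_mul' β α (hP x.2)]
    exact congrArg _ (hv x)
  inv_mem := by
    rintro P φ ⟨hP, α, hα, hv⟩
    have hr : φ.range ≤ S := by
      rintro _ ⟨x, rfl⟩
      rw [hv]
      exact autFun_mem α (hP x.2)
    refine ⟨S.subtype.comp ((α⁻¹ : MulAut S).toMonoidHom.comp (Subgroup.inclusion hr)),
      ⟨hr, α⁻¹, A.inv_mem hα, fun y => (autFun_apply (α⁻¹ : MulAut S) (hr y.2)).symm⟩, fun x => ?_⟩
    show ((α⁻¹ ⟨φ x, hr ⟨x, rfl⟩⟩ : S) : Ω) = (x : Ω)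
    rw [← autFun_apply (α⁻¹) (hr ⟨x, rfl⟩), hv, ← autFun_mul' _ _ (hP x.2), inv_mul_cancel,
      autFun_one (hP x.2)]

variable {p : ℕ} [Finite S] [Fact p.Prime] (A : Subgroup (MulAut S)) (hinn : autInducedBy S S ≤ A)

omit [Finite S] in
theorem autGroup_autSystem : (autSystem A hinn).autGroup S = A := by
  ext α
  constructor
  · intro h
    obtain ⟨φ, ⟨-, β, hβ, hv⟩, hw⟩ := ((mem_autGroup_iff le_rfl α).1 h).isMap
    have : α = β := MulEquiv.ext fun x => Subtype.ext (by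
      rw [← autFun_coe α x, ← hw, hv, autFun_coe])
    rwa [this]
  · intro h
    exact Subgroup.subset_closure ⟨le_rfl, α, h, fun x => (autFun_coe α x).symm⟩

theorem isSaturated_autSystem (hS : IsPGroup p S)
    (hA : ¬ p ∣ ((autInducedBy S S).subgroupOf A).index) : (autSystem A hinn).IsSaturated p := by
  have := finite_mulAut S
  refine (isSaturated_iff_top_automized_receptive hS).2 ⟨⟨le_rfl, ?_⟩, fun P hP => ⟨hP.1, ?_⟩⟩
  · rw [autGroup_autSystem A hinn]
    exact ⟨((isPGroup_autInducedBy hS S).of_equiv (Subgroup.subgroupOfEquivOfLe hinn).symm).toSylow hA, rfl⟩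
  · rintro R φ ⟨hR, α, hα, hv⟩ -
    have hle : extender S R φ ≤ S := (Subgroup.closure_le _).2 fun g hg => hg.1
    refine ⟨S.subtype.comp (α.toMonoidHom.comp (Subgroup.inclusion hle)),
      ⟨hle, α, hα, fun y => (autFun_apply _ (hle y.2)).symm⟩, fun x hx hN => ?_⟩
    rw [hv, autFun_apply α (hR hx)]
    rfl

omit [Finite S] in
theorem autFun_mem_of_stronglyClosed {T : Subgroup Ω} (hT : (autSystem A hinn).StronglyClosed T)
    {α : MulAut S} (hα : α ∈ A) {x : S} (hx : (x : Ω) ∈ T) : (α x : Ω) ∈ T :=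
  hT.2 T le_rfl (S.subtype.comp (α.toMonoidHom.comp (Subgroup.inclusion hT.1)))
    ⟨hT.1, α, hα, fun y => (autFun_apply _ (hT.1 y.2)).symm⟩ ⟨x, hx⟩

omit [Finite S] in
theorem autInducedBy_eq_bot_of_abelian (hab : ∀ x ∈ S, ∀ y ∈ S, x * y = y * x) :
    autInducedBy S S = ⊥ := by
  rw [eq_bot_iff]
  intro α hα
  obtain ⟨g, hg, hv⟩ := (mem_autInducedBy_iff S S α).1 hα
  refine Subgroup.mem_bot.2 (MulEquiv.ext fun x => Subtype.ext ?_)
  rw [hv, hab g hg x x.2, mul_inv_cancel_right, MulAut.one_apply]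

end CfsgLib.Fusion
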