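import Mathlib
import Cfsg.Prelude.Def_FusionSystem

set_option autoImplicit false

namespace CfsgLib.Fusion

open Cfsg

variable {Ω : Type*} [Group Ω] {S : Subgroup Ω}

/-- A map of a fusion system restricted to a subgroup of its source is a map of the system. -/
theorem restrict_mem (F : FusionSystem S) {P Q : Subgroup Ω} {φ : Q →* Ω} (hφ : φ ∈ F.Hom Q)
    (hPQ : P ≤ Q) : φ.comp (Subgroup.inclusion hPQ) ∈ F.Hom P := by
  have hPS : P ≤ S := hPQ.trans (F.le_of_mem hφ).1
  have h1 : conjHom P (1 : Ω) ∈ F.Hom P := F.conj_mem hPS S.one_mem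
  have hval : ∀ x : P, conjHom P (1 : Ω) x = (x : Ω) := fun x => by
    simp [conjHom]
  have hq : ∀ x : P, conjHom P (1 : Ω) x ∈ Q := fun x => by rw [hval]; exact hPQ x.2
  have h2 := F.comp_mem h1 hφ hq
  convert h2 using 1
  ext x
  show φ _ = φ _
  congr 1
  exact Subtype.ext (hval x).symm

/-- The inclusion of a subgroup of `S` is a map of every fusion system over `S`. -/
theorem subtype_mem (F : FusionSystem S) {P : Subgroup Ω} (hP : P ≤ S) : P.subtype ∈ F.Hom P := by
  have h := F.conj_mem hP S.one_mem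
  convert h using 1
  ext x
  simp [conjHom]

/-- Composition, phrased with a map given pointwise. -/
theorem comp_mem' (F : FusionSystem S) {P Q : Subgroup Ω} {φ : P →* Ω} {ψ : Q →* Ω}
    (hφ : φ ∈ F.Hom P) (hψ : ψ ∈ F.Hom Q) (h : ∀ x : P, φ x ∈ Q) (χ : P →* Ω)
    (hχ : ∀ x : P, χ x = ψ ⟨φ x, h x⟩) : χ ∈ F.Hom P := by
  have h2 := F.comp_mem hφ hψ h
  convert h2 using 1
  ext x
  rw [hχ x]
  rfl

/-- Transport of a map along an equality of sources. -/
theorem mem_of_eq (F : FusionSystem S) {P Q : Subgroup Ω} (h : P = Q) {φ : Q →* Ω}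
    (hφ : φ ∈ F.Hom Q) : φ.comp (Subgroup.inclusion h.le) ∈ F.Hom P :=
  restrict_mem F hφ h.le

/-- A map fixing every element of its source is a map of the system. -/
theorem id_like_mem (F : FusionSystem S) {P : Subgroup Ω} (hP : P ≤ S) (φ : P →* Ω)
    (h : ∀ x : P, φ x = x) : φ ∈ F.Hom P := by
  have h2 := subtype_mem F hP
  convert h2 using 1
  ext x
  exact h x

end CfsgLib.Fusion
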