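import Mathlib
import Cfsg.Agent.Lib.Fusion.Inner
import Cfsg.Agent.Lib.Fusion.CenterFunctor
import Cfsg.Agent.Lib.Fusion.ModelUnique
import Cfsg.Agent.S1985

/-!
The centre of a saturated fusion system as a direct factor of the centre of `S`.
-/

set_option autoImplicit false

namespace CfsgLib.Fusion

open Cfsg Cfsg.FusionSystem

universe u

variable {Ω : Type u} [Group Ω] {S : Subgroup Ω} {F : FusionSystem S} {p : ℕ}
  [Finite S] [Fact p.Prime]

/-- If a normal subgroup contains `Z(S)` then `Z(F)` is a direct factor of `Z(S)`. -/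
theorem exists_center_complement_of_normal (hS : IsPGroup p S) (hF : F.IsSaturated p)
    {Q : Subgroup Ω} (hQ : F.IsNormal Q) (hZQ : S ⊓ Subgroup.centralizer (S : Set Ω) ≤ Q) :
    ∃ K : Subgroup Ω, K ≤ (S ⊓ Subgroup.centralizer (S : Set Ω)) ∧ F.center ⊓ K = ⊥ ∧
      F.center ⊔ K = (S ⊓ Subgroup.centralizer (S : Set Ω)) := by
  classical
  set Z := S ⊓ Subgroup.centralizer (S : Set Ω) with hZ
  have hQS : Q ≤ S := hQ.1
  have hcS : F.center ≤ S := (isCentral_center F).1
  have hFZ : F.center ≤ Z := le_inf hcS (FusionSystem.center_le_centralizer F)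
  have := finite_of_le hQS
  have := finite_mulAut Q
  have hnor : S ≤ Subgroup.normalizer (Q : Set Ω) := le_normalizer_of_isNormal hQ
  have hQn : F.IsFullyNormalized Q := ⟨hQS, fun R _ => by
    rw [show normalizerIn S Q = S from inf_eq_left.2 hnor]
    exact Subgroup.card_le_of_le inf_le_left⟩
  set A := F.autGroup Q with hA
  set I := (autInducedBy S Q).subgroupOf A with hI
  obtain ⟨T, hT⟩ : ∃ T : Sylow p A, (T : Subgroup A) = I :=
    (isFullyAutomized_of_isFullyNormalized hS hF hQn).2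
  have hm : ¬ p ∣ Nat.card (A ⧸ I) := by
    rw [← Subgroup.index_eq_card, ← hT]; exact T.not_dvd_index
  have := Fintype.ofFinite (A ⧸ I)
  let _ : CommGroup (Subgroup.center Q) :=
    { (Subgroup.center Q).toGroup with
      mul_comm := fun a b => Subtype.ext (Subgroup.mem_center_iff.1 b.2 a) }
  let iZ : Z →* Subgroup.center Q :=
    { toFun := fun z => ⟨⟨z, hZQ z.2⟩, Subgroup.mem_center_iff.2 fun y =>
        Subtype.ext (z.2.2 y (hQS y.2))⟩
      map_one' := rfl
      map_mul' := fun _ _ => rfl }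
  have hiZ : Function.Injective iZ := fun a b e =>
    Subtype.ext (congrArg (fun w : Subgroup.center Q => ((w : Q) : Ω)) e)
  have hI' : ∀ a : A, a ∈ I → ∀ z : Z, (a : MulAut Q) (iZ z : Q) = (iZ z : Q) := by
    intro a ha z
    obtain ⟨g, hg, hgv⟩ := (mem_autInducedBy_iff S Q _).1 (show (a : MulAut Q) ∈ _ from ha)
    refine Subtype.ext ?_
    rw [hgv]
    show g * (z : Ω) * g⁻¹ = z
    rw [z.2.2 g hg, mul_inv_cancel_right]
  let ctr : MulAut Q → (Subgroup.center Q →* Subgroup.center Q) := fun α =>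
    (Subgroup.centerCongr α).toMonoidHom
  let tr : Z →* Subgroup.center Q :=
    ∏ c : A ⧸ I, (ctr ((Quotient.out c : A) : MulAut Q)).comp iZ
  have htr : ∀ z, tr z = ∏ c : A ⧸ I, ctr ((Quotient.out c : A) : MulAut Q) (iZ z) := fun z => by
    simp [tr]
  have hfixtr : ∀ β : A, ∀ z, ctr (β : MulAut Q) (tr z) = tr z := by
    intro β z
    rw [htr, map_prod]
    refine Fintype.prod_equiv (MulAction.toPerm β) _ _ fun c => Subtype.ext ?_
    show (β : MulAut Q) (((Quotient.out c : A) : MulAut Q) (iZ z : Q)) =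
      ((Quotient.out (β • c) : A) : MulAut Q) (iZ z : Q)
    have h1 : (Quotient.out (β • c) : A)⁻¹ * (β * Quotient.out c) ∈ I := by
      refine QuotientGroup.eq.1 ?_
      rw [QuotientGroup.out_eq']
      conv_lhs => rw [← QuotientGroup.out_eq' c]
      rfl
    have h2 := hI' _ h1 z
    conv_rhs => rw [← h2]
    simp
  have hcen : ∀ z, ((tr z : Q) : Ω) ∈ F.center := by
    intro z
    let y : Ω := ((tr z : Q) : Ω)
    have hyQ : y ∈ Q := SetLike.coe_mem _
    refine (le_sSup (show F.IsCentral (Subgroup.zpowers y) from isCentral_of_fixed hS hF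
      (Subgroup.zpowers_le.2 (hQS hyQ)) fun P f hf x hx hxy => ?_) :
      Subgroup.zpowers y ≤ F.center) (Subgroup.mem_zpowers _)
    obtain ⟨g, hg, hag, him⟩ := (isNormal_iff.1 hQ).2 P f hf
    obtain ⟨α, hα, hαv⟩ := exists_mem_autGroup
      (⟨hg.mono le_sup_right, him⟩ : IsIso F Q Q g)
    obtain ⟨i, rfl⟩ := Subgroup.mem_zpowers_iff.1 hxy
    rw [← hag _ hx]
    have hfix : α (tr z : Q) = (tr z : Q) :=
      congrArg Subtype.val (hfixtr ⟨α, hα⟩ z)
    have hgy : g y = y := by
      show g ((tr z : Q) : Ω) = _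
      rw [← hαv, hfix]
    rw [hg.map_zpow (Subgroup.mem_sup_right hyQ), hgy]
  have hon : ∀ z : Z, (z : Ω) ∈ F.center → tr z = iZ z ^ Nat.card (A ⧸ I) := by
    intro z hz
    rw [htr, Finset.prod_congr rfl (g := fun _ => iZ z), Finset.prod_const, Finset.card_univ,
      Nat.card_eq_fintype_card]
    intro c _
    refine Subtype.ext (Subtype.ext ?_)
    show ((((Quotient.out c : A) : MulAut Q) (iZ z : Q) : Q) : Ω) = z
    obtain ⟨g, -, hag, hfix⟩ := (isCentral_iff.1 (isCentral_center F)).2 Q _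
      ((mem_autGroup_iff hQS _).1 (Quotient.out c : A).2).isMap
    rw [← autFun_coe, ← hag _ (iZ z : Q).2]
    exact hfix _ hz
  refine ⟨tr.ker.map Z.subtype, Subgroup.map_subtype_le _, ?_, ?_⟩
  · rw [eq_bot_iff]
    rintro _ ⟨hc, z, hz, rfl⟩
    obtain ⟨b, hb⟩ := (hS.to_le (inf_le_left : Z ≤ S)) z
    have h1 : iZ z ^ Nat.card (A ⧸ I) = 1 := (hon z hc).symm.trans hz
    have h3 : iZ z = 1 := by
      rw [← pow_one (iZ z), ← Nat.Coprime.gcd_eq_one (Nat.Coprime.pow_left b
        ((Fact.out : p.Prime).coprime_iff_not_dvd.2 hm))]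
      exact pow_gcd_eq_one.2 ⟨by rw [← map_pow, hb, map_one], h1⟩
    rw [← map_one iZ] at h3
    rw [Subgroup.mem_bot, hiZ h3]
    rfl
  · refine le_antisymm (sup_le hFZ (Subgroup.map_subtype_le _)) fun x hx => ?_
    obtain ⟨a, ha⟩ := hS.exists_card_eq
    obtain ⟨k, -, hk⟩ := Nat.exists_mul_mod_eq_one_of_coprime
      (show (Nat.card (A ⧸ I)).Coprime (p ^ (a + 1)) from
        (((Fact.out : p.Prime).coprime_iff_not_dvd.2 hm).symm).pow_right _)
      (Nat.one_lt_pow (Nat.succ_ne_zero a) (Fact.out : p.Prime).one_lt)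
    let z : Z := ⟨x, hx⟩
    let v : Z := ⟨((tr z : Q) : Ω) ^ k, Subgroup.pow_mem _ (hFZ (hcen z)) k⟩
    have hv : (v : Ω) ∈ F.center := Subgroup.pow_mem _ (hcen z) k
    have hiv : iZ v = tr z ^ k := Subtype.ext (Subtype.ext (by simp [iZ, v]))
    have hpw : tr z ^ p ^ (a + 1) = 1 := by
      refine Subtype.ext (Subtype.ext ?_)
      show ((tr z : Q) : Ω) ^ p ^ (a + 1) = 1
      rw [pow_succ, pow_mul, ← ha]
      have h1 : (⟨_, hQS (tr z : Q).2⟩ : S) ^ Nat.card S = 1 := pow_card_eq_one'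
      rw [show ((tr z : Q) : Ω) ^ Nat.card S = 1 from congrArg Subtype.val h1, one_pow]
    have hk' : (z * v⁻¹) ∈ tr.ker := by
      rw [MonoidHom.mem_ker, map_mul, map_inv, hon v hv, hiv, ← pow_mul,
        ← Nat.div_add_mod (k * Nat.card (A ⧸ I)) (p ^ (a + 1)), mul_comm k (Nat.card (A ⧸ I)), hk,
        pow_add, pow_mul, hpw, one_pow, one_mul, pow_one, mul_inv_cancel]
    have : x = (v : Ω) * ((z * v⁻¹ : Z) : Ω) := by
      show x = ((v * (z * v⁻¹) : Z) : Ω)
      rw [show v * (z * v⁻¹) = z from Subtype.ext (by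
        show (v : Ω) * (x * (v : Ω)⁻¹) = x
        rw [← mul_assoc, v.2.2 x hx.1 |>.symm, mul_inv_cancel_right])]
    rw [this]
    exact Subgroup.mul_mem _ (Subgroup.mem_sup_left hv)
      (Subgroup.mem_sup_right ⟨_, hk', rfl⟩)

/-- The lower K-infinity subgroup satisfies the local centre condition, for odd `p`. -/
theorem kInfLower_local_center (hp : p ≠ 2) (G : Type u) [Group G] [Finite G] (P : Sylow p G) :
    Cfsg.pCore p G ⊓ Subgroup.center G = Cfsg.pCore p G ⊓
      (Subgroup.center ↥(Subgroup.normalizer (((Cfsg.kInfLower ↥(P : Subgroup G)).map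
          (P : Subgroup G).subtype : Subgroup G) : Set G))).map
        (Subgroup.normalizer (((Cfsg.kInfLower ↥(P : Subgroup G)).map
          (P : Subgroup G).subtype : Subgroup G) : Set G)).subtype := by
  set W := (Cfsg.kInfLower ↥(P : Subgroup G)).map (P : Subgroup G).subtype with hW
  refine le_antisymm (fun x hx => ?_) fun x hx => ⟨hx.1, ?_⟩
  · have hxN : x ∈ Subgroup.normalizer (W : Set G) := by
      refine Subgroup.mem_normalizer_iff.2 fun y => ?_
      rw [← Subgroup.mem_center_iff.1 hx.2 y, mul_inv_cancel_right]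
    exact ⟨hx.1, ⟨⟨x, hxN⟩, Subgroup.mem_center_iff.2 fun y =>
      Subtype.ext (Subgroup.mem_center_iff.1 hx.2 (y : G)), rfl⟩⟩
  obtain ⟨hxO, ⟨u, huN⟩, hu, hux⟩ := hx
  obtain rfl : u = x := hux
  obtain ⟨-, T, -, hTp, hTi, hT⟩ := Cfsg.Agent.S1985.result (G := G) (p := p) hp
  obtain ⟨g, hg⟩ := MulAction.exists_smul_eq G P (hTp.toSylow (by
    rw [← Subgroup.relIndex_top_right]; exact hTi))
  have hTP : T = (P : Subgroup G).map (MulAut.conj g).toMonoidHom := by
    have := congrArg (fun Q : Sylow p G => (Q : Subgroup G)) hg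
    simp only [Sylow.coe_subgroup_smul, IsPGroup.toSylow_coe] at this
    rw [← this]
    rfl
  have hWT : Cfsg.inducedFunctor Cfsg.kInfLower T = W.map (MulAut.conj g).toMonoidHom := by
    rw [hTP]
    exact (CfsgLib.Conjugacy.map (CfsgLib.Conjugacy.isCharPFunctor_kInfLower p)
      (MulAut.conj g).toMonoidHom P.isPGroup' (MulAut.conj g).injective.injOn).symm
  have hOn : (Cfsg.pCore p G).Normal := CfsgLib.Fitting.pCore_normal p
  have hOT : Cfsg.pCore p G ≤ T :=
    le_sylow_of_normal_pGroup (hTp.toSylow (by rw [← Subgroup.relIndex_top_right]; exact hTi))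
      hOn (CfsgLib.Fitting.pCore_isPGroup p)
  have hfix : ∀ h : G, h * (g * u * g⁻¹) * h⁻¹ = g * u * g⁻¹ := by
    intro h
    refine hT (g * u * g⁻¹) ⟨hOT (hOn.conj_mem u hxO g), fun y hy => ?_⟩ h (Subgroup.mem_top _)
      (hOT (hOn.conj_mem _ (hOn.conj_mem u hxO g) h))
    have h1 : g⁻¹ * y * g ∈ Subgroup.normalizer (W : Set G) := by
      have h2 : y ∈ Subgroup.normalizer
          ((Cfsg.inducedFunctor Cfsg.kInfLower T : Subgroup G) : Set G) := hy.2
      rw [hWT, ← Subgroup.map_equiv_normalizer_eq] at h2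
      obtain ⟨w, hw, rfl⟩ := h2
      simpa [mul_assoc] using hw
    have h3 : g⁻¹ * y * g * u = u * (g⁻¹ * y * g) :=
      congrArg Subtype.val (Subgroup.mem_center_iff.1 hu ⟨_, h1⟩)
    calc y * (g * u * g⁻¹) = g * (g⁻¹ * y * g * u) * g⁻¹ := by group
      _ = g * (u * (g⁻¹ * y * g)) * g⁻¹ := by rw [h3]
      _ = g * u * g⁻¹ * y := by group
  refine Subgroup.mem_center_iff.2 fun h => ?_
  have h4 := hfix (g * h * g⁻¹)
  calc h * u = g⁻¹ * ((g * h * g⁻¹) * (g * u * g⁻¹) * (g * h * g⁻¹)⁻¹) * g * h := by group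
    _ = u * h := by rw [h4]; group

/-- For odd `p`, `Z(F)` is a direct factor of `Z(S)`. -/
theorem exists_center_complement_odd (hp : p ≠ 2) (hS : IsPGroup p S) (hF : F.IsSaturated p) :
    ∃ K : Subgroup Ω, K ≤ (S ⊓ Subgroup.centralizer (S : Set Ω)) ∧ F.center ⊓ K = ⊥ ∧
      F.center ⊔ K = (S ⊓ Subgroup.centralizer (S : Set Ω)) := by
  have hW := CfsgLib.Conjugacy.isCharPFunctor_kInfLower (p := p)
  let W : ∀ (Q : Type u) [Group Q], Subgroup Q := Cfsg.kInfLower
  have hUS : functorOf W S ≤ S := functorOf_le W S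
  have hUn : normalizerIn S (functorOf W S) = S := inf_eq_left.2 fun s hs =>
    normalizer_le_functorOf W hW.2 le_rfl hS (Subgroup.le_normalizer hs)
  let N : FusionSystem (normalizerIn S (functorOf W S)) := normalizerSystem F _ hUS
  have hN : F.IsNormalizerSystem (functorOf W S) N := fun _ => rfl
  have hQn : F.IsFullyNormalized (functorOf W S) := ⟨hUS, fun R _ => by
    rw [hUn]; exact Subgroup.card_le_of_le inf_le_left⟩
  have hNs := isSaturated_normalizerSystem hS hF hQn hN
  have hNn := isNormal_normalizerSystem hUS hN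
  have hZU : S ⊓ Subgroup.centralizer (S : Set Ω) ≤ functorOf W S :=
    CfsgLib.Conjugacy.center_le_inducedFunctor_kInfLower S
  have hc : N.center = F.center := center_eq_of_functor W hW.2
    (fun Q _ _ _ => CfsgLib.Conjugacy.center_le_kInf.1)
    (fun G _ _ T => kInfLower_local_center hp G T) hS hF hN
  rw [← hc]
  have key : ∀ (T : Subgroup Ω), T = S → ∀ E : FusionSystem T, E.IsSaturated p →
      E.IsNormal (functorOf W S) → ∃ K : Subgroup Ω,
        K ≤ (S ⊓ Subgroup.centralizer (S : Set Ω)) ∧ E.center ⊓ K = ⊥ ∧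
          E.center ⊔ K = (S ⊓ Subgroup.centralizer (S : Set Ω)) := by
    rintro T rfl E hE hEn
    exact exists_center_complement_of_normal hS hE hEn hZU
  exact key _ hUn N hNs hNn

/-- If `Z(S) ≤ O_p(F)` then `Z(F)` is a direct factor of `Z(S)`. -/
theorem exists_center_complement_of_core (hS : IsPGroup p S) (hF : F.IsSaturated p)
    (hZ : (S ⊓ Subgroup.centralizer (S : Set Ω)) ≤ F.core) :
    ∃ K : Subgroup Ω, K ≤ (S ⊓ Subgroup.centralizer (S : Set Ω)) ∧ F.center ⊓ K = ⊥ ∧
      F.center ⊔ K = (S ⊓ Subgroup.centralizer (S : Set Ω)) :=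
  exists_center_complement_of_normal hS hF (isNormal_core F) hZ

end CfsgLib.Fusion
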