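import Mathlib
import Cfsg.Agent.Lib.Fusion.TransvectionSplit
import Cfsg.Agent.Lib.Fusion.Alperin
import Cfsg.Agent.Lib.Fusion.Normal
import Cfsg.Agent.Lib.Fusion.Hyperfocal

/-!
Saturated fusion systems over `p`-groups whose centre has index at most `p²`.
-/

set_option autoImplicit false

namespace CfsgLib.Fusion.CenterSq

open Cfsg Cfsg.FusionSystem
open scoped commutatorElement

variable {Ω : Type*} [Group Ω] {S : Subgroup Ω} [Finite S] {p : ℕ} [hp : Fact p.Prime]
  {F : FusionSystem S}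

omit hp [Finite S] in
theorem center_map_eq : (Subgroup.center S).map S.subtype = centralizerIn S S := by
  ext x
  constructor
  · rintro ⟨z, hz, rfl⟩
    exact ⟨z.2, Subgroup.mem_centralizer_iff.2 fun g hg =>
      congrArg Subtype.val (Subgroup.mem_center_iff.1 hz ⟨g, hg⟩)⟩
  · intro hx
    exact ⟨⟨x, hx.1⟩, Subgroup.mem_center_iff.2 fun g => Subtype.ext
      (Subgroup.mem_centralizer_iff.1 hx.2 g g.2), rfl⟩

omit hp [Finite S] in
/-- Adding one element to a group of central elements gives an abelian group. -/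
theorem comm_sup_zpowers {U : Subgroup Ω} {a : Ω} (hU : ∀ x ∈ U, ∀ y ∈ U, x * y = y * x)
    (ha : ∀ x ∈ U, x * a = a * x) :
    ∀ x ∈ U ⊔ Subgroup.zpowers a, ∀ y ∈ U ⊔ Subgroup.zpowers a, x * y = y * x := by
  set K := Subgroup.closure ((U : Set Ω) ∪ {a})
  have hle : U ⊔ Subgroup.zpowers a ≤ K := sup_le (fun x hx => Subgroup.subset_closure (Or.inl hx))
    (Subgroup.zpowers_le.2 (Subgroup.subset_closure (Or.inr rfl)))
  intro x hx y hy
  have hgen : ∀ u ∈ (U : Set Ω) ∪ {a}, ∀ v ∈ (U : Set Ω) ∪ {a}, u * v = v * u := by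
    rintro u (hu | rfl) v (hv | rfl)
    · exact hU u hu v hv
    · exact ha u hu
    · exact (ha v hv).symm
    · rfl
  have := Subgroup.isMulCommutative_closure hgen
  exact congrArg Subtype.val (this.is_comm.comm (⟨x, hle hx⟩ : K) ⟨y, hle hy⟩)

/-- `S` has centre of index `p²` and derived subgroup `⟨c⟩` of order `p`. -/
structure Setup (S : Subgroup Ω) (p : ℕ) (c : Ω) : Prop where
  pgroup : IsPGroup p S
  card : Nat.card S = p ^ 2 * Nat.card (centralizerIn S S)
  comm_mem : ∀ x ∈ S, ∀ y ∈ S, ⁅x, y⁆ ∈ Subgroup.zpowers c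
  isComm : ∃ x ∈ S, ∃ y ∈ S, ⁅x, y⁆ = c
  pow : c ^ p = 1
  ne : c ≠ 1
  c_mem : c ∈ centralizerIn S S

theorem exists_setup (hS : IsPGroup p S) (hna : ∃ x ∈ S, ∃ y ∈ S, x * y ≠ y * x)
    (hZ : (Subgroup.center S).index ≤ p ^ 2) : ∃ c, Setup S p c := by
  have hp := hp.out
  set K := Subgroup.center S
  obtain ⟨x, hx, y, hy, hxy⟩ := hna
  have hnc : ¬ IsCyclic (S ⧸ K) := fun hc => hxy (congrArg Subtype.val
    (commutative_of_cyclic_center_quotient (QuotientGroup.mk' K) (by rw [QuotientGroup.ker_mk'])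
      (⟨x, hx⟩ : S) ⟨y, hy⟩))
  obtain ⟨n, hn⟩ := IsPGroup.iff_card.1 (hS.to_quotient K)
  have hn2 : n = 2 := by
    have h0 : n ≠ 0 := by
      rintro rfl
      rw [pow_zero] at hn
      have : Subsingleton (S ⧸ K) := (Nat.card_eq_one_iff_unique.1 hn).1
      exact hnc inferInstance
    have h1 : n ≠ 1 := by
      rintro rfl
      exact hnc (isCyclic_of_prime_card (p := p) (by simpa using hn))
    have h2 : p ^ n ≤ p ^ 2 := hn ▸ hZ
    have := (Nat.pow_le_pow_iff_right hp.one_lt).1 h2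
    omega
  subst hn2
  have hcomm : ∀ u v : S ⧸ K, u * v = v * u := fun u v =>
    (IsPGroup.isMulCommutative_of_card_eq_prime_sq hn).is_comm.comm u v
  have hexp : ∀ u : S ⧸ K, u ^ p = 1 := by
    intro u
    obtain ⟨k, hk, hku⟩ := (Nat.dvd_prime_pow hp).1 (hn ▸ orderOf_dvd_natCard u)
    have hk2 : k ≠ 2 := by
      rintro rfl
      exact hnc (isCyclic_of_orderOf_eq_card u (hku.trans hn.symm))
    exact orderOf_dvd_iff_pow_eq_one.1 (hku ▸ (pow_dvd_pow p (show k ≤ 1 by omega)).trans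
      (pow_one p).dvd)
  have hcen : ∀ a b g : S, Commute ⁅a, b⁆ g := fun a b g => by
    refine (Subgroup.mem_center_iff.1 ((QuotientGroup.eq_one_iff _).1 ?_) g).symm
    show (QuotientGroup.mk' K) ⁅a, b⁆ = 1
    rw [map_commutatorElement]
    exact commutatorElement_eq_one_iff_mul_comm.2 (hcomm _ _)
  have hhom : ∀ a b g : S, ⁅a * b, g⁆ = ⁅a, g⁆ * ⁅b, g⁆ := fun a b g => by
    rw [(hcen a g ⁅b, g⁆).eq]
    calc ⁅a * b, g⁆ = a * ⁅b, g⁆ * a⁻¹ * ⁅a, g⁆ := by simp only [commutatorElement_def]; group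
      _ = ⁅b, g⁆ * ⁅a, g⁆ := by rw [← (hcen b g a).eq]; group
  set a : S := ⟨x, hx⟩
  set b : S := ⟨y, hy⟩
  set c := ⁅a, b⁆ with hc
  have hab : a * b ≠ b * a := fun e => hxy (congrArg Subtype.val e)
  have hgen : K ⊔ Subgroup.zpowers a ⊔ Subgroup.zpowers b = ⊤ := by
    have hmap : (K ⊔ Subgroup.zpowers a ⊔ Subgroup.zpowers b).map (QuotientGroup.mk' K) = ⊤ := by
      set N := (K ⊔ Subgroup.zpowers a ⊔ Subgroup.zpowers b).map (QuotientGroup.mk' K) with hN
      obtain ⟨i, hi, hiN⟩ := (Nat.dvd_prime_pow hp).1 (hn ▸ Subgroup.card_subgroup_dvd_card N)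
      rcases Nat.eq_or_lt_of_le hi with rfl | hlt
      · exact (Subgroup.card_eq_iff_eq_top _).1 (hiN.trans hn.symm)
      exfalso
      have : IsCyclic N := by
        interval_cases i
        · have : Subsingleton N := (Nat.card_eq_one_iff_unique.1 (by simpa using hiN)).1
          infer_instance
        · exact isCyclic_of_prime_card (by simpa using hiN)
      let f : (K ⊔ Subgroup.zpowers a ⊔ Subgroup.zpowers b : Subgroup S) →* N :=
        ((QuotientGroup.mk' K).comp (Subgroup.subtype _)).codRestrict N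
          fun s => ⟨s.1, s.2, rfl⟩
      refine hab (congrArg Subtype.val (commutative_of_cyclic_center_quotient f ?_
        (⟨a, Subgroup.mem_sup_left (Subgroup.mem_sup_right (Subgroup.mem_zpowers a))⟩ :
          (K ⊔ Subgroup.zpowers a ⊔ Subgroup.zpowers b : Subgroup S))
        ⟨b, Subgroup.mem_sup_right (Subgroup.mem_zpowers b)⟩))
      intro s hs
      refine Subgroup.mem_center_iff.2 fun g => Subtype.ext ?_
      exact Subgroup.mem_center_iff.1
        ((QuotientGroup.eq_one_iff _).1 (congrArg Subtype.val (MonoidHom.mem_ker.1 hs))) g.1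
    have h := congrArg (Subgroup.comap (QuotientGroup.mk' K)) hmap
    rwa [Subgroup.comap_map_eq, Subgroup.comap_top, QuotientGroup.ker_mk',
      sup_eq_left.2 (le_sup_left.trans le_sup_left)] at h
  have hall : ∀ g : S, (⁅a, g⁆ ∈ Subgroup.zpowers c ∧ ⁅b, g⁆ ∈ Subgroup.zpowers c) →
      ∀ u : S, ⁅u, g⁆ ∈ Subgroup.zpowers c := by
    rintro g ⟨h1, h2⟩ u
    have hle : K ⊔ Subgroup.zpowers a ⊔ Subgroup.zpowers b ≤
        (Subgroup.zpowers c).comap (MonoidHom.mk' (fun u : S => ⁅u, g⁆) fun s t => hhom s t g) := by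
      refine sup_le (sup_le (fun k hk => ?_) (Subgroup.zpowers_le.2 h1)) (Subgroup.zpowers_le.2 h2)
      show ⁅k, g⁆ ∈ Subgroup.zpowers c
      rw [commutatorElement_eq_one_iff_mul_comm.2 (Subgroup.mem_center_iff.1 hk g).symm]
      exact Subgroup.one_mem _
    exact hle (hgen ▸ Subgroup.mem_top u)
  have hswap : ∀ u v : S, ⁅u, v⁆ ∈ Subgroup.zpowers c → ⁅v, u⁆ ∈ Subgroup.zpowers c := by
    intro u v h
    rw [← commutatorElement_inv u v]
    exact Subgroup.inv_mem _ h
  have hbase : ∀ g, g = a ∨ g = b → (⁅a, g⁆ ∈ Subgroup.zpowers c ∧ ⁅b, g⁆ ∈ Subgroup.zpowers c) := by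
    rintro g (rfl | rfl)
    · exact ⟨by rw [commutatorElement_self]; exact Subgroup.one_mem _,
        hswap a b (Subgroup.mem_zpowers c)⟩
    · exact ⟨Subgroup.mem_zpowers c, by rw [commutatorElement_self]; exact Subgroup.one_mem _⟩
  have hfin : ∀ u v : S, ⁅u, v⁆ ∈ Subgroup.zpowers c := fun u v =>
    hall v ⟨hswap v a (hall a (hbase a (Or.inl rfl)) v), hswap v b (hall b (hbase b (Or.inr rfl)) v)⟩ u
  have hcK : c ∈ K := Subgroup.mem_center_iff.2 fun g => ((hcen a b g).eq).symm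
  refine ⟨(c : Ω), hS, ?_, fun u hu v hv => ?_, ⟨x, hx, y, hy, ?_⟩, ?_, ?_, ?_⟩
  · rw [← center_map_eq, Subgroup.card_map_of_injective S.subtype_injective, ← hn,
      ← Subgroup.card_eq_card_quotient_mul_card_subgroup]
  · obtain ⟨k, hk⟩ := Subgroup.mem_zpowers_iff.1 (hfin ⟨u, hu⟩ ⟨v, hv⟩)
    refine Subgroup.mem_zpowers_iff.2 ⟨k, ?_⟩
    rw [← SubgroupClass.coe_zpow, hk]
    exact map_commutatorElement S.subtype ⟨u, hu⟩ ⟨v, hv⟩
  · exact (map_commutatorElement S.subtype a b).symm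
  · have h : c ^ p = ⁅a ^ p, b⁆ := (map_pow
      (MonoidHom.mk' (fun u : S => ⁅u, b⁆) fun s t => hhom s t b) a p).symm
    have hap : a ^ p ∈ K := (QuotientGroup.eq_one_iff _).1 (hexp (QuotientGroup.mk' K a))
    rw [commutatorElement_eq_one_iff_mul_comm.2 (Subgroup.mem_center_iff.1 hap b).symm] at h
    rw [← SubgroupClass.coe_pow, h, Subgroup.coe_one]
  · exact fun e => hab (commutatorElement_eq_one_iff_mul_comm.1 (Subtype.ext e))
  · rw [← center_map_eq]
    exact ⟨c, hcK, rfl⟩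

variable {c : Ω}

namespace Setup

omit [Finite S] in
theorem card_zpowers (h : Setup S p c) : Nat.card (Subgroup.zpowers c) = p := by
  rw [Nat.card_zpowers, orderOf_eq_prime h.pow h.ne]

omit [Finite S] hp in
theorem zpowers_le (h : Setup S p c) : Subgroup.zpowers c ≤ centralizerIn S S :=
  Subgroup.zpowers_le.2 h.c_mem

theorem card_eq_of_between (h : Setup S p c) {E : Subgroup Ω} (h1 : centralizerIn S S < E)
    (h2 : E < S) : Nat.card E = p * Nat.card (centralizerIn S S) := by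
  have hp := hp.out
  have := finite_of_le h2.le
  have hZS : centralizerIn S S ≤ S := inf_le_left
  have := finite_of_le hZS
  obtain ⟨n, hn⟩ := IsPGroup.iff_card.1 (h.pgroup.to_le h2.le)
  obtain ⟨m, hm⟩ := IsPGroup.iff_card.1 (h.pgroup.to_le hZS)
  have hlo : Nat.card (centralizerIn S S) < Nat.card E := lt_of_le_of_ne
    (Subgroup.card_le_of_le h1.le) fun e => h1.ne (Subgroup.eq_of_le_of_card_ge h1.le e.ge)
  have hhi : Nat.card E < Nat.card S := lt_of_le_of_ne
    (Subgroup.card_le_of_le h2.le) fun e => h2.ne (Subgroup.eq_of_le_of_card_ge h2.le e.ge)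
  rw [h.card, hn, hm, ← pow_add] at hhi
  rw [hn, hm] at hlo
  have ha := (Nat.pow_lt_pow_iff_right hp.one_lt).1 hlo
  have hb := (Nat.pow_lt_pow_iff_right hp.one_lt).1 hhi
  rw [hn, hm, ← pow_succ']
  congr 1
  omega

theorem eq_of_le (h : Setup S p c) {E E' : Subgroup Ω} (h1 : centralizerIn S S < E) (hle : E ≤ E')
    (h2 : E' < S) : E = E' := by
  have := finite_of_le h2.le
  exact Subgroup.eq_of_le_of_card_ge hle
    ((h.card_eq_of_between (h1.trans_le hle) h2).trans
      (h.card_eq_of_between h1 (lt_of_le_of_lt hle h2)).symm).le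

omit hp in
theorem sup_zpowers_lt (h : Setup S p c) {a : Ω} (ha : a ∈ S) :
    centralizerIn S S ⊔ Subgroup.zpowers a < S := by
  refine lt_of_le_of_ne (sup_le inf_le_left (Subgroup.zpowers_le.2 ha)) fun e => ?_
  obtain ⟨x, hx, y, hy, hxy⟩ := h.isComm
  refine h.ne (hxy ▸ commutatorElement_eq_one_iff_mul_comm.2 ?_)
  exact comm_sup_zpowers (U := centralizerIn S S) (a := a)
    (fun u hu v hv => (Subgroup.mem_centralizer_iff.1 hu.2 v hv.1).symm)
    (fun u hu => (Subgroup.mem_centralizer_iff.1 hu.2 a ha).symm) x (e.symm ▸ hx) y (e.symm ▸ hy)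

theorem comm_of_between (h : Setup S p c) {E : Subgroup Ω} (h1 : centralizerIn S S < E)
    (h2 : E < S) : ∀ x ∈ E, ∀ y ∈ E, x * y = y * x := by
  obtain ⟨a, ha, haZ⟩ := SetLike.exists_of_lt h1
  have hlt : centralizerIn S S < centralizerIn S S ⊔ Subgroup.zpowers a :=
    left_lt_sup.2 fun hle => haZ (hle (Subgroup.mem_zpowers a))
  have he := h.eq_of_le hlt (sup_le h1.le (Subgroup.zpowers_le.2 ha)) h2
  rw [← he]
  exact comm_sup_zpowers (fun u hu v hv => (Subgroup.mem_centralizer_iff.1 hu.2 v hv.1).symm)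
    fun u hu => (Subgroup.mem_centralizer_iff.1 hu.2 a (h2.le ha)).symm

omit [Finite S] hp in
theorem conj_mem (h : Setup S p c) {E : Subgroup Ω} (h1 : centralizerIn S S ≤ E) (h2 : E ≤ S)
    {g x : Ω} (hg : g ∈ S) (hx : x ∈ E) : g * x * g⁻¹ ∈ E := by
  have := E.mul_mem (h1 (h.zpowers_le (h.comm_mem g hg x (h2 hx)))) hx
  rwa [commutatorElement_def, inv_mul_cancel_right] at this

theorem sup_eq (h : Setup S p c) {E E' : Subgroup Ω} (hE : centralizerIn S S < E) (hE2 : E < S)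
    (hE' : centralizerIn S S < E') (hE'2 : E' < S) (hne : E ≠ E') : E ⊔ E' = S := by
  by_contra hS
  have hlt : E ⊔ E' < S := lt_of_le_of_ne (sup_le hE2.le hE'2.le) hS
  exact hne ((h.eq_of_le hE le_sup_left hlt).trans (h.eq_of_le hE' le_sup_right hlt).symm)

theorem isFullyNormalized (h : Setup S p c) {E : Subgroup Ω} (h1 : centralizerIn S S ≤ E)
    (h2 : E ≤ S) : F.IsFullyNormalized E := by
  refine ⟨h2, fun Q _ => ?_⟩
  rw [show normalizerIn S E = S from le_antisymm inf_le_left fun g hg =>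
    ⟨hg, mem_normalizer_of_conj_mem h2 fun x hx => h.conj_mem h1 h2 hg hx⟩]
  exact Subgroup.card_le_of_le inf_le_left

theorem centralizer_inf (h : Setup S p c) {E : Subgroup Ω} (h1 : centralizerIn S S < E)
    (h2 : E < S) {g : Ω} (hg : g ∈ S) (hgE : g ∉ E) {x : Ω} (hx : x ∈ E)
    (hgx : g * x = x * g) : x ∈ centralizerIn S S := by
  refine ⟨h2.le hx, ?_⟩
  by_contra hxC
  -- `⟨E, g⟩ = S` centralises `x`
  have hxZ : x ∉ centralizerIn S S := fun e => hxC e.2
  have he : centralizerIn S S ⊔ Subgroup.zpowers x = E := h.eq_of_le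
    (left_lt_sup.2 fun hle => hxZ (hle (Subgroup.mem_zpowers x)))
    (sup_le h1.le (Subgroup.zpowers_le.2 hx)) h2
  have hlt : E < E ⊔ Subgroup.zpowers g := left_lt_sup.2 fun hle => hgE (hle (Subgroup.mem_zpowers g))
  have hsup : E ⊔ Subgroup.zpowers g = S := by
    by_contra hne
    exact hlt.ne (h.eq_of_le h1 hlt.le
      (lt_of_le_of_ne (sup_le h2.le (Subgroup.zpowers_le.2 hg)) hne))
  refine hxC (Subgroup.mem_centralizer_iff.2 fun s hs => ?_)
  have hle : E ⊔ Subgroup.zpowers g ≤ Subgroup.centralizer {x} := by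
    refine sup_le (fun e he' => ?_) (Subgroup.zpowers_le.2 ?_)
    · exact Subgroup.mem_centralizer_singleton_iff.2 (h.comm_of_between h1 h2 e he' x hx)
    · exact Subgroup.mem_centralizer_singleton_iff.2 hgx
  exact Subgroup.mem_centralizer_singleton_iff.1 (hle (hsup.symm ▸ hs))

end Setup

/-- The abelian maximal subgroups over the centre whose automizer moves the derived subgroup. -/
def Bad (F : FusionSystem S) (c : Ω) (E : Subgroup Ω) : Prop :=
  centralizerIn S S < E ∧ E < S ∧ ∃ f, IsIso F E E f ∧ f c ∉ Subgroup.zpowers c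

/-- The structure of a bad subgroup. -/
structure Split (F : FusionSystem S) (p : ℕ) (c : Ω) (E C : Subgroup Ω) (v : Ω) : Prop where
  le : C ≤ centralizerIn S S
  inf : C ⊓ Subgroup.zpowers c = ⊥
  sup : C ⊔ Subgroup.zpowers c = centralizerIn S S
  mem : v ∈ E
  notMem : v ∉ centralizerIn S S
  pow : v ^ p = 1
  inv : ∀ f, IsIso F E E f → ∀ z ∈ C, f z ∈ C
  factor : ∀ α ∈ F.autGroup E, ∃ g : MulAut E, (∀ z : E, (z : Ω) ∈ C → g z = z) ∧
    (∀ x : E, (x : Ω)⁻¹ * (g x : Ω) ∈ Subgroup.zpowers c ⊔ Subgroup.zpowers v) ∧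
    ∃ f, IsIso F S S f ∧ ∀ x : E, ((g * α) x : Ω) = f x
  invert : ∃ f, IsIso F S S f ∧ (∀ z ∈ C, f z = z) ∧ ∀ z ∈ Subgroup.zpowers c, f z = z⁻¹

theorem extend_of_normalizes (h : Setup S p c) (hF : F.IsSaturated p) {E : Subgroup Ω}
    (h1 : centralizerIn S S ≤ E) (h2 : E ≤ S) {β : MulAut E} (hβ : β ∈ F.autGroup E)
    (hn : ∀ σ ∈ autInducedBy S E, β * σ * β⁻¹ ∈ autInducedBy S E) :
    ∃ f, IsIso F S S f ∧ ∀ x : E, (β x : Ω) = f x := by
  obtain ⟨f, hf, hv⟩ := (isReceptive_iff.1 (isReceptive_of_isFullyNormalized h.pgroup hF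
    (h.isFullyNormalized h1 h2))).2 E _ ((mem_autGroup_iff h2 β).1 hβ)
  have hN : nPhi S E (autFun β) = S := le_antisymm (nPhi_le_self _ _) fun g hg => by
    have hgn : g ∈ Subgroup.normalizer (E : Set Ω) :=
      mem_normalizer_of_conj_mem h2 fun x hx => h.conj_mem h1 h2 hg hx
    obtain ⟨k, hk, hkv⟩ :=
      (mem_autInducedBy_iff S E _).1 (hn _ (conjAut_mem_autInducedBy hgn hg))
    refine ⟨hg, hgn, k, hk, fun x hx => ?_⟩
    have := hkv (β ⟨x, hx⟩)
    rw [MulAut.mul_apply, MulAut.mul_apply, MulAut.inv_apply_self] at this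
    rw [autFun_apply β (conj_mem_of_mem_normalizer hgn hx), autFun_apply β hx, ← this]
    rfl
  rw [hN] at hf
  exact ⟨f, hf.isIso_of_card_le (fun x hx => hf.mem hx) le_rfl,
    fun x => by rw [hv x x.2, autFun_coe]⟩

theorem exists_transvection (h : Setup S p c) (hF : F.IsSaturated p) {E : Subgroup Ω}
    (h1 : centralizerIn S S < E) (h2 : E < S) :
    ∃ t, IsTransvection p (F.autGroup E) t ((centralizerIn S S).subgroupOf E)
        ((Subgroup.zpowers c).subgroupOf E) ∧ autInducedBy S E = Subgroup.zpowers t := by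
  have := finite_of_le h2.le
  have := finite_mulAut E
  obtain ⟨s, hs, hsE⟩ := SetLike.exists_of_lt h2
  have hnrm : ∀ g ∈ S, g ∈ Subgroup.normalizer (E : Set Ω) := fun g hg =>
    mem_normalizer_of_conj_mem h2.le fun x hx => h.conj_mem h1.le h2.le hg hx
  set t := conjAut E (hnrm s hs) with ht
  have hT : autInducedBy S E = Subgroup.zpowers t := by
    refine le_antisymm (fun σ hσ => ?_) (Subgroup.zpowers_le.2 (conjAut_mem_autInducedBy _ hs))
    obtain ⟨g, hg, hv⟩ := (mem_autInducedBy_iff S E σ).1 hσ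
    have hsup : S ≤ (E ⊔ Subgroup.zpowers s) := by
      have hlt : E < E ⊔ Subgroup.zpowers s :=
        left_lt_sup.2 fun hle => hsE (hle (Subgroup.mem_zpowers s))
      by_contra hne
      exact hlt.ne (h.eq_of_le h1 hlt.le (lt_of_le_of_ne
        (sup_le h2.le (Subgroup.zpowers_le.2 hs)) fun e => hne e.ge))
    let N : Subgroup (Subgroup.normalizer (E : Set Ω)) :=
      (Subgroup.zpowers t).comap E.normalizerMonoidHom
    have hle : E ⊔ Subgroup.zpowers s ≤ N.map (Subgroup.subtype _) := by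
      refine sup_le (fun e he => ⟨⟨e, Subgroup.le_normalizer he⟩, ?_, rfl⟩)
        (Subgroup.zpowers_le.2 ⟨⟨s, hnrm s hs⟩, Subgroup.mem_zpowers t, rfl⟩)
      show conjAut E (Subgroup.le_normalizer he) ∈ Subgroup.zpowers t
      convert Subgroup.one_mem (Subgroup.zpowers t)
      refine MulEquiv.ext fun x => Subtype.ext ?_
      rw [conjAut_apply, h.comm_of_between h1 h2 e he x x.2, mul_inv_cancel_right]
      rfl
    obtain ⟨g', hg', rfl⟩ := hle (hsup hg)
    have : σ = conjAut E g'.2 := MulEquiv.ext fun x => Subtype.ext (by rw [hv, conjAut_apply]; rfl)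
    rw [this]
    exact hg'
  refine ⟨t, ⟨fun x y => Subtype.ext (h.comm_of_between h1 h2 x x.2 y y.2), h.pgroup.to_le h2.le,
    autInducedBy_le_autGroup h2.le (conjAut_mem_autInducedBy _ hs), fun x => ?_, fun x => ?_,
    fun x hx => h.zpowers_le hx, ?_, ?_, ?_⟩, hT⟩
  · constructor
    · intro hx
      have hx' : s * (x : Ω) * s⁻¹ = x := congrArg Subtype.val hx
      exact Subgroup.mem_subgroupOf.2
        (h.centralizer_inf h1 h2 hs hsE x.2 (mul_inv_eq_iff_eq_mul.1 hx'))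
    · intro hx
      refine Subtype.ext ?_
      rw [ht, conjAut_apply, Subgroup.mem_centralizer_iff.1 (Subgroup.mem_subgroupOf.1 hx).2 s hs,
        mul_inv_cancel_right]
  · refine Subgroup.mem_subgroupOf.2 ?_
    have := h.comm_mem (x : Ω)⁻¹ (S.inv_mem (h2.le x.2)) s hs
    rw [Subgroup.coe_mul, Subgroup.coe_inv, ht, conjAut_apply]
    rwa [commutatorElement_def, inv_inv,
      show (x : Ω)⁻¹ * s * x * s⁻¹ = (x : Ω)⁻¹ * (s * x * s⁻¹) by group] at this
  · rw [Nat.card_congr (Subgroup.subgroupOfEquivOfLe (h.zpowers_le.trans h1.le)).toEquiv,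
      h.card_zpowers]
  · intro e
    exact h1.not_ge (Subgroup.subgroupOf_eq_top.1 e)
  · intro K hK hKp htK
    obtain ⟨-, R, hR⟩ := isFullyAutomized_of_isFullyNormalized h.pgroup hF
      (h.isFullyNormalized (F := F) h1.le h2.le)
    have hKp' : IsPGroup p (K.subgroupOf (F.autGroup E)) :=
      hKp.of_equiv (Subgroup.subgroupOfEquivOfLe hK).symm
    have hle : (R : Subgroup (F.autGroup E)) ≤ K.subgroupOf (F.autGroup E) := by
      rw [hR, hT]
      intro σ hσ
      exact Subgroup.zpowers_le.2 htK (Subgroup.mem_subgroupOf.1 hσ)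
    have heq := R.is_maximal' hKp' hle
    intro σ hσ
    have : (⟨σ, hK hσ⟩ : F.autGroup E) ∈ (R : Subgroup (F.autGroup E)) := by
      rw [← heq]; exact Subgroup.mem_subgroupOf.2 hσ
    rw [hR, Subgroup.mem_subgroupOf, hT] at this
    exact this

theorem exists_split (h : Setup S p c) (hF : F.IsSaturated p) {E : Subgroup Ω}
    (hE : Bad F c E) : ∃ C v, Split F p c E C v := by
  obtain ⟨h1, h2, f, hf, hfc⟩ := hE
  have := finite_of_le h2.le
  obtain ⟨t, ht, hT⟩ := exists_transvection h hF h1 h2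
  have hcE : c ∈ E := h1.le h.c_mem
  obtain ⟨a, ha, hav⟩ := exists_mem_autGroup hf
  obtain ⟨C, v, hCZ, hCY, hCsup, hvZ, hvp, hinv, hfac, τ, hτ, hτt, hτC, hτY⟩ :=
    ht.exists_split ⟨a, ha, ⟨c, hcE⟩, Subgroup.mem_subgroupOf.2 (Subgroup.mem_zpowers c),
      fun e => hfc (hav ⟨c, hcE⟩ ▸ Subgroup.mem_subgroupOf.1 e)⟩
  have hzc : Subgroup.zpowers c ≤ E := Subgroup.zpowers_le.2 hcE
  refine ⟨C.map E.subtype, (v : Ω), ⟨?_, ?_, ?_, v.2, hvZ, ?_, ?_, ?_, ?_⟩⟩
  · rintro _ ⟨z, hz, rfl⟩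
    exact hCZ hz
  · rw [Subgroup.eq_bot_iff_forall]
    rintro _ ⟨⟨z, hz, rfl⟩, hzc'⟩
    have : z ∈ C ⊓ (Subgroup.zpowers c).subgroupOf E := ⟨hz, hzc'⟩
    rw [hCY, Subgroup.mem_bot] at this
    rw [this]
    rfl
  · have := congrArg (Subgroup.map E.subtype) hCsup
    rwa [Subgroup.map_sup, Subgroup.map_subgroupOf_eq_of_le hzc,
      Subgroup.map_subgroupOf_eq_of_le h1.le] at this
  · exact congrArg Subtype.val hvp
  · rintro g hg _ ⟨z, hz, rfl⟩
    obtain ⟨b, hb, hbv⟩ := exists_mem_autGroup hg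
    exact ⟨b z, hinv b hb z hz, hbv z⟩
  · intro α hα
    obtain ⟨g, hg, hgC, hgd, hgt⟩ := hfac α hα
    refine ⟨g, ?_, fun x => ?_, ?_⟩
    · rintro z ⟨z', hz', hze⟩
      exact hgC z (by rwa [show z = z' from Subtype.ext hze.symm])
    · have hle : (Subgroup.zpowers c).subgroupOf E ⊔ Subgroup.zpowers v ≤
          (Subgroup.zpowers c ⊔ Subgroup.zpowers (v : Ω)).comap E.subtype :=
        sup_le (fun y hy => Subgroup.mem_sup_left hy) (Subgroup.zpowers_le.2
          (Subgroup.mem_sup_right (Subgroup.mem_zpowers _)))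
      exact hle (hgd x)
    · refine extend_of_normalizes h hF h1.le h2.le ((F.autGroup E).mul_mem hg hα) fun σ hσ => ?_
      rw [hT] at hσ ⊢
      obtain ⟨k, rfl⟩ := Subgroup.mem_zpowers_iff.1 hσ
      rw [← conj_zpow]
      exact Subgroup.zpow_mem _ hgt k
  · obtain ⟨f', hf', hfv⟩ := extend_of_normalizes h hF h1.le h2.le hτ fun σ hσ => by
      rw [hT] at hσ ⊢
      obtain ⟨k, rfl⟩ := Subgroup.mem_zpowers_iff.1 hσ
      rw [← conj_zpow, hτt]
      exact Subgroup.zpow_mem _ (Subgroup.mem_zpowers t) k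
    refine ⟨f', hf', ?_, fun z hz => ?_⟩
    · rintro _ ⟨z, hz, rfl⟩
      exact (hfv z).symm.trans (congrArg Subtype.val (hτC z hz))
    · exact (hfv ⟨z, hzc hz⟩).symm.trans
        (congrArg Subtype.val (hτY ⟨z, hzc hz⟩ (Subgroup.mem_subgroupOf.2 hz)))

theorem bad_of_isEssential (h : Setup S p c) (hF : F.IsSaturated p) {E : Subgroup Ω}
    (hE : F.IsEssential p E) : Bad F c E := by
  have hES : E ≤ S := hE.1.1
  have hne := ne_of_isEssential h.pgroup hF hE
  have hc := hE.1.2 E (isConj_refl hES)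
  have hle : centralizerIn S S ≤ E :=
    le_trans (inf_le_inf_left _ (Subgroup.centralizer_le hES)) hc
  have h1 : centralizerIn S S < E := by
    refine lt_of_le_of_ne hle fun e => hne (le_antisymm hES fun g hg => hc ⟨hg, ?_⟩)
    exact Subgroup.mem_centralizer_iff.2 fun z hz =>
      (Subgroup.mem_centralizer_iff.1 (e.symm ▸ hz : z ∈ centralizerIn S S).2 g hg).symm
  have h2 : E < S := lt_of_le_of_ne hES hne
  refine ⟨h1, h2, ?_⟩
  by_contra hcon
  push Not at hcon
  refine closure_extSet_ne_of_isEssential h.pgroup hF hE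
    (le_antisymm (closure_extSet_le E) fun α hα => Subgroup.subset_closure ?_)
  have := finite_of_le hES
  obtain ⟨t, ht, hT⟩ := exists_transvection h hF h1 h2
  have hY : ∀ y ∈ (Subgroup.zpowers c).subgroupOf E, α y ∈ (Subgroup.zpowers c).subgroupOf E := by
    intro y hy
    obtain ⟨k, hk⟩ := Subgroup.mem_zpowers_iff.1 (Subgroup.mem_subgroupOf.1 hy)
    have hm := (mem_autGroup_iff hES α).1 hα
    refine Subgroup.mem_subgroupOf.2 ?_
    rw [← autFun_coe α y, ← hk, hm.isMap.map_zpow (hle h.c_mem)]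
    exact Subgroup.zpow_mem _ (hcon _ hm) k
  have hconj := ht.conj_mem_of_map_le hα hY
  obtain ⟨f, hf, hfv⟩ := extend_of_normalizes h hF hle hES hα fun σ hσ => by
    rw [hT] at hσ ⊢
    obtain ⟨k, rfl⟩ := Subgroup.mem_zpowers_iff.1 hσ
    rw [← conj_zpow]
    exact Subgroup.zpow_mem _ hconj k
  exact ⟨S, h2, f, hf.isMap, hfv⟩

end CfsgLib.Fusion.CenterSq
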