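import Mathlib
import Cfsg.Prelude.Def_Transfer
import Cfsg.Agent.Lib.Critical.Basic
import Cfsg.Agent.Lib.PSolvable.Omega

/-!
Recognition of `E × A`, `E` extraspecial of order `p ^ 3` generated by elements of order `p`.
-/

set_option autoImplicit false
set_option linter.style.haveILetI false

open scoped commutatorElement

namespace CfsgLib.Fusion.Split

variable {Q : Type*} [Group Q]

/-- Commutators with `b` are multiplicative when all commutators are central. -/
theorem comm_mul (hc : ∀ a b g : Q, Commute ⁅a, b⁆ g) (a b y : Q) :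
    ⁅a * b, y⁆ = ⁅a, y⁆ * ⁅b, y⁆ := by
  rw [(hc a y ⁅b, y⁆).eq]
  calc ⁅a * b, y⁆ = a * ⁅b, y⁆ * a⁻¹ * ⁅a, y⁆ := by simp only [commutatorElement_def]; group
    _ = ⁅b, y⁆ * ⁅a, y⁆ := by rw [← (hc b y a).eq]; group

/-- The commutator map against a fixed element. -/
def commHom (hc : ∀ a b g : Q, Commute ⁅a, b⁆ g) (y : Q) : Q →* Q :=
  MonoidHom.mk' (fun a => ⁅a, y⁆) fun a b => comm_mul hc a b y

theorem commHom_apply (hc : ∀ a b g : Q, Commute ⁅a, b⁆ g) (y a : Q) :
    commHom hc y a = ⁅a, y⁆ := rfl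

theorem dvd_of_zpow_eq_one {p : ℕ} [hp : Fact p.Prime] {w : Q} (hw : w ^ p = 1) (hw1 : w ≠ 1)
    {i : ℤ} (h : w ^ i = 1) : (p : ℤ) ∣ i := by
  rw [← orderOf_eq_prime hw hw1]
  exact orderOf_dvd_iff_zpow_eq_one.2 h

variable [Finite Q] {p : ℕ} [hp : Fact p.Prime]

theorem exists_split (hQ : IsPGroup p Q) {x y w : Q} {C A : Subgroup Q}
    (hc : ∀ a b g : Q, Commute ⁅a, b⁆ g) (hxy : ⁅x, y⁆ = w) (hxp : x ^ p = 1) (hyp : y ^ p = 1)
    (hwp : w ^ p = 1) (hw1 : w ≠ 1)
    (hcen : C = Subgroup.center Q) (hA : A ≤ C) (hAw : A ⊔ Subgroup.zpowers w = C)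
    (hAi : A ⊓ Subgroup.zpowers w = ⊥) (hQp : ∀ a : Q, a ^ p ∈ Subgroup.zpowers w)
    (hQc : ∀ a b : Q, ⁅a, b⁆ ∈ Subgroup.zpowers w)
    (hgen : ∀ a : Q, ∃ i j : ℤ, ∃ c ∈ C, a = x ^ i * y ^ j * c) :
    ∃ E : Subgroup Q, Cfsg.IsExtraspecial p E ∧ Nat.card E = p ^ 3 ∧ x ∈ E ∧ y ∈ E ∧
      E = Subgroup.closure {x, y} ∧ Nonempty (Q ≃* E × A) := by
  set E := Subgroup.closure ({x, y} : Set Q) with hEdef
  have hxE : x ∈ E := Subgroup.subset_closure (Set.mem_insert _ _)
  have hyE : y ∈ E := Subgroup.subset_closure (Set.mem_insert_of_mem _ rfl)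
  have hwE : w ∈ E := by
    rw [← hxy, commutatorElement_def]
    exact E.mul_mem (E.mul_mem (E.mul_mem hxE hyE) (E.inv_mem hxE)) (E.inv_mem hyE)
  have hwC : w ∈ C := hAw ▸ Subgroup.mem_sup_right (Subgroup.mem_zpowers w)
  have hcomm : ∀ c ∈ C, ∀ g : Q, c * g = g * c := fun c hcC g =>
    (Subgroup.mem_center_iff.1 (hcen ▸ hcC) g).symm
  -- the exponents of a central element
  have hexp : ∀ i j : ℤ, ∀ c ∈ C, x ^ i * y ^ j * c ∈ C → (p : ℤ) ∣ i ∧ (p : ℤ) ∣ j := by
    intro i j c hcC h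
    have hz : x ^ i * y ^ j ∈ C := by
      have := C.mul_mem h (C.inv_mem hcC)
      rwa [mul_inv_cancel_right] at this
    have hy' : commHom hc y (x ^ i * y ^ j) = 1 := by
      rw [commHom_apply, commutatorElement_eq_one_iff_mul_comm]
      exact hcomm _ hz y
    have hx' : commHom hc x (x ^ i * y ^ j) = 1 := by
      rw [commHom_apply, commutatorElement_eq_one_iff_mul_comm]
      exact hcomm _ hz x
    rw [map_mul, map_zpow, map_zpow, commHom_apply, commHom_apply, commutatorElement_self,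
      one_zpow, mul_one, hxy] at hy'
    rw [map_mul, map_zpow, map_zpow, commHom_apply, commHom_apply, commutatorElement_self,
      one_zpow, one_mul, ← commutatorElement_inv, hxy, inv_zpow, inv_eq_one] at hx'
    exact ⟨dvd_of_zpow_eq_one hwp hw1 hy', dvd_of_zpow_eq_one hwp hw1 hx'⟩
  have hone : ∀ i j : ℤ, (p : ℤ) ∣ i → (p : ℤ) ∣ j → x ^ i * y ^ j = 1 := by
    rintro i j ⟨a, rfl⟩ ⟨b, rfl⟩
    rw [zpow_mul, zpow_mul, zpow_natCast, zpow_natCast, hxp, hyp, one_zpow, one_zpow, one_mul]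
  -- elements of `E`
  have hEform : ∀ e ∈ E, ∃ i j k : ℤ, e = x ^ i * y ^ j * w ^ k := by
    intro e he
    obtain ⟨i, j, c, hcC, rfl⟩ := hgen e
    let M : Subgroup Q :=
      { carrier := {e | ∃ i j k : ℤ, e = x ^ i * y ^ j * w ^ k}
        one_mem' := ⟨0, 0, 0, by simp⟩
        mul_mem' := by
          rintro _ _ ⟨i, j, k, rfl⟩ ⟨i', j', k', rfl⟩
          obtain ⟨m, hm⟩ := Subgroup.mem_zpowers_iff.1 (hQc (y ^ j) (x ^ i'))
          refine ⟨i + i', j + j', k + k' + m, ?_⟩
          have e1 : y ^ j * x ^ i' = w ^ m * (x ^ i' * y ^ j) := by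
            rw [hm, commutatorElement_def]; group
          calc x ^ i * y ^ j * w ^ k * (x ^ i' * y ^ j' * w ^ k')
              = x ^ i * y ^ j * (w ^ k * x ^ i') * y ^ j' * w ^ k' := by group
            _ = x ^ i * (y ^ j * x ^ i') * (w ^ k * y ^ j') * w ^ k' := by
              rw [hcomm _ (C.zpow_mem hwC k) (x ^ i')]; group
            _ = x ^ i * (w ^ m * (x ^ i' * y ^ j)) * (w ^ k * y ^ j') * w ^ k' := by rw [e1]
            _ = (x ^ i * w ^ m) * x ^ i' * y ^ j * (w ^ k * y ^ j') * w ^ k' := by group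
            _ = (w ^ m * x ^ i) * x ^ i' * y ^ j * (y ^ j' * w ^ k) * w ^ k' := by
              rw [hcomm _ (C.zpow_mem hwC m) (x ^ i), hcomm _ (C.zpow_mem hwC k) (y ^ j')]
            _ = w ^ m * (x ^ (i + i') * y ^ (j + j') * w ^ (k + k')) := by
              rw [zpow_add, zpow_add, zpow_add]; group
            _ = x ^ (i + i') * y ^ (j + j') * w ^ (k + k' + m) := by
              rw [hcomm _ (C.zpow_mem hwC m), mul_assoc, ← zpow_add]
        inv_mem' := by
          rintro _ ⟨i, j, k, rfl⟩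
          obtain ⟨m, hm⟩ := Subgroup.mem_zpowers_iff.1 (hQc (y ^ (-j)) (x ^ (-i)))
          refine ⟨-i, -j, m + -k, ?_⟩
          have e1 : y ^ (-j) * x ^ (-i) = w ^ m * (x ^ (-i) * y ^ (-j)) := by
            rw [hm, commutatorElement_def]; group
          calc (x ^ i * y ^ j * w ^ k)⁻¹ = w ^ (-k) * (y ^ (-j) * x ^ (-i)) := by group
            _ = w ^ (-k) * (w ^ m * (x ^ (-i) * y ^ (-j))) := by rw [e1]
            _ = w ^ (m + -k) * (x ^ (-i) * y ^ (-j)) := by
              rw [← mul_assoc, ← zpow_add, add_comm]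
            _ = _ := hcomm _ (C.zpow_mem hwC _) _ }
    have hEM : E ≤ M := by
      rw [hEdef, Subgroup.closure_le]
      rintro a (rfl | rfl)
      · exact ⟨1, 0, 0, by simp⟩
      · exact ⟨0, 1, 0, by simp⟩
    exact hEM he
  have hEC : E ⊓ C ≤ Subgroup.zpowers w := by
    rintro e ⟨he, heC⟩
    obtain ⟨i, j, k, rfl⟩ := hEform e he
    obtain ⟨hi, hj⟩ := hexp i j _ (C.zpow_mem hwC k) heC
    rw [hone i j hi hj, one_mul]
    exact Subgroup.zpow_mem _ (Subgroup.mem_zpowers w) k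
  have hEA : Disjoint E A := by
    rw [disjoint_iff_inf_le]
    rintro a ⟨haE, haA⟩
    exact hAi ▸ (⟨haA, hEC ⟨haE, hA haA⟩⟩ : a ∈ A ⊓ Subgroup.zpowers w)
  have htop : E ⊔ A = ⊤ := by
    rw [eq_top_iff]
    intro a _
    obtain ⟨i, j, c, hcC, rfl⟩ := hgen a
    have hle : C ≤ E ⊔ A := hAw ▸ sup_le le_sup_right (Subgroup.zpowers_le.2 (Subgroup.mem_sup_left hwE))
    exact Subgroup.mul_mem _ (Subgroup.mem_sup_left
      (E.mul_mem (E.zpow_mem hxE i) (E.zpow_mem hyE j))) (hle hcC)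
  let f : E × A →* Q := E.subtype.noncommCoprod A.subtype
    (fun e a => (hcomm _ (hA a.2) e).symm)
  have hf : Function.Bijective f := by
    constructor
    · rw [← MonoidHom.ker_eq_bot_iff, Subgroup.eq_bot_iff_forall]
      rintro ⟨e, a⟩ h
      have h' : (e : Q) * a = 1 := h
      have he : (e : Q) ∈ A := by
        rw [eq_inv_of_mul_eq_one_left h']; exact A.inv_mem a.2
      have he1 : (e : Q) = 1 := Subgroup.mem_bot.1 (hEA.le_bot ⟨e.2, he⟩)
      rw [he1, one_mul] at h'
      exact Prod.ext (Subtype.ext he1) (Subtype.ext h')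
    · rw [← MonoidHom.range_eq_top, eq_top_iff, ← htop]
      refine sup_le (fun e he => ⟨(⟨e, he⟩, 1), ?_⟩) fun a ha => ⟨(1, ⟨a, ha⟩), ?_⟩
      · show e * ((1 : A) : Q) = e
        rw [Subgroup.coe_one, mul_one]
      · show ((1 : E) : Q) * a = a
        rw [Subgroup.coe_one, one_mul]
  -- `E` is extraspecial
  set Zw : Subgroup E := (Subgroup.zpowers w).subgroupOf E
  have hZcard : Nat.card Zw = p := by
    rw [Nat.card_congr (Subgroup.subgroupOfEquivOfLe (Subgroup.zpowers_le.2 hwE)).toEquiv,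
      Nat.card_zpowers, orderOf_eq_prime hwp hw1]
  have hcenE : Subgroup.center E = Zw := by
    apply le_antisymm
    · intro e he
      refine hEC ⟨e.2, ?_⟩
      show (e : Q) ∈ C
      rw [hcen, Subgroup.mem_center_iff]
      intro g
      have hg : g ∈ E ⊔ A := htop ▸ Subgroup.mem_top g
      have hle : E ⊔ A ≤ Subgroup.centralizer {(e : Q)} := sup_le
        (fun b hb => Subgroup.mem_centralizer_iff.2 fun z hz => by
          rw [Set.mem_singleton_iff.1 hz]
          exact (congrArg Subtype.val (Subgroup.mem_center_iff.1 he ⟨b, hb⟩)).symm)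
        (fun b hb => Subgroup.mem_centralizer_iff.2 fun z hz => by
          rw [Set.mem_singleton_iff.1 hz]
          exact (hcomm b (hA hb) _).symm)
      exact (Subgroup.mem_centralizer_iff.1 (hle hg) _ rfl).symm
    · intro e he
      have heC : (e : Q) ∈ C := (Subgroup.zpowers_le.2 hwC) he
      exact Subgroup.mem_center_iff.2 fun g => Subtype.ext (hcomm _ heC g).symm
  have hcommE : commutator E = Zw := by
    apply le_antisymm
    · rw [commutator_eq_closure, Subgroup.closure_le]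
      rintro _ ⟨a, b, rfl⟩
      show ((⁅a, b⁆ : E) : Q) ∈ Subgroup.zpowers w
      exact hQc a b
    · intro e he
      obtain ⟨k, hk⟩ := Subgroup.mem_zpowers_iff.1 (show (e : Q) ∈ Subgroup.zpowers w from he)
      have hw' : (⟨w, hwE⟩ : E) ∈ commutator E := by
        have : ⁅(⟨x, hxE⟩ : E), ⟨y, hyE⟩⁆ ∈ commutator E :=
          Subgroup.commutator_mem_commutator (Subgroup.mem_top _) (Subgroup.mem_top _)
        rwa [show ⁅(⟨x, hxE⟩ : E), (⟨y, hyE⟩ : E)⁆ = ⟨w, hwE⟩ from Subtype.ext hxy] at this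
      rw [show e = (⟨w, hwE⟩ : E) ^ k from Subtype.ext (by rw [Subgroup.coe_zpow]; exact hk.symm)]
      exact Subgroup.zpow_mem _ hw' k
  have hspec : Cfsg.IsExtraspecial p E := by
    refine ⟨⟨hQ.to_subgroup E, le_antisymm ?_ ?_, hcommE.trans hcenE.symm⟩, hcenE ▸ hZcard⟩
    · exact CfsgLib.Critical.frattini_le_of_elementary (p := p) _ (hcommE.trans hcenE.symm).le
        fun e => hcenE ▸ hQp e
    · rw [hcenE, ← hcommE]
      exact (CfsgLib.PSolvable.commutator_le_frattini (hQ.to_subgroup E)).1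
  -- the order of `E`
  have hcard : Nat.card E = p ^ 3 := by
    let g : Fin p × Fin p × Fin p → E := fun t =>
      ⟨x ^ (t.1 : ℕ) * y ^ (t.2.1 : ℕ) * w ^ (t.2.2 : ℕ),
        E.mul_mem (E.mul_mem (E.pow_mem hxE _) (E.pow_mem hyE _)) (E.pow_mem hwE _)⟩
    have hmod : ∀ {a : Q}, a ^ p = 1 → ∀ i : ℤ, ∃ k : Fin p, a ^ (k : ℕ) = a ^ i := by
      intro a ha i
      have hp0 : (0 : ℤ) < p := by exact_mod_cast hp.out.pos
      refine ⟨⟨(i % p).toNat, ?_⟩, ?_⟩
      · have h1 := Int.emod_lt_of_pos i hp0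
        have h2 := Int.emod_nonneg i hp0.ne'
        omega
      · show a ^ (i % p).toNat = a ^ i
        rw [← zpow_natCast, Int.toNat_of_nonneg (Int.emod_nonneg i hp0.ne')]
        conv_rhs => rw [← Int.emod_add_mul_ediv i p, zpow_add, zpow_mul, zpow_natCast, ha, one_zpow,
          mul_one]
    have hg : Function.Bijective g := by
      constructor
      · rintro ⟨i, j, k⟩ ⟨i', j', k'⟩ h
        have h' : x ^ (i : ℤ) * y ^ (j : ℤ) * w ^ (k : ℤ) =
            x ^ (i' : ℤ) * y ^ (j' : ℤ) * w ^ (k' : ℤ) := by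
          simpa only [zpow_natCast] using congrArg Subtype.val h
        set d : Q := w ^ (k : ℤ) * (w ^ (k' : ℤ))⁻¹ with hd
        have hdC : d ∈ C := C.mul_mem (C.zpow_mem hwC _) (C.inv_mem (C.zpow_mem hwC _))
        have h2 : x ^ ((i : ℤ) - i') * y ^ ((j : ℤ) - j') * 1 ∈ C := by
          have e1 : x ^ (-(i' : ℤ)) * (x ^ (i : ℤ) * y ^ (j : ℤ) * d) * y ^ (-(j' : ℤ)) = 1 := by
            rw [show x ^ (i : ℤ) * y ^ (j : ℤ) * d
              = x ^ (i : ℤ) * y ^ (j : ℤ) * w ^ (k : ℤ) * (w ^ (k' : ℤ))⁻¹ by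
                rw [hd, mul_assoc _ _ ((w ^ (k' : ℤ))⁻¹)], h']
            group
          have e2 : x ^ ((i : ℤ) - i') * y ^ ((j : ℤ) - j') * d = 1 := by
            rw [← e1, sub_eq_neg_add, zpow_add, sub_eq_add_neg, zpow_add]
            simp only [mul_assoc]
            rw [← hcomm _ hdC (y ^ (-(j' : ℤ)))]
          rw [mul_one, eq_inv_of_mul_eq_one_left e2]
          exact C.inv_mem hdC
        obtain ⟨hi, hj⟩ := hexp _ _ 1 C.one_mem h2
        have hfin : ∀ a b : Fin p, (p : ℤ) ∣ (a : ℤ) - b → a = b := by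
          intro a b hab
          have h3 : (a : ℤ) - b = 0 := by
            refine Int.eq_zero_of_dvd_of_natAbs_lt_natAbs hab ?_
            omega
          exact Fin.ext (by omega)
        obtain rfl := hfin _ _ hi
        obtain rfl := hfin _ _ hj
        have h4 : w ^ ((k : ℤ) - k') = 1 := by
          rw [zpow_sub, mul_left_cancel h', mul_inv_cancel]
        obtain rfl := hfin _ _ (dvd_of_zpow_eq_one hwp hw1 h4)
        rfl
      · intro e
        obtain ⟨i, j, k, he⟩ := hEform e e.2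
        obtain ⟨a, ha⟩ := hmod hxp i
        obtain ⟨b, hb⟩ := hmod hyp j
        obtain ⟨c, hc'⟩ := hmod hwp k
        exact ⟨(a, b, c), Subtype.ext (by show x ^ (a : ℕ) * _ * _ = _; rw [ha, hb, hc', he])⟩
    rw [← Nat.card_congr (Equiv.ofBijective g hg)]
    simp [pow_succ, mul_assoc]
  exact ⟨E, hspec, hcard, hxE, hyE, rfl, ⟨(MulEquiv.ofBijective f hf).symm⟩⟩

/-- Two noncommuting involutions generating a group of order eight. -/
theorem exists_dihedral_equiv {E : Type*} [Group E] [Finite E] (hE : Nat.card E = 8) {x y : E}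
    (hx : x * x = 1) (hy : y * y = 1) (hgen : Subgroup.closure {x, y} = ⊤)
    (h4 : (x * y) ^ 4 = 1) : Nonempty (E ≃* DihedralGroup 4) := by
  set a := x * y with ha
  let r : ZMod 4 → E := fun i => a ^ i.val
  have hr : ∀ i j, r (i + j) = r i * r j := fun i j => by
    show a ^ (i + j).val = a ^ i.val * a ^ j.val
    rw [← pow_add]
    exact pow_eq_pow_of_modEq (by rw [ZMod.val_add]; exact Nat.mod_modEq _ _) h4
  have hr0 : r 0 = 1 := pow_zero a
  have hinv : ∀ i, r (-i) = (r i)⁻¹ := fun i => by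
    apply eq_inv_of_mul_eq_one_right
    rw [← hr, add_neg_cancel, hr0]
  have hxinv : x⁻¹ = x := inv_eq_of_mul_eq_one_right hx
  have hyinv : y⁻¹ = y := inv_eq_of_mul_eq_one_right hy
  have hflip : ∀ i, r i * x = x * r (-i) := fun i => by
    rw [hinv]
    show a ^ i.val * x = x * (a ^ i.val)⁻¹
    have h1 : x * a * x⁻¹ = a⁻¹ := by
      rw [ha, mul_inv_rev, hxinv, hyinv, ← mul_assoc, hx, one_mul]
    have h2 : x * a ^ i.val * x⁻¹ = (a ^ i.val)⁻¹ := by rw [← conj_pow, h1, inv_pow]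
    rw [← h2, hxinv, ← mul_assoc, ← mul_assoc, hx, one_mul]
  let φ : DihedralGroup 4 →* E :=
    MonoidHom.mk' (fun | .r i => r i | .sr i => x * r i) fun g g' => by
      rcases g with i | i <;> rcases g' with j | j
      · rw [DihedralGroup.r_mul_r]; exact hr i j
      · rw [DihedralGroup.r_mul_sr]
        show x * r (j - i) = r i * (x * r j)
        rw [← mul_assoc, hflip, mul_assoc, ← hr, neg_add_eq_sub]
      · rw [DihedralGroup.sr_mul_r]
        show x * r (i + j) = x * r i * r j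
        rw [mul_assoc, hr]
      · rw [DihedralGroup.sr_mul_sr]
        show r (j - i) = x * r i * (x * r j)
        rw [mul_assoc, ← mul_assoc (r i), hflip, mul_assoc, ← hr, ← mul_assoc, hx, one_mul,
          neg_add_eq_sub]
  have hsurj : Function.Surjective φ := by
    rw [← MonoidHom.range_eq_top, eq_top_iff, ← hgen, Subgroup.closure_le]
    intro z hz
    rcases hz with hz | hz
    · rw [hz]; exact ⟨.sr 0, show x * r 0 = x by rw [hr0, mul_one]⟩
    · rw [Set.mem_singleton_iff.1 hz]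
      refine ⟨.sr 1, ?_⟩
      show x * r 1 = y
      rw [show r 1 = a from pow_one a, ha, ← mul_assoc, hx, one_mul]
  have hbij : Function.Bijective φ := by
    rw [Nat.bijective_iff_surjective_and_card]
    exact ⟨hsurj, by rw [DihedralGroup.nat_card, hE]⟩
  exact ⟨(MulEquiv.ofBijective φ hbij).symm⟩

end CfsgLib.Fusion.Split
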