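import Mathlib
import Cfsg.Agent.Lib.Fusion.CenterIndexSquare
import Cfsg.Agent.Lib.Fusion.SmallMaps
import Cfsg.Agent.Lib.Fusion.SplitExtraspecial
import Cfsg.Agent.Lib.OddOmega.Basic
import Cfsg.Agent.Lib.Critical.Basic
import Cfsg.Agent.Lib.PSolvable.Omega

/-!
Core-free reduced systems over `p`-groups with centre of index at most `p²` live on
`p₊^{1+2}` or `D₈`.
-/

set_option autoImplicit false

namespace CfsgLib.Fusion.CenterSq

open Cfsg Cfsg.FusionSystem
open scoped commutatorElement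

variable {Ω : Type*} [Group Ω] {S : Subgroup Ω} [Finite S] {p : ℕ} [hp : Fact p.Prime]
  {F : FusionSystem S} {c : Ω}

omit hp [Finite S] in
theorem mapsTo_center {f : Ω → Ω} (hf : IsIso F S S f) {z : Ω} (hz : z ∈ centralizerIn S S) :
    f z ∈ centralizerIn S S := by
  refine ⟨hf.mem hz.1, Subgroup.mem_centralizer_iff.2 fun g hg => ?_⟩
  obtain ⟨x, hx, rfl⟩ := hf.surj hg
  rw [← hf.isMap.map_mul hx hz.1, ← hf.isMap.map_mul hz.1 hx,
    Subgroup.mem_centralizer_iff.1 hz.2 x hx]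

omit hp [Finite S] in
theorem map_gen_mem (h : Setup S p c) {f : Ω → Ω} (hf : IsIso F S S f) :
    f c ∈ Subgroup.zpowers c := by
  obtain ⟨x, hx, y, hy, rfl⟩ := h.isComm
  have he : f ⁅x, y⁆ = ⁅f x, f y⁆ := by
    rw [commutatorElement_def, commutatorElement_def,
      hf.isMap.map_mul (S.mul_mem (S.mul_mem hx hy) (S.inv_mem hx)) (S.inv_mem hy),
      hf.isMap.map_mul (S.mul_mem hx hy) (S.inv_mem hx), hf.isMap.map_mul hx hy,
      hf.isMap.map_inv hx, hf.isMap.map_inv hy]
  rw [he]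
  exact h.comm_mem _ (hf.mem hx) _ (hf.mem hy)

omit hp [Finite S] in
theorem mapsTo_derived (h : Setup S p c) {f : Ω → Ω} (hf : IsIso F S S f) {z : Ω}
    (hz : z ∈ Subgroup.zpowers c) : f z ∈ Subgroup.zpowers c := by
  obtain ⟨k, rfl⟩ := Subgroup.mem_zpowers_iff.1 hz
  rw [hf.isMap.map_zpow h.c_mem.1]
  exact Subgroup.zpow_mem _ (map_gen_mem h hf) k

/-- A `p'`-power of an automorphism of `S` is inner. -/
theorem exists_pow_inner (h : Setup S p c) (hF : F.IsSaturated p) (α : MulAut S)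
    (hα : α ∈ F.autGroup S) :
    ∃ m : ℕ, ¬ p ∣ m ∧ α ^ m ∈ autInducedBy S S := by
  have := finite_mulAut S
  obtain ⟨-, R, hR⟩ := isFullyAutomized_of_isFullyNormalized (p := p) (F := F) h.pgroup hF
    (h.isFullyNormalized (E := S) inf_le_left le_rfl)
  have hn : ((autInducedBy S S).subgroupOf (F.autGroup S)).Normal := by
    rw [← inn_eq_autInducedBy]
    exact inn_subgroupOf_normal F S
  refine ⟨((autInducedBy S S).subgroupOf (F.autGroup S)).index, hR ▸ R.not_dvd_index, ?_⟩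
  have := Subgroup.pow_index_mem ((autInducedBy S S).subgroupOf (F.autGroup S))
    (⟨α, hα⟩ : F.autGroup S)
  rw [Subgroup.mem_subgroupOf, SubgroupClass.coe_pow] at this
  exact this

omit hp [Finite S] in
theorem inner_fix_center {α : MulAut S} (hα : α ∈ autInducedBy S S) {z : S}
    (hz : (z : Ω) ∈ centralizerIn S S) : α z = z := by
  obtain ⟨g, hg, hv⟩ := (mem_autInducedBy_iff S S α).1 hα
  refine Subtype.ext ?_
  rw [hv, Subgroup.mem_centralizer_iff.1 hz.2 g hg, mul_inv_cancel_right]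

/-- An automorphism unipotent on the centre fixes it. -/
theorem fix_center_of_unipotent (h : Setup S p c) (hF : F.IsSaturated p) {α : MulAut S}
    (hα : α ∈ F.autGroup S) (hd : ∀ z : S, (z : Ω) ∈ centralizerIn S S →
      (z : Ω)⁻¹ * (α z : Ω) ∈ Subgroup.zpowers c)
    (hc : α ⟨c, h.c_mem.1⟩ = ⟨c, h.c_mem.1⟩) :
    ∀ z : S, (z : Ω) ∈ centralizerIn S S → α z = z := by
  intro z hz
  obtain ⟨m, hm, hin⟩ := exists_pow_inner h hF α hα
  obtain ⟨k, hk⟩ := Subgroup.mem_zpowers_iff.1 (hd z hz)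
  have hdz : z⁻¹ * α z = (⟨c, h.c_mem.1⟩ : S) ^ k := Subtype.ext (by simpa using hk.symm)
  have hfix : α (z⁻¹ * α z) = z⁻¹ * α z := by rw [hdz, map_zpow, hc]
  have h1 := inner_fix_center hin hz
  rw [pow_apply_of_fixed hfix, mul_eq_left] at h1
  have h2 : (z⁻¹ * α z) ^ p = 1 := by
    rw [hdz, ← zpow_natCast, ← zpow_mul, mul_comm, zpow_mul, zpow_natCast,
      show (⟨c, h.c_mem.1⟩ : S) ^ p = 1 from Subtype.ext h.pow, one_zpow]
  have := Nat.eq_one_of_dvd_coprimes (hp.out.coprime_iff_not_dvd.2 hm)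
    (orderOf_dvd_of_pow_eq_one h2) (orderOf_dvd_of_pow_eq_one h1)
  exact (inv_mul_eq_one.1 (orderOf_eq_one_iff.1 this)).symm

theorem bad_image (h : Setup S p c) {f : Ω → Ω} (hf : IsIso F S S f) {E : Subgroup Ω}
    (hE : Bad F c E) : ∃ E', IsIso F E E' f ∧ Bad F c E' := by
  obtain ⟨h1, h2, g, hg, hgc⟩ := hE
  obtain ⟨E', hE'⟩ := (hf.isMap.mono h2.le).exists_iso
  obtain ⟨f', hf', hl, hr⟩ := hE'.exists_symm
  have hcE : c ∈ E := h1.le h.c_mem
  have := finite_of_le h2.le
  have := finite_of_le hE'.le_right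
  refine ⟨E', hE', ?_, ?_, f ∘ g ∘ f', (hf'.comp hg).comp hE', ?_⟩
  · refine lt_of_le_of_ne (fun z hz => ?_) fun e => ?_
    · obtain ⟨x, hx, rfl⟩ := hf.surj (show z ∈ S from hz.1)
      refine hE'.mem (h1.le ⟨hx, Subgroup.mem_centralizer_iff.2 fun s hs => ?_⟩)
      refine hf.isMap.injOn (S.mul_mem hs hx) (S.mul_mem hx hs) ?_
      rw [hf.isMap.map_mul hs hx, hf.isMap.map_mul hx hs]
      exact Subgroup.mem_centralizer_iff.1 hz.2 _ (hf.mem hs)
    · have := hE'.card_eq
      rw [← e, h.card_eq_of_between h1 h2] at this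
      have hpos : 0 < Nat.card (centralizerIn S S) :=
        have := finite_of_le (S := S) (P := centralizerIn S S) inf_le_left; Nat.card_pos
      exact absurd this.symm (Nat.ne_of_gt (lt_mul_of_one_lt_left hpos hp.out.one_lt))
  · refine lt_of_le_of_ne hE'.le_right fun e => ?_
    have := hE'.card_eq
    rw [e] at this
    exact h2.ne (Subgroup.eq_of_le_of_card_ge h2.le this.le)
  · -- `f` preserves `⟨c⟩`
    have hfc : ∀ {u : Ω}, u ∈ S → f u ∈ Subgroup.zpowers c → u ∈ Subgroup.zpowers c := by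
      intro u hu hfu
      haveI : Finite (Subgroup.zpowers c) := finite_of_le (h.zpowers_le.trans inf_le_left)
      obtain ⟨⟨w, hw⟩, hwe⟩ := ((Finite.injective_iff_surjective
        (f := fun y : Subgroup.zpowers c => (⟨f y, mapsTo_derived h hf y.2⟩ : Subgroup.zpowers c))).1
          fun y y' e => Subtype.ext (hf.isMap.injOn ((h.zpowers_le.trans inf_le_left) y.2)
            ((h.zpowers_le.trans inf_le_left) y'.2) (congrArg Subtype.val e))) ⟨f u, hfu⟩
      exact hf.isMap.injOn ((h.zpowers_le.trans inf_le_left) hw) hu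
        (congrArg Subtype.val hwe) ▸ hw
    have hcE' : c ∈ E' := by
      obtain ⟨x, hx, hxc⟩ := hf.surj (show c ∈ S from h.c_mem.1)
      have : x ∈ Subgroup.zpowers c := hfc hx (hxc ▸ Subgroup.mem_zpowers c)
      exact hxc ▸ hE'.mem (Subgroup.zpowers_le.2 hcE this)
    have hf'c : f' c ∈ Subgroup.zpowers c :=
      hfc (h2.le (hf'.mem hcE')) (by rw [hr c hcE']; exact Subgroup.mem_zpowers c)
    intro hbad
    have h3 := hfc (h2.le (hg.mem (hf'.mem hcE'))) hbad
    obtain ⟨k, hk⟩ := Subgroup.mem_zpowers_iff.1 hf'c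
    rw [← hk, hg.isMap.map_zpow hcE] at h3
    refine hgc ?_
    have hck : c ^ k ≠ 1 := fun e => h.ne (by
      rw [← hr c hcE', ← hk, e]; exact hf.isMap.map_one)
    have hgord : g c ^ p = 1 := by
      rw [← zpow_natCast, ← hg.isMap.map_zpow hcE, zpow_natCast, h.pow, hg.isMap.map_one]
    have hpk : ¬ (p : ℤ) ∣ k := fun hd => hck (by
      obtain ⟨q, rfl⟩ := hd
      rw [zpow_mul, zpow_natCast, h.pow, one_zpow])
    obtain ⟨a, b, hab⟩ := (Nat.prime_iff_prime_int.mp hp.out).coprime_iff_not_dvd.2 hpk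
    rw [← zpow_one (g c), ← hab, zpow_add, mul_comm a, mul_comm b, zpow_mul, zpow_mul,
      zpow_natCast, hgord, one_zpow, one_mul]
    exact Subgroup.zpow_mem _ h3 b

/-- A subgroup of the centre invariant under `Aut(S)` and inside the fixed part of every bad
subgroup is trivial in a core-free system. -/
theorem eq_bot_of_invariant (h : Setup S p c) (hF : F.IsSaturated p) (hcore : F.core = ⊥)
    {W : Subgroup Ω} (hW : W ≤ centralizerIn S S)
    (hinv : ∀ f, IsIso F S S f → ∀ w ∈ W, f w ∈ W)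
    (hfix : ∀ E, Bad F c E → ∃ C v, Split F p c E C v ∧ W ≤ C) : W = ⊥ := by
  refine le_bot_iff.1 (le_trans (le_sSup ?_) hcore.le)
  refine isNormal_of_generators h.pgroup hF (hW.trans inf_le_left) fun P hP => ?_
  rcases hP with rfl | hess
  · exact ⟨hW.trans inf_le_left, fun α hα x hx => hinv _ ((mem_autGroup_iff le_rfl α).1 hα) x hx⟩
  have hB := bad_of_isEssential h hF hess
  obtain ⟨C, v, hs, hWC⟩ := hfix P hB
  refine ⟨hW.trans hB.1.le, fun α hα x hx => ?_⟩
  obtain ⟨g, hgC, -, f, hf, hv⟩ := hs.factor α hα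
  have hxP : x ∈ P := hB.1.le (hW hx)
  have hfx := hinv f hf x hx
  have h1 := hv ⟨x, hxP⟩
  have h2 : g ⟨f x, hB.1.le (hW hfx)⟩ = ⟨f x, hB.1.le (hW hfx)⟩ := hgC _ (hWC hfx)
  have h3 : α ⟨x, hxP⟩ = ⟨f x, hB.1.le (hW hfx)⟩ :=
    g.injective ((Subtype.ext h1).trans h2.symm)
  rw [autFun_apply α hxP, h3]
  exact hfx

theorem exists_two_bad (h : Setup S p c) (hF : F.IsSaturated p) (hcore : F.core = ⊥) :
    ∃ E₁ E₂, Bad F c E₁ ∧ Bad F c E₂ ∧ E₁ ≠ E₂ := by
  have hcS : c ∈ S := h.c_mem.1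
  by_cases hex : ∃ E, Bad F c E
  · obtain ⟨E, hE⟩ := hex
    by_contra hcon
    push Not at hcon
    have hall : ∀ E', Bad F c E' → E' = E := fun E' hE' => (hcon E E' hE hE').symm
    have hn : F.IsNormal E := by
      refine isNormal_of_generators h.pgroup hF hE.2.1.le fun P hP => ?_
      rcases hP with rfl | hess
      · refine ⟨hE.2.1.le, fun α hα x hx => ?_⟩
        obtain ⟨E', hE', hb⟩ := bad_image h ((mem_autGroup_iff le_rfl α).1 hα) hE
        rw [hall E' hb] at hE'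
        exact hE'.mem hx
      · obtain rfl := hall P (bad_of_isEssential h hF hess)
        exact ⟨le_rfl, fun α _ x hx => autFun_mem α hx⟩
    have hle : E ≤ F.core := le_sSup hn
    rw [hcore] at hle
    exact h.ne (Subgroup.mem_bot.1 (hle (hE.1.le h.c_mem)))
  · exfalso
    push Not at hex
    have hn : F.IsNormal S := by
      refine isNormal_of_generators h.pgroup hF le_rfl fun P hP => ?_
      rcases hP with rfl | hess
      · exact ⟨le_rfl, fun α _ x hx => autFun_mem α hx⟩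
      · exact absurd (bad_of_isEssential h hF hess) (hex P)
    have hle : S ≤ F.core := le_sSup hn
    rw [hcore] at hle
    exact h.ne (Subgroup.mem_bot.1 (hle hcS))

theorem isExtraspecial_of_setup (h : Setup S p c) (hcard : Nat.card (centralizerIn S S) = p) :
    Cfsg.IsExtraspecial p S ∧ Nat.card S = p ^ 3 := by
  have hc : Nat.card (Subgroup.center S) = p := by
    rw [← Subgroup.card_map_of_injective S.subtype_injective, center_map_eq, hcard]
  have hcm : commutator S = Subgroup.center S := by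
    have hle : commutator S ≤ Subgroup.center S := by
      rw [commutator_def, Subgroup.commutator_le]
      intro x _ y _
      have h1 := h.zpowers_le (h.comm_mem x x.2 y y.2)
      exact Subgroup.mem_center_iff.2 fun g => Subtype.ext
        (Subgroup.mem_centralizer_iff.1 h1.2 g g.2)
    refine Subgroup.eq_of_le_of_card_ge hle ?_
    rw [hc]
    obtain ⟨x, hx, y, hy, hxy⟩ := h.isComm
    have hmem : ⁅(⟨x, hx⟩ : S), ⟨y, hy⟩⁆ ∈ commutator S := by
      rw [commutator_def]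
      exact Subgroup.commutator_mem_commutator (Subgroup.mem_top _) (Subgroup.mem_top _)
    have hord : orderOf (⟨⁅(⟨x, hx⟩ : S), ⟨y, hy⟩⁆, hmem⟩ : commutator S) = p := by
      rw [Subgroup.orderOf_mk, ← Subgroup.orderOf_coe,
        show ((⁅(⟨x, hx⟩ : S), ⟨y, hy⟩⁆ : S) : Ω) = c from
          (map_commutatorElement S.subtype _ _).trans hxy]
      exact orderOf_eq_prime h.pow h.ne
    exact hord ▸ orderOf_le_card
  refine ⟨⟨⟨h.pgroup, le_antisymm ?_ ?_, hcm⟩, hc⟩, by rw [h.card, hcard]; ring⟩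
  · refine CfsgLib.Critical.frattini_le_of_elementary (p := p) _ hcm.le fun x => ?_
    have hq : Nat.card (S ⧸ Subgroup.center S) = p ^ 2 := by
      have h1 := Subgroup.card_eq_card_quotient_mul_card_subgroup (Subgroup.center S)
      rw [hc, h.card, hcard] at h1
      exact (Nat.eq_of_mul_eq_mul_right hp.out.pos h1).symm
    obtain ⟨k, hk, hku⟩ := (Nat.dvd_prime_pow hp.out).1
      (hq ▸ orderOf_dvd_natCard (x : S ⧸ Subgroup.center S))
    have hk2 : k ≠ 2 := by
      rintro rfl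
      obtain ⟨a, ha, b, hb, hab⟩ := h.isComm
      haveI := isCyclic_of_orderOf_eq_card (x : S ⧸ Subgroup.center S) (hku.trans hq.symm)
      refine h.ne (hab ▸ commutatorElement_eq_one_iff_mul_comm.2 (congrArg Subtype.val
        (commutative_of_cyclic_center_quotient (QuotientGroup.mk' (Subgroup.center S))
          (by rw [QuotientGroup.ker_mk']) (⟨a, ha⟩ : S) ⟨b, hb⟩)))
    refine (QuotientGroup.eq_one_iff _).1 ?_
    rw [QuotientGroup.mk_pow]
    exact orderOf_dvd_iff_pow_eq_one.1 (hku ▸ (pow_dvd_pow p (show k ≤ 1 by omega)).trans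
      (pow_one p).dvd)
  · rw [← hcm]
    exact (CfsgLib.PSolvable.commutator_le_frattini (p := p) h.pgroup).1

theorem main_odd (h : Setup S p c) (hF : F.IsSaturated p) (hcore : F.core = ⊥) (hp2 : p ≠ 2) :
    Nat.card (centralizerIn S S) = p ∧ Monoid.exponent S = p := by
  obtain ⟨E₁, E₂, hE₁, hE₂, hne⟩ := exists_two_bad h hF hcore
  obtain ⟨C₁, v₁, hs₁⟩ := exists_split h hF hE₁
  obtain ⟨C₂, v₂, hs₂⟩ := exists_split h hF hE₂
  have hodd : ∀ y ∈ Subgroup.zpowers c, y * y = 1 → y = 1 := fun y hy h2 => by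
    obtain ⟨k, rfl⟩ := Subgroup.mem_zpowers_iff.1 hy
    rw [← orderOf_eq_one_iff]
    refine Nat.eq_one_of_dvd_coprimes ((Nat.coprime_primes hp.out Nat.prime_two).2 hp2)
      (orderOf_dvd_of_pow_eq_one ?_) (orderOf_dvd_of_pow_eq_one (by rw [pow_two]; exact h2))
    rw [← zpow_natCast, ← zpow_mul, mul_comm, zpow_mul, zpow_natCast, h.pow, one_zpow]
  -- the inverting automorphism attached to a bad subgroup
  have key : ∀ {E C v}, Split F p c E C v → ∃ a ∈ F.autGroup S,
      (∀ z : S, (z : Ω) ∈ centralizerIn S S →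
        (z : Ω)⁻¹ * (a z : Ω) ∈ Subgroup.zpowers c) ∧
      a ⟨c, h.c_mem.1⟩ = ⟨c, h.c_mem.1⟩⁻¹ ∧
      ∀ z : S, (z : Ω) ∈ centralizerIn S S → (a z = z ↔ (z : Ω) ∈ C) := by
    intro E C v hs
    obtain ⟨f, hf, hfC, hfY⟩ := hs.invert
    obtain ⟨a, ha, hav⟩ := exists_mem_autGroup hf
    have hdec : ∀ z : S, (z : Ω) ∈ centralizerIn S S → ∃ u ∈ C, ∃ y ∈ Subgroup.zpowers c,
        (z : Ω) = u * y ∧ (a z : Ω) = u * y⁻¹ := by
      intro z hz
      rw [← hs.sup, ← SetLike.mem_coe,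
        Subgroup.coe_mul_of_right_le_normalizer_left C (Subgroup.zpowers c) fun y hy =>
          Subgroup.centralizer_le_normalizer _ (Subgroup.mem_centralizer_iff.2 fun u hu =>
            Subgroup.mem_centralizer_iff.1 (h.zpowers_le hy).2 u (hs.le hu).1)] at hz
      obtain ⟨u, hu, y, hy, he⟩ := hz
      refine ⟨u, hu, y, hy, he.symm, ?_⟩
      rw [hav, ← he, hf.isMap.map_mul (hs.le hu).1 (h.zpowers_le hy).1, hfC u hu, hfY y hy]
    refine ⟨a, ha, fun z hz => ?_, ?_, fun z hz => ?_⟩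
    · obtain ⟨u, hu, y, hy, he, hae⟩ := hdec z hz
      rw [hae, he, mul_inv_rev, mul_assoc, inv_mul_cancel_left]
      exact Subgroup.mul_mem _ (Subgroup.inv_mem _ hy) (Subgroup.inv_mem _ hy)
    · exact Subtype.ext (by rw [hav]; exact hfY c (Subgroup.mem_zpowers c))
    · obtain ⟨u, hu, y, hy, he, hae⟩ := hdec z hz
      refine ⟨fun e => ?_, fun hzC => Subtype.ext (by rw [hav]; exact hfC z hzC)⟩
      rw [e, he] at hae
      have := hodd y hy (eq_inv_iff_mul_eq_one.1 (mul_left_cancel hae))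
      rw [he, this, mul_one]
      exact hu
  obtain ⟨a₁, ha₁, hd₁, hc₁, hf₁⟩ := key hs₁
  have hcomp : ∀ {a b : MulAut S},
      (∀ z : S, (z : Ω) ∈ centralizerIn S S → (z : Ω)⁻¹ * (a z : Ω) ∈ Subgroup.zpowers c) →
      (∀ z : S, (z : Ω) ∈ centralizerIn S S → (z : Ω)⁻¹ * (b z : Ω) ∈ Subgroup.zpowers c) →
      ∀ z : S, (z : Ω) ∈ centralizerIn S S →
        (z : Ω)⁻¹ * ((a * b) z : Ω) ∈ Subgroup.zpowers c := by
    intro a b ha hb z hz
    have hbz : (b z : Ω) ∈ centralizerIn S S := by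
      have := Subgroup.mul_mem _ hz (h.zpowers_le (hb z hz))
      rwa [mul_inv_cancel_left] at this
    have := Subgroup.mul_mem _ (hb z hz) (ha (b z) hbz)
    rwa [mul_assoc, mul_inv_cancel_left] at this
  have hC : ∀ {E}, Bad F c E → ∃ C v, Split F p c E C v ∧ C₁ ≤ C := by
    intro E hE
    obtain ⟨C, v, hs⟩ := exists_split h hF hE
    obtain ⟨a, ha, hd, hc, hf⟩ := key hs
    refine ⟨C, v, hs, fun w hw => ?_⟩
    have hwZ := hs₁.le hw
    have h1 := fix_center_of_unipotent h hF ((F.autGroup S).mul_mem ha ha₁) (hcomp hd hd₁)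
      (by rw [MulAut.mul_apply, hc₁, map_inv, hc, inv_inv]) ⟨w, hwZ.1⟩ hwZ
    rw [MulAut.mul_apply, (hf₁ ⟨w, hwZ.1⟩ hwZ).2 hw] at h1
    exact (hf ⟨w, hwZ.1⟩ hwZ).1 h1
  have hinv : ∀ f, IsIso F S S f → ∀ w ∈ C₁, f w ∈ C₁ := by
    intro f hf w hw
    obtain ⟨b, hb, hbv⟩ := exists_mem_autGroup hf
    have hwZ := hs₁.le hw
    set w' : S := ⟨w, hwZ.1⟩
    -- `b⁻¹ a₁ b a₁` is unipotent on the centre
    have hbZ : ∀ z : S, (z : Ω) ∈ centralizerIn S S → (b z : Ω) ∈ centralizerIn S S :=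
      fun z hz => by rw [hbv]; exact mapsTo_center hf hz
    have hd' : ∀ z : S, (z : Ω) ∈ centralizerIn S S →
        (z : Ω)⁻¹ * ((b⁻¹ * a₁ * b) z : Ω) ∈ Subgroup.zpowers c := by
      intro z hz
      have h1 := hd₁ (b z) (hbZ z hz)
      obtain ⟨g, hg⟩ : ∃ g, IsIso F S S g ∧ ∀ u : S, ((b⁻¹ u : S) : Ω) = g u :=
        ⟨autFun b⁻¹, (mem_autGroup_iff le_rfl _).1 ((F.autGroup S).inv_mem hb),
          fun u => (autFun_coe _ u).symm⟩
      have h2 := mapsTo_derived h hg.1 h1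
      have h3 : ((b⁻¹ ((b z)⁻¹ * a₁ (b z)) : S) : Ω) ∈ Subgroup.zpowers c := by
        rw [hg.2]; exact h2
      rw [map_mul, map_inv, MulAut.inv_apply_self] at h3
      exact h3
    have hc' : ((b⁻¹ * a₁ * b) * a₁) ⟨c, h.c_mem.1⟩ = ⟨c, h.c_mem.1⟩ := by
      obtain ⟨k, hk⟩ := Subgroup.mem_zpowers_iff.1 (map_gen_mem h hf)
      have hbc : b ⟨c, h.c_mem.1⟩ = (⟨c, h.c_mem.1⟩ : S) ^ k :=
        Subtype.ext (by rw [hbv]; simpa using hk.symm)
      rw [MulAut.mul_apply, hc₁, map_inv, MulAut.mul_apply, MulAut.mul_apply, hbc, map_zpow,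
        hc₁, inv_zpow, map_inv, inv_inv, ← hbc, MulAut.inv_apply_self]
    have h1 := fix_center_of_unipotent h hF
      ((F.autGroup S).mul_mem ((F.autGroup S).mul_mem ((F.autGroup S).mul_mem
        ((F.autGroup S).inv_mem hb) ha₁) hb) ha₁) (hcomp hd' hd₁) hc' w' hwZ
    rw [MulAut.mul_apply, (hf₁ w' hwZ).2 hw, MulAut.mul_apply, MulAut.mul_apply] at h1
    have h2 : a₁ (b w') = b w' := by
      conv_rhs => rw [← h1]
      rw [MulAut.apply_inv_self]
    rw [← hbv w']
    exact (hf₁ _ (hbZ w' hwZ)).1 h2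
  have hbot : C₁ = ⊥ := eq_bot_of_invariant h hF hcore hs₁.le hinv fun E hE => hC hE
  have hZ : centralizerIn S S = Subgroup.zpowers c := by rw [← hs₁.sup, hbot, bot_sup_eq]
  have hcard : Nat.card (centralizerIn S S) = p := by rw [hZ, h.card_zpowers]
  refine ⟨hcard, ?_⟩
  -- exponent
  let K : Subgroup Ω :=
    { carrier := {x | x ∈ S ∧ x ^ p = 1}
      one_mem' := ⟨S.one_mem, one_pow p⟩
      mul_mem' := by
        rintro x y ⟨hx, hxp⟩ ⟨hy, hyp⟩
        refine ⟨S.mul_mem hx hy, ?_⟩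
        have hcc : (⁅(⟨y, hy⟩ : S), ⟨x, hx⟩⁆ : S) ∈ Subgroup.center S := by
          refine Subgroup.mem_center_iff.2 fun g => Subtype.ext ?_
          have h2 := h.zpowers_le (h.comm_mem y hy x hx)
          rw [Subgroup.coe_mul, Subgroup.coe_mul,
            show ((⁅(⟨y, hy⟩ : S), ⟨x, hx⟩⁆ : S) : Ω) = ⁅y, x⁆ from
              map_commutatorElement S.subtype _ _]
          exact Subgroup.mem_centralizer_iff.1 h2.2 g g.2
        have h3 := CfsgLib.OddOmega.mul_pow_of_central (⟨x, hx⟩ : S) ⟨y, hy⟩ _ hcc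
          (by rw [commutatorElement_def]; group) p
        obtain ⟨q, hq⟩ : p ∣ p.choose 2 := hp.out.dvd_choose_self two_ne_zero
          (lt_of_le_of_ne hp.out.two_le (Ne.symm hp2))
        have h4 := congrArg Subtype.val h3
        simp only [SubgroupClass.coe_pow, Subgroup.coe_mul] at h4
        rw [h4, hxp, hyp, mul_one, mul_one, hq, pow_mul,
          show ((⁅(⟨y, hy⟩ : S), ⟨x, hx⟩⁆ : S) : Ω) = ⁅y, x⁆ from
            map_commutatorElement S.subtype _ _]
        obtain ⟨k, hk⟩ := Subgroup.mem_zpowers_iff.1 (h.comm_mem y hy x hx)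
        rw [← hk, ← zpow_natCast (c ^ k), ← zpow_mul, mul_comm, zpow_mul, zpow_natCast, h.pow,
          one_zpow, one_pow]
      inv_mem' := fun {x} hx => ⟨S.inv_mem hx.1, by rw [inv_pow, hx.2, inv_one]⟩ }
  have hbad : ∀ {E C v}, Bad F c E → Split F p c E C v →
      E ≤ centralizerIn S S ⊔ Subgroup.zpowers v := fun {E C v} hE hs =>
    (h.eq_of_le (left_lt_sup.2 fun hle => hs.notMem (hle (Subgroup.mem_zpowers v)))
      (sup_le hE.1.le (Subgroup.zpowers_le.2 hs.mem)) hE.2.1).ge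
  have hle : S ≤ K := by
    rw [← h.sup_eq hE₁.1 hE₁.2.1 hE₂.1 hE₂.2.1 hne]
    refine sup_le ((hbad hE₁ hs₁).trans ?_) ((hbad hE₂ hs₂).trans ?_) <;>
      refine sup_le (hZ.le.trans (Subgroup.zpowers_le.2 ⟨h.c_mem.1, h.pow⟩))
        (Subgroup.zpowers_le.2 ⟨?_, ?_⟩)
    · exact hE₁.2.1.le hs₁.mem
    · exact hs₁.pow
    · exact hE₂.2.1.le hs₂.mem
    · exact hs₂.pow
  refine ((Nat.dvd_prime hp.out).1 (Monoid.exponent_dvd_of_forall_pow_eq_one fun x =>
    Subtype.ext (hle x.2).2)).resolve_left fun e => h.ne ?_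
  have hc1 := Monoid.pow_exponent_eq_one (⟨c, h.c_mem.1⟩ : S)
  rw [e, pow_one] at hc1
  exact congrArg Subtype.val hc1

omit hp [Finite S] in
/-- The maps moving elements only within `R ≥ S'`. -/
def modSystem (F : FusionSystem S) (R : Subgroup Ω) (hR : ∀ x ∈ S, ∀ g ∈ S, ⁅x, g⁆ ∈ R) :
    FusionSystem S where
  Hom P := {φ | φ ∈ F.Hom P ∧ ∀ x : P, (x : Ω)⁻¹ * φ x ∈ R}
  le_of_mem h := F.le_of_mem h.1
  injective_of_mem h := F.injective_of_mem h.1
  conj_mem := fun {P g} hP hg => ⟨F.conj_mem hP hg, fun x => by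
    show (x : Ω)⁻¹ * (g * (x : Ω) * g⁻¹) ∈ R
    have := hR (x : Ω)⁻¹ (S.inv_mem (hP x.2)) g hg
    rw [commutatorElement_def, inv_inv] at this
    convert this using 1
    group⟩
  comp_mem := by
    rintro P Q φ ψ ⟨hφ, hφR⟩ ⟨hψ, hψR⟩ hmem
    refine ⟨F.comp_mem hφ hψ hmem, fun x => ?_⟩
    have := R.mul_mem (hφR x) (hψR ⟨φ x, hmem x⟩)
    rwa [mul_assoc, mul_inv_cancel_left] at this
  inv_mem := by
    rintro P φ ⟨hφ, hφR⟩
    obtain ⟨ψ, hψ, hψv⟩ := F.inv_mem hφ
    refine ⟨ψ, ⟨hψ, ?_⟩, hψv⟩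
    rintro ⟨_, x, rfl⟩
    rw [hψv]
    have := R.inv_mem (hφR x)
    rwa [mul_inv_rev, inv_inv] at this

theorem main_two (h : Setup S 2 c) (hF : F.IsSaturated 2) (hcore : F.core = ⊥)
    (hhyp : F.hyperfocalSubgroup 2 = S) :
    Nat.card (centralizerIn S S) = 2 ∧ Nonempty (S ≃* DihedralGroup 4) := by
  obtain ⟨E₁, E₂, hE₁, hE₂, hne⟩ := exists_two_bad h hF hcore
  obtain ⟨C₁, v₁, hs₁⟩ := exists_split h hF hE₁
  obtain ⟨C₂, v₂, hs₂⟩ := exists_split h hF hE₂
  have hsq : ∀ {E C v}, Split F 2 c E C v → v * v = 1 := fun {E C v} hs => by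
    rw [← pow_two]; exact hs.pow
  have hZsub : ∀ {z}, z ∈ centralizerIn S S → ∀ s ∈ S, s * z = z * s := fun {z} hz s hs =>
    Subgroup.mem_centralizer_iff.1 hz.2 s hs
  have hgenE : ∀ {E C v}, Bad F c E → Split F 2 c E C v →
      centralizerIn S S ⊔ Subgroup.zpowers v = E := fun {E C v} hE hs =>
    h.eq_of_le (left_lt_sup.2 fun hle => hs.notMem (hle (Subgroup.mem_zpowers v)))
      (sup_le hE.1.le (Subgroup.zpowers_le.2 hs.mem)) hE.2.1
  have hcoset : ∀ {E C v}, Bad F c E → Split F 2 c E C v → ∀ x ∈ E, x ∉ centralizerIn S S →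
      x * v ∈ centralizerIn S S := by
    intro E C v hE hs x hx hxZ
    rw [← hgenE hE hs, ← SetLike.mem_coe,
      Subgroup.coe_mul_of_right_le_normalizer_left (centralizerIn S S) (Subgroup.zpowers v)
        fun y hy => Subgroup.centralizer_le_normalizer _ (Subgroup.mem_centralizer_iff.2 fun u hu =>
          (hZsub hu y (hE.2.1.le (Subgroup.zpowers_le.2 hs.mem hy))).symm)] at hx
    obtain ⟨z, hz, w, hw, rfl⟩ := hx
    obtain ⟨k, rfl⟩ := Subgroup.mem_zpowers_iff.1 hw
    have hv2 : v ^ (2 : ℤ) = 1 := by rw [← hs.pow]; exact zpow_natCast v 2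
    rcases Int.even_or_odd' k with ⟨j, rfl | rfl⟩
    · exfalso
      rw [zpow_mul, hv2, one_zpow] at hxZ
      exact hxZ (by simpa using hz)
    · show z * v ^ (2 * j + 1) * v ∈ _
      rw [mul_assoc, ← zpow_add_one, show 2 * j + 1 + 1 = 2 * (j + 1) by ring, zpow_mul, hv2,
        one_zpow, mul_one]
      exact hz
  have hnc : ∀ {E E' C C' v v'}, Bad F c E → Bad F c E' → Split F 2 c E C v →
      Split F 2 c E' C' v' → E ≠ E' → v * v' ≠ v' * v := by
    intro E E' C C' v v' hE hE' hs hs' hEE hcom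
    have hv'E : v' ∉ E := fun hm => hEE ((h.eq_of_le hE'.1
      ((hgenE hE' hs').ge.trans (sup_le hE.1.le (Subgroup.zpowers_le.2 hm))) hE.2.1)).symm
    exact hs.notMem (h.centralizer_inf hE.1 hE.2.1 (hE'.2.1.le hs'.mem) hv'E hs.mem hcom.symm)
  -- at most two bad subgroups
  have htwo : ∀ E, Bad F c E → E = E₁ ∨ E = E₂ := by
    intro E hE
    by_contra hcon
    push Not at hcon
    obtain ⟨C, v, hs⟩ := exists_split h hF hE
    have hv₁ : v₁ ∈ S := hE₁.2.1.le hs₁.mem
    have hv₂ : v₂ ∈ S := hE₂.2.1.le hs₂.mem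
    have hvS : v ∈ S := hE.2.1.le hs.mem
    obtain ⟨k, hk⟩ := Subgroup.mem_zpowers_iff.1 (h.comm_mem v₁ hv₁ v₂ hv₂)
    have hcc : v₁ * v₂ * (v₁ * v₂) = c := by
      have h1 : ⁅v₁, v₂⁆ = v₁ * v₂ * (v₁ * v₂) := by
        rw [commutatorElement_def, inv_eq_of_mul_eq_one_right (hsq hs₁),
          inv_eq_of_mul_eq_one_right (hsq hs₂), mul_assoc]
      have hc2 : c ^ (2 : ℤ) = 1 := by rw [← h.pow]; exact zpow_natCast c 2
      rw [← h1, ← hk]
      rcases Int.even_or_odd' k with ⟨j, rfl | rfl⟩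
      · exfalso
        rw [zpow_mul, hc2, one_zpow] at hk
        exact hnc hE₁ hE₂ hs₁ hs₂ hne (commutatorElement_eq_one_iff_mul_comm.1 hk.symm)
      · rw [zpow_add, zpow_mul, hc2, one_zpow, one_mul, zpow_one]
    -- `v` lies in the coset of `v₁ * v₂`
    have hz : v * (v₁ * v₂) ∈ centralizerIn S S := by
      have hsup := h.sup_eq hE₁.1 hE₁.2.1 hE₂.1 hE₂.2.1 hne
      have hv : v ∈ E₁ ⊔ E₂ := hsup.symm ▸ hvS
      rw [← SetLike.mem_coe, Subgroup.coe_mul_of_right_le_normalizer_left E₁ E₂ fun g hg =>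
        mem_normalizer_of_conj_mem hE₁.2.1.le fun x hx =>
          h.conj_mem hE₁.1.le hE₁.2.1.le (hE₂.2.1.le hg) hx] at hv
      obtain ⟨x, hx, y, hy, rfl⟩ := hv
      have hnot : ∀ {A : Subgroup Ω}, Bad F c A → E ≠ A → x * y ∉ A := fun {A} hA hEA hm =>
        hEA (h.eq_of_le hE.1 ((hgenE hE hs).ge.trans
          (sup_le hA.1.le (Subgroup.zpowers_le.2 hm))) hA.2.1)
      have hxZ : x ∉ centralizerIn S S := fun hm =>
        hnot hE₂ hcon.2 (E₂.mul_mem (hE₂.1.le hm) hy)
      have hyZ : y ∉ centralizerIn S S := fun hm =>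
        hnot hE₁ hcon.1 (E₁.mul_mem hx (hE₁.1.le hm))
      have h1 := hcoset hE₁ hs₁ x hx hxZ
      have h2 := hcoset hE₂ hs₂ y hy hyZ
      have h3 : x * y * (v₁ * v₂) = (x * v₁) * (y * v₂) * ⁅v₁⁻¹, y⁆⁻¹⁻¹⁻¹ * 1 * 1 := by
        have hcc' := hZsub (h.zpowers_le (h.comm_mem y (hE₂.2.1.le hy) v₁ hv₁))
        rw [mul_one, mul_one, inv_inv]
        have hvi : v₁⁻¹ = v₁ := inv_eq_of_mul_eq_one_right (hsq hs₁)
        have hcomm : y * v₁ = ⁅y, v₁⁆ * (v₁ * y) := by rw [commutatorElement_def]; group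
        have hsw : ⁅v₁⁻¹, y⁆⁻¹ = ⁅y, v₁⁆ := by rw [hvi, commutatorElement_inv]
        rw [hsw, show x * y * (v₁ * v₂) = x * (y * v₁) * v₂ by group, hcomm]
        calc x * (⁅y, v₁⁆ * (v₁ * y)) * v₂ = x * ⁅y, v₁⁆ * (v₁ * y * v₂) := by group
          _ = ⁅y, v₁⁆ * x * (v₁ * y * v₂) := by rw [hcc' x (hE₁.2.1.le hx)]
          _ = ⁅y, v₁⁆ * ((x * v₁) * (y * v₂)) := by group
          _ = (x * v₁) * (y * v₂) * ⁅y, v₁⁆ :=
            (hcc' _ (S.mul_mem (S.mul_mem (hE₁.2.1.le hx) hv₁)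
              (S.mul_mem (hE₂.2.1.le hy) hv₂))).symm
      rw [h3, mul_one, mul_one, inv_inv]
      exact Subgroup.mul_mem _ (Subgroup.mul_mem _ h1 h2) (Subgroup.inv_mem _
        (h.zpowers_le (h.comm_mem _ (S.inv_mem hv₁) y (hE₂.2.1.le hy))))
    -- hence a central element squares to `c`
    set z := v * (v₁ * v₂) with hzdef
    have hw : v₁ * v₂ = v * z := by rw [hzdef, ← mul_assoc, hsq hs, one_mul]
    have hz2 : z * z = c := by
      have h1 := hcc
      rw [hw] at h1
      rw [← h1, show v * z * (v * z) = v * (z * v) * z by group, ← hZsub hz v hvS,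
        ← mul_assoc v v, hsq hs, one_mul]
    have hzZ := hz
    rw [← hs₁.sup, ← SetLike.mem_coe,
      Subgroup.coe_mul_of_right_le_normalizer_left C₁ (Subgroup.zpowers c) fun y hy =>
        Subgroup.centralizer_le_normalizer _ (Subgroup.mem_centralizer_iff.2 fun u hu =>
          hZsub (h.zpowers_le hy) u (hs₁.le hu).1)] at hzZ
    obtain ⟨u, hu, y, hy, he⟩ := hzZ
    have hy2 : y * y = 1 := by
      obtain ⟨j, rfl⟩ := Subgroup.mem_zpowers_iff.1 hy
      rw [← zpow_add, show j + j = (2 : ℕ) * j by push_cast; ring, zpow_mul, zpow_natCast, h.pow,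
        one_zpow]
    have hu2 : u * u = c := by
      rw [← hz2, ← he, show u * y * (u * y) = u * (y * u) * y by group,
        hZsub (hs₁.le hu) y (h.zpowers_le hy).1, show u * (u * y) * y = u * u * (y * y) by group,
        hy2, mul_one]
    exact h.ne (Subgroup.mem_bot.1
      (hs₁.inf.le ⟨hu2 ▸ C₁.mul_mem hu hu, Subgroup.mem_zpowers c⟩))
  -- every automorphism of `S` fixes both
  have hfixE : ∀ f, IsIso F S S f → ∀ E, Bad F c E → ∀ x ∈ E, f x ∈ E := by
    intro f hf E hE x hx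
    obtain ⟨a, ha, hav⟩ := exists_mem_autGroup hf
    obtain ⟨m, hm, hin⟩ := exists_pow_inner h hF a ha
    obtain ⟨E', hE', hbad⟩ := bad_image h hf hE
    by_cases he : E' = E
    · exact he ▸ hE'.mem hx
    exfalso
    obtain ⟨E'', hE'', hbad''⟩ := bad_image h hf hbad
    have hee : E'' = E := by
      have hne' : E'' ≠ E' := by
        intro e
        rw [e] at hE''
        refine he (h.eq_of_le hE.1 (fun y hy => ?_) hbad.2.1).symm
        obtain ⟨u, hu, hue⟩ := hE''.surj (hE'.mem hy)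
        exact hf.isMap.injOn (hbad.2.1.le hu) (hE.2.1.le hy) hue ▸ hu
      rcases htwo E hE with h1 | h1 <;> rcases htwo E' hbad with h2 | h2 <;>
        rcases htwo E'' hbad'' with h3 | h3
      all_goals first | exact h3.trans h1.symm | exact absurd (h2.trans h1.symm) he |
        exact absurd (h3.trans h2.symm) hne'
    -- an odd power of `a` exchanges `E` and `E'`, but inner automorphisms fix them
    have hswap : ∀ n : ℕ, (Even n → ∀ w : S, (w : Ω) ∈ E → ((a ^ n) w : Ω) ∈ E) ∧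
        (Odd n → ∀ w : S, (w : Ω) ∈ E → ((a ^ n) w : Ω) ∈ E') := by
      intro n
      induction n with
      | zero => exact ⟨fun _ w hw => hw, fun ho => absurd ho (by decide)⟩
      | succ n ih =>
        refine ⟨fun he' w hw => ?_, fun ho w hw => ?_⟩
        · have hw' := ih.2 (by
            rcases Nat.even_or_odd n with h' | h'
            · exact absurd he' (Nat.not_even_iff_odd.2 h'.add_one)
            · exact h') w hw
          rw [pow_succ', MulAut.mul_apply, hav]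
          exact hee ▸ hE''.mem hw'
        · have hw' := ih.1 (by
            rcases Nat.even_or_odd n with h' | h'
            · exact h'
            · exact absurd ho (Nat.not_odd_iff_even.2 h'.add_one)) w hw
          rw [pow_succ', MulAut.mul_apply, hav]
          exact hE'.mem hw'
    obtain ⟨g, hg, hgv⟩ := (mem_autInducedBy_iff S S _).1 hin
    refine he (h.eq_of_le hE.1 (fun y hy => ?_) hbad.2.1).symm
    have hodd : Odd m := Nat.not_even_iff_odd.1 fun he' => hm (even_iff_two_dvd.1 he')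
    have h1 := (hswap m).2 hodd ⟨g⁻¹ * y * g, S.mul_mem (S.mul_mem (S.inv_mem hg) (hE.2.1.le hy)) hg⟩
      (by
        show g⁻¹ * y * g ∈ E
        have := h.conj_mem hE.1.le hE.2.1.le (S.inv_mem hg) hy
        rwa [inv_inv] at this)
    rw [hgv] at h1
    show y ∈ E'
    convert h1 using 1
    show y = g * (g⁻¹ * y * g) * g⁻¹
    group
  -- the centre moves only inside the fixed parts
  let W : Subgroup Ω :=
    Subgroup.closure {u | ∃ f z, IsIso F S S f ∧ z ∈ centralizerIn S S ∧ u = z⁻¹ * f z}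
  have hWC : ∀ E, Bad F c E → ∃ C v, Split F 2 c E C v ∧ W ≤ C := by
    intro E hE
    obtain ⟨C, v, hs⟩ := exists_split h hF hE
    refine ⟨C, v, hs, (Subgroup.closure_le _).2 ?_⟩
    rintro _ ⟨f, z, hf, hz, rfl⟩
    have hEiso : IsIso F E E f := by
      have := finite_of_le hE.2.1.le
      exact (hf.isMap.mono hE.2.1.le).isIso_of_card_le (hfixE f hf E hE) le_rfl
    have hfc : f c = c := by
      obtain ⟨k, hk⟩ := Subgroup.mem_zpowers_iff.1 (map_gen_mem h hf)
      rcases Int.even_or_odd' k with ⟨j, rfl | rfl⟩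
      · exfalso
        rw [show (2 : ℤ) * j = (2 : ℕ) * j by norm_num, zpow_mul, zpow_natCast, h.pow,
          one_zpow] at hk
        refine h.ne (hf.isMap.injOn h.c_mem.1 S.one_mem ?_)
        rw [hf.isMap.map_one, ← hk]
      · rw [← hk, zpow_add, show (2 : ℤ) * j = (2 : ℕ) * j by norm_num, zpow_mul, zpow_natCast,
          h.pow, one_zpow, one_mul, zpow_one]
    rw [← hs.sup, ← SetLike.mem_coe,
      Subgroup.coe_mul_of_right_le_normalizer_left C (Subgroup.zpowers c) fun y hy =>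
        Subgroup.centralizer_le_normalizer _ (Subgroup.mem_centralizer_iff.2 fun u hu =>
          hZsub (h.zpowers_le hy) u (hs.le hu).1)] at hz
    obtain ⟨u, hu, y, hy, rfl⟩ := hz
    obtain ⟨j, rfl⟩ := Subgroup.mem_zpowers_iff.1 hy
    have hfu := hs.inv f hEiso u hu
    rw [hf.isMap.map_mul (hs.le hu).1 (h.zpowers_le hy).1, hf.isMap.map_zpow h.c_mem.1, hfc,
      show (u * c ^ j)⁻¹ * (f u * c ^ j) = u⁻¹ * f u from ?_]
    · exact C.mul_mem (C.inv_mem hu) hfu
    · have hA := hZsub (hs.le hu) (c ^ j) (h.zpowers_le hy).1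
      have hB := hZsub (hs.le hfu) (c ^ j) (h.zpowers_le hy).1
      rw [← hA, ← hB]
      group
  have hWinv : ∀ f, IsIso F S S f → ∀ w ∈ W, f w ∈ W := by
    intro f hf w hw
    have hWS : W ≤ S := (Subgroup.closure_le _).2 (by
      rintro _ ⟨g, z, hg, hz, rfl⟩
      exact S.mul_mem (S.inv_mem hz.1) (hg.mem hz.1))
    obtain ⟨f', hf', hl, -⟩ := hf.exists_symm
    induction hw using Subgroup.closure_induction with
    | mem u hu =>
      obtain ⟨g, z, hg, hz, rfl⟩ := hu
      refine Subgroup.subset_closure ⟨f ∘ g ∘ f', f z, (hf'.comp hg).comp hf, mapsTo_center hf hz, ?_⟩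
      rw [hf.isMap.map_mul (S.inv_mem hz.1) (hg.mem hz.1), hf.isMap.map_inv hz.1]
      show _ = (f z)⁻¹ * f (g (f' (f z)))
      rw [hl z hz.1]
    | one => rw [hf.isMap.map_one]; exact W.one_mem
    | mul a b ha hb iha ihb =>
      rw [hf.isMap.map_mul (hWS ha) (hWS hb)]
      exact W.mul_mem iha ihb
    | inv a ha iha =>
      rw [hf.isMap.map_inv (hWS ha)]
      exact W.inv_mem iha
  have hWbot : W = ⊥ := by
    refine eq_bot_of_invariant h hF hcore ((Subgroup.closure_le _).2 ?_) hWinv hWC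
    rintro _ ⟨f, z, hf, hz, rfl⟩
    exact Subgroup.mul_mem _ (Subgroup.inv_mem _ hz) (mapsTo_center hf hz)
  have hfixZ : ∀ f, IsIso F S S f → ∀ z ∈ centralizerIn S S, f z = z := by
    intro f hf z hz
    have hm : z⁻¹ * f z ∈ W := Subgroup.subset_closure ⟨f, z, hf, hz, rfl⟩
    rw [hWbot, Subgroup.mem_bot] at hm
    exact (inv_mul_eq_one.1 hm).symm
  -- `Aut(S)` is inner
  have hinner : ∀ a ∈ F.autGroup S, ∀ x : S, (x : Ω)⁻¹ * (a x : Ω) ∈ Subgroup.zpowers c := by
    intro a ha x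
    have hf := (mem_autGroup_iff le_rfl a).1 ha
    have hmov : ∀ w : S, ((w : Ω)⁻¹ * (a w : Ω)) ∈ centralizerIn S S := by
      have hE : ∀ {E C v}, Bad F c E → Split F 2 c E C v →
          v⁻¹ * autFun a v ∈ centralizerIn S S := by
        intro E C v hE hs
        have hvS := hE.2.1.le hs.mem
        have hnot : autFun a v ∉ centralizerIn S S := fun hm => by
          have := hfixZ _ hf _ hm
          exact hs.notMem ((hf.isMap.injOn (hE.2.1.le (hfixE _ hf E hE v hs.mem)) hvS this) ▸ hm)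
        have := hcoset hE hs _ (hfixE _ hf E hE v hs.mem) hnot
        rw [inv_eq_of_mul_eq_one_right (hsq hs)]
        rw [show v * autFun a v = v * (autFun a v * v) * v⁻¹ by group,
          hZsub this v hvS, mul_inv_cancel_right]
        exact this
      let L : Subgroup Ω :=
        { carrier := {w | w ∈ S ∧ w⁻¹ * autFun a w ∈ centralizerIn S S}
          one_mem' := ⟨S.one_mem, by rw [hf.isMap.map_one, inv_one, one_mul]; exact Subgroup.one_mem _⟩
          mul_mem' := by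
            rintro u w ⟨hu, hu'⟩ ⟨hw, hw'⟩
            refine ⟨S.mul_mem hu hw, ?_⟩
            rw [hf.isMap.map_mul hu hw, show (u * w)⁻¹ * (autFun a u * autFun a w) =
              w⁻¹ * (u⁻¹ * autFun a u) * autFun a w by group,
              hZsub hu' _ (S.inv_mem hw), mul_assoc]
            exact Subgroup.mul_mem _ hu' hw'
          inv_mem' := by
            rintro u ⟨hu, hu'⟩
            refine ⟨S.inv_mem hu, ?_⟩
            have := Subgroup.inv_mem _ hu'
            rw [mul_inv_rev, inv_inv] at this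
            rw [hf.isMap.map_inv hu, inv_inv,
              show u * (autFun a u)⁻¹ = u * ((autFun a u)⁻¹ * u) * u⁻¹ by group,
              hZsub this u hu, mul_inv_cancel_right]
            exact this }
      have hle : S ≤ L := by
        rw [← h.sup_eq hE₁.1 hE₁.2.1 hE₂.1 hE₂.2.1 hne, ← hgenE hE₁ hs₁, ← hgenE hE₂ hs₂]
        have hZL : centralizerIn S S ≤ L := fun z hz => ⟨hz.1, by
          rw [hfixZ _ hf z hz, inv_mul_cancel]; exact Subgroup.one_mem _⟩
        exact sup_le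
          (sup_le hZL (Subgroup.zpowers_le.2 ⟨hE₁.2.1.le hs₁.mem, hE hE₁ hs₁⟩))
          (sup_le hZL (Subgroup.zpowers_le.2 ⟨hE₂.2.1.le hs₂.mem, hE hE₂ hs₂⟩))
      intro w
      have := (hle w.2).2
      rwa [autFun_coe] at this
    have hd : a (x⁻¹ * a x) = x⁻¹ * a x := Subtype.ext (by
      rw [← autFun_coe a (x⁻¹ * a x)]
      exact hfixZ _ hf _ (hmov x))
    obtain ⟨m, hm, hin⟩ := exists_pow_inner h hF a ha
    obtain ⟨g, hg, hgv⟩ := (mem_autInducedBy_iff S S _).1 hin
    have h1 : ((x : Ω)⁻¹ * (a x : Ω)) ^ m ∈ Subgroup.zpowers c := by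
      have h2 := h.comm_mem (x : Ω)⁻¹ (S.inv_mem x.2) g hg
      have h3 := hgv x
      rw [pow_apply_of_fixed hd, Subgroup.coe_mul, SubgroupClass.coe_pow, Subgroup.coe_mul,
        Subgroup.coe_inv] at h3
      rw [commutatorElement_def, inv_inv] at h2
      have h4 : ((x : Ω)⁻¹ * (a x : Ω)) ^ m = (x : Ω)⁻¹ * (g * x * g⁻¹) := by
        rw [← h3, inv_mul_cancel_left]
      rw [h4]
      convert h2 using 1
      group
    -- an odd power in `⟨c⟩` and a two-power is one: so is the element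
    obtain ⟨k, hk⟩ := h.pgroup (x⁻¹ * a x)
    have hk' : ((x : Ω)⁻¹ * (a x : Ω)) ^ 2 ^ k = 1 := congrArg Subtype.val hk
    obtain ⟨i, j, hij⟩ := Int.isCoprime_iff_nat_coprime.2
      (show Nat.Coprime (Int.natAbs (m : ℤ)) (Int.natAbs ((2 ^ k : ℕ) : ℤ)) by
        simp only [Int.natAbs_natCast]
        exact ((Nat.Prime.coprime_iff_not_dvd Nat.prime_two).2 hm).symm.pow_right k)
    rw [← zpow_one ((x : Ω)⁻¹ * (a x : Ω)), ← hij, zpow_add, mul_comm i, mul_comm j, zpow_mul,
      zpow_mul, zpow_natCast, zpow_natCast, hk', one_zpow, mul_one]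
    exact Subgroup.zpow_mem _ h1 i
  -- everything moves only inside `R`
  set R := Subgroup.zpowers c ⊔ Subgroup.zpowers v₁ ⊔ Subgroup.zpowers v₂ with hR
  have hcR : Subgroup.zpowers c ≤ R := le_sup_left.trans le_sup_left
  have hmod : F ≤ modSystem F R fun x hx g hg => hcR (h.comm_mem x hx g hg) := by
    refine le_of_autGroup_le' h.pgroup hF fun P hP α hα => ?_
    suffices hd : ∀ x : P, (x : Ω)⁻¹ * (α x : Ω) ∈ R by
      have hPS : P ≤ S := by
        rcases hP with rfl | hess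
        exacts [le_rfl, hess.1.1]
      obtain ⟨φ, hφ, hv⟩ := ((mem_autGroup_iff hPS α).1 hα).isMap
      refine mem_autGroup_of_isMap (F := modSystem F R _)
        ⟨φ, ⟨hφ, fun x => ?_⟩, hv⟩ α fun x => (autFun_coe α x).symm
      rw [hv, autFun_coe]
      exact hd x
    rcases hP with rfl | hess
    · exact fun x => hcR (hinner α hα x)
    have hB := bad_of_isEssential h hF hess
    obtain ⟨C, v, hs, hv⟩ : ∃ C v, Split F 2 c P C v ∧ v ∈ R := by
      rcases htwo P hB with rfl | rfl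
      · exact ⟨C₁, v₁, hs₁, Subgroup.mem_sup_left (Subgroup.mem_sup_right (Subgroup.mem_zpowers _))⟩
      · exact ⟨C₂, v₂, hs₂, Subgroup.mem_sup_right (Subgroup.mem_zpowers _)⟩
    obtain ⟨g, -, hgd, f, hf, hfv⟩ := hs.factor α hα
    intro x
    obtain ⟨a, ha, hav⟩ := exists_mem_autGroup hf
    have h1 : (x : Ω)⁻¹ * f x ∈ R := by
      have := hcR (hinner a ha ⟨x, hB.2.1.le x.2⟩)
      rwa [hav] at this
    have h2 : (α x : Ω)⁻¹ * f x ∈ R := by
      rw [← hfv, MulAut.mul_apply]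
      exact (sup_le hcR (Subgroup.zpowers_le.2 hv)) (hgd (α x))
    have := R.mul_mem h1 (R.inv_mem h2)
    rwa [mul_inv_rev, inv_inv, ← mul_assoc, mul_inv_cancel_right] at this
  have hSR : S ≤ R := by
    rw [← hhyp]
    refine hyperfocal_le_focal.trans ((Subgroup.closure_le _).2 ?_)
    rintro _ ⟨P, φ, x, hφ, rfl⟩
    exact (hmod P hφ).2 x
  -- so `S` is generated by two involutions
  have hv₁S := hE₁.2.1.le hs₁.mem
  have hv₂S := hE₂.2.1.le hs₂.mem
  let a : S := ⟨v₁, hv₁S⟩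
  let b : S := ⟨v₂, hv₂S⟩
  have hc12 : c ∈ Subgroup.closure ({v₁, v₂} : Set Ω) := by
    obtain ⟨k, hk⟩ := Subgroup.mem_zpowers_iff.1 (h.comm_mem v₁ hv₁S v₂ hv₂S)
    rcases Int.even_or_odd' k with ⟨j, rfl | rfl⟩
    · exfalso
      rw [show (2 : ℤ) * j = (2 : ℕ) * j by norm_num, zpow_mul, zpow_natCast, h.pow,
        one_zpow] at hk
      exact hnc hE₁ hE₂ hs₁ hs₂ hne (commutatorElement_eq_one_iff_mul_comm.1 hk.symm)
    · rw [zpow_add, show (2 : ℤ) * j = (2 : ℕ) * j by norm_num, zpow_mul, zpow_natCast, h.pow,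
        one_zpow, one_mul, zpow_one] at hk
      have h1 : v₁ ∈ Subgroup.closure ({v₁, v₂} : Set Ω) := Subgroup.subset_closure (Or.inl rfl)
      have h2 : v₂ ∈ Subgroup.closure ({v₁, v₂} : Set Ω) := Subgroup.subset_closure (Or.inr rfl)
      rw [hk, commutatorElement_def]
      exact Subgroup.mul_mem _ (Subgroup.mul_mem _ (Subgroup.mul_mem _ h1 h2)
        (Subgroup.inv_mem _ h1)) (Subgroup.inv_mem _ h2)
  have hgen : Subgroup.closure ({a, b} : Set S) = ⊤ := by
    apply Subgroup.map_injective S.subtype_injective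
    rw [MonoidHom.map_closure, ← MonoidHom.range_eq_map, Subgroup.range_subtype, Set.image_pair]
    refine le_antisymm ((Subgroup.closure_le _).2 ?_) (hSR.trans ?_)
    · rintro u (rfl | rfl)
      exacts [hv₁S, hv₂S]
    · exact sup_le (sup_le (Subgroup.zpowers_le.2 hc12)
        (Subgroup.zpowers_le.2 (Subgroup.subset_closure (Or.inl rfl))))
        (Subgroup.zpowers_le.2 (Subgroup.subset_closure (Or.inr rfl)))
  have ha2 : a * a = 1 := Subtype.ext (hsq hs₁)
  have hb2 : b * b = 1 := Subtype.ext (hsq hs₂)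
  have h4 : (a * b) ^ 4 = 1 := by
    refine Subtype.ext ?_
    have h1 : ⁅v₁, v₂⁆ = v₁ * v₂ * (v₁ * v₂) := by
      rw [commutatorElement_def, inv_eq_of_mul_eq_one_right (hsq hs₁),
        inv_eq_of_mul_eq_one_right (hsq hs₂), mul_assoc]
    obtain ⟨k, hk⟩ := Subgroup.mem_zpowers_iff.1 (h.comm_mem v₁ hv₁S v₂ hv₂S)
    show (v₁ * v₂) ^ 4 = 1
    rw [show 4 = 2 * 2 from rfl, pow_mul, pow_two (v₁ * v₂), ← h1, ← hk, ← zpow_natCast,
      ← zpow_mul, mul_comm, zpow_mul, zpow_natCast, h.pow, one_zpow]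
  -- `|S| ≤ 8`
  have hle8 : Nat.card S ≤ 8 := by
    haveI : Fintype S := Fintype.ofFinite S
    let f : DihedralGroup 4 → S := fun
      | .r i => (a * b) ^ i.val
      | .sr i => a * (a * b) ^ i.val
    refine (Nat.card_le_card_of_surjective f ?_).trans_eq (by rw [DihedralGroup.nat_card])
    intro s
    have hs : s ∈ Subgroup.closure ({a, b} : Set S) := hgen.symm ▸ Subgroup.mem_top s
    have hred : ∀ n : ℕ, ∃ i : ZMod 4, (a * b) ^ i.val = (a * b) ^ n := fun n =>
      ⟨(n : ZMod 4), pow_eq_pow_of_modEq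
        (by rw [ZMod.val_natCast]; exact Nat.mod_modEq n 4) h4⟩
    have hmulr : ∀ (u : DihedralGroup 4) (g : S), g = a ∨ g = b → ∃ w, f w = f u * g := by
      have hab : ∀ n : ℕ, (a * b) ^ n * a = a * (a * b) ^ (3 * n) := by
        intro n
        induction n with
        | zero => simp
        | succ n ih =>
          have hba : a * b * a = a * (a * b) ^ 3 := by
            have h3 : (a * b) ^ 3 = b * a := by
              rw [show b * a = (a * b)⁻¹ by rw [mul_inv_rev, inv_eq_of_mul_eq_one_right ha2,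
                inv_eq_of_mul_eq_one_right hb2]]
              exact eq_inv_of_mul_eq_one_left (by rw [← pow_succ]; exact h4)
            rw [h3, ← mul_assoc]
          calc (a * b) ^ (n + 1) * a = (a * b) ^ n * (a * b * a) := by rw [pow_succ, mul_assoc]
            _ = (a * b) ^ n * a * (a * b) ^ 3 := by rw [hba, mul_assoc]
            _ = a * (a * b) ^ (3 * (n + 1)) := by
              rw [ih, mul_assoc, ← pow_add]; ring_nf
      intro u g hg
      have hb' : b = a * (a * b) := by rw [← mul_assoc, ha2, one_mul]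
      rcases u with i | i
      · rcases hg with rfl | rfl
        · obtain ⟨j, hj⟩ := hred (3 * i.val)
          exact ⟨.sr j, show a * _ = _ by rw [hj]; exact (hab _).symm⟩
        · obtain ⟨j, hj⟩ := hred (3 * i.val + 1)
          refine ⟨.sr j, show a * _ = _ from ?_⟩
          rw [hj, pow_succ, ← mul_assoc, ← hab, mul_assoc, ← hb']
      · rcases hg with rfl | rfl
        · obtain ⟨j, hj⟩ := hred (3 * i.val)
          refine ⟨.r j, show (a * b) ^ j.val = a * (a * b) ^ i.val * a from ?_⟩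
          rw [hj, mul_assoc, hab, ← mul_assoc, ha2, one_mul]
        · obtain ⟨j, hj⟩ := hred (3 * i.val + 1)
          refine ⟨.r j, show (a * b) ^ j.val = a * (a * b) ^ i.val * b from ?_⟩
          symm
          calc a * (a * b) ^ i.val * b = a * ((a * b) ^ i.val * a) * (a * b) := by
                rw [mul_assoc a (_ * a), mul_assoc _ a, ← hb', ← mul_assoc]
            _ = (a * b) ^ (3 * i.val) * (a * b) := by rw [hab, ← mul_assoc a, ha2, one_mul]
            _ = (a * b) ^ j.val := by rw [hj, pow_succ]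
    induction hs using Subgroup.closure_induction_right with
    | one => exact ⟨.r 0, by show (a * b) ^ (0 : ZMod 4).val = 1; rw [ZMod.val_zero, pow_zero]⟩
    | mul_right x hx y hy ihx =>
      obtain ⟨u, rfl⟩ := ihx
      exact hmulr u y (by simpa using hy)
    | mul_inv_cancel x hx y hy ihx =>
      obtain ⟨u, rfl⟩ := ihx
      rcases hy with rfl | hy
      · rw [inv_eq_of_mul_eq_one_right ha2]
        exact hmulr u _ (Or.inl rfl)
      · rw [Set.mem_singleton_iff.1 hy, inv_eq_of_mul_eq_one_right hb2]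
        exact hmulr u _ (Or.inr rfl)
  have hpos : 1 < Nat.card (centralizerIn S S) := by
    have := finite_of_le (S := S) (P := centralizerIn S S) inf_le_left
    exact Finite.one_lt_card_iff_nontrivial.2
      ⟨⟨c, h.c_mem⟩, 1, fun e => h.ne (congrArg Subtype.val e)⟩
  have hcard2 : Nat.card (centralizerIn S S) = 2 := by
    have := h.card
    omega
  refine ⟨hcard2, Split.exists_dihedral_equiv ?_ ha2 hb2 hgen h4⟩
  rw [h.card, hcard2]
  norm_num

end CfsgLib.Fusion.CenterSq
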