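import Cfsg.Agent.Lib.Fusion.NormalCentralizerClosed
import Cfsg.Agent.Lib.Fusion.PowerIndex
import Cfsg.Agent.Lib.Fusion.Hyperfocal

/-!
The centraliser system `C_F(E)` of a normal subsystem: the subsystem of `p`-power index of
`C_F(T)` over `Y = C_S(E)` is normal in `F`.
-/

set_option autoImplicit false

namespace CfsgLib.Fusion.NormalCentralizer

open Cfsg Cfsg.FusionSystem

universe u

variable {Ω : Type u} [Group Ω] {S T Y : Subgroup Ω} {F : FusionSystem S} {E : FusionSystem T}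
  {p : ℕ} [Fact p.Prime] [Finite S]

theorem isFullyNormalized_of_closed {Z : Subgroup Ω} (hZ : Z ≤ S)
    (h : ∀ (P : Subgroup Ω) (f : Ω → Ω), IsMap F P f → ∀ x ∈ P, x ∈ Z → f x ∈ Z) :
    F.IsFullyNormalized Z := by
  refine ⟨hZ, fun Q hQ => ?_⟩
  obtain ⟨q, hq⟩ := isConj_iff.1 hQ
  have := finite_of_le hZ
  have hQZ : Q ≤ Z := fun y hy => by
    obtain ⟨z, hz, rfl⟩ := hq.surj hy
    exact h _ _ hq.isMap z hz hz
  rw [Subgroup.eq_of_le_of_card_ge hQZ hq.card_eq.ge]

omit [Finite S] in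
/-- The maps of `C_F(T)`. -/
theorem isMap_cent_iff (hTS : T ≤ S) {P : Subgroup Ω} {f : Ω → Ω} :
    IsMap (centralizerSystem F T hTS) P f ↔ P ≤ centralizerIn S T ∧
      (∀ x ∈ P, f x ∈ centralizerIn S T) ∧
      ∃ g, IsMap F (P ⊔ T) g ∧ (∀ x ∈ P, g x = f x) ∧ ∀ x ∈ T, g x = x :=
  isMap_centralizerSystem_iff (fun _ => rfl)

omit [Finite S] in
theorem le_centralizerIn_symm (hTS : T ≤ S) (hY : Y ≤ centralizerIn S T) :
    T ≤ centralizerIn S Y := fun t ht =>
  ⟨hTS ht, Subgroup.mem_centralizer_iff.2 fun y hy =>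
    (Subgroup.mem_centralizer_iff.1 (hY hy).2 t ht).symm⟩

/-- Automorphisms of `Y` extend to `Y C_S(Y)`, which contains `T`. -/
theorem exists_ext_aut (hS : IsPGroup p S) (hF : F.IsSaturated p) (hsc : F.StronglyClosed Y)
    {a : MulAut Y} (ha : a ∈ F.autGroup Y) :
    ∃ δ : MulAut ↥(Y ⊔ centralizerIn S Y), δ ∈ F.autGroup _ ∧
      ∀ x ∈ Y, autFun δ x = autFun a x := by
  have hYS := hsc.1
  have hai := (mem_autGroup_iff hYS a).1 ha
  have hfn := isFullyNormalized_of_closed (F := F) hYS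
    fun P f hf x hx hxY => isMap_mem_of_stronglyClosed hsc hf hx hxY
  obtain ⟨g, hg, hgv⟩ :=
    (isReceptive_iff.1 (isReceptive_of_isFullyNormalized hS hF hfn)).2 Y _ hai
  set V := Y ⊔ centralizerIn S Y with hVdef
  have hVN : V ≤ nPhi S Y (autFun a) := sup_le (le_nPhi hai.isMap) (centralizerIn_le_nPhi Y _)
  have := finite_of_le (sup_centralizerIn_le (S := S) hYS)
  have hgi : IsIso F Y Y g := hai.congr fun x hx => (hgv x hx).symm
  have hgV : ∀ z ∈ V, g z ∈ V := mem_of_mem_sup hg (le_nPhi hai.isMap) (centralizerIn_le_nPhi Y _)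
    (fun z hz => Subgroup.mem_sup_left (hgi.mem hz))
    fun z hz => Subgroup.mem_sup_right
      (hg.mem_centralizerIn (le_nPhi hai.isMap) hgi (centralizerIn_le_nPhi Y _ hz) hz.2)
  obtain ⟨δ, hδ, hδv⟩ := exists_mem_autGroup ((hg.mono hVN).isIso_of_card_le hgV le_rfl)
  exact ⟨δ, hδ, fun x hx => by
    rw [autFun_apply δ (Subgroup.mem_sup_left hx), hδv]; exact hgv x hx⟩

/-- `C_F(T)` restricted to `Y` is invariant under `Aut_F(Y)`. -/
theorem isMap_cent_transport (hS : IsPGroup p S) (hF : F.IsSaturated p) (hT : F.StronglyClosed T)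
    (hsc : F.StronglyClosed Y) (hY : Y ≤ centralizerIn S T) {a : MulAut Y}
    (ha : a ∈ F.autGroup Y) {P : Subgroup Ω} (hP : P ≤ Y) {f : Ω → Ω}
    (hf : IsMap (centralizerSystem F T hT.1) P f) (hfY : ∀ x ∈ P, f x ∈ Y) :
    IsMap (centralizerSystem F T hT.1) (imageAut a P) (autFun a ∘ f ∘ autFun a⁻¹) := by
  have hYS := hsc.1
  have hTV : T ≤ Y ⊔ centralizerIn S Y := (le_centralizerIn_symm hT.1 hY).trans le_sup_right
  obtain ⟨δ, hδ, hδv⟩ := exists_ext_aut hS hF hsc ha
  have hVS := sup_centralizerIn_le (S := S) hYS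
  have hδm := ((mem_autGroup_iff hVS δ).1 hδ).isMap
  have hδim := ((mem_autGroup_iff hVS δ⁻¹).1 (Subgroup.inv_mem _ hδ)).isMap
  obtain ⟨hPC, -, g, hg, hgP, hgT⟩ := (isMap_cent_iff hT.1).1 hf
  have him : imageAut a P ⊔ T ≤ Y ⊔ centralizerIn S Y :=
    sup_le ((imageAut_le a P).trans le_sup_left) hTV
  have hi : ∀ x ∈ imageAut a P, autFun δ⁻¹ x = autFun a⁻¹ x ∧ autFun a⁻¹ x ∈ P := by
    intro x hx
    refine ⟨autFun_inv_eq le_sup_left hδv (imageAut_le a P hx), ?_⟩
    rw [← SetLike.mem_coe, ← coe_imageAut a hP] at hx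
    obtain ⟨w, hw, rfl⟩ := hx
    rwa [autFun_inv_self a (hP hw)]
  have hiT : ∀ t ∈ T, autFun δ⁻¹ t ∈ T := fun t ht =>
    isMap_mem_of_stronglyClosed hT hδim (hTV ht) ht
  have hback : ∀ z ∈ imageAut a P ⊔ T, autFun δ⁻¹ z ∈ P ⊔ T :=
    mem_of_mem_sup (hδim.mono him) le_sup_left le_sup_right
      (fun x hx => by rw [(hi x hx).1]; exact Subgroup.mem_sup_left (hi x hx).2)
      fun t ht => Subgroup.mem_sup_right (hiT t ht)
  have hgV : ∀ z ∈ P ⊔ T, g z ∈ Y ⊔ centralizerIn S Y :=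
    mem_of_mem_sup hg le_sup_left le_sup_right
      (fun x hx => by rw [hgP x hx]; exact Subgroup.mem_sup_left (hfY x hx))
      fun t ht => by rw [hgT t ht]; exact hTV ht
  refine (isMap_cent_iff hT.1).2 ⟨(imageAut_le a P).trans hY, fun x hx => ?_,
    fun z => autFun δ (g (autFun δ⁻¹ z)),
    ((hδim.mono him).comp hg hback).comp hδm fun z hz => hgV _ (hback z hz),
    fun x hx => ?_, fun t ht => ?_⟩
  · exact hY (autFun_mem a (hfY _ (hi x hx).2))
  · show autFun δ (g (autFun δ⁻¹ x)) = autFun a (f (autFun a⁻¹ x))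
    rw [(hi x hx).1, hgP _ (hi x hx).2, hδv _ (hfY _ (hi x hx).2)]
  · show autFun δ (g (autFun δ⁻¹ t)) = t
    rw [hgT _ (hiT t ht), autFun_self_inv δ (hTV ht)]

/-- Factorisation of a map of `F` on the part of its source in `Y`. -/
def Fct {U : Subgroup Ω} (F : FusionSystem S) (C : FusionSystem U) (Y : Subgroup Ω) (P : Subgroup Ω)
    (f : Ω → Ω) : Prop :=
  IsMap F P f ∧ ∃ a ∈ F.autGroup Y, IsMap C (P ⊓ Y) (autFun a⁻¹ ∘ f)

theorem isSubPred_fct (hS : IsPGroup p S) (hF : F.IsSaturated p) (hT : F.StronglyClosed T)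
    (hsc : F.StronglyClosed Y) (hY : Y ≤ centralizerIn S T) :
    PPrime.IsSubPred F (Fct F (centralizerSystem F T hT.1) Y) := by
  have hYS := hsc.1
  have hval : ∀ (P : Subgroup Ω) (f : Ω → Ω), IsMap F P f → ∀ x ∈ P ⊓ Y, f x ∈ Y :=
    fun P f hf x hx => isMap_mem_of_stronglyClosed hsc hf hx.1 hx.2
  refine ⟨fun h => h.1, ?_, ?_, ?_, ?_⟩
  · rintro P f g ⟨hf, a, ha, h⟩ he
    exact ⟨hf.congr he, a, ha, h.congr fun x hx => by
      simp only [Function.comp_apply]; rw [he x hx.1]⟩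
  · intro P g hP hg
    have hn : g ∈ Subgroup.normalizer (Y : Set Ω) := mem_normalizer_of_conj_mem hYS fun x hx =>
      isMap_mem_of_stronglyClosed hsc (isMap_conj (F := F) hYS hg) hx hx
    refine ⟨isMap_conj hP hg, conjAut Y hn,
      autInducedBy_le_autGroup hYS (conjAut_mem_autInducedBy hn hg),
      (isMap_id (inf_le_right.trans hY)).congr fun x hx => ?_⟩
    show x = autFun (conjAut Y hn)⁻¹ (g * x * g⁻¹)
    have h := autFun_inv_self (conjAut Y hn) hx.2
    rw [autFun_apply _ hx.2, conjAut_apply] at h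
    exact h.symm
  · rintro P Q f g ⟨hf, a₁, ha₁, h₁⟩ ⟨hg, a₂, ha₂, h₂⟩ hPQ
    refine ⟨hf.comp hg hPQ, a₂ * a₁, Subgroup.mul_mem _ ha₂ ha₁, ?_⟩
    have h₂' := isMap_cent_transport hS hF hT hsc hY (Subgroup.inv_mem _ ha₁) inf_le_right h₂
      fun x hx => autFun_mem _ (hval Q g hg x hx)
    refine (h₁.comp h₂' fun x hx => ?_).congr fun x hx => ?_
    · exact mem_imageAut _ ⟨hPQ x hx.1, hval P f hf x hx⟩ (hval P f hf x hx)
    · simp only [Function.comp_apply, inv_inv, mul_inv_rev]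
      rw [autFun_self_inv a₁ (hval P f hf x hx),
        autFun_mul _ _ (hval Q g hg _ ⟨hPQ x hx.1, hval P f hf x hx⟩)]
  · rintro P Q f r ⟨hf, a, ha, h⟩ hi hr hr1
    refine ⟨hr.isMap, a⁻¹, Subgroup.inv_mem _ ha, ?_⟩
    obtain ⟨I, hI⟩ := h.exists_iso
    obtain ⟨k, hk, hk1, -⟩ := hI.exists_symm
    have hIY : I ≤ Y := fun z hz => by
      obtain ⟨x, hx, rfl⟩ := hI.surj hz
      exact autFun_mem _ (hval P f hf x hx)
    have hk' := isMap_cent_transport hS hF hT hsc hY ha hIY hk.isMap fun z hz => (hk.mem hz).2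
    have hpre : ∀ y ∈ Q ⊓ Y, ∃ x ∈ P ⊓ Y, f x = y := fun y hy => by
      obtain ⟨x, hx, rfl⟩ := hi.surj hy.1
      have h2 := hval Q r hr.isMap _ hy
      rw [hr1 x hx] at h2
      exact ⟨x, ⟨hx, h2⟩, rfl⟩
    refine (hk'.mono fun y hy => ?_).congr fun y hy => ?_
    · obtain ⟨x, hx, rfl⟩ := hpre y hy
      have h3 := mem_imageAut a (hI.mem hx) (hIY (hI.mem hx))
      simp only [Function.comp_apply] at h3
      rwa [autFun_self_inv a (hval P f hf x hx)] at h3
    · obtain ⟨x, hx, rfl⟩ := hpre y hy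
      simp only [Function.comp_apply, inv_inv]
      have h4 := hk1 x hx
      simp only [Function.comp_apply] at h4
      rw [h4, hr1 x hx.1]

/-- Every map of `F` factors on the part of its source in `Y = C_S(E)`. -/
theorem fct (hS : IsPGroup p S) (hF : F.IsSaturated p) (hE : E.IsNormalIn F p)
    (hsc : F.StronglyClosed (centE E F p hE.1.2.2.2.1.1)) {P : Subgroup Ω} {f : Ω → Ω}
    (hf : IsMap F P f) :
    Fct F (centralizerSystem F T hE.1.2.2.2.1.1) (centE E F p hE.1.2.2.2.1.1) P f := by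
  have hT : F.StronglyClosed T := hE.1.2.2.2.1
  set Y := centE E F p hE.1.2.2.2.1.1 with hYdef
  have hY : Y ≤ centralizerIn S T := centE_le _
  have hYS := hsc.1
  have hM := isSubPred_fct hS hF hT hsc hY
  suffices key : ∀ (P : Subgroup Ω) (f : Ω → Ω), IsMap F P f →
      IsMap (PPrime.ofPred F _ hM) P f from (PPrime.isMap_ofPred hM).1 (key P f hf)
  refine le_of_autGroup_le_step hS hF fun R hR hbig => ?_
  have hRS : R ≤ S := by
    rcases hR with rfl | hR
    · exact le_rfl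
    · exact hR.1.1
  intro α hα
  have hαi := (mem_autGroup_iff hRS α).1 hα
  by_cases hTR : T ≤ R
  · refine mem_autGroup_of_isMap ((PPrime.isMap_ofPred hM).2 ⟨hαi.isMap, ?_⟩) α
      fun x => (autFun_coe α x).symm
    have := finite_of_le hT.1
    have hTi : IsIso F T T (autFun α) := (hαi.isMap.mono hTR).isIso_of_card_le
      (fun x hx => isMap_mem_of_stronglyClosed hT hαi.isMap (hTR hx) hx) le_rfl
    have hTn := isFullyNormalized_of_closed (F := F) hT.1
      fun P f hf x hx hxT => isMap_mem_of_stronglyClosed hT hf hx hxT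
    obtain ⟨g, hg, hgv⟩ :=
      (isReceptive_iff.1 (isReceptive_of_isFullyNormalized hS hF hTn)).2 T _ hTi
    set W := T ⊔ centralizerIn S T with hWdef
    have hWN : W ≤ nPhi S T (autFun α) :=
      sup_le (le_nPhi hTi.isMap) (centralizerIn_le_nPhi T _)
    have hWS : W ≤ S := sup_centralizerIn_le hT.1
    have := finite_of_le hWS
    have hgT : IsIso F T T g := hTi.congr fun x hx => (hgv x hx).symm
    have hgW : ∀ z ∈ W, g z ∈ W := mem_of_mem_sup hg (le_nPhi hTi.isMap)
      (centralizerIn_le_nPhi T _) (fun z hz => Subgroup.mem_sup_left (hgT.mem hz))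
      fun z hz => Subgroup.mem_sup_right
        (hg.mem_centralizerIn (le_nPhi hTi.isMap) hgT (centralizerIn_le_nPhi T _ hz) hz.2)
    have hgi : IsIso F W W g := (hg.mono hWN).isIso_of_card_le hgW le_rfl
    obtain ⟨r, hr, hr1, -⟩ := hgi.exists_symm
    have := finite_of_le hYS
    have hYW : Y ≤ W := hY.trans le_sup_right
    obtain ⟨a, ha, hav⟩ := exists_mem_autGroup ((hgi.isMap.mono hYW).isIso_of_card_le
      (fun y hy => isMap_mem_of_stronglyClosed hsc hgi.isMap (hYW hy) hy) le_rfl)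
    have hdom : (R ⊓ Y) ⊔ T ≤ R := sup_le inf_le_left hTR
    have hvW : ∀ z ∈ (R ⊓ Y) ⊔ T, autFun α z ∈ W :=
      mem_of_mem_sup (hαi.isMap.mono hdom) le_sup_left le_sup_right
        (fun z hz => hYW (isMap_mem_of_stronglyClosed hsc hαi.isMap hz.1 hz.2))
        fun z hz => Subgroup.mem_sup_left (hTi.mem hz)
    refine ⟨a, ha, (isMap_cent_iff hT.1).2 ⟨inf_le_right.trans hY,
      fun x hx => hY (autFun_mem _ (isMap_mem_of_stronglyClosed hsc hαi.isMap hx.1 hx.2)),
      fun z => r (autFun α z), (hαi.isMap.mono hdom).comp hr.isMap hvW,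
      fun x hx => ?_, fun t ht => ?_⟩⟩
    · have hy : autFun α x ∈ Y := isMap_mem_of_stronglyClosed hsc hαi.isMap hx.1 hx.2
      have hz : autFun a⁻¹ (autFun α x) ∈ Y := autFun_mem _ hy
      show r (autFun α x) = autFun a⁻¹ (autFun α x)
      have e : g (autFun a⁻¹ (autFun α x)) = autFun α x := by
        have h := hav ⟨_, hz⟩
        rw [← autFun_coe, autFun_self_inv a hy] at h
        exact h.symm
      conv_lhs => rw [← e]
      exact hr1 _ (hYW hz)
    · show r (autFun α t) = t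
      rw [← hgv t ht]
      exact hr1 t (Subgroup.mem_sup_left ht)
  · rcases hR with rfl | hR
    · exact absurd hT.1 hTR
    refine automizer_le hS hF hE hR.1 (isRadical_of_isEssential hS hR) hR.2.1 hTR _
      (fun β hβ hfix => ?_) (fun β hβ => autInducedBy_le_autGroup hRS hβ)
      (fun β _ A g hRA hA hg hgv => mem_autGroup_of_isMap ((hbig A g hA hg).mono hRA) β
        fun x => (hgv x).symm) hα
    refine mem_autGroup_of_isMap ((PPrime.isMap_ofPred hM).2
      ⟨((mem_autGroup_iff hRS β).1 hβ).isMap, 1, Subgroup.one_mem _,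
        (isMap_id (inf_le_right.trans hY)).congr fun x hx => ?_⟩) β
      fun x => (autFun_coe β x).symm
    show x = autFun 1⁻¹ (autFun β x)
    rw [inv_one, autFun_apply β hx.1, hfix ⟨x, hx.1⟩ hx.2, autFun_one hx.2]

/-- The extension condition for automorphisms of order prime to `p`. -/
theorem exists_ext_cent (hS : IsPGroup p S) (hF : F.IsSaturated p) (hE : E.IsNormalIn F p)
    (hYeq : Y = centE E F p hE.1.2.2.2.1.1) (hsc : F.StronglyClosed Y) {α : MulAut Y}
    (hα : α ∈ (centralizerSystem F T hE.1.2.2.2.1.1).autGroup Y)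
    (hαo : (orderOf α).Coprime p) :
    ∃ β ∈ F.autGroup (Y ⊔ centralizerIn S Y),
      (∀ x ∈ Y, autFun β x = autFun α x) ∧
      ∀ c ∈ centralizerIn S Y, c⁻¹ * autFun β c ∈
        Y ⊓ Subgroup.centralizer (Y : Set Ω) := by
  have hT : F.StronglyClosed T := hE.1.2.2.2.1
  have hY : Y ≤ centralizerIn S T := hYeq ▸ centE_le _
  have hYS := hsc.1
  have hTCY : T ≤ centralizerIn S Y := le_centralizerIn_symm hT.1 hY
  obtain ⟨-, -, g, hg, hgY, hgT⟩ :=
    (isMap_cent_iff hT.1).1 ((mem_autGroup_iff (hY : Y ≤ centralizerIn S T) α).1 hα).isMap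
  set B := Y ⊔ T with hBdef
  have hBS : B ≤ S := sup_le hYS hT.1
  have := finite_of_le hBS
  have := finite_of_le hT.1
  have hBn : F.IsFullyNormalized B := by
    refine ⟨hBS, fun Q hQ => ?_⟩
    obtain ⟨q, hq⟩ := isConj_iff.1 hQ
    have hQB : Q ≤ B := fun y hy => by
      obtain ⟨z, hz, rfl⟩ := hq.surj hy
      exact mem_of_mem_sup hq.isMap le_sup_left le_sup_right
        (fun w hw => Subgroup.mem_sup_left
          (isMap_mem_of_stronglyClosed hsc hq.isMap (Subgroup.mem_sup_left hw) hw))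
        (fun w hw => Subgroup.mem_sup_right
          (isMap_mem_of_stronglyClosed hT hq.isMap (Subgroup.mem_sup_right hw) hw)) z hz
    rw [Subgroup.eq_of_le_of_card_ge hQB hq.card_eq.ge]
  have hgB : IsIso F B B g := hg.isIso_of_card_le (mem_of_mem_sup hg le_sup_left le_sup_right
      (fun w hw => by rw [hgY w hw]; exact Subgroup.mem_sup_left (autFun_mem α hw))
      fun w hw => by rw [hgT w hw]; exact Subgroup.mem_sup_right hw) le_rfl
  obtain ⟨g', hg', hg'v⟩ :=
    (isReceptive_iff.1 (isReceptive_of_isFullyNormalized hS hF hBn)).2 B g hgB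
  set C := centralizerIn S Y with hCdef
  have hconjT : ∀ s ∈ C, ∀ t ∈ T, s * t * s⁻¹ ∈ T := fun s hs t ht =>
    isMap_mem_of_stronglyClosed hT (isMap_conj (F := F) hT.1 hs.1) ht ht
  have hCN : C ≤ nPhi S B g := fun s hs => by
    have hsB : ∀ z ∈ B, s * z * s⁻¹ ∈ B := mem_of_mem_sup (isMap_conj (F := F) hBS hs.1)
      le_sup_left le_sup_right
      (fun w hw => by rw [conj_eq_self_of_mem_centralizer hs.2 hw]; exact Subgroup.mem_sup_left hw)
      fun w hw => Subgroup.mem_sup_right (hconjT s hs w hw)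
    refine ⟨hs.1, mem_normalizer_of_conj_mem hBS hsB, s, hs.1, fun x hx => ?_⟩
    obtain ⟨y, hy, t, ht, rfl⟩ :=
      Residual.exists_mul_of_mem_sup (hTCY.trans inf_le_right) hx
    rw [show s * (y * t) * s⁻¹ = (s * y * s⁻¹) * (s * t * s⁻¹) by group,
      conj_eq_self_of_mem_centralizer hs.2 hy,
      hg.map_mul (Subgroup.mem_sup_left hy) (Subgroup.mem_sup_right (hconjT s hs t ht)),
      hg.map_mul (Subgroup.mem_sup_left hy) (Subgroup.mem_sup_right ht), hgY y hy, hgT t ht,
      hgT _ (hconjT s hs t ht),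
      show s * (autFun α y * t) * s⁻¹ = (s * autFun α y * s⁻¹) * (s * t * s⁻¹) by group,
      conj_eq_self_of_mem_centralizer hs.2 (autFun_mem α hy)]
  set V := Y ⊔ C with hVdef
  have hBV : B ≤ V := sup_le le_sup_left (hTCY.trans le_sup_right)
  have hVN : V ≤ nPhi S B g := sup_le (le_sup_left.trans (le_nPhi hgB.isMap)) hCN
  have hVS : V ≤ S := sup_centralizerIn_le hYS
  have := finite_of_le hVS
  have := finite_mulAut V
  have hYg : ∀ y ∈ Y, g' y = autFun α y := fun y hy =>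
    (hg'v y (Subgroup.mem_sup_left hy)).trans (hgY y hy)
  have := finite_of_le hYS
  have hYi : IsIso F Y Y g' := (hg'.mono (le_sup_left.trans hVN)).isIso_of_card_le
    (fun y hy => by rw [hYg y hy]; exact autFun_mem α hy) le_rfl
  have hg'V : ∀ z ∈ V, g' z ∈ V := mem_of_mem_sup hg' (le_sup_left.trans hVN) hCN
    (fun w hw => Subgroup.mem_sup_left (hYi.mem hw))
    fun w hw => Subgroup.mem_sup_right
      (hg'.mem_centralizerIn (le_sup_left.trans hVN) hYi (hCN hw) hw.2)
  obtain ⟨δ, hδ, hδv⟩ := exists_mem_autGroup ((hg'.mono hVN).isIso_of_card_le hg'V le_rfl)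
  have hδv' : ∀ z ∈ V, autFun δ z = g' z := fun z hz => (autFun_apply δ hz).trans (hδv ⟨z, hz⟩)
  have hδY : ∀ y ∈ Y, autFun δ y = autFun α y := fun y hy => by
    rw [hδv' y (Subgroup.mem_sup_left hy), hYg y hy]
  have hδm := ((mem_autGroup_iff hVS δ).1 hδ).isMap
  set ZY := Y ⊓ Subgroup.centralizer (Y : Set Ω) with hZYdef
  have hZc : ∀ u ∈ ZY, ∀ c ∈ C, Commute u c := fun u hu c hc =>
    Subgroup.mem_centralizer_iff.1 hc.2 u hu.1
  have hZα : ∀ u ∈ ZY, autFun α u ∈ ZY := fun u hu => ⟨autFun_mem α hu.1,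
    mem_centralizer_of_conj_eq fun x hx => by
      obtain ⟨w, hw, hwx⟩ := hYi.surj hx
      have h := hg'.map_conj (hVN (Subgroup.mem_sup_left hu.1)) (hVN (Subgroup.mem_sup_left hw))
      rw [conj_eq_self_of_mem_centralizer hu.2 hw, hYg u hu.1, hwx] at h
      exact h.symm⟩
  obtain ⟨m, hm1, hmo⟩ := Residual.exists_pPrime_pow (p := p) δ hαo
  refine ⟨δ ^ m, Subgroup.pow_mem _ hδ m, fun x hx => ?_, fun c hc => ?_⟩
  · rw [autFun_pow_eq le_sup_left hδY m x hx, Residual.pow_eq_self_of_modEq hm1]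
  have hcV : c ∈ V := Subgroup.mem_sup_right hc
  set y := c⁻¹ * autFun δ c with hydef
  have hδcC : autFun δ c ∈ C := autFun_mem_centralizerIn le_sup_left hδ hVS hδY hc hcV
  have hyC : y ∈ C := Subgroup.mul_mem _ (Subgroup.inv_mem _ hc) hδcC
  have hyT : y ∈ centralizerIn S T := by
    refine ⟨hyC.1, mem_centralizer_of_conj_eq fun t ht => ?_⟩
    have hct : c⁻¹ * t * c ∈ T := by
      have h := hconjT c⁻¹ (Subgroup.inv_mem _ hc) t ht
      rwa [inv_inv] at h
    have h1 := hδm.map_conj hcV (hBV (Subgroup.mem_sup_right hct))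
    rw [show c * (c⁻¹ * t * c) * c⁻¹ = t by group, hδv' t (hBV (Subgroup.mem_sup_right ht)),
      hδv' (c⁻¹ * t * c) (hBV (Subgroup.mem_sup_right hct)),
      hg'v t (Subgroup.mem_sup_right ht), hg'v (c⁻¹ * t * c) (Subgroup.mem_sup_right hct),
      hgT t ht, hgT _ hct] at h1
    have h2 : autFun δ c * (c⁻¹ * t * c) = t * autFun δ c := by
      conv_rhs => rw [h1]
      group
    calc y * t * y⁻¹ = c⁻¹ * (autFun δ c * t * (autFun δ c)⁻¹) * c := by rw [hydef]; group
      _ = t := by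
        have h3 := hδm.map_conj hcV (hBV (Subgroup.mem_sup_right ht))
        rw [hδv' (c * t * c⁻¹) (hBV (Subgroup.mem_sup_right (hconjT c hc t ht))),
          hδv' t (hBV (Subgroup.mem_sup_right ht)),
          hg'v t (Subgroup.mem_sup_right ht),
          hg'v _ (Subgroup.mem_sup_right (hconjT c hc t ht)),
          hgT t ht, hgT _ (hconjT c hc t ht)] at h3
        rw [← h3]
        group
  have hCTm : IsMap F V (autFun δ) := hδm
  have hfix : ∀ t ∈ T, autFun δ t = t := fun t ht => by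
    rw [hδv' t (hBV (Subgroup.mem_sup_right ht)), hg'v t (Subgroup.mem_sup_right ht), hgT t ht]
  set z := y⁻¹ * autFun δ y with hzdef
  have hzY : z ∈ Y :=
    hYeq ▸ focal_le_centE hS hF hE (centralizerSystem F T hT.1) (fun _ => rfl)
      (mem_focal hT.1 hCTm (hTCY.trans le_sup_right) (Subgroup.mem_sup_right hyC) hyT hfix)
  have hzC : z ∈ C := Subgroup.mul_mem _ (Subgroup.inv_mem _ hyC)
    (autFun_mem_centralizerIn le_sup_left hδ hVS hδY hyC (Subgroup.mem_sup_right hyC))
  have hzZ : z ∈ ZY := ⟨hzY, hzC.2⟩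
  have hk : ∀ k : ℕ, ∃ u ∈ ZY, autFun (δ ^ k) c = c * y ^ k * u := by
    intro k
    induction k with
    | zero => exact ⟨1, ZY.one_mem, by rw [pow_zero, pow_zero, autFun_one hcV]; simp⟩
    | succ k ih =>
      obtain ⟨u, hu, he⟩ := ih
      have hyV : y ∈ V := Subgroup.mem_sup_right hyC
      have huV : u ∈ V := Subgroup.mem_sup_left hu.1
      have hpow : autFun δ (y ^ k) = (autFun δ y) ^ k := by
        have := hδm.map_zpow hyV (k : ℤ)
        rwa [zpow_natCast, zpow_natCast] at this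
      refine ⟨z ^ k * autFun α u, ZY.mul_mem (ZY.pow_mem hzZ k) (hZα u hu), ?_⟩
      rw [pow_succ', autFun_mul _ _ hcV, he,
        hδm.map_mul (V.mul_mem hcV (V.pow_mem hyV k)) huV, hδm.map_mul hcV (V.pow_mem hyV k),
        hpow, show autFun δ y = y * z by rw [hzdef]; group, (hZc z hzZ y hyC).symm.mul_pow,
        hδY u hu.1, pow_succ', show autFun δ c = c * y by rw [hydef]; group]
      group
  obtain ⟨u, hu, he⟩ := hk (m * orderOf (δ ^ m))
  rw [show δ ^ (m * orderOf (δ ^ m)) = 1 by rw [pow_mul, pow_orderOf_eq_one],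
    autFun_one hcV, mul_assoc, left_eq_mul] at he
  have hyn : (y ^ m) ^ orderOf (δ ^ m) ∈ ZY := by
    rw [← pow_mul, eq_inv_of_mul_eq_one_left he]
    exact ZY.inv_mem hu
  obtain ⟨j, hj⟩ := ModelNormal.exists_pow_eq_one hS (S.pow_mem hyC.1 m)
  have hym : y ^ m ∈ ZY :=
    ModelNormal.mem_of_pow_mem_coprime (hmo.pow_right j) hyn (hj ▸ ZY.one_mem)
  obtain ⟨u', hu', he'⟩ := hk m
  rw [he', show c⁻¹ * (c * y ^ m * u') = y ^ m * u' by group]
  exact ZY.mul_mem hym hu'

/-- The centraliser system of a normal subsystem, covering the automorphisms of order prime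
to `p` of `C_F(T)`. -/
theorem exists_centralizer_system_cov (hS : IsPGroup p S) (hF : F.IsSaturated p)
    (hE : E.IsNormalIn F p) :
    ∃ D : FusionSystem (centE E F p hE.1.2.2.2.1.1), D.IsNormalIn F p ∧
      (∀ P : Subgroup Ω, D.Hom P ⊆ F.centralizerHom T P) ∧
      PowerIndex.Cov (centralizerSystem F T hE.1.2.2.2.1.1) p (centE E F p hE.1.2.2.2.1.1) D := by
  have hT : F.StronglyClosed T := hE.1.2.2.2.1
  have hsc := stronglyClosed_centE hS hF hE
  set Y := centE E F p hE.1.2.2.2.1.1 with hYdef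
  have hY : Y ≤ centralizerIn S T := centE_le _
  have hYS := hsc.1
  have hTn := isFullyNormalized_of_closed (F := F) hT.1
    fun P f hf x hx hxT => isMap_mem_of_stronglyClosed hT hf hx hxT
  set C := centralizerSystem F T hT.1 with hCdef
  have := finite_of_le (S := S) (P := centralizerIn S T) inf_le_left
  have hCp : IsPGroup p (centralizerIn S T) := hS.to_le inf_le_left
  have hCs : C.IsSaturated p := isSaturated_centralizerSystem hS hF
    (isFullyCentralized_of_isFullyNormalized hS hF hTn) fun _ => rfl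
  have hhyp : C.hyperfocalSubgroup p ≤ Y :=
    hyperfocal_le_focal.trans (focal_le_centE hS hF hE C fun _ => rfl)
  obtain ⟨D, hD, hDC, hcov, hfac⟩ :=
    PowerIndex.exists_subsystem Y _ (centralizerIn S T) rfl hCp C hCs hY hhyp
  have hYp : IsPGroup p Y := hS.to_le hYS
  have hDF : D.IsSubsystemOf F := fun P φ hφ => (hDC P hφ).1
  have := finite_of_le hYS
  refine ⟨D, ⟨⟨hD, hF, hDF, hsc, ?_, ?_⟩, ?_⟩, fun P => hDC P, hcov⟩
  · intro P hPT φ hφ a ha
    have hai := (F.autGroup Y).inv_mem ha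
    have hM := PPrime.isSubPred_conjd (F := D) (E := D) a⁻¹
    have hcov' : PowerIndex.Cov C p Y (PPrime.ofPred D _ hM) := by
      intro R hR α hα ho
      have hi : IsIso F R (imageAut a R) (autFun a) :=
        ⟨((mem_autGroup_iff hYS a).1 ha).isMap.mono hR, coe_imageAut a hR⟩
      have hRC : R ≤ centralizerIn S T := hR.trans hY
      have hαD := hcov R hR α hα ho
      have htr := isMap_cent_transport hS hF hT hsc hY ha hR
        ((mem_autGroup_iff hRC α).1 hα).isMap fun x hx => hR (autFun_mem α hx)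
      have hβ : MulAut.congr hi.equiv α ∈ C.autGroup (imageAut a R) := by
        refine mem_autGroup_of_isMap htr _ fun y => ?_
        obtain ⟨x, rfl⟩ := hi.equiv.surjective y
        rw [hi.congr_apply, Function.comp_apply, Function.comp_apply, hi.equiv_apply,
          autFun_inv_self a (hR x.2), autFun_coe]
      have h := hcov _ (imageAut_le _ _) _ hβ (by rwa [MulEquiv.orderOf_eq])
      refine mem_autGroup_of_isMap ((PPrime.isMap_ofPred hM).2
        ⟨((mem_autGroup_iff hR α).1 hαD).isMap, ?_⟩) α fun x => (autFun_coe α x).symm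
      rw [inv_inv]
      refine ((mem_autGroup_iff (imageAut_le _ _) _).1 h).isMap.congr fun y hy => ?_
      obtain ⟨x, hx, rfl⟩ := hi.surj hy
      show _ = autFun a (autFun α (autFun a⁻¹ (autFun a x)))
      rw [autFun_inv_self a (hR hx), autFun_apply α hx, autFun_apply _ hy]
      exact hi.congr_apply α ⟨x, hx⟩
    have h1 := ((PPrime.isMap_ofPred hM).1
      (isMap_of_subsystem (PowerIndex.le_of_cov hCp hY hD hDC le_rfl hcov') (isMap_homFun hφ))).2
    rw [inv_inv] at h1
    obtain ⟨χ, hχ, hχv⟩ := h1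
    refine ⟨χ, hχ, fun x hφx hax => ?_⟩
    refine (hχv ⟨_, hax⟩).trans ?_
    show autFun a (homFun φ (autFun a⁻¹ ((a ⟨x, hPT x.2⟩ : Y) : Ω))) = _
    rw [← autFun_apply a (hPT x.2), autFun_inv_self a (hPT x.2), homFun_coe, autFun_apply a hφx]
  · intro P hP φ hφ
    obtain ⟨-, a, ha, hc⟩ := fct hS hF hE hsc (isMap_homFun hφ)
    rw [inf_eq_left.2 hP] at hc
    obtain ⟨s, hs, f₀, hf₀, hv⟩ := hfac P hP _ hc
    have hsn : s ∈ Subgroup.normalizer (Y : Set Ω) := mem_normalizer_of_conj_mem hYS fun x hx =>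
      isMap_mem_of_stronglyClosed hsc (isMap_conj (F := F) hYS hs.1) hx hx
    obtain ⟨φ₀, hφ₀, hv₀⟩ := hf₀
    refine ⟨a * conjAut Y hsn, Subgroup.mul_mem _ ha
      (autInducedBy_le_autGroup hYS (conjAut_mem_autInducedBy hsn hs.1)), φ₀, hφ₀, fun x hx => ?_⟩
    have e := hv x x.2
    simp only [Function.comp_apply, homFun_coe] at e
    rw [← hv₀ x] at e
    have hfx : φ x ∈ Y := by
      have h := isMap_mem_of_stronglyClosed hsc (isMap_homFun hφ) x.2 (hP x.2)
      rwa [homFun_coe] at h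
    rw [← autFun_apply (a * conjAut Y hsn) hx, autFun_mul _ _ hx,
      autFun_apply (conjAut Y hsn) hx, conjAut_apply, ← e, autFun_self_inv a hfx]
  · intro α hα
    obtain ⟨x, hx, m, hmo, hxv⟩ := Residual.exists_inner_mul hYp hD hα
    obtain ⟨β, hβ, hβY, hβC⟩ := exists_ext_cent hS hF hE hYdef hsc (α := α ^ m)
      (mem_autGroup_of_isMap (isMap_of_subsystem hDC
        ((mem_autGroup_iff le_rfl _).1 (Subgroup.pow_mem _ hα m)).isMap) _
          fun y => (autFun_coe _ y).symm) hmo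
    have hXS : Y ⊔ (centralizerIn S Y) ≤ S := sup_centralizerIn_le hYS
    have hxn : x⁻¹ ∈ Subgroup.normalizer ((Y ⊔ (centralizerIn S Y) : Subgroup Ω) : Set Ω) :=
      mem_normalizer_of_conj_mem hXS fun y hy =>
        Subgroup.mul_mem _ (Subgroup.mul_mem _ (Subgroup.mem_sup_left (Y.inv_mem hx)) hy)
          (Subgroup.inv_mem _ (Subgroup.mem_sup_left (Y.inv_mem hx)))
    refine ⟨conjAut (Y ⊔ (centralizerIn S Y)) hxn * β, Subgroup.mul_mem _ (autInducedBy_le_autGroup hXS
      (conjAut_mem_autInducedBy hxn (hYS (Y.inv_mem hx)))) hβ, fun t => ?_, fun c hc => ?_⟩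
    · rw [MulAut.mul_apply, conjAut_apply, ← autFun_coe β]
      show x⁻¹ * autFun β t * x⁻¹⁻¹ = _
      rw [hβY t t.2, autFun_coe, hxv]
      group
    · have h := hβC c hc
      rw [MulAut.mul_apply, conjAut_apply, ← autFun_coe β]
      have hcC : autFun β (c : Ω) ∈ (centralizerIn S Y) :=
        autFun_mem_centralizerIn le_sup_left hβ hXS hβY hc c.2
      rw [conj_eq_self_of_mem_centralizer
        (Subgroup.mem_centralizer_iff.2 fun w hw =>
          (Subgroup.mem_centralizer_iff.1 (Subgroup.mem_inf.1 hw).2 _ (Y.inv_mem hx)).symm :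
            x⁻¹ ∈ Subgroup.centralizer ((centralizerIn S Y) : Set Ω)) hcC]
      exact h

/-- The centraliser system of a normal subsystem. -/
theorem exists_centralizer_system (hS : IsPGroup p S) (hF : F.IsSaturated p)
    (hE : E.IsNormalIn F p) :
    ∃ D : FusionSystem (centE E F p hE.1.2.2.2.1.1), D.IsNormalIn F p ∧
      ∀ P : Subgroup Ω, D.Hom P ⊆ F.centralizerHom T P :=
  let ⟨D, h1, h2, _⟩ := exists_centralizer_system_cov hS hF hE
  ⟨D, h1, h2⟩

end CfsgLib.Fusion.NormalCentralizer
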