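import Cfsg.Agent.Lib.Fusion.Layer
import Cfsg.Agent.Lib.Fusion.NormalCentralizerSystem

/-!
A strongly closed central subgroup of the support is central in the least subsystem of index prime
to `p`.
-/

set_option autoImplicit false
set_option linter.unusedSectionVars false

namespace CfsgLib.Fusion.PPrime

open Cfsg Cfsg.FusionSystem
open NormalCentralizer

variable {Ω : Type*} [Group Ω] {S A : Subgroup Ω} {F : FusionSystem S} {p : ℕ}

/-- The maps fixing the elements of `A`. -/
def FixA (F : FusionSystem S) (A P : Subgroup Ω) (f : Ω → Ω) : Prop :=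
  IsMap F P f ∧ ∀ x ∈ P, x ∈ A → f x = x

theorem isSubPred_fixA (hA : F.StronglyClosed A) (hc : ∀ a ∈ A, ∀ s ∈ S, a * s = s * a) :
    IsSubPred F (FixA F A) where
  isMap h := h.1
  congr h he := ⟨h.1.congr he, fun x hx hxA => (he x hx).symm.trans (h.2 x hx hxA)⟩
  conj := fun {P g} hP hg => ⟨isMap_conj hP hg, fun x _ hxA => by
    show g * x * g⁻¹ = x
    rw [← hc x hxA g hg, mul_inv_cancel_right]⟩
  comp := fun {P Q f g} hf hg hm => ⟨hf.1.comp hg.1 hm, fun x hx hxA => by
    have h1 := hf.2 x hx hxA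
    show g (f x) = x
    rw [h1]
    exact hg.2 x (h1 ▸ hm x hx) hxA⟩
  inv := fun {P Q f r} hf hi hr h1 => ⟨hr.isMap, fun x hx hxA => by
    obtain ⟨y, hy, rfl⟩ := hi.surj hx
    have hyA : y ∈ A := h1 y hy ▸ isMap_mem_of_stronglyClosed hA hr.isMap hx hxA
    rw [h1 y hy, hf.2 y hy hyA]⟩

variable [Fact p.Prime] [Finite S]

/-- A central strongly closed subgroup is central in `E0`. -/
theorem isCentral_E0 (hS : IsPGroup p S) (hF : F.IsSaturated p) (hA : F.StronglyClosed A)
    (hc : ∀ a ∈ A, ∀ s ∈ S, a * s = s * a) : (E0 F p).IsCentral A := by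
  have hsub := isSubPred_fixA hA hc
  have hAP : ∀ P : Subgroup Ω, F.IsCentric P → A ≤ P := fun P hP a ha =>
    hP.2 P (isConj_refl hP.1) ⟨hA.1 ha, Subgroup.mem_centralizer_iff.2 fun x hx =>
      (hc a ha x (hP.1 hx)).symm⟩
  have hAn : F.IsFullyNormalized A :=
    isFullyNormalized_of_closed hA.1 fun P f hf x hx hxA => isMap_mem_of_stronglyClosed hA hf hx hxA
  obtain ⟨-, R, hR⟩ := isFullyAutomized_of_isFullyNormalized hS hF hAn
  have hR1 : (R : Subgroup (F.autGroup A)) = ⊥ := by
    rw [hR, eq_bot_iff]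
    rintro β hβ
    obtain ⟨g, hg, hv⟩ := (mem_autInducedBy_iff S A β).1 hβ
    refine Subgroup.mem_bot.2 (Subtype.ext (MulEquiv.ext fun x => Subtype.ext ?_))
    rw [hv, ← hc x x.2 g hg, mul_inv_cancel_right]
    rfl
  have hclosed : Closed F p (ofPred F _ hsub) := by
    refine ⟨fun P hP => ?_, fun a ha P hP hm => ?_⟩
    · rintro _ ⟨a, ha, rfl⟩
      induction ha using Subgroup.closure_induction with
      | mem a ha =>
        obtain ⟨k, hk⟩ := ha
        have hPS := hP.1
        have := finite_of_le hPS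
        have hm := ((mem_autGroup_iff hPS (a : MulAut P)).1 a.2).isMap
        have := finite_of_le hA.1
        have hmA : ∀ x ∈ A, autFun (a : MulAut P) x ∈ A := fun x hx =>
          isMap_mem_of_stronglyClosed hA hm (hAP P hP hx) hx
        obtain ⟨β, hβ, hβv⟩ := exists_mem_autGroup
          ((hm.mono (hAP P hP)).isIso_of_card_le hmA le_rfl)
        have hav : ∀ x ∈ A, autFun (a : MulAut P) x = autFun β x := fun x hx => by
          rw [autFun_apply β hx, hβv]
        have hpow := autFun_pow_eq (hAP P hP) hav (p ^ k)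
        have ha1 : (a : MulAut P) ^ (p ^ k) = 1 := by
          rw [← Subgroup.coe_pow, ← hk, pow_orderOf_eq_one, Subgroup.coe_one]
        have hb1 : (⟨β, hβ⟩ : F.autGroup A) ^ (p ^ k) = 1 := by
          refine Subtype.ext (MulEquiv.ext fun x => Subtype.ext ?_)
          show ((β ^ (p ^ k)) x : Ω) = x
          rw [← autFun_coe (β ^ (p ^ k)), ← hpow x x.2, ha1, autFun_one (hAP P hP x.2)]
        have hQ : IsPGroup p (Subgroup.zpowers (⟨β, hβ⟩ : F.autGroup A)) := by
          rw [IsPGroup]
          rintro ⟨_, n, rfl⟩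
          exact ⟨k, Subtype.ext (by
            rw [Subgroup.coe_pow, Subgroup.coe_one]
            show ((⟨β, hβ⟩ : F.autGroup A) ^ n) ^ (p ^ k) = 1
            rw [← zpow_natCast, ← zpow_mul, mul_comm, zpow_mul, zpow_natCast, hb1, one_zpow])⟩
        have hb : (⟨β, hβ⟩ : F.autGroup A) = 1 := by
          have h1 := R.3 hQ (hR1 ▸ bot_le)
          rw [hR1, Subgroup.zpowers_eq_bot] at h1
          exact h1
        refine mem_autGroup_of_isMap ((isMap_ofPred hsub).2 ⟨hm, fun x hx hxA => ?_⟩) _
          fun x => (autFun_coe (a : MulAut P) x).symm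
        rw [hav x hxA, show β = 1 from congrArg Subtype.val hb, autFun_one hxA]
      | one => exact Subgroup.one_mem _
      | mul a b _ _ iha ihb => exact Subgroup.mul_mem _ iha ihb
      | inv a _ iha => exact Subgroup.inv_mem _ iha
    · refine mem_autGroup_of_isMap ((isMap_ofPred hsub).2
        ⟨((mem_autGroup_iff le_rfl a).1 ha).isMap, fun x _ hxA => ?_⟩) a
        fun x => (autFun_coe a x).symm
      exact ((isMap_ofPred hsub).1 hm).2 x (hAP P hP hxA) hxA
  exact isCentral_of_fixed hS (isPPrimeResidual_E0 hS hF).1 hA.1 fun P f hf x hx hxA =>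
    ((isMap_ofPred hsub).1 (isMap_of_subsystem (meet_le hclosed) hf)).2 x hx hxA

end CfsgLib.Fusion.PPrime
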