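import Cfsg.Agent.Lib.Fusion.CommutingProduct

/-!
Normal subsystems of a factor of a commuting product are normal in the product.
-/

set_option autoImplicit false
set_option linter.unusedSectionVars false

namespace CfsgLib.Fusion.CommProduct

open Cfsg Cfsg.FusionSystem
open CfsgLib.Fusion.NormalCentralizer

variable {Ω : Type*} [Group Ω] {S T₁ T₂ T U V : Subgroup Ω} {F : FusionSystem S}
  {E₁ : FusionSystem T₁} {E₂ : FusionSystem T₂} {D : FusionSystem U} {C : FusionSystem T}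
  {E : FusionSystem V} {p : ℕ} [Fact p.Prime] [Finite S]

/-- A normal subsystem of a full subsystem is normal, given the extension condition. -/
theorem isNormalIn_of_full (hUS : U ≤ S) (hD : D.IsSaturated p) (hC : C.IsNormalIn E p)
    (hED : E.IsSubsystemOf D) (hV : D.StronglyClosed V)
    (hfull : ∀ (P : Subgroup Ω) (f : Ω → Ω), P ≤ V → IsMap D P f → IsMap E P f)
    (hext : ∀ α : MulAut T, MeetNormal.ExtT E T α → MeetNormal.ExtT D T α) :
    C.IsNormalIn D p := by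
  have hI := hC.1.2.2
  have hTV : T ≤ V := hI.2.1.1
  have hTU : T ≤ U := hTV.trans hV.1
  have := finite_of_le hUS
  refine ⟨⟨hC.1.1, hD, fun P φ hφ => hED P (hI.1 P hφ), stronglyClosed_iff.2 ⟨hTU,
    fun P f hf x hx hxT => ?_⟩, fun P hP φ hφ α hα => ?_, fun P hP φ hφ => ?_⟩,
    fun α hα => MeetNormal.exists_ext_aut hTU (hext α (MeetNormal.extT_of_isNormalIn hC hα))⟩
  · have hle : P ⊓ V ≤ P := inf_le_left
    exact isMap_mem_of_stronglyClosed hI.2.1 (hfull _ f inf_le_right (hf.mono hle))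
      ⟨hx, hTV hxT⟩ hxT
  · refine hI.2.2.1 P hP φ hφ α (mem_autGroup_of_isMap (hfull _ _ hTV
      ((mem_autGroup_iff hTU α).1 hα).isMap) α fun x => (autFun_coe α x).symm)
  · obtain ⟨a, ha, f₀, hf₀, hv⟩ :=
      exists_frattini hI hP (hfull P _ (hP.trans hTV) (isMap_homFun hφ))
    obtain ⟨φ₀, hφ₀, hφ₀v⟩ := hf₀.exists_hom
    refine ⟨a, (mem_autGroup_iff hTU a).2 (((mem_autGroup_iff hTV a).1 ha).of_subsystem hED), φ₀,
      hφ₀, fun x hx => ?_⟩
    rw [← homFun_coe φ x, hv x x.2, ← hφ₀v x, autFun_apply a hx]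

namespace Data

variable (h : Data F p E₁ E₂ D)
include h

theorem full₁ {P : Subgroup Ω} {f : Ω → Ω} (hP : P ≤ T₁) (hf : IsMap D P f) : IsMap E₁ P f := by
  obtain ⟨-, P₁, e₁, P₂, e₂, he₁, he₂, hv⟩ := h.isMap_iff.1 hf
  have hv' : ∀ x ∈ P, x ∈ P₁ ∧ f x = e₁ x := fun x hx => by
    obtain ⟨h1, h2, h3⟩ := hv x (hP hx) 1 T₂.one_mem (by rwa [mul_one])
    rw [he₂.map_one, mul_one, mul_one] at h3
    exact ⟨h1, h3⟩
  exact (he₁.mono fun x hx => (hv' x hx).1).congr fun x hx => (hv' x hx).2.symm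

theorem full₂ {P : Subgroup Ω} {f : Ω → Ω} (hP : P ≤ T₂) (hf : IsMap D P f) : IsMap E₂ P f := by
  obtain ⟨-, P₁, e₁, P₂, e₂, he₁, he₂, hv⟩ := h.isMap_iff.1 hf
  have hv' : ∀ x ∈ P, x ∈ P₂ ∧ f x = e₂ x := fun x hx => by
    obtain ⟨h1, h2, h3⟩ := hv 1 T₁.one_mem x (hP hx) (by rwa [one_mul])
    rw [he₁.map_one, one_mul, one_mul] at h3
    exact ⟨h2, h3⟩
  exact (he₂.mono fun x hx => (hv' x hx).1).congr fun x hx => (hv' x hx).2.symm

theorem sub₁ : E₁.IsSubsystemOf D := fun P φ hφ => by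
  have hm := isMap_homFun hφ
  have hA : ∀ u ∈ T₁, ∀ v ∈ T₂, u * v ∈ P → u ∈ P ⊔ (T₁ ⊓ T₂) ∧ v ∈ T₂ :=
    fun u hu v hv hx => by
      refine ⟨?_, hv⟩
      have hv1 : v ∈ T₁ ⊓ T₂ := ⟨by
        have := T₁.mul_mem (T₁.inv_mem hu) (hm.le hx)
        rwa [inv_mul_cancel_left] at this, hv⟩
      have := Subgroup.mul_mem_sup hx (Subgroup.inv_mem _ hv1)
      rwa [mul_inv_cancel_right] at this
  obtain ⟨g, hg, hge, -⟩ := (isCentral_iff.1
    (isCentral_inf h.pgroup h.sat h.n₁ h.closed₂ h.le₁)).2 P _ hm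
  obtain ⟨f, hf, hfv⟩ := h.exists_map (hm.le.trans h.left_le) hg (isMap_id (F := E₂) le_rfl) hA
  refine (mem_hom_iff φ).2 (hf.congr fun x hx => ?_)
  have h1 := hfv x (hm.le hx) 1 T₂.one_mem (by rwa [mul_one])
  rw [mul_one, id, mul_one] at h1
  rw [h1, hge x hx]

theorem sub₂ : E₂.IsSubsystemOf D := fun P φ hφ => by
  have hm := isMap_homFun hφ
  have hA : ∀ u ∈ T₁, ∀ v ∈ T₂, u * v ∈ P → u ∈ T₁ ∧ v ∈ P ⊔ (T₂ ⊓ T₁) :=
    fun u hu v hv hx => by
      refine ⟨hu, ?_⟩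
      have hu1 : u ∈ T₂ ⊓ T₁ := ⟨by
        have := T₂.mul_mem (hm.le hx) (T₂.inv_mem hv)
        rwa [mul_inv_cancel_right] at this, hu⟩
      have := Subgroup.mul_mem (P ⊔ (T₂ ⊓ T₁))
        (Subgroup.mem_sup_right (Subgroup.inv_mem _ hu1)) (Subgroup.mem_sup_left hx)
      rwa [inv_mul_cancel_left] at this
  obtain ⟨g, hg, hge, -⟩ := (isCentral_iff.1
    (isCentral_inf h.pgroup h.sat h.n₂ h.closed₁ h.le₂)).2 P _ hm
  obtain ⟨f, hf, hfv⟩ := h.exists_map (hm.le.trans h.right_le) (isMap_id (F := E₁) le_rfl) hg hA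
  refine (mem_hom_iff φ).2 (hf.congr fun x hx => ?_)
  have h1 := hfv 1 T₁.one_mem x (hm.le hx) (by rwa [one_mul])
  rw [one_mul, id, one_mul] at h1
  rw [h1, hge x hx]

/-- A normal subsystem of the first factor is normal in the product. -/
theorem isNormalIn₁ (hC : C.IsNormalIn E₁ p) : C.IsNormalIn D p := by
  have hTT : T ≤ T₁ := hC.1.2.2.2.1.1
  have hUS := h.le_S
  refine isNormalIn_of_full hUS h.isSaturated hC h.sub₁ (stronglyClosed_iff.2 ⟨h.left_le,
    fun P f hf x hx hxT => isMap_mem_of_stronglyClosed h.closed₁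
      (isMap_of_subsystem h.isSubsystemOf hf) hx hxT⟩) (fun P f hP hf => h.full₁ hP hf)
    fun α ⟨g, hg, hgv, hgc⟩ => ?_
  have hdec : ∀ c ∈ centralizerIn U T, ∀ u ∈ T₁, ∀ v ∈ T₂, u * v = c →
      u ∈ centralizerIn T₁ T := fun c hc u hu v hv e =>
    ⟨hu, Subgroup.mem_centralizer_iff.2 fun t ht => by
      have h1 := Subgroup.mem_centralizer_iff.1 hc.2 t ht
      rw [← e] at h1
      apply mul_right_cancel (b := v)
      calc t * u * v = u * v * t := by rw [mul_assoc]; exact h1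
        _ = u * t * v := by rw [mul_assoc, ← h.commute (hTT ht) hv, ← mul_assoc]⟩
  have hcov : ∀ u ∈ T₁, ∀ v ∈ T₂, u * v ∈ T ⊔ centralizerIn U T →
      u ∈ T ⊔ centralizerIn T₁ T ∧ v ∈ T₂ := fun u hu v hv hx => by
    refine ⟨?_, hv⟩
    obtain ⟨t, ht, c, hc, e⟩ :=
      Residual.exists_mul_of_mem_sup (Residual.cs_le_centralizer le_rfl) hx
    have h1 := hdec c hc (t⁻¹ * u) (T₁.mul_mem (T₁.inv_mem (hTT ht)) hu) v hv
      (by rw [mul_assoc, e, inv_mul_cancel_left])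
    have := Subgroup.mul_mem (T ⊔ centralizerIn T₁ T) (Subgroup.mem_sup_left ht)
      (Subgroup.mem_sup_right h1)
    rwa [mul_inv_cancel_left] at this
  obtain ⟨f, hf, hfv⟩ := h.exists_map (sup_le (hTT.trans h.left_le) inf_le_left) hg
    (isMap_id (F := E₂) le_rfl) hcov
  refine ⟨f, hf, fun t ht => ?_, fun c hc => ?_⟩
  · have h1 := hfv t (hTT ht) 1 T₂.one_mem (by rw [mul_one]; exact Subgroup.mem_sup_left ht)
    rw [mul_one, id, mul_one] at h1
    rw [h1, hgv t ht]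
  · obtain ⟨u, hu, v, hv, e⟩ := h.exists_mul hc.1
    have hz := hgc u (hdec c hc u hu v hv e)
    have h1 := hfv u hu v hv (e ▸ Subgroup.mem_sup_right hc)
    rw [e, id] at h1
    rw [h1, ← e, show (u * v)⁻¹ * (g u * v) = v⁻¹ * (u⁻¹ * g u) * v by group,
      mul_assoc, h.commute (hTT hz.1) hv, inv_mul_cancel_left]
    exact hz

/-- A normal subsystem of the second factor is normal in the product. -/
theorem isNormalIn₂ (hC : C.IsNormalIn E₂ p) : C.IsNormalIn D p := by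
  have hTT : T ≤ T₂ := hC.1.2.2.2.1.1
  have hUS := h.le_S
  refine isNormalIn_of_full hUS h.isSaturated hC h.sub₂ (stronglyClosed_iff.2 ⟨h.right_le,
    fun P f hf x hx hxT => isMap_mem_of_stronglyClosed h.closed₂
      (isMap_of_subsystem h.isSubsystemOf hf) hx hxT⟩) (fun P f hP hf => h.full₂ hP hf)
    fun α ⟨g, hg, hgv, hgc⟩ => ?_
  have hdec : ∀ c ∈ centralizerIn U T, ∀ u ∈ T₁, ∀ v ∈ T₂, u * v = c →
      v ∈ centralizerIn T₂ T := fun c hc u hu v hv e =>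
    ⟨hv, Subgroup.mem_centralizer_iff.2 fun t ht => by
      have h1 := Subgroup.mem_centralizer_iff.1 hc.2 t ht
      rw [← e] at h1
      apply mul_left_cancel (a := u)
      calc u * (t * v) = t * (u * v) := by rw [← mul_assoc, h.commute hu (hTT ht), mul_assoc]
        _ = u * (v * t) := by rw [h1, mul_assoc]⟩
  have hcov : ∀ u ∈ T₁, ∀ v ∈ T₂, u * v ∈ T ⊔ centralizerIn U T →
      u ∈ T₁ ∧ v ∈ T ⊔ centralizerIn T₂ T := fun u hu v hv hx => by
    refine ⟨hu, ?_⟩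
    obtain ⟨t, ht, c, hc, e⟩ :=
      Residual.exists_mul_of_mem_sup (Residual.cs_le_centralizer le_rfl) hx
    have h1 := hdec c hc u hu (t⁻¹ * v) (T₂.mul_mem (T₂.inv_mem (hTT ht)) hv)
      (by rw [← mul_assoc, h.commute hu (T₂.inv_mem (hTT ht)), mul_assoc, e, inv_mul_cancel_left])
    have := Subgroup.mul_mem (T ⊔ centralizerIn T₂ T) (Subgroup.mem_sup_left ht)
      (Subgroup.mem_sup_right h1)
    rwa [mul_inv_cancel_left] at this
  obtain ⟨f, hf, hfv⟩ := h.exists_map (sup_le (hTT.trans h.right_le) inf_le_left)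
    (isMap_id (F := E₁) le_rfl) hg hcov
  refine ⟨f, hf, fun t ht => ?_, fun c hc => ?_⟩
  · have h1 := hfv 1 T₁.one_mem t (hTT ht) (by rw [one_mul]; exact Subgroup.mem_sup_left ht)
    rw [one_mul, id, one_mul] at h1
    rw [h1, hgv t ht]
  · obtain ⟨u, hu, v, hv, e⟩ := h.exists_mul hc.1
    have hz := hgc v (hdec c hc u hu v hv e)
    have h1 := hfv u hu v hv (e ▸ Subgroup.mem_sup_right hc)
    rw [e, id] at h1
    rw [h1, ← e, show (u * v)⁻¹ * (u * g v) = v⁻¹ * g v by group]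
    exact hz

end Data

end CfsgLib.Fusion.CommProduct
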