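import Cfsg.Agent.Lib.Fusion.CommutingProduct
import Cfsg.Agent.Lib.Fusion.CommutingFactor

/-!
The factors of a central product decomposition of a system are normal in it.
-/

set_option autoImplicit false
set_option linter.unusedSectionVars false

namespace CfsgLib.Fusion.CentralFactor

open Cfsg Cfsg.FusionSystem
open NormalCentralizer (autFun_one)

variable {Ω : Type*} [Group Ω] {S T₁ T₂ : Subgroup Ω} {F : FusionSystem S}
  {F₁ : FusionSystem T₁} {F₂ : FusionSystem T₂} {p : ℕ} [Fact p.Prime] [Finite S]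

/-- What is used of a central product decomposition. -/
structure Split (F : FusionSystem S) (F₁ : FusionSystem T₁) (F₂ : FusionSystem T₂) : Prop where
  le₁ : T₁ ≤ S
  le₂ : T₂ ≤ S
  comm : ∀ u ∈ T₁, ∀ v ∈ T₂, u * v = v * u
  mul : ∀ x ∈ S, ∃ u ∈ T₁, ∃ v ∈ T₂, u * v = x
  maps : ∀ (P : Subgroup Ω) (f : Ω → Ω), IsMap F P f →
    ∃ (P₁ : Subgroup Ω) (e₁ : Ω → Ω) (P₂ : Subgroup Ω) (e₂ : Ω → Ω),
      IsMap F₁ P₁ e₁ ∧ IsMap F₂ P₂ e₂ ∧
      ∀ u ∈ T₁, ∀ v ∈ T₂, u * v ∈ P → u ∈ P₁ ∧ v ∈ P₂ ∧ f (u * v) = e₁ u * e₂ v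
  pair : ∀ a ∈ F₁.autGroup T₁, ∀ b ∈ F₂.autGroup T₂,
    ∃ f, IsMap F S f ∧ ∀ u ∈ T₁, ∀ v ∈ T₂, f (u * v) = autFun a u * autFun b v

theorem exists_split (hc : IsCentralProductOf F₁ F₂ F) : Split F F₁ F₂ := by
  classical
  obtain ⟨D₀, hD₀, Z, θ, hZ, -, -, hθ₁, hθ₂, hfac⟩ := hc
  have le₁ : T₁ ≤ S := fun u hu => hfac.2.2.1.le ⟨⟨(u, 1), hu, T₂.one_mem⟩, hθ₁ u _⟩
  have le₂ : T₂ ≤ S := fun v hv => hfac.2.2.1.le ⟨⟨(1, v), T₁.one_mem, hv⟩, hθ₂ v _⟩
  have hth : ∀ {u v : Ω} (hu : u ∈ T₁) (hv : v ∈ T₂), homExt θ (u, v) = u * v := by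
    intro u v hu hv
    rw [homExt_apply θ (show (u, v) ∈ T₁.prod T₂ from ⟨hu, hv⟩),
      NormalProduct.theta_mul hθ₁ hθ₂ hu hv]
  have hmul : ∀ x ∈ S, ∃ u ∈ T₁, ∃ v ∈ T₂, u * v = x := fun x hx => by
    obtain ⟨⟨⟨u, v⟩, hu, hv⟩, rfl⟩ := hfac.2.2.1.ge hx
    exact ⟨u, hu, v, hv, (NormalProduct.theta_mul hθ₁ hθ₂ hu hv _).symm⟩
  have := finite_of_le le₁
  have := finite_of_le le₂
  have : Finite ↥(T₁.prod T₂) := Finite.of_equiv _ (T₁.prodEquiv T₂).toEquiv.symm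
  refine ⟨le₁, le₂, fun u hu v hv => ?_, hmul, fun P f hf => ?_, fun a ha b hb => ?_⟩
  · have h1 : ((u, 1) : Ω × Ω) ∈ T₁.prod T₂ := ⟨hu, T₂.one_mem⟩
    have h2 : ((1, v) : Ω × Ω) ∈ T₁.prod T₂ := ⟨T₁.one_mem, hv⟩
    rw [← hθ₁ u h1, ← hθ₂ v h2, ← map_mul, ← map_mul]
    exact congrArg θ (Subtype.ext (Prod.ext ((mul_one u).trans (one_mul u).symm)
      ((one_mul v).trans (mul_one v).symm)))
  · obtain ⟨-, g, hg, hgv⟩ := (isMap_factor_iff hfac).1 hf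
    obtain ⟨-, g₁, g₂, hg₁, hg₂, hgp⟩ := (isMap_product_iff hD₀).1 hg
    refine ⟨_, g₁, _, g₂, hg₁, hg₂, fun u hu v hv hx => ?_⟩
    have hm : (u, v) ∈ preimageAlong θ P :=
      (mem_preimageAlong θ P).2 ⟨⟨hu, hv⟩, by rwa [hth hu hv]⟩
    refine ⟨⟨_, hm, rfl⟩, ⟨_, hm, rfl⟩, ?_⟩
    have h1 := hgv _ hm
    rw [hth hu hv, hgp _ hm] at h1
    simp only at h1
    exact h1.trans (hth (hg₁.mem ⟨_, hm, rfl⟩) (hg₂.mem ⟨_, hm, rfl⟩))
  · let g : Ω × Ω → Ω × Ω := fun w => (autFun a w.1, autFun b w.2)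
    have hg : IsMap D₀ (T₁.prod T₂) g := (isMap_product_iff hD₀).2
      ⟨le_rfl, _, _, ((mem_autGroup_iff le_rfl a).1 ha).isMap.mono
        (by rintro _ ⟨w, hw, rfl⟩; exact hw.1),
        ((mem_autGroup_iff le_rfl b).1 hb).isMap.mono (by rintro _ ⟨w, hw, rfl⟩; exact hw.2),
        fun _ _ => rfl⟩
    have hfix : ∀ z ∈ Z, g z = z := fun z hz => by
      obtain ⟨hle, hext⟩ := isCentral_iff.1 (isCentral_center D₀)
      obtain ⟨g', -, hag, hf'⟩ := hext _ g hg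
      rw [← hag z (hle (hZ hz)), hf' z (hZ hz)]
    let f : Ω → Ω := fun x =>
      if hx : ∃ w : Ω × Ω, w ∈ T₁.prod T₂ ∧ homExt θ w = x then homExt θ (g hx.choose) else 1
    have key : ∀ w ∈ T₁.prod T₂, f (homExt θ w) = homExt θ (g w) := by
      intro w hw
      have hex : ∃ w' : Ω × Ω, w' ∈ T₁.prod T₂ ∧ homExt θ w' = homExt θ w := ⟨w, hw, rfl⟩
      show dite _ _ _ = _
      rw [dif_pos hex]
      obtain ⟨hw', he⟩ := hex.choose_spec
      have hz : w⁻¹ * hex.choose ∈ Z := (mem_of_homExt_eq_one hfac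
        (Subgroup.mul_mem _ (Subgroup.inv_mem _ hw) hw')).1 (by
          rw [homExt_mul' θ (Subgroup.inv_mem _ hw) hw', homExt_inv' θ hw, he, inv_mul_cancel])
      calc homExt θ (g hex.choose) = homExt θ (g w * g (w⁻¹ * hex.choose)) := by
            rw [← hg.map_mul hw (hfac.1 hz), mul_inv_cancel_left]
        _ = homExt θ (g w) := by
            rw [hfix _ hz, homExt_mul' θ (hg.mem hw) (hfac.1 hz),
              (mem_of_homExt_eq_one hfac (hfac.1 hz)).2 hz, mul_one]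
    refine ⟨f, (isMap_factor_iff hfac).2 ⟨le_rfl, g, hg.mono (preimageAlong_le θ S),
      fun x hx => key x (preimageAlong_le θ S hx)⟩, fun u hu v hv => ?_⟩
    have h1 := key (u, v) ⟨hu, hv⟩
    rw [hth hu hv] at h1
    rw [h1]
    exact hth (autFun_mem a hu) (autFun_mem b hv)

/-- A full saturated subsystem satisfying the extension condition is normal. -/
theorem isNormalIn_of_full_self {T : Subgroup Ω} {E : FusionSystem T} (hF : F.IsSaturated p)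
    (hE : E.IsSaturated p) (hEF : E.IsSubsystemOf F) (hT : T ≤ S)
    (hfull : ∀ (P : Subgroup Ω) (f : Ω → Ω), P ≤ T → IsMap F P f → IsMap E P f)
    (hext : ∀ α ∈ E.autGroup T, MeetNormal.ExtT F T α) : E.IsNormalIn F p := by
  have := finite_of_le hT
  refine ⟨⟨hE, hF, hEF, stronglyClosed_iff.2 ⟨hT, fun P f hf x hx hxT => ?_⟩,
    fun P hP φ hφ α hα => ?_, fun P hP φ hφ => ?_⟩,
    fun α hα => MeetNormal.exists_ext_aut hT (hext α hα)⟩
  · exact (hfull _ f inf_le_right (hf.mono (inf_le_left : P ⊓ T ≤ P))).mem ⟨hx, hxT⟩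
  · exact (ResidualSeries.isInvariantIn_self E).2.2.1 P hP φ hφ α (mem_autGroup_of_isMap
      (hfull T _ le_rfl ((mem_autGroup_iff hT α).1 hα).isMap) α fun x => (autFun_coe α x).symm)
  · exact ⟨1, Subgroup.one_mem _, φ, (mem_hom_iff φ).2 (hfull P _ hP (isMap_homFun hφ)),
      fun x hx => rfl⟩

variable (h : Split F F₁ F₂)
include h

/-- The first factor is normal. -/
theorem isNormalIn₁ (hF : F.IsSaturated p) (h₁ : F₁.IsSaturated p)
    (h₁F : F₁.IsSubsystemOf F) : F₁.IsNormalIn F p := by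
  refine isNormalIn_of_full_self hF h₁ h₁F h.le₁ (fun P f hP hf => ?_) fun α hα => ?_
  · obtain ⟨P₁, e₁, P₂, e₂, he₁, he₂, hv⟩ := h.maps P f hf
    have hv' : ∀ x ∈ P, x ∈ P₁ ∧ f x = e₁ x := fun x hx => by
      obtain ⟨h1, h2, h3⟩ := hv x (hP hx) 1 T₂.one_mem (by rwa [mul_one])
      rw [he₂.map_one, mul_one, mul_one] at h3
      exact ⟨h1, h3⟩
    exact (he₁.mono fun x hx => (hv' x hx).1).congr fun x hx => (hv' x hx).2.symm
  · obtain ⟨f, hf, hv⟩ := h.pair α hα 1 (Subgroup.one_mem _)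
    refine ⟨f, hf.mono (sup_le h.le₁ inf_le_left), fun t ht => ?_, fun c hc => ?_⟩
    · have e := hv t ht 1 T₂.one_mem
      rwa [mul_one, autFun_one T₂.one_mem, mul_one] at e
    · obtain ⟨u, hu, v, hv', rfl⟩ := h.mul c hc.1
      have hz : u ∈ Subgroup.centralizer (T₁ : Set Ω) :=
        Subgroup.mem_centralizer_iff.2 fun t ht => mul_right_cancel (b := v) (by
          have h1 := Subgroup.mem_centralizer_iff.1 hc.2 t ht
          rw [mul_assoc, h1, mul_assoc, ← h.comm t ht v hv', mul_assoc])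
      have hαu : autFun α u ∈ T₁ ⊓ Subgroup.centralizer (T₁ : Set Ω) := by
        refine ⟨autFun_mem α hu, Subgroup.mem_centralizer_iff.2 fun t ht => ?_⟩
        obtain ⟨s, hs⟩ := α.surjective ⟨t, ht⟩
        have h1 : (s : Ω) * u = u * s := Subgroup.mem_centralizer_iff.1 hz s s.2
        have h2 := congrArg (fun x : T₁ => ((α x : T₁) : Ω))
          (Subtype.ext h1 : s * ⟨u, hu⟩ = ⟨u, hu⟩ * s)
        simp only [map_mul, Subgroup.coe_mul, hs] at h2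
        rw [autFun_apply α hu]
        exact h2
      rw [hv u hu v hv', autFun_one hv', show (u * v)⁻¹ * (autFun α u * v) =
        v⁻¹ * (u⁻¹ * autFun α u) * v by group]
      have hm : u⁻¹ * autFun α u ∈ T₁ ⊓ Subgroup.centralizer (T₁ : Set Ω) :=
        Subgroup.mul_mem _ (Subgroup.inv_mem _ ⟨hu, hz⟩) hαu
      rw [mul_assoc, h.comm _ hm.1 v hv', inv_mul_cancel_left]
      exact hm

/-- The decomposition is symmetric. -/
theorem Split.swap : Split F F₂ F₁ := by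
  refine ⟨h.le₂, h.le₁, fun u hu v hv => (h.comm v hv u hu).symm, fun x hx => ?_,
    fun P f hf => ?_, fun a ha b hb => ?_⟩
  · obtain ⟨u, hu, v, hv, rfl⟩ := h.mul x hx
    exact ⟨v, hv, u, hu, (h.comm u hu v hv).symm⟩
  · obtain ⟨P₁, e₁, P₂, e₂, he₁, he₂, hv⟩ := h.maps P f hf
    refine ⟨P₂, e₂, P₁, e₁, he₂, he₁, fun u hu v hv' hx => ?_⟩
    rw [← h.comm v hv' u hu] at hx ⊢
    obtain ⟨h1, h2, h3⟩ := hv v hv' u hu hx
    exact ⟨h2, h1, h3.trans (h.comm _ (he₁.mem h1) _ (he₂.mem h2))⟩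
  · obtain ⟨f, hf, hv⟩ := h.pair b hb a ha
    refine ⟨f, hf, fun u hu v hv' => ?_⟩
    rw [← h.comm v hv' u hu, hv v hv' u hu, h.comm _ (autFun_mem b hv') _ (autFun_mem a hu)]

theorem isNormalIn₂ (hF : F.IsSaturated p) (h₂ : F₂.IsSaturated p)
    (h₂F : F₂.IsSubsystemOf F) : F₂.IsNormalIn F p := isNormalIn₁ h.swap hF h₂ h₂F

end CfsgLib.Fusion.CentralFactor
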