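import Mathlib
import Cfsg.Agent.Lib.Fusion.CentricExtension
import Cfsg.Agent.Lib.Fusion.PPrimeIndex
import Cfsg.Agent.Lib.Fusion.HyperfocalGroup
import Cfsg.Agent.Lib.Fusion.FactorMorphism
import Cfsg.Agent.Lib.Fusion.NormalExtend
import Cfsg.Agent.Lib.Fusion.Solvable
import Cfsg.Agent.Lib.Fusion.ModelNormalBase

/-!
Lifting a normal subsystem of a central factor system: the lifted system, and the kernel
criterion at fully normalised subgroups.
-/

set_option autoImplicit false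
set_option linter.unusedSectionVars false

namespace CfsgLib.Fusion.CentralLift

open Cfsg Cfsg.FusionSystem

/-! ### The hyperfocal bound inside a finite group -/

/-- If `p'`-elements move the subgroups of a Sylow subgroup that they normalize only inside `T`,
then `T` contains the trace of `O^p`. -/
theorem pResidual_inf_le {G : Type*} [Group G] [Finite G] {p : ℕ} [Fact p.Prime] (S : Sylow p G)
    {T : Subgroup G} (hn : ∀ s ∈ (S : Subgroup G), ∀ t ∈ T, s * t * s⁻¹ ∈ T)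
    (h : ∀ Q : Subgroup G, Q ≤ S → ∀ g : G, (orderOf g).Coprime p →
      (∀ q ∈ Q, g * q * g⁻¹ ∈ Q) → ∀ q ∈ Q, g * q * g⁻¹ * q⁻¹ ∈ T) :
    (S : Subgroup G) ⊓ Cfsg.pResidual p G ≤ T := by
  refine (pResidual_inf_le_hyperfocal S).trans
    (hyperfocal_le_of_coprime fun P α hP hα ho x => ?_)
  rw [autGroup_groupFusionSystem S hP, mem_autInducedBy_iff] at hα
  obtain ⟨u, -, hu⟩ := hα
  obtain ⟨m, hm, hmo⟩ := Residual.exists_pPrime_pow (p := p) u ho
  have hpow : ∀ (k : ℕ) (y : P), ((α ^ k) y : G) = u ^ k * y * (u ^ k)⁻¹ := by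
    intro k
    induction k with
    | zero => intro y; simp
    | succ k ih =>
      intro y
      rw [pow_succ', MulAut.mul_apply, hu, ih, pow_succ', mul_inv_rev]
      group
  have hα' : ∀ y : P, (α y : G) = u ^ m * y * (u ^ m)⁻¹ := fun y => by
    rw [← hpow, Residual.pow_eq_self_of_modEq hm]
  have h1 := h P hP (u ^ m) hmo (fun q hq => hα' ⟨q, hq⟩ ▸ SetLike.coe_mem _) x x.2
  rw [← hα'] at h1
  have h2 := hn _ ((S : Subgroup G).inv_mem (hP x.2)) _ h1
  convert h2 using 1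
  group

variable {Ω : Type*} [Group Ω] {S : Subgroup Ω} {Ω' : Type*} [Group Ω'] {S' T' : Subgroup Ω'}

/-- The maps of `F` between subgroups of a strongly closed subgroup. -/
def below (F : FusionSystem S) (T : Subgroup Ω) (hT : F.StronglyClosed T) : FusionSystem T where
  Hom P := {φ | φ ∈ F.Hom P ∧ P ≤ T}
  le_of_mem hφ := ⟨hφ.2, fun x => by
    have := isMap_mem_of_stronglyClosed hT (isMap_homFun hφ.1) x.2 (hφ.2 x.2)
    rwa [homFun_coe] at this⟩
  injective_of_mem hφ := F.injective_of_mem hφ.1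
  conj_mem hP hg := ⟨F.conj_mem (hP.trans hT.1) (hT.1 hg), hP⟩
  comp_mem hφ hψ hm := ⟨F.comp_mem hφ.1 hψ.1 hm, hφ.2⟩
  inv_mem := by
    intro P φ hφ
    obtain ⟨ψ, hψ, hv⟩ := F.inv_mem hφ.1
    refine ⟨ψ, ⟨hψ, ?_⟩, hv⟩
    rintro _ ⟨x, rfl⟩
    have := isMap_mem_of_stronglyClosed hT (isMap_homFun hφ.1) x.2 (hφ.2 x.2)
    rwa [homFun_coe] at this

variable {F : FusionSystem S} {T : Subgroup Ω} {hT : F.StronglyClosed T}

theorem isMap_below {P : Subgroup Ω} {f : Ω → Ω} :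
    IsMap (below F T hT) P f ↔ IsMap F P f ∧ P ≤ T := by
  constructor
  · rintro ⟨φ, hφ, hv⟩
    exact ⟨⟨φ, hφ.1, hv⟩, hφ.2⟩
  · rintro ⟨⟨φ, hφ, hv⟩, hP⟩
    exact ⟨φ, ⟨hφ, hP⟩, hv⟩

/-! ### The setting -/

variable {F' : FusionSystem S'} {E : FusionSystem T'} {θ : S →* Ω'} {Z : Subgroup Ω} {p : ℕ}

/-- A normal subsystem of a central factor system. -/
structure Data (F : FusionSystem S) (p : ℕ) (Z : Subgroup Ω) (θ : S →* Ω') (F' : FusionSystem S')
    (E : FusionSystem T') : Prop where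
  pgroup : IsPGroup p S
  sat : F.IsSaturated p
  central : F.IsCentral Z
  factor : F.IsFactorSystem Z θ F'
  normal : E.IsNormalIn F' p

namespace Data

variable (h : Data F p Z θ F' E)
include h

theorem inv' : E.IsInvariantIn F' := h.normal.1.2.2
theorem sat' : F'.IsSaturated p := h.normal.1.2.1
theorem satE : E.IsSaturated p := h.normal.1.1
theorem TS' : T' ≤ S' := h.inv'.2.1.1
theorem ZS : Z ≤ S := h.central.1

theorem finite' [Finite S] : Finite S' :=
  h.factor.2.2.1 ▸ Finite.of_surjective _ θ.rangeRestrict_surjective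

theorem pgroup' : IsPGroup p S' :=
  h.factor.2.2.1 ▸ h.pgroup.of_surjective _ θ.rangeRestrict_surjective

theorem commutes {z x : Ω} (hz : z ∈ Z) (hx : x ∈ S) : z * x = x * z :=
  (Subgroup.mem_centralizer_iff.1
    (F.center_le_centralizer (le_sSup (show Z ∈ {Q | F.IsCentral Q} from h.central) hz)) x hx).symm

theorem eq_iff {x y : Ω} (hx : x ∈ S) (hy : y ∈ S) :
    homExt θ x = homExt θ y ↔ x⁻¹ * y ∈ Z := by
  rw [← mem_of_homExt_eq_one h.factor (S.mul_mem (S.inv_mem hx) hy),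
    homExt_mul' θ (S.inv_mem hx) hy, homExt_inv' θ hx, inv_mul_eq_one]

theorem image_le {P : Subgroup Ω} : imageAlong θ P ≤ S' := by
  rintro _ ⟨s, -, rfl⟩
  exact h.factor.2.2.1.le ⟨s, rfl⟩

theorem image_le_T {P : Subgroup Ω} (hP : P ≤ preimageAlong θ T') : imageAlong θ P ≤ T' := by
  rintro _ ⟨s, hs, rfl⟩
  have := ((mem_preimageAlong θ T').1 (hP hs)).2
  rwa [Subgroup.coe_subtype, homExt_apply θ s.2] at this

theorem preimage_image {P : Subgroup Ω} (hP : P ≤ S) (hZ : Z ≤ P) :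
    preimageAlong θ (imageAlong θ P) = P := by
  rw [preimageAlong_imageAlong h.factor hP, sup_eq_left.2 hZ]

theorem image_preimage {P' : Subgroup Ω'} (hP : P' ≤ S') :
    imageAlong θ (preimageAlong θ P') = P' := by
  ext y
  rw [mem_imageAlong_iff (preimageAlong_le θ P')]
  constructor
  · rintro ⟨x, hx, rfl⟩
    exact ((mem_preimageAlong θ P').1 hx).2
  · exact exists_mem_preimageAlong (hP.trans h.factor.2.2.1.ge)

theorem Z_le_T : Z ≤ preimageAlong θ T' := le_preimageAlong h.factor T'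

theorem fix {P : Subgroup Ω} {f : Ω → Ω} (hf : IsMap F P f) {x : Ω} (hx : x ∈ P) (hxZ : x ∈ Z) :
    f x = x := by
  obtain ⟨g, -, hag, hfix⟩ := (isCentral_iff.1 h.central).2 P f hf
  rw [← hag x hx, hfix x hxZ]

/-- Every map induces a map of the factor system. -/
theorem exists_bar {P : Subgroup Ω} {f : Ω → Ω} (hf : IsMap F P f) :
    ∃ f', IsMap F' (imageAlong θ P) f' ∧ ∀ x ∈ P, f' (homExt θ x) = homExt θ (f x) := by
  obtain ⟨g, hg, hag, hfix⟩ := (isCentral_iff.1 h.central).2 P f hf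
  have hpre := preimageAlong_imageAlong h.factor hf.le
  obtain ⟨f', hf', hv⟩ := exists_factor_map h.factor h.image_le (hpre.symm ▸ hg) fun x hx =>
    (hfix x hx).symm ▸ hx
  exact ⟨f', hf', fun x hx => by rw [hv x (hpre.symm ▸ Subgroup.mem_sup_left hx), hag x hx]⟩

theorem stronglyClosed : F.StronglyClosed (preimageAlong θ T') := by
  refine stronglyClosed_iff.2 ⟨preimageAlong_le θ T', fun P f hf x hx hxT => ?_⟩
  obtain ⟨f', hf', hv⟩ := h.exists_bar hf
  refine (mem_preimageAlong θ T').2 ⟨hf.mem hx, ?_⟩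
  rw [← hv x hx]
  exact isMap_mem_of_stronglyClosed h.inv'.2.1 hf' (mem_imageAlong hf.le hx)
    ((mem_preimageAlong θ T').1 hxT).2

/-- The induced map of an isomorphism. -/
theorem image_iso {P Q : Subgroup Ω} {f : Ω → Ω} (hf : IsIso F P Q f) {f' : Ω' → Ω'}
    (hv : ∀ x ∈ P, f' (homExt θ x) = homExt θ (f x)) :
    f' '' (imageAlong θ P : Set Ω') = imageAlong θ Q := by
  ext y
  constructor
  · rintro ⟨_, hx', rfl⟩
    obtain ⟨x, hx, rfl⟩ := (mem_imageAlong_iff hf.le_left).1 hx'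
    rw [hv x hx]
    exact mem_imageAlong hf.le_right (hf.mem hx)
  · intro hy
    obtain ⟨z, hz, rfl⟩ := (mem_imageAlong_iff hf.le_right).1 hy
    obtain ⟨x, hx, rfl⟩ := hf.surj hz
    exact ⟨_, mem_imageAlong hf.le_left hx, hv x hx⟩

theorem exists_bar_iso {P Q : Subgroup Ω} {f : Ω → Ω} (hf : IsIso F P Q f) :
    ∃ f', IsIso F' (imageAlong θ P) (imageAlong θ Q) f' ∧
      ∀ x ∈ P, f' (homExt θ x) = homExt θ (f x) := by
  obtain ⟨f', hf', hv⟩ := h.exists_bar hf.isMap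
  exact ⟨f', ⟨hf', h.image_iso hf hv⟩, hv⟩

theorem Z_le_of_iso {P Q : Subgroup Ω} {f : Ω → Ω} (hf : IsIso F P Q f) (hZ : Z ≤ P) :
    Z ≤ Q := fun z hz => h.fix hf.isMap (hZ hz) hz ▸ hf.mem (hZ hz)

theorem T_le_of_iso {P Q : Subgroup Ω} {f : Ω → Ω} (hf : IsIso F P Q f)
    (hP : P ≤ preimageAlong θ T') : Q ≤ preimageAlong θ T' := fun y hy => by
  obtain ⟨x, hx, rfl⟩ := hf.surj hy
  exact isMap_mem_of_stronglyClosed h.stronglyClosed hf.isMap hx (hP hx)

/-- A map of `F` inducing an isomorphism is an isomorphism between the preimages. -/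
theorem iso_preimage {P' Q' : Subgroup Ω'} {f : Ω → Ω} {f' : Ω' → Ω'}
    (hf : IsMap F (preimageAlong θ P') f) (hf' : IsIso F' P' Q' f')
    (hv : ∀ x ∈ preimageAlong θ P', f' (homExt θ x) = homExt θ (f x)) :
    IsIso F (preimageAlong θ P') (preimageAlong θ Q') f := by
  refine ⟨hf, ?_⟩
  ext y
  constructor
  · rintro ⟨x, hx, rfl⟩
    exact (mem_preimageAlong θ Q').2 ⟨hf.mem hx, hv x hx ▸ hf'.mem ((mem_preimageAlong θ P').1 hx).2⟩
  · intro hy
    obtain ⟨hyS, hy'⟩ := (mem_preimageAlong θ Q').1 hy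
    obtain ⟨x', hx', hxe⟩ := hf'.surj hy'
    obtain ⟨x, hx, rfl⟩ :=
      exists_mem_preimageAlong (hf'.le_left.trans h.factor.2.2.1.ge) hx'
    rw [hv x hx, h.eq_iff (hf.mem hx) hyS] at hxe
    have hz := le_preimageAlong h.factor P' hxe
    refine ⟨x * ((f x)⁻¹ * y), Subgroup.mul_mem _ hx hz, ?_⟩
    rw [hf.map_mul hx hz, h.fix hf hz hxe, mul_inv_cancel_left]

end Data

/-! ### Good subgroups and liftings -/

/-- Subgroups over `Z` with centric image. -/
def IsGood (E : FusionSystem T') (θ : S →* Ω') (Z P : Subgroup Ω) : Prop :=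
  Z ≤ P ∧ P ≤ preimageAlong θ T' ∧ E.IsCentric (imageAlong θ P)

/-- Maps inducing maps of `E`. -/
def Ind (F : FusionSystem S) (E : FusionSystem T') (θ : S →* Ω') (P : Subgroup Ω) (f : Ω → Ω) :
    Prop :=
  P ≤ preimageAlong θ T' ∧ IsMap F P f ∧
    ∃ f', IsMap E (imageAlong θ P) f' ∧ ∀ x ∈ P, f' (homExt θ x) = homExt θ (f x)

/-- The automorphisms generating the lifted system. -/
def Lift (F : FusionSystem S) (E : FusionSystem T') (θ : S →* Ω') (p : ℕ) (Z P : Subgroup Ω)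
    (α : MulAut P) : Prop :=
  IsGood E θ Z P ∧ α ∈ F.autGroup P ∧ (orderOf α).Coprime p ∧ Ind F E θ P (autFun α)

/-- The lifted system. -/
def lifted (h : Data F p Z θ F' E) : FusionSystem (preimageAlong θ T') :=
  PPrime.meet (below F _ h.stronglyClosed)
    fun D => ∀ P α, Lift F E θ p Z P α → α ∈ D.autGroup P

variable (h : Data F p Z θ F' E)
include h

theorem lifted_sub : (lifted h).IsSubsystemOf F := fun P φ hφ =>
  (PPrime.meet_subsystem P hφ).1

theorem lift_mem {P : Subgroup Ω} {α : MulAut P} (hα : Lift F E θ p Z P α) :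
    α ∈ (lifted h).autGroup P :=
  PPrime.mem_autGroup_meet hα.1.2.1
    ((mem_autGroup_iff hα.1.2.1 α).2 ⟨isMap_below.2 ⟨hα.2.2.2.2.1, hα.1.2.1⟩,
      ((mem_autGroup_iff (hα.1.2.1.trans (preimageAlong_le θ T')) α).1 hα.2.1).image_eq⟩)
    fun _ hD => hD P α hα

theorem lifted_le {D : FusionSystem (preimageAlong θ T')}
    (hD : ∀ P α, Lift F E θ p Z P α → α ∈ D.autGroup P) :
    (lifted h).IsSubsystemOf D :=
  PPrime.meet_le hD

theorem isSubPred_ind :
    PPrime.IsSubPred (below F _ h.stronglyClosed) (Ind F E θ) where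
  isMap hf := isMap_below.2 ⟨hf.2.1, hf.1⟩
  congr := by
    rintro P f g ⟨hP, hf, f', hf', hv⟩ he
    exact ⟨hP, hf.congr he, f', hf', fun x hx => he x hx ▸ hv x hx⟩
  conj := by
    intro P g hP hg
    have hgS := preimageAlong_le θ T' hg
    have hPS := hP.trans (preimageAlong_le θ T')
    exact ⟨hP, isMap_conj hPS hgS, fun y => homExt θ g * y * (homExt θ g)⁻¹,
      isMap_conj (h.image_le_T hP) ((mem_preimageAlong θ T').1 hg).2,
      fun x hx => (homExt_conj θ hgS (hPS hx)).symm⟩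
  comp := by
    rintro P Q f g ⟨hP, hf, f', hf', hv⟩ ⟨-, hg, g', hg', hw⟩ hm
    refine ⟨hP, hf.comp hg hm, g' ∘ f', hf'.comp hg' fun y hy => ?_, fun x hx => ?_⟩
    · obtain ⟨x, hx, rfl⟩ := (mem_imageAlong_iff hf.le).1 hy
      rw [hv x hx]
      exact mem_imageAlong hg.le (hm x hx)
    · show g' (f' _) = _
      rw [hv x hx, hw _ (hm x hx)]
      rfl
  inv := by
    rintro P Q f r ⟨hP, hf, f', hf', hv⟩ hi hr h1
    have hiF : IsIso F P Q f := ⟨hf, hi.image_eq⟩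
    obtain ⟨r', hr', hr'1, -⟩ :=
      IsIso.exists_symm (F := E) ⟨hf', h.image_iso hiF hv⟩
    refine ⟨hi.le_right, (isMap_below.1 hr.isMap).1, r', hr'.isMap, fun y hy => ?_⟩
    obtain ⟨x, hx, rfl⟩ := hi.surj hy
    rw [h1 x hx, ← hv x hx, hr'1 _ (mem_imageAlong hf.le hx)]

theorem isMap_lifted {P : Subgroup Ω} {f : Ω → Ω} (hf : IsMap (lifted h) P f) :
    Ind F E θ P f := by
  refine (PPrime.isMap_ofPred (isSubPred_ind h)).1 (isMap_of_subsystem (lifted_le h ?_) hf)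
  intro Q α hα
  exact mem_autGroup_of_isMap ((PPrime.isMap_ofPred (isSubPred_ind h)).2 hα.2.2.2) α
    fun x => (autFun_coe α x).symm

theorem isGood_of_iso {P Q : Subgroup Ω} {f : Ω → Ω} (hP : IsGood E θ Z P) (hf : IsIso F P Q f) :
    IsGood E θ Z Q := by
  obtain ⟨f', hf', -⟩ := h.exists_bar_iso hf
  exact ⟨h.Z_le_of_iso hf hP.1, h.T_le_of_iso hf hP.2.1,
    Residual.isCentric_of_iso h.inv' hP.2.2 hf'⟩

theorem isGood_of_le {P Q : Subgroup Ω} (hP : IsGood E θ Z P) (hPQ : P ≤ Q)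
    (hQ : Q ≤ preimageAlong θ T') : IsGood E θ Z Q := by
  refine ⟨hP.1.trans hPQ, hQ, isCentric_of_le hP.2.2 ?_ (h.image_le_T hQ)⟩
  rintro _ ⟨s, hs, rfl⟩
  exact ⟨s, hPQ hs, rfl⟩

theorem centralizerIn_le {P : Subgroup Ω} (hP : IsGood E θ Z P) :
    centralizerIn (preimageAlong θ T') P ≤ P := by
  intro c hc
  have hTS := preimageAlong_le θ T'
  have hPS := hP.2.1.trans hTS
  have hc' : homExt θ c ∈ centralizerIn T' (imageAlong θ P) := by
    refine ⟨((mem_preimageAlong θ T').1 hc.1).2, mem_centralizer_of_conj_eq fun y hy => ?_⟩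
    obtain ⟨x, hx, rfl⟩ := (mem_imageAlong_iff hPS).1 hy
    rw [← homExt_conj θ (hTS hc.1) (hPS hx), conj_eq_self_of_mem_centralizer hc.2 hx]
  have := hP.2.2.2 _ (isConj_refl (h.image_le_T hP.2.1)) hc'
  rw [← h.preimage_image hPS hP.1]
  exact (mem_preimageAlong θ _).2 ⟨hTS hc.1, this⟩

/-- Transport of `Ind` along isomorphisms of `F`. -/
theorem ind_transport {P Q : Subgroup Ω} {f : Ω → Ω} (hf : IsIso F P Q f) {α : MulAut P}
    (hα : α ∈ F.autGroup P) (hI : Ind F E θ P (autFun α)) :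
    Ind F E θ Q (autFun (MulAut.congr hf.equiv α)) := by
  obtain ⟨hP, -, a', ha', hav⟩ := hI
  obtain ⟨f', hf', hv⟩ := h.exists_bar hf.isMap
  have hmaps : ∀ y ∈ imageAlong θ P, a' y ∈ imageAlong θ P := fun y hy => by
    obtain ⟨x, hx, rfl⟩ := (mem_imageAlong_iff hf.le_left).1 hy
    rw [hav x hx]
    exact mem_imageAlong hf.le_left (autFun_mem α hx)
  obtain ⟨b', hb', hbv⟩ := strongInvariant_of_invariant h.inv' _ _ a' f' le_rfl (h.image_le_T hP)
    ha' hmaps hf' _ (h.image_iso hf hv)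
  refine ⟨h.T_le_of_iso hf hP,
    ((mem_autGroup_iff hf.le_right _).1 (hf.congr_mem_autGroup hα)).isMap, b', hb', fun y hy => ?_⟩
  obtain ⟨x, hx, rfl⟩ := hf.surj hy
  rw [← hv x hx, hbv _ (mem_imageAlong hf.le_left hx), hav x hx, hv _ (autFun_mem α hx),
    autFun_apply _ hy, autFun_apply α hx]
  exact congrArg _ (hf.congr_apply α ⟨x, hx⟩).symm

theorem lift_transport {P Q : Subgroup Ω} {f : Ω → Ω} (hf : IsIso F P Q f) {α : MulAut P}
    (hα : Lift F E θ p Z P α) : Lift F E θ p Z Q (MulAut.congr hf.equiv α) :=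
  ⟨isGood_of_iso h hα.1 hf, hf.congr_mem_autGroup hα.2.1,
    by rw [MulEquiv.orderOf_eq]; exact hα.2.2.1, ind_transport h hf hα.2.1 hα.2.2.2⟩

/-! ### Automorphisms inducing the identity -/

omit h in
/-- The automorphisms fixing `Z` and trivial modulo `Z`. -/
def kerSub (Z P : Subgroup Ω) : Subgroup (MulAut P) where
  carrier := {α | (∀ x : P, (x : Ω)⁻¹ * (α x : Ω) ∈ Z) ∧ ∀ x : P, (x : Ω) ∈ Z → α x = x}
  one_mem' := ⟨fun x => by simp, fun x _ => rfl⟩
  mul_mem' := by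
    rintro a b ⟨ha, ha'⟩ ⟨hb, hb'⟩
    refine ⟨fun x => ?_, fun x hx => by rw [MulAut.mul_apply, hb' x hx, ha' x hx]⟩
    rw [MulAut.mul_apply, show (x : Ω)⁻¹ * (a (b x) : Ω) =
      ((x : Ω)⁻¹ * (b x : Ω)) * ((b x : Ω)⁻¹ * (a (b x) : Ω)) by group]
    exact Z.mul_mem (hb x) (ha (b x))
  inv_mem' := by
    rintro a ⟨ha, ha'⟩
    refine ⟨fun x => ?_, fun x hx => ?_⟩
    · have h1 := Z.inv_mem (ha (a⁻¹ x))
      rw [MulAut.apply_inv_self] at h1
      simpa using h1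
    · conv_lhs => rw [← ha' x hx]
      rw [MulAut.inv_apply_self]

omit h in
theorem kerSub_pow [Finite S] [Fact p.Prime] (hS : IsPGroup p S) (hZ : Z ≤ S) {P : Subgroup Ω}
    {α : MulAut P} (hα : α ∈ kerSub Z P) : ∃ k, α ^ p ^ k = 1 := by
  obtain ⟨k, hk⟩ := IsPGroup.iff_card.1 hS
  refine ⟨k, MulEquiv.ext fun x => pow_eq_one_of_fixed_diff (hα.2 _ ?_) ?_⟩
  · rw [Subgroup.coe_mul, Subgroup.coe_inv]
    exact hα.1 x
  · have h1 : (⟨_, hZ (hα.1 x)⟩ : S) ^ p ^ k = 1 := by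
      rw [← hk]; exact pow_card_eq_one'
    exact Subtype.ext (by simpa using congrArg (Subtype.val : S → Ω) h1)

omit h in
theorem isPGroup_kerSub [Finite S] [Fact p.Prime] (hS : IsPGroup p S) (hZ : Z ≤ S)
    (P : Subgroup Ω) : IsPGroup p (kerSub Z P) := fun a => by
  obtain ⟨k, hk⟩ := kerSub_pow hS hZ a.2
  exact ⟨k, Subtype.ext hk⟩

theorem kerSub_conj {P : Subgroup Ω} (hPS : P ≤ S) {g k : MulAut P}
    (hg : g ∈ F.autGroup P) (hk : k ∈ kerSub Z P) : g * k * g⁻¹ ∈ kerSub Z P := by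
  have hm := ((mem_autGroup_iff hPS g).1 hg).isMap
  have hfix : ∀ x : P, (x : Ω) ∈ Z → g x = x := fun x hx => Subtype.ext <| by
    rw [← autFun_coe g x]; exact h.fix hm x.2 hx
  refine ⟨fun x => ?_, fun x hx => ?_⟩
  · obtain ⟨y, rfl⟩ := g.surjective x
    have hz := hk.1 y
    rw [MulAut.mul_apply, MulAut.mul_apply, MulAut.inv_apply_self, ← Subgroup.coe_inv,
      ← map_inv, ← Subgroup.coe_mul, ← map_mul, hfix _ (by simpa using hz)]
    simpa using hz
  · obtain ⟨y, rfl⟩ := g.surjective x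
    have hy : g y = y := g.injective (hfix _ hx)
    rw [hy] at hx
    rw [MulAut.mul_apply, MulAut.mul_apply, MulAut.inv_apply_self, hk.2 y hx]

/-- Automorphisms inducing the identity lie in `kerSub`. -/
theorem mem_kerSub {P : Subgroup Ω} (hPS : P ≤ S) {k : MulAut P} (hk : k ∈ F.autGroup P)
    (hv : ∀ x : P, homExt θ (k x : Ω) = homExt θ x) : k ∈ kerSub Z P :=
  ⟨fun x => (h.eq_iff (hPS x.2) (hPS (k x).2)).1 (hv x).symm, fun x hx => Subtype.ext <| by
    rw [← autFun_coe k x]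
    exact h.fix ((mem_autGroup_iff hPS k).1 hk).isMap x.2 hx⟩

theorem ind_of_kerSub {P : Subgroup Ω} (hP : P ≤ preimageAlong θ T') {k : MulAut P} (hk : k ∈ F.autGroup P) (hker : k ∈ kerSub Z P) :
    Ind F E θ P (autFun k) := by
  have hPS := hP.trans (preimageAlong_le θ T')
  refine ⟨hP, ((mem_autGroup_iff hPS k).1 hk).isMap, id, isMap_id (h.image_le_T hP),
    fun x hx => ?_⟩
  rw [autFun_apply k hx, id, h.eq_iff (hPS hx) (hPS (k ⟨x, hx⟩).2)]
  exact hker.1 ⟨x, hx⟩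

end CfsgLib.Fusion.CentralLift
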