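import Mathlib
import Cfsg.Agent.Lib.Fusion.CentralLiftBase

/-!
Maps of the normal subsystem lift, and the liftings generate only inner automorphisms among those
that induce the identity.
-/

set_option autoImplicit false
set_option linter.unusedSectionVars false

namespace CfsgLib.Fusion.CentralLift

open Cfsg Cfsg.FusionSystem
open CfsgLib.Fusion.NormalCentralizer

variable {Ω : Type*} [Group Ω] {S : Subgroup Ω} {Ω' : Type*} [Group Ω'] {S' T' : Subgroup Ω'}
variable {F : FusionSystem S} {F' : FusionSystem S'} {E : FusionSystem T'} {θ : S →* Ω'}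
variable {Z : Subgroup Ω} {p : ℕ} [Fact p.Prime] [Finite S]
variable (h : Data F p Z θ F' E)
include h

theorem finiteT' : Finite T' :=
  have := h.finite'
  finite_of_le h.TS'

theorem pgroupT : IsPGroup p (preimageAlong θ T') := h.pgroup.to_le (preimageAlong_le θ T')

theorem finiteT : Finite (preimageAlong θ T') := finite_of_le (preimageAlong_le θ T')

theorem normalizerIn_preimage {P' : Subgroup Ω'} (hP : P' ≤ T') :
    normalizerIn (preimageAlong θ T') (preimageAlong θ P') =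
      preimageAlong θ (normalizerIn T' P') := by
  have := h.finite'
  ext x
  rw [mem_preimageAlong]
  constructor
  · rintro ⟨hxT, hxn⟩
    have h1 : x ∈ preimageAlong θ (normalizerIn S' P') :=
      (normalizerIn_preimageAlong h.factor (hP.trans h.TS')).le ⟨preimageAlong_le θ T' hxT, hxn⟩
    exact ⟨preimageAlong_le θ T' hxT, ((mem_preimageAlong θ T').1 hxT).2,
      ((mem_preimageAlong θ _).1 h1).2.2⟩
  · rintro ⟨hxS, hxT, hxn⟩
    exact ⟨(mem_preimageAlong θ T').2 ⟨hxS, hxT⟩,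
      ((normalizerIn_preimageAlong h.factor (hP.trans h.TS')).ge
        ((mem_preimageAlong θ _).2 ⟨hxS, h.TS' hxT, hxn⟩)).2⟩

/-- The maps of `E` having lifts. -/
def HasLift (P' : Subgroup Ω') (f' : Ω' → Ω') : Prop :=
  IsMap E P' f' ∧ ∃ f, IsMap (lifted h) (preimageAlong θ P') f ∧
    ∀ x ∈ preimageAlong θ P', f' (homExt θ x) = homExt θ (f x)

theorem isSubPred_hasLift : PPrime.IsSubPred E (HasLift h) where
  isMap hf := hf.1
  congr := by
    rintro P f g ⟨hf, l, hl, hv⟩ he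
    exact ⟨hf.congr he, l, hl, fun x hx => he _ ((mem_preimageAlong θ P).1 hx).2 ▸ hv x hx⟩
  conj := by
    intro P g hP hg
    obtain ⟨t, ht, rfl⟩ := exists_mem_preimageAlong (h.TS'.trans h.factor.2.2.1.ge) hg
    refine ⟨isMap_conj hP hg, fun y => t * y * t⁻¹, isMap_conj (preimageAlong_mono θ hP) ht,
      fun x hx => ?_⟩
    exact (homExt_conj θ (preimageAlong_le θ T' ht) (preimageAlong_le θ P hx)).symm
  comp := by
    rintro P Q f g ⟨hf, l, hl, hv⟩ ⟨hg, k, hk, hw⟩ hm
    have hmem : ∀ x ∈ preimageAlong θ P, l x ∈ preimageAlong θ Q := fun x hx =>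
      (mem_preimageAlong θ Q).2 ⟨preimageAlong_le θ T' (hl.mem hx),
        hv x hx ▸ hm _ ((mem_preimageAlong θ P).1 hx).2⟩
    exact ⟨hf.comp hg hm, k ∘ l, hl.comp hk hmem, fun x hx => by
      show g (f (homExt θ x)) = _; rw [hv x hx, hw _ (hmem x hx)]; rfl⟩
  inv := by
    rintro P Q f r ⟨hf, l, hl, hv⟩ hi hr h1
    have hP := hi.le_left
    have hli : IsIso (lifted h) (preimageAlong θ P) (preimageAlong θ Q) l :=
      ⟨hl, (h.iso_preimage (isMap_of_subsystem (lifted_sub h) hl)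
        (IsIso.of_subsystem h.inv'.1 ⟨hf, hi.image_eq⟩) hv).image_eq⟩
    obtain ⟨k, hk, hk1, -⟩ := hli.exists_symm
    refine ⟨hr.isMap, k, hk.isMap, fun y hy => ?_⟩
    obtain ⟨x, hx, rfl⟩ := hli.surj hy
    rw [hk1 x hx, ← hv x hx, h1 _ ((mem_preimageAlong θ P).1 hx).2]

/-- Every map of `E` lifts. -/
theorem exists_lift {P' : Subgroup Ω'} {f' : Ω' → Ω'} (hf : IsMap E P' f') :
    ∃ f, IsMap (lifted h) (preimageAlong θ P') f ∧
      ∀ x ∈ preimageAlong θ P', f' (homExt θ x) = homExt θ (f x) := by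
  have := finiteT' h
  have hTp : IsPGroup p T' := h.pgroup'.to_le h.TS'
  have hM := isSubPred_hasLift h
  suffices ∀ (P : Subgroup Ω') (f : Ω' → Ω'), IsMap E P f → IsMap (PPrime.ofPred E _ hM) P f from
    ((PPrime.isMap_ofPred hM).1 (this _ _ hf)).2
  refine le_of_autGroup_le hTp h.satE fun R hR => ?_
  have hRfn : E.IsFullyNormalized R := by
    rcases hR with rfl | hR
    · have : Finite (normalizerIn R R) := finite_of_le (S := R) inf_le_left
      exact ⟨le_rfl, fun Q _ => Subgroup.card_le_of_le fun x hx => le_normalizerIn le_rfl hx.1⟩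
    · exact hR.2.1
  have hRc : E.IsCentric R := by
    rcases hR with rfl | hR
    · refine ⟨le_rfl, fun Q hQ => ?_⟩
      obtain ⟨g, hg⟩ := isConj_iff.1 hQ
      rw [Subgroup.eq_of_le_of_card_ge hg.le_right hg.card_eq.ge]
      exact inf_le_left
    · exact hR.1
  have hRT := hRfn.1
  have := finite_of_le hRT
  have := finite_mulAut R
  obtain ⟨-, Sy, hSy⟩ := isFullyAutomized_of_isFullyNormalized hTp h.satE hRfn
  refine ModelNormal.le_of_sylow_coprime Sy (fun x hx => ?_) fun x hx hxo => ?_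
  · rw [hSy] at hx
    exact autInducedBy_le_autGroup hRT hx
  · have hxi := (mem_autGroup_iff hRT x).1 hx
    obtain ⟨-, l, hl, hlv⟩ := (isMap_factor_iff h.factor).1 (isMap_of_subsystem h.inv'.1 hxi.isMap)
    have hli := h.iso_preimage hl (hxi.of_subsystem h.inv'.1) hlv
    set P := preimageAlong θ R
    have := finite_of_le hli.le_left
    have := finite_mulAut P
    obtain ⟨a, ha, hav⟩ := exists_mem_autGroup hli
    obtain ⟨m, hm, hmo⟩ := Residual.exists_pPrime_pow a hxo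
    have hbar : ∀ (k : ℕ) (y : P),
        autFun (x ^ k) (homExt θ (y : Ω)) = homExt θ ((a ^ k) y : Ω) := by
      intro k
      induction k with
      | zero =>
        intro y
        rw [pow_zero, pow_zero, autFun_one ((mem_preimageAlong θ R).1 y.2).2]
        rfl
      | succ k ih =>
        intro y
        have hy := ((mem_preimageAlong θ R).1 y.2).2
        rw [pow_succ', pow_succ', autFun_mul _ _ hy, ih, MulAut.mul_apply, hav,
          hlv _ ((a ^ k) y).2]
    have hxm : x ^ m = x := Residual.pow_eq_self_of_modEq hm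
    have hIP : imageAlong θ P = R := h.image_preimage (hRT.trans h.TS')
    have hPT : P ≤ preimageAlong θ T' := preimageAlong_mono θ hRT
    have hrel : ∀ y ∈ P, autFun x (homExt θ y) = homExt θ (autFun (a ^ m) y) := fun y hy => by
      rw [autFun_apply _ hy, ← hbar m ⟨y, hy⟩, hxm]
    have hL : Lift F E θ p Z P (a ^ m) :=
      ⟨⟨le_preimageAlong h.factor R, hPT, hIP.symm ▸ hRc⟩, Subgroup.pow_mem _ ha m, hmo, hPT,
        ((mem_autGroup_iff hli.le_left _).1 (Subgroup.pow_mem _ ha m)).isMap, autFun x,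
        hIP.symm ▸ hxi.isMap, hrel⟩
    exact mem_autGroup_of_isMap ((PPrime.isMap_ofPred hM).2 ⟨hxi.isMap, _,
      ((mem_autGroup_iff hPT _).1 (lift_mem h hL)).isMap, hrel⟩) x fun y => (autFun_coe x y).symm

/-- Subgroups fully normalised in `F` have images fully normalised in `F'` and in `E`. -/
theorem isFullyNormalized_image {P : Subgroup Ω} (hP : IsGood E θ Z P)
    (hfn : F.IsFullyNormalized P) : E.IsFullyNormalized (imageAlong θ P) := by
  have := h.finite'
  have hr : θ.range = S' := h.factor.2.2.1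
  refine isFullyNormalized_of_super h.pgroup' h.sat' h.inv' ⟨h.image_le, fun R' hR' => ?_⟩
    (h.image_le_T hP.2.1)
  obtain ⟨f', hf'⟩ := isConj_iff.1 hR'
  obtain ⟨-, f, hf, hv⟩ := (isMap_factor_iff h.factor).1 hf'.isMap
  have hfi := h.iso_preimage hf hf' hv
  rw [h.preimage_image hfn.1 hP.1] at hfi
  have h1 := hfn.2 _ hfi.isConj
  rw [← h.preimage_image hfn.1 hP.1, normalizerIn_preimageAlong h.factor h.image_le,
    normalizerIn_preimageAlong h.factor hf'.le_right,
    card_preimageAlong θ (fun x hx => hr.ge hx.1 : normalizerIn S' R' ≤ θ.range),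
    card_preimageAlong θ (fun x hx => hr.ge hx.1 : normalizerIn S' (imageAlong θ P) ≤ θ.range)] at h1
  exact Nat.le_of_mul_le_mul_left h1 Nat.card_pos

/-- Moving an element centralising the image past an automorphism. -/
theorem conj_centralizing {P : Subgroup Ω} (hP : IsGood E θ Z P) {α : MulAut P}
    (hI : Ind F E θ P (autFun α)) {c : Ω} (hcS : c ∈ S)
    (hcn : c ∈ Subgroup.normalizer (P : Set Ω))
    (hcc : ∀ x ∈ P, homExt θ c * homExt θ x * (homExt θ c)⁻¹ = homExt θ x) :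
    ∃ u ∈ P, ∀ y : P, (α ⟨c * y * c⁻¹, conj_mem_of_mem_normalizer hcn y.2⟩ : Ω) =
      c * u * α y * u⁻¹ * c⁻¹ := by
  have := h.finite'
  have hPS : P ≤ S := hP.2.1.trans (preimageAlong_le θ T')
  set U := imageAlong θ P with hUdef
  have := finite_of_le (hPS : P ≤ S)
  have hI' := hI
  obtain ⟨-, -, a', ha', hav⟩ := hI
  have hUT : U ≤ T' := h.image_le_T hP.2.1
  have := finite_of_le (hUT.trans h.TS')
  have hmaps : ∀ y ∈ U, a' y ∈ U := fun y hy => by
    obtain ⟨x, hx, rfl⟩ := (mem_imageAlong_iff hPS).1 hy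
    rw [hav x hx]
    exact mem_imageAlong hPS (autFun_mem α hx)
  obtain ⟨a, ha, hv⟩ := exists_mem_autGroup (ha'.isIso_of_card_le hmaps le_rfl)
  obtain ⟨δ, hδ, hδU, hδc⟩ := hasExt h.pgroup' h.sat' h.normal hP.2.2 ha
  have hWS : U ⊔ centralizerIn S' U ≤ S' := sup_centralizerIn_le (hUT.trans h.TS')
  obtain ⟨-, f, hf, hfv⟩ :=
    (isMap_factor_iff h.factor).1 ((mem_autGroup_iff hWS δ).1 hδ).isMap
  have hcU : homExt θ c ∈ centralizerIn S' U :=
    ⟨h.factor.2.2.1.le ⟨⟨c, hcS⟩, (homExt_apply θ hcS).symm⟩, mem_centralizer_of_conj_eq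
      fun y hy => by
        obtain ⟨x, hx, rfl⟩ := (mem_imageAlong_iff hPS).1 hy
        exact hcc x hx⟩
  have hcW : c ∈ preimageAlong θ (U ⊔ centralizerIn S' U) :=
    (mem_preimageAlong θ _).2 ⟨hcS, Subgroup.mem_sup_right hcU⟩
  have hxW : ∀ x ∈ P, x ∈ preimageAlong θ (U ⊔ centralizerIn S' U) := fun x hx =>
    (mem_preimageAlong θ _).2 ⟨hPS hx, Subgroup.mem_sup_left (mem_imageAlong hPS hx)⟩
  have hfS := hf.mem hcW
  refine ⟨c⁻¹ * f c, ?_, fun y => ?_⟩
  · rw [← h.preimage_image hPS hP.1]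
    refine (mem_preimageAlong θ _).2 ⟨S.mul_mem (S.inv_mem hcS) hfS, ?_⟩
    rw [homExt_mul' θ (S.inv_mem hcS) hfS, homExt_inv' θ hcS, ← hfv c hcW]
    exact hδc _ hcU
  · -- `α = f · ζ` on `P`, with `ζ` constant on cosets of `Z`
    set y' : P := ⟨c * y * c⁻¹, conj_mem_of_mem_normalizer hcn y.2⟩ with hy'
    have hf0 : ∀ x : P, (f x)⁻¹ * (α x : Ω) ∈ Z := fun x => by
      rw [← h.eq_iff (hf.mem (hxW x x.2)) (hPS (α x).2), ← hfv x (hxW x x.2),
        hδU _ (mem_imageAlong hPS x.2), ← autFun_coe α x, ← hav x x.2,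
        autFun_apply a (mem_imageAlong hPS x.2), hv]
    have hw : (y : Ω)⁻¹ * y' ∈ Z := by
      rw [← h.eq_iff (hPS y.2) (hPS y'.2), homExt_conj θ hcS (hPS y.2), hcc y y.2]
    have hαw : ∀ z : P, (z : Ω) ∈ Z → (α z : Ω) = z := fun z hz => by
      obtain ⟨g, hg, hgv⟩ : ∃ g, IsMap F P g ∧ ∀ x : P, g x = (α x : Ω) :=
        ⟨_, hI'.2.1, autFun_coe α⟩
      rw [← hgv]
      exact h.fix hg z.2 hz
    have e1 : (α y' : Ω) = (α y : Ω) * ((y : Ω)⁻¹ * y') := by
      have e : y' = y * (y⁻¹ * y') := by group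
      conv_lhs => rw [e, map_mul]
      rw [Subgroup.coe_mul, hαw (y⁻¹ * y') hw]
      rfl
    have e2 : f y' = f y * ((y : Ω)⁻¹ * y') := by
      conv_lhs => rw [show (y' : Ω) = y * ((y : Ω)⁻¹ * y') by group]
      rw [hf.map_mul (hxW y y.2) (hxW _ (P.mul_mem (P.inv_mem y.2) y'.2)),
        h.fix hf (hxW _ (P.mul_mem (P.inv_mem y.2) y'.2)) hw]
    have e3 : f y' = f c * f y * (f c)⁻¹ := hf.map_conj hcW (hxW y y.2)
    have hwS : (y : Ω)⁻¹ * y' ∈ S := h.ZS hw
    have hζ := hf0 y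
    set ζ := (f y)⁻¹ * (α y : Ω) with hζdef
    set w := (y : Ω)⁻¹ * y' with hwdef
    have hy1 : (α y : Ω) = f y * ζ := by rw [hζdef]; group
    calc (α y' : Ω) = f y * w * ζ := by
          rw [e1, hy1, mul_assoc (f y) ζ w, h.commutes hζ hwS, ← mul_assoc]
      _ = f c * f y * (f c)⁻¹ * ζ := by rw [← e2, e3]
      _ = f c * (f y * ζ) * (f c)⁻¹ := by
          rw [mul_assoc (f c * f y), ← h.commutes hζ (S.inv_mem hfS)]; group
      _ = c * (c⁻¹ * f c) * (α y : Ω) * (c⁻¹ * f c)⁻¹ * c⁻¹ := by rw [← hy1]; group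

omit h in
/-- The automorphisms induced on `P` inside the lifted system by `T` and by the liftings. -/
def genH (_h : Data F p Z θ F' E) (P : Subgroup Ω) : Subgroup (MulAut P) :=
  Subgroup.closure ((autInducedBy (preimageAlong θ T') P : Set (MulAut P)) ∪
    {α | Lift F E θ p Z P α})

theorem ind_of_autInducedBy {P : Subgroup Ω} (hP : P ≤ preimageAlong θ T') {α : MulAut P}
    (hα : α ∈ autInducedBy (preimageAlong θ T') P) : Ind F E θ P (autFun α) := by
  obtain ⟨t, ht, hv⟩ := (mem_autInducedBy_iff _ P α).1 hα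
  exact (isSubPred_ind h).congr ((isSubPred_ind h).conj hP ht)
    fun x hx => by rw [autFun_apply α hx]; exact (hv ⟨x, hx⟩).symm

/-- The subgroup of the automorphisms inducing maps of `E`. -/
def indGroup (P : Subgroup Ω) (hP : P ≤ preimageAlong θ T') : Subgroup (MulAut P) where
  carrier := {α | Ind F E θ P (autFun α)}
  one_mem' := (isSubPred_ind h).congr ((isSubPred_ind h).conj hP (Subgroup.one_mem _))
    fun x hx => by rw [autFun_one hx]; group
  mul_mem' := fun {a b} ha hb => (isSubPred_ind h).congr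
    ((isSubPred_ind h).comp hb ha fun x hx => autFun_mem b hx)
    fun x hx => (autFun_mul a b hx).symm
  inv_mem' := fun {a} ha => by
    have hPS := hP.trans (preimageAlong_le θ T')
    have haF := mem_autGroup_of_isMap ha.2.1 a fun x => (autFun_coe a x).symm
    exact (isSubPred_ind h).inv (Q := P) ha
      ⟨isMap_below.2 ⟨ha.2.1, hP⟩, ((mem_autGroup_iff hPS a).1 haF).image_eq⟩
      ⟨isMap_below.2 ⟨((mem_autGroup_iff hPS _).1 ((F.autGroup P).inv_mem haF)).isMap, hP⟩,
        ((mem_autGroup_iff hPS _).1 ((F.autGroup P).inv_mem haF)).image_eq⟩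
      fun x hx => autFun_inv_self a hx

theorem indGroup_le (P : Subgroup Ω) (hP : P ≤ preimageAlong θ T') :
    indGroup h P hP ≤ F.autGroup P := fun a ha =>
  mem_autGroup_of_isMap ha.2.1 a fun x => (autFun_coe a x).symm

/-- At a subgroup fully normalised in `F`, generated automorphisms inducing the identity are
inner. -/
theorem inf_kerSub_le_inn_of_fn {P : Subgroup Ω} (hP : IsGood E θ Z P)
    (hfn : F.IsFullyNormalized P) : genH h P ⊓ kerSub Z P ≤ Cfsg.Inn P := by
  have := h.finite'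
  have hT := h.stronglyClosed
  have hTS := preimageAlong_le θ T'
  have hPS := hfn.1
  have := finite_of_le hPS
  have := finite_mulAut P
  set T := preimageAlong θ T'
  set A := indGroup h P hP.2.1 with hA
  have hAF : A ≤ F.autGroup P := indGroup_le h P hP.2.1
  obtain ⟨-, D, hD⟩ := isFullyAutomized_of_isFullyNormalized h.pgroup h.sat hfn
  set A₁ : Subgroup (F.autGroup P) := A.subgroupOf (F.autGroup P)
  haveI hA₁n : A₁.Normal := ⟨fun a ha g => by
    have hg := (mem_autGroup_iff hPS (g : MulAut P)).1 g.2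
    have he : MulAut.congr hg.equiv (a : MulAut P) = (g * a * g⁻¹ : F.autGroup P) := by
      refine MulEquiv.ext fun y => Subtype.ext ?_
      obtain ⟨x, rfl⟩ := hg.equiv.surjective y
      rw [hg.congr_apply, show hg.equiv x = (g : MulAut P) x from
        Subtype.ext (autFun_coe _ x)]
      rw [autFun_coe, Subgroup.coe_mul, Subgroup.coe_mul, Subgroup.coe_inv, MulAut.mul_apply,
        MulAut.mul_apply, MulAut.inv_apply_self]
    exact Subgroup.mem_subgroupOf.2 (he ▸ ind_transport h hg a.2 ha)⟩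
  obtain ⟨D₁, hD₁⟩ := SatExtend.exists_sylow_inf D A₁
  set T0 := autInducedBy T P
  have hT0A : T0 ≤ A := fun a ha => ind_of_autInducedBy h hP.2.1 ha
  set T₁ : Subgroup A₁ := (T0.subgroupOf (F.autGroup P)).subgroupOf A₁
  have hmemT₁ : ∀ a : A₁, a ∈ T₁ ↔ ((a : F.autGroup P) : MulAut P) ∈ T0 := fun a => Iff.rfl
  have hmemD₁ : ∀ a : A₁, a ∈ (D₁ : Subgroup A₁) ↔
      ((a : F.autGroup P) : MulAut P) ∈ autInducedBy S P := fun a => by
    rw [hD₁, Subgroup.mem_subgroupOf, hD, Subgroup.mem_subgroupOf]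
  have hTD : ∀ s ∈ autInducedBy S P, ∀ a ∈ T0, s * a * s⁻¹ ∈ T0 := by
    intro s hs a ha
    obtain ⟨g, hg, hgv⟩ := (mem_autInducedBy_iff S P s).1 hs
    obtain ⟨t, ht, htv⟩ := (mem_autInducedBy_iff T P a).1 ha
    refine (mem_autInducedBy_iff T P _).2 ⟨g * t * g⁻¹,
      isMap_mem_of_stronglyClosed hT (isMap_conj (le_rfl : S ≤ S) hg) (hTS ht) ht, fun x => ?_⟩
    obtain ⟨y, rfl⟩ := s.surjective x
    rw [MulAut.mul_apply, MulAut.mul_apply, MulAut.inv_apply_self, hgv, htv, hgv]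
    group
  -- the kernel lies in the Sylow subgroup
  haveI hKn : ((kerSub Z P).subgroupOf (F.autGroup P)).Normal :=
    ⟨fun k hk g => kerSub_conj h hPS g.2 hk⟩
  have hKD : (kerSub Z P).subgroupOf (F.autGroup P) ≤ (D : Subgroup (F.autGroup P)) :=
    Residual.le_sylow (hn := hKn) ((isPGroup_kerSub h.pgroup h.ZS P).comap_of_injective _
      Subtype.val_injective) D
  have hKS : ∀ k ∈ F.autGroup P, k ∈ kerSub Z P → k ∈ autInducedBy S P := fun k hk hkk => by
    have := hKD (show (⟨k, hk⟩ : F.autGroup P) ∈ (kerSub Z P).subgroupOf _ from hkk)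
    rwa [hD, Subgroup.mem_subgroupOf] at this
  have hr := isReceptive_of_isFullyNormalized h.pgroup h.sat hfn
  have hUfn := isFullyNormalized_image h hP hfn
  have hdisp : ∀ Q : Subgroup A₁, Q ≤ D₁ → ∀ g : A₁, (orderOf g).Coprime p →
      (∀ q ∈ Q, g * q * g⁻¹ ∈ Q) → ∀ q ∈ Q, g * q * g⁻¹ * q⁻¹ ∈ T₁ := by
    intro Q hQ g _ hgQ q hq
    set α : MulAut P := ((g : F.autGroup P) : MulAut P) with hαdef
    have hαA : α ∈ A := g.2
    have hαI : Ind F E θ P (autFun α) := hαA
    -- split the inducing element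
    obtain ⟨x, hx, hxv⟩ := (mem_autInducedBy_iff S P _).1 ((hmemD₁ q).1 (hQ hq))
    obtain ⟨-, -, q', hq', hqv⟩ : Ind F E θ P (autFun ((q : F.autGroup P) : MulAut P)) := q.2
    set U := imageAlong θ P with hUdef
    have hUT : U ≤ T' := h.image_le_T hP.2.1
    have := finite_of_le (hUT.trans h.TS')
    have := finite_mulAut U
    have := finiteT' h
    have hTp : IsPGroup p T' := h.pgroup'.to_le h.TS'
    have hxS' : homExt θ x ∈ S' := h.factor.2.2.1.le ⟨⟨x, hx⟩, (homExt_apply θ hx).symm⟩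
    have hxP : ∀ y ∈ P, x * y * x⁻¹ ∈ P := fun y hy =>
      hxv ⟨y, hy⟩ ▸ SetLike.coe_mem _
    have hq'v : ∀ y ∈ U, q' y = homExt θ x * y * (homExt θ x)⁻¹ := fun y hy => by
      obtain ⟨z, hz, rfl⟩ := (mem_imageAlong_iff hPS).1 hy
      rw [hqv z hz, autFun_apply _ hz, hxv, homExt_conj θ hx (hPS hz)]
    have hxn : homExt θ x ∈ Subgroup.normalizer (U : Set Ω') :=
      mem_normalizer_of_conj_mem (hUT.trans h.TS') fun y hy => by
        obtain ⟨z, hz, rfl⟩ := (mem_imageAlong_iff hPS).1 hy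
        rw [← homExt_conj θ hx (hPS hz)]
        exact mem_imageAlong hPS (hxP z hz)
    have hβE : conjAut U hxn ∈ E.autGroup U := mem_autGroup_of_isMap hq' _ fun y => by
      rw [conjAut_apply, hq'v y y.2]
    obtain ⟨-, SE, hSE⟩ := isFullyAutomized_of_isFullyNormalized hTp h.satE hUfn
    set B : Subgroup (E.autGroup U) := (autInducedBy S' U).subgroupOf (E.autGroup U)
    have hBp : IsPGroup p B :=
      (isPGroup_autInducedBy h.pgroup' U).comap_of_injective _ Subtype.val_injective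
    have hle : (SE : Subgroup (E.autGroup U)) ≤ B := by
      rw [hSE]
      exact fun a ha => autInducedBy_mono h.TS' U ha
    have hβB : (⟨_, hβE⟩ : E.autGroup U) ∈ (SE : Subgroup (E.autGroup U)) := by
      rw [← SE.is_maximal' hBp hle]
      exact conjAut_mem_autInducedBy hxn hxS'
    rw [hSE, Subgroup.mem_subgroupOf] at hβB
    obtain ⟨t', ht', htv⟩ := (mem_autInducedBy_iff T' U _).1 hβB
    obtain ⟨t, ht, rfl⟩ := exists_mem_preimageAlong (h.TS'.trans h.factor.2.2.1.ge) ht'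
    have htS := hTS ht
    have htx : ∀ z ∈ P, homExt θ (t * z * t⁻¹) = homExt θ (x * z * x⁻¹) := fun z hz => by
      rw [homExt_conj θ htS (hPS hz), homExt_conj θ hx (hPS hz)]
      exact ((conjAut_apply U hxn ⟨_, mem_imageAlong hPS hz⟩).symm.trans (htv _)).symm
    have htP : t ∈ Subgroup.normalizer (P : Set Ω) := mem_normalizer_of_conj_mem hPS fun z hz => by
      rw [← h.preimage_image hPS hP.1]
      refine (mem_preimageAlong θ _).2 ⟨S.mul_mem (S.mul_mem htS (hPS hz)) (S.inv_mem htS), ?_⟩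
      rw [htx z hz]
      exact mem_imageAlong hPS (hxP z hz)
    set c := t⁻¹ * x with hc
    have hcS : c ∈ S := S.mul_mem (S.inv_mem htS) hx
    have hcn : c ∈ Subgroup.normalizer (P : Set Ω) :=
      Subgroup.mul_mem _ (Subgroup.inv_mem _ htP) (mem_normalizer_of_conj_mem hPS hxP)
    have hcc : ∀ z ∈ P, homExt θ c * homExt θ z * (homExt θ c)⁻¹ = homExt θ z := fun z hz => by
      have h1 := htx z hz
      rw [homExt_conj θ htS (hPS hz), homExt_conj θ hx (hPS hz)] at h1
      rw [hc, homExt_mul' θ (S.inv_mem htS) hx, homExt_inv' θ htS]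
      calc (homExt θ t)⁻¹ * homExt θ x * homExt θ z * ((homExt θ t)⁻¹ * homExt θ x)⁻¹
          = (homExt θ t)⁻¹ * (homExt θ x * homExt θ z * (homExt θ x)⁻¹) * homExt θ t := by group
        _ = homExt θ z := by rw [← h1]; group
    -- the element of the kernel
    set γ := conjAut P hcn with hγ
    have hγF : γ ∈ F.autGroup P :=
      autInducedBy_le_autGroup hPS (conjAut_mem_autInducedBy hcn hcS)
    have hγK : γ ∈ kerSub Z P := mem_kerSub h hPS hγF fun z => by
      rw [hγ, conjAut_apply, homExt_conj θ hcS (hPS z.2), hcc z z.2]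
    obtain ⟨u, hu, huv⟩ := conj_centralizing h hP hαI hcS hcn hcc
    have hτv : ∀ z : P, (((q : F.autGroup P) : MulAut P) z : Ω) =
        ((conjAut P htP * γ) z : Ω) := fun z => by
      rw [hxv, MulAut.mul_apply, conjAut_apply, hγ, conjAut_apply, hc]
      group
    have hqeq : ((q : F.autGroup P) : MulAut P) = conjAut P htP * γ :=
      MulEquiv.ext fun z => Subtype.ext (hτv z)
    have hαF : α ∈ F.autGroup P := hAF hαA
    have hconjt : α * conjAut P htP * α⁻¹ ∈ autInducedBy S P := by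
      rw [show conjAut P htP = ((q : F.autGroup P) : MulAut P) * γ⁻¹ by rw [hqeq]; group,
        show α * (((q : F.autGroup P) : MulAut P) * γ⁻¹) * α⁻¹ =
          (α * ((q : F.autGroup P) : MulAut P) * α⁻¹) * (α * γ⁻¹ * α⁻¹) by group]
      exact Subgroup.mul_mem _ ((hmemD₁ _).1 (hQ (hgQ q hq)))
        (hKS _ ((F.autGroup P).mul_mem ((F.autGroup P).mul_mem hαF
          ((F.autGroup P).inv_mem hγF)) ((F.autGroup P).inv_mem hαF))
          (kerSub_conj h hPS hαF ((kerSub Z P).inv_mem hγK)))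
    have htn : t ∈ nPhi S P (autFun α) := by
      obtain ⟨s, hs, hsv⟩ := (mem_autInducedBy_iff S P _).1 hconjt
      refine ⟨htS, htP, s, hs, fun z hz => ?_⟩
      have h1 := hsv (α ⟨z, hz⟩)
      rw [MulAut.mul_apply, MulAut.mul_apply, MulAut.inv_apply_self] at h1
      rw [autFun_apply α (conj_mem_of_mem_normalizer htP hz), autFun_apply α hz, ← h1]
      rfl
    have hαi := (mem_autGroup_iff hPS α).1 hαF
    obtain ⟨α', hα', hα'v⟩ := (isReceptive_iff.1 hr).2 P _ hαi
    have hαt : α * conjAut P htP * α⁻¹ ∈ T0 := by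
      refine (mem_autInducedBy_iff T P _).2 ⟨α' t, isMap_mem_of_stronglyClosed hT hα' htn ht,
        fun z => ?_⟩
      obtain ⟨y, rfl⟩ := α.surjective z
      rw [MulAut.mul_apply, MulAut.mul_apply, MulAut.inv_apply_self, ← autFun_coe α,
        ← autFun_coe α y, ← hα'v _ (SetLike.coe_mem _), ← hα'v _ y.2, conjAut_apply]
      exact hα'.map_conj htn (le_nPhi hαi.isMap y.2)
    have hαγ : α * γ * α⁻¹ = γ * conjAut P (Subgroup.le_normalizer hu) := by
      refine MulEquiv.ext fun z => Subtype.ext ?_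
      obtain ⟨y, rfl⟩ := α.surjective z
      rw [MulAut.mul_apply, MulAut.mul_apply, MulAut.inv_apply_self, MulAut.mul_apply,
        conjAut_apply, conjAut_apply,
        show γ y = ⟨c * y * c⁻¹, conj_mem_of_mem_normalizer hcn y.2⟩ from rfl, huv y]
      group
    rw [hmemT₁]
    simp only [Subgroup.coe_mul, Subgroup.coe_inv]
    rw [← hαdef, hqeq, show α * (conjAut P htP * γ) * α⁻¹ * (conjAut P htP * γ)⁻¹ =
      (α * conjAut P htP * α⁻¹) * (α * γ * α⁻¹ * γ⁻¹) * (conjAut P htP)⁻¹ by group, hαγ]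
    refine T0.mul_mem (T0.mul_mem hαt ?_) (T0.inv_mem (conjAut_mem_autInducedBy htP ht))
    exact hTD _ (conjAut_mem_autInducedBy hcn hcS) _
      (conjAut_mem_autInducedBy _ (hP.2.1 hu))
  have hkey : (D₁ : Subgroup A₁) ⊓ Cfsg.pResidual p A₁ ≤ T₁ :=
    pResidual_inf_le D₁ (fun s hs a ha => hTD _ ((hmemD₁ s).1 hs) _ ha) hdisp
  -- the generators
  haveI := CfsgLib.Transfer.pResidual_normal p A₁
  set W : Subgroup (MulAut P) := ((T₁ ⊔ Cfsg.pResidual p A₁).map A₁.subtype).map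
    (F.autGroup P).subtype
  have hgen : genH h P ≤ W := by
    refine (Subgroup.closure_le _).2 ?_
    rintro a (ha | ha)
    · exact ⟨⟨a, hAF (hT0A ha)⟩, ⟨⟨⟨a, hAF (hT0A ha)⟩, hT0A ha⟩,
        Subgroup.mem_sup_left ((hmemT₁ _).2 ha), rfl⟩, rfl⟩
    · refine ⟨⟨a, ha.2.1⟩, ⟨⟨_, ha.2.2.2⟩, Subgroup.mem_sup_right
        (CfsgLib.Transfer.mem_pResidual_of_coprime ?_), rfl⟩, rfl⟩
      rw [← Subgroup.orderOf_coe, ← Subgroup.orderOf_coe]
      exact ha.2.2.1
  rintro k ⟨hk, hkK⟩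
  obtain ⟨_, ⟨a, ha, rfl⟩, rfl⟩ := hgen hk
  rw [SetLike.mem_coe, Subgroup.mem_sup_of_normal_right] at ha
  obtain ⟨b, hb, o, ho, hbo⟩ := ha
  have haD : a ∈ (D₁ : Subgroup A₁) := (hmemD₁ a).2 (hKS _ a.1.2 hkK)
  have hbD : b ∈ (D₁ : Subgroup A₁) := (hmemD₁ b).2 (autInducedBy_mono hTS P hb)
  have hoD : o ∈ (D₁ : Subgroup A₁) := by
    have : o = b⁻¹ * a := by rw [← hbo]; group
    exact this ▸ Subgroup.mul_mem _ (Subgroup.inv_mem _ hbD) haD
  have haT : a ∈ T₁ := hbo ▸ T₁.mul_mem hb (hkey ⟨hoD, ho⟩)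
  obtain ⟨t, ht, htv⟩ := (mem_autInducedBy_iff T P _).1 ((hmemT₁ a).1 haT)
  refine (mem_inn_iff _).2 ⟨t, ?_, htv⟩
  have hU : homExt θ t ∈ centralizerIn T' (imageAlong θ P) := by
    refine ⟨((mem_preimageAlong θ T').1 ht).2, mem_centralizer_of_conj_eq fun y hy => ?_⟩
    obtain ⟨z, hz, rfl⟩ := (mem_imageAlong_iff hPS).1 hy
    rw [← homExt_conj θ (hTS ht) (hPS hz)]
    have h1 := hkK.1 ⟨z, hz⟩
    simp only [Subgroup.coe_subtype] at h1
    rw [htv ⟨z, hz⟩] at h1
    exact ((h.eq_iff (hPS hz) (S.mul_mem (S.mul_mem (hTS ht) (hPS hz)) (S.inv_mem (hTS ht)))).2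
      h1).symm
  rw [← h.preimage_image hPS hP.1]
  exact (mem_preimageAlong θ _).2
    ⟨hTS ht, hP.2.2.2 _ (isConj_refl (h.image_le_T hP.2.1)) hU⟩

/-- Everywhere, generated automorphisms inducing the identity are inner. -/
theorem inf_kerSub_le_inn {P : Subgroup Ω} (hP : IsGood E θ Z P) :
    genH h P ⊓ kerSub Z P ≤ Cfsg.Inn P := by
  have hT := h.stronglyClosed
  have hTS := preimageAlong_le θ T'
  have hPS : P ≤ S := hP.2.1.trans hTS
  obtain ⟨R, hPR, hR⟩ := exists_isFullyNormalized (F := F) hPS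
  obtain ⟨f, hf, hfi, hfN, -⟩ := exists_map_normalizerIn h.pgroup
    (isFullyAutomized_of_isFullyNormalized h.pgroup h.sat hR)
    (isReceptive_of_isFullyNormalized h.pgroup h.sat hR) hPR
  have hRg := isGood_of_iso h hP hfi
  set c := MulAut.congr hfi.equiv
  rintro k ⟨hk, hkK⟩
  have hgen : (genH h P).map c.toMonoidHom ≤ genH h R := by
    rw [genH, MonoidHom.map_closure]
    refine Subgroup.closure_mono ?_
    rintro _ ⟨a, ha | ha, rfl⟩
    · left
      obtain ⟨t, ht, htv⟩ := (mem_autInducedBy_iff _ P a).1 ha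
      have htn : t ∈ normalizerIn S P := ⟨hTS ht, mem_normalizer_of_conj_mem hPS fun z hz =>
        htv ⟨z, hz⟩ ▸ SetLike.coe_mem _⟩
      refine (mem_autInducedBy_iff _ R _).2 ⟨f t, isMap_mem_of_stronglyClosed hT hf htn ht,
        fun y => ?_⟩
      obtain ⟨x, rfl⟩ := hfi.equiv.surjective y
      show (c a (hfi.equiv x) : Ω) = f t * f x * (f t)⁻¹
      rw [hfi.congr_apply, htv, hf.map_conj htn (le_normalizerIn hPS x.2)]
    · exact Or.inr (lift_transport h hfi ha)
  have hkF : k ∈ F.autGroup P := by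
    refine (Subgroup.closure_le _).2 ?_ hk
    rintro a (ha | ha)
    · exact indGroup_le h P hP.2.1 (ind_of_autInducedBy h hP.2.1 ha)
    · exact ha.2.1
  have hkR : c k ∈ kerSub Z R := mem_kerSub h hR.1 (hfi.congr_mem_autGroup hkF) fun y => by
    obtain ⟨x, rfl⟩ := hfi.equiv.surjective y
    obtain ⟨f', -, hv⟩ := h.exists_bar hfi.isMap
    show homExt θ (c k (hfi.equiv x) : Ω) = homExt θ (f x)
    rw [hfi.congr_apply, ← hv _ (k x).2, ← hv x x.2,
      (h.eq_iff (hPS x.2) (hPS (k x).2)).2 (hkK.1 x)]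
  obtain ⟨u, hu, huv⟩ := (mem_inn_iff _).1
    (inf_kerSub_le_inn_of_fn h hRg hR ⟨hgen ⟨k, hk, rfl⟩, hkR⟩)
  obtain ⟨v, hv, rfl⟩ := hfi.surj hu
  refine (mem_inn_iff _).2 ⟨v, hv, fun x => hfi.isMap.injOn (k x).2
    (P.mul_mem (P.mul_mem hv x.2) (P.inv_mem hv)) ?_⟩
  rw [← hfi.congr_apply, hfi.isMap.map_conj hv x.2]
  exact huv _

end CfsgLib.Fusion.CentralLift
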