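import Mathlib
import Cfsg.Agent.Lib.Fusion.CentralLiftKernel
import Cfsg.Agent.Lib.Fusion.SaturationExtend

/-!
The lifted system is saturated.
-/

set_option autoImplicit false
set_option linter.unusedSectionVars false
set_option linter.style.haveILetI false

namespace CfsgLib.Fusion.CentralLift

open Cfsg Cfsg.FusionSystem
open CfsgLib.Fusion.NormalCentralizer

variable {Ω : Type*} [Group Ω] {S : Subgroup Ω} {Ω' : Type*} [Group Ω'] {S' T' : Subgroup Ω'}
variable {F : FusionSystem S} {F' : FusionSystem S'} {E : FusionSystem T'} {θ : S →* Ω'}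
variable {Z : Subgroup Ω} {p : ℕ} [Fact p.Prime] [Finite S]
variable (h : Data F p Z θ F' E)
include h

theorem toF {P Q : Subgroup Ω} {f : Ω → Ω} (hf : IsIso (lifted h) P Q f) : IsIso F P Q f :=
  hf.of_subsystem (lifted_sub h)

theorem autGroup_lifted_le {P : Subgroup Ω} {α : MulAut P} (hα : α ∈ (lifted h).autGroup P)
    (hP : P ≤ preimageAlong θ T') : α ∈ F.autGroup P ∧ Ind F E θ P (autFun α) := by
  have hI := isMap_lifted h ((mem_autGroup_iff hP α).1 hα).isMap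
  exact ⟨mem_autGroup_of_isMap hI.2.1 α fun x => (autFun_coe α x).symm, hI⟩

theorem isGood_of_conj {P Q : Subgroup Ω} (hP : IsGood E θ Z P) (hc : (lifted h).IsConj P Q) :
    IsGood E θ Z Q := by
  obtain ⟨f, hf⟩ := isConj_iff.1 hc
  exact isGood_of_iso h hP (toF h hf)

/-- Isomorphisms of `E` lift. -/
theorem exists_lift_iso {P : Subgroup Ω} (hP : IsGood E θ Z P) {R' : Subgroup Ω'} {f' : Ω' → Ω'}
    (hf' : IsIso E (imageAlong θ P) R' f') :
    ∃ f, IsIso (lifted h) P (preimageAlong θ R') f ∧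
      ∀ x ∈ P, f' (homExt θ x) = homExt θ (f x) := by
  obtain ⟨f, hf, hv⟩ := exists_lift h hf'.isMap
  have hpre := h.preimage_image (hP.2.1.trans (preimageAlong_le θ T')) hP.1
  have hi := h.iso_preimage (isMap_of_subsystem (lifted_sub h) hf) (hf'.of_subsystem h.inv'.1) hv
  rw [hpre] at hf hi
  exact ⟨f, ⟨hf, hi.image_eq⟩, fun x hx => hv x (hpre.symm ▸ hx)⟩

/-- Images of fully normalised subgroups. -/
theorem isFullyNormalized_image' {P : Subgroup Ω} (hP : IsGood E θ Z P)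
    (hfn : (lifted h).IsFullyNormalized P) : E.IsFullyNormalized (imageAlong θ P) := by
  have := h.finite'
  have hr : θ.range = S' := h.factor.2.2.1
  have hUT := h.image_le_T hP.2.1
  refine ⟨hUT, fun R' hR' => ?_⟩
  obtain ⟨f', hf'⟩ := isConj_iff.1 hR'
  obtain ⟨f, hf, -⟩ := exists_lift_iso h hP hf'
  have h1 := hfn.2 _ hf.isConj
  rw [← h.preimage_image (hP.2.1.trans (preimageAlong_le θ T')) hP.1,
    normalizerIn_preimage h hUT, normalizerIn_preimage h hf'.le_right,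
    card_preimageAlong θ (fun x hx => hr.ge (h.TS' hx.1) : normalizerIn T' R' ≤ θ.range),
    card_preimageAlong θ
      (fun x hx => hr.ge (h.TS' hx.1) : normalizerIn T' (imageAlong θ P) ≤ θ.range)] at h1
  exact Nat.le_of_mul_le_mul_left h1 Nat.card_pos

theorem inn_le_genH {P : Subgroup Ω} (hP : P ≤ preimageAlong θ T') :
    Cfsg.Inn P ≤ genH h P := fun a ha => by
  obtain ⟨u, hu, huv⟩ := (mem_inn_iff a).1 ha
  exact Subgroup.subset_closure (Or.inl ((mem_autInducedBy_iff _ P a).2 ⟨u, hP hu, huv⟩))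

variable {P₀ : Subgroup Ω}

/-- The restrictions of stabilising automorphisms of a receptive subgroup, transported. -/
theorem eta_mem_genH (hP₀ : IsGood E θ Z P₀) {Rs X' : Subgroup Ω}
    (hRs : Rs ≤ preimageAlong θ T') (hpl : SatExtend.Placed (lifted h) p Rs X') {ω : Ω → Ω}
    (hω : IsIso (lifted h) X' P₀ ω)
    (hy : ∀ y ∈ normalizerIn (preimageAlong θ T') Rs, y ∈ Subgroup.normalizer (X' : Set Ω) →
      ∃ z ∈ preimageAlong θ T', ∀ x ∈ X', ω (y * x * y⁻¹) = z * ω x * z⁻¹)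
    {η : MulAut Rs} (hη : η ∈ SatExtend.stabF (lifted h) Rs X') :
    MulAut.congr hω.equiv (resHom hpl.1 ⟨η, hη.2⟩) ∈ genH h P₀ := by
  have := finiteT h
  have := finite_of_le hRs
  have := finite_mulAut Rs
  have hT := pgroupT h
  set c : sclStabAut Rs X' →* MulAut P₀ :=
    (MulAut.congr hω.equiv).toMonoidHom.comp (resHom hpl.1)
  obtain ⟨D, hD⟩ := SatExtend.exists_placed_sylow hT hRs hpl
  have hX' : IsGood E θ Z X' := by
    obtain ⟨r, hr, -, -⟩ := hω.exists_symm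
    exact isGood_of_conj h hP₀ hr.isConj
  suffices hle : SatExtend.stabF (lifted h) Rs X' ≤
      ((genH h P₀).comap c).map (sclStabAut Rs X').subtype by
    obtain ⟨b, hb, hbe⟩ := hle hη
    have hb' : b = (⟨η, hη.2⟩ : sclStabAut Rs X') := Subtype.ext hbe
    exact hb' ▸ hb
  refine ModelNormal.le_of_sylow_coprime D (fun x hx => ⟨⟨_, x.2.2⟩, ?_, rfl⟩) fun x hx hxo => ?_
  · rw [hD, Subgroup.mem_subgroupOf] at hx
    obtain ⟨y, hyT, hyv⟩ := (mem_autInducedBy_iff _ Rs _).1 hx.1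
    have hyn : y ∈ normalizerIn (preimageAlong θ T') Rs :=
      ⟨hyT, mem_normalizer_of_conj_mem hRs fun z hz => hyv ⟨z, hz⟩ ▸ SetLike.coe_mem _⟩
    have hyX : y ∈ Subgroup.normalizer (X' : Set Ω) :=
      mem_normalizer_of_conj_mem (hpl.1.trans hRs) fun z hz => by
        rw [← hyv ⟨z, hpl.1 hz⟩]
        exact (x.2.2 ⟨z, hpl.1 hz⟩).2 hz
    obtain ⟨z, hz, hzv⟩ := hy y hyn hyX
    refine Subgroup.subset_closure (Or.inl ((mem_autInducedBy_iff _ P₀ _).2 ⟨z, hz, fun w => ?_⟩))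
    obtain ⟨v, rfl⟩ := hω.equiv.surjective w
    show (MulAut.congr hω.equiv (resHom hpl.1 ⟨_, x.2.2⟩) (hω.equiv v) : Ω) = z * ω v * z⁻¹
    rw [hω.congr_apply, resHom_apply]
    show ω ((x : MulAut Rs) ⟨v, hpl.1 v.2⟩) = _
    rw [hyv]
    exact hzv v v.2
  · refine ⟨⟨x, hx.2⟩, Subgroup.subset_closure (Or.inr ?_), rfl⟩
    have hres := resHom_mem_autGroup hpl.1 hRs ⟨x, hx.2⟩ hx.1
    have hI := autGroup_lifted_le h hres hX'.2.1
    refine lift_transport h (toF h hω) ⟨hX', hI.1, ?_, hI.2⟩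
    refine Nat.Coprime.coprime_dvd_left (orderOf_map_dvd (resHom hpl.1) ⟨x, hx.2⟩) ?_
    rwa [← Subgroup.orderOf_coe]

/-- Automorphisms extending to larger subgroups are generated. -/
theorem ext_mem_genH (hs : SatExtend.Setup (lifted h) p P₀) (hP₀ : IsGood E θ Z P₀)
    (hgood : ∀ {P}, (lifted h).IsConj P₀ P → SatExtend.Good (lifted h) P₀ P) :
    ∀ (d : ℕ) (B : Subgroup Ω) (f : Ω → Ω) (α : MulAut P₀),
      Nat.card (preimageAlong θ T') - Nat.card B = d → P₀ < B →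
      B ≤ normalizerIn (preimageAlong θ T') P₀ → IsMap (lifted h) B f →
      (∀ x : P₀, (α x : Ω) = f x) → α ∈ genH h P₀ := by
  set T := preimageAlong θ T'
  have := finiteT h
  intro d
  induction d using Nat.strong_induction_on with
  | _ d ih =>
  intro B f α hd hPB hBN hf hv
  set N₀ := normalizerIn T P₀ with hN₀
  have hN₀T : N₀ ≤ T := inf_le_left
  have hBT : B ≤ T := hBN.trans hN₀T
  have := finite_of_le hBT
  have := finite_of_le hN₀T
  have hfP : IsIso (lifted h) P₀ P₀ f :=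
    ((mem_autGroup_iff hs.le α).1 (mem_autGroup_of_isMap (hf.mono hPB.le) α hv)).congr
      fun x hx => by rw [autFun_apply α hx, hv]
  obtain ⟨B₁, hB₁⟩ := hf.exists_iso
  obtain ⟨f₁, hf₁, hf₁1, -⟩ := hB₁.exists_symm
  have hP₀B₁ : P₀ ≤ B₁ := fun y hy => by
    obtain ⟨x, hx, rfl⟩ := hfP.surj hy
    exact hB₁.mem (hPB.le hx)
  have hB₁N : B₁ ≤ N₀ := fun y hy => by
    obtain ⟨x, hx, rfl⟩ := hB₁.surj hy
    exact hf.mem_normalizerIn hPB.le hfP hx (hBN hx).2
  have hf₁P : IsIso (lifted h) P₀ P₀ f₁ := by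
    refine ⟨hf₁.isMap.mono hP₀B₁, ?_⟩
    conv_lhs => rw [← hfP.image_eq]
    rw [Set.image_image]
    exact (Set.image_congr fun x hx => hf₁1 x (hPB.le hx)).trans (Set.image_id _)
  obtain ⟨Rs, hRs, hRa, hRr⟩ := hs.sat P₀ B (isConj_refl hs.le) hPB hBT
  obtain ⟨k, hk⟩ := isConj_iff.1 hRs
  obtain ⟨X, hX⟩ := (hk.isMap.mono hPB.le).exists_iso
  obtain ⟨δ, hδ, X', hX', hpl⟩ := SatExtend.exists_placed hs.pgroup hRa (X := X) fun y hy => by
    obtain ⟨x, hx, rfl⟩ := hX.surj hy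
    exact hk.mem (hPB.le hx)
  have hu : IsIso (lifted h) B Rs (autFun δ ∘ k) := hk.comp ((mem_autGroup_iff hRa.1 δ).1 hδ)
  have huP : IsIso (lifted h) P₀ X' (autFun δ ∘ k) :=
    ⟨hu.isMap.mono hPB.le, by rw [Set.image_comp, hX.image_eq, hX']⟩
  have hRsT := hRa.1
  have := finite_of_le hRsT
  have hX'Rs : X' ≤ Rs := hpl.1
  have hXsurj : ∀ {u : Ω → Ω}, IsIso (lifted h) P₀ X' u → ∀ x : X', ∃ y : P₀, u y = x :=
    fun {u} hu x => by
      obtain ⟨y, hy, hye⟩ := hu.surj x.2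
      exact ⟨⟨y, hy⟩, hye⟩
  rcases eq_or_ne B N₀ with hBe | hBne
  · -- the whole normaliser
    set u := autFun δ ∘ k
    obtain ⟨r, hr, hr1, -⟩ := hu.exists_symm
    obtain ⟨η, hη, hηv⟩ := exists_mem_autGroup
      ((hr.comp (hf.isIso_of_card_le (fun x hx => hBe ▸ hB₁N (hB₁.mem hx)) le_rfl)).comp hu)
    have hrP : IsIso (lifted h) X' P₀ r := by
      refine ⟨hr.isMap.mono hX'Rs, ?_⟩
      rw [← huP.image_eq, Set.image_image]
      exact (Set.image_congr fun x hx => hr1 x (hPB.le hx)).trans (Set.image_id _)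
    have hηs : η ∈ sclStabAut Rs X' := SatExtend.stab_iff hX'Rs fun z hz => by
      obtain ⟨x, hx, hxe⟩ := huP.surj hz
      rw [hηv]
      show u (f (r z)) ∈ X'
      rw [← hxe, hr1 x (hPB.le hx)]
      exact huP.mem (hfP.mem hx)
    have hRsN : Rs ≤ normalizerIn T X' := fun y hy => by
      obtain ⟨x, hx, rfl⟩ := hu.surj hy
      exact hu.isMap.mem_normalizerIn hPB.le huP hx (hBN hx).2
    have := finite_of_le (S := T) (P := normalizerIn T X') inf_le_left
    have hNX : normalizerIn T X' = Rs := (Subgroup.eq_of_le_of_card_ge hRsN (by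
      rw [hu.card_eq, hBe]
      exact hs.fn.2 X' huP.isConj)).symm
    have hmem := eta_mem_genH h hP₀ hRsT hpl hrP (fun y hy hyX => by
      have hyR : y ∈ Rs := hNX ▸ ⟨hy.1, hyX⟩
      exact ⟨r y, hr.isMap.mem hyR, fun x hx => hr.isMap.map_conj hyR (hX'Rs hx)⟩)
      (η := η) ⟨hη, hηs⟩
    convert hmem using 1
    refine MulEquiv.ext fun w => Subtype.ext ?_
    obtain ⟨v, rfl⟩ := hrP.equiv.surjective w
    rw [hrP.congr_apply, resHom_apply, hv]
    show f (r v) = r (η ⟨v, hX'Rs v.2⟩ : Ω)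
    rw [hηv]
    show f (r v) = r (u (f (r v)))
    rw [hr1 _ (hBe ▸ hB₁N (hB₁.mem (hr.mem (hX'Rs v.2))))]
  · -- a proper subgroup of the normaliser
    have hB₁ne : B₁ ≠ N₀ := fun e => hBne (Subgroup.eq_of_le_of_card_ge hBN
      (by rw [← e, hB₁.card_eq]))
    set Bp := normalizerIn N₀ B
    set B₁p := normalizerIn N₀ B₁
    have hlt : B < Bp := lt_normalizerIn (hs.pgroup.to_le hN₀T) hBN hBne
    have hlt₁ : B₁ < B₁p := lt_normalizerIn (hs.pgroup.to_le hN₀T) hB₁N hB₁ne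
    obtain ⟨u', hu', hu'B, hu'P⟩ := SatExtend.exists_ext hs.pgroup hRr hpl hu hPB.le huP
      (M := Bp) (fun x hx => ⟨hN₀T hx.1, hx.2⟩) inf_le_left
    obtain ⟨v', hv', hv'B, hv'P⟩ := SatExtend.exists_ext hs.pgroup hRr hpl (hf₁.comp hu) hP₀B₁
      (hf₁P.comp huP) (M := B₁p) (fun x hx => ⟨hN₀T hx.1, hx.2⟩) inf_le_left
    obtain ⟨r, hr, hr1, -⟩ := hu'B.exists_symm
    obtain ⟨η, hη, hηv⟩ := exists_mem_autGroup ((hr.comp hB₁).comp hv'B)
    have hηs : η ∈ sclStabAut Rs X' := SatExtend.stab_iff hX'Rs fun z hz => by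
      obtain ⟨x, hx, hxe⟩ := hu'P.surj hz
      rw [hηv]
      show v' (f (r z)) ∈ X'
      rw [← hxe, hr1 x (hPB.le hx)]
      exact hv'P.mem (hfP.mem hx)
    obtain ⟨φ, hφ, hφP⟩ := hgood hu'P.isConj
    have hmem := eta_mem_genH h hP₀ hRsT hpl hφP (fun y hy hyX =>
      have hyN : y ∈ normalizerIn T X' := ⟨hy.1, hyX⟩
      ⟨φ y, hφ.mem hyN, fun x hx => hφ.map_conj hyN (le_normalizerIn hφP.le_left hx)⟩)
      (η := η) ⟨hη, hηs⟩
    have hP₀p : P₀ < Bp := hPB.trans hlt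
    have hP₀p₁ : P₀ < B₁p := lt_of_le_of_lt hP₀B₁ hlt₁
    have ha₂ : IsMap (lifted h) Bp (φ ∘ u') := hu'.comp hφ fun x hx =>
      hu'.mem_normalizerIn hP₀p.le hu'P hx (hx.1).2
    have ha₁ : IsMap (lifted h) B₁p (φ ∘ v') := hv'.comp hφ fun x hx =>
      hv'.mem_normalizerIn hP₀p₁.le hv'P hx (hx.1).2
    obtain ⟨a₂, ha₂m, ha₂v⟩ := exists_mem_autGroup (hu'P.comp hφP)
    obtain ⟨a₁, ha₁m, ha₁v⟩ := exists_mem_autGroup (hv'P.comp hφP)
    have hBpT : Bp ≤ T := inf_le_left.trans hN₀T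
    have hB₁pT : B₁p ≤ T := inf_le_left.trans hN₀T
    have hc2 : Nat.card B < Nat.card Bp := SatExtend.card_lt_card hBpT hlt
    have hc1 : Nat.card B < Nat.card B₁p := hB₁.card_eq ▸ SatExtend.card_lt_card hB₁pT hlt₁
    have hc3 : Nat.card Bp ≤ Nat.card T := Subgroup.card_le_of_le hBpT
    have hc4 : Nat.card B₁p ≤ Nat.card T := Subgroup.card_le_of_le hB₁pT
    have hTe : Nat.card T = Nat.card (preimageAlong θ T') := rfl
    have h2 := ih _ (by omega) Bp _ a₂ rfl hP₀p inf_le_left ha₂ ha₂v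
    have h1 := ih _ (by omega) B₁p _ a₁ rfl hP₀p₁ inf_le_left ha₁ ha₁v
    have h3 := (genH h P₀).mul_mem ((genH h P₀).mul_mem ((genH h P₀).inv_mem h1) hmem) h2
    convert h3 using 1
    refine MulEquiv.ext fun x => ?_
    apply a₁.injective
    rw [MulAut.mul_apply, MulAut.mul_apply, MulAut.apply_inv_self]
    refine Subtype.ext ?_
    obtain ⟨w, hw⟩ := hφP.equiv.surjective (a₂ x)
    rw [← hw, hφP.congr_apply, resHom_apply]
    have hwe : (w : Ω) = u' x := hφP.isMap.injOn w.2 (hu'P.mem x.2) (by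
      have := congrArg (Subtype.val : P₀ → Ω) hw
      rwa [ha₂v] at this)
    have hη' : ((η ⟨(w : Ω), hX'Rs w.2⟩ : Rs) : Ω) = v' (f x) := by
      rw [hηv]
      show v' (f (r w)) = _
      rw [hwe, hr1 x (hPB.le x.2)]
    rw [ha₁v]
    show φ (v' (α x : Ω)) = φ ((η ⟨(w : Ω), hX'Rs w.2⟩ : Rs) : Ω)
    rw [hη', hv]

/-- The automorphism group of a fully normalised good subgroup. -/
theorem autGroup_le_genH (hP₀ : IsGood E θ Z P₀) (hfn : (lifted h).IsFullyNormalized P₀)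
    (hsat : ∀ R : Subgroup Ω, IsGood E θ Z R → Nat.card P₀ < Nat.card R →
      ∃ Q, (lifted h).IsConj R Q ∧ (lifted h).IsFullyAutomized p Q ∧ (lifted h).IsReceptive Q) :
    (lifted h).autGroup P₀ ≤ genH h P₀ := by
  set T := preimageAlong θ T'
  have := finiteT h
  have hPT := hP₀.2.1
  have := finite_of_le hPT
  rcases eq_or_ne P₀ T with he | hne
  · -- the whole of `T`
    set M : Subgroup Ω → (Ω → Ω) → Prop := fun P f =>
      IsMap (lifted h) P f ∧ (P = P₀ → ∃ α ∈ genH h P₀, ∀ x : P₀, (α x : Ω) = f x)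
    have hM : PPrime.IsSubPred (lifted h) M := {
      isMap := fun hf => hf.1
      congr := fun {P f g} hf hfg => ⟨hf.1.congr hfg, fun e => by
        obtain ⟨α, hα, hv⟩ := hf.2 e
        exact ⟨α, hα, fun x => (hv x).trans (hfg x (e ▸ x.2))⟩⟩
      conj := fun {P g} hP hg => ⟨isMap_conj hP hg, fun e => by
        have hgn : g ∈ Subgroup.normalizer (P₀ : Set Ω) :=
          Subgroup.le_normalizer (he ▸ hg)
        exact ⟨conjAut P₀ hgn, Subgroup.subset_closure (Or.inl (conjAut_mem_autInducedBy hgn hg)),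
          fun x => conjAut_apply P₀ hgn x⟩⟩
      comp := fun {P Q f g} hf hg hm => ⟨hf.1.comp hg.1 hm, fun e => by
        obtain ⟨α, hα, hv⟩ := hf.2 e
        have hQ : Q = P₀ := le_antisymm (he ▸ hg.1.le) fun y hy => by
          have hy' : ((α⁻¹ ⟨y, hy⟩ : P₀) : Ω) ∈ P := by rw [e]; exact SetLike.coe_mem _
          have h1 := hm _ hy'
          rwa [← hv, MulAut.apply_inv_self] at h1
        obtain ⟨β, hβ, hw⟩ := hg.2 hQ
        refine ⟨β * α, (genH h P₀).mul_mem hβ hα, fun x => ?_⟩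
        rw [MulAut.mul_apply, hw, hv]
        rfl⟩
      inv := fun {P Q f r} hf hi hr h1 => ⟨hr.isMap, fun e => by
        have hPe : P = P₀ := Subgroup.eq_of_le_of_card_ge (he ▸ hi.le_left)
          (by rw [← hi.card_eq, e])
        obtain ⟨α, hα, hv⟩ := hf.2 hPe
        refine ⟨α⁻¹, (genH h P₀).inv_mem hα, fun x => ?_⟩
        have hy' : ((α⁻¹ x : P₀) : Ω) ∈ P := by rw [hPe]; exact SetLike.coe_mem _
        have h2 := h1 _ hy'
        rw [← hv, MulAut.apply_inv_self] at h2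
        exact h2.symm⟩ }
    intro a ha
    have hm : IsMap (PPrime.ofPred (lifted h) M hM) P₀ (autFun a) := by
      refine isMap_of_subsystem (lifted_le h fun P β hβ => ?_)
        ((mem_autGroup_iff hPT a).1 ha).isMap
      have hβm := ((mem_autGroup_iff hβ.1.2.1 β).1 (lift_mem h hβ)).isMap
      refine mem_autGroup_of_isMap ((PPrime.isMap_ofPred hM).2 ⟨hβm, fun e => ?_⟩) β
        fun x => (autFun_coe β x).symm
      subst e
      exact ⟨β, Subgroup.subset_closure (Or.inr hβ), fun x => (autFun_coe β x).symm⟩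
    obtain ⟨α, hα, hv⟩ := ((PPrime.isMap_ofPred hM).1 hm).2 rfl
    have e : a = α := MulEquiv.ext fun x => Subtype.ext (by rw [hv, autFun_coe])
    exact e ▸ hα
  have hs : SatExtend.Setup (lifted h) p P₀ := by
    refine ⟨pgroupT h, hPT, hne, hfn, fun P R hc hPR hR => ?_⟩
    refine hsat R (isGood_of_le h (isGood_of_conj h hP₀ hc) hPR.le hR) ?_
    obtain ⟨g, hg⟩ := isConj_iff.1 hc
    exact hg.card_eq ▸ SatExtend.card_lt_card hR hPR
  let G : ∀ P : Subgroup Ω, Set (MulAut P) := fun P => {α | Lift F E θ p Z P α}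
  have hG : ∀ P, G P ⊆ ((lifted h).autGroup P : Set _) := fun P α hα => lift_mem h hα
  have hgen : SatExtend.GeneratedMod (lifted h) P₀ G := by
    intro D h₁ h₂
    refine lifted_le h fun P α hα => ?_
    by_cases hc : (lifted h).IsConj P₀ P
    · exact mem_autGroup_of_isMap (h₂ P hc α hα) α fun x => (autFun_coe α x).symm
    · obtain ⟨φ, hφ, hv⟩ := ((mem_autGroup_iff hα.1.2.1 α).1 (lift_mem h hα)).isMap
      exact mem_autGroup_of_isMap ⟨φ, h₁ P hc hφ, hv⟩ α fun x => (autFun_coe α x).symm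
  intro a ha
  have hgood : ∀ {P}, (lifted h).IsConj P₀ P → SatExtend.Good (lifted h) P₀ P :=
    fun hP => SatExtend.all_good' hs hgen hG hP
  refine (Subgroup.closure_le _).2 ?_
    (SatExtend.autGroup_le_closure' hs hgen hG (fun hf _ α hα => lift_transport h (toF h hf) hα) ha)
  rintro α (⟨R, hPR, f, hf, hv⟩ | hα)
  · have := finite_of_le hf.le
    have hlt : P₀ < normalizerIn R P₀ :=
      lt_normalizerIn ((pgroupT h).to_le hf.le) hPR.le hPR.ne
    exact ext_mem_genH h hs hP₀ hgood _ _ f α rfl hlt (inf_le_inf_right _ hf.le)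
      (hf.mono inf_le_left) hv
  · exact Subgroup.subset_closure (Or.inr hα)

/-- Good subgroups have fully automized, receptive conjugates. -/
theorem sat_good : ∀ P : Subgroup Ω, IsGood E θ Z P →
    ∃ Q, (lifted h).IsConj P Q ∧ (lifted h).IsFullyAutomized p Q ∧ (lifted h).IsReceptive Q := by
  set T := preimageAlong θ T' with hTdef
  have := finiteT h
  have := finiteT' h
  have hT := pgroupT h
  have hTS := preimageAlong_le θ T'
  suffices H : ∀ (n : ℕ) (P : Subgroup Ω), Nat.card T - Nat.card P = n → IsGood E θ Z P →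
      ∃ Q, (lifted h).IsConj P Q ∧ (lifted h).IsFullyAutomized p Q ∧ (lifted h).IsReceptive Q from
    fun P hP => H _ P rfl hP
  intro n
  induction n using Nat.strong_induction_on with
  | _ n ih =>
  intro P hn hP
  obtain ⟨P₀, hPc, hfn⟩ := exists_isFullyNormalized (F := lifted h) hP.2.1
  have hP₀ := isGood_of_conj h hP hPc
  have haut : (lifted h).autGroup P₀ ≤ genH h P₀ := autGroup_le_genH h hP₀ hfn fun R hR hlt =>
    ih _ (by
      obtain ⟨g, hg⟩ := isConj_iff.1 hPc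
      have h1 := hg.card_eq
      have h2 : Nat.card R ≤ Nat.card T := Subgroup.card_le_of_le hR.2.1
      omega) R rfl hR
  have hPT := hP₀.2.1
  have hPS : P₀ ≤ S := hPT.trans hTS
  have hker : ∀ k ∈ (lifted h).autGroup P₀, (∀ x : P₀, homExt θ (k x : Ω) = homExt θ x) →
      k ∈ Cfsg.Inn P₀ := fun k hk hv =>
    inf_kerSub_le_inn h hP₀ ⟨haut hk, mem_kerSub h hPS (autGroup_lifted_le h hk hPT).1 hv⟩
  set U := imageAlong θ P₀ with hUdef
  have hUfn := isFullyNormalized_image' h hP₀ hfn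
  have hTp : IsPGroup p T' := h.pgroup'.to_le h.TS'
  have := finite_of_le hUfn.1
  have := finite_mulAut U
  have := finite_of_le hPT
  have := finite_mulAut P₀
  refine ⟨P₀, hPc, (isFullyAutomized_iff hT).2 ⟨hPT, fun A hA hAp => ?_⟩,
    isReceptive_iff.2 ⟨hPT, fun P₁ f hf => ?_⟩⟩
  · -- fully automized: the induced automorphisms
    have hind : ∀ a : A, ∃ b : E.autGroup U,
        ∀ x : P₀, autFun (b : MulAut U) (homExt θ x) = homExt θ ((a : MulAut P₀) x : Ω) := by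
      intro a
      obtain ⟨-, -, a', ha', hv⟩ := (autGroup_lifted_le h (hA a.2) hPT).2
      have hm : ∀ y ∈ U, a' y ∈ U := fun y hy => by
        obtain ⟨x, hx, rfl⟩ := (mem_imageAlong_iff hPS).1 hy
        rw [hv x hx]
        exact mem_imageAlong hPS (autFun_mem _ hx)
      obtain ⟨b, hb, hbv⟩ := exists_mem_autGroup (ha'.isIso_of_card_le hm le_rfl)
      refine ⟨⟨b, hb⟩, fun x => ?_⟩
      rw [autFun_apply b (mem_imageAlong hPS x.2), hbv, hv x x.2, autFun_coe]
    choose ρ hρ using hind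
    have hext : ∀ b c : MulAut U, (∀ x : P₀, autFun b (homExt θ x) = autFun c (homExt θ x)) →
        b = c := fun b c hbc => MulEquiv.ext fun y => Subtype.ext <| by
      obtain ⟨x, hx, hxe⟩ := (mem_imageAlong_iff hPS).1 y.2
      have := hbc ⟨x, hx⟩
      rwa [show homExt θ ((⟨x, hx⟩ : P₀) : Ω) = y from hxe, autFun_coe, autFun_coe] at this
    let ρ' : A →* MulAut U := MonoidHom.mk' (fun a => ρ a) fun a b => hext _ _ fun x => by
      rw [hρ, autFun_mul _ _ (mem_imageAlong hPS x.2), hρ b, hρ a]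
      rfl
    have hAb : ρ'.range ≤ E.autGroup U := by
      rintro _ ⟨a, rfl⟩
      exact (ρ a).2
    obtain ⟨db, hdb, hdbv⟩ :=
      ((isFullyAutomized_iff hTp).1 (isFullyAutomized_of_isFullyNormalized hTp h.satE hUfn)).2
        ρ'.range hAb (hAp.of_surjective ρ'.rangeRestrict ρ'.rangeRestrict_surjective)
    obtain ⟨l, hl, hlv⟩ := exists_lift_iso h hP₀ ((mem_autGroup_iff hUfn.1 db).1 hdb)
    rw [h.preimage_image hPS hP₀.1] at hl
    obtain ⟨d, hd, hdv⟩ := exists_mem_autGroup hl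
    refine ⟨d, hd, fun a ha => ?_⟩
    obtain ⟨t', ht', htv⟩ := (mem_autInducedBy_iff T' U _).1 (hdbv _ ⟨⟨a, ha⟩, rfl⟩)
    obtain ⟨t, ht, rfl⟩ := exists_mem_preimageAlong (h.TS'.trans h.factor.2.2.1.ge) ht'
    have htS := hTS ht
    have hbar : ∀ x : P₀, homExt θ ((d * a * d⁻¹) x : Ω) = homExt θ (t * x * t⁻¹) := by
      intro x
      rw [homExt_conj θ htS (hPS x.2), ← htv ⟨_, mem_imageAlong hPS x.2⟩]
      obtain ⟨y, rfl⟩ := d.surjective x
      rw [MulAut.mul_apply, MulAut.mul_apply, MulAut.inv_apply_self, hdv, ← hlv _ (a y).2,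
        ← hρ ⟨a, ha⟩ y, ← autFun_coe (db * ρ' ⟨a, ha⟩ * db⁻¹), autFun_mul _ _
          (mem_imageAlong hPS (d y).2), autFun_mul _ _ (autFun_mem _ (mem_imageAlong hPS (d y).2))]
      congr 2
      rw [hdv, ← hlv _ y.2, autFun_inv_self db (mem_imageAlong hPS y.2)]
    have htn : t ∈ Subgroup.normalizer (P₀ : Set Ω) := mem_normalizer_of_conj_mem hPS fun z hz => by
      rw [← h.preimage_image hPS hP₀.1]
      refine (mem_preimageAlong θ _).2 ⟨S.mul_mem (S.mul_mem htS (hPS hz)) (S.inv_mem htS), ?_⟩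
      rw [← hbar ⟨z, hz⟩]
      exact mem_imageAlong hPS (SetLike.coe_mem _)
    have hτ := conjAut_mem_autInducedBy (P := P₀) htn ht
    have hk : (conjAut P₀ htn)⁻¹ * (d * a * d⁻¹) ∈ Cfsg.Inn P₀ := by
      refine hker _ (Subgroup.mul_mem _ (Subgroup.inv_mem _ (autInducedBy_le_autGroup hPT hτ))
        (Subgroup.mul_mem _ (Subgroup.mul_mem _ hd (hA ha)) (Subgroup.inv_mem _ hd))) fun x => ?_
      rw [MulAut.mul_apply]
      have hz : ∀ y : P₀, homExt θ (conjAut P₀ htn y : Ω) =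
          homExt θ t * homExt θ y * (homExt θ t)⁻¹ := fun y => by
        rw [conjAut_apply, homExt_conj θ htS (hPS y.2)]
      have h1 := hz ((conjAut P₀ htn)⁻¹ ((d * a * d⁻¹) x))
      rw [MulAut.apply_inv_self, hbar x, homExt_conj θ htS (hPS x.2)] at h1
      exact mul_left_cancel (mul_right_cancel h1.symm)
    rw [inn_eq_autInducedBy] at hk
    have := (autInducedBy T P₀).mul_mem hτ (autInducedBy_mono hPT P₀ hk)
    rwa [mul_inv_cancel_left] at this
  · -- receptive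
    have hP₁ : IsGood E θ Z P₁ := isGood_of_conj h hP₀ (isConj_symm hf.isConj)
    have hP₁S : P₁ ≤ S := hP₁.2.1.trans hTS
    obtain ⟨-, -, f', hf', hfv⟩ := isMap_lifted h hf.isMap
    have hf'i : IsIso E (imageAlong θ P₁) U f' := ⟨hf', h.image_iso (toF h hf) hfv⟩
    obtain ⟨g', hg', hg'v⟩ := (isReceptive_iff.1
      (isReceptive_of_isFullyNormalized hTp h.satE hUfn)).2 _ _ hf'i
    obtain ⟨g, hg, hgv⟩ := exists_lift h hg'
    set M := nPhi T P₁ f
    have hMle : M ≤ preimageAlong θ (nPhi T' (imageAlong θ P₁) f') := by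
      rintro x ⟨hxT, hxn, s, hs, hsv⟩
      have hxS := hTS hxT
      refine (mem_preimageAlong θ _).2 ⟨hxS, ((mem_preimageAlong θ T').1 hxT).2,
        mem_normalizer_of_conj_mem (h.image_le_T hP₁.2.1) fun y hy => ?_, homExt θ s,
        ((mem_preimageAlong θ T').1 hs).2, fun y hy => ?_⟩
      · obtain ⟨z, hz, rfl⟩ := (mem_imageAlong_iff hP₁S).1 hy
        rw [← homExt_conj θ hxS (hP₁S hz)]
        exact mem_imageAlong hP₁S (conj_mem_of_mem_normalizer hxn hz)
      · obtain ⟨z, hz, rfl⟩ := (mem_imageAlong_iff hP₁S).1 hy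
        rw [← homExt_conj θ hxS (hP₁S hz), hfv _ (conj_mem_of_mem_normalizer hxn hz), hfv z hz,
          hsv z hz, homExt_conj θ (hTS hs) (hTS (hf.isMap.mem hz))]
    have hP₁M : P₁ ≤ M := le_nPhi hf.isMap
    have hgM := hg.mono hMle
    have heq : ∀ x ∈ P₁, homExt θ (g x) = homExt θ (f x) := fun x hx => by
      rw [← hgv x (hMle (hP₁M hx)), hg'v _ (mem_imageAlong hP₁S hx), hfv x hx]
    have hgP : ∀ x ∈ P₁, g x ∈ P₀ := fun x hx => by
      rw [← h.preimage_image hPS hP₀.1]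
      refine (mem_preimageAlong θ _).2 ⟨hTS (hgM.mem (hP₁M hx)), ?_⟩
      rw [heq x hx]
      exact mem_imageAlong hPS (hf.mem hx)
    have hgi : IsIso (lifted h) P₁ P₀ g :=
      (hgM.mono hP₁M).isIso_of_card_le hgP hf.card_eq.le
    obtain ⟨r, hr, hr1, -⟩ := hgi.exists_symm
    obtain ⟨k, hk, hkv⟩ := exists_mem_autGroup (hr.comp hf)
    have hk' := hker k hk fun x => by
      obtain ⟨z, hz, hze⟩ := hgi.surj x.2
      rw [hkv]
      show homExt θ (f (r x)) = _
      rw [← hze, hr1 z hz, heq z hz]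
    obtain ⟨q, hq, hqv⟩ := (mem_inn_iff k).1 hk'
    refine ⟨fun x => q * g x * q⁻¹, hgM.comp (isMap_conj (P := T) le_rfl (hPT hq))
      (fun x hx => hgM.mem hx), fun x hx => ?_⟩
    show q * g x * q⁻¹ = f x
    rw [← hqv ⟨g x, hgP x hx⟩, hkv]
    show f (r (g x)) = f x
    rw [hr1 x hx]

/-- The lifted system is saturated. -/
theorem isSaturated_lifted : (lifted h).IsSaturated p := by
  set T := preimageAlong θ T' with hTdef
  have := finiteT h
  have hT := pgroupT h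
  have hTS := preimageAlong_le θ T'
  refine SatExtend.isSaturated_of_family hT (ℋ := {P | IsGood E θ Z P})
    (fun P hP Q hQ => isGood_of_conj h hP hQ) (fun P hP => sat_good h P hP)
    (fun D hD => lifted_le h fun P α hα => ?_) fun P hc hPn => ?_
  · obtain ⟨φ, hφ, hv⟩ := ((mem_autGroup_iff hα.1.2.1 α).1 (lift_mem h hα)).isMap
    exact mem_autGroup_of_isMap ⟨φ, hD P hα.1 hφ, hv⟩ α fun x => (autFun_coe α x).symm
  have hPS : P ≤ S := hc.1.trans hTS
  have hZP : Z ≤ P := fun z hz => hc.2 P (isConj_refl hc.1)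
    ⟨h.Z_le_T hz, Subgroup.mem_centralizer_iff.2 fun x hx => (h.commutes hz (hPS hx)).symm⟩
  have hUT : imageAlong θ P ≤ T' := h.image_le_T hc.1
  have hnc : ¬ E.IsCentric (imageAlong θ P) := fun hE => hPn ⟨hZP, hc.1, hE⟩
  obtain ⟨R', hR', hRn⟩ : ∃ R', E.IsConj (imageAlong θ P) R' ∧ ¬ centralizerIn T' R' ≤ R' := by
    by_contra hcon
    push Not at hcon
    exact hnc ⟨hUT, hcon⟩
  obtain ⟨f', hf'⟩ := isConj_iff.1 hR'
  obtain ⟨f, hf, hfv⟩ := exists_lift h hf'.isMap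
  have hfi : IsIso (lifted h) P (preimageAlong θ R') f := by
    have hi := h.iso_preimage (isMap_of_subsystem (lifted_sub h) hf) (hf'.of_subsystem h.inv'.1) hfv
    rw [h.preimage_image hPS hZP] at hf hi
    exact ⟨hf, hi.image_eq⟩
  set Q := preimageAlong θ R'
  have hQT : Q ≤ T := hfi.le_right
  have hQS : Q ≤ S := hQT.trans hTS
  obtain ⟨c', hc', hc'R⟩ := SetLike.not_le_iff_exists.1 hRn
  obtain ⟨c, hcT, rfl⟩ := exists_mem_preimageAlong (h.TS'.trans h.factor.2.2.1.ge) hc'.1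
  have hcS := hTS hcT
  have hcQ : c ∉ Q := fun hm => hc'R ((mem_preimageAlong θ R').1 hm).2
  have hbar : ∀ x ∈ Q, homExt θ (c * x * c⁻¹) = homExt θ x := fun x hx => by
    rw [homExt_conj θ hcS (hQS hx),
      conj_eq_self_of_mem_centralizer hc'.2 ((mem_preimageAlong θ R').1 hx).2]
  have hcn : c ∈ Subgroup.normalizer (Q : Set Ω) := mem_normalizer_of_conj_mem hQS fun x hx =>
    (mem_preimageAlong θ R').2 ⟨S.mul_mem (S.mul_mem hcS (hQS hx)) (S.inv_mem hcS),
      hbar x hx ▸ ((mem_preimageAlong θ R').1 hx).2⟩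
  refine ⟨Q, hfi.isConj, fun hle => hcQ ?_⟩
  have := finite_of_le hQT
  have := finite_mulAut Q
  set A := (lifted h).autGroup Q
  have hAF : ∀ g ∈ A, g ∈ F.autGroup Q := fun g hg => (autGroup_lifted_le h hg hQT).1
  haveI hKn : ((kerSub Z Q).subgroupOf A).Normal :=
    ⟨fun k hk g => kerSub_conj h hQS (hAF _ g.2) hk⟩
  have hKp : IsPGroup p ((kerSub Z Q).subgroupOf A) :=
    (isPGroup_kerSub h.pgroup h.ZS Q).comap_of_injective _ Subtype.val_injective
  have hγA : conjAut Q hcn ∈ A :=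
    autInducedBy_le_autGroup hQT (conjAut_mem_autInducedBy hcn hcT)
  have hγK : conjAut Q hcn ∈ kerSub Z Q := mem_kerSub h hQS (hAF _ hγA) fun x => by
    rw [conjAut_apply, hbar x x.2]
  have hin : conjAut Q hcn ∈ Cfsg.Inn Q := hle ⟨conjAut_mem_autInducedBy hcn hcT,
    ⟨⟨_, hγA⟩, CfsgLib.Fitting.le_pCore hKn hKp hγK, rfl⟩⟩
  obtain ⟨q, hq, hqv⟩ := (mem_inn_iff _).1 hin
  have hcq : q⁻¹ * c ∈ centralizerIn T Q := by
    refine ⟨T.mul_mem (T.inv_mem (hQT hq)) hcT, mem_centralizer_of_conj_eq fun x hx => ?_⟩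
    have h1 := hqv ⟨x, hx⟩
    rw [conjAut_apply] at h1
    change c * x * c⁻¹ = q * x * q⁻¹ at h1
    calc q⁻¹ * c * x * (q⁻¹ * c)⁻¹ = q⁻¹ * (c * x * c⁻¹) * q := by group
      _ = x := by rw [h1]; group
  have := Q.mul_mem hq (hc.2 Q hfi.isConj hcq)
  rwa [mul_inv_cancel_left] at this

end CfsgLib.Fusion.CentralLift
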