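import Mathlib
import Cfsg.Agent.Lib.Fusion.CentralLiftSaturated
import Cfsg.Agent.Lib.Fusion.ResidualExtension

/-!
The lifted system is weakly normal, so the preimage of the support of a normal subsystem of a
central factor system supports a normal subsystem.
-/

set_option autoImplicit false
set_option linter.unusedSectionVars false

namespace CfsgLib.Fusion.CentralLift

open Cfsg Cfsg.FusionSystem
open CfsgLib.Fusion.NormalCentralizer

variable {Ω : Type*} [Group Ω] {S : Subgroup Ω} {Ω' : Type*} [Group Ω'] {S' T' : Subgroup Ω'}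
variable {F : FusionSystem S} {F' : FusionSystem S'} {E : FusionSystem T'} {θ : S →* Ω'}
variable {Z : Subgroup Ω} {p : ℕ} [Fact p.Prime] [Finite S]
variable (h : Data F p Z θ F' E)
include h

/-- Invariance under `Aut_F(T)`. -/
theorem exists_conjd {a : MulAut (preimageAlong θ T')} (ha : a ∈ F.autGroup (preimageAlong θ T'))
    {P : Subgroup Ω} {f : Ω → Ω} (hf : IsMap (lifted h) P f) :
    IsMap (lifted h) (imageAut a⁻¹ P) (autFun a⁻¹ ∘ f ∘ autFun a) := by
  have hTS : preimageAlong θ T' ≤ S := preimageAlong_le θ T'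
  have hM := PPrime.isSubPred_conjd (F := lifted h) (E := lifted h) a
  refine ((PPrime.isMap_ofPred hM).1 (isMap_of_subsystem (lifted_le h fun Q α hα => ?_) hf)).2
  have hQ := hα.1.2.1
  have hi : IsIso F Q (imageAut a⁻¹ Q) (autFun a⁻¹) :=
    ⟨((mem_autGroup_iff hTS a⁻¹).1 ((F.autGroup _).inv_mem ha)).isMap.mono hQ,
      coe_imageAut a⁻¹ hQ⟩
  have h2 := ((mem_autGroup_iff (imageAut_le _ _) _).1
    (lift_mem h (lift_transport h hi hα))).isMap
  refine mem_autGroup_of_isMap ((PPrime.isMap_ofPred hM).2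
    ⟨((mem_autGroup_iff hQ α).1 (lift_mem h hα)).isMap, h2.congr fun y hy => ?_⟩) α
      fun x => (autFun_coe α x).symm
  obtain ⟨x, hx, rfl⟩ := hi.surj hy
  show _ = autFun a⁻¹ (autFun α (autFun a (autFun a⁻¹ x)))
  rw [PPrime.autFun_autFun_inv a (hQ hx), autFun_apply α hx, autFun_apply _ hy]
  exact hi.congr_apply α ⟨x, hx⟩

/-- The composite of an automorphism of `T` and a lift realising the image of an isomorphism. -/
theorem exists_frattini_iso {X Y : Subgroup Ω} {g : Ω → Ω} (hg : IsIso F X Y g) (hZ : Z ≤ X)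
    (hX : X ≤ preimageAlong θ T') :
    ∃ a ∈ F.autGroup (preimageAlong θ T'), ∃ l, IsMap (lifted h) X l ∧
      IsIso F X Y (autFun a ∘ l) ∧
      ∀ x ∈ X, homExt θ (autFun a (l x)) = homExt θ (g x) := by
  set T := preimageAlong θ T' with hTdef
  have hTS : T ≤ S := preimageAlong_le θ T'
  have hXS := hX.trans hTS
  obtain ⟨g', hg', hv⟩ := h.exists_bar hg.isMap
  obtain ⟨a', ha', f₀, hf₀, hw⟩ := exists_frattini h.inv' (h.image_le_T hX) hg'
  obtain ⟨a, ha, hav⟩ := exists_lift_autGroup h.factor h.TS' ha'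
  obtain ⟨l, hl, hlv⟩ := exists_lift h hf₀
  have hpre := h.preimage_image hXS hZ
  rw [hpre] at hl
  have hlT : ∀ x ∈ X, l x ∈ T := fun x hx => hl.mem hx
  have hm : IsMap F X (autFun a ∘ l) := (isMap_of_subsystem (lifted_sub h) hl).comp
    ((mem_autGroup_iff hTS a).1 ha).isMap hlT
  have hθ : ∀ x ∈ X, homExt θ (autFun a (l x)) = homExt θ (g x) := fun x hx => by
    rw [autFun_apply a (hlT x hx), hav, ← hlv x (hpre.symm ▸ hx),
      ← hw _ (mem_imageAlong hXS hx), hv x hx]
  refine ⟨a, ha, l, hl, ?_, hθ⟩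
  have := finite_of_le hg.le_right
  refine hm.isIso_of_card_le (fun x hx => ?_) hg.card_eq.le
  rw [← h.preimage_image hg.le_right (h.Z_le_of_iso hg hZ)]
  refine (mem_preimageAlong θ _).2 ⟨hm.mem hx, ?_⟩
  show homExt θ (autFun a (l x)) ∈ _
  rw [hθ x hx]
  exact mem_imageAlong hg.le_right (hg.mem hx)

/-- Automorphisms inducing the identity factor. -/
theorem factors_kerSub {Y : Subgroup Ω} (hZ : Z ≤ Y) (hY : Y ≤ preimageAlong θ T') {k : MulAut Y}
    (hk : k ∈ F.autGroup Y) (hker : k ∈ kerSub Z Y) :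
    Factors (lifted h) F Y (autFun k) := by
  set T := preimageAlong θ T'
  have hTS : T ≤ S := preimageAlong_le θ T'
  have hYS := hY.trans hTS
  obtain ⟨R, hYR, hR⟩ := exists_isFullyNormalized (F := F) hYS
  obtain ⟨g, hg⟩ := isConj_iff.1 hYR
  obtain ⟨a, ha, l, hl, hω, -⟩ := exists_frattini_iso h hg hZ hY
  have hRS := hR.1
  have := finite_of_le hRS
  have := finite_mulAut R
  obtain ⟨-, D, hD⟩ := isFullyAutomized_of_isFullyNormalized h.pgroup h.sat hR
  set k' := MulAut.congr hω.equiv k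
  have hk' : k' ∈ F.autGroup R := hω.congr_mem_autGroup hk
  have hkk : k' ∈ kerSub Z R := mem_kerSub h hRS hk' fun y => by
    obtain ⟨x, rfl⟩ := hω.equiv.surjective y
    obtain ⟨f', -, hv⟩ := h.exists_bar hω.isMap
    show homExt θ (MulAut.congr hω.equiv k (hω.equiv x) : Ω) = homExt θ ((autFun a ∘ l) x)
    rw [hω.congr_apply, ← hv _ (k x).2, ← hv x x.2,
      (h.eq_iff (hYS x.2) (hYS (k x).2)).2 (hker.1 x)]
  haveI hKn : ((kerSub Z R).subgroupOf (F.autGroup R)).Normal :=
    ⟨fun b hb c => kerSub_conj h hRS c.2 hb⟩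
  have hkD := Residual.le_sylow (hn := hKn) ((isPGroup_kerSub h.pgroup h.ZS R).comap_of_injective _
    Subtype.val_injective) D (show (⟨k', hk'⟩ : F.autGroup R) ∈ (kerSub Z R).subgroupOf _ from hkk)
  rw [hD, Subgroup.mem_subgroupOf] at hkD
  obtain ⟨s, hs, hsv⟩ := (mem_autInducedBy_iff S R _).1 hkD
  have := finiteT h
  have hsn : s ∈ Subgroup.normalizer (T : Set Ω) :=
    le_normalizer_of_stronglyClosed h.stronglyClosed hs
  set b := conjAut T hsn
  have hb : b ∈ F.autGroup T := autInducedBy_le_autGroup hTS (conjAut_mem_autInducedBy hsn hs)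
  have hai := (F.autGroup T).inv_mem ha
  have hc : a⁻¹ * b * a ∈ F.autGroup T :=
    (F.autGroup T).mul_mem ((F.autGroup T).mul_mem hai hb) ha
  obtain ⟨L, hL⟩ := hl.exists_iso
  obtain ⟨li, hli, hli1, -⟩ := hL.exists_symm
  set c := a⁻¹ * b * a
  have hrel : ∀ x : Y, l (k x) = autFun c (l x) := fun x => by
    have h1 := hω.congr_apply k x
    have h2 := hsv (hω.equiv x)
    have hlx := hl.mem x.2
    have hlk := hl.mem (k x).2
    have e : autFun a (l (k x)) = autFun b (autFun a (l x)) := by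
      rw [autFun_apply b (autFun_mem a hlx), conjAut_apply]
      exact h1.symm.trans h2
    rw [autFun_mul _ _ hlx, autFun_mul _ _ (autFun_mem a hlx), ← e,
      autFun_inv_self a hlk]
  -- move the inverse of the lift past `c`
  have hm := exists_conjd h hc hli.isMap
  have hmem : ∀ x : Y, l x ∈ imageAut c⁻¹ L := fun x => by
    have h1 : autFun c (l x) ∈ L := hrel x ▸ hL.mem (k x).2
    have h2 := coe_imageAut c⁻¹ hL.le_right
    rw [← SetLike.mem_coe, ← h2]
    exact ⟨_, h1, autFun_inv_self c (hl.mem x.2)⟩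
  refine ⟨c, hc, (autFun c⁻¹ ∘ li ∘ autFun c) ∘ l, hl.comp hm fun x hx => hmem ⟨x, hx⟩,
    fun x hx => ?_⟩
  show autFun k x = autFun c (autFun c⁻¹ (li (autFun c (l x))))
  rw [← hrel ⟨x, hx⟩, hli1 _ (k ⟨x, hx⟩).2, autFun_apply k hx,
    autFun_self_inv c (hY (k ⟨x, hx⟩).2)]

/-- The Frattini condition for the lifted system. -/
theorem factors {P : Subgroup Ω} {f : Ω → Ω} (hP : P ≤ preimageAlong θ T') (hf : IsMap F P f) :
    Factors (lifted h) F P f := by
  set T := preimageAlong θ T'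
  have hTS : T ≤ S := preimageAlong_le θ T'
  obtain ⟨g, hg, hag, -⟩ := (isCentral_iff.1 h.central).2 P f hf
  set X := P ⊔ Z
  have hXT : X ≤ T := sup_le hP h.Z_le_T
  obtain ⟨Y, hgY⟩ := hg.exists_iso
  obtain ⟨a, ha, l, hl, hω, hθ⟩ := exists_frattini_iso h hgY le_sup_right hXT
  have hYT : Y ≤ T := h.T_le_of_iso hgY hXT
  obtain ⟨r, hr, hr1, -⟩ := hω.exists_symm
  obtain ⟨k, hk, hkv⟩ := exists_mem_autGroup (hr.comp hgY)
  have hkk : k ∈ kerSub Z Y := mem_kerSub h hgY.le_right hk fun y => by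
    obtain ⟨x, hx, hxe⟩ := hω.surj y.2
    rw [hkv]
    show homExt θ (g (r y)) = _
    rw [← hxe, hr1 x hx]
    exact (hθ x hx).symm
  obtain ⟨c, hc, l₁, hl₁, hv⟩ := factors_kerSub h (h.Z_le_of_iso hgY le_sup_right) hYT hk hkk
  obtain ⟨L, hL⟩ := hl.exists_iso
  have hm := exists_conjd h ha hl₁
  have hmem : ∀ x ∈ X, l x ∈ imageAut a⁻¹ Y := fun x hx => by
    have h2 := coe_imageAut a⁻¹ hYT
    rw [← SetLike.mem_coe, ← h2]
    exact ⟨_, hω.mem hx, autFun_inv_self a (hl.mem hx)⟩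
  refine Factors.mono ?_ (le_sup_left : P ≤ X) |>.congr hag
  refine ⟨c * a, (F.autGroup T).mul_mem hc ha, (autFun a⁻¹ ∘ l₁ ∘ autFun a) ∘ l,
    hl.comp hm hmem, fun x hx => ?_⟩
  have hy : autFun a (l x) ∈ Y := hω.mem hx
  show g x = autFun (c * a) (autFun a⁻¹ (l₁ (autFun a (l x))))
  rw [autFun_mul _ _ (autFun_mem _ (hl₁.mem hy)), autFun_self_inv a (hl₁.mem hy), ← hv _ hy,
    autFun_apply k hy, hkv]
  show g x = g (r (autFun a (l x)))
  exact (congrArg g (hr1 x hx)).symm

/-- The lifted system is weakly normal. -/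
theorem isWeaklyNormalIn_lifted : (lifted h).IsWeaklyNormalIn F p := by
  set T := preimageAlong θ T'
  refine ⟨isSaturated_lifted h, h.sat, lifted_sub h, h.stronglyClosed, ?_, fun P hP φ hφ => ?_⟩
  · intro P hPT φ hφ a ha
    have hai := (F.autGroup T).inv_mem ha
    have h1 := exists_conjd h hai (isMap_homFun hφ)
    rw [inv_inv] at h1
    obtain ⟨χ, hχ, hχv⟩ := h1
    refine ⟨χ, hχ, fun x hφx hax => ?_⟩
    refine (hχv ⟨_, hax⟩).trans ?_
    show autFun a (homFun φ (autFun a⁻¹ ((a ⟨x, hPT x.2⟩ : T) : Ω))) = _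
    rw [← autFun_apply a (hPT x.2), PPrime.autFun_inv_autFun a (hPT x.2), homFun_coe,
      autFun_apply a hφx]
  · obtain ⟨a, ha, f₀, ⟨φ₀, hφ₀, hv₀⟩, hv⟩ := factors h hP (isMap_homFun hφ)
    refine ⟨a, ha, φ₀, hφ₀, fun x hx => ?_⟩
    have e := hv x x.2
    rw [homFun_coe, ← hv₀ x, autFun_apply a hx] at e
    exact e

omit h in
/-- A normal subsystem of a central factor system gives one on the preimage of its support. -/
theorem exists_normal_preimage (h : Data F p Z θ F' E) :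
    ∃ D : FusionSystem (preimageAlong θ T'), D.IsNormalIn F p := by
  have := finiteT h
  have hW := isWeaklyNormalIn_lifted h
  exact ⟨_, Residual.isNormalIn_residual h.pgroup hW
    (PPrime.isPPrimeResidual_E0 (pgroupT h) hW.1)⟩

end CfsgLib.Fusion.CentralLift
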