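import Cfsg.Agent.Lib.Fusion.MeetBase

/-!
The automizer in the meet of a weakly normal and a normal subsystem, at a fully normalised
subgroup: the induced automorphisms form a Sylow subgroup of it.
-/

set_option autoImplicit false
set_option linter.unusedSectionVars false
set_option linter.style.haveILetI false

namespace CfsgLib.Fusion.Meet

open Cfsg Cfsg.FusionSystem
open CfsgLib.Fusion.NormalCentralizer
open scoped Pointwise

/-- A Sylow subgroup meets a normal subgroup in a Sylow subgroup. -/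
theorem exists_sylow_meet {M : Type*} [Group M] [Finite M] {p : ℕ} [Fact p.Prime]
    {G B A : Subgroup M} (D : Sylow p G) (hD : (D : Subgroup G) = A.subgroupOf G) (hBG : B ≤ G)
    (hn : ∀ g ∈ G, ∀ b ∈ B, g * b * g⁻¹ ∈ B) :
    ∃ P : Sylow p B, (P : Subgroup B) = A.subgroupOf B := by
  haveI : (B.subgroupOf G).Normal := ⟨fun b hb g => hn g g.2 _ hb⟩
  obtain ⟨SK, hSK⟩ := SatExtend.exists_sylow_inf D (B.subgroupOf G)
  let e := Subgroup.subgroupOfEquivOfLe hBG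
  have he : Function.Surjective e.toMonoidHom := e.surjective
  refine ⟨SK.mapSurjective he, (Sylow.coe_mapSurjective he SK).trans ?_⟩
  rw [hSK, hD]
  ext x
  constructor
  · rintro ⟨y, hy, rfl⟩
    exact hy
  · intro hx
    exact ⟨e.symm x, hx, e.apply_symm_apply x⟩

variable {Ω : Type*} [Group Ω]

/-- The elements of `K` inducing on `R` automorphisms in `Q`. -/
def preInd (K R : Subgroup Ω) (Q : Subgroup (MulAut R)) : Subgroup Ω where
  carrier := {w | w ∈ K ∧ ∃ a ∈ Q, ∀ y : R, (a y : Ω) = w * y * w⁻¹}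
  one_mem' := ⟨K.one_mem, 1, Q.one_mem, fun y => by simp⟩
  mul_mem' := by
    rintro u v ⟨hu, a, ha, hau⟩ ⟨hv, b, hb, hbv⟩
    refine ⟨K.mul_mem hu hv, a * b, Q.mul_mem ha hb, fun y => ?_⟩
    rw [MulAut.mul_apply, hau, hbv]
    group
  inv_mem' := by
    rintro u ⟨hu, a, ha, hau⟩
    refine ⟨K.inv_mem hu, a⁻¹, Q.inv_mem ha, fun y => ?_⟩
    obtain ⟨z, rfl⟩ := a.surjective y
    rw [MulAut.inv_apply_self, hau]
    group

section preInd

variable {K R : Subgroup Ω} {Q : Subgroup (MulAut R)}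

theorem preInd_le_normalizer [Finite R] {w : Ω} (hw : w ∈ preInd K R Q) :
    w ∈ Subgroup.normalizer (R : Set Ω) := by
  obtain ⟨-, a, -, ha⟩ := hw
  refine Subgroup.mem_normalizer_iff.2 fun y => ⟨fun hy => ha ⟨y, hy⟩ ▸ SetLike.coe_mem _,
    fun hy => ?_⟩
  obtain ⟨z, hz⟩ := a.surjective ⟨_, hy⟩
  have h1 := congrArg Subtype.val hz
  rw [ha] at h1
  exact mul_left_cancel (mul_right_cancel h1) ▸ z.2

theorem centralizerIn_le_preInd : centralizerIn K R ≤ preInd K R Q := fun c hc =>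
  ⟨hc.1, 1, Q.one_mem, fun y => by rw [conj_eq_self_of_mem_centralizer hc.2 y.2]; rfl⟩

theorem le_preInd (hRK : R ≤ K) (hQ : autInducedBy R R ≤ Q) : R ≤ preInd K R Q := fun r hr =>
  ⟨hRK hr, conjAut R (Subgroup.le_normalizer hr), hQ (conjAut_mem_autInducedBy _ hr),
    fun y => conjAut_apply R _ y⟩

theorem mem_preInd_of_induces {w : Ω} (hw : w ∈ K) {a : MulAut R} (ha : a ∈ Q)
    (hv : ∀ y : R, (a y : Ω) = w * y * w⁻¹) : w ∈ preInd K R Q := ⟨hw, a, ha, hv⟩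

/-- The conjugation action of an element of `preInd`. -/
theorem exists_preInd {w : Ω} (hw : w ∈ preInd K R Q) :
    ∃ a ∈ Q, ∀ y ∈ R, autFun a y = w * y * w⁻¹ := by
  obtain ⟨-, a, ha, hv⟩ := hw
  exact ⟨a, ha, fun y hy => (autFun_apply a hy).trans (hv ⟨y, hy⟩)⟩

end preInd

variable {S T₁ T₂ : Subgroup Ω}
variable {F : FusionSystem S} {E₁ : FusionSystem T₁} {E₂ : FusionSystem T₂} {p : ℕ}

/-- The automorphisms of both systems. -/
abbrev bSub (E₁ : FusionSystem T₁) (E₂ : FusionSystem T₂) (R : Subgroup Ω) :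
    Subgroup (MulAut R) := E₁.autGroup R ⊓ E₂.autGroup R

/-- Those of order prime to `p` generate this. -/
def oSub (E₁ : FusionSystem T₁) (E₂ : FusionSystem T₂) (p : ℕ) (R : Subgroup Ω) :
    Subgroup (MulAut R) :=
  Subgroup.closure {a | a ∈ bSub E₁ E₂ R ∧ (orderOf a).Coprime p}

/-- The automizer in the meet. -/
def jSub (E₁ : FusionSystem T₁) (E₂ : FusionSystem T₂) (p : ℕ) (R : Subgroup Ω) :
    Subgroup (MulAut R) :=
  autInducedBy (T₁ ⊓ T₂) R ⊔ oSub E₁ E₂ p R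

namespace Data

variable (h : Data F p E₁ E₂)
include h

variable {R : Subgroup Ω}

theorem bSub_le (hR : R ≤ T₁ ⊓ T₂) : bSub E₁ E₂ R ≤ F.autGroup R := fun a ha =>
  (mem_autGroup_iff (hR.trans h.TS) a).2
    (((mem_autGroup_iff (hR.trans inf_le_left) a).1 ha.1).of_subsystem h.inv₁.1)

theorem bSub_conj (hR : R ≤ T₁ ⊓ T₂) {g a : MulAut R} (hg : g ∈ F.autGroup R)
    (ha : a ∈ bSub E₁ E₂ R) : g * a * g⁻¹ ∈ bSub E₁ E₂ R := by
  have hgi := (mem_autGroup_iff (hR.trans h.TS) g).1 hg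
  have hval : ∀ y ∈ R, autFun g (autFun a y) = autFun (g * a * g⁻¹) (autFun g y) := by
    intro y hy
    rw [autFun_apply g hy, autFun_apply a hy, autFun_coe, autFun_coe, MulAut.mul_apply,
      MulAut.mul_apply, MulAut.inv_apply_self]
  exact ⟨Residual.mem_autGroup_transport h.inv₁ (hR.trans inf_le_left) hgi ha.1 hval,
    Residual.mem_autGroup_transport h.inv₂ (hR.trans inf_le_right) hgi ha.2 hval⟩

theorem u_le_bSub (hR : R ≤ T₁ ⊓ T₂) : autInducedBy (T₁ ⊓ T₂) R ≤ bSub E₁ E₂ R :=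
  le_inf ((autInducedBy_mono inf_le_left R).trans
      (autInducedBy_le_autGroup (hR.trans inf_le_left)))
    ((autInducedBy_mono inf_le_right R).trans (autInducedBy_le_autGroup (hR.trans inf_le_right)))

theorem oSub_le : oSub E₁ E₂ p R ≤ bSub E₁ E₂ R :=
  (Subgroup.closure_le _).2 fun _ ha => ha.1

theorem jSub_le_bSub (hR : R ≤ T₁ ⊓ T₂) : jSub E₁ E₂ p R ≤ bSub E₁ E₂ R :=
  sup_le (h.u_le_bSub hR) h.oSub_le

theorem jSub_le (hR : R ≤ T₁ ⊓ T₂) : jSub E₁ E₂ p R ≤ F.autGroup R :=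
  (h.jSub_le_bSub hR).trans (h.bSub_le hR)

theorem oSub_conj (hR : R ≤ T₁ ⊓ T₂) {g a : MulAut R} (hg : g ∈ F.autGroup R)
    (ha : a ∈ oSub E₁ E₂ p R) : g * a * g⁻¹ ∈ oSub E₁ E₂ p R := by
  have hle : oSub E₁ E₂ p R ≤ (oSub E₁ E₂ p R).comap (MulAut.conj g).toMonoidHom := by
    refine (Subgroup.closure_le _).2 fun b hb => Subgroup.subset_closure
      ⟨h.bSub_conj hR hg hb.1, ?_⟩
    exact (MulEquiv.orderOf_eq (MulAut.conj g) b).symm ▸ hb.2
  exact hle ha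

variable [Fact p.Prime] [Finite S]

/-- Conjugates of `Aut_T(R)` in `Aut_S(R)` lie in `Aut_T(R)`. -/
theorem conj_mem_u (hR : R ≤ T₁ ⊓ T₂) (hfn : F.IsFullyNormalized R) {g a : MulAut R}
    (hg : g ∈ F.autGroup R) (ha : a ∈ autInducedBy (T₁ ⊓ T₂) R)
    (hga : g * a * g⁻¹ ∈ autInducedBy S R) : g * a * g⁻¹ ∈ autInducedBy (T₁ ⊓ T₂) R := by
  obtain ⟨t, ht, htv⟩ := (mem_autInducedBy_iff _ R a).1 ha
  obtain ⟨s, hs, hsv⟩ := (mem_autInducedBy_iff _ R _).1 hga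
  obtain ⟨f', hf', hf'v⟩ := (isReceptive_iff.1
    (isReceptive_of_isFullyNormalized h.pgroup h.sat hfn)).2 R _
      ((mem_autGroup_iff hfn.1 g).1 hg)
  have htn := (mem_normalizerIn_of_induces hfn.1 (h.TS ht) htv).2
  have hval : ∀ y ∈ R, autFun g (t * y * t⁻¹) = s * autFun g y * s⁻¹ := fun y hy => by
    have h1 := hsv (g ⟨y, hy⟩)
    rw [MulAut.mul_apply, MulAut.mul_apply, MulAut.inv_apply_self] at h1
    rw [autFun_apply g hy, ← h1, ← htv ⟨y, hy⟩, autFun_coe]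
  have htN : t ∈ nPhi S R (autFun g) := ⟨h.TS ht, htn, s, hs, hval⟩
  refine (mem_autInducedBy_iff _ R _).2
    ⟨f' t, isMap_mem_of_stronglyClosed h.closed hf' htN ht, fun z => ?_⟩
  obtain ⟨y, rfl⟩ := g.surjective z
  rw [MulAut.mul_apply, MulAut.mul_apply, MulAut.inv_apply_self]
  have hyN : ∀ w : R, (w : Ω) ∈ nPhi S R (autFun g) := fun w =>
    le_nPhi ((mem_autGroup_iff hfn.1 g).1 hg).isMap w.2
  rw [← autFun_coe g (a y), htv, ← autFun_coe g y, hval y y.2,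
    ← hf'v _ y.2, ← hf'.map_conj htN (hyN y), hf'v _ (conj_mem_of_mem_normalizer htn y.2),
    hval y y.2, hf'v _ y.2]

/-- The automizer is normal in `Aut_F(R)`. -/
theorem jSub_conj (hR : R ≤ T₁ ⊓ T₂) (hfn : F.IsFullyNormalized R) :
    ∀ g ∈ F.autGroup R, ∀ a ∈ jSub E₁ E₂ p R, g * a * g⁻¹ ∈ jSub E₁ E₂ p R := by
  have := finite_of_le hfn.1
  have := finite_mulAut R
  set J := jSub E₁ E₂ p R with hJ
  -- elements moving `Aut_T(R)` into `J` normalise `J`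
  have hnorm : ∀ g ∈ F.autGroup R, (∀ u ∈ autInducedBy (T₁ ⊓ T₂) R, g * u * g⁻¹ ∈ J) →
      g ∈ Subgroup.normalizer (J : Set (MulAut R)) := by
    intro g hg hu
    have hle : J ≤ J.comap (MulAut.conj g).toMonoidHom :=
      sup_le hu fun o ho => Subgroup.mem_sup_right (h.oSub_conj hR hg ho)
    have heq : J.map (MulAut.conj g).toMonoidHom = J :=
      Subgroup.eq_of_le_of_card_ge (Subgroup.map_le_iff_le_comap.2 hle)
        (Subgroup.card_map_of_injective (f := (MulAut.conj g).toMonoidHom)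
          (MulAut.conj g).injective).ge
    refine Subgroup.mem_normalizer_iff.2 fun a => ⟨fun ha => hle ha, fun ha => ?_⟩
    rw [← heq] at ha
    obtain ⟨b, hb, hbe⟩ := ha
    exact (MulAut.conj g).injective hbe ▸ hb
  obtain ⟨-, D, hD⟩ := isFullyAutomized_of_isFullyNormalized h.pgroup h.sat hfn
  have hBn : ∀ g ∈ F.autGroup R, ∀ b ∈ bSub E₁ E₂ R, g * b * g⁻¹ ∈ bSub E₁ E₂ R :=
    fun g hg b hb => h.bSub_conj hR hg hb
  obtain ⟨P, hP⟩ := exists_sylow_meet D hD (h.bSub_le hR) hBn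
  -- `B` normalises `J`
  have hB : bSub E₁ E₂ R ≤ Subgroup.normalizer (J : Set (MulAut R)) := by
    refine ModelNormal.le_of_sylow_coprime P (fun x hx => ?_) fun x hx hxo =>
      Subgroup.le_normalizer (Subgroup.mem_sup_right (Subgroup.subset_closure ⟨hx, hxo⟩))
    rw [hP, Subgroup.mem_subgroupOf] at hx
    refine hnorm _ (h.bSub_le hR x.2) fun u hu => Subgroup.mem_sup_left
      (h.conj_mem_u hR hfn (h.bSub_le hR x.2) hu ?_)
    exact Subgroup.mul_mem _ (Subgroup.mul_mem _ hx (autInducedBy_mono h.TS R hu))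
      (Subgroup.inv_mem _ hx)
  -- the Frattini argument
  set K := (bSub E₁ E₂ R).subgroupOf (F.autGroup R)
  haveI : K.Normal := ⟨fun b hb g => hBn g g.2 _ hb⟩
  obtain ⟨SK, hSK⟩ := SatExtend.exists_sylow_inf D K
  intro g hg a ha
  suffices hgn : g ∈ Subgroup.normalizer (J : Set (MulAut R)) from
    (Subgroup.mem_normalizer_iff.1 hgn a).1 ha
  have hgt : (⟨g, hg⟩ : F.autGroup R) ∈
      Subgroup.normalizer (((SK : Subgroup K).map K.subtype : Subgroup _) : Set (F.autGroup R)) ⊔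
        K := by
    rw [Sylow.normalizer_sup_eq_top]
    exact Subgroup.mem_top _
  obtain ⟨n, hn, b, hb, hnb⟩ := Subgroup.mem_sup_of_normal_right.1 hgt
  have hn' : (n : MulAut R) ∈ Subgroup.normalizer (J : Set (MulAut R)) := by
    refine hnorm _ n.2 fun u hu => Subgroup.mem_sup_left (h.conj_mem_u hR hfn n.2 hu ?_)
    have huK : (⟨u, h.bSub_le hR (h.u_le_bSub hR hu)⟩ : F.autGroup R) ∈
        (SK : Subgroup K).map K.subtype := by
      refine ⟨⟨_, Subgroup.mem_subgroupOf.2 (h.u_le_bSub hR hu)⟩, ?_, rfl⟩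
      rw [SetLike.mem_coe, hSK, Subgroup.mem_subgroupOf, hD, Subgroup.mem_subgroupOf]
      exact autInducedBy_mono h.TS R hu
    obtain ⟨z, hz, hze⟩ := (Subgroup.mem_normalizer_iff.1 hn _).1 huK
    rw [SetLike.mem_coe, hSK, Subgroup.mem_subgroupOf, hD, Subgroup.mem_subgroupOf] at hz
    rw [show (n : MulAut R) * u * (n : MulAut R)⁻¹ = ((z : F.autGroup R) : MulAut R) from
      (congrArg (fun w : F.autGroup R => (w : MulAut R)) hze).symm]
    exact hz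
  rw [show g = (n : MulAut R) * (b : MulAut R) from
    (congrArg (fun w : F.autGroup R => (w : MulAut R)) hnb).symm]
  exact Subgroup.mul_mem _ hn' (hB hb)

theorem gen_le_jSub (hR : R ≤ T₁ ⊓ T₂) (hfn : F.IsFullyNormalized R) {α : MulAut R}
    (hα : Gen F E₁ E₂ p R α) : α ∈ jSub E₁ E₂ p R := by
  rcases hα.2.2.2 with ho | ⟨P', g, hg, t, ht, htn, hv⟩
  · exact Subgroup.mem_sup_right (Subgroup.subset_closure ⟨⟨hα.2.1, hα.2.2.1⟩, ho⟩)
  have hRa := isFullyAutomized_of_isFullyNormalized h.pgroup h.sat hfn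
  obtain ⟨k, hkN, hkR, hkn, -⟩ := exists_map_normalizerIn h.pgroup hRa
    (isReceptive_of_isFullyNormalized h.pgroup h.sat hfn) hg.isConj
  obtain ⟨r, hr, hr1, -⟩ := hkR.exists_symm
  obtain ⟨n, hn, hnv⟩ := exists_mem_autGroup (hr.comp hg)
  have htN : t ∈ normalizerIn S P' := ⟨h.TS ht, htn⟩
  have hktn := (hkn t htN).2
  have hu := conjAut_mem_autInducedBy (P := R) hktn
    (isMap_mem_of_stronglyClosed h.closed hkN htN ht)
  convert h.jSub_conj hR hfn n hn _ (Subgroup.mem_sup_left hu) using 1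
  refine MulEquiv.ext fun z => Subtype.ext ?_
  obtain ⟨y, rfl⟩ := n.surjective z
  obtain ⟨w, hw, hwy⟩ := hkR.surj y.2
  rw [MulAut.mul_apply, MulAut.mul_apply, MulAut.inv_apply_self, ← autFun_coe α, hnv, hnv,
    conjAut_apply]
  show autFun α (g (r y)) = g (r (k t * y * (k t)⁻¹))
  rw [← hwy, hr1 w hw, hv w hw, ← hkN.map_conj htN (le_normalizerIn hkR.le_left hw),
    hr1 _ (conj_mem_of_mem_normalizer htn hw)]

/-- Automorphisms of order prime to `p` move induced automorphisms only inside `Aut_T(R)`. -/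
theorem commutator_mem_u (hR : R ≤ T₁ ⊓ T₂) (hfn : F.IsFullyNormalized R) {x : MulAut R}
    (hx : x ∈ bSub E₁ E₂ R) (hxo : (orderOf x).Coprime p) {Q : Subgroup (MulAut R)}
    (hQ : Q ≤ bSub E₁ E₂ R ⊓ autInducedBy S R) (hinv : ∀ a ∈ Q, x * a * x⁻¹ ∈ Q)
    {q : MulAut R} (hq : q ∈ Q) : x * q * x⁻¹ * q⁻¹ ∈ autInducedBy (T₁ ⊓ T₂) R := by
  have hRS := hfn.1
  have := finite_of_le hRS
  set Q' := Q ⊔ autInducedBy R R with hQ'
  have hQ'S : Q' ≤ autInducedBy S R := sup_le (hQ.trans inf_le_right) (autInducedBy_mono hRS R)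
  have hinn : ∀ a ∈ autInducedBy R R, x * a * x⁻¹ ∈ autInducedBy R R := fun a ha => by
    obtain ⟨u, hu, huv⟩ := (mem_autInducedBy_iff R R a).1 ha
    refine (mem_autInducedBy_iff R R _).2 ⟨x ⟨u, hu⟩, SetLike.coe_mem _, fun z => ?_⟩
    obtain ⟨y, rfl⟩ := x.surjective z
    rw [MulAut.mul_apply, MulAut.mul_apply, MulAut.inv_apply_self,
      show a y = ⟨u, hu⟩ * y * (⟨u, hu⟩ : R)⁻¹ from Subtype.ext (huv y), map_mul, map_mul, map_inv]
    rfl
  have hinv' : Q' ≤ Q'.comap (MulAut.conj x).toMonoidHom :=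
    sup_le (fun a ha => Subgroup.mem_sup_left (hinv a ha))
      fun a ha => Subgroup.mem_sup_right (hinn a ha)
  set W := preInd S R Q'
  have hxF := h.bSub_le hR hx
  obtain ⟨δ, hδ, hδR, hδC⟩ := MeetExt.exists_ext_trivial (W := W) h.pgroup h.sat h.normal
    (hR.trans inf_le_right) hfn hx.2 hxo (fun w hw => ⟨hw.1, preInd_le_normalizer hw⟩)
    (le_preInd hRS le_sup_right) centralizerIn_le_preInd fun w hw => by
      obtain ⟨a, ha, hav⟩ := exists_preInd hw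
      have ha' : x * a * x⁻¹ ∈ Q' := hinv' ha
      obtain ⟨w', hw', hw'v⟩ := (mem_autInducedBy_iff S R _).1 (hQ'S ha')
      refine ⟨w', mem_preInd_of_induces hw' ha' hw'v, fun y hy => ?_⟩
      have h1 := hw'v (x ⟨y, hy⟩)
      rw [MulAut.mul_apply, MulAut.mul_apply, MulAut.inv_apply_self] at h1
      rw [← hav y hy, autFun_apply x hy, ← h1, autFun_apply a hy, autFun_coe]
  have hT₁S := h.inv₁.2.1.1
  have hT₂S := h.inv₂.2.1.1
  obtain ⟨t₁, ht₁, ht₁v⟩ := (mem_autInducedBy_iff _ R _).1 (MeetExt.mem_autInducedBy_of_mem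
    h.pgroup h.weak (isFullyNormalized_of_super h.pgroup h.sat h.inv₁ hfn (hR.trans inf_le_left))
    (hQ hq).1.1 (hQ hq).2)
  obtain ⟨t₂, ht₂, ht₂v⟩ := (mem_autInducedBy_iff _ R _).1 (MeetExt.mem_autInducedBy_of_mem
    h.pgroup h.normal.1
    (isFullyNormalized_of_super h.pgroup h.sat h.inv₂ hfn (hR.trans inf_le_right))
    (hQ hq).1.2 (hQ hq).2)
  have hq' : q ∈ Q' := Subgroup.mem_sup_left hq
  have ht₁W : t₁ ∈ W := mem_preInd_of_induces (hT₁S ht₁) hq' ht₁v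
  have ht₂W : t₂ ∈ W := mem_preInd_of_induces (hT₂S ht₂) hq' ht₂v
  have hδm := hδ.isMap
  have hc : t₂⁻¹ * t₁ ∈ centralizerIn S R :=
    ⟨S.mul_mem (S.inv_mem (hT₂S ht₂)) (hT₁S ht₁),
      mul_inv_mem_centralizer fun y hy => (ht₁v ⟨y, hy⟩).symm.trans (ht₂v ⟨y, hy⟩)⟩
  have hδt₁ : δ t₁ ∈ T₁ := isMap_mem_of_stronglyClosed h.inv₁.2.1 hδm ht₁W ht₁
  have hmem₂ : δ t₁ * t₁⁻¹ ∈ T₂ := by
    set c := t₂⁻¹ * t₁ with hce
    have hcW : c ∈ W := W.mul_mem (W.inv_mem ht₂W) ht₁W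
    have h1 : c * (c⁻¹ * δ c) * c⁻¹ ∈ T₂ := normalizer_T h.inv₂ hc.1 (hδC c hc)
    have h2 : δ t₂ ∈ T₂ := isMap_mem_of_stronglyClosed h.inv₂.2.1 hδm ht₂W ht₂
    have e : t₁ = t₂ * c := by rw [hce]; group
    rw [e, hδm.map_mul ht₂W hcW,
      show δ t₂ * δ c * (t₂ * c)⁻¹ = δ t₂ * (c * (c⁻¹ * δ c) * c⁻¹) * t₂⁻¹ by group]
    exact T₂.mul_mem (T₂.mul_mem h2 h1) (T₂.inv_mem ht₂)
  refine (mem_autInducedBy_iff _ R _).2
    ⟨δ t₁ * t₁⁻¹, ⟨T₁.mul_mem hδt₁ (T₁.inv_mem ht₁), hmem₂⟩, fun z => ?_⟩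
  rw [MulAut.mul_apply]
  obtain ⟨y, rfl⟩ := q.surjective z
  rw [MulAut.inv_apply_self]
  obtain ⟨u, rfl⟩ := x.surjective y
  rw [MulAut.mul_apply, MulAut.mul_apply, MulAut.inv_apply_self, ht₁v (x u)]
  have hn₁ := preInd_le_normalizer ht₁W
  have hRW : R ≤ W := le_preInd hRS le_sup_right
  have h1 : (x (q u) : Ω) = δ t₁ * (x u : Ω) * (δ t₁)⁻¹ := by
    rw [← autFun_coe x (q u), ← autFun_coe x u, ← hδR _ (q u).2, ← hδR _ u.2, ht₁v,
      hδm.map_conj ht₁W (hRW u.2)]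
  rw [h1]
  group

/-- The induced automorphisms in the automizer. -/
theorem jSub_inf_le (hR : R ≤ T₁ ⊓ T₂) (hfn : F.IsFullyNormalized R) :
    jSub E₁ E₂ p R ⊓ autInducedBy S R ≤ autInducedBy (T₁ ⊓ T₂) R := by
  have := finite_of_le hfn.1
  have := finite_mulAut R
  obtain ⟨-, D, hD⟩ := isFullyAutomized_of_isFullyNormalized h.pgroup h.sat hfn
  obtain ⟨P, hP⟩ := exists_sylow_meet D hD (h.bSub_le hR) fun g hg b hb => h.bSub_conj hR hg hb
  have hPS : ∀ b : bSub E₁ E₂ R, b ∈ (P : Subgroup _) → (b : MulAut R) ∈ autInducedBy S R :=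
    fun b hb => by rw [hP] at hb; exact hb
  have hres : (P : Subgroup (bSub E₁ E₂ R)) ⊓ Cfsg.pResidual p (bSub E₁ E₂ R) ≤
      (autInducedBy (T₁ ⊓ T₂) R).subgroupOf _ := by
    refine CentralLift.pResidual_inf_le P (fun s hs t ht => ?_) fun Q hQ g hgo hgQ q hq => ?_
    · exact h.conj_mem_u hR hfn (h.bSub_le hR s.2) ht (Subgroup.mul_mem _ (Subgroup.mul_mem _
        (hPS s hs) (autInducedBy_mono h.TS R ht)) (Subgroup.inv_mem _ (hPS s hs)))
    · refine h.commutator_mem_u hR hfn g.2 (by rwa [Subgroup.orderOf_coe])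
        (Q := Q.map (bSub E₁ E₂ R).subtype) ?_ ?_ ⟨q, hq, rfl⟩
      · rintro _ ⟨a, ha, rfl⟩
        exact ⟨a.2, hPS a (hQ ha)⟩
      · rintro _ ⟨a, ha, rfl⟩
        exact ⟨_, hgQ a ha, rfl⟩
  have hOres : ∀ o ∈ oSub E₁ E₂ p R, ∃ b ∈ Cfsg.pResidual p (bSub E₁ E₂ R),
      (b : MulAut R) = o := by
    have hle : oSub E₁ E₂ p R ≤
        (Cfsg.pResidual p (bSub E₁ E₂ R)).map (bSub E₁ E₂ R).subtype :=
      (Subgroup.closure_le _).2 fun a ha => ⟨⟨a, ha.1⟩,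
        CfsgLib.Transfer.mem_pResidual_of_coprime (by rw [← Subgroup.orderOf_coe]; exact ha.2), rfl⟩
    exact fun o ho => hle ho
  rintro a ⟨haJ, haS⟩
  have hn : autInducedBy (T₁ ⊓ T₂) R ≤
      Subgroup.normalizer (oSub E₁ E₂ p R : Set (MulAut R)) := fun u hu => by
    have huF := h.bSub_le hR (h.u_le_bSub hR hu)
    refine Subgroup.mem_normalizer_iff.2 fun k => ⟨h.oSub_conj hR huF, fun hk => ?_⟩
    have h1 := h.oSub_conj hR ((F.autGroup R).inv_mem huF) hk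
    rwa [show u⁻¹ * (u * k * u⁻¹) * u⁻¹⁻¹ = k by group] at h1
  have ha' : a ∈ ((autInducedBy (T₁ ⊓ T₂) R ⊔ oSub E₁ E₂ p R : Subgroup _) : Set (MulAut R)) :=
    haJ
  rw [Subgroup.coe_mul_of_left_le_normalizer_right _ _ hn] at ha'
  obtain ⟨u, hu, o, ho, rfl⟩ := ha'
  obtain ⟨b, hb, rfl⟩ := hOres o ho
  refine Subgroup.mul_mem _ hu (hres ⟨?_, hb⟩)
  have h1 := Subgroup.mul_mem _ (Subgroup.inv_mem _ (autInducedBy_mono h.TS R hu)) haS
  rw [inv_mul_cancel_left] at h1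
  show b ∈ (P : Subgroup (bSub E₁ E₂ R))
  rw [hP]
  exact h1

/-- The automizer is conjugated into `Aut_T(R)` on `p`-subgroups. -/
theorem exists_conj_jSub (hR : R ≤ T₁ ⊓ T₂) (hfn : F.IsFullyNormalized R)
    {A : Subgroup (MulAut R)} (hA : A ≤ jSub E₁ E₂ p R) (hAp : IsPGroup p A) :
    ∃ δ ∈ jSub E₁ E₂ p R, ∀ a ∈ A, δ * a * δ⁻¹ ∈ autInducedBy (T₁ ⊓ T₂) R := by
  have := finite_of_le hfn.1
  have := finite_mulAut R
  obtain ⟨-, D, hD⟩ := isFullyAutomized_of_isFullyNormalized h.pgroup h.sat hfn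
  obtain ⟨P, hP⟩ := exists_sylow_meet D hD (h.jSub_le hR) (h.jSub_conj hR hfn)
  obtain ⟨Q, hQ⟩ := (hAp.of_equiv (Subgroup.subgroupOfEquivOfLe hA).symm).exists_le_sylow
  obtain ⟨l, hl⟩ := MulAction.exists_smul_eq ↥(jSub E₁ E₂ p R) Q P
  refine ⟨l, l.2, fun a ha => h.jSub_inf_le hR hfn ⟨?_, ?_⟩⟩
  · exact Subgroup.mul_mem _ (Subgroup.mul_mem _ l.2 (hA ha)) (Subgroup.inv_mem _ l.2)
  · have h1 : l * ⟨a, hA ha⟩ * l⁻¹ ∈ (P : Subgroup (jSub E₁ E₂ p R)) := by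
      rw [← hl, Sylow.coe_subgroup_smul, Subgroup.mem_pointwise_smul_iff_inv_smul_mem]
      simpa [mul_assoc] using hQ (Subgroup.mem_subgroupOf.2 ha :
        (⟨a, hA ha⟩ : jSub E₁ E₂ p R) ∈ A.subgroupOf _)
    rwa [hP, Subgroup.mem_subgroupOf] at h1

end Data

end CfsgLib.Fusion.Meet
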