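import Cfsg.Agent.Lib.Fusion.NormalCentralizerSystem
import Cfsg.Agent.Lib.Fusion.MeetAutomizer
import Cfsg.Agent.Lib.Fusion.Inner

/-!
A strongly closed subgroup meeting the support of a normal subsystem in a central subgroup of it
centralises that subsystem, if this equals its hyperfocal subgroup.
-/

set_option autoImplicit false
set_option linter.unusedSectionVars false

namespace CfsgLib.Fusion.Centralise

open Cfsg Cfsg.FusionSystem
open CfsgLib.Fusion.NormalCentralizer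

variable {Ω : Type*} [Group Ω] {S T T' U : Subgroup Ω} {F : FusionSystem S} {E : FusionSystem T}
  {p : ℕ}

/-- The centralizer maps of a subsystem are centralizer maps of the system. -/
theorem centralizerHom_mono {G : FusionSystem U} (hUS : U ≤ S) (hG : G.IsSubsystemOf F)
    (X P : Subgroup Ω) : G.centralizerHom X P ⊆ F.centralizerHom X P := by
  rintro φ ⟨hφ, hP, hv, ψ, hψ, hag, hfix⟩
  exact ⟨hG P hφ, hP.trans (inf_le_inf_right _ hUS), fun x => inf_le_inf_right _ hUS (hv x),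
    ψ, hG _ hψ, hag, hfix⟩

/-- Centralizer maps of a subgroup centralise its subgroups. -/
theorem centralizerHom_anti {X Y : Subgroup Ω} (hYX : Y ≤ X) (P : Subgroup Ω) :
    F.centralizerHom X P ⊆ F.centralizerHom Y P := by
  rintro φ ⟨hφ, hP, hv, ψ, hψ, hag, hfix⟩
  have hC : centralizerIn S X ≤ centralizerIn S Y :=
    inf_le_inf_left _ (Subgroup.centralizer_le (show (Y : Set Ω) ⊆ X from hYX))
  exact ⟨hφ, hP.trans hC, fun x => hC (hv x), ψ.comp (Subgroup.inclusion (sup_le_sup le_rfl hYX)),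
    restrict_mem F hψ _, fun x => hag x, fun y => hfix ⟨y, hYX y.2⟩⟩

theorem central_commute {A : Subgroup Ω} (hA : E.IsCentral A) {a x : Ω} (ha : a ∈ A) (hx : x ∈ T) :
    a * x = x * a := by
  have hle : A ≤ E.center := le_sSup hA
  exact (Subgroup.mem_centralizer_iff.1 (E.center_le_centralizer (hle ha)) x hx).symm

theorem autFun_eq_of_central {A P : Subgroup Ω} (hA : E.IsCentral A) (hAP : A ≤ P) (hP : P ≤ T)
    {x : MulAut P} (hx : x ∈ E.autGroup P) {a : Ω} (ha : a ∈ A) : autFun x a = a := by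
  obtain ⟨g, -, hag, hfix⟩ := (isCentral_iff.1 hA).2 P _ ((mem_autGroup_iff hP x).1 hx).isMap
  rw [← hag a (hAP ha), hfix a ha]

variable [Fact p.Prime] [Finite S]

/-- An automorphism of order prime to `p` commutes with the action of `T'`. -/
theorem commute_of_central (hS : IsPGroup p S) (hF : F.IsSaturated p) (hE : E.IsNormalIn F p)
    (hT' : F.StronglyClosed T') (hA : E.IsCentral (T ⊓ T')) {P : Subgroup Ω} (hP : P ≤ T)
    (hfn : F.IsFullyNormalized P) (hAP : T ⊓ T' ≤ P) {x : MulAut P} (hx : x ∈ E.autGroup P)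
    (hxo : (orderOf x).Coprime p) {t : Ω} (ht : t ∈ T') :
    ∀ y ∈ P, autFun x (t * y * t⁻¹) = t * autFun x y * t⁻¹ := by
  classical
  have hI := hE.1.2.2
  have hT := hI.2.1
  set A := T ⊓ T' with hAdef
  have hAsc : F.StronglyClosed A := Meet.stronglyClosed_inf hT hT'
  have hPS := hfn.1
  have := finite_of_le hPS
  have := finite_mulAut P
  have hxA : ∀ a ∈ A, autFun x a = a := fun a ha => autFun_eq_of_central hA hAP hP hx ha
  have hmodT' : ∀ u ∈ T', ∀ y ∈ P, y⁻¹ * (u * y * u⁻¹) ∈ A := fun u hu y hy => by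
    refine ⟨T.mul_mem (T.inv_mem (hP hy)) (normalizer_T hI (hT'.1 hu) (hP hy)), ?_⟩
    rw [show y⁻¹ * (u * y * u⁻¹) = (y⁻¹ * u * y⁻¹⁻¹) * u⁻¹ by group]
    exact T'.mul_mem (conjMem_of_stronglyClosed hT' (S.inv_mem (hPS hy)) hu) (T'.inv_mem hu)
  have hconjP : ∀ u ∈ T', ∀ y ∈ P, u * y * u⁻¹ ∈ P := fun u hu y hy => by
    have := P.mul_mem hy (hAP (hmodT' u hu y hy))
    rwa [mul_inv_cancel_left] at this
  -- automorphisms trivial on `A` and modulo it
  have hinvA : ∀ a ∈ F.autGroup P, ∀ y ∈ P, y ∈ A → autFun a y ∈ A := fun a ha y hy hyA =>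
    isMap_mem_of_stronglyClosed hAsc ((mem_autGroup_iff hPS a).1 ha).isMap hy hyA
  set K := (trivKer F P A).map (F.autGroup P).subtype with hKdef
  obtain ⟨-, Sy, hSy⟩ := isFullyAutomized_of_isFullyNormalized hS hF hfn
  have hKS : K ≤ autInducedBy S P := by
    rintro _ ⟨a, ha, rfl⟩
    have h1 : a ∈ (Sy : Subgroup (F.autGroup P)) :=
      (trivKer_le_pCore hS hPS hinvA).trans (Residual.le_sylow
        (hn := CfsgLib.Fitting.pCore_normal p) (CfsgLib.Fitting.pCore_isPGroup p) Sy) ha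
    rw [hSy] at h1
    exact h1
  have hxF : x ∈ F.autGroup P :=
    (mem_autGroup_iff hPS x).2 (((mem_autGroup_iff hP x).1 hx).of_subsystem hI.1)
  have hKmem : ∀ {a : MulAut P}, a ∈ F.autGroup P → (∀ y : P, (y : Ω) ∈ A → a y = y) →
      (∀ y : P, (y : Ω)⁻¹ * (a y : Ω) ∈ A) → a ∈ K :=
    fun {a} ha h1 h2 => ⟨⟨a, ha⟩, ⟨h1, fun y => h2 y⟩, rfl⟩
  have hKprop : ∀ a ∈ K, a ∈ F.autGroup P ∧ (∀ y : P, (y : Ω) ∈ A → a y = y) ∧
      ∀ y : P, (y : Ω)⁻¹ * (a y : Ω) ∈ A := by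
    rintro _ ⟨a, ⟨h1, h2⟩, rfl⟩
    exact ⟨a.2, h1, h2⟩
  have hxfix : ∀ y : P, (y : Ω) ∈ A → x y = y := fun y hy =>
    Subtype.ext (by rw [← autFun_coe x y]; exact hxA _ hy)
  have hxfix' : ∀ y : P, (y : Ω) ∈ A → x⁻¹ y = y := fun y hy => by
    conv_lhs => rw [← hxfix y hy]
    rw [MulAut.inv_apply_self]
  have hxK : ∀ a ∈ K, x * a * x⁻¹ ∈ K := fun a ha => by
    obtain ⟨haF, h1, h2⟩ := hKprop a ha
    refine hKmem (Subgroup.mul_mem _ (Subgroup.mul_mem _ hxF haF) (Subgroup.inv_mem _ hxF))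
      (fun y hy => by rw [MulAut.mul_apply, MulAut.mul_apply, hxfix' y hy, h1 y hy, hxfix y hy])
      fun y => ?_
    obtain ⟨z, rfl⟩ := x.surjective y
    rw [MulAut.mul_apply, MulAut.mul_apply, MulAut.inv_apply_self,
      ← Subgroup.coe_inv, ← Subgroup.coe_mul, ← map_inv, ← map_mul]
    have h3 := h2 z
    rw [← Subgroup.coe_inv, ← Subgroup.coe_mul] at h3
    rw [hxfix _ h3]
    exact h3
  set Q' := (K ⊔ autInducedBy T' P) ⊔ autInducedBy P P with hQ'
  have hQ'S : Q' ≤ autInducedBy S P :=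
    sup_le (sup_le hKS (autInducedBy_mono hT'.1 P)) (autInducedBy_mono hPS P)
  have hcomm : ∀ u ∈ autInducedBy T' P, x * u * x⁻¹ * u⁻¹ ∈ K := by
    intro u hu
    obtain ⟨s, hs, hsv⟩ := (mem_autInducedBy_iff T' P u).1 hu
    have huF : u ∈ F.autGroup P :=
      autInducedBy_le_autGroup hPS (autInducedBy_mono hT'.1 P hu)
    have huA : ∀ y : P, (y : Ω) ∈ A → (u y : Ω) ∈ A := fun y hy => by
      rw [hsv]; exact conjMem_of_stronglyClosed hAsc (hT'.1 hs) hy
    have hu'A : ∀ y : P, (y : Ω) ∈ A → (u⁻¹ y : Ω) ∈ A := fun y hy => by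
      have h1 := hinvA u⁻¹ ((F.autGroup P).inv_mem huF) y y.2 hy
      rwa [autFun_coe] at h1
    have humod : ∀ y : P, (y : Ω)⁻¹ * (u y : Ω) ∈ A := fun y => by
      rw [hsv]; exact hmodT' s hs y y.2
    refine hKmem (Subgroup.mul_mem _ (Subgroup.mul_mem _ (Subgroup.mul_mem _ hxF huF)
      (Subgroup.inv_mem _ hxF)) (Subgroup.inv_mem _ huF)) (fun y hy => ?_) fun y => ?_
    · rw [MulAut.mul_apply, MulAut.mul_apply, MulAut.mul_apply, hxfix' _ (hu'A y hy),
        MulAut.apply_inv_self, hxfix y hy]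
    · obtain ⟨w, rfl⟩ := u.surjective y
      obtain ⟨z, rfl⟩ := x.surjective w
      rw [MulAut.mul_apply, MulAut.mul_apply, MulAut.mul_apply, MulAut.inv_apply_self,
        MulAut.inv_apply_self]
      have e1 := humod z
      rw [← Subgroup.coe_inv, ← Subgroup.coe_mul] at e1
      have e2 : x (z⁻¹ * u z) = z⁻¹ * u z := hxfix _ e1
      rw [map_mul, map_inv] at e2
      have e3 : ((x z : P) : Ω)⁻¹ * (x (u z) : Ω) ∈ A := by
        rw [← Subgroup.coe_inv, ← Subgroup.coe_mul, e2]; exact e1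
      have e4 := Subgroup.mul_mem _ (A.inv_mem (humod (x z))) e3
      simpa [mul_assoc] using e4
  have hinn : ∀ a ∈ autInducedBy P P, x * a * x⁻¹ ∈ autInducedBy P P := fun a ha => by
    obtain ⟨u, hu, huv⟩ := (mem_autInducedBy_iff P P a).1 ha
    refine (mem_autInducedBy_iff P P _).2 ⟨x ⟨u, hu⟩, SetLike.coe_mem _, fun z => ?_⟩
    obtain ⟨y, rfl⟩ := x.surjective z
    rw [MulAut.mul_apply, MulAut.mul_apply, MulAut.inv_apply_self,
      show a y = ⟨u, hu⟩ * y * (⟨u, hu⟩ : P)⁻¹ from Subtype.ext (huv y), map_mul, map_mul, map_inv]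
    rfl
  have hinv' : Q' ≤ Q'.comap (MulAut.conj x).toMonoidHom := by
    refine sup_le (sup_le (fun a ha => Subgroup.mem_sup_left (Subgroup.mem_sup_left (hxK a ha)))
      fun a ha => Subgroup.mem_sup_left ?_) fun a ha => Subgroup.mem_sup_right (hinn a ha)
    show x * a * x⁻¹ ∈ _
    rw [show x * a * x⁻¹ = (x * a * x⁻¹ * a⁻¹) * a by group]
    exact Subgroup.mul_mem _ (Subgroup.mem_sup_left (hcomm a ha)) (Subgroup.mem_sup_right ha)
  set W := Meet.preInd S P Q' with hWdef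
  have hWS : W ≤ S := fun w hw => hw.1
  have hPW : P ≤ W := Meet.le_preInd hPS le_sup_right
  have htn : t ∈ Subgroup.normalizer (P : Set Ω) :=
    mem_normalizer_of_conj_mem hPS (hconjP t ht)
  set c₀ := conjAut P htn
  have hc₀ : c₀ ∈ autInducedBy T' P := conjAut_mem_autInducedBy htn ht
  have htW : t ∈ W := Meet.mem_preInd_of_induces (hT'.1 ht)
    (Subgroup.mem_sup_left (Subgroup.mem_sup_right hc₀)) (conjAut_apply P htn)
  obtain ⟨δ, hδ, hδP, hδC⟩ := MeetExt.exists_ext_trivial (W := W) hS hF hE hP hfn hx hxo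
    (fun w hw => ⟨hw.1, Meet.preInd_le_normalizer hw⟩) hPW Meet.centralizerIn_le_preInd
    fun w hw => by
      obtain ⟨a, ha, hav⟩ := Meet.exists_preInd hw
      have ha' : x * a * x⁻¹ ∈ Q' := hinv' ha
      obtain ⟨w', hw', hw'v⟩ := (mem_autInducedBy_iff S P _).1 (hQ'S ha')
      refine ⟨w', Meet.mem_preInd_of_induces hw' ha' hw'v, fun y hy => ?_⟩
      have h1 := hw'v (x ⟨y, hy⟩)
      rw [MulAut.mul_apply, MulAut.mul_apply, MulAut.inv_apply_self] at h1
      rw [← hav y hy, autFun_apply x hy, ← h1, autFun_apply a hy, autFun_coe]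
  -- a power of order prime to `p`
  have := finite_of_le hWS
  have := finite_mulAut W
  obtain ⟨γ₀, hγ₀, hγ₀v⟩ := exists_mem_autGroup hδ
  obtain ⟨m, hm1, hmo⟩ := Residual.exists_pPrime_pow (p := p) γ₀ hxo
  set γ := γ₀ ^ m with hγdef
  have hγF : γ ∈ F.autGroup W := Subgroup.pow_mem _ hγ₀ m
  have hγm := ((mem_autGroup_iff hWS γ).1 hγF).isMap
  have hγP : ∀ y ∈ P, autFun γ y = autFun x y := fun y hy => by
    rw [hγdef, autFun_pow_eq hPW (fun z hz => ?_) m y hy, Residual.pow_eq_self_of_modEq hm1]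
    rw [autFun_apply γ₀ (hPW hz), hγ₀v, hδP z hz]
  -- congruences modulo `T`
  have hCW : centralizerIn S P ≤ W := Meet.centralizerIn_le_preInd
  have hmodk : ∀ k : ℕ, ∀ c ∈ centralizerIn S P, c⁻¹ * autFun (γ₀ ^ k) c ∈ T := by
    intro k
    induction k with
    | zero =>
      intro c hc
      rw [pow_zero, autFun_one (hCW hc), inv_mul_cancel]
      exact T.one_mem
    | succ k ih =>
      intro c hc
      have hm := ((mem_autGroup_iff hWS _).1 (Subgroup.pow_mem _ hγ₀ k)).isMap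
      have hcW := hCW hc
      have hd : δ c = autFun γ₀ c := by rw [autFun_apply γ₀ hcW, hγ₀v]
      have hzW : c⁻¹ * δ c ∈ W := W.mul_mem (W.inv_mem hcW) (hδ.mem hcW)
      rw [pow_succ, autFun_mul _ _ hcW, ← hd, show δ c = c * (c⁻¹ * δ c) by group,
        hm.map_mul hcW hzW, ← mul_assoc]
      exact T.mul_mem (ih c hc) (isMap_mem_of_stronglyClosed hT hm hzW (hδC c hc))
  have hγC : ∀ k : ℕ, ∀ c ∈ centralizerIn S P, c⁻¹ * autFun (γ ^ k) c ∈ T := fun k c hc => by
    rw [hγdef, ← pow_mul]; exact hmodk _ c hc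
  -- the displacement of `t`
  have hPE : ∀ y ∈ P, autFun γ (t * y * t⁻¹) = autFun γ t * autFun x y * (autFun γ t)⁻¹ :=
    fun y hy => by rw [hγm.map_conj htW (hPW hy), hγP y hy]
  set z := autFun γ t * t⁻¹ with hzdef
  have hk : x * c₀ * x⁻¹ * c₀⁻¹ ∈ E.autGroup P ⊓ autInducedBy S P := by
    refine ⟨?_, hKS (hcomm c₀ hc₀)⟩
    have hc₀F : c₀ ∈ F.autGroup P :=
      autInducedBy_le_autGroup hPS (autInducedBy_mono hT'.1 P hc₀)
    rw [show x * c₀ * x⁻¹ * c₀⁻¹ = x * (c₀ * x⁻¹ * c₀⁻¹) by group]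
    refine Subgroup.mul_mem _ hx (Residual.mem_autGroup_transport hI hP
      ((mem_autGroup_iff hPS c₀).1 hc₀F) (Subgroup.inv_mem _ hx) fun y hy => ?_)
    rw [autFun_apply c₀ (autFun_mem _ hy), autFun_apply _ (autFun_mem c₀ hy)]
    simp [autFun_apply _ hy]
  obtain ⟨u, hu, huv⟩ := (mem_autInducedBy_iff T P _).1 (MeetExt.mem_autInducedBy_of_mem hS hE.1
    (isFullyNormalized_of_super hS hF hI hfn hP) hk.1 hk.2)
  have hzv : ∀ y : P, ((x * c₀ * x⁻¹ * c₀⁻¹) y : Ω) = z * y * z⁻¹ := by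
    intro y
    obtain ⟨w, rfl⟩ := c₀.surjective y
    obtain ⟨v, rfl⟩ := x.surjective w
    rw [MulAut.mul_apply, MulAut.mul_apply, MulAut.mul_apply, MulAut.inv_apply_self,
      MulAut.inv_apply_self, ← autFun_coe x (c₀ v), conjAut_apply, ← hγP _ (hconjP t ht _ v.2),
      hPE _ v.2, conjAut_apply, autFun_coe, hzdef]
    group
  have htS := hT'.1 ht
  have hγt : autFun γ t ∈ T' := isMap_mem_of_stronglyClosed hT' hγm htW ht
  have hzS : z ∈ S := S.mul_mem (hγm.mem htW) (S.inv_mem htS)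
  have huS : u ∈ S := hI.2.1.1 hu
  set c := u⁻¹ * z with hcdef
  have hc : c ∈ centralizerIn S P :=
    ⟨S.mul_mem (S.inv_mem huS) hzS, mem_centralizer_of_conj_eq fun y hy => by
      have h1 := (huv ⟨y, hy⟩).symm.trans (hzv ⟨y, hy⟩)
      calc c * y * c⁻¹ = u⁻¹ * (z * y * z⁻¹) * u := by rw [hcdef]; group
        _ = y := by rw [← h1]; group⟩
  have hcW := hCW hc
  have hzW : z ∈ W := W.mul_mem (autFun_mem γ htW) (W.inv_mem htW)
  have huW : u ∈ W := by
    have := W.mul_mem hzW (W.inv_mem hcW)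
    rwa [hcdef, mul_inv_rev, inv_inv, mul_inv_cancel_left] at this
  have hiter : ∀ k : ℕ, autFun (γ ^ k) t * t⁻¹ * (c ^ k)⁻¹ ∈ T := by
    intro k
    induction k with
    | zero => simp [autFun_one htW, T.one_mem]
    | succ k ih =>
      have hm := ((mem_autGroup_iff hWS _).1 (Subgroup.pow_mem _ hγF k)).isMap
      have e : autFun γ t = u * c * t := by rw [hcdef, hzdef]; group
      rw [pow_succ, autFun_mul _ _ htW, e, hm.map_mul (W.mul_mem huW hcW) htW,
        hm.map_mul huW hcW]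
      have h1 : autFun (γ ^ k) u ∈ T := isMap_mem_of_stronglyClosed hT hm huW hu
      have h2 := T.mul_mem h1 (normalizer_T hI hc.1 (T.mul_mem (hγC k c hc) ih))
      convert h2 using 1
      rw [pow_succ']
      group
  have hn := hiter (orderOf γ)
  rw [pow_orderOf_eq_one, autFun_one htW, mul_inv_cancel, one_mul, inv_mem_iff] at hn
  obtain ⟨j, hj⟩ := ModelNormal.exists_pow_eq_one hS hc.1
  have hcT : c ∈ T := ModelNormal.mem_of_pow_mem_coprime (hmo.pow_right j) hn (hj ▸ T.one_mem)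
  have hzA : z ∈ A := by
    refine ⟨?_, T'.mul_mem hγt (T'.inv_mem ht)⟩
    have := T.mul_mem hu hcT
    rwa [hcdef, mul_inv_cancel_left] at this
  intro y hy
  rw [← hγP _ (hconjP t ht y hy), hPE y hy, show autFun γ t = z * t by rw [hzdef]; group,
    show z * t * autFun x y * (z * t)⁻¹ = z * (t * autFun x y * t⁻¹) * z⁻¹ by group,
    central_commute hA hzA (hP (hconjP t ht _ (autFun_mem x hy))), mul_inv_cancel_right]

/-- `T'` centralises `T`. -/
theorem le_centralizerIn (hS : IsPGroup p S) (hF : F.IsSaturated p) (hE : E.IsNormalIn F p)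
    (hyp : E.hyperfocalSubgroup p = T) (hT' : F.StronglyClosed T') (hA : E.IsCentral (T ⊓ T')) :
    T' ≤ centralizerIn S T := by
  have hI := hE.1.2.2
  have hT := hI.2.1
  have hTp : IsPGroup p T := hS.to_le hT.1
  have := finite_of_le hT.1
  have hle : E.hyperfocalSubgroup p ≤ T ⊓ Subgroup.centralizer (T' : Set Ω) := by
    refine hyperfocal_le_of_coprime fun P α hP hα hαo y => ⟨T.mul_mem (T.inv_mem (hP y.2))
      (hP (SetLike.coe_mem _)), Subgroup.mem_centralizer_iff.2 fun t ht => ?_⟩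
    set A := T ⊓ T'
    set P₁ := P ⊔ A with hP₁def
    have hP₁ : P₁ ≤ T := sup_le hP inf_le_left
    have hP₁S : P₁ ≤ S := hP₁.trans hT.1
    have := finite_of_le hP₁S
    have := finite_mulAut P₁
    obtain ⟨g, hg, hag, hfix⟩ := (isCentral_iff.1 hA).2 P _ ((mem_autGroup_iff hP α).1 hα).isMap
    have hgm : ∀ w ∈ P₁, g w ∈ P₁ := mem_of_mem_sup hg le_sup_left le_sup_right
      (fun w hw => Subgroup.mem_sup_left (by rw [hag w hw]; exact autFun_mem α hw))
      fun w hw => Subgroup.mem_sup_right (by rw [hfix w hw]; exact hw)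
    obtain ⟨β₀, hβ₀, hβ₀v⟩ := exists_mem_autGroup (hg.isIso_of_card_le hgm le_rfl)
    obtain ⟨m, hm1, hmo⟩ := Residual.exists_pPrime_pow (p := p) β₀ hαo
    set β := β₀ ^ m
    have hβE : β ∈ E.autGroup P₁ := Subgroup.pow_mem _ hβ₀ m
    have hβP : ∀ w ∈ P, autFun β w = autFun α w := fun w hw => by
      rw [autFun_pow_eq le_sup_left (fun z hz => ?_) m w hw, Residual.pow_eq_self_of_modEq hm1]
      rw [autFun_apply β₀ (Subgroup.mem_sup_left hz), hβ₀v, hag z hz]
    obtain ⟨R, hPR, hR⟩ := exists_isFullyNormalized (F := F) hP₁S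
    obtain ⟨h, hh, hhi, -, -⟩ := exists_map_normalizerIn hS
      (isFullyAutomized_of_isFullyNormalized hS hF hR)
      (isReceptive_of_isFullyNormalized hS hF hR) hPR
    have hAsc : F.StronglyClosed A := Meet.stronglyClosed_inf hT hT'
    have hAR : A ≤ R := fun a ha => by
      have him := image_eq_of_mem hAsc.1 hhi.isMap le_sup_right fun b hb =>
        isMap_mem_of_stronglyClosed hAsc hhi.isMap (Subgroup.mem_sup_right hb) hb
      obtain ⟨b, hb, rfl⟩ := him.ge ha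
      exact hhi.mem (Subgroup.mem_sup_right hb)
    have hRT : R ≤ T := Meet.le_of_isIso hT hP₁ hhi
    set β' := MulAut.congr hhi.equiv β
    have hβ'v : ∀ w ∈ P₁, h (autFun β w) = autFun β' (h w) := fun w hw =>
      Meet.congr_autFun hhi β hw
    have htS := hT'.1 ht
    have hnorm : ∀ w ∈ P₁, w⁻¹ * (t * w * t⁻¹) ∈ A := fun w hw =>
      ⟨T.mul_mem (T.inv_mem (hP₁ hw)) (normalizer_T hI htS (hP₁ hw)), by
        rw [show w⁻¹ * (t * w * t⁻¹) = (w⁻¹ * t * w⁻¹⁻¹) * t⁻¹ by group]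
        exact T'.mul_mem (conjMem_of_stronglyClosed hT' (S.inv_mem (hP₁S hw)) ht) (T'.inv_mem ht)⟩
    have htN : t ∈ normalizerIn S P₁ := ⟨htS, mem_normalizer_of_conj_mem hP₁S fun w hw => by
      have := P₁.mul_mem hw (Subgroup.mem_sup_right (S := P) (hnorm w hw))
      rwa [mul_inv_cancel_left] at this⟩
    have hcom := commute_of_central hS hF hE hT' hA hRT hR hAR
      (Residual.mem_autGroup_transport hI hP₁ hhi hβE hβ'v) (by rwa [MulEquiv.orderOf_eq])
      (isMap_mem_of_stronglyClosed hT' hh htN ht)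
    -- compare the two sides at `y`
    set s := h t
    have hy : (y : Ω) ∈ P₁ := Subgroup.mem_sup_left y.2
    have hty : t * (y : Ω) * t⁻¹ ∈ P₁ := conj_mem_of_mem_normalizer htN.2 hy
    have hN : ∀ w ∈ P₁, w ∈ normalizerIn S P₁ := fun w hw => le_normalizerIn hP₁S hw
    have hA' : ∀ a ∈ A, autFun β a = a := fun a ha =>
      autFun_eq_of_central hA le_sup_right hP₁ hβE ha
    have e1 : h (autFun β (t * (y : Ω) * t⁻¹)) = h (t * autFun β y * t⁻¹) := by
      rw [hβ'v _ hty, hh.map_conj htN (hN _ hy), hcom _ (hhi.mem hy), ← hβ'v _ hy,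
        hh.map_conj htN (hN _ (autFun_mem β hy))]
    have e2 := hh.injOn (hN _ (autFun_mem β hty))
      (hN _ (conj_mem_of_mem_normalizer htN.2 (autFun_mem β hy))) e1
    set a := (y : Ω)⁻¹ * (t * y * t⁻¹) with hadef
    have ha : a ∈ A := hnorm _ hy
    have hm := ((mem_autGroup_iff hP₁ β).1 hβE).isMap
    rw [show t * (y : Ω) * t⁻¹ = y * a by rw [hadef]; group,
      hm.map_mul hy (Subgroup.mem_sup_right ha), hA' a ha, hβP _ y.2, autFun_coe] at e2
    have hyT : (y : Ω)⁻¹ * (α y : Ω) ∈ T := T.mul_mem (T.inv_mem (hP y.2)) (hP (SetLike.coe_mem _))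
    have e3 : t * ((y : Ω)⁻¹ * (α y : Ω)) * t⁻¹ = (y : Ω)⁻¹ * (α y : Ω) := by
      calc t * ((y : Ω)⁻¹ * (α y : Ω)) * t⁻¹
          = (t * (y : Ω) * t⁻¹)⁻¹ * (t * (α y : Ω) * t⁻¹) := by group
        _ = a⁻¹ * ((y : Ω)⁻¹ * (α y : Ω)) * a := by rw [← e2, hadef]; group
        _ = (y : Ω)⁻¹ * (α y : Ω) := by
          rw [mul_assoc, ← central_commute hA ha hyT, inv_mul_cancel_left]
    exact mul_inv_eq_iff_eq_mul.1 e3
  rw [hyp] at hle
  exact fun t ht => ⟨hT'.1 ht, Subgroup.mem_centralizer_iff.2 fun u hu =>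
    (Subgroup.mem_centralizer_iff.1 (hle hu).2 t ht).symm⟩

/-- A strongly closed subgroup centralising `T` and meeting it centrally lies in `C_S(E)`. -/
theorem le_centE_of_le (hS : IsPGroup p S) (hF : F.IsSaturated p) (hE : E.IsNormalIn F p)
    (hT' : F.StronglyClosed T') (hc : T' ≤ centralizerIn S T) (hA : E.IsCentral (T ⊓ T')) :
    T' ≤ centE E F p hE.1.2.2.2.1.1 := fun c hcT => ⟨hc hcT, fun U δ hU hδ => by
  have hTS := hE.1.2.2.2.1.1
  have hUS : U ≤ S := hU.1.trans hTS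
  have hVS := sup_centralizerIn_le (S := S) hUS
  have := finite_of_le hVS
  have hcU : c ∈ centralizerIn S U := mem_centralizerIn_of_le hU.1 (hc hcT)
  have hcV : c ∈ U ⊔ centralizerIn S U := Subgroup.mem_sup_right hcU
  have hm := hδ.isMap hUS
  have hd : c⁻¹ * autFun δ c ∈ T ⊓ T' := ⟨hU.1 (hδ.mod c hcU),
    T'.mul_mem (T'.inv_mem hcT) (isMap_mem_of_stronglyClosed hT' hm hcV hcT)⟩
  have hAU : T ⊓ T' ≤ U := fun a ha => hU.2 U (isConj_refl hU.1)
    ⟨ha.1, Subgroup.mem_centralizer_iff.2 fun v hv => (central_commute hA ha (hU.1 hv)).symm⟩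
  obtain ⟨α, hα, hαv⟩ := hδ.exists_restrict
  obtain ⟨j, hj⟩ := (hS.to_le hVS).exists_card_eq
  rw [autFun_apply δ hcV]
  refine congrArg Subtype.val (Residual.eq_self_of_fixed_diff (β := δ) (x := ⟨c, hcV⟩)
    hδ.coprime (j := j) ?_ (hj ▸ pow_card_eq_one'))
  rw [autFun_apply δ hcV] at hd
  refine Subtype.ext ?_
  rw [← autFun_coe δ]
  show autFun δ (c⁻¹ * (δ ⟨c, hcV⟩ : Ω)) = c⁻¹ * (δ ⟨c, hcV⟩ : Ω)
  rw [hαv _ (hAU hd), autFun_eq_of_central hA hAU hU.1 hα hd]⟩

/-- A strongly closed subgroup meeting centrally a normal subsystem equal to its residual lies in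
its centraliser. -/
theorem le_centE (hS : IsPGroup p S) (hF : F.IsSaturated p) (hE : E.IsNormalIn F p)
    (hyp : E.hyperfocalSubgroup p = T) (hT' : F.StronglyClosed T') (hA : E.IsCentral (T ⊓ T')) :
    T' ≤ centE E F p hE.1.2.2.2.1.1 :=
  le_centE_of_le hS hF hE hT' (le_centralizerIn hS hF hE hyp hT' hA) hA

end CfsgLib.Fusion.Centralise
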