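import Mathlib
import Cfsg.Agent.Lib.Fusion.ResidualExtension
import Cfsg.Agent.Lib.Fusion.StronglyClosedAutomizer

/-!
Centric radical subgroups meet the support of an invariant subsystem in a centric subgroup of it.
-/

set_option autoImplicit false

namespace CfsgLib.Fusion.Character

open Cfsg Cfsg.FusionSystem

variable {Ω : Type*} [Group Ω] {S T : Subgroup Ω} {F : FusionSystem S} {E : FusionSystem T}
  {p : ℕ} [Fact p.Prime] [Finite S]

/-- If `P ⊓ T` is not centric in `E`, some conjugate of `P` has a non-inner automorphism induced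
by `S` in the `p`-core of its automizer. -/
theorem exists_bad (hS : IsPGroup p S) (hF : F.IsSaturated p) (hI : E.IsInvariantIn F)
    {P : Subgroup Ω} (hP : P ≤ S) (hbad : ¬ E.IsCentric (P ⊓ T)) :
    ∃ u : Ω → Ω, IsMap F P u ∧ ∀ a ∈ F.autGroup S, ∃ Q : Subgroup Ω, IsIso F P Q (autFun a ∘ u) ∧
      ∀ G : FusionSystem S, G.IsSubsystemOf F → centralizerIn S Q ≤ Q →
      ¬ (autInducedBy S Q ⊓ (Cfsg.pCore p (G.autGroup Q)).map (G.autGroup Q).subtype ≤
        Cfsg.Inn Q) := by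
  have hTS := hI.2.1.1
  have hTn := Residual.stronglyClosed_normal hI
  set U := P ⊓ T with hUdef
  obtain ⟨U₁, hU₁, hU₁C⟩ : ∃ U₁, E.IsConj U U₁ ∧ ¬ centralizerIn T U₁ ≤ U₁ := by
    by_contra h
    push_neg at h
    exact hbad ⟨inf_le_right, h⟩
  have hUS : U ≤ S := inf_le_left.trans hP
  obtain ⟨Us, hUs, hUsn⟩ := exists_isFullyNormalized (F := F) hUS
  have hra := isFullyAutomized_of_isFullyNormalized hS hF hUsn
  have hrr := isReceptive_of_isFullyNormalized hS hF hUsn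
  obtain ⟨u₀, hu₀, hu₀U, -, -⟩ := exists_map_normalizerIn hS hra hrr hUs
  obtain ⟨v₀, hv₀, hv₀U, -, -⟩ := exists_map_normalizerIn hS hra hrr
    (isConj_trans (isConj_symm (isConj_of_subsystem hI.1 hU₁)) hUs)
  have hPN : P ≤ normalizerIn S U := fun x hx => ⟨hP hx, mem_normalizer_of_conj_mem hUS fun y hy =>
    ⟨P.mul_mem (P.mul_mem hx hy.1) (P.inv_mem hx), conj_mem_of_mem_normalizer (hTn (hP hx)) hy.2⟩⟩
  refine ⟨u₀, hu₀.mono hPN, fun a ha => ?_⟩
  have ham := (mem_autGroup_iff le_rfl a).1 ha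
  have haU : IsIso F Us (imageAut a Us) (autFun a) := PPrime.isIso_imageAut ha hUsn.1
  have hu : IsMap F (normalizerIn S U) (autFun a ∘ u₀) :=
    hu₀.comp ham.isMap fun x hx => hu₀.mem hx
  have huU : IsIso F U (imageAut a Us) (autFun a ∘ u₀) := hu₀U.comp haU
  have hu₁ : IsMap F (normalizerIn S U₁) (autFun a ∘ v₀) :=
    hv₀.comp ham.isMap fun x hx => hv₀.mem hx
  have hu₁U : IsIso F U₁ (imageAut a Us) (autFun a ∘ v₀) := hv₀U.comp haU
  have hUs' : imageAut a Us ≤ S := haU.le_right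
  clear hUsn hra hrr hUs
  set u₁ := autFun a ∘ v₀
  set u := autFun a ∘ u₀
  generalize imageAut a Us = Us at huU hu₁U hUs'
  obtain ⟨c, hc, hcU⟩ := SetLike.not_le_iff_exists.1 hU₁C
  have hcS : c ∈ centralizerIn S U₁ := ⟨hTS hc.1, hc.2⟩
  have hcN : c ∈ normalizerIn S U₁ := centralizerIn_le_normalizerIn S U₁ hcS
  have hU₁N : U₁ ≤ normalizerIn S U₁ := le_normalizerIn ((le_of_isConj hU₁).2.trans hTS)
  have hc'T : u₁ c ∈ T := isMap_mem_of_stronglyClosed hI.2.1 hu₁ hcN hc.1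
  have hc'C : u₁ c ∈ centralizerIn S Us := hu₁.mem_centralizerIn hU₁N hu₁U hcN hcS.2
  have hc'U : u₁ c ∉ Us := fun hm => by
    obtain ⟨z, hz, hze⟩ := hu₁U.surj hm
    exact hcU (hu₁.injOn hcN (hU₁N hz) hze.symm ▸ hz)
  have hUsT : Us ≤ T := fun y hy => by
    obtain ⟨x, hx, rfl⟩ := huU.surj hy
    exact isMap_mem_of_stronglyClosed hI.2.1 huU.isMap hx hx.2
  obtain ⟨Q, hQ⟩ := (hu.mono hPN).exists_iso
  obtain ⟨r, hr, hr1, -⟩ := hQ.exists_symm
  have hQT : Q ⊓ T = Us := by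
    refine le_antisymm (fun y hy => ?_) fun y hy => ?_
    · obtain ⟨x, hx, rfl⟩ := hQ.surj hy.1
      refine huU.mem ⟨hx, ?_⟩
      rw [← hr1 x hx]
      exact isMap_mem_of_stronglyClosed hI.2.1 hr.isMap hy.1 hy.2
    · refine ⟨?_, hUsT hy⟩
      obtain ⟨x, hx, rfl⟩ := huU.surj hy
      exact hQ.mem hx.1
  have hQS := hQ.le_right
  set W := centralizerIn T Us
  have hWS : W ≤ S := inf_le_left.trans hTS
  have hQW : Q ≤ Subgroup.normalizer (W : Set Ω) := fun q hq => by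
    refine mem_normalizer_of_conj_mem hWS fun z hz =>
      ⟨conj_mem_of_mem_normalizer (hTn (hQS hq)) hz.1, mem_centralizer_of_conj_eq fun x hx => ?_⟩
    rw [← hQT] at hx
    have h1 : q⁻¹ * x * q ∈ Us := by
      rw [← hQT]
      refine ⟨Q.mul_mem (Q.mul_mem (Q.inv_mem hq) hx.1) hq, ?_⟩
      have := conj_mem_of_mem_normalizer (hTn (S.inv_mem (hQS hq))) hx.2
      rwa [inv_inv] at this
    have h2 := conj_eq_self_of_mem_centralizer hz.2 h1
    calc q * z * q⁻¹ * x * (q * z * q⁻¹)⁻¹ = q * (z * (q⁻¹ * x * q) * z⁻¹) * q⁻¹ := by group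
      _ = q * (q⁻¹ * x * q) * q⁻¹ := by rw [h2]
      _ = x := by group
  have hlt : Q < Q ⊔ W := lt_of_le_of_ne le_sup_left fun e => hc'U <| by
    rw [← hQT]
    exact ⟨e ▸ Subgroup.mem_sup_right ⟨hc'T, hc'C.2⟩, hc'T⟩
  have hsupS : Q ⊔ W ≤ S := sup_le hQS hWS
  have := finite_of_le hsupS
  obtain ⟨y, hy, hyQ⟩ := SetLike.exists_of_lt
    (lt_normalizerIn (hS.to_le hsupS) hlt.le hlt.ne)
  have hy' : y ∈ ((Q ⊔ W : Subgroup Ω) : Set Ω) := hy.1
  rw [Subgroup.coe_mul_of_left_le_normalizer_right Q W hQW] at hy'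
  obtain ⟨q, hq, w, hw, rfl⟩ := hy'
  have hwn : w ∈ Subgroup.normalizer (Q : Set Ω) := by
    have := Subgroup.mul_mem _ (Subgroup.inv_mem _ (Subgroup.le_normalizer hq)) hy.2
    rwa [inv_mul_cancel_left] at this
  have hwQ : w ∉ Q := fun h => hyQ (Q.mul_mem hq h)
  have hwS : w ∈ S := hWS hw
  refine ⟨Q, hQ, fun G hG hcen hle => ?_⟩
  have := finite_of_le hQS
  have hstab : ∀ n ∈ G.autGroup Q, n ∈ SatExtend.stabF G Q (Q ⊓ T) := fun n hn => by
    refine ⟨hn, SatExtend.stab_iff inf_le_left fun x hx => ⟨SetLike.coe_mem _, ?_⟩⟩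
    rw [← autFun_coe n x]
    exact isMap_mem_of_stronglyClosed hI.2.1
      (((mem_autGroup_iff hQS n).1 hn).of_subsystem hG).isMap x.2 hx.2
  haveI := Residual.trivMod_normal (F := G) Q (Q ⊓ T)
  set V : Subgroup (G.autGroup Q) := ((Residual.trivMod G Q (Q ⊓ T)).map
    (SatExtend.stabF G Q (Q ⊓ T)).subtype).subgroupOf (G.autGroup Q) with hV
  have hVn : V.Normal := ⟨fun v hv n => by
    rw [hV, Subgroup.mem_subgroupOf, Subgroup.mem_map] at hv
    obtain ⟨t, ht, hte⟩ := hv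
    rw [hV, Subgroup.mem_subgroupOf, Subgroup.mem_map]
    refine ⟨⟨n, hstab _ n.2⟩ * t * ⟨n, hstab _ n.2⟩⁻¹, ?_, ?_⟩
    · exact (Residual.trivMod_normal (F := G) Q (Q ⊓ T)).conj_mem t ht _
    · simp only [map_mul, map_inv, hte]
      rfl⟩
  have hVp : IsPGroup p V := ((Residual.trivMod_isPGroup hS hQS _).map _).comap_subtype
  set δ := conjAut Q hwn with hδdef
  have hδS : δ ∈ autInducedBy S Q := conjAut_mem_autInducedBy hwn hwS
  have hδG : δ ∈ G.autGroup Q := autInducedBy_le_autGroup hQS hδS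
  have hδV : (⟨δ, hδG⟩ : G.autGroup Q) ∈ V := by
    rw [hV, Subgroup.mem_subgroupOf, Subgroup.mem_map]
    refine ⟨⟨δ, hstab δ hδG⟩, ⟨fun x hx => Subtype.ext ?_, fun x => ?_⟩, rfl⟩
    · show (δ x : Ω) = x
      rw [hδdef, conjAut_apply Q hwn]
      exact conj_eq_self_of_mem_centralizer hw.2 (hQT ▸ hx)
    · refine ⟨SetLike.coe_mem _, ?_⟩
      show (x : Ω)⁻¹ * (δ x : Ω) ∈ T
      rw [hδdef, conjAut_apply Q hwn, ← mul_assoc, ← mul_assoc]
      exact T.mul_mem (by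
        have := conj_mem_of_mem_normalizer (hTn (S.inv_mem (hQS x.2))) hw.1
        rwa [inv_inv] at this) (T.inv_mem hw.1)
  obtain ⟨v, hv, hvv⟩ := (mem_inn_iff δ).1
    (hle ⟨hδS, ⟨δ, hδG⟩, CfsgLib.Fitting.le_pCore hVn hVp hδV, rfl⟩)
  have hvw : v⁻¹ * w ∈ centralizerIn S Q := by
    refine ⟨S.mul_mem (S.inv_mem (hQS hv)) hwS, mem_centralizer_of_conj_eq fun x hx => ?_⟩
    have e := hvv ⟨x, hx⟩
    rw [hδdef, conjAut_apply Q hwn] at e
    calc v⁻¹ * w * x * (v⁻¹ * w)⁻¹ = v⁻¹ * (w * x * w⁻¹) * v := by group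
      _ = v⁻¹ * (v * x * v⁻¹) * v := by rw [e]
      _ = x := by group
  exact hwQ (by have := Q.mul_mem hv (hcen hvw); rwa [mul_inv_cancel_left] at this)

/-- Essential subgroups meet `T` in centric subgroups of `E`. -/
theorem isCentric_inf_of_isEssential (hS : IsPGroup p S) (hF : F.IsSaturated p)
    (hI : E.IsInvariantIn F) {R : Subgroup Ω} (hR : F.IsEssential p R) :
    E.IsCentric (R ⊓ T) := by
  by_contra hbad
  have hRS := hR.1.1
  obtain ⟨u₀, -, hu₀⟩ := exists_bad hS hF hI hRS hbad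
  obtain ⟨Q, hu, hQ⟩ := hu₀ 1 (Subgroup.one_mem _)
  set u := autFun (1 : MulAut S) ∘ u₀
  refine hQ F (fun _ => subset_rfl) ((isCentric_of_isConj hR.1 hu.isConj).2 Q
    (isConj_refl hu.le_right)) ?_
  rintro δ ⟨-, hδ⟩
  obtain ⟨r, hr, hr1, hr2⟩ := hu.exists_symm
  obtain ⟨-, -, hn, E', hE'⟩ := hR
  have := finite_of_le hRS
  have := finite_mulAut R
  have hpc := SatExtend.congr_mem_pCore hr hδ
  obtain ⟨b, hb, hbe⟩ := hpc
  haveI := CfsgLib.Fitting.pCore_normal (G := F.autGroup R) p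
  have hb1 : QuotientGroup.mk' ((Cfsg.Inn R).subgroupOf (F.autGroup R)) b = 1 := by
    haveI := (CfsgLib.Fitting.pCore_normal (G := F.autGroup R) p).map _
      (QuotientGroup.mk'_surjective ((Cfsg.Inn R).subgroupOf (F.autGroup R)))
    have h0 := eq_bot_of_isStronglyPEmbedded hE'
      ((CfsgLib.Fitting.pCore_isPGroup (G := F.autGroup R) p).map
        (QuotientGroup.mk' ((Cfsg.Inn R).subgroupOf (F.autGroup R))))
    exact Subgroup.mem_bot.1 (h0 ▸ Subgroup.mem_map_of_mem _ hb)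
  rw [QuotientGroup.mk'_apply, QuotientGroup.eq_one_iff, Subgroup.mem_subgroupOf] at hb1
  obtain ⟨v, hv, hvv⟩ := (mem_inn_iff _).1 hb1
  have hbe' : (b : MulAut R) = MulAut.congr hr.equiv δ := hbe
  refine (mem_inn_iff δ).2 ⟨u v, hu.mem hv, fun y => ?_⟩
  have hy : u v * (y : Ω) * (u v)⁻¹ ∈ Q :=
    Q.mul_mem (Q.mul_mem (hu.mem hv) y.2) (Q.inv_mem (hu.mem hv))
  refine hr.isMap.injOn (SetLike.coe_mem _) hy ?_
  have e := hvv (hr.equiv y)
  rw [hbe', hr.equiv_apply, hr.congr_apply] at e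
  rw [hr.isMap.map_conj (hu.mem hv) y.2, hr1 v hv]
  exact e

end CfsgLib.Fusion.Character
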