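import Mathlib
import Cfsg.Agent.Lib.Fusion.GoodRadical

/-!
The subsystem attached to a normal subgroup of `Aut_F(T)` of index prime to `p` containing the
automizer of a weakly normal subsystem over `T`.
-/

set_option autoImplicit false

namespace CfsgLib.Fusion.Character

open Cfsg Cfsg.FusionSystem CfsgLib.Fusion.PPrime

variable {Ω : Type*} [Group Ω] {S T : Subgroup Ω} {F : FusionSystem S} {E : FusionSystem T}
  {p : ℕ} [Fact p.Prime] [Finite S] {K : Subgroup (MulAut T)}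

/-- The properties of the kernel of a character of order prime to `p` trivial on `E`. -/
structure CharKer (F : FusionSystem S) (E : FusionSystem T) (p : ℕ) (K : Subgroup (MulAut T)) :
    Prop where
  le : K ≤ F.autGroup T
  normal : ∀ c ∈ F.autGroup T, ∀ k ∈ K, c * k * c⁻¹ ∈ K
  res : ∀ V : Subgroup Ω, E.IsCentric V → Residual.resIn F E V ≤ K
  root : ∀ c ∈ F.autGroup T, ∀ k : ℕ, c ^ p ^ k ∈ K → c ∈ K

/-- On `P ⊓ T` the map `f` is `a` after a map of `E`. -/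
def Dec (F : FusionSystem S) (E : FusionSystem T) (a : MulAut T) (P : Subgroup Ω) (f : Ω → Ω) :
    Prop :=
  a ∈ F.autGroup T ∧ ∃ ψ, IsMap E (P ⊓ T) ψ ∧ ∀ x ∈ P ⊓ T, f x = autFun a (ψ x)

/-- The maps with factor in `K`. -/
def Th (F : FusionSystem S) (E : FusionSystem T) (K : Subgroup (MulAut T)) (P : Subgroup Ω)
    (f : Ω → Ω) : Prop :=
  IsMap F P f ∧ ∃ a ∈ K, Dec F E a P f

omit [Fact p.Prime] [Finite S] in
theorem Dec.congr {a : MulAut T} {P : Subgroup Ω} {f g : Ω → Ω} (h : Dec F E a P f)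
    (he : ∀ x ∈ P, f x = g x) : Dec F E a P g := by
  obtain ⟨ha, ψ, hψ, hv⟩ := h
  exact ⟨ha, ψ, hψ, fun x hx => (he x hx.1).symm.trans (hv x hx)⟩

omit [Fact p.Prime] [Finite S] in
theorem Dec.mono {a : MulAut T} {P R : Subgroup Ω} {f : Ω → Ω} (h : Dec F E a P f) (hR : R ≤ P) :
    Dec F E a R f := by
  obtain ⟨ha, ψ, hψ, hv⟩ := h
  exact ⟨ha, ψ, hψ.mono (inf_le_inf_right _ hR), fun x hx => hv x ⟨hR hx.1, hx.2⟩⟩

omit [Fact p.Prime] [Finite S] in
theorem exists_dec (hI : E.IsInvariantIn F) {P : Subgroup Ω} {f : Ω → Ω} (hf : IsMap F P f) :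
    ∃ a, Dec F E a P f := by
  obtain ⟨a, ha, ψ, hψ, hv⟩ := exists_frattini hI inf_le_right (hf.mono (inf_le_left : P ⊓ T ≤ P))
  exact ⟨a, ha, ψ, hψ, hv⟩

omit [Fact p.Prime] [Finite S] in
theorem dec_id {P : Subgroup Ω} : Dec F E 1 P id :=
  ⟨Subgroup.one_mem _, id, isMap_id inf_le_right, fun x hx => by
    show x = autFun (1 : MulAut T) x
    rw [autFun_apply _ hx.2]; rfl⟩

omit [Fact p.Prime] [Finite S] in
theorem dec_comp (hI : E.IsInvariantIn F) {P Q : Subgroup Ω} {f g : Ω → Ω} {a b : MulAut T}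
    (hf : Dec F E a P f) (hg : Dec F E b Q g) (hfm : IsMap F P f) (hm : ∀ x ∈ P, f x ∈ Q) :
    Dec F E (b * a) P (g ∘ f) := by
  obtain ⟨ha, ψ, hψ, hv⟩ := hf
  obtain ⟨hb, ψ', hψ', hw⟩ := hg
  have hfT : ∀ x ∈ P ⊓ T, f x ∈ Q ⊓ T := fun x hx =>
    ⟨hm x hx.1, isMap_mem_of_stronglyClosed hI.2.1 hfm hx.1 hx.2⟩
  obtain ⟨ψ'', hψ'', hu⟩ := exists_transport hI hψ' ((F.autGroup T).inv_mem ha)
    (coe_imageAut a⁻¹ (inf_le_right : Q ⊓ T ≤ T))
  have hmem : ∀ x ∈ P ⊓ T, ψ x = autFun a⁻¹ (f x) := fun x hx => by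
    rw [hv x hx, autFun_inv_autFun a (hψ.mem hx)]
  refine ⟨(F.autGroup T).mul_mem hb ha, ψ'' ∘ ψ, hψ.comp hψ'' fun x hx => ?_, fun x hx => ?_⟩
  · rw [hmem x hx]
    exact mem_imageAut _ (hfT x hx) (hfT x hx).2
  · show g (f x) = autFun (b * a) (ψ'' (ψ x))
    rw [hmem x hx, hu _ (hfT x hx), autFun_mul _ _ (autFun_mem _ (hψ'.mem (hfT x hx))),
      autFun_autFun_inv a (hψ'.mem (hfT x hx)), hw _ (hfT x hx)]

omit [Fact p.Prime] in
theorem dec_inv (hI : E.IsInvariantIn F) {P Q : Subgroup Ω} {f r : Ω → Ω} {a : MulAut T}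
    (hf : Dec F E a P f) (hi : IsIso F P Q f) (hr : IsMap F Q r) (h1 : ∀ x ∈ P, r (f x) = x) :
    Dec F E a⁻¹ Q r := by
  obtain ⟨ha, ψ, hψ, hv⟩ := hf
  obtain ⟨V, hV⟩ := hψ.exists_iso
  obtain ⟨s, hs, hs1, -⟩ := hV.exists_symm
  obtain ⟨s', hs', hu⟩ := exists_transport hI hs.isMap ha (coe_imageAut a hV.le_right)
  have hback : ∀ y ∈ Q ⊓ T, ∃ x ∈ P ⊓ T, f x = y := fun y hy => by
    obtain ⟨x, hx, rfl⟩ := hi.surj hy.1
    refine ⟨x, ⟨hx, ?_⟩, rfl⟩
    rw [← h1 x hx]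
    exact isMap_mem_of_stronglyClosed hI.2.1 hr hy.1 hy.2
  refine ⟨(F.autGroup T).inv_mem ha, s', hs'.mono fun y hy => ?_, fun y hy => ?_⟩
  all_goals obtain ⟨x, hx, rfl⟩ := hback y hy
  · rw [hv x hx]
    exact mem_imageAut a (hV.mem hx) (hψ.mem hx)
  · rw [h1 x hx.1, hv x hx, hu _ (hV.mem hx), hs1 x hx, autFun_inv_autFun a hx.2]

omit [Fact p.Prime] in
theorem dec_mem (hK : CharKer F E p K) (hI : E.IsInvariantIn F) {P : Subgroup Ω} {f : Ω → Ω}
    (hgood : E.IsCentric (P ⊓ T)) {a : MulAut T} (ha : Dec F E a P f) (hth : Th F E K P f) :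
    a ∈ K := by
  obtain ⟨hf, b, hbK, hb, ψ', hψ', hw⟩ := hth
  obtain ⟨haF, ψ, hψ, hv⟩ := ha
  obtain ⟨V, hV⟩ := hψ.exists_iso
  obtain ⟨s, hs, hs1, -⟩ := hV.exists_symm
  have hVc : E.IsCentric V := isCentric_of_isConj hgood hV.isConj
  have hTS := hI.2.1.1
  have hc : b⁻¹ * a ∈ Residual.resIn F E V := by
    refine Subgroup.subset_closure ⟨(F.autGroup T).mul_mem ((F.autGroup T).inv_mem hb) haF, ?_⟩
    refine (hs.isMap.comp hψ' fun y hy => hs.mem hy).congr fun y hy => ?_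
    obtain ⟨x, hx, rfl⟩ := hV.surj hy
    show ψ' (s (ψ x)) = _
    rw [hs1 x hx, autFun_mul _ _ (hψ.mem hx), ← hv x hx, hw x hx,
      autFun_inv_autFun b (hψ'.mem hx)]
  have := K.mul_mem hbK (hK.res V hVc hc)
  rwa [mul_inv_cancel_left] at this

theorem good_of_iso (hI : E.IsInvariantIn F) {P Q : Subgroup Ω} {f : Ω → Ω}
    (hi : IsIso F P Q f) (hgood : E.IsCentric (P ⊓ T)) : E.IsCentric (Q ⊓ T) := by
  refine Residual.isCentric_of_iso hI hgood (f := f) ⟨hi.isMap.mono inf_le_left, ?_⟩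
  obtain ⟨r, hr, hr1, -⟩ := hi.exists_symm
  ext y
  constructor
  · rintro ⟨x, hx, rfl⟩
    exact ⟨hi.mem hx.1, isMap_mem_of_stronglyClosed hI.2.1 hi.isMap hx.1 hx.2⟩
  · intro hy
    obtain ⟨x, hx, rfl⟩ := hi.surj hy.1
    refine ⟨x, ⟨hx, ?_⟩, rfl⟩
    rw [← hr1 x hx]
    exact isMap_mem_of_stronglyClosed hI.2.1 hr.isMap hy.1 hy.2

theorem isSubPred_th (hS : IsPGroup p S) (hK : CharKer F E p K) (hI : E.IsInvariantIn F) :
    IsSubPred F (Th F E K) where
  isMap h := h.1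
  congr h he := ⟨h.1.congr he, by
    obtain ⟨a, haK, ha⟩ := h.2
    exact ⟨a, haK, ha.congr he⟩⟩
  conj := fun {P g} hP hg => by
    have hn := Residual.stronglyClosed_normal hI hg
    have hc := conjAut_mem_autInducedBy (P := T) hn hg
    have hcF := autInducedBy_le_autGroup (F := F) hI.2.1.1 hc
    obtain ⟨k, hk⟩ := isPGroup_autInducedBy hS T ⟨_, hc⟩
    refine ⟨isMap_conj hP hg, conjAut T hn, hK.root _ hcF k ?_, hcF, id, isMap_id inf_le_right,
      fun x hx => ?_⟩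
    · have : (conjAut T hn) ^ p ^ k = 1 := congrArg Subtype.val hk
      rw [this]
      exact K.one_mem
    · show g * x * g⁻¹ = autFun (conjAut T hn) (id x)
      rw [id, autFun_apply _ hx.2, conjAut_apply T hn]
  comp := fun {P Q f g} hf hg hm => by
    obtain ⟨hfm, a, haK, ha⟩ := hf
    obtain ⟨hgm, b, hbK, hb⟩ := hg
    exact ⟨hfm.comp hgm hm, b * a, K.mul_mem hbK haK, dec_comp hI ha hb hfm hm⟩
  inv := fun {P Q f r} hf hi hr h1 => by
    obtain ⟨hfm, a, haK, ha⟩ := hf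
    exact ⟨hr.isMap, a⁻¹, K.inv_mem haK, dec_inv hI ha hi hr.isMap h1⟩

/-- Systems containing the maps of `Th` on good sources. -/
def Cls (F : FusionSystem S) (E : FusionSystem T) (K : Subgroup (MulAut T))
    (E' : FusionSystem S) : Prop :=
  ∀ P f, E.IsCentric (P ⊓ T) → Th F E K P f → IsMap E' P f

/-- The subsystem of the character with kernel `K`. -/
def sub (F : FusionSystem S) (E : FusionSystem T) (K : Subgroup (MulAut T)) : FusionSystem S :=
  meet F (Cls F E K)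

omit [Fact p.Prime] [Finite S] in
theorem sub_subsystem : (sub F E K).IsSubsystemOf F := meet_subsystem

theorem th_of_isMap (hS : IsPGroup p S) (hK : CharKer F E p K) (hI : E.IsInvariantIn F)
    {P : Subgroup Ω} {f : Ω → Ω} (h : IsMap (sub F E K) P f) : Th F E K P f :=
  (isMap_ofPred (isSubPred_th hS hK hI)).1
    ((isMap_meet.1 h).2 _ fun _ _ _ hth => (isMap_ofPred _).2 hth)

omit [Fact p.Prime] [Finite S] in
theorem isMap_of_th {P : Subgroup Ω} {f : Ω → Ω} (hgood : E.IsCentric (P ⊓ T))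
    (h : Th F E K P f) : IsMap (sub F E K) P f :=
  isMap_meet.2 ⟨h.1, fun _ hE => hE P f hgood h⟩

theorem autInv_sub (hS : IsPGroup p S) (hK : CharKer F E p K) (hI : E.IsInvariantIn F) :
    AutInv F (sub F E K) := by
  intro a ha P f hf
  have hmem : Cls F E K (ofPred F _ (isSubPred_conjd (E := sub F E K) a)) := by
    intro P f hgood hth
    obtain ⟨hfm, k, hkK, hk⟩ := hth
    have hai := (F.autGroup S).inv_mem ha
    have hiso := isIso_imageAut hai hfm.le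
    have hf1 : IsMap F (imageAut a⁻¹ P) (autFun a) := isMap_autFun ha (imageAut_le _ _)
    have hmem1 : ∀ x ∈ imageAut a⁻¹ P, autFun a x ∈ P := fun x hx => (mem_imageAut_inv a hx).2
    have hf2 := hf1.comp hfm hmem1
    have hm : IsMap F (imageAut a⁻¹ P) (autFun a⁻¹ ∘ f ∘ autFun a) :=
      hf2.comp (isMap_autFun hai (le_refl S)) fun x hx => hf2.mem hx
    refine (isMap_ofPred _).2 ⟨hfm, isMap_of_th (good_of_iso hI hiso hgood) ⟨hm, ?_⟩⟩
    have haS := (mem_autGroup_iff le_rfl a).1 ha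
    obtain ⟨b, hb⟩ := exists_dec hI haS.isMap
    have hbi : Dec F E b⁻¹ S (autFun a⁻¹) := dec_inv hI hb haS
      ((mem_autGroup_iff le_rfl a⁻¹).1 hai).isMap fun x hx => autFun_inv_autFun a hx
    refine ⟨b⁻¹ * (k * b), ?_, dec_comp hI (dec_comp hI (hb.mono (imageAut_le _ _)) hk hf1 hmem1)
      hbi hf2 fun x hx => hf2.mem hx⟩
    have := hK.normal b⁻¹ ((F.autGroup T).inv_mem hb.1) k hkK
    rwa [inv_inv, mul_assoc] at this
  exact ((isMap_ofPred _).1 ((isMap_meet.1 hf).2 _ hmem)).2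

theorem covers_ess (hS : IsPGroup p S) (hF : F.IsSaturated p) (hK : CharKer F E p K)
    (hI : E.IsInvariantIn F) (R : Subgroup Ω) (hR : F.IsEssential p R) :
    opc F p R ≤ (sub F E K).autGroup R := by
  have hgood := isCentric_inf_of_isEssential hS hF hI hR
  have hRS := hR.1.1
  rw [opc_eq, Subgroup.closure_le]
  rintro α ⟨hα, k, hk⟩
  have hαm := ((mem_autGroup_iff hRS α).1 hα).isMap
  obtain ⟨c, hc⟩ := exists_dec hI hαm
  have hpow : ∀ n : ℕ, Dec F E (c ^ n) R (autFun (α ^ n)) := by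
    intro n
    induction n with
    | zero =>
      rw [pow_zero, pow_zero]
      exact dec_id.congr fun x hx => by rw [autFun_apply _ hx]; rfl
    | succ n ih =>
      rw [pow_succ', pow_succ']
      refine (dec_comp hI ih hc ((mem_autGroup_iff hRS _).1
        ((F.autGroup R).pow_mem hα n)).isMap fun x hx => autFun_mem _ hx).congr fun x hx => ?_
      rw [autFun_mul _ _ hx]
      rfl
  have hcK : c ∈ K := by
    refine hK.root c hc.1 k (dec_mem hK hI hgood (f := id) ((hpow (p ^ k)).congr fun x hx => ?_)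
      ⟨isMap_id hRS, 1, K.one_mem, dec_id⟩)
    rw [← hk, pow_orderOf_eq_one, autFun_apply _ hx]
    rfl
  exact mem_autGroup_of_isMap (isMap_of_th hgood ⟨hαm, c, hcK, hc⟩) α
    fun x => (autFun_coe α x).symm

theorem index_sub (hS : IsPGroup p S) (hF : F.IsSaturated p) (hK : CharKer F E p K)
    (hI : E.IsInvariantIn F) :
    (sub F E K).HasPrimeToPIndexIn F p ∧
      (∀ {P : Subgroup Ω} {f : Ω → Ω}, IsMap F P f → Factors (sub F E K) F P f) ∧
      ∀ P : Subgroup Ω, (sub F E K).IsCentric P ↔ F.IsCentric P :=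
  hasPrimeToPIndex hS hF sub_subsystem fun _ hP =>
    opc_le_autGroup_ess hS hF sub_subsystem (covers_ess hS hF hK hI) (autInv_sub hS hK hI) hP.1

theorem isSaturated_sub (hS : IsPGroup p S) (hF : F.IsSaturated p) (hK : CharKer F E p K)
    (hI : E.IsInvariantIn F) : (sub F E K).IsSaturated p := by
  obtain ⟨hidx, hfac, hcent⟩ := index_sub hS hF hK hI
  have hsub : (sub F E K).IsSubsystemOf F := sub_subsystem
  refine SatExtend.isSaturated_of_family (ℋ := {P | P ≤ S ∧ E.IsCentric (P ⊓ T)}) hS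
    ?_ ?_ ?_ ?_
  · rintro P ⟨-, hP⟩ Q hQ
    obtain ⟨f, hf⟩ := isConj_iff.1 hQ
    exact ⟨hf.le_right, good_of_iso hI (hf.of_subsystem hsub) hP⟩
  · rintro P ⟨hPS, hgood⟩
    obtain ⟨Q, hPQ, hQ⟩ := exists_isFullyNormalized (F := F) hPS
    obtain ⟨f, hf⟩ := isConj_iff.1 hPQ
    obtain ⟨a, ha, f₀, hf₀, hv⟩ := hfac hf.isMap
    obtain ⟨Q₀, hQ₀⟩ := hf₀.exists_iso
    have hQ₀F : F.IsConj P Q₀ := (hQ₀.of_subsystem hsub).isConj
    have hQ₀n : F.IsFullyNormalized Q₀ := by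
      refine ⟨hQ₀.le_right, fun A hA => ?_⟩
      refine (hQ.2 A (isConj_trans (isConj_symm hPQ) (isConj_trans hQ₀F hA))).trans ?_
      have := finite_of_le (S := S) (P := normalizerIn S Q₀) inf_le_left
      have hQeq : imageAut a⁻¹ Q = Q₀ := SetLike.coe_injective (by
        rw [← coe_imageAut a⁻¹ hQ.1, ← hf.image_eq, Set.image_image, ← hQ₀.image_eq]
        exact Set.image_congr fun x hx => by
          rw [hv x hx, autFun_inv_autFun a (hQ₀.le_right (hQ₀.mem hx))])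
      have hm := isIso_imageAut ((F.autGroup S).inv_mem ha) hQ.1
      rw [hQeq] at hm
      have hN := isMap_autFun ((F.autGroup S).inv_mem ha)
        (inf_le_left : normalizerIn S Q ≤ S)
      exact hN.card_le fun x hx => hN.mem_normalizerIn (le_normalizerIn hQ.1) hm hx hx.2
    refine ⟨Q₀, hQ₀.isConj, (isFullyAutomized_iff hS).2 ⟨hQ₀.le_right, fun A hA hAp => ?_⟩,
      isReceptive_iff.2 ⟨hQ₀.le_right, fun R g hg => ?_⟩⟩
    · have hle := hQ₀.le_right
      have := finite_of_le hle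
      have := finite_mulAut Q₀
      set N := opc F p Q₀
      have hNE : N ≤ (sub F E K).autGroup Q₀ := hidx.2 Q₀ hle
      have hAF : A ≤ F.autGroup Q₀ := fun x hx =>
        (mem_autGroup_iff hle x).2 (((mem_autGroup_iff hle x).1 (hA hx)).of_subsystem hsub)
      obtain ⟨-, D, hD⟩ := isFullyAutomized_of_isFullyNormalized hS hF hQ₀n
      have hDN : ((D : Subgroup (F.autGroup Q₀))) ≤ N.subgroupOf (F.autGroup Q₀) := by
        rw [hD]
        exact fun x hx =>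
          le_opc (autInducedBy_le_autGroup hle) (isPGroup_autInducedBy hS Q₀) hx
      have hAN : A.subgroupOf (F.autGroup Q₀) ≤ N.subgroupOf (F.autGroup Q₀) :=
        fun x hx => le_opc hAF hAp hx
      obtain ⟨SA, hSA⟩ := (((hAp.of_equiv (Subgroup.subgroupOfEquivOfLe hAF).symm).of_equiv
        (Subgroup.subgroupOfEquivOfLe hAN).symm)).exists_le_sylow
      obtain ⟨c, hc⟩ := MulAction.exists_smul_eq (N.subgroupOf (F.autGroup Q₀)) SA (D.subtype hDN)
      refine ⟨(c : F.autGroup Q₀), hNE c.2, fun x hx => ?_⟩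
      have hxN : (⟨⟨x, hAF hx⟩, hAN hx⟩ : N.subgroupOf (F.autGroup Q₀)) ∈
          (A.subgroupOf (F.autGroup Q₀)).subgroupOf _ := hx
      have h1 : c * ⟨⟨x, hAF hx⟩, hAN hx⟩ * c⁻¹ ∈
          ((D.subtype hDN : Sylow p _) : Subgroup (N.subgroupOf (F.autGroup Q₀))) := by
        rw [← hc, Sylow.coe_subgroup_smul, Subgroup.mem_pointwise_smul_iff_inv_smul_mem]
        simpa [mul_assoc] using hSA hxN
      rw [Sylow.coe_subtype, Subgroup.mem_subgroupOf, hD] at h1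
      exact h1
    · have hgF := hg.of_subsystem hsub
      obtain ⟨ψ, hψ, hψv⟩ :=
        (isReceptive_iff.1 (isReceptive_of_isFullyNormalized hS hF hQ₀n)).2 R g hgF
      have hRN := le_nPhi hg.isMap
      obtain ⟨b, hb⟩ := exists_dec hI hψ
      have hRgood : E.IsCentric (R ⊓ T) := by
        obtain ⟨r, hr, -, -⟩ := hgF.exists_symm
        exact good_of_iso hI hr (good_of_iso hI (hQ₀.of_subsystem hsub) hgood)
      have hbK : b ∈ K :=
        dec_mem hK hI hRgood ((hb.mono hRN).congr hψv) (th_of_isMap hS hK hI hg.isMap)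
      exact ⟨ψ, isMap_of_th (isCentric_of_le hRgood (inf_le_inf_right _ hRN) inf_le_right)
        ⟨hψ, b, hbK, hb⟩, hψv⟩
  · intro E' hE'
    refine meet_le fun P f hgood hth => ?_
    obtain ⟨φ, hφ, hv⟩ := isMap_of_th hgood hth
    exact ⟨φ, hE' P ⟨hth.1.le, hgood⟩ hφ, hv⟩
  · intro P hP hPn
    have hbad : ¬ E.IsCentric (P ⊓ T) := fun h => hPn ⟨hP.1, h⟩
    obtain ⟨u, hum, hu⟩ := exists_bad hS hF hI hP.1 hbad
    obtain ⟨a, ha, f₀, hf₀, hv⟩ := hfac hum
    obtain ⟨Q₀, hQ₀, hbadQ⟩ := hu a⁻¹ ((F.autGroup S).inv_mem ha)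
    have heq : ∀ x ∈ P, f₀ x = (autFun a⁻¹ ∘ u) x := fun x hx => by
      show f₀ x = autFun a⁻¹ (u x)
      rw [hv x hx, autFun_inv_autFun a (hf₀.mem hx)]
    have hQ₀D : IsIso (sub F E K) P Q₀ (autFun a⁻¹ ∘ u) :=
      ⟨hf₀.congr heq, hQ₀.image_eq⟩
    refine ⟨Q₀, hQ₀D.isConj, hbadQ _ hsub ?_⟩
    exact ((hcent Q₀).1 (isCentric_of_isConj hP hQ₀D.isConj)).2 Q₀ (isConj_refl hQ₀.le_right)

theorem isNormalIn_sub (hS : IsPGroup p S) (hF : F.IsSaturated p) (hK : CharKer F E p K)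
    (hI : E.IsInvariantIn F) : (sub F E K).IsNormalIn F p := by
  obtain ⟨hidx, hfac, -⟩ := index_sub hS hF hK hI
  refine ⟨⟨isSaturated_sub hS hF hK hI, hF, sub_subsystem,
    ⟨le_rfl, fun R _ φ hφ x => (F.le_of_mem hφ).2 x⟩, fun P hPS φ hφ a ha => ?_,
    fun P _ φ hφ => ?_⟩, fun α hα => ?_⟩
  · have hf := autInv_sub hS hK hI a⁻¹ ((F.autGroup S).inv_mem ha) _ _ (isMap_homFun hφ)
    rw [inv_inv] at hf
    obtain ⟨χ, hχ, hχv⟩ := hf
    refine ⟨χ, hχ, fun x hφx hax => ?_⟩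
    refine (hχv ⟨_, hax⟩).trans ?_
    show autFun a (homFun φ (autFun a⁻¹ ((a ⟨x, hPS x.2⟩ : S) : Ω))) = _
    rw [← autFun_apply a (hPS x.2), autFun_inv_autFun a (hPS x.2), homFun_coe, autFun_apply a hφx]
  · obtain ⟨a, ha, f₀, hf₀, hv⟩ := hfac (isMap_homFun hφ)
    obtain ⟨φ₀, hφ₀, hv₀⟩ := hf₀
    refine ⟨a, ha, φ₀, hφ₀, fun x hx => ?_⟩
    have e := hv x x.2
    rw [homFun_coe, ← hv₀ x, autFun_apply _ hx] at e
    exact e
  · have hsup : S ⊔ centralizerIn S S = S := sup_eq_left.2 inf_le_left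
    have hαS := (mem_autGroup_iff le_rfl α).1 hα
    obtain ⟨β, hβ, hβv⟩ := exists_mem_autGroup
      (show IsIso F (S ⊔ centralizerIn S S) (S ⊔ centralizerIn S S) (autFun α) by
        rw [hsup]; exact hαS.of_subsystem sub_subsystem)
    refine ⟨β, hβ, fun x => ?_, fun c hc => ?_⟩
    · rw [hβv]
      exact autFun_coe α x
    · rw [hβv]
      have hm := hαS.of_subsystem sub_subsystem (F := F)
      refine ⟨S.mul_mem (S.inv_mem hc.1) (autFun_mem α hc.1), ?_⟩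
      refine Subgroup.mul_mem _ (Subgroup.inv_mem _ hc.2) (mem_centralizer_of_conj_eq fun y hy => ?_)
      obtain ⟨x, hx, rfl⟩ := hm.surj hy
      rw [← hm.isMap.map_conj hc.1 hx, conj_eq_self_of_mem_centralizer hc.2 hx]

end CfsgLib.Fusion.Character
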