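import Mathlib
import Cfsg.Agent.Lib.Fusion.Transport
import Cfsg.Agent.Lib.Fusion.Solvable
import Cfsg.Agent.Lib.Fusion.FactorMorphism

/-!
Calculus of isomorphisms of fusion systems: composition, factor systems, centre, hyperfocal subgroup.
-/

set_option autoImplicit false

namespace CfsgLib.Fusion

open Cfsg Cfsg.FusionSystem

section Comp

variable {Ω Ω' Ω'' : Type*} [Group Ω] [Group Ω'] [Group Ω''] {S : Subgroup Ω} {S' : Subgroup Ω'}
  {S'' : Subgroup Ω''} {F : FusionSystem S} {F' : FusionSystem S'} {F'' : FusionSystem S''}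
  {j : Ω → Ω'} {k : Ω' → Ω}

/-- Transports compose. -/
theorem Transport.trans (h : Transport F F' j k) {j₂ : Ω' → Ω''} {k₂ : Ω'' → Ω'}
    (h₂ : Transport F' F'' j₂ k₂) : Transport F F'' (j₂ ∘ j) (k ∘ k₂) where
  j_mem x hx := h₂.j_mem _ (h.j_mem x hx)
  k_mem y hy := h.k_mem _ (h₂.k_mem y hy)
  kj x hx := (congrArg k (h₂.kj _ (h.j_mem x hx))).trans (h.kj x hx)
  jk y hy := (congrArg j₂ (h.jk _ (h₂.k_mem y hy))).trans (h₂.jk y hy)
  j_mul x hx y hy := by
    show j₂ (j (x * y)) = _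
    rw [h.j_mul x hx y hy, h₂.j_mul _ (h.j_mem x hx) _ (h.j_mem y hy)]
    rfl
  map P f P'' hf he := by
    refine h₂.map (h.img P) _ P'' (h.isMap hf) ?_
    rw [h.coe_img hf.le, he, Set.image_comp]
  mapBack P'' f P hf he := by
    refine h.mapBack (h₂.symm.img P'') _ P (h₂.symm.isMap hf) ?_
    rw [h₂.symm.coe_img hf.le, he, Set.image_comp]

/-- A transport only depends on the values of its functions on the two groups. -/
theorem Transport.congr (h : Transport F F' j k) {j' : Ω → Ω'} {k' : Ω' → Ω}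
    (hj : ∀ x ∈ S, j x = j' x) (hk : ∀ y ∈ S', k y = k' y) : Transport F F' j' k' where
  j_mem x hx := hj x hx ▸ h.j_mem x hx
  k_mem y hy := hk y hy ▸ h.k_mem y hy
  kj x hx := by rw [← hj x hx, ← hk _ (h.j_mem x hx), h.kj x hx]
  jk y hy := by rw [← hk y hy, ← hj _ (h.k_mem y hy), h.jk y hy]
  j_mul x hx y hy := by rw [← hj x hx, ← hj y hy, ← hj _ (S.mul_mem hx hy), h.j_mul x hx y hy]
  map P f P' hf he := by
    have he' : (P' : Set Ω') = j '' P := by
      rw [he]; exact (Set.image_congr fun x hx => hj x (hf.le hx)).symm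
    refine (h.map P f P' hf he').congr fun y hy => ?_
    obtain ⟨x, hx, rfl⟩ := he'.subset hy
    rw [← hk _ (h.j_mem x (hf.le hx)), h.kj x (hf.le hx), ← hj _ (hf.mem hx)]
  mapBack P' f P hf he := by
    have he' : (P : Set Ω) = k '' P' := by
      rw [he]; exact (Set.image_congr fun x hx => hk x (hf.le hx)).symm
    refine (h.mapBack P' f P hf he').congr fun x hx => ?_
    obtain ⟨y, hy, rfl⟩ := he'.subset hx
    rw [← hj _ (h.k_mem y (hf.le hy)), h.jk y (hf.le hy), ← hk _ (hf.mem hy)]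

/-- An isomorphic image has its support as the image of the support. -/
theorem Transport.coe_right (h : Transport F F' j k) : (S' : Set Ω') = j '' S := by
  rw [← h.coe_img le_rfl, h.img_top]

theorem Transport.finite_right (h : Transport F F' j k) [Finite S] : Finite S' := by
  rw [← h.img_top]
  exact Finite.of_surjective _ (h.equiv le_rfl).surjective

theorem Transport.isPGroup_right (h : Transport F F' j k) {p : ℕ} (hS : IsPGroup p S) :
    IsPGroup p S' := by
  rw [← h.img_top]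
  exact hS.of_equiv (h.equiv le_rfl)

/-- The image under a transport is unique. -/
theorem Transport.hom_eq {S₂ : Subgroup Ω'} {F₂ : FusionSystem S₂} (h : Transport F F' j k)
    {k₂ : Ω' → Ω} (h₂ : Transport F F₂ j k₂) :
    S' = S₂ ∧ ∀ P, F'.Hom P = F₂.Hom P := by
  have hS : S' = S₂ := SetLike.coe_injective (h.coe_right.trans h₂.coe_right.symm)
  subst hS
  refine ⟨rfl, fun P => hom_eq_of_isMap_iff fun f => ⟨fun hf => ?_, fun hf => ?_⟩⟩
  · have h1 := h₂.isMap (h.symm.isMap hf)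
    have e : h₂.img (h.symm.img P) = h.img (h.symm.img P) :=
      SetLike.coe_injective (by rw [h₂.coe_img (h.symm.img_le P), h.coe_img (h.symm.img_le P)])
    rw [e, h.img_symm_img hf.le] at h1
    refine h1.congr fun y hy => ?_
    have hyS := hf.le hy
    have e1 : j (k₂ y) = y := h₂.jk y hyS
    show j (k (f (j (k₂ y)))) = f y
    rw [e1, h.jk _ (hf.mem hy)]
  · have h1 := h.isMap (h₂.symm.isMap hf)
    have e : h.img (h₂.symm.img P) = h₂.img (h₂.symm.img P) :=
      SetLike.coe_injective (by rw [h.coe_img (h₂.symm.img_le P), h₂.coe_img (h₂.symm.img_le P)])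
    rw [e, h₂.img_symm_img hf.le] at h1
    refine h1.congr fun y hy => ?_
    have e1 : j (k y) = y := h.jk y (hf.le hy)
    show j (k₂ (f (j (k y)))) = f y
    rw [e1, h₂.jk _ (hf.mem hy)]

/-- An automorphism of `S` in `F` transports `F` to itself. -/
theorem transport_self {f g : Ω → Ω} (hf : IsIso F S S f) (hg : IsIso F S S g)
    (hgf : ∀ x ∈ S, g (f x) = x) (hfg : ∀ x ∈ S, f (g x) = x) : Transport F F f g where
  j_mem _ hx := hf.mem hx
  k_mem _ hx := hg.mem hx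
  kj := hgf
  jk := hfg
  j_mul x hx y hy := hf.isMap.map_mul hx hy
  map P u P' hu he := by
    have hP' : P' ≤ S := fun y hy => by
      obtain ⟨x, hx, rfl⟩ := he.subset hy
      exact hf.mem (hu.le hx)
    refine ((hg.isMap.mono hP').comp hu fun y hy => ?_).comp hf.isMap fun y hy => ?_
    all_goals obtain ⟨x, hx, rfl⟩ := he.subset hy
    · rwa [hgf x (hu.le hx)]
    · exact hu.mem ((hgf x (hu.le hx)).symm ▸ hx)
  mapBack P' u P hu he := by
    have hP : P ≤ S := fun y hy => by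
      obtain ⟨x, hx, rfl⟩ := he.subset hy
      exact hg.mem (hu.le hx)
    refine ((hf.isMap.mono hP).comp hu fun y hy => ?_).comp hg.isMap fun y hy => ?_
    all_goals obtain ⟨x, hx, rfl⟩ := he.subset hy
    · rwa [hfg x (hu.le hx)]
    · exact hu.mem ((hfg x (hu.le hx)).symm ▸ hx)

/-- `Aut_F(T)` transports an invariant subsystem over `T` to itself. -/
theorem transport_of_invariant {T : Subgroup Ω} {E : FusionSystem T} (hE : E.IsInvariantIn F)
    {a : MulAut T} (ha : a ∈ F.autGroup T) : Transport E E (autFun a) (autFun a⁻¹) := by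
  have hinv : ∀ (b : MulAut T) (x : Ω), x ∈ T → autFun b⁻¹ (autFun b x) = x := fun b x hx => by
    rw [autFun_apply b hx, autFun_coe, MulAut.inv_apply_self]
  have hinv' : ∀ (b : MulAut T) (x : Ω), x ∈ T → autFun b (autFun b⁻¹ x) = x := fun b x hx => by
    rw [autFun_apply b⁻¹ hx, autFun_coe, MulAut.apply_inv_self]
  refine ⟨fun x hx => autFun_mem a hx, fun x hx => autFun_mem _ hx, hinv a, hinv' a,
    fun x hx y hy => ?_, fun P f P' hf he => ?_, fun P' f P hf he => ?_⟩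
  · rw [autFun_apply a hx, autFun_apply a hy, autFun_apply a (T.mul_mem hx hy), ← Subgroup.coe_mul,
      ← map_mul]
    rfl
  · obtain ⟨f', hf', hv⟩ := exists_transport hE hf ha he.symm
    refine hf'.congr fun y hy => ?_
    obtain ⟨x, hx, rfl⟩ := he.subset hy
    rw [hv x hx, hinv a x (hf.le hx)]
  · obtain ⟨f', hf', hv⟩ := exists_transport hE hf (Subgroup.inv_mem _ ha) he.symm
    refine hf'.congr fun y hy => ?_
    obtain ⟨x, hx, rfl⟩ := he.subset hy
    rw [hv x hx, hinv' a x (hf.le hx)]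

end Comp

section Factor

variable {Ω Ω' Ω₁ Ω₂ : Type*} [Group Ω] [Group Ω'] [Group Ω₁] [Group Ω₂] {S : Subgroup Ω}
  {S' : Subgroup Ω'} {S₁ : Subgroup Ω₁} {S₂ : Subgroup Ω₂} {F : FusionSystem S}
  {F' : FusionSystem S'} {j : Ω → Ω'} {k : Ω' → Ω}

theorem exists_transport_of_factor_bot {θ : S →* Ω'} (hE : F.IsFactorSystem ⊥ θ F') :
    ∃ k, Transport F F' (homExt θ) k := by
  classical
  obtain ⟨-, hker, hr, -⟩ := id hE
  have hinj : ∀ x ∈ S, ∀ y ∈ S, homExt θ x = homExt θ y → x = y := fun x hx y hy e => by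
    have h1 : homExt θ (x * y⁻¹) = 1 := by
      rw [homExt_mul' θ hx (S.inv_mem hy), homExt_inv' θ hy, e, mul_inv_cancel]
    exact mul_inv_eq_one.1 (Subgroup.mem_bot.1
      ((mem_of_homExt_eq_one hE (S.mul_mem hx (S.inv_mem hy))).1 h1))
  let k : Ω' → Ω := fun y => if hy : ∃ x ∈ S, homExt θ x = y then hy.choose else 1
  have hk : ∀ x ∈ S, k (homExt θ x) = x := fun x hx => by
    have hy : ∃ x' ∈ S, homExt θ x' = homExt θ x := ⟨x, hx, rfl⟩
    show dite _ _ _ = _
    rw [dif_pos hy]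
    exact hinj _ hy.choose_spec.1 x hx hy.choose_spec.2
  have hmem : ∀ x ∈ S, homExt θ x ∈ S' := fun x hx => by
    rw [homExt_apply θ hx]; exact hr.le ⟨_, rfl⟩
  have hsurj : ∀ y ∈ S', ∃ x ∈ S, homExt θ x = y := fun y hy => by
    obtain ⟨x, rfl⟩ := hr.ge hy
    exact ⟨x, x.2, homExt_apply θ x.2⟩
  refine ⟨k, hmem, fun y hy => ?_, hk, fun y hy => ?_, fun x hx y hy => homExt_mul' θ hx hy,
    fun P f P' hf he => ?_, fun P' f P hf he => ?_⟩
  · obtain ⟨x, hx, rfl⟩ := hsurj y hy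
    rwa [hk x hx]
  · obtain ⟨x, hx, rfl⟩ := hsurj y hy
    rw [hk x hx]
  · have hpre : preimageAlong θ P' ≤ P := fun x hx => by
      obtain ⟨hxS, hxP⟩ := (mem_preimageAlong θ P').1 hx
      obtain ⟨x', hx', e⟩ := he.subset hxP
      rwa [← hinj x' (hf.le hx') x hxS e]
    refine (isMap_factor_iff hE).2 ⟨fun y hy => ?_, f, hf.mono hpre, fun x hx => ?_⟩
    · obtain ⟨x, hx, rfl⟩ := he.subset hy
      exact hmem x (hf.le hx)
    · rw [hk x ((mem_preimageAlong θ P').1 hx).1]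
  · obtain ⟨hP', g, hg, hgv⟩ := (isMap_factor_iff hE).1 hf
    have hpre : P ≤ preimageAlong θ P' := fun x hx => by
      obtain ⟨y, hy, rfl⟩ := he.subset hx
      obtain ⟨z, hz, rfl⟩ := hsurj y (hP' hy)
      rw [hk z hz]
      exact (mem_preimageAlong θ P').2 ⟨hz, hy⟩
    refine (hg.mono hpre).congr fun x hx => ?_
    rw [hgv x (hpre hx), hk _ (hg.mem (hpre hx))]

/-- Factor systems of isomorphic systems modulo corresponding subgroups are isomorphic. -/
theorem exists_transport_factor (h : Transport F F' j k) {T : Subgroup Ω} {T' : Subgroup Ω'}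
    (hTT : ∀ x ∈ S, j x ∈ T' ↔ x ∈ T) {θ₁ : S →* Ω₁} {θ₂ : S' →* Ω₂} {E₁ : FusionSystem S₁}
    {E₂ : FusionSystem S₂} (h₁ : F.IsFactorSystem T θ₁ E₁) (h₂ : F'.IsFactorSystem T' θ₂ E₂) :
    ∃ j' k', Transport E₁ E₂ j' k' := by
  classical
  have r1 : θ₁.range = S₁ := h₁.2.2.1
  have r2 : θ₂.range = S₂ := h₂.2.2.1
  have key : ∀ x ∈ S, ∀ x' ∈ S, homExt θ₁ x = homExt θ₁ x' ↔
      homExt θ₂ (j x) = homExt θ₂ (j x') := fun x hx x' hx' => by
    have hd := S.mul_mem hx (S.inv_mem hx')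
    have e1 := mem_of_homExt_eq_one h₁ hd
    have e2 := mem_of_homExt_eq_one h₂ (h.j_mem _ hd)
    rw [hTT _ hd, ← e1, homExt_mul' θ₁ hx (S.inv_mem hx'), homExt_inv' θ₁ hx', mul_inv_eq_one,
      h.j_mul _ hx _ (S.inv_mem hx'), h.j_inv hx',
      homExt_mul' θ₂ (h.j_mem x hx) (S'.inv_mem (h.j_mem x' hx')),
      homExt_inv' θ₂ (h.j_mem x' hx'), mul_inv_eq_one] at e2
    exact e2.symm
  let j' : Ω₁ → Ω₂ := fun y =>
    if hy : ∃ x ∈ S, homExt θ₁ x = y then homExt θ₂ (j hy.choose) else 1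
  let k' : Ω₂ → Ω₁ := fun z =>
    if hz : ∃ x ∈ S, homExt θ₂ (j x) = z then homExt θ₁ hz.choose else 1
  have hj : ∀ x ∈ S, j' (homExt θ₁ x) = homExt θ₂ (j x) := fun x hx => by
    have hy : ∃ x' ∈ S, homExt θ₁ x' = homExt θ₁ x := ⟨x, hx, rfl⟩
    show dite _ _ _ = _
    rw [dif_pos hy]
    exact (key _ hy.choose_spec.1 x hx).1 hy.choose_spec.2
  have hk : ∀ x ∈ S, k' (homExt θ₂ (j x)) = homExt θ₁ x := fun x hx => by
    have hz : ∃ x' ∈ S, homExt θ₂ (j x') = homExt θ₂ (j x) := ⟨x, hx, rfl⟩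
    show dite _ _ _ = _
    rw [dif_pos hz]
    exact (key _ hz.choose_spec.1 x hx).2 hz.choose_spec.2
  have s1 : ∀ y ∈ S₁, ∃ x ∈ S, homExt θ₁ x = y := fun y hy => by
    obtain ⟨x, rfl⟩ := r1.ge hy
    exact ⟨x, x.2, homExt_apply θ₁ x.2⟩
  have s2 : ∀ z ∈ S₂, ∃ x ∈ S, homExt θ₂ (j x) = z := fun z hz => by
    obtain ⟨x, rfl⟩ := r2.ge hz
    exact ⟨k x, h.k_mem x x.2, by rw [h.jk x x.2, homExt_apply θ₂ x.2]⟩
  have m1 : ∀ x ∈ S, homExt θ₁ x ∈ S₁ := fun x hx => by
    rw [homExt_apply θ₁ hx]; exact r1.le ⟨_, rfl⟩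
  have m2 : ∀ x ∈ S, homExt θ₂ (j x) ∈ S₂ := fun x hx => by
    rw [homExt_apply θ₂ (h.j_mem x hx)]; exact r2.le ⟨_, rfl⟩
  refine ⟨j', k', fun y hy => ?_, fun z hz => ?_, fun y hy => ?_, fun z hz => ?_,
    fun y hy y' hy' => ?_, fun P f P' hf he => ?_, fun P' f P hf he => ?_⟩
  · obtain ⟨x, hx, rfl⟩ := s1 y hy
    rw [hj x hx]; exact m2 x hx
  · obtain ⟨x, hx, rfl⟩ := s2 z hz
    rw [hk x hx]; exact m1 x hx
  · obtain ⟨x, hx, rfl⟩ := s1 y hy
    rw [hj x hx, hk x hx]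
  · obtain ⟨x, hx, rfl⟩ := s2 z hz
    rw [hk x hx, hj x hx]
  · obtain ⟨x, hx, rfl⟩ := s1 y hy
    obtain ⟨x', hx', rfl⟩ := s1 y' hy'
    rw [← homExt_mul' θ₁ hx hx', hj _ (S.mul_mem hx hx'), hj x hx, hj x' hx', h.j_mul x hx x' hx',
      homExt_mul' θ₂ (h.j_mem x hx) (h.j_mem x' hx')]
  · obtain ⟨hP, g, hg, hgv⟩ := (isMap_factor_iff h₁).1 hf
    have hpre : preimageAlong θ₂ P' ≤ h.img (preimageAlong θ₁ P) := fun z hz => by
      obtain ⟨hzS, hzP⟩ := (mem_preimageAlong θ₂ P').1 hz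
      obtain ⟨y, hy, e⟩ := he.subset hzP
      obtain ⟨x, hx, rfl⟩ := s1 y (hP hy)
      rw [← h.jk z hzS] at e ⊢
      refine h.mem_img (preimageAlong_le _ _) ((mem_preimageAlong θ₁ P).2 ⟨h.k_mem z hzS, ?_⟩)
      rw [hj x hx, ← key x hx _ (h.k_mem z hzS)] at e
      rwa [← e]
    refine (isMap_factor_iff h₂).2 ⟨fun z hz => ?_, _, (h.isMap hg).mono hpre, fun z hz => ?_⟩
    · obtain ⟨y, hy, rfl⟩ := he.subset hz
      obtain ⟨x, hx, rfl⟩ := s1 y (hP hy)
      rw [hj x hx]; exact m2 x hx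
    · have hzS := preimageAlong_le θ₂ P' hz
      have hxS := h.k_mem z hzS
      have hxP := h.k_mem_of_mem_img (hpre hz)
      show j' (f (k' (homExt θ₂ z))) = homExt θ₂ (j (g (k z)))
      nth_rw 1 [← h.jk z hzS]
      rw [hk _ hxS, hgv _ hxP, hj _ (hg.mem hxP)]
  · obtain ⟨hP', g, hg, hgv⟩ := (isMap_factor_iff h₂).1 hf
    have hpre : preimageAlong θ₁ P ≤ h.symm.img (preimageAlong θ₂ P') := fun x hx => by
      obtain ⟨hxS, hxP⟩ := (mem_preimageAlong θ₁ P).1 hx
      obtain ⟨z, hz, e⟩ := he.subset hxP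
      obtain ⟨x', hx', rfl⟩ := s2 z (hP' hz)
      rw [hk x' hx', key x' hx' x hxS] at e
      rw [← h.kj x hxS]
      refine h.symm.mem_img (preimageAlong_le _ _) ((mem_preimageAlong θ₂ P').2 ⟨h.j_mem x hxS, ?_⟩)
      rwa [← e]
    refine (isMap_factor_iff h₁).2 ⟨fun y hy => ?_, _, (h.symm.isMap hg).mono hpre, fun x hx => ?_⟩
    · obtain ⟨z, hz, rfl⟩ := he.subset hy
      obtain ⟨x, hx, rfl⟩ := s2 z (hP' hz)
      rw [hk x hx]; exact m1 x hx
    · have hxS := preimageAlong_le θ₁ P hx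
      have hzP := h.symm.k_mem_of_mem_img (hpre hx)
      show k' (f (j' (homExt θ₁ x))) = homExt θ₁ (k (g (j x)))
      rw [hj x hxS, hgv _ hzP]
      nth_rw 1 [← h.jk _ (hg.mem hzP)]
      rw [hk _ (h.k_mem _ (hg.mem hzP))]

theorem stronglyClosed_of_isCentral {Q : Subgroup Ω} (hQ : F.IsCentral Q) :
    F.StronglyClosed Q := by
  obtain ⟨hQS, hall⟩ := isCentral_iff.1 hQ
  refine stronglyClosed_iff.2 ⟨hQS, fun P f hf x hx hxQ => ?_⟩
  obtain ⟨g, -, hag, hfix⟩ := hall P f hf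
  rw [← hag x hx, hfix x hxQ]
  exact hxQ

theorem Transport.isCentral (h : Transport F F' j k) {Q : Subgroup Ω} (hQ : F.IsCentral Q) :
    F'.IsCentral (h.img Q) := by
  obtain ⟨hQS, hall⟩ := isCentral_iff.1 hQ
  refine isCentral_iff.2 ⟨h.img_le Q, fun P' f hf => ?_⟩
  obtain ⟨g, hg, hag, hfix⟩ := hall _ _ (h.symm.isMap hf)
  refine ⟨fun y => j (g (k y)), (h.isMap hg).mono (sup_le ?_ (h.img_mono le_sup_right)),
    fun y hy => ?_, fun y hy => ?_⟩
  · intro y hy
    rw [← h.jk y (hf.le hy)]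
    exact h.mem_img hg.le (Subgroup.mem_sup_left (h.symm.mem_img hf.le hy))
  · show j (g (k y)) = f y
    rw [hag _ (h.symm.mem_img hf.le hy), h.jk y (hf.le hy), h.jk _ (hf.mem hy)]
  · show j (g (k y)) = y
    rw [hfix _ (h.k_mem_of_mem_img hy), h.jk y (h.img_le Q hy)]

theorem Transport.mem_center_iff [Finite S] [Finite S'] (h : Transport F F' j k) {x : Ω}
    (hx : x ∈ S) : j x ∈ F'.center ↔ x ∈ F.center := by
  have hc : F.center ≤ S := (isCentral_center F).1
  have hc' : F'.center ≤ S' := (isCentral_center F').1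
  constructor
  · intro hj
    rw [← h.kj x hx]
    have hle : h.symm.img F'.center ≤ F.center :=
      le_sSup (h.symm.isCentral (isCentral_center F'))
    exact hle (h.symm.mem_img hc' hj)
  · intro hxc
    have hle : h.img F.center ≤ F'.center := le_sSup (h.isCentral (isCentral_center F))
    exact hle (h.mem_img hc hxc)

theorem Transport.isFactorSystem (h : Transport F F' j k) : F.IsFactorSystem ⊥ h.hom F' := by
  have hr : h.hom.range = S' := by
    refine SetLike.coe_injective ?_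
    rw [h.coe_right]
    ext y
    exact ⟨fun ⟨x, e⟩ => ⟨x, x.2, e⟩, fun ⟨x, hx, e⟩ => ⟨⟨x, hx⟩, e⟩⟩
  have hker : ∀ s : S, h.hom s = 1 ↔ (s : Ω) ∈ (⊥ : Subgroup Ω) := fun s => by
    rw [Subgroup.mem_bot]
    exact ⟨fun e => h.j_inj s.2 S.one_mem (e.trans h.j_one.symm), fun e => by
      rw [show s = 1 from Subtype.ext e, map_one]⟩
  have hpre : ∀ P' : Subgroup Ω', P' ≤ S' → preimageAlong h.hom P' = h.symm.img P' := fun P' hP => by
    ext x
    rw [mem_preimageAlong]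
    constructor
    · rintro ⟨hxS, hx⟩
      rw [homExt_apply _ hxS] at hx
      rw [← h.kj x hxS]
      exact h.symm.mem_img hP hx
    · intro hx
      have hxS := h.symm.img_le P' hx
      rw [homExt_apply _ hxS]
      exact ⟨hxS, h.symm.k_mem_of_mem_img hx⟩
  refine ⟨bot_le, hker, hr, fun P' φ' => ⟨fun hφ => ?_, ?_⟩⟩
  · have hP := (F'.le_of_mem hφ).1
    have hm := h.symm.isMap (isMap_homFun hφ)
    rw [← hpre P' hP] at hm
    obtain ⟨φ, hφm, hv⟩ := hm
    have hP0 := (F.le_of_mem hφm).1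
    have hmem : ∀ x : preimageAlong h.hom P', h.hom ⟨x, hP0 x.2⟩ ∈ P' := fun x => by
      have := ((mem_preimageAlong h.hom P').1 x.2).2
      rwa [homExt_apply _ (hP0 x.2)] at this
    refine ⟨hP, φ, hφm, hP0, (F.le_of_mem hφm).2, hmem, fun x => ?_⟩
    show _ = j (φ x)
    rw [hv]
    show _ = j (k (homFun φ' (h.hom ⟨x, hP0 x.2⟩)))
    rw [h.jk _ ((isMap_homFun hφ).mem (hmem x))]
    exact (homFun_coe φ' ⟨_, hmem x⟩).symm
  · rintro ⟨hP', φ, hφ, hP0, hφS, hmem, hind⟩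
    have hm := h.isMap (isMap_homFun hφ)
    have e : h.img (preimageAlong h.hom P') = P' := by rw [hpre P' hP', h.img_symm_img hP']
    rw [e] at hm
    refine mem_hom_of_isMap hm fun y => ?_
    have hy : k y ∈ preimageAlong h.hom P' := by
      rw [hpre P' hP']; exact h.symm.mem_img hP' y.2
    show φ' y = j (homFun φ (k y))
    rw [homFun_apply φ hy]
    refine Eq.trans ?_ (hind ⟨k y, hy⟩)
    congr 1
    exact Subtype.ext (h.jk y (hP' y.2)).symm

theorem Transport.hyperfocal_eq [Finite S] (h : Transport F F' j k) {p : ℕ} [Fact p.Prime]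
    (hS : IsPGroup p S) (hF : F.IsSaturated p) :
    F'.hyperfocalSubgroup p = h.img (F.hyperfocalSubgroup p) :=
  hyperfocal_factor hS hF (stronglyClosed_of_isCentral (isCentral_bot F)) h.isFactorSystem

end Factor

end CfsgLib.Fusion
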