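import Mathlib
import Cfsg.Agent.Lib.Fusion.TransportComp

/-!
Quasisimplicity, subnormality and components under isomorphisms; conjugates of subnormal subsystems.
-/

set_option autoImplicit false

namespace CfsgLib.Fusion

open Cfsg Cfsg.FusionSystem

variable {Ω Ω' : Type*} [Group Ω] [Group Ω'] {S : Subgroup Ω} {S' : Subgroup Ω'}
  {F : FusionSystem S} {F' : FusionSystem S'} {j : Ω → Ω'} {k : Ω' → Ω} {p : ℕ} [Fact p.Prime]

theorem Transport.quasisimple [Finite S] (h : Transport F F' j k) (hS : IsPGroup p S)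
    (hF : F.Quasisimple p) : F'.Quasisimple p := by
  haveI := h.finite_right
  obtain ⟨hsat, hhyp, hsim⟩ := hF
  refine ⟨h.isSaturated hS hsat, ?_, fun E' hE' => ?_⟩
  · rw [h.hyperfocal_eq hS hsat, hhyp, h.img_top]
  · have hc := stronglyClosed_of_isCentral (isCentral_center F)
    obtain ⟨E, hE⟩ := exists_factorSystem (θ := QuotientGroup.mk' ((F.center).subgroupOf S))
      (S' := ⊤) hc (fun s => by
        rw [QuotientGroup.mk'_apply, QuotientGroup.eq_one_iff, Subgroup.mem_subgroupOf])
      (MonoidHom.range_eq_top.2 (QuotientGroup.mk'_surjective _))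
    obtain ⟨j', k', h'⟩ := exists_transport_factor h (fun x hx => h.mem_center_iff hx) hE hE'
    exact h'.isSimple ((hS.to_quotient _).of_equiv Subgroup.topEquiv.symm) (hsim E hE)

omit [Fact p.Prime] in
theorem le_of_isSubnormalIn {T U : Subgroup Ω} {C : FusionSystem T} {D : FusionSystem U}
    (hsub : C.IsSubnormalIn D p) : T ≤ U := by
  induction hsub with
  | refl F p => exact le_rfl
  | step _ hn ih => exact ih.trans hn.1.2.2.2.1.1

theorem exists_subnormal_transport {T U : Subgroup Ω} {C : FusionSystem T} {D : FusionSystem U}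
    (hsub : C.IsSubnormalIn D p) (hfin : Finite U) (hU : IsPGroup p U) {U' : Subgroup Ω'}
    {D' : FusionSystem U'} (h : Transport D D' j k) :
    ∃ (T' : Subgroup Ω') (C' : FusionSystem T'), C'.IsSubnormalIn D' p ∧ Transport C C' j k := by
  rename_i hp
  revert hp U'
  induction hsub with
  | refl F => intro _ U' D' h; exact ⟨U', D', .refl D' _, h⟩
  | step hsub hn ih =>
    intro _ U' D' h
    haveI := h.finite_right
    have hle := hn.1.2.2.2.1.1
    obtain ⟨T', C', h1, h2⟩ := ih (finite_of_le hle) (hU.to_le hle) (h.transport_push _ hle)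
    exact ⟨T', C', .step h1 (h.isNormalIn_push hU hn), h2⟩

theorem exists_component_transport [Finite S] (h : Transport F F' j k) (hS : IsPGroup p S)
    {T : Subgroup Ω} {C : FusionSystem T} (hC : C.IsComponentIn F p) :
    ∃ (T' : Subgroup Ω') (C' : FusionSystem T'), C'.IsComponentIn F' p ∧ Transport C C' j k := by
  obtain ⟨T', C', h1, h2⟩ := exists_subnormal_transport hC.1 inferInstance hS h
  have hle := le_of_isSubnormalIn hC.1
  haveI := finite_of_le hle
  exact ⟨T', C', ⟨h1, h2.quasisimple (hS.to_le hle) hC.2⟩, h2⟩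

/-- Conjugates of subnormal subsystems are subnormal. -/
theorem exists_subnormal_conj {T U : Subgroup Ω} {C : FusionSystem T} {F : FusionSystem U}
    (hsub : C.IsSubnormalIn F p) (hfin : Finite U) (hU : IsPGroup p U) {f : Ω → Ω}
    (hf : IsMap F T f) :
    ∃ (T' : Subgroup Ω) (C' : FusionSystem T') (k : Ω → Ω),
      C'.IsSubnormalIn F p ∧ Transport C C' f k := by
  rename_i hp
  revert hp f
  induction hsub with
  | refl F =>
    intro _ f hf
    have hiso : IsIso F _ _ f := hf.isIso_of_card_le (fun x hx => hf.mem hx) le_rfl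
    obtain ⟨g, hg, h1, h2⟩ := hiso.exists_symm
    exact ⟨_, F, g, .refl F _, transport_self hiso hg h1 h2⟩
  | step hsub hn ih =>
    intro _ f hf
    have hinv := hn.1.2.2
    have hle := hinv.2.1.1
    obtain ⟨a, ha, g, hg, hv⟩ := exists_frattini hinv (le_of_isSubnormalIn hsub) hf
    obtain ⟨T', C', k, h1, h2⟩ := ih (finite_of_le hle) (hU.to_le hle) hg
    obtain ⟨T'', C'', h3, h4⟩ := exists_subnormal_transport h1 (finite_of_le hle) (hU.to_le hle)
      (transport_of_invariant hinv ha)
    exact ⟨T'', C'', _, .step h3 hn,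
      (h2.trans h4).congr (fun x hx => (hv x hx).symm) (fun y _ => rfl)⟩

end CfsgLib.Fusion
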