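import Mathlib
import Cfsg.Agent.Lib.Fusion.NormalCentralizerSystem
import Cfsg.Agent.Lib.Fusion.ResidualSeries
import Cfsg.Agent.Lib.Fusion.ComponentTransport
import Cfsg.Agent.Lib.Fusion.AbelianSystem
import Cfsg.Agent.Lib.Fusion.Inner

/-!
Subnormal quasisimple subsystems centralise the normal `p`-subgroups: the maps of a normal
subsystem on `T` extend to `P R` trivially on `R` modulo `R ⊓ T` for a normal subgroup `R`, and
the layer lies in the centraliser system of the largest normal subgroup.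
-/

set_option autoImplicit false

namespace CfsgLib.Fusion.ComponentCentral

open Cfsg Cfsg.FusionSystem NormalCentralizer

universe u

variable {Ω : Type u} [Group Ω] {S T : Subgroup Ω} {F : FusionSystem S} {E : FusionSystem T}
  {p : ℕ} [Fact p.Prime] [Finite S] {R : Subgroup Ω}

/-- The maps of `E` extending to `R` trivially modulo `R ⊓ T`. -/
def ExtMod (E : FusionSystem T) (F : FusionSystem S) (R P : Subgroup Ω) (f : Ω → Ω) : Prop :=
  IsMap E P f ∧ ∃ g, IsMap F (P ⊔ R) g ∧ (∀ x ∈ P, g x = f x) ∧ ∀ r ∈ R, r⁻¹ * g r ∈ R ⊓ T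

omit [Fact p.Prime] [Finite S] in
theorem mem_of_mod {g : Ω → Ω} (h : ∀ r ∈ R, r⁻¹ * g r ∈ R ⊓ T) {r : Ω} (hr : r ∈ R) :
    g r ∈ R := by
  have := R.mul_mem hr (h r hr).1
  rwa [mul_inv_cancel_left] at this

omit [Fact p.Prime] in
theorem isSubPred_extMod (hI : E.IsInvariantIn F) (hR : F.IsNormal R) :
    PPrime.IsSubPred E (ExtMod E F R) where
  isMap h := h.1
  congr h he := by
    obtain ⟨h1, g, hg, hgv, hgR⟩ := h
    exact ⟨h1.congr he, g, hg, fun x hx => (hgv x hx).trans (he x hx), hgR⟩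
  conj := fun {P t} hP ht => by
    have hTS := hI.2.1.1
    refine ⟨isMap_conj hP ht, fun x => t * x * t⁻¹,
      isMap_conj (sup_le (hP.trans hTS) hR.1) (hTS ht), fun x _ => rfl, fun r hr => ⟨?_, ?_⟩⟩
    · exact R.mul_mem (R.inv_mem hr)
        (conjMem_of_stronglyClosed (stronglyClosed_of_isNormal hR) (hTS ht) hr)
    · have h := conjMem_of_stronglyClosed hI.2.1 (S.inv_mem (hR.1 hr)) ht
      have h2 := T.mul_mem h (T.inv_mem ht)
      show r⁻¹ * (t * r * t⁻¹) ∈ T
      convert h2 using 1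
      group
  comp := fun {P Q f f'} h h' hm => by
    obtain ⟨h1, g, hg, hgv, hgR⟩ := h
    obtain ⟨h1', g', hg', hgv', hgR'⟩ := h'
    refine ⟨h1.comp h1' hm, g' ∘ g, hg.comp hg' (mem_of_mem_sup hg le_sup_left le_sup_right
      (fun x hx => Subgroup.mem_sup_left (by rw [hgv x hx]; exact hm x hx))
      fun x hx => Subgroup.mem_sup_right (mem_of_mod hgR hx)), fun x hx => ?_, fun r hr => ?_⟩
    · show g' (g x) = f' (f x)
      rw [hgv x hx, hgv' _ (hm x hx)]
    · have hu : r⁻¹ * g r ∈ R ⊓ T := hgR r hr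
      have hgu : g' (r⁻¹ * g r) ∈ R ⊓ T := isMap_mem_of_stronglyClosed
        (stronglyClosed_inf (stronglyClosed_of_isNormal hR) hI.2.1) hg'
        (Subgroup.mem_sup_right hu.1) hu
      have e : g' (g r) = g' r * g' (r⁻¹ * g r) := by
        conv_lhs => rw [show g r = r * (r⁻¹ * g r) by group]
        exact hg'.map_mul (Subgroup.mem_sup_right hr) (Subgroup.mem_sup_right hu.1)
      show r⁻¹ * g' (g r) ∈ R ⊓ T
      rw [e, ← mul_assoc]
      exact Subgroup.mul_mem _ (hgR' r hr) hgu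
  inv := fun {P Q f r} h hi hr h1 => by
    obtain ⟨-, g, hg, hgv, hgR⟩ := h
    obtain ⟨D, hD⟩ := hg.exists_iso
    obtain ⟨k, hk, hk1, -⟩ := hD.exists_symm
    have hRim := image_eq_of_mem hR.1 hg le_sup_right fun x hx => mem_of_mod hgR hx
    have hle : Q ⊔ R ≤ D := by
      refine sup_le (fun y hy => ?_) fun y hy => ?_
      · obtain ⟨x, hx, rfl⟩ := hi.surj hy
        rw [← hgv x hx]
        exact hD.mem (Subgroup.mem_sup_left hx)
      · obtain ⟨x, hx, rfl⟩ := hRim.ge hy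
        exact hD.mem (Subgroup.mem_sup_right hx)
    refine ⟨hr.isMap, k, hk.isMap.mono hle, fun y hy => ?_, fun y hy => ?_⟩
    · obtain ⟨x, hx, rfl⟩ := hi.surj hy
      rw [h1 x hx, ← hgv x hx, hk1 x (Subgroup.mem_sup_left hx)]
    · obtain ⟨x, hx, rfl⟩ := hRim.ge hy
      rw [hk1 x (Subgroup.mem_sup_right hx)]
      have h2 := Subgroup.inv_mem _ (hgR x hx)
      rwa [mul_inv_rev, inv_inv] at h2

/-- Coprime automorphisms of centric subgroups containing `R ⊓ T` extend. -/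
theorem extMod_coprime (hS : IsPGroup p S) (hF : F.IsSaturated p) (hE : E.IsNormalIn F p)
    (hR : F.IsNormal R) {U : Subgroup Ω} (hUc : E.IsCentric U) (hUn : E.IsFullyNormalized U)
    (hR0 : R ⊓ T ≤ U) {α : MulAut U} (hα : α ∈ E.autGroup U) (hαo : (orderOf α).Coprime p) :
    ExtMod E F R U (autFun α) := by
  have hI := hE.1.2.2
  have hTS := hI.2.1.1
  have hUT := hUc.1
  have hUS : U ≤ S := hUT.trans hTS
  have := finite_of_le hTS
  have := finite_of_le hUS
  have := finite_mulAut U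
  have hsc := stronglyClosed_of_isNormal hR
  set V := U ⊔ centralizerIn S U with hVdef
  obtain ⟨δ, hδ, hδv⟩ := exists_isExt hS hF hE hUc hα hαo
  have hVS : V ≤ S := sup_centralizerIn_le hUS
  obtain ⟨g, hg, hgV, hgR⟩ := (isNormal_iff.1 hR).2 V _ (hδ.isMap hUS)
  have hWS : V ⊔ R ≤ S := sup_le hVS hR.1
  have := finite_of_le hWS
  have := finite_mulAut ↥(V ⊔ R)
  have hgm : ∀ z ∈ V ⊔ R, g z ∈ V ⊔ R := mem_of_mem_sup hg le_sup_left le_sup_right
    (fun z hz => Subgroup.mem_sup_left (by rw [hgV z hz]; exact autFun_mem δ hz))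
    fun z hz => Subgroup.mem_sup_right (hgR.subset ⟨z, hz, rfl⟩)
  obtain ⟨γ₀, hγ₀, hγ₀v⟩ := exists_mem_autGroup (hg.isIso_of_card_le hgm le_rfl)
  have hγ₀v' : ∀ z ∈ V ⊔ R, autFun γ₀ z = g z := fun z hz =>
    (autFun_apply γ₀ hz).trans (hγ₀v ⟨z, hz⟩)
  have hγ₀V : ∀ x ∈ V, autFun γ₀ x = autFun δ x := fun x hx =>
    (hγ₀v' x (Subgroup.mem_sup_left hx)).trans (hgV x hx)
  obtain ⟨m, hm1, hmo⟩ := Residual.exists_pPrime_pow (p := p) γ₀ hδ.coprime
  set γ := γ₀ ^ m with hγdef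
  have hγV : ∀ x ∈ V, autFun γ x = autFun δ x := fun x hx => by
    rw [hγdef, autFun_pow_eq le_sup_left hγ₀V m x hx, Residual.pow_eq_self_of_modEq hm1]
  have hγU : ∀ x ∈ U, autFun γ x = autFun α x := fun x hx =>
    (hγV x (Subgroup.mem_sup_left hx)).trans (hδv x hx)
  have hγR : ∀ k : ℕ, ∀ r ∈ R, autFun (γ₀ ^ k) r ∈ R := by
    intro k
    induction k with
    | zero => intro r hr; rw [pow_zero, autFun_one (Subgroup.mem_sup_right hr)]; exact hr
    | succ k ih =>
      intro r hr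
      rw [pow_succ', autFun_mul _ _ (Subgroup.mem_sup_right hr),
        hγ₀v' _ (Subgroup.mem_sup_right (ih r hr))]
      exact hgR.subset ⟨_, ih r hr, rfl⟩
  have hγ : γ ∈ F.autGroup (V ⊔ R) := Subgroup.pow_mem _ hγ₀ m
  have hγm := ((mem_autGroup_iff hWS γ).1 hγ).isMap
  have hR0n : ∀ s ∈ S, ∀ x ∈ R ⊓ T, s * x * s⁻¹ ∈ R ⊓ T := fun s hs x hx =>
    conjMem_of_stronglyClosed (stronglyClosed_inf hsc hI.2.1) hs hx
  have hrn : ∀ r ∈ R, r ∈ Subgroup.normalizer (U : Set Ω) := fun r hr =>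
    mem_normalizer_of_conj_mem hUS fun u hu => by
      have h1 : r * u * r⁻¹ * u⁻¹ ∈ R ⊓ T := by
        refine ⟨?_, T.mul_mem (conjMem_of_stronglyClosed hI.2.1 (hR.1 hr) (hUT hu))
          (T.inv_mem (hUT hu))⟩
        have h := R.mul_mem hr (conjMem_of_stronglyClosed hsc (hUS hu) (R.inv_mem hr))
        show r * u * r⁻¹ * u⁻¹ ∈ R
        convert h using 1
        group
      have := U.mul_mem (hR0 h1) hu
      rwa [inv_mul_cancel_right] at this
  -- the displacement lies in `T C_S(U)`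
  have key : ∀ r ∈ R, (r * (autFun γ r)⁻¹)⁻¹ * autFun γ (r * (autFun γ r)⁻¹) ∈ R ⊓ T := by
    intro r hr
    have hs : autFun γ r ∈ R := hγR m r hr
    set r' := r * (autFun γ r)⁻¹ with hr'def
    have hr'R : r' ∈ R := R.mul_mem hr (R.inv_mem hs)
    set a := conjAut U (hrn r hr) with hadef
    have haF : IsIso F U U (fun x => r * x * r⁻¹) :=
      (isMap_conj hUS (hR.1 hr)).isIso_of_card_le
        (fun x hx => conj_mem_of_mem_normalizer (hrn r hr) hx) le_rfl
    have ha1 : a * α * a⁻¹ ∈ E.autGroup U :=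
      Residual.mem_autGroup_transport hI hUT haF hα fun x hx => by
        show r * autFun α x * r⁻¹ = autFun (a * α * a⁻¹) (r * x * r⁻¹)
        have e : r * x * r⁻¹ = ((a ⟨x, hx⟩ : U) : Ω) := rfl
        rw [e, autFun_coe, MulAut.mul_apply, MulAut.mul_apply, MulAut.inv_apply_self,
          hadef, conjAut_apply, autFun_apply α hx]
    set b := a * α * a⁻¹ * α⁻¹ with hbdef
    have hb : b ∈ E.autGroup U := Subgroup.mul_mem _ ha1 (Subgroup.inv_mem _ hα)
    have hbv : ∀ x : U, (b x : Ω) = r' * x * r'⁻¹ := by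
      intro x
      obtain ⟨y, rfl⟩ : ∃ y, α y = x := ⟨α⁻¹ x, MulAut.apply_inv_self _ _ _⟩
      obtain ⟨z, rfl⟩ : ∃ z, a z = y := ⟨a⁻¹ y, MulAut.apply_inv_self _ _ _⟩
      rw [hbdef]
      simp only [MulAut.mul_apply, MulAut.inv_apply_self]
      have e1 : ((α (a z) : U) : Ω) = autFun γ r * ((α z : U) : Ω) * (autFun γ r)⁻¹ := by
        rw [← autFun_coe α, ← autFun_coe α, ← hγU _ (SetLike.coe_mem _), ← hγU _ (SetLike.coe_mem _),
          hadef, conjAut_apply, hγm.map_conj (Subgroup.mem_sup_right hr)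
            (Subgroup.mem_sup_left (Subgroup.mem_sup_left z.2))]
      rw [hadef, conjAut_apply, ← hadef, e1, hr'def]
      group
    obtain ⟨-, Sy, hSy⟩ := isFullyAutomized_of_isFullyNormalized (hS.to_le hTS) hE.1.1 hUn
    set Q := (autInducedBy S U).subgroupOf (E.autGroup U) with hQdef
    have hQp : IsPGroup p Q := (isPGroup_autInducedBy hS U).comap_of_injective _
      Subtype.coe_injective
    have hSyQ : (Sy : Subgroup (E.autGroup U)) ≤ Q := by
      rw [hSy]
      exact fun x hx => autInducedBy_mono hTS U hx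
    have hQ := Sy.is_maximal' hQp hSyQ
    have hbT : b ∈ autInducedBy T U := by
      have hbQ : (⟨b, hb⟩ : E.autGroup U) ∈ Q :=
        (mem_autInducedBy_iff S U b).2 ⟨r', hR.1 hr'R, hbv⟩
      rw [hQ, hSy] at hbQ
      exact hbQ
    obtain ⟨t, ht, htv⟩ := (mem_autInducedBy_iff T U b).1 hbT
    set c := t⁻¹ * r' with hcdef
    have hc : c ∈ centralizerIn S U := ⟨S.mul_mem (S.inv_mem (hTS ht)) (hR.1 hr'R),
      mem_centralizer_of_conj_eq fun x hx => by
        have h := (htv ⟨x, hx⟩).symm.trans (hbv ⟨x, hx⟩)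
        calc c * x * c⁻¹ = t⁻¹ * (r' * x * r'⁻¹) * t := by rw [hcdef]; group
          _ = x := by rw [← h]; group⟩
    have hr'W : r' ∈ V ⊔ R := Subgroup.mem_sup_right hr'R
    have hcV : c ∈ V := Subgroup.mem_sup_right hc
    have hcW : c ∈ V ⊔ R := Subgroup.mem_sup_left hcV
    have htW : t ∈ V ⊔ R := by
      have h := Subgroup.mul_mem _ hr'W (Subgroup.inv_mem _ hcW)
      rwa [hcdef, mul_inv_rev, inv_inv, mul_inv_cancel_left] at h
    have hγt : autFun γ t ∈ T := isMap_mem_of_stronglyClosed hI.2.1 hγm htW ht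
    have hu : c⁻¹ * autFun γ c ∈ U := by rw [hγV c hcV]; exact hδ.mod c hc
    refine ⟨R.mul_mem (R.inv_mem hr'R) (hγR m r' hr'R), ?_⟩
    have e : r'⁻¹ * autFun γ r' =
        c⁻¹ * (t⁻¹ * autFun γ t) * c⁻¹⁻¹ * (c⁻¹ * autFun γ c) := by
      conv_lhs => rw [show r' = t * c by rw [hcdef]; group, hγm.map_mul htW hcW]
      group
    rw [e]
    exact T.mul_mem (conjMem_of_stronglyClosed hI.2.1 (S.inv_mem (hc.1))
      (T.mul_mem (T.inv_mem ht) hγt)) (hUT hu)
  refine ⟨((mem_autGroup_iff hUT α).1 hα).isMap, autFun γ,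
    hγm.mono (sup_le (le_sup_left.trans le_sup_left) le_sup_right), hγU, fun r hr => ?_⟩
  set w := r⁻¹ * autFun γ r with hwdef
  have hw : w ∈ R := R.mul_mem (R.inv_mem hr) (hγR m r hr)
  have hrW : r ∈ V ⊔ R := Subgroup.mem_sup_right hr
  have hwd : w⁻¹ * autFun γ w ∈ R ⊓ T := by
    have h := key r⁻¹ (R.inv_mem hr)
    rwa [hγm.map_inv hrW, inv_inv] at h
  have hwpow : ∀ k : ℕ, (w ^ k)⁻¹ * (autFun γ w) ^ k ∈ R ⊓ T := by
    intro k
    induction k with
    | zero => simp [Subgroup.one_mem]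
    | succ k ih =>
      have h := Subgroup.mul_mem _ (hR0n w⁻¹ (S.inv_mem (hR.1 hw)) _ ih) hwd
      convert h using 1
      rw [pow_succ, pow_succ, mul_inv_rev, inv_inv]
      group
  have hR0sc := stronglyClosed_inf hsc hI.2.1
  have hiter : ∀ k : ℕ, (r * w ^ k)⁻¹ * autFun (γ ^ k) r ∈ R ⊓ T := by
    intro k
    induction k with
    | zero => simp [autFun_one hrW, Subgroup.one_mem]
    | succ k ih =>
      have hwk : w ^ k ∈ V ⊔ R := Subgroup.mem_sup_right (R.pow_mem hw k)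
      have huW : (r * w ^ k)⁻¹ * autFun (γ ^ k) r ∈ V ⊔ R := Subgroup.mem_sup_right ih.1
      have hpow : autFun γ (w ^ k) = (autFun γ w) ^ k := by
        have := hγm.map_zpow (Subgroup.mem_sup_right hw : w ∈ V ⊔ R) (k : ℤ)
        rwa [zpow_natCast, zpow_natCast] at this
      have e : autFun (γ ^ (k + 1)) r = r * w * (autFun γ w) ^ k *
          autFun γ ((r * w ^ k)⁻¹ * autFun (γ ^ k) r) := by
        rw [show r * w = autFun γ r by rw [hwdef]; group, ← hpow, ← hγm.map_mul hrW hwk,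
          ← hγm.map_mul ((V ⊔ R).mul_mem hrW hwk) huW, pow_succ', autFun_mul _ _ hrW]
        congr 1
        group
      have h := Subgroup.mul_mem _ (hwpow k)
        (isMap_mem_of_stronglyClosed hR0sc hγm huW ih)
      rw [e]
      convert h using 1
      rw [pow_succ', mul_inv_rev, mul_inv_rev]
      group
  have hn := hiter (orderOf γ)
  rw [pow_orderOf_eq_one, autFun_one hrW,
    show (r * w ^ orderOf γ)⁻¹ * r = (w ^ orderOf γ)⁻¹ by group, inv_mem_iff] at hn
  obtain ⟨j, hj⟩ := ModelNormal.exists_pow_eq_one hS (hR.1 hw)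
  exact ModelNormal.mem_of_pow_mem_coprime (hmo.pow_right j) hn
    (hj ▸ Subgroup.one_mem _)

/-- Isomorphisms of `F` carry centric subgroups of `E` to centric subgroups. -/
theorem isCentric_of_iso (hI : E.IsInvariantIn F) {U U' : Subgroup Ω} {f : Ω → Ω}
    (hU : E.IsCentric U) (hf : IsIso F U U' f) : E.IsCentric U' := by
  obtain ⟨a, ha, f₀, hf₀, hv⟩ := exists_frattini hI hU.1 hf.isMap
  obtain ⟨U₀, hU₀⟩ := hf₀.exists_iso
  have hU₀c : E.IsCentric U₀ :=
    ⟨hU₀.le_right, fun Q hQ => hU.2 Q (isConj_trans hU₀.isConj hQ)⟩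
  have e : imageAut a U₀ = U' := SetLike.coe_injective <| by
    rw [← coe_imageAut a hU₀.le_right, ← hU₀.image_eq, Set.image_image, ← hf.image_eq]
    exact Set.image_congr fun x hx => (hv x hx).symm
  exact e ▸ Residual.isCentric_imageAut hI hU₀c ha

/-- Centric subgroups containing `R ⊓ T`. -/
theorem extMod_big (hS : IsPGroup p S) (hF : F.IsSaturated p) (hE : E.IsNormalIn F p)
    (hR : F.IsNormal R) {U : Subgroup Ω} (hUc : E.IsCentric U) (hR0 : R ⊓ T ≤ U) {α : MulAut U}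
    (hα : α ∈ E.autGroup U) : ExtMod E F R U (autFun α) := by
  have hI := hE.1.2.2
  have hTS := hI.2.1.1
  have hUT := hUc.1
  have hUS := hUT.trans hTS
  have := finite_of_le hTS
  have hsc := stronglyClosed_of_isNormal hR
  obtain ⟨U', hc, hU'⟩ := exists_isFullyNormalized (F := F) hUS
  obtain ⟨f, hf⟩ := isConj_iff.1 hc
  have hU'c := isCentric_of_iso hI hUc hf
  have hU'T := hU'c.1
  have := finite_of_le (hU'T.trans hTS)
  obtain ⟨ĝ, hĝ, hĝU, hĝR⟩ := (isNormal_iff.1 hR).2 U f hf.isMap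
  have hĝ0 : ∀ z ∈ R ⊓ T, ĝ z ∈ R ⊓ T := fun z hz => isMap_mem_of_stronglyClosed
    (stronglyClosed_inf hsc hI.2.1) hĝ (Subgroup.mem_sup_right hz.1) hz
  have hR0' : R ⊓ T ≤ U' := fun z hz => by
    obtain ⟨x, hx, rfl⟩ := (image_eq_of_mem (inf_le_left.trans hR.1) hĝ
      (inf_le_left.trans le_sup_right) hĝ0).ge hz
    rw [hĝU x (hR0 hx)]
    exact hf.mem (hR0 hx)
  have := finite_mulAut U'
  have hU'n := isFullyNormalized_of_super hS hF hI hU' hU'T
  obtain ⟨-, Sy, hSy⟩ := isFullyAutomized_of_isFullyNormalized (hS.to_le hTS) hE.1.1 hU'n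
  have hM := isSubPred_extMod hI hR
  have hall : E.autGroup U' ≤ (PPrime.ofPred E _ hM).autGroup U' := by
    refine ModelNormal.le_of_sylow_coprime Sy (fun x hx => ?_) fun x hx hxo => ?_
    · rw [hSy] at hx
      exact autInducedBy_le_autGroup hU'T hx
    · exact mem_autGroup_of_isMap ((PPrime.isMap_ofPred hM).2
        (extMod_coprime hS hF hE hR hU'c hU'n hR0' hx hxo)) x fun y => (autFun_coe x y).symm
  set β := MulAut.congr hf.equiv α with hβdef
  have hβv : ∀ x ∈ U, f (autFun α x) = autFun β (f x) := fun x hx => by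
    have h := hf.congr_apply α ⟨x, hx⟩
    rw [autFun_apply α hx, h.symm, ← hβdef, ← autFun_coe β, hf.equiv_apply]
  have hβ : β ∈ E.autGroup U' := Residual.mem_autGroup_transport hI hUT hf hα hβv
  obtain ⟨-, gβ, hgβ, hgβU, hgβR⟩ := (PPrime.isMap_ofPred hM).1
    ((mem_autGroup_iff hU'T β).1 (hall hβ)).isMap
  obtain ⟨D, hD⟩ := hĝ.exists_iso
  obtain ⟨k, hk, hk1, -⟩ := hD.exists_symm
  have hm1 : ∀ z ∈ U ⊔ R, ĝ z ∈ U' ⊔ R := mem_of_mem_sup hĝ le_sup_left le_sup_right
    (fun z hz => Subgroup.mem_sup_left (by rw [hĝU z hz]; exact hf.mem hz))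
    fun z hz => Subgroup.mem_sup_right (hĝR.subset ⟨z, hz, rfl⟩)
  have hm2 : ∀ z ∈ U' ⊔ R, gβ z ∈ D := mem_of_mem_sup hgβ le_sup_left le_sup_right
    (fun z hz => by
      obtain ⟨x, hx, e⟩ := hf.surj (autFun_mem β hz)
      rw [hgβU z hz, ← e, ← hĝU x hx]
      exact hD.mem (Subgroup.mem_sup_left hx))
    fun z hz => by
      obtain ⟨x, hx, e⟩ := hĝR.ge (mem_of_mod hgβR hz)
      rw [← e]
      exact hD.mem (Subgroup.mem_sup_right hx)
  refine ⟨((mem_autGroup_iff hUT α).1 hα).isMap, k ∘ gβ ∘ ĝ,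
    (hĝ.comp hgβ hm1).comp hk.isMap fun z hz => hm2 _ (hm1 z hz), fun x hx => ?_, fun r hr => ?_⟩
  · show k (gβ (ĝ x)) = autFun α x
    rw [hĝU x hx, hgβU _ (hf.mem hx), ← hβv x hx, ← hĝU _ (autFun_mem α hx),
      hk1 _ (Subgroup.mem_sup_left (autFun_mem α hx))]
  · show r⁻¹ * k (gβ (ĝ r)) ∈ R ⊓ T
    have hu := hgβR _ (hĝR.subset ⟨r, hr, rfl⟩)
    obtain ⟨z, hz, hze⟩ := (image_eq_of_mem (inf_le_left.trans hR.1) hĝ
      (inf_le_left.trans le_sup_right) hĝ0).ge hu
    rw [show gβ (ĝ r) = ĝ r * ĝ z by rw [hze]; group,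
      ← hĝ.map_mul (Subgroup.mem_sup_right hr) (Subgroup.mem_sup_right hz.1),
      hk1 _ (Subgroup.mem_sup_right (R.mul_mem hr hz.1)), inv_mul_cancel_left]
    exact hz

/-- Maps of a normal subsystem extend to a normal subgroup trivially modulo `T`. -/
theorem exists_extend_mod (hS : IsPGroup p S) (hF : F.IsSaturated p) (hE : E.IsNormalIn F p)
    (hR : F.IsNormal R) {P : Subgroup Ω} {f : Ω → Ω} (hf : IsMap E P f) :
    ∃ g, IsMap F (P ⊔ R) g ∧ (∀ x ∈ P, g x = f x) ∧ ∀ r ∈ R, r⁻¹ * g r ∈ R ⊓ T := by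
  have hI := hE.1.2.2
  have hTS := hI.2.1.1
  have := finite_of_le hTS
  have hM := isSubPred_extMod hI hR
  have hR0n : E.IsNormal (R ⊓ T) := isNormal_inf_subsystem hS hE.1.1 hI.1 hI.2.1 hR
  suffices h : ∀ (P : Subgroup Ω) (f : Ω → Ω), IsMap E P f →
      IsMap (PPrime.ofPred E _ hM) P f from ((PPrime.isMap_ofPred hM).1 (h P f hf)).2
  refine le_of_autGroup_le (hS.to_le hTS) hE.1.1 fun U hU α hα => ?_
  have hUc : E.IsCentric U := by
    rcases hU with rfl | hU
    · exact ⟨le_rfl, fun Q hQ => by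
        obtain ⟨f, hf⟩ := isConj_iff.1 hQ
        have hQT : Q = U := Subgroup.eq_of_le_of_card_ge hf.le_right hf.card_eq.ge
        exact hQT.symm ▸ inf_le_left⟩
    · exact hU.1
  have hUT := hUc.1
  obtain ⟨g, hg, hgU, hgR⟩ := (isNormal_iff.1 hR0n).2 U _ ((mem_autGroup_iff hUT α).1 hα).isMap
  have hU₁T : U ⊔ R ⊓ T ≤ T := sup_le hUT inf_le_right
  have := finite_of_le hU₁T
  have hgm : ∀ z ∈ U ⊔ R ⊓ T, g z ∈ U ⊔ R ⊓ T := mem_of_mem_sup hg le_sup_left le_sup_right
    (fun z hz => Subgroup.mem_sup_left (by rw [hgU z hz]; exact autFun_mem α hz))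
    fun z hz => Subgroup.mem_sup_right (hgR.subset ⟨z, hz, rfl⟩)
  obtain ⟨α₁, hα₁, hα₁v⟩ := exists_mem_autGroup (hg.isIso_of_card_le hgm le_rfl)
  obtain ⟨-, G, hG, hGU, hGR⟩ := extMod_big hS hF hE hR
    (isCentric_of_le hUc le_sup_left hU₁T) le_sup_right hα₁
  refine mem_autGroup_of_isMap ((PPrime.isMap_ofPred hM).2
    ⟨((mem_autGroup_iff hUT α).1 hα).isMap, G, hG.mono (sup_le_sup le_sup_left le_rfl),
      fun x hx => ?_, hGR⟩) α fun x => (autFun_coe α x).symm
  rw [hGU x (Subgroup.mem_sup_left hx), autFun_apply α₁ (Subgroup.mem_sup_left hx), hα₁v]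
  exact hgU x hx

/-! ### Subsystems equal to their residual -/

/-- The maps of `C` extending to `R` by the identity. -/
def Fixes {X : Subgroup Ω} (C : FusionSystem X) (F : FusionSystem S) (R P : Subgroup Ω)
    (f : Ω → Ω) : Prop :=
  IsMap C P f ∧ ∃ g, IsMap F (P ⊔ R) g ∧ (∀ x ∈ P, g x = f x) ∧ ∀ r ∈ R, g r = r

theorem fixes_of_sub (hS : IsPGroup p S) (hF : F.IsSaturated p) {U X : Subgroup Ω}
    {D : FusionSystem U} (hD : D.IsNormalIn F p) {C : FusionSystem X} (hC : C.IsSaturated p)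
    (hCD : C.IsSubsystemOf D) (hXU : X ≤ U) (hhyp : C.hyperfocalSubgroup p = X)
    (hR : F.IsNormal R)
    (hfix : ∀ (P : Subgroup Ω) (f : Ω → Ω), IsMap C P f →
      ∃ g, IsMap D (P ⊔ R ⊓ U) g ∧ (∀ x ∈ P, g x = f x) ∧ ∀ r ∈ R ⊓ U, g r = r) :
    X ≤ centralizerIn S R ∧ ∀ (P : Subgroup Ω) (f : Ω → Ω), IsMap C P f → Fixes C F R P f := by
  have hU := hD.1.2.2.2.1
  have hXS : X ≤ S := hXU.trans hU.1
  have := finite_of_le hXS
  have hsc := stronglyClosed_of_isNormal hR
  -- automorphisms of order prime to `p`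
  have hcop : ∀ (P : Subgroup Ω) (α : MulAut P), P ≤ X → α ∈ C.autGroup P →
      (orderOf α).Coprime p → Fixes C F R P (autFun α) ∧
        ∀ x ∈ P, ∀ r ∈ R, x * r * x⁻¹ = autFun α x * r * (autFun α x)⁻¹ := by
    intro P α hPX hα hαo
    have hαm := ((mem_autGroup_iff hPX α).1 hα).isMap
    obtain ⟨g₁, hg₁, hg₁P, hg₁R⟩ := hfix P _ hαm
    obtain ⟨g, hg, hgP, hgR⟩ := exists_extend_mod hS hF hD hR hg₁
    have hWS : P ⊔ R ≤ S := sup_le (hPX.trans hXS) hR.1
    have := finite_of_le hWS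
    have := finite_mulAut ↥(P ⊔ R)
    have hg' : IsMap F (P ⊔ R) g := hg.mono (sup_le_sup le_sup_left le_rfl)
    have hgP' : ∀ x ∈ P, g x = autFun α x := fun x hx =>
      (hgP x (Subgroup.mem_sup_left hx)).trans (hg₁P x hx)
    have hgm : ∀ z ∈ P ⊔ R, g z ∈ P ⊔ R := mem_of_mem_sup hg' le_sup_left le_sup_right
      (fun z hz => Subgroup.mem_sup_left (by rw [hgP' z hz]; exact autFun_mem α hz))
      fun z hz => Subgroup.mem_sup_right (mem_of_mod hgR hz)
    obtain ⟨γ, hγ, hγv⟩ := exists_mem_autGroup (hg'.isIso_of_card_le hgm le_rfl)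
    have hγv' : ∀ z ∈ P ⊔ R, autFun γ z = g z := fun z hz =>
      (autFun_apply γ hz).trans (hγv ⟨z, hz⟩)
    obtain ⟨m, hm1, hmo⟩ := Residual.exists_pPrime_pow (p := p) γ hαo
    have hP : ∀ x ∈ P, autFun (γ ^ m) x = autFun α x := fun x hx => by
      rw [autFun_pow_eq le_sup_left (fun y hy => (hγv' y (Subgroup.mem_sup_left hy)).trans
        (hgP' y hy)) m x hx, Residual.pow_eq_self_of_modEq hm1]
    have h0 : ∀ (k : ℕ), ∀ z ∈ R ⊓ U, autFun (γ ^ k) z = z := by
      intro k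
      induction k with
      | zero => intro z hz; rw [pow_zero, autFun_one (Subgroup.mem_sup_right hz.1)]
      | succ k ih =>
        intro z hz
        rw [pow_succ', autFun_mul _ _ (Subgroup.mem_sup_right hz.1), ih z hz,
          hγv' z (Subgroup.mem_sup_right hz.1), hgP z (Subgroup.mem_sup_right hz), hg₁R z hz]
    have hmod : ∀ (k : ℕ), ∀ r ∈ R, r⁻¹ * autFun (γ ^ k) r ∈ R ⊓ U := by
      intro k
      induction k with
      | zero =>
        intro r hr
        rw [pow_zero, autFun_one (Subgroup.mem_sup_right hr), inv_mul_cancel]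
        exact Subgroup.one_mem _
      | succ k ih =>
        intro r hr
        have hd := ih r hr
        have hk := mem_of_mod (g := autFun (γ ^ k)) ih hr
        rw [pow_succ', autFun_mul _ _ (Subgroup.mem_sup_right hr),
          hγv' _ (Subgroup.mem_sup_right hk),
          show autFun (γ ^ k) r = r * (r⁻¹ * autFun (γ ^ k) r) by group,
          hg.map_mul (Subgroup.mem_sup_right hr) (Subgroup.mem_sup_right hd.1),
          hgP _ (Subgroup.mem_sup_right hd), hg₁R _ hd, ← mul_assoc]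
        exact Subgroup.mul_mem _ (hgR r hr) hd
    have hid : ∀ r ∈ R, autFun (γ ^ m) r = r := by
      intro r hr
      obtain ⟨j, hj⟩ := (hS.to_le hWS).exists_card_eq
      have hrW : r ∈ P ⊔ R := Subgroup.mem_sup_right hr
      rw [autFun_apply _ hrW]
      refine congrArg Subtype.val (Residual.eq_self_of_fixed_diff (β := γ ^ m)
        (x := ⟨r, hrW⟩) hmo (j := j) ?_ (hj ▸ pow_card_eq_one'))
      have hd := hmod m r hr
      refine Subtype.ext ?_
      rw [autFun_apply _ hrW] at hd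
      rw [← autFun_coe (γ ^ m)]
      exact h0 m _ hd
    have hmm := ((mem_autGroup_iff hWS (γ ^ m)).1 (Subgroup.pow_mem _ hγ m)).isMap
    refine ⟨⟨hαm, _, hmm, hP, hid⟩, fun x hx r hr => ?_⟩
    have hxr : x * r * x⁻¹ ∈ R := conjMem_of_stronglyClosed hsc (hXS (hPX hx)) hr
    rw [← hP x hx]
    conv_lhs => rw [← hid _ hxr]
    rw [hmm.map_conj (Subgroup.mem_sup_left hx) (Subgroup.mem_sup_right hr), hid r hr]
  have hXC : X ≤ centralizerIn S R := by
    have h : C.hyperfocalSubgroup p ≤ centralizerIn S R := by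
      refine hyperfocal_le_of_coprime fun P α hPX hα hαo x =>
        ⟨hXS (X.mul_mem (X.inv_mem (hPX x.2)) (hPX (SetLike.coe_mem _))),
          mem_centralizer_of_conj_eq fun r hr => ?_⟩
      have h := (hcop P α hPX hα hαo).2 x x.2 r hr
      rw [autFun_coe] at h
      calc (x : Ω)⁻¹ * (α x : P) * r * ((x : Ω)⁻¹ * (α x : P))⁻¹
          = (x : Ω)⁻¹ * (((α x : P) : Ω) * r * ((α x : P) : Ω)⁻¹) * x := by group
        _ = r := by rw [← h]; group
    rwa [hhyp] at h
  refine ⟨hXC, ?_⟩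
  have hM : PPrime.IsSubPred C (Fixes C F R) :=
    { isMap := fun h => h.1
      congr := fun h he => by
        obtain ⟨h1, g, hg, hgv, hgR⟩ := h
        exact ⟨h1.congr he, g, hg, fun x hx => (hgv x hx).trans (he x hx), hgR⟩
      conj := fun {P t} hP ht => ⟨isMap_conj hP ht, fun x => t * x * t⁻¹,
        isMap_conj (sup_le (hP.trans hXS) hR.1) (hXS ht), fun x _ => rfl,
        fun r hr => conj_eq_self_of_mem_centralizer (hXC ht).2 hr⟩
      comp := fun {P Q f f'} h h' hm => by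
        obtain ⟨h1, g, hg, hgv, hgR⟩ := h
        obtain ⟨h1', g', hg', hgv', hgR'⟩ := h'
        refine ⟨h1.comp h1' hm, g' ∘ g, hg.comp hg' (mem_of_mem_sup hg le_sup_left le_sup_right
          (fun x hx => Subgroup.mem_sup_left (by rw [hgv x hx]; exact hm x hx))
          fun x hx => Subgroup.mem_sup_right (by rw [hgR x hx]; exact hx)),
          fun x hx => ?_, fun r hr => ?_⟩
        · show g' (g x) = f' (f x)
          rw [hgv x hx, hgv' _ (hm x hx)]
        · show g' (g r) = r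
          rw [hgR r hr, hgR' r hr]
      inv := fun {P Q f r} h hi hr h1 => by
        obtain ⟨-, g, hg, hgv, hgR⟩ := h
        obtain ⟨W, hW⟩ := hg.exists_iso
        obtain ⟨k, hk, hk1, -⟩ := hW.exists_symm
        refine ⟨hr.isMap, k, hk.isMap.mono (sup_le (fun y hy => ?_) fun y hy => ?_),
          fun y hy => ?_, fun y hy => ?_⟩
        · obtain ⟨x, hx, rfl⟩ := hi.surj hy
          rw [← hgv x hx]
          exact hW.mem (Subgroup.mem_sup_left hx)
        · rw [← hgR y hy]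
          exact hW.mem (Subgroup.mem_sup_right hy)
        · obtain ⟨x, hx, rfl⟩ := hi.surj hy
          rw [h1 x hx, ← hgv x hx, hk1 x (Subgroup.mem_sup_left hx)]
        · conv_lhs => rw [← hgR y hy]
          exact hk1 y (Subgroup.mem_sup_right hy) }
  suffices h : ∀ (P : Subgroup Ω) (f : Ω → Ω), IsMap C P f →
      IsMap (PPrime.ofPred C _ hM) P f from
    fun P f hf => (PPrime.isMap_ofPred hM).1 (h P f hf)
  refine le_of_autGroup_le (hS.to_le hXS) hC fun Q hQ => ?_
  have hQn : C.IsFullyNormalized Q := by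
    rcases hQ with rfl | hess
    · refine ⟨le_rfl, fun W hW => ?_⟩
      obtain ⟨g, hg⟩ := isConj_iff.1 hW
      rw [Subgroup.eq_of_le_of_card_ge hg.le_right hg.card_eq.ge]
    · exact hess.2.1
  have := finite_of_le hQn.1
  have := finite_mulAut Q
  obtain ⟨-, Sy, hSy⟩ := isFullyAutomized_of_isFullyNormalized (hS.to_le hXS) hC hQn
  refine ModelNormal.le_of_sylow_coprime Sy (fun x hx => ?_) fun x hx hxo => ?_
  · rw [hSy] at hx
    exact autInducedBy_le_autGroup hQn.1 hx
  · exact mem_autGroup_of_isMap ((PPrime.isMap_ofPred hM).2 (hcop Q x hQn.1 hx hxo).1) x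
      fun y => (autFun_coe x y).symm

/-! ### Quasisimple systems -/

/-- Images of normal subgroups in factor systems are normal. -/
theorem isNormal_imageAlong {Ω' : Type*} [Group Ω'] {S' : Subgroup Ω'} {θ : S →* Ω'}
    {E' : FusionSystem S'} {Z : Subgroup Ω} (hE : F.IsFactorSystem Z θ E')
    (hZ : F.StronglyClosed Z) (hR : F.IsNormal R) : E'.IsNormal (imageAlong θ R) := by
  have hRS' : imageAlong θ R ≤ S' := by
    rintro _ ⟨s, -, rfl⟩
    exact hE.2.2.1.le ⟨s, rfl⟩
  refine isNormal_iff.2 ⟨hRS', fun P' f' hf' => ?_⟩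
  obtain ⟨hP', f, hf, hrel⟩ := (isMap_factor_iff hE).1 hf'
  obtain ⟨g, hg, hgv, hgR⟩ := (isNormal_iff.1 hR).2 _ f hf
  have hXS : preimageAlong θ P' ⊔ R ≤ S := hg.le
  have him : P' ⊔ imageAlong θ R ≤ imageAlong θ (preimageAlong θ P' ⊔ R) := by
    refine sup_le (fun y hy => ?_) fun y hy => ?_
    · obtain ⟨x, hx, rfl⟩ := exists_mem_preimageAlong (hP'.trans hE.2.2.1.ge) hy
      exact mem_imageAlong hXS (Subgroup.mem_sup_left hx)
    · obtain ⟨x, hx, rfl⟩ := (mem_imageAlong_iff hR.1).1 hy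
      exact mem_imageAlong hXS (Subgroup.mem_sup_right hx)
  have hle : preimageAlong θ (P' ⊔ imageAlong θ R) ≤ preimageAlong θ P' ⊔ R :=
    (preimageAlong_mono θ him).trans (by
      rw [preimageAlong_imageAlong hE hXS]
      exact sup_le le_rfl ((le_preimageAlong hE P').trans le_sup_left))
  have hgZ : ∀ x ∈ Z, g x ∈ Z := fun x hx => isMap_mem_of_stronglyClosed hZ hg
    (Subgroup.mem_sup_left (le_preimageAlong hE P' hx)) hx
  obtain ⟨g', hg', hg'rel⟩ := exists_factor_map hE (sup_le hP' hRS') (hg.mono hle) hgZ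
  refine ⟨g', hg', fun y hy => ?_, ?_⟩
  · obtain ⟨x, hx, rfl⟩ := exists_mem_preimageAlong (hP'.trans hE.2.2.1.ge) hy
    rw [hg'rel x (preimageAlong_mono θ le_sup_left hx), hgv x hx, hrel x hx]
  · have hmem : ∀ x ∈ R, x ∈ preimageAlong θ (P' ⊔ imageAlong θ R) := fun x hx =>
      (mem_preimageAlong θ _).2 ⟨hR.1 hx, Subgroup.mem_sup_right (mem_imageAlong hR.1 hx)⟩
    ext y
    constructor
    · rintro ⟨_, hz, rfl⟩
      obtain ⟨x, hx, rfl⟩ := (mem_imageAlong_iff hR.1).1 hz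
      rw [hg'rel x (hmem x hx)]
      exact mem_imageAlong hR.1 (hgR.subset ⟨x, hx, rfl⟩)
    · intro hy
      obtain ⟨w, hw, rfl⟩ := (mem_imageAlong_iff hR.1).1 hy
      obtain ⟨x, hx, rfl⟩ := hgR.ge hw
      exact ⟨_, mem_imageAlong hR.1 hx, hg'rel x (hmem x hx)⟩

/-- A normal subgroup of a quasisimple system is central. -/
theorem le_center_of_quasisimple (hS : IsPGroup p S) (hq : F.Quasisimple p)
    (hR : F.IsNormal R) : R ≤ F.center := by
  obtain ⟨hF, hyp, hsimple⟩ := hq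
  have hc := stronglyClosed_of_isCentral (isCentral_center F)
  obtain ⟨E, hE⟩ := exists_factorSystem (θ := QuotientGroup.mk' (F.center.subgroupOf S))
    (S' := (⊤ : Subgroup (S ⧸ F.center.subgroupOf S))) hc
    (fun s => by rw [QuotientGroup.mk'_apply, QuotientGroup.eq_one_iff]; rfl)
    (MonoidHom.range_eq_top.2 (QuotientGroup.mk'_surjective _))
  obtain ⟨hEs, hne, hmax⟩ := hsimple E hE
  have hRn := isNormal_imageAlong hE hc hR
  set Rb := imageAlong (QuotientGroup.mk' (F.center.subgroupOf S)) R with hRb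
  intro r hr
  have hrb : homExt (QuotientGroup.mk' (F.center.subgroupOf S)) r ∈ Rb := mem_imageAlong hR.1 hr
  rcases eq_or_ne Rb ⊥ with h | h
  · rw [h, Subgroup.mem_bot] at hrb
    exact (mem_of_homExt_eq_one hE (hR.1 hr)).1 hrb
  exfalso
  have hT : IsPGroup p (⊤ : Subgroup (S ⧸ F.center.subgroupOf S)) :=
    (hS.to_quotient _).to_subgroup _
  have : Nontrivial Rb := (Subgroup.nontrivial_iff_ne_bot Rb).2 h
  have hZne := ((hS.to_quotient _).to_subgroup Rb).center_nontrivial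
  set A := (Subgroup.center Rb).map Rb.subtype with hAdef
  have hAn : E.IsNormal A := isNormal_of_characteristic E hRn (Subgroup.map_subtype_le _) (by
    rw [hAdef, show ((Subgroup.center Rb).map Rb.subtype).subgroupOf Rb = Subgroup.center Rb from
      Subgroup.comap_map_eq_self_of_injective (Subgroup.subtype_injective _) _]
    infer_instance)
  have hcomm : ∀ x ∈ A, ∀ y ∈ A, x * y = y * x := by
    rintro _ ⟨a, ha, rfl⟩ _ ⟨b, -, rfl⟩
    exact congrArg Subtype.val (Subgroup.mem_center_iff.1 ha b).symm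
  rcases hmax A _ (isNormalIn_inner_of_abelian hT hEs hAn hcomm) with h0 | ⟨hA, heq⟩
  · obtain ⟨a, ha⟩ := exists_ne (1 : Subgroup.center Rb)
    have hmem : (((a : Rb)) : S ⧸ F.center.subgroupOf S) ∈ A := ⟨a, a.2, rfl⟩
    rw [h0, Subgroup.mem_bot] at hmem
    exact ha (Subtype.ext (Subtype.ext hmem))
  have hbot : E.hyperfocalSubgroup p ≤ ⊥ :=
    hyperfocal_le_of_coprime fun P α hP hα _ x => by
      obtain ⟨φ, hφ, hv⟩ := ((mem_autGroup_iff hP α).1 hα).isMap
      rw [← heq P] at hφ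
      obtain ⟨-, g, hg, hg'⟩ := hφ
      have h1 := (hv x).symm.trans (hg' x)
      rw [autFun_coe, hcomm g hg x (hA ▸ hP x.2), mul_inv_cancel_right] at h1
      rw [Subgroup.mem_bot, h1, inv_mul_cancel]
  rw [hyperfocal_factor hS hF hc hE, hyp, Subgroup.subgroupOf_self, ← MonoidHom.range_eq_map,
    hE.2.2.1] at hbot
  exact hne (le_bot_iff.1 hbot)

omit [Finite S] in
/-- Maps of subnormal quasisimple subsystems extend fixing the normal subgroups. -/
theorem fixes_of_subnormal {X U : Subgroup Ω} {C : FusionSystem X} {G : FusionSystem U}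
    (h : C.IsSubnormalIn G p) : Finite U → IsPGroup p U → C.Quasisimple p →
    ∀ R : Subgroup Ω, G.IsNormal R → C.IsSubsystemOf G ∧ X ≤ centralizerIn U R ∧
      ∀ (P : Subgroup Ω) (f : Ω → Ω), IsMap C P f → Fixes C G R P f := by
  rename_i hp
  revert hp
  induction h with
  | refl G p =>
    intro _ _ hU hq R hR
    have hRc := le_center_of_quasisimple hU hq hR
    refine ⟨fun P => subset_rfl, fun x hx => ⟨hx, Subgroup.mem_centralizer_iff.2 fun r hr =>
      (Subgroup.mem_centralizer_iff.1 (G.center_le_centralizer (hRc hr)) x hx).symm⟩,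
      fun P f hf => ?_⟩
    obtain ⟨g, hg, hgv, hgZ⟩ := (isCentral_iff.1 (isCentral_center G)).2 P f hf
    exact ⟨hf, g, hg.mono (sup_le_sup le_rfl hRc), hgv, fun r hr => hgZ r (hRc hr)⟩
  | step hsub hn ih =>
    intro _ hfin hV hq R hR
    have hI := hn.1.2.2
    have hle := hI.2.1.1
    have hR' := isNormal_inf_subsystem hV hn.1.1 hI.1 hI.2.1 hR
    obtain ⟨hCD, -, hfix⟩ := ih (finite_of_le hle) (hV.to_le hle) hq _ hR'
    obtain ⟨hXC, hall⟩ := fixes_of_sub hV hn.1.2.1 hn hq.1 hCD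
      (le_of_isSubnormalIn hsub) hq.2.1 hR fun P f hf => (hfix P f hf).2
    exact ⟨fun P φ hφ => hI.1 P (hCD P hφ), hXC, hall⟩

/-! ### The centraliser of a normal subgroup -/

theorem isNormalIn_inner (hS : IsPGroup p S) (hF : F.IsSaturated p) (hR : F.IsNormal R) :
    (innerFusionSystem R).IsNormalIn F p := by
  refine ⟨isWeaklyNormal_inner_of_isNormal hS hF hR, fun α hα => ?_⟩
  rw [autGroup_inner le_rfl, mem_autInducedBy_iff] at hα
  obtain ⟨g, hg, hv⟩ := hα
  have hVS : R ⊔ centralizerIn S R ≤ S := sup_le hR.1 inf_le_left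
  have hgn : g ∈ Subgroup.normalizer ((R ⊔ centralizerIn S R : Subgroup Ω) : Set Ω) :=
    Subgroup.le_normalizer (Subgroup.mem_sup_left hg)
  refine ⟨conjAut _ hgn, autInducedBy_le_autGroup hVS (conjAut_mem_autInducedBy hgn (hR.1 hg)),
    fun x => ?_, fun c hc => ?_⟩
  · rw [conjAut_apply, hv]
    rfl
  · have e : g * (c : Ω) * g⁻¹ = c := by
      rw [Subgroup.mem_centralizer_iff.1 hc.2 g hg, mul_inv_cancel_right]
    rw [conjAut_apply, e, inv_mul_cancel]
    exact Subgroup.one_mem _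

/-- The centraliser of the inner system on a normal subgroup is the whole centraliser. -/
theorem centE_inner (hS : IsPGroup p S) (hR : F.IsNormal R) :
    centE (innerFusionSystem R) F p hR.1 = centralizerIn S R := by
  refine le_antisymm (centE_le _) fun c hc => ⟨hc, fun U δ hU hδ => ?_⟩
  have hUS := hU.1.trans hR.1
  obtain ⟨α, hα, hαv⟩ := hδ.exists_restrict
  rw [autGroup_inner hU.1] at hα
  have hp := isPGroup_autInducedBy (hS.to_le hR.1) U
  have hα1 : α = 1 := by
    obtain ⟨k, hk⟩ := hp ⟨α, hα⟩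
    exact eq_one_of_coprime_pow ((coprime_orderOf_restrict le_sup_left hαv hδ.coprime).pow_right k)
      (pow_orderOf_eq_one α) (congrArg Subtype.val hk)
  have hcU : c ∈ centralizerIn S U := mem_centralizerIn_of_le hU.1 hc
  have hcV : c ∈ U ⊔ centralizerIn S U := Subgroup.mem_sup_right hcU
  have hVS := sup_centralizerIn_le (S := S) hUS
  have := finite_of_le hVS
  obtain ⟨j, hj⟩ := (hS.to_le hVS).exists_card_eq
  rw [autFun_apply δ hcV]
  refine congrArg Subtype.val (Residual.eq_self_of_fixed_diff (β := δ) (x := ⟨c, hcV⟩)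
    hδ.coprime (j := j) ?_ (hj ▸ pow_card_eq_one'))
  have hd := hδ.mod c hcU
  rw [autFun_apply δ hcV] at hd
  refine Subtype.ext ?_
  simp only [← autFun_coe δ, Subgroup.coe_mul, Subgroup.coe_inv]
  rw [autFun_apply δ hcV, hαv _ hd, hα1, autFun_one hd]

/-- The layer centralises the largest normal subgroup. -/
theorem core_centralizes_layer (hS : IsPGroup p S) (hF : F.IsSaturated p)
    (hE : E.IsLayerOf F p) (P : Subgroup Ω) : E.Hom P ⊆ F.centralizerHom F.core P := by
  have hR : F.IsNormal F.core := isNormal_core F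
  set R := F.core with hRdef
  obtain ⟨D, hD, hDC, hcov⟩ :=
    exists_centralizer_system_cov hS hF (isNormalIn_inner hS hF hR)
  have hY := centE_inner hS hR
  refine fun φ hφ => hDC P (hE.2.2 _ D hD (fun U C hC => ?_) P hφ)
  obtain ⟨hCF, hUC, hfix⟩ := fixes_of_subnormal hC.1 inferInstance hS hC.2 R hR
  have hsat : (centralizerSystem F R hR.1).IsSaturated p := isSaturated_centralizerSystem hS hF
    (isFullyCentralized_of_isFullyNormalized hS hF (isFullyNormalized_of_closed (F := F) hR.1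
      fun Q f hf x hx hxR => isMap_mem_of_stronglyClosed (stronglyClosed_of_isNormal hR) hf hx hxR))
    fun _ => rfl
  have hCp : IsPGroup p (centralizerIn S R) := hS.to_le inf_le_left
  haveI : Finite (centralizerIn S R) := finite_of_le (S := S) inf_le_left
  have hle : (centralizerSystem F R hR.1).IsSubsystemOf D :=
    PowerIndex.le_of_cov (S := centralizerIn S R) hCp le_rfl hsat (fun _ => subset_rfl) hY.ge
      fun Q hQ α hα ho => hcov Q (hQ.trans hY.ge) α hα ho
  intro Q ψ hψ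
  obtain ⟨hψC, g, hg, hgv, hgR⟩ := hfix Q _ (isMap_homFun hψ)
  exact hle Q ((mem_hom_iff ψ).2 ((isMap_centralizerSystem_iff (fun _ => rfl)).2
    ⟨hψC.le.trans hUC, fun x hx => hUC (hψC.mem hx), g, hg, hgv, hgR⟩))

end CfsgLib.Fusion.ComponentCentral
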