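import Mathlib
import Cfsg.Agent.Lib.Fusion.CentralLiftNormal
import Cfsg.Agent.Lib.Fusion.ComponentCentral
import Cfsg.Agent.Lib.Fusion.ComponentTransport
import Cfsg.Agent.Lib.Fusion.PowerIndex
import Cfsg.Agent.Lib.Fusion.Inner
import Cfsg.Agent.Lib.Fusion.ResidualSeries
import Cfsg.Agent.Lib.Fusion.WeaklyNormalResidual

/-!
A saturated system that is not constrained has a component.
-/

set_option autoImplicit false
set_option linter.unusedSectionVars false

namespace CfsgLib.Fusion.ComponentExists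

open Cfsg Cfsg.FusionSystem
open CfsgLib.Fusion.NormalCentralizer

variable {Ω : Type*} [Group Ω] {S T : Subgroup Ω} {F : FusionSystem S} {p : ℕ} [Fact p.Prime]
variable [Finite S]

theorem le_core {Q : Subgroup Ω} (hQ : F.IsNormal Q) : Q ≤ F.core := le_sSup hQ

/-- The largest normal subgroup of a weakly normal subsystem lies in that of the system. -/
theorem core_le_core (hS : IsPGroup p S) {E : FusionSystem T} (hw : E.IsWeaklyNormalIn F p) :
    E.core ≤ F.core := by
  have := finite_of_le hw.2.2.2.1.1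
  refine le_trans ?_ (le_core (isNormal_conjClosure hS hw (isNormal_core E)))
  intro r hr
  have hRS : E.core ≤ S := (isNormal_core E).1.trans hw.2.2.2.1.1
  exact Subgroup.subset_closure ⟨_, subtype_mem F hRS, ⟨r, hr⟩, rfl⟩

/-- A constrained weakly normal subsystem has support inside the core, if the core is central in
its support. -/
theorem le_core_of_constrained (hS : IsPGroup p S) {E : FusionSystem T}
    (hw : E.IsWeaklyNormalIn F p) (hc : E.IsConstrained p)
    (hcen : ∀ x ∈ F.core, ∀ t ∈ T, x * t = t * x) : T ≤ F.core := by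
  obtain ⟨-, Q, hQn, hQc⟩ := hc
  have := finite_of_le hw.2.2.2.1.1
  have hQF : Q ≤ F.core := (le_core hQn).trans (core_le_core hS hw)
  refine fun t ht => hQF (hQc.2 Q (isConj_refl hQn.1) ⟨ht, ?_⟩)
  exact Subgroup.mem_centralizer_iff.2 fun x hx => hcen x (hQF hx) t ht

/-- A system whose hyperfocal subgroup is central is constrained. -/
theorem isConstrained_of_hyperfocal_central (hS : IsPGroup p S) (hF : F.IsSaturated p)
    {Z : Subgroup Ω} (hZ : F.IsCentral Z) (hh : F.hyperfocalSubgroup p ≤ Z) :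
    F.IsConstrained p := by
  have htriv : ∀ (P : Subgroup Ω) (α : MulAut P), P ≤ S → α ∈ F.autGroup P →
      (orderOf α).Coprime p → α = 1 := by
    intro P α hP hα ho
    refine MulEquiv.ext fun x => ?_
    have hd : (x : Ω)⁻¹ * (α x : P) ∈ Z :=
      hh (inv_mul_mem_hyperfocal hP (α := ⟨α, hα⟩)
        (CfsgLib.Transfer.mem_pResidual_of_coprime (by rw [← Subgroup.orderOf_coe]; exact ho)) x)
    obtain ⟨g, -, hag, hfix⟩ :=
      (isCentral_iff.1 hZ).2 P _ ((mem_autGroup_iff hP α).1 hα).isMap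
    obtain ⟨j, hj⟩ := IsPGroup.iff_card.1 hS
    have := finite_of_le hP
    obtain ⟨i, hi⟩ := (hS.to_le hP).exists_card_eq
    refine Residual.eq_self_of_fixed_diff (β := α) (x := x) ho (j := i) ?_ (hi ▸ pow_card_eq_one')
    refine Subtype.ext ?_
    have h2 := hfix _ hd
    rw [hag _ (P.mul_mem (P.inv_mem x.2) (α x).2),
      autFun_apply α (P.mul_mem (P.inv_mem x.2) (α x).2)] at h2
    exact h2
  have hle : ∀ (P : Subgroup Ω) (f : Ω → Ω), IsMap F P f → IsMap (innerFusionSystem S) P f := by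
    refine le_of_autGroup_le hS hF fun R hR => ?_
    have hRfn : F.IsFullyNormalized R := by
      rcases hR with rfl | hR
      · have : Finite (normalizerIn R R) := finite_of_le (S := R) inf_le_left
        exact ⟨le_rfl, fun Q _ => Subgroup.card_le_of_le fun x hx => le_normalizerIn le_rfl hx.1⟩
      · exact hR.2.1
    have := finite_of_le hRfn.1
    have := finite_mulAut R
    obtain ⟨-, Sy, hSy⟩ := isFullyAutomized_of_isFullyNormalized hS hF hRfn
    refine ModelNormal.le_of_sylow_coprime Sy (fun x hx => ?_) fun x hx hxo => ?_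
    · rw [hSy, Subgroup.mem_subgroupOf] at hx
      rw [autGroup_inner hRfn.1]
      exact hx
    · rw [htriv R x hRfn.1 hx hxo]
      exact Subgroup.one_mem _
  refine ⟨hF, S, isNormal_iff.2 ⟨le_rfl, fun P f hf => ?_⟩, le_rfl, fun Q hQ => ?_⟩
  · obtain ⟨hP, g, hg, hv⟩ := isMap_inner_iff.1 (hle P f hf)
    refine ⟨fun x => g * x * g⁻¹, isMap_conj (sup_le hP le_rfl) hg, fun x hx => (hv x hx).symm, ?_⟩
    ext y
    constructor
    · rintro ⟨x, hx, rfl⟩
      exact S.mul_mem (S.mul_mem hg hx) (S.inv_mem hg)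
    · intro hy
      exact ⟨g⁻¹ * y * g, S.mul_mem (S.mul_mem (S.inv_mem hg) hy) hg, by group⟩
  · obtain ⟨g, hg⟩ := isConj_iff.1 hQ
    rw [Subgroup.eq_of_le_of_card_ge hg.le_right hg.card_eq.ge]
    exact inf_le_left

/-- The least normal subsystem over the same subgroup. -/
theorem exists_reduced (hS : IsPGroup p S) (hF : F.IsSaturated p) (hn : ¬ F.IsConstrained p) :
    ∃ D : FusionSystem S, D.IsNormalIn F p ∧ ¬ D.IsConstrained p ∧
      ∀ D' : FusionSystem S, D'.IsWeaklyNormalIn D p → D.IsSubsystemOf D' := by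
  have hw : F.IsWeaklyNormalIn F p := ⟨hF, hF, ResidualSeries.isInvariantIn_self F⟩
  have hres := PPrime.isPPrimeResidual_E0 hS hF
  set D := PPrime.E0 F p
  have hDn : D.IsNormalIn F p := Residual.isNormalIn_residual hS hw hres
  obtain ⟨-, -, hcent⟩ :=
    PPrime.hasPrimeToPIndex (E := D) hS hF hres.2.1.1 PPrime.closed_E0.1
  refine ⟨D, hDn, fun hc => hn ?_, fun D' hD' => ?_⟩
  · obtain ⟨-, Q, hQn, hQc⟩ := hc
    have h1 : Q ≤ F.core := (le_core hQn).trans (core_le_core hS hDn.1)
    exact ⟨hF, F.core, isNormal_core F,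
      isCentric_of_le ((hcent Q).1 hQc) h1 (isNormal_core F).1⟩
  · have hsd : D.IsWeaklyNormalIn D p := ⟨hres.1, hres.1, ResidualSeries.isInvariantIn_self D⟩
    have h2 := PPrime.isPPrimeResidual_E0 hS hres.1
    have h3 : D.IsSubsystemOf (PPrime.E0 D p) := by
      refine hres.2.2 _ h2.1 ⟨fun P => (h2.2.1.1 P).trans (hres.2.1.1 P), fun P hP => ?_⟩
      rintro _ ⟨a, ha, rfl⟩
      induction ha using Subgroup.closure_induction with
      | mem a ha =>
        obtain ⟨k, hk⟩ := ha
        have haD : (a : MulAut P) ∈ D.autGroup P :=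
          hres.2.1.2 P hP ⟨a, Subgroup.subset_closure ⟨k, hk⟩, rfl⟩
        refine h2.2.1.2 P hP ⟨⟨a, haD⟩, Subgroup.subset_closure ⟨k, ?_⟩, rfl⟩
        rw [← Subgroup.orderOf_coe] at hk ⊢
        exact hk
      | one => exact Subgroup.one_mem _
      | mul a b _ _ iha ihb => exact Subgroup.mul_mem _ iha ihb
      | inv a _ iha => exact Subgroup.inv_mem _ iha
    exact fun P => (h3 P).trans (Residual.E0_le_of_weaklyNormal hS hsd hD' P)

theorem weaklyNormal_top {U : Subgroup Ω} (hU : U = S) {D : FusionSystem U}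
    (hD : D.IsWeaklyNormalIn F p)
    (hmin : ∀ D' : FusionSystem S, D'.IsWeaklyNormalIn F p → F.IsSubsystemOf D') :
    F.IsSubsystemOf D := by
  subst hU
  exact hmin D hD

/-- A system is constrained when the centralizer system of its core is. -/
theorem isConstrained_of_centralizer_core (hS : IsPGroup p S) (hF : F.IsSaturated p)
    {Y : Subgroup Ω} {C : FusionSystem Y} (hw : C.IsWeaklyNormalIn F p)
    (hY : Y = centralizerIn S F.core) (hc : C.IsConstrained p) : F.IsConstrained p := by
  subst hY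
  obtain ⟨-, Q, hQn, hQc⟩ := hc
  set K := F.core with hK
  have hKn : F.IsNormal K := isNormal_core F
  have := finite_of_le (S := S) (P := centralizerIn S K) inf_le_left
  have hQK : Q ≤ K := (le_core hQn).trans (core_le_core hS hw)
  have hle : centralizerIn S K ≤ K := fun c hc => hQK (hQc.2 Q (isConj_refl hQn.1)
    ⟨hc, Subgroup.mem_centralizer_iff.2 fun x hx =>
      Subgroup.mem_centralizer_iff.1 hc.2 x (hQK hx)⟩)
  refine ⟨hF, K, hKn, hKn.1, fun R hR => ?_⟩
  obtain ⟨g, hg⟩ := isConj_iff.1 hR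
  have hRK : R ≤ K := fun y hy => by
    obtain ⟨x, hx, rfl⟩ := hg.surj hy
    exact isMap_mem_of_stronglyClosed (stronglyClosed_of_isNormal hKn) hg.isMap hx hx
  have := finite_of_le hKn.1
  rw [Subgroup.eq_of_le_of_card_ge hRK hg.card_eq.ge]
  exact hle

/-- Every saturated system that is not constrained has a component. -/
theorem exists_component (hS : IsPGroup p S) (hF : F.IsSaturated p) (hn : ¬ F.IsConstrained p) :
    ∃ (T : Subgroup Ω) (C : FusionSystem T), C.IsComponentIn F p := by
  suffices H : ∀ (n : ℕ) (S : Subgroup Ω) [Finite S], Nat.card S = n → IsPGroup p S →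
      ∀ F : FusionSystem S, F.IsSaturated p → ¬ F.IsConstrained p →
        ∃ (T : Subgroup Ω) (C : FusionSystem T), C.IsComponentIn F p from
    H _ S rfl hS F hF hn
  intro n
  induction n using Nat.strong_induction_on with
  | _ n ih =>
  intro S _ hcard hS F hF hn
  obtain ⟨D, hDF, hDn, hmin⟩ := exists_reduced hS hF hn
  suffices h : ∃ (T : Subgroup Ω) (C : FusionSystem T), C.IsComponentIn D p by
    obtain ⟨T, C, hC⟩ := h
    exact ⟨T, C, hC.1.step hDF, hC.2⟩
  clear hn hF
  have hD := hDF.1.1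
  clear hDF F
  -- recursion into smaller normal subsystems
  have hrec : ∀ {U : Subgroup Ω} (E : FusionSystem U), E.IsNormalIn D p → Nat.card U < n →
      ¬ E.IsConstrained p → ∃ (T : Subgroup Ω) (C : FusionSystem T), C.IsComponentIn D p := by
    intro U E hE hlt hEn
    have := finite_of_le hE.1.2.2.2.1.1
    obtain ⟨T, C, hC⟩ := ih _ hlt U rfl (hS.to_le hE.1.2.2.2.1.1) E hE.1.1 hEn
    exact ⟨T, C, hC.1.step hE, hC.2⟩
  have hcardlt : ∀ {U : Subgroup Ω}, U ≤ S → U ≠ S → Nat.card U < n := fun {U} hU hne =>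
    hcard ▸ lt_of_le_of_ne (Subgroup.card_le_of_le hU)
      fun e => hne (Subgroup.eq_of_le_of_card_ge hU e.ge)
  have hKn : D.IsNormal D.core := isNormal_core D
  set K := D.core with hK
  -- the centraliser of the core
  obtain ⟨C, hCn, hCh, -⟩ :=
    exists_centralizer_system_cov hS hD (ComponentCentral.isNormalIn_inner hS hD hKn)
  have hY := ComponentCentral.centE_inner (F := D) hS hKn
  revert C
  generalize centE (innerFusionSystem K) D p _ = Y at hY ⊢
  subst hY
  intro C hCn hCh
  rcases ne_or_eq (centralizerIn S K) S with hne | heq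
  · exact hrec C hCn (hcardlt inf_le_left hne) fun hc =>
      hDn (isConstrained_of_centralizer_core hS hD hCn.1 rfl hc)
  -- now the core is central
  have hCD : D.IsSubsystemOf C := weaklyNormal_top heq hCn.1 hmin
  have hKc : D.IsCentral K := by
    refine isCentral_iff.2 ⟨hKn.1, fun P f hf => ?_⟩
    obtain ⟨φ, hφ, hv⟩ := (isMap_of_subsystem hCD hf).exists_hom
    obtain ⟨-, -, -, ψ, hψ, hψP, hψK⟩ := hCh P hφ
    refine ⟨homFun ψ, isMap_homFun hψ, fun x hx => ?_, fun x hx => ?_⟩
    · rw [homFun_apply ψ (Subgroup.mem_sup_left hx), ← hv ⟨x, hx⟩, ← hψP ⟨x, hx⟩]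
      rfl
    · rw [homFun_apply ψ (Subgroup.mem_sup_right hx)]
      exact hψK ⟨x, hx⟩
  have hKS : ∀ x ∈ K, ∀ s ∈ S, x * s = s * x := fun x hx s hs =>
    Subgroup.mem_centralizer_iff.1 (heq.ge hs).2 x hx
  -- the hyperfocal subgroup is everything
  rcases ne_or_eq (D.hyperfocalSubgroup p) S with hne | hhyp
  · have hYS : D.hyperfocalSubgroup p ≤ S := hyperfocal_le
    obtain ⟨E, hE, hED, hcov, -⟩ :=
      PowerIndex.exists_subsystem (D.hyperfocalSubgroup p) _ S rfl hS D hD hYS le_rfl
    have hYn : ((D.hyperfocalSubgroup p).subgroupOf S).Normal :=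
      ⟨fun y hy s => conj_mem_hyperfocal s.2 hy⟩
    have hEn := PowerIndex.isNormalIn hS hD hYS hYn le_rfl hE hED hcov
    refine hrec E hEn (hcardlt hYS hne) fun hc => hDn ?_
    exact isConstrained_of_hyperfocal_central hS hD hKc
      (le_core_of_constrained hS hEn.1 hc fun x hx t ht => hKS x hx t (hYS ht))
  -- quasisimplicity
  have hKeq : D.center = K := le_antisymm (le_core (isNormal_iff.2
    ⟨(isCentral_center D).1, fun P f hf => by
      obtain ⟨g, hg, hag, hfix⟩ := (isCentral_iff.1 (isCentral_center D)).2 P f hf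
      refine ⟨g, hg, hag, ?_⟩
      ext x
      exact ⟨fun ⟨y, hy, e⟩ => e ▸ (hfix y hy).symm ▸ hy, fun hx => ⟨x, hx, hfix x hx⟩⟩⟩))
    (le_sSup (show K ∈ {Q | D.IsCentral Q} from hKc))
  by_contra hnone
  refine hnone ⟨S, D, .refl D p, hD, hhyp, fun E hE => ?_⟩
  set θ := QuotientGroup.mk' (D.center.subgroupOf S)
  have hZ : D.IsCentral D.center := isCentral_center D
  have hZsc := stronglyClosed_of_isCentral hZ
  have hEs := isSaturated_factor hS hD hZsc hE
  have : Finite K := finite_of_le hKn.1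
  have hSne : (⊤ : Subgroup (S ⧸ D.center.subgroupOf S)) ≠ ⊥ := fun e => hDn ⟨hD, K, hKn, hKn.1,
    fun R hR => by
      have hSK : S ≤ K := fun s hs => hKeq ▸ (mem_of_homExt_eq_one hE hs).1
        (by rw [homExt_apply θ hs]; exact Subgroup.mem_bot.1 (e ▸ Subgroup.mem_top _))
      obtain ⟨g, hg⟩ := isConj_iff.1 hR
      have hRe : R = S := Subgroup.eq_of_le_of_card_ge hg.le_right
        (by rw [hg.card_eq]; exact Subgroup.card_le_of_le hSK)
      rw [hRe]
      exact inf_le_left⟩
  refine ⟨hEs, hSne, fun T' N hN => ?_⟩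
  rcases eq_or_ne T' ⊥ with hbot | hbot
  · exact Or.inl hbot
  have hdata : CentralLift.Data D p D.center θ E N := ⟨hS, hD, hZ, hE, hN⟩
  set T := preimageAlong θ T' with hTdef
  have hTS : T ≤ S := preimageAlong_le θ T'
  have himg : imageAlong θ T = T' := hdata.image_preimage le_top
  rcases ne_or_eq T S with hne | hTS'
  · exfalso
    obtain ⟨L, hL⟩ := CentralLift.exists_normal_preimage hdata
    refine hnone (hrec L hL (hcardlt hTS hne) fun hc => hbot ?_)
    have hTK := le_core_of_constrained hS hL.1 hc fun x hx t ht => hKS x hx t (hTS ht)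
    rw [eq_bot_iff, ← himg]
    rintro _ ⟨s, hs, rfl⟩
    exact Subgroup.mem_bot.2 ((hE.2.1 s).2 (hKeq.symm ▸ hTK hs))
  · right
    have hT' : T' = ⊤ := by
      refine top_le_iff.1 fun y _ => ?_
      obtain ⟨s, rfl⟩ := QuotientGroup.mk'_surjective _ y
      rw [← himg, hTS']
      exact ⟨s, s.2, rfl⟩
    refine ⟨hT', fun P => ?_⟩
    have hsub : D.IsSubsystemOf (CentralLift.lifted hdata) :=
      weaklyNormal_top hTS' (CentralLift.isWeaklyNormalIn_lifted hdata) hmin
    refine Set.Subset.antisymm (hN.1.2.2.1 P) fun φ hφ => (mem_hom_iff φ).2 ?_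
    obtain ⟨-, f, hf, hv⟩ := (isMap_factor_iff hE).1 (isMap_homFun hφ)
    obtain ⟨-, -, f', hf', hv'⟩ := CentralLift.isMap_lifted hdata (isMap_of_subsystem hsub hf)
    rw [hdata.image_preimage le_top] at hf'
    refine hf'.congr fun y hy => ?_
    obtain ⟨x, hx, rfl⟩ := exists_mem_preimageAlong (le_top.trans hE.2.2.1.ge) hy
    rw [hv' x hx, hv x hx]

end CfsgLib.Fusion.ComponentExists
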