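import Mathlib
import Cfsg.Agent.Lib.Fusion.ComponentExists
import Cfsg.Agent.Lib.Fusion.NormalizerSaturated
import Cfsg.Agent.Lib.Critical.Basic

/-!
A system is of characteristic `p`-type as soon as the centralizers of its subgroups of order `p`
are constrained.
-/

set_option autoImplicit false
set_option linter.unusedSectionVars false

namespace CfsgLib.Fusion.ComponentExists

open Cfsg Cfsg.FusionSystem
open CfsgLib.Fusion.NormalCentralizer

variable {Ω : Type*} [Group Ω] {S : Subgroup Ω} {F : FusionSystem S} {p : ℕ} [Fact p.Prime]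
variable [Finite S]

/-- A coprime automorphism fixing `U` and `C_Q(U)` fixes `Q`. -/
theorem fix_of_fix_centralizer (hS : IsPGroup p S) {Q U Y : Subgroup Ω} (hYS : Y ≤ S) (hQY : Q ≤ Y)
    (hUY : U ≤ Y) (hQn : Y ≤ Subgroup.normalizer (Q : Set Ω)) {β : MulAut Y}
    (ho : (orderOf β).Coprime p) (hQ : ∀ x ∈ Q, autFun β x ∈ Q)
    (hU : ∀ x ∈ U, autFun β x = x)
    (hC : ∀ x ∈ Q, x ∈ Subgroup.centralizer (U : Set Ω) → autFun β x = x) :
    ∀ x ∈ Q, autFun β x = x := by
  let Fx : Subgroup Ω := (MonoidHom.eqLocus β.toMonoidHom (MonoidHom.id Y)).map Y.subtype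
  have hFx : ∀ x, x ∈ Fx ↔ x ∈ Y ∧ autFun β x = x := fun x => by
    constructor
    · rintro ⟨y, hy, rfl⟩
      exact ⟨y.2, by rw [Subgroup.subtype_apply, autFun_coe]; exact congrArg Subtype.val hy⟩
    · rintro ⟨hx, e⟩
      exact ⟨⟨x, hx⟩, Subtype.ext ((autFun_apply β hx).symm.trans e), rfl⟩
  intro x₀ hx₀
  by_contra hne
  set V := Q ⊓ Fx ⊔ U with hV
  set W := Q ⊔ U with hW
  have hVF : V ≤ Fx := sup_le inf_le_right fun u hu => (hFx u).2 ⟨hUY hu, hU u hu⟩
  have hVW : V ≤ W := sup_le_sup inf_le_left le_rfl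
  have hWY : W ≤ Y := sup_le hQY hUY
  have := finite_of_le (hWY.trans hYS)
  have hVne : V ≠ W := fun e => hne ((hFx x₀).1 (hVF (e ▸ Subgroup.mem_sup_left hx₀))).2
  obtain ⟨y, hy, hyV⟩ :=
    SetLike.exists_of_lt (lt_normalizerIn (hS.to_le (hWY.trans hYS)) hVW hVne)
  obtain ⟨hyW, hyn⟩ := hy
  rw [hW, sup_comm] at hyW
  have hy' : y ∈ ((U ⊔ Q : Subgroup Ω) : Set Ω) := hyW
  rw [Subgroup.coe_mul_of_left_le_normalizer_right _ _ (hUY.trans hQn)] at hy'
  obtain ⟨u, hu, x, hx, rfl⟩ := hy'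
  have hxn : x ∈ Subgroup.normalizer (V : Set Ω) := by
    have := Subgroup.mul_mem _ (Subgroup.inv_mem _
      (Subgroup.le_normalizer (Subgroup.mem_sup_right (S := Q ⊓ Fx) hu : u ∈ V))) hyn
    rwa [inv_mul_cancel_left] at this
  have hxY := hQY hx
  set d := x⁻¹ * autFun β x with hd
  have hdQ : d ∈ Q := Q.mul_mem (Q.inv_mem hx) (hQ x hx)
  have hdC : d ∈ Subgroup.centralizer (U : Set Ω) := mem_centralizer_of_conj_eq fun v hv => by
    have h1 := ((hFx _).1 (hVF (conj_mem_of_mem_normalizer hxn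
      (Subgroup.mem_sup_right (S := Q ⊓ Fx) hv : v ∈ V))))
    have h2 : autFun β (x * v * x⁻¹) = autFun β x * v * (autFun β x)⁻¹ := by
      rw [autFun_apply β h1.1, autFun_apply β hxY,
        show (⟨x * v * x⁻¹, h1.1⟩ : Y) = ⟨x, hxY⟩ * ⟨v, hUY hv⟩ * ⟨x, hxY⟩⁻¹ from rfl, map_mul,
        map_mul, map_inv, Subgroup.coe_mul, Subgroup.coe_mul, Subgroup.coe_inv,
        ← autFun_apply β (hUY hv), hU v hv]
    rw [h1.2] at h2
    calc d * v * d⁻¹ = x⁻¹ * (autFun β x * v * (autFun β x)⁻¹) * x := by rw [hd]; group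
      _ = v := by rw [← h2]; group
  have hde := hC d hdQ hdC
  have := finite_of_le hYS
  obtain ⟨j, hj⟩ := (hS.to_le hYS).exists_card_eq
  have hfix : β ⟨x, hxY⟩ = ⟨x, hxY⟩ := by
    refine Residual.eq_self_of_fixed_diff ho (x := ⟨x, hxY⟩) (j := j) ?_ (hj ▸ pow_card_eq_one')
    refine Subtype.ext ?_
    rw [← autFun_coe β]
    simp only [Subgroup.coe_mul, Subgroup.coe_inv, ← autFun_apply β hxY]
    exact hde
  exact hyV (Subgroup.mul_mem _ (Subgroup.mem_sup_right hu) (Subgroup.mem_sup_left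
    ⟨hx, (hFx x).2 ⟨hxY, by rw [autFun_apply β hxY, hfix]⟩⟩))

/-- A system is constrained if no automorphism of order prime to `p` fixes the core. -/
theorem isConstrained_of_trivial (hS : IsPGroup p S) (hF : F.IsSaturated p)
    (h : ∀ (P : Subgroup Ω) (α : MulAut P), P ≤ centralizerIn S F.core →
      (orderOf α).Coprime p → α ∈ F.autGroup P →
      (∃ g, IsMap F (P ⊔ F.core) g ∧ (∀ x : P, g x = (α x : Ω)) ∧ ∀ x ∈ F.core, g x = x) →
      α = 1) : F.IsConstrained p := by
  have hKn : F.IsNormal F.core := isNormal_core F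
  obtain ⟨C, hCn, hCh, -⟩ :=
    exists_centralizer_system_cov hS hF (ComponentCentral.isNormalIn_inner hS hF hKn)
  have hY := ComponentCentral.centE_inner (F := F) hS hKn
  revert C
  generalize centE (innerFusionSystem F.core) F p _ = Y at hY ⊢
  subst hY
  intro C hCn hCh
  refine isConstrained_of_centralizer_core hS hF hCn.1 rfl ?_
  have := finite_of_le (S := S) (P := centralizerIn S F.core) inf_le_left
  refine isConstrained_of_hyperfocal_central (hS.to_le inf_le_left) hCn.1.1 (isCentral_bot C)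
    (hyperfocal_le_of_coprime fun P α hP hα ho x => ?_)
  obtain ⟨φ, hφ, hv⟩ := ((mem_autGroup_iff hP α).1 hα).isMap
  obtain ⟨hφF, -, -, ψ, hψ, hψP, hψK⟩ := hCh P hφ
  have hm : IsMap F P (autFun α) := ⟨φ, hφF, hv⟩
  have e := h P α hP ho (mem_autGroup_of_isMap hm α fun y => (autFun_coe α y).symm)
    ⟨homFun ψ, isMap_homFun hψ, fun y => by
      rw [homFun_apply ψ (Subgroup.mem_sup_left y.2), ← autFun_coe α y, ← hv y, ← hψP y]
      rfl, fun y hy => by
      rw [homFun_apply ψ (Subgroup.mem_sup_right hy)]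
      exact hψK ⟨y, hy⟩⟩
  rw [e, MulAut.one_apply, inv_mul_cancel]
  exact Subgroup.one_mem _

/-- The centralizer of a central element of a normalizer is constrained, if that of a fully
normalized conjugate is. -/
theorem isConstrained_normalizer (hS : IsPGroup p S) (hF : F.IsSaturated p) {U X : Subgroup Ω}
    (hU : F.IsFullyNormalized U) {N : FusionSystem (normalizerIn S U)}
    (hN : F.IsNormalizerSystem U N) (hXU : X ≤ U)
    (hXc : normalizerIn S U ≤ Subgroup.centralizer (X : Set Ω)) {X' : Subgroup Ω}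
    (hX' : F.IsFullyNormalized X') (hc : F.IsConj X X')
    {G : FusionSystem (centralizerIn S X')} (hG : F.IsCentralizerSystem X' G)
    (hGc : G.IsConstrained p) : N.IsConstrained p := by
  have hNS : (normalizerIn S U) ≤ S := inf_le_left
  have := finite_of_le hNS
  have hNp := hS.to_le hNS
  have hUN : U ≤ (normalizerIn S U) := le_normalizerIn hU.1
  have hNs := isSaturated_normalizerSystem hS hF hU hN
  have hUnN : N.IsNormal U := by
    refine isNormal_iff.2 ⟨hUN, fun P f hf => ?_⟩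
    obtain ⟨hP, -, g, hg, hag, him⟩ := (isMap_normalizerSystem_iff hN).1 hf
    have hgi : IsIso F U U g := ⟨hg.mono le_sup_right, him⟩
    have hgN : ∀ x ∈ P ⊔ U, g x ∈ (normalizerIn S U) := fun x hx =>
      hg.mem_normalizerIn le_sup_right hgi hx ((sup_le hP hUN : P ⊔ U ≤ (normalizerIn S U)) hx).2
    exact ⟨g, (isMap_normalizerSystem_iff hN).2 ⟨sup_le hP hUN, hgN, g,
      hg.mono (by rw [sup_assoc, sup_idem]), fun x _ => rfl, him⟩, hag, him⟩
  -- the centralizer of `X` in `N`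
  have hXN : X ≤ (normalizerIn S U) := hXU.trans hUN
  have hXcen : ∀ g ∈ (normalizerIn S U), ∀ x ∈ X, g * x * g⁻¹ = x := fun g hg x hx =>
    conj_eq_self_of_mem_centralizer (hXc hg) hx
  have hCX : centralizerIn (normalizerIn S U) X = (normalizerIn S U) := inf_eq_left.2 hXc
  have hXfc : N.IsFullyCentralized X := ⟨hXN, fun R _ => by
    rw [hCX]
    exact Subgroup.card_le_of_le inf_le_left⟩
  set H := centralizerSystem N X hXN
  have hHs : H.IsSaturated p := isSaturated_centralizerSystem hNp hNs hXfc fun _ => rfl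
  have hHmap : ∀ {P : Subgroup Ω} {f : Ω → Ω}, IsMap H P f ↔ P ≤ centralizerIn (normalizerIn S U) X ∧
      (∀ x ∈ P, f x ∈ centralizerIn (normalizerIn S U) X) ∧
      ∃ g, IsMap N (P ⊔ X) g ∧ (∀ x ∈ P, g x = f x) ∧ ∀ x ∈ X, g x = x :=
    isMap_centralizerSystem_iff fun _ => rfl
  have := finite_of_le (S := (normalizerIn S U)) (P := centralizerIn (normalizerIn S U) X) inf_le_left
  have hHp : IsPGroup p (centralizerIn (normalizerIn S U) X) := hNp.to_le inf_le_left
  -- normal subgroups of `N` over `X` are normal in the centralizer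
  have hnorm : ∀ R : Subgroup Ω, N.IsNormal R → H.IsNormal R := by
    intro R hR
    refine isNormal_iff.2 ⟨hCX.symm ▸ hR.1, fun P f hf => ?_⟩
    obtain ⟨hP, -, g, hg, hag, hX⟩ := hHmap.1 hf
    obtain ⟨k, hk, hkg, hkR⟩ := (isNormal_iff.1 hR).2 _ g hg
    have hPR : P ⊔ R ≤ P ⊔ X ⊔ R := sup_le_sup le_sup_left le_rfl
    refine ⟨k, hHmap.2 ⟨hCX.symm ▸ sup_le (hP.trans inf_le_left) hR.1,
      fun x hx => hCX.symm ▸ hk.mem (hPR hx), k, hk.mono (sup_le hPR ?_), fun x _ => rfl,
      fun x hx => ?_⟩, fun x hx => ?_, hkR⟩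
    · exact le_sup_right.trans le_sup_left
    · rw [hkg x (Subgroup.mem_sup_right hx), hX x hx]
    · rw [hkg x (Subgroup.mem_sup_left hx), hag x hx]
  -- move to `X'`
  obtain ⟨ω, hω, hωX, hωN, -⟩ := exists_map_normalizerIn hS
    (isFullyAutomized_of_isFullyNormalized hS hF hX')
    (isReceptive_of_isFullyNormalized hS hF hX') hc
  have hNX : (normalizerIn S U) ≤ normalizerIn S X := fun g hg => ⟨hg.1,
    mem_normalizer_of_conj_mem (hXN.trans hNS) fun x hx => by rw [hXcen g hg x hx]; exact hx⟩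
  have hωm : IsMap F (normalizerIn S U) ω := hω.mono hNX
  obtain ⟨U', hU'⟩ := (hωm.mono hUN).exists_iso
  obtain ⟨NU', hω'⟩ := hωm.exists_iso
  obtain ⟨r, hr, hr1, -⟩ := hω'.exists_symm
  have hNU' : NU' = normalizerIn S U' := by
    have := finite_of_le (S := S) (P := normalizerIn S U') inf_le_left
    refine Subgroup.eq_of_le_of_card_ge (fun y hy => ?_) ?_
    · obtain ⟨x, hx, rfl⟩ := hω'.surj hy
      exact hωm.mem_normalizerIn hUN hU' hx hx.2
    · rw [hω'.card_eq]
      exact hU.2 U' hU'.isConj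
  have hX'N : ∀ x ∈ (normalizerIn S U), ω x ∈ centralizerIn S X' := fun x hx =>
    hωm.mem_centralizerIn hXN hωX hx (hXc hx)
  obtain ⟨hGs, Q₀, hQ₀, hQ₀c⟩ := hGc
  have := finite_of_le (S := S) (P := centralizerIn S X') inf_le_left
  have hGp : IsPGroup p (centralizerIn S X') := hS.to_le inf_le_left
  set Q := G.core with hQdef
  have hQn : G.IsNormal Q := isNormal_core G
  have hQc : G.IsCentric Q := isCentric_of_le hQ₀c (le_core hQ₀) hQn.1
  have hQsc := stronglyClosed_of_isNormal hQn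
  obtain ⟨W, hW⟩ := (hr.isMap.mono (show Q ⊓ NU' ≤ NU' from inf_le_right)).exists_iso
  have hWN : W ≤ (normalizerIn S U) := fun y hy => by
    obtain ⟨x, hx, rfl⟩ := hW.surj hy
    exact hr.mem hx.2
  have hωW : ∀ w ∈ W, ω w ∈ Q ⊓ NU' := fun w hw => by
    obtain ⟨y, hy, rfl⟩ := hW.surj hw
    obtain ⟨x, hx, rfl⟩ := hω'.surj hy.2
    rw [hr1 x hx]
    exact hy
  have hWback : ∀ w ∈ (normalizerIn S U), ω w ∈ Q → w ∈ W := fun w hw hwQ => hr1 w hw ▸ hW.mem ⟨hwQ, hω'.mem hw⟩
  have hωG : ∀ {P : Subgroup Ω} {f : Ω → Ω}, P ≤ (normalizerIn S U) → X ≤ P → IsMap F P f → (∀ x ∈ P, f x ∈ (normalizerIn S U)) →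
      (∀ x ∈ X, f x = x) → ∀ {P' : Subgroup Ω}, IsIso F P P' ω → IsMap G P' (ω ∘ f ∘ r) := by
    intro P f hP hXP hf hfN hfX P' hP'
    have hP'N : P' ≤ NU' := fun y hy => by
      obtain ⟨x, hx, rfl⟩ := hP'.surj hy
      exact hω'.mem (hP hx)
    have hrP : ∀ y ∈ P', r y ∈ P := fun y hy => by
      obtain ⟨x, hx, rfl⟩ := hP'.surj hy
      rw [hr1 x (hP hx)]
      exact hx
    refine (isMap_centralizerSystem_iff hG).2 ⟨fun y hy => ?_, fun y hy => hX'N _ (hfN _ (hrP y hy)),
      ω ∘ f ∘ r, ?_, fun y _ => rfl, fun y hy => ?_⟩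
    · obtain ⟨x, hx, rfl⟩ := hP'.surj hy
      exact hX'N x (hP hx)
    · have hX'P : X' ≤ P' := fun y hy => by
        obtain ⟨x, hx, rfl⟩ := hωX.surj hy
        exact hP'.mem (hXP hx)
      rw [sup_eq_left.2 hX'P]
      exact ((hr.isMap.mono hP'N).comp hf hrP).comp hωm fun y hy => hfN _ (hrP y hy)
    · obtain ⟨x, hx, rfl⟩ := hωX.surj hy
      show ω (f (r (ω x))) = ω x
      rw [hr1 x (hXN hx), hfX x hx]
  -- `W` is normal in the centralizer
  have hWn : H.IsNormal W := by
    refine isNormal_iff.2 ⟨hCX.symm ▸ hWN, fun P f hf => ?_⟩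
    obtain ⟨hP, -, g, hg, hag, hX⟩ := hHmap.1 hf
    obtain ⟨k, hk, hkg, hkU⟩ := (isNormal_iff.1 hUnN).2 _ g hg
    set A := P ⊔ X ⊔ U
    have hAN : A ≤ (normalizerIn S U) := hk.le
    obtain ⟨A', hA'⟩ := (hωm.mono hAN).exists_iso
    obtain ⟨-, -, k₀, hk₀, hk₀v, -⟩ := (isMap_normalizerSystem_iff hN).1 hk
    have hkF : IsMap F A k := (hk₀.mono le_sup_left).congr hk₀v
    have hXA : X ≤ A := le_sup_right.trans le_sup_left
    have hkX : ∀ x ∈ X, k x = x := fun x hx => by rw [hkg x (Subgroup.mem_sup_right hx), hX x hx]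
    have hm := hωG hAN hXA hkF (fun x hx => hk.mem hx) hkX hA'
    obtain ⟨m, hm', hmv, hmQ⟩ := (isNormal_iff.1 hQn).2 A' _ hm
    have hmF : IsMap F (A' ⊔ Q) m := by
      obtain ⟨-, -, m₀, hm₀, hm₀v, -⟩ := (isMap_centralizerSystem_iff hG).1 hm'
      exact (hm₀.mono le_sup_left).congr hm₀v
    have hAA' : ∀ x ∈ A, m (ω x) = ω (k x) := fun x hx => by
      rw [hmv _ (hA'.mem hx)]
      show ω (k (r (ω x))) = _
      rw [hr1 x (hAN hx)]
    have hU'A : U' ≤ A' := fun y hy => by
      obtain ⟨x, hx, rfl⟩ := hU'.surj hy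
      exact hA'.mem (le_sup_right (a := P ⊔ X) hx)
    have hUim : IsIso F U' U' m := by
      refine ⟨hmF.mono (hU'A.trans le_sup_left), ?_⟩
      rw [← hU'.image_eq, Set.image_image,
        Set.image_congr fun x hx => hAA' x (le_sup_right (a := P ⊔ X) hx), ← Set.image_image ω k,
        hkU]
    set B := A ⊔ W
    have hBN : B ≤ (normalizerIn S U) := sup_le hAN hWN
    have hωB : ∀ x ∈ B, ω x ∈ A' ⊔ Q := by
      obtain ⟨L, hL⟩ := (hr.isMap.mono (show (A' ⊔ Q) ⊓ NU' ≤ NU' from inf_le_right)).exists_iso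
      have hle : B ≤ L := sup_le
        (fun x hx => hr1 x (hAN hx) ▸
          hL.mem ⟨Subgroup.mem_sup_left (hA'.mem hx), hω'.mem (hAN hx)⟩)
        fun x hx => hr1 x (hWN hx) ▸
          hL.mem ⟨Subgroup.mem_sup_right (hωW x hx).1, hω'.mem (hWN hx)⟩
      intro x hx
      obtain ⟨y, hy, rfl⟩ := hL.surj (hle hx)
      obtain ⟨z, hz, rfl⟩ := hω'.surj hy.2
      rw [hr1 z hz]
      exact hy.1
    have hmN : ∀ x ∈ B, m (ω x) ∈ NU' := fun x hx => by
      have h1 : ω x ∈ normalizerIn S U' := hNU' ▸ hω'.mem (hBN hx)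
      rw [hNU']
      exact hmF.mem_normalizerIn (hU'A.trans le_sup_left) hUim (hωB x hx) h1.2
    have hq : IsMap F B (r ∘ m ∘ ω) :=
      ((hωm.mono hBN).comp hmF hωB).comp hr.isMap hmN
    have hqA : ∀ x ∈ A, r (m (ω x)) = k x := fun x hx => by rw [hAA' x hx, hr1 _ (hk.mem hx)]
    have hqU : (r ∘ m ∘ ω) '' (U : Set Ω) = U :=
      (Set.image_congr fun x hx => hqA x (le_sup_right (a := P ⊔ X) hx)).trans hkU
    have hUA : U ≤ A := le_sup_right
    have hqN : IsMap N B (r ∘ m ∘ ω) :=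
      (isMap_normalizerSystem_iff hN).2 ⟨hBN, fun x hx => hr.mem (hmN x hx), r ∘ m ∘ ω,
        hq.mono (sup_le le_rfl (hUA.trans le_sup_left)), fun x _ => rfl, hqU⟩
    have hPWB : P ⊔ W ≤ B := sup_le_sup (le_sup_left.trans le_sup_left) le_rfl
    refine ⟨r ∘ m ∘ ω, hHmap.2 ⟨hCX.symm ▸ hPWB.trans hBN,
      fun x hx => hCX.symm ▸ hr.mem (hmN x (hPWB hx)), r ∘ m ∘ ω,
      hqN.mono (sup_le hPWB (hXA.trans le_sup_left)), fun x _ => rfl,
      fun x hx => (hqA x (hXA hx)).trans (hkX x hx)⟩, fun x hx => ?_, ?_⟩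
    · have hxA : x ∈ A := Subgroup.mem_sup_left (Subgroup.mem_sup_left hx)
      show r (m (ω x)) = f x
      rw [hqA x hxA, hkg x (Subgroup.mem_sup_left hx), hag x hx]
    · have := finite_of_le (hWN.trans hNS)
      refine ((hq.mono le_sup_right).isIso_of_card_le (fun w hw => ?_) le_rfl).image_eq
      exact hW.mem ⟨hmQ.subset ⟨_, (hωW w hw).1, rfl⟩, hmN w (Subgroup.mem_sup_right hw)⟩
  -- the centralizer is constrained
  have hH : H.IsConstrained p := by
    refine isConstrained_of_trivial hHp hHs fun P α hP ho hα hg => ?_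
    obtain ⟨g, hg, hgα, hgK⟩ := hg
    set K := H.core with hKdef
    have hUK : U ≤ K := le_core (hnorm U hUnN)
    have hWK : W ≤ K := le_core hWn
    obtain ⟨hY, -, g₁, hg₁, hg₁v, -⟩ := hHmap.1 hg
    set Y₀ := P ⊔ K
    have hYN : Y₀ ≤ (normalizerIn S U) := hY.trans inf_le_left
    have hgN : IsMap N Y₀ g := (hg₁.mono le_sup_left).congr hg₁v
    have hgF : IsMap F Y₀ g := by
      obtain ⟨-, -, g₂, hg₂, hg₂v, -⟩ := (isMap_normalizerSystem_iff hN).1 hgN
      exact (hg₂.mono le_sup_left).congr hg₂v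
    have := finite_of_le hYN
    have hgY : ∀ x ∈ Y₀, g x ∈ Y₀ := by
      obtain ⟨L, hL⟩ := hgF.exists_iso
      have hle : L ≤ Y₀ := by
        have h1 : L ≤ Subgroup.closure ((P : Set Ω) ∪ K) := fun y hy => by
          obtain ⟨x, hx, rfl⟩ := hL.surj hy
          have hx' : x ∈ Subgroup.closure ((P : Set Ω) ∪ K) := by
            rwa [Subgroup.closure_union, Subgroup.closure_eq, Subgroup.closure_eq]
          have hsub : Subgroup.closure ((P : Set Ω) ∪ K) ≤ Y₀ := (Subgroup.closure_le _).2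
            (Set.union_subset (SetLike.coe_subset_coe.2 le_sup_left)
              (SetLike.coe_subset_coe.2 le_sup_right))
          induction hx' using Subgroup.closure_induction with
          | mem a ha =>
            rcases ha with ha | ha
            · exact Subgroup.subset_closure (Or.inl (hgα ⟨a, ha⟩ ▸ (α ⟨a, ha⟩).2))
            · exact Subgroup.subset_closure (Or.inr ((hgK a ha).symm ▸ ha))
          | one => rw [hgF.map_one]; exact Subgroup.one_mem _
          | mul a b ha hb iha ihb =>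
            rw [hgF.map_mul (hsub ha) (hsub hb)]
            exact Subgroup.mul_mem _ (iha (hsub ha) (hL.mem (hsub ha)))
              (ihb (hsub hb) (hL.mem (hsub hb)))
          | inv a ha iha =>
            rw [hgF.map_inv (hsub ha)]
            exact Subgroup.inv_mem _ (iha (hsub ha) (hL.mem (hsub ha)))
        rw [Subgroup.closure_union, Subgroup.closure_eq, Subgroup.closure_eq] at h1
        exact h1
      exact fun x hx => hle (hL.mem hx)
    have hXY : X ≤ Y₀ := (hXU.trans hUK).trans le_sup_right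
    obtain ⟨Y', hY'⟩ := (hωm.mono hYN).exists_iso
    have hm := hωG hYN hXY hgF (fun x hx => hgN.mem hx) (fun x hx => hgK x (hUK (hXU hx))) hY'
    obtain ⟨m, hm', hmv, hmQ⟩ := (isNormal_iff.1 hQn).2 Y' _ hm
    set Y := Y' ⊔ Q
    have hYG : Y ≤ centralizerIn S X' := hm'.le
    have := finite_of_le hYG
    have := finite_mulAut Y
    have hY'n : Y ≤ Subgroup.normalizer (Q : Set Ω) :=
      hYG.trans (le_normalizer_of_stronglyClosed hQsc)
    have hmY' : ∀ y ∈ Y', m y = ω (g (r y)) := hmv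
    have hmY : ∀ y ∈ Y, m y ∈ Y := by
      intro y hy
      have hy' : y ∈ ((Y' ⊔ Q : Subgroup Ω) : Set Ω) := hy
      rw [Subgroup.coe_mul_of_left_le_normalizer_right _ _ (le_sup_left.trans hY'n)] at hy'
      obtain ⟨a, ha, b, hb, rfl⟩ := hy'
      obtain ⟨x, hx, rfl⟩ := hY'.surj ha
      rw [hm'.map_mul (Subgroup.mem_sup_left ha) (Subgroup.mem_sup_right hb), hmY' _ ha,
        hr1 x (hYN hx)]
      exact Subgroup.mul_mem _ (Subgroup.mem_sup_left (hY'.mem (hgY x hx)))
        (Subgroup.mem_sup_right (hmQ.subset ⟨b, hb, rfl⟩))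
    obtain ⟨β, hβ, hβv⟩ := exists_mem_autGroup (hm'.isIso_of_card_le hmY le_rfl)
    obtain ⟨s, hs, hso⟩ := Residual.exists_pPrime_pow β ho
    have hβω : ∀ x ∈ Y₀, autFun β (ω x) = ω (g x) := fun x hx => by
      rw [autFun_apply β (Subgroup.mem_sup_left (hY'.mem hx)), hβv]
      show m (ω x) = _
      rw [hmY' _ (hY'.mem hx), hr1 x (hYN hx)]
    have hpowK : ∀ (k : ℕ), ∀ x ∈ K, autFun (β ^ k) (ω x) = ω x := by
      intro k
      induction k with
      | zero =>
        intro x hx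
        rw [pow_zero, autFun_one (Subgroup.mem_sup_left (hY'.mem (Subgroup.mem_sup_right hx)))]
      | succ k ih =>
        intro x hx
        rw [pow_succ', autFun_mul _ _
          (Subgroup.mem_sup_left (hY'.mem (Subgroup.mem_sup_right hx))), ih x hx,
          hβω x (Subgroup.mem_sup_right hx), hgK x hx]
    have hU'fix : ∀ y ∈ U', autFun (β ^ s) y = y := fun y hy => by
      obtain ⟨x, hx, rfl⟩ := hU'.surj hy
      exact hpowK s x (hUK hx)
    have hU'Y : U' ≤ Y := fun y hy => by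
      obtain ⟨x, hx, rfl⟩ := hU'.surj hy
      exact Subgroup.mem_sup_left (hY'.mem (Subgroup.mem_sup_right (hUK hx)))
    have hQfix := fix_of_fix_centralizer (β := β ^ s) (Q := Q) (U := U') hGp hYG le_sup_right
      hU'Y hY'n hso (fun x hx => isMap_mem_of_stronglyClosed hQsc
        ((mem_autGroup_iff hYG _).1 (Subgroup.pow_mem _ hβ s)).isMap (Subgroup.mem_sup_right hx) hx)
      hU'fix fun x hx hxc => by
        have hxN : x ∈ NU' := hNU' ▸
          centralizerIn_le_normalizerIn S U' ⟨(hQn.1 hx).1, hxc⟩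
        obtain ⟨w, hw, rfl⟩ := hω'.surj hxN
        exact hpowK s w (hWK (hWback w hw hx))
    have h1 : β ^ s = 1 := ResidualSeries.eq_one_of_fix_centric hGp hQc le_sup_right hYG hso hQfix
    have hpowP : ∀ (k : ℕ) (x : P), autFun (β ^ k) (ω x) = ω ((α ^ k) x : Ω) := by
      intro k
      induction k with
      | zero =>
        intro x
        rw [pow_zero, autFun_one (Subgroup.mem_sup_left (hY'.mem (Subgroup.mem_sup_left x.2)))]
        rfl
      | succ k ih =>
        intro x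
        rw [pow_succ', autFun_mul _ _
          (Subgroup.mem_sup_left (hY'.mem (Subgroup.mem_sup_left x.2))), ih x,
          hβω _ (Subgroup.mem_sup_left (SetLike.coe_mem _)), hgα, pow_succ', MulAut.mul_apply]
    refine MulEquiv.ext fun x => Subtype.ext ?_
    have h2 := hpowP s x
    rw [h1, autFun_one (Subgroup.mem_sup_left (hY'.mem (Subgroup.mem_sup_left x.2))),
      Residual.pow_eq_self_of_modEq hs] at h2
    exact (hωm.injOn (hYN (Subgroup.mem_sup_left x.2)) (hYN (Subgroup.mem_sup_left (α x).2)) h2).symm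
  -- conclusion
  obtain ⟨D, hDn, hDh, -⟩ :=
    exists_centralizer_system_cov hNp hNs (ComponentCentral.isNormalIn_inner hNp hNs (isNormal_core N))
  have hY := ComponentCentral.centE_inner (F := N) hNp (isNormal_core N)
  revert D
  generalize centE (innerFusionSystem N.core) N p _ = Y at hY ⊢
  subst hY
  intro D hDn hDh
  refine isConstrained_of_centralizer_core hNp hNs hDn.1 rfl ?_
  have hXK : X ≤ N.core := hXU.trans (le_core hUnN)
  have hcC : centralizerIn (normalizerIn S U) N.core ≤ centralizerIn (normalizerIn S U) X := hCX.symm ▸ inf_le_left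
  have hsub : D.IsSubsystemOf H := fun P φ hφ => by
    obtain ⟨hφN, hP, hv, ψ, hψ, hψP, hψK⟩ := hDh P hφ
    refine (mem_hom_iff φ).2 (hHmap.2 ⟨hP.trans hcC, fun x hx => hcC ?_, homFun ψ,
      (isMap_homFun hψ).mono (sup_le_sup le_rfl hXK), fun x hx => ?_, fun x hx => ?_⟩)
    · rw [homFun_apply φ hx]
      exact hv ⟨x, hx⟩
    · rw [homFun_apply ψ (Subgroup.mem_sup_left hx), homFun_apply φ hx, ← hψP ⟨x, hx⟩]
      rfl
    · rw [homFun_apply ψ (Subgroup.mem_sup_right (hXK hx))]
      exact hψK ⟨x, hXK hx⟩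
  refine isConstrained_of_stronglyClosed hHp hH hDn.1.1 hsub
    (stronglyClosed_iff.2 ⟨hcC, fun P f hf x hx hxY => ?_⟩)
  obtain ⟨-, -, g, hg, hag, -⟩ := hHmap.1 hf
  exact isMap_mem_of_stronglyClosed hDn.1.2.2.2.1 ((hg.mono le_sup_left).congr hag) hx hxY

/-- The dichotomy between characteristic `p`-type and component type. -/
theorem characteristicP_or_component (hS : IsPGroup p S) (hF : F.IsSaturated p) :
    F.IsOfCharacteristicPType p ∨ F.IsOfComponentType p := by
  by_contra hcon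
  push Not at hcon
  obtain ⟨hchar, hcomp⟩ := hcon
  refine hchar fun U hU hUf N hN => ?_
  have := finite_of_le (S := S) (P := (normalizerIn S U)) inf_le_left
  have hNUp : IsPGroup p (normalizerIn S U) := hS.to_le inf_le_left
  have : Group.IsNilpotent (normalizerIn S U) := hNUp.isNilpotent
  have hUN : U ≤ (normalizerIn S U) := le_normalizerIn hUf.1
  haveI : (U.subgroupOf (normalizerIn S U)).Normal :=
    (Subgroup.normal_subgroupOf_iff_le_normalizer hUN).2 fun g hg => hg.2
  have hne : (U.subgroupOf (normalizerIn S U)) ⊓ Subgroup.center (normalizerIn S U) ≠ ⊥ :=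
    CfsgLib.Critical.inf_center_ne_bot _ fun e =>
      hU (by rwa [Subgroup.subgroupOf_eq_bot, disjoint_iff, inf_eq_left.2 hUN] at e)
  set C := U.subgroupOf (normalizerIn S U) ⊓ Subgroup.center (normalizerIn S U)
  have : Nontrivial C := (Subgroup.nontrivial_iff_ne_bot C).2 hne
  have hdvd : p ∣ Nat.card C := by
    obtain ⟨k, hk, hcard⟩ := (hNUp.to_subgroup C).nontrivial_iff_card.1 inferInstance
    rw [hcard]
    exact dvd_pow_self p (by omega)
  obtain ⟨c, hc⟩ := exists_prime_orderOf_dvd_card' p hdvd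
  set x : Ω := ((c : (normalizerIn S U)) : Ω) with hx
  set X := Subgroup.zpowers x with hX
  have hxU : x ∈ U := Subgroup.mem_subgroupOf.1 c.2.1
  have hXU : X ≤ U := Subgroup.zpowers_le.2 hxU
  have hcard' : Nat.card X = p := by
    rw [hX, Nat.card_zpowers, hx, Subgroup.orderOf_coe, Subgroup.orderOf_coe, hc]
  have hXc : (normalizerIn S U) ≤ Subgroup.centralizer (X : Set Ω) := by
    rw [hX, Subgroup.zpowers_eq_closure, Subgroup.centralizer_closure]
    intro g hg
    refine Subgroup.mem_centralizer_iff.2 fun y hy => ?_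
    rw [Set.mem_singleton_iff] at hy
    subst hy
    exact (congrArg Subtype.val (Subgroup.mem_center_iff.1 c.2.2 ⟨g, hg⟩)).symm
  obtain ⟨X', hXX', hX'⟩ := exists_isFullyNormalized (F := F) (hXU.trans hUf.1)
  have hcard'' : Nat.card X' = p := by
    obtain ⟨g, hg⟩ := isConj_iff.1 hXX'
    rw [hg.card_eq, hcard']
  set G := centralizerSystem F X' hX'.1
  have := finite_of_le (S := S) (P := centralizerIn S X') inf_le_left
  have hGs : G.IsSaturated p := isSaturated_centralizerSystem hS hF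
    (isFullyCentralized_of_isFullyNormalized hS hF hX') fun _ => rfl
  refine isConstrained_normalizer hS hF hUf hN hXU hXc hX' hXX' (G := G) (fun _ => rfl) ?_
  by_contra hGc
  obtain ⟨T, D, hD⟩ := exists_component (S := centralizerIn S X') (hS.to_le inf_le_left) hGs hGc
  exact hcomp ⟨X', hcard'', hX', G, fun _ => rfl, T, D, hD⟩

end CfsgLib.Fusion.ComponentExists
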