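import Mathlib
import Cfsg.Agent.Lib.Fusion.PowerIndex
import Cfsg.Prelude.Def_FusionReduction

/-!
Residual limits are unique, and do not change in a normal subsystem of `p`-power index.
-/

set_option autoImplicit false

namespace CfsgLib.Fusion.ResidualLimit

open Cfsg Cfsg.FusionSystem PowerIndex

universe u

variable {Ω : Type u} [Group Ω] {p : ℕ}

/-- The same maps. -/
def Eqv {S S' : Subgroup Ω} (F : FusionSystem S) (F' : FusionSystem S') : Prop :=
  ∀ P : Subgroup Ω, F.Hom P = F'.Hom P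

theorem Eqv.subgroup_eq {S S' : Subgroup Ω} {F : FusionSystem S} {F' : FusionSystem S'}
    (h : Eqv F F') : S = S' := by
  have h1 : S.subtype ∈ F.Hom S := subtype_mem F le_rfl
  have h2 : S'.subtype ∈ F'.Hom S' := subtype_mem F' le_rfl
  rw [h S] at h1
  rw [← h S'] at h2
  exact le_antisymm (F'.le_of_mem h1).1 (F.le_of_mem h2).1

theorem system_ext {S : Subgroup Ω} {F F' : FusionSystem S} (h : Eqv F F') : F = F' := by
  obtain ⟨H, _, _, _, _, _⟩ := F
  obtain ⟨H', _, _, _, _, _⟩ := F'
  congr 1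
  exact funext h

variable {S : Subgroup Ω} [Finite S] [Fact p.Prime]

/-- The residual is unique. -/
theorem pPrimeResidual_eqv {F D D' : FusionSystem S}
    (h : F.IsPPrimeResidual p D) (h' : F.IsPPrimeResidual p D') : Eqv D D' :=
  fun P => Set.Subset.antisymm (h.2.2 D' h'.1 h'.2.1 P) (h'.2.2 D h.1 h.2.1 P)

theorem pResidual_eqv {T U : Subgroup Ω} (hS : IsPGroup p S) {F : FusionSystem S} (hTS : T ≤ S)
    (hTU : T = U) {D : FusionSystem T} {D' : FusionSystem U} (h : D.IsSaturated p)
    (hs : D.IsSubsystemOf F) (hc : Cov F p T D) (h' : D'.IsSaturated p) (hs' : D'.IsSubsystemOf F)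
    (hc' : Cov F p U D') : Eqv D D' := by
  subst hTU
  obtain rfl := eq_of_cov hS hTS h hs hc h' hs' hc'
  exact fun _ => rfl

omit [Fact p.Prime] in
/-- A stable system also passes to itself as a step. -/
theorem exists_step_self {F : FusionSystem S} (h : F.hyperfocalSubgroup p = S)
    (hF : F.IsSaturated p) (h' : F.IsPPrimeResidual p F) :
    ∃ D D' : FusionSystem (F.hyperfocalSubgroup p), F.IsPResidual p D ∧
      D.IsPPrimeResidual p D' ∧ D'.IsResidualLimitOf D' p ∧ Eqv D' F := by
  suffices H : ∀ T : Subgroup Ω, T = S → ∃ D : FusionSystem T, D.IsSaturated p ∧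
      D.IsSubsystemOf F ∧ Cov F p T D ∧ D.IsPPrimeResidual p D ∧
      D.IsResidualLimitOf D p ∧ Eqv D F by
    obtain ⟨D, h1, h2, h3, h4, h5, h6⟩ := H _ h
    exact ⟨D, D, ⟨h1, h2, le_rfl, PowerIndex.cov_iff.1 h3⟩, h4, h5, h6⟩
  intro T hT
  subst hT
  exact ⟨F, hF, fun _ _ hφ => hφ, fun _ _ _ hα _ => hα, h',
    IsResidualLimitOf.stable F p h h', fun _ => rfl⟩

/-- A residual limit factors through the first step. -/
theorem exists_step {U : Subgroup Ω} {F : FusionSystem S} (hF : F.IsSaturated p)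
    {L : FusionSystem U} (hL : L.IsResidualLimitOf F p) :
    ∃ D D' : FusionSystem (F.hyperfocalSubgroup p), F.IsPResidual p D ∧
      D.IsPPrimeResidual p D' ∧ ∃ (V : Subgroup Ω) (L' : FusionSystem V),
        L'.IsResidualLimitOf D' p ∧ Eqv L' L := by
  cases hL with
  | stable _ _ h h' =>
    obtain ⟨D, D', h1, h2, h3, h4⟩ := exists_step_self h hF h'
    exact ⟨D, D', h1, h2, _, D', h3, h4⟩
  | step _ _ D D' h1 h2 h3 => exact ⟨D, D', h1, h2, _, L, h3, fun _ => rfl⟩

/-- A stable system is its only limit. -/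
theorem eqv_stable {U : Subgroup Ω} {F : FusionSystem S} {L : FusionSystem U}
    (hL : L.IsResidualLimitOf F p) :
    IsPGroup p S → F.IsSaturated p → F.hyperfocalSubgroup p = S → F.IsPPrimeResidual p F →
      Eqv L F := by
  rename_i hfin hp
  revert hfin hp
  induction hL with
  | stable F p h h' =>
    intro _ _ _ _ _ _ P
    rfl
  | step F p D D' h1 h2 _ ih =>
    intro hfin hp hS hF hh hres
    have := finite_of_le (S := _) (P := F.hyperfocalSubgroup p) hyperfocal_le
    have hcast : ∀ (T : Subgroup Ω) (E E' : FusionSystem T), Eqv E F → E' = E →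
        E'.hyperfocalSubgroup p = T ∧ E'.IsPPrimeResidual p E' := by
      rintro T E _ hE rfl
      obtain rfl := hE.subgroup_eq
      obtain rfl := system_ext hE
      exact ⟨hh, hres⟩
    have hDF : Eqv D F := pResidual_eqv hS hyperfocal_le hh h1.1 h1.2.1
      (PowerIndex.cov_iff.2 h1.2.2.2) hF (fun _ _ hφ => hφ) (fun _ _ _ hα _ => hα)
    obtain ⟨e1, e2⟩ := hcast _ D D hDF rfl
    have hD'D : D' = D := system_ext (pPrimeResidual_eqv h2 e2)
    obtain ⟨e3, e4⟩ := hcast _ D D' hDF hD'D
    exact fun P => (ih (hS.to_le hyperfocal_le) h2.1 e3 e4 P).trans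
      ((congrArg (fun X => FusionSystem.Hom X P) hD'D).trans (hDF P))

/-- Residual limits are unique. -/
theorem eqv_unique {U : Subgroup Ω} {F : FusionSystem S} {L : FusionSystem U}
    (hL : L.IsResidualLimitOf F p) :
    IsPGroup p S → F.IsSaturated p → ∀ {V : Subgroup Ω} (L' : FusionSystem V),
      L'.IsResidualLimitOf F p → Eqv L L' := by
  rename_i hfin hp
  revert hfin hp
  induction hL with
  | stable F p h h' =>
    intro _ _ hS hF _ L' hL' P
    exact (eqv_stable hL' hS hF h h' P).symm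
  | step F p D D' h1 h2 _ ih =>
    intro hfin hp hS hF V L' hL'
    obtain ⟨D₁, D₁', k1, k2, W, L'', k3, k4⟩ := exists_step hF hL'
    have := finite_of_le (S := _) (P := F.hyperfocalSubgroup p) hyperfocal_le
    obtain rfl : D₁ = D := eq_of_cov hS hyperfocal_le h1.1 h1.2.1
      (PowerIndex.cov_iff.2 h1.2.2.2) k1.1 k1.2.1 (PowerIndex.cov_iff.2 k1.2.2.2)
    obtain rfl : D₁' = D' := system_ext (pPrimeResidual_eqv k2 h2)
    exact fun P => (ih (hS.to_le hyperfocal_le) h2.1 L'' k3 P).trans (k4 P)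

omit [Fact p.Prime] in
/-- A normal subsystem of `p`-power index has the same hyperfocal subgroup. -/
theorem hyperfocal_eq [Fact p.Prime] (hS : IsPGroup p S) {F : FusionSystem S} {T : Subgroup Ω}
    {E : FusionSystem T} (hE : E.IsNormalIn F p) (hidx : E.HasPPowerIndexIn F p) :
    E.hyperfocalSubgroup p = F.hyperfocalSubgroup p := by
  have hI := hE.1.2.2
  have hTS := hI.2.1.1
  have := finite_of_le hTS
  refine le_antisymm (hyperfocal_mono hI.1) ((Subgroup.closure_le _).2 ?_)
  set U := E.hyperfocalSubgroup p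
  have hUn : ∀ s ∈ S, ∀ u ∈ U, s * u * s⁻¹ ∈ U := by
    intro s hs u hu
    induction hu using Subgroup.closure_induction with
    | mem y hy =>
      obtain ⟨R, β, x, hR, hβ, rfl⟩ := hy
      obtain ⟨R', hR'⟩ := (isMap_conj (F := F) (hR.trans hTS) hs).exists_iso
      have hR'T : R' ≤ T := Residual.le_of_iso hI hR hR'
      have htr : ∀ c ∈ E.autGroup R, MulAut.congr hR'.equiv c ∈ E.autGroup R' := fun c hc =>
        Residual.mem_autGroup_transport hI hR hR' hc fun z hz => by
          rw [autFun_apply c hz, ← hR'.congr_apply c ⟨z, hz⟩, autFun_apply _ (hR'.mem hz)]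
          rfl
      let f : E.autGroup R →* E.autGroup R' :=
        ((MulAut.congr hR'.equiv).toMonoidHom.comp (E.autGroup R).subtype).codRestrict _
          fun c => htr c c.2
      have h := inv_mul_mem_hyperfocal (F := E) hR'T
        (CfsgLib.Transfer.map_pResidual_le f ⟨β, hβ, rfl⟩) (hR'.equiv x)
      rw [show (f β : MulAut R') = MulAut.congr hR'.equiv β from rfl, hR'.congr_apply,
        hR'.equiv_apply] at h
      show s * ((x : Ω)⁻¹ * ((β : MulAut R) x : R)) * s⁻¹ ∈ U
      convert h using 1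
      group
    | one => simp
    | mul a b _ _ ha hb =>
      rw [show s * (a * b) * s⁻¹ = s * a * s⁻¹ * (s * b * s⁻¹) by group]
      exact U.mul_mem ha hb
    | inv a _ ha =>
      rw [show s * a⁻¹ * s⁻¹ = (s * a * s⁻¹)⁻¹ by group]
      exact U.inv_mem ha
  rintro _ ⟨P, α, x, hP, hα, rfl⟩
  have hPU : ∀ z ∈ P, ∀ u ∈ U, z * u * z⁻¹ ∈ U := fun z hz => hUn z (hP hz)
  suffices h : ∀ x : P, (x : Ω)⁻¹ * ((α : MulAut P) x : P) ∈ U from h x
  induction hα using Subgroup.closure_induction with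
  | mem a ha =>
    intro x
    have haP := (mem_autGroup_iff hP _).1 a.2
    have hQT : P ⊓ T ≤ T := inf_le_right
    have hdT : ∀ z : P, (z : Ω)⁻¹ * ((a : MulAut P) z : P) ∈ T := fun z =>
      hidx.2.1 (inv_mul_mem_hyperfocal hP (CfsgLib.Transfer.mem_pResidual_of_coprime ha) z)
    have := finite_of_le (hQT.trans hTS)
    have := finite_mulAut (P ⊓ T : Subgroup Ω)
    obtain ⟨a', ha', ha'v⟩ := exists_mem_autGroup ((haP.isMap.mono inf_le_left).isIso_of_card_le
      (fun z hz => ⟨autFun_mem _ hz.1, by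
        have h1 := T.mul_mem hz.2 (hdT ⟨z, hz.1⟩)
        rw [mul_inv_cancel_left] at h1
        rw [autFun_apply _ hz.1]
        exact h1⟩) le_rfl)
    have hpow : ∀ (k : ℕ) (z : (P ⊓ T : Subgroup Ω)),
        ((a' ^ k) z : Ω) = (((a : MulAut P) ^ k) ⟨z, z.2.1⟩ : Ω) := by
      intro k
      induction k with
      | zero => intro z; rfl
      | succ k ih =>
        intro z
        rw [pow_succ', pow_succ', MulAut.mul_apply, MulAut.mul_apply, ha'v, ih z, autFun_coe]
    have ho' : (orderOf a').Coprime p := by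
      refine Nat.Coprime.coprime_dvd_left (orderOf_dvd_of_pow_eq_one ?_) ha
      refine MulEquiv.ext fun z => Subtype.ext ?_
      rw [hpow, ← SubgroupClass.coe_pow, pow_orderOf_eq_one, OneMemClass.coe_one,
        MulAut.one_apply, MulAut.one_apply]
    have ha'E := PowerIndex.cov_iff.2 hidx.2.2 _ hQT a' ha' ho'
    have hsmall : ∀ z : P, (z : Ω) ∈ T → (z : Ω)⁻¹ * ((a : MulAut P) z : P) ∈ U := fun z hz => by
      have h1 := inv_mul_mem_hyperfocal (F := E) hQT (α := ⟨a', ha'E⟩)
        (CfsgLib.Transfer.mem_pResidual_of_coprime (by rw [← Subgroup.orderOf_coe]; exact ho'))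
        ⟨z, z.2, hz⟩
      rw [show (((⟨a', ha'E⟩ : E.autGroup (P ⊓ T)) : MulAut (P ⊓ T : Subgroup Ω)) ⟨z, z.2, hz⟩ :
        Ω) = autFun (a : MulAut P) z from ha'v _, autFun_coe] at h1
      exact h1
    set d : P := x⁻¹ * (a : MulAut P) x with hd
    have hdmem : (d : Ω) ∈ T := hdT x
    have hit : ∀ k : ℕ, (((x * d ^ k)⁻¹ * ((a : MulAut P) ^ k) x : P) : Ω) ∈ U := by
      intro k
      induction k with
      | zero => simp
      | succ k ih =>
        set u : P := (x * d ^ k)⁻¹ * ((a : MulAut P) ^ k) x with hu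
        have huT : (u : Ω) ∈ T := (hyperfocal_le : U ≤ T) ih
        have hdk : ((d ^ k : P) : Ω) ∈ T := by rw [Subgroup.coe_pow]; exact T.pow_mem hdmem k
        have h1 := hsmall (d ^ k) hdk
        have h2 := hsmall u huT
        have e : ((a : MulAut P) ^ (k + 1)) x = x * d * (a : MulAut P) (d ^ k) * (a : MulAut P) u := by
          rw [show x * d = (a : MulAut P) x by rw [hd, mul_inv_cancel_left], ← map_mul, ← map_mul,
            hu, mul_inv_cancel_left, pow_succ', MulAut.mul_apply]
        have e2 : (x * d ^ (k + 1))⁻¹ * ((a : MulAut P) ^ (k + 1)) x =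
            ((d ^ k)⁻¹ * (a : MulAut P) (d ^ k)) * (u * (u⁻¹ * (a : MulAut P) u)) := by
          rw [e, pow_succ']
          group
        rw [e2]
        push_cast
        exact U.mul_mem (by simpa using h1) (U.mul_mem ih (by simpa using h2))
    have ho : (orderOf ((a : MulAut P))).Coprime p := by rw [Subgroup.orderOf_coe]; exact ha
    have h1 := hit (orderOf (a : MulAut P))
    rw [pow_orderOf_eq_one, MulAut.one_apply, mul_inv_rev, inv_mul_cancel_right, Subgroup.coe_inv,
      U.inv_mem_iff] at h1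
    have := finite_of_le hP
    obtain ⟨j, hj⟩ := (hS.to_le hP).exists_card_eq
    obtain ⟨i, -, hi⟩ := (Nat.dvd_prime_pow (Fact.out : p.Prime)).1 (hj ▸ orderOf_dvd_natCard d)
    obtain ⟨m, hm⟩ := exists_pow_eq_self_of_coprime (x := d)
      (n := orderOf (a : MulAut P)) (by rw [hi]; exact ho.pow_right i)
    have h2 := U.pow_mem h1 m
    rw [← Subgroup.coe_pow, hm] at h2
    exact h2
  | one => intro x; simp
  | mul a b _ _ ha hb =>
    intro x
    have h1 := U.mul_mem (hb x) (ha ((b : MulAut P) x))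
    rwa [show (x : Ω)⁻¹ * ((b : MulAut P) x : P) *
      ((((b : MulAut P) x : P) : Ω)⁻¹ * (((a : MulAut P) ((b : MulAut P) x) : P) : Ω)) =
      (x : Ω)⁻¹ * ((((a * b : F.autGroup P) : MulAut P) x : P) : Ω) by
        rw [Subgroup.coe_mul, MulAut.mul_apply]; group] at h1
  | inv a _ ha =>
    intro x
    have h1 := U.inv_mem (ha ((a : MulAut P)⁻¹ x))
    rw [MulAut.apply_inv_self] at h1
    simpa using h1

/-- Limits agree for a normal subsystem of `p`-power index. -/
theorem eqv_of_index (hS : IsPGroup p S) {F : FusionSystem S} (hF : F.IsSaturated p)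
    {T : Subgroup Ω} {E : FusionSystem T} (hE : E.IsNormalIn F p)
    (hidx : E.HasPPowerIndexIn F p) {U V : Subgroup Ω} {L : FusionSystem U}
    {L' : FusionSystem V} (hL : L.IsResidualLimitOf F p) (hL' : L'.IsResidualLimitOf E p) :
    Eqv L L' := by
  have hTS := hE.1.2.2.2.1.1
  have := finite_of_le hTS
  have hh := hyperfocal_eq hS hE hidx
  obtain ⟨D, D', k1, k2, W, M, k3, k4⟩ := exists_step hF hL
  obtain ⟨D₁, D₁', l1, l2, W₁, M₁, l3, l4⟩ := exists_step hE.1.1 hL'
  have hDD : Eqv D D₁ := by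
    refine pResidual_eqv hS hyperfocal_le hh.symm k1.1 k1.2.1 (PowerIndex.cov_iff.2 k1.2.2.2) l1.1
      (fun P => (l1.2.1 P).trans (hE.1.2.2.1 P)) fun P hP α hα ho => ?_
    exact PowerIndex.cov_iff.2 l1.2.2.2 P hP α (PowerIndex.cov_iff.2 hidx.2.2 P
      (hP.trans hyperfocal_le) α hα ho) ho
  suffices key : ∀ (A B : Subgroup Ω), A ≤ S → ∀ (X : FusionSystem A) (X' : FusionSystem A)
      (Y : FusionSystem B) (Y' : FusionSystem B), Eqv X Y → X.IsPPrimeResidual p X' →
      Y.IsPPrimeResidual p Y' → M.IsResidualLimitOf X' p → M₁.IsResidualLimitOf Y' p → Eqv M M₁ from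
    fun P => ((k4 P).symm.trans (key _ _ hyperfocal_le D D' D₁ D₁' hDD k2 l2 k3 l3 P)).trans (l4 P)
  intro A B hA X X' Y Y' hXY hX hY hM hM₁
  obtain rfl := hXY.subgroup_eq
  obtain rfl := system_ext hXY
  have := finite_of_le hA
  obtain rfl : Y' = X' := system_ext (pPrimeResidual_eqv hY hX)
  exact eqv_unique hM (hS.to_le hA) hX.1 _ hM₁

end CfsgLib.Fusion.ResidualLimit
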