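import Cfsg.Agent.Lib.Fusion.Layer
import Cfsg.Agent.Lib.Fusion.ResidualLimit

/-!
Characteristic subsystems of normal subsystems are normal.
-/

set_option autoImplicit false
set_option linter.unusedSectionVars false

namespace CfsgLib.Fusion.Layer

open Cfsg Cfsg.FusionSystem

variable {Ω : Type*} [Group Ω] {S T R : Subgroup Ω} {G : FusionSystem S} {L : FusionSystem T}
  {M : FusionSystem R} {p : ℕ} [Fact p.Prime] [Finite S]

/-- Mutually contained systems over one support are equal. -/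
theorem eq_of_subsystem {M' : FusionSystem R} (h : M.IsSubsystemOf M') (h' : M'.IsSubsystemOf M) :
    M = M' := ResidualLimit.system_ext fun P => Set.Subset.antisymm (h P) (h' P)

/-- A normal subsystem of a normal subsystem, equal to its residual and over a subgroup stable
under the automorphisms of the support, is normal. -/
theorem isNormalIn_of_char (hS : IsPGroup p S) (hG : G.IsSaturated p) (hL : L.IsNormalIn G p)
    (hM : M.IsNormalIn L p) (hself : M.IsSubsystemOf (PPrime.E0 M p))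
    (hstab : ∀ a ∈ G.autGroup T, ∀ x ∈ R, autFun a x ∈ R) : M.IsNormalIn G p := by
  have hI := hL.1.2.2
  have hIM := hM.1.2.2
  have hTS := hI.2.1.1
  have hRT : R ≤ T := hIM.2.1.1
  have hRS : R ≤ S := hRT.trans hTS
  have := finite_of_le hTS
  have := finite_of_le hRS
  have hTp : IsPGroup p T := hS.to_le hTS
  have hRp : IsPGroup p R := hS.to_le hRS
  have hres := PPrime.isPPrimeResidual_E0 hRp hM.1.1
  -- stability
  have hpush : ∀ a ∈ G.autGroup T, ∀ (P : Subgroup Ω) (f : Ω → Ω), IsMap M P f →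
      ∃ f', IsMap M (imageAut a P) f' ∧ ∀ x ∈ P, f' (autFun a x) = autFun a (f x) := by
    intro a ha P f hf
    have h : Transport L L (autFun a⁻¹) (autFun a⁻¹⁻¹) :=
      transport_of_invariant hI (Subgroup.inv_mem _ ha)
    have hpn := h.isNormalIn_push hTp hM
    have hle : R ≤ h.img R := fun x hx => by
      have h1 := h.mem_img hRT (hstab a ha x hx)
      rwa [PPrime.autFun_inv_autFun a (hRT hx)] at h1
    have hsub : M.IsSubsystemOf (h.push M hRT) := fun Q => (hself Q).trans
      (E0_le_of_subnormal (.step (.refl M p) hM) inferInstance hTp hM.1.2.1 _ _ hpn.1 hle Q)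
    obtain ⟨hP, g, hg, hv⟩ := h.isMap_push_iff.1 (isMap_of_subsystem hsub hf)
    have hPT : P ≤ T := hf.le.trans hRT
    have him : imageAut a P ≤ h.symm.img P := fun y hy => by
      rw [← SetLike.mem_coe, ← coe_imageAut a hPT] at hy
      obtain ⟨x, hx, rfl⟩ := hy
      have e : autFun a⁻¹⁻¹ x = autFun a x := by rw [inv_inv]
      exact e ▸ h.symm.mem_img hPT hx
    refine ⟨g, hg.mono him, fun x hx => ?_⟩
    have hm : autFun a x ∈ h.symm.img P := him (mem_imageAut a hx (hPT hx))
    rw [hv x hx, inv_inv, PPrime.autFun_autFun_inv a (hRT (hg.mem hm))]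
  have hsc : G.StronglyClosed R := stronglyClosed_iff.2 ⟨hRS, fun P f hf x hx hxR => by
    obtain ⟨a, ha, f₀, hf₀, hv⟩ :=
      exists_frattini hI inf_le_right (hf.mono (inf_le_left : P ⊓ T ≤ P))
    rw [hv x ⟨hx, hRT hxR⟩]
    exact hstab a ha _ (isMap_mem_of_stronglyClosed hIM.2.1 hf₀ ⟨hx, hRT hxR⟩ hxR)⟩
  have hw : M.IsWeaklyNormalIn G p := by
    refine ⟨hM.1.1, hG, fun P φ hφ => hI.1 P (hIM.1 P hφ), hsc, fun P hPR φ hφ α hα => ?_,
      fun P hP φ hφ => ?_⟩
    · have hαi := (mem_autGroup_iff hRS α).1 hα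
      obtain ⟨a, ha, b, hb, hv⟩ := exists_frattini hI hRT hαi.isMap
      have hbR : ∀ x ∈ R, b x ∈ R := fun x hx => isMap_mem_of_stronglyClosed hIM.2.1 hb hx hx
      obtain ⟨β, hβ, hβv⟩ := exists_mem_autGroup (hb.isIso_of_card_le hbR le_rfl)
      have hf := isMap_homFun hφ
      obtain ⟨f₁, hf₁, hf₁v⟩ := exists_transport hIM hf hβ (coe_imageAut β hPR)
      obtain ⟨f₂, hf₂, hf₂v⟩ := hpush a ha _ f₁ hf₁
      have hαv : ∀ x ∈ R, autFun α x = autFun a (autFun β x) := fun x hx => by
        rw [hv x hx, autFun_apply β hx, hβv]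
      have hm : IsMap M ((P.subgroupOf R).map (R.subtype.comp α.toMonoidHom)) f₂ := by
        refine hf₂.mono ?_
        rintro _ ⟨y, hy, rfl⟩
        have h1 := mem_imageAut a (mem_imageAut β (Subgroup.mem_subgroupOf.1 hy) y.2)
          (hRT (autFun_mem β y.2))
        rw [← hαv _ y.2, autFun_coe] at h1
        exact h1
      obtain ⟨χ, hχ, hχv⟩ := hm.exists_hom
      refine ⟨χ, hχ, fun x hφx hax => (hχv ⟨_, hax⟩).trans ?_⟩
      show f₂ ((α ⟨x, hPR x.2⟩ : R) : Ω) = _
      rw [← autFun_apply α (hPR x.2), hαv _ (hPR x.2),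
        hf₂v _ (mem_imageAut β x.2 (hPR x.2)), hf₁v _ x.2, homFun_coe, ← hαv _ hφx,
        autFun_apply α hφx]
    · obtain ⟨a, ha, f₀, hf₀, hv⟩ := exists_frattini hI (hP.trans hRT) (isMap_homFun hφ)
      obtain ⟨b, hb, f₁, hf₁, hv'⟩ := exists_frattini hIM hP hf₀
      have hcomp : IsMap G R (autFun a ∘ autFun b) :=
        (isMap_of_subsystem hI.1 ((mem_autGroup_iff hRT b).1 hb).isMap).comp
          ((mem_autGroup_iff hTS a).1 ha).isMap fun x hx => hRT (autFun_mem b hx)
      obtain ⟨c, hc, hcv⟩ := exists_mem_autGroup (hcomp.isIso_of_card_le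
        (fun x hx => hstab a ha _ (autFun_mem b hx)) le_rfl)
      obtain ⟨φ₀, hφ₀, hφ₀v⟩ := hf₁.exists_hom
      refine ⟨c, hc, φ₀, hφ₀, fun x hx => ?_⟩
      rw [hcv, ← homFun_coe φ x, hv x x.2, hv' x x.2, ← hφ₀v x]
      rfl
  have heq := eq_of_subsystem hself PPrime.meet_subsystem
  exact heq ▸ Residual.isNormalIn_residual hS hw hres

end CfsgLib.Fusion.Layer
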