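import Cfsg.Agent.Lib.Fusion.ProductSystem
import Cfsg.Agent.Lib.Fusion.FactorSaturated
import Cfsg.Agent.Lib.Fusion.StrongInvariance
import Cfsg.Agent.Lib.Fusion.NormalCentralizerSystem
import Cfsg.Agent.Lib.Fusion.Inner
import Cfsg.Agent.Lib.Fusion.KSystem

/-!
A central product of the inner system on a normal subgroup and a normal subsystem centralising it.
-/

set_option autoImplicit false
set_option linter.unusedSectionVars false

namespace CfsgLib.Fusion.NormalProduct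

open Cfsg Cfsg.FusionSystem
open CfsgLib.Fusion.NormalCentralizer

variable {Ω : Type*} [Group Ω] {S R T U : Subgroup Ω} {F : FusionSystem S} {E : FusionSystem T}
  {D : FusionSystem U} {p : ℕ}

/-- `D` is a central product of the inner system on the normal subgroup `R` and the normal
subsystem `E`, and `E` centralises `R`. -/
structure Data (F : FusionSystem S) (p : ℕ) (R : Subgroup Ω) (E : FusionSystem T)
    (D : FusionSystem U) : Prop where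
  normal : F.IsNormal R
  normalIn : E.IsNormalIn F p
  cent : ∀ P : Subgroup Ω, E.Hom P ⊆ F.centralizerHom R P
  prod : IsCentralProductOf (innerFusionSystem R) E D

theorem theta_mul {θ : ↥(R.prod T) →* Ω}
    (hθ₁ : ∀ (x : Ω) (hx : ((x, 1) : Ω × Ω) ∈ R.prod T), θ ⟨(x, 1), hx⟩ = x)
    (hθ₂ : ∀ (y : Ω) (hy : ((1, y) : Ω × Ω) ∈ R.prod T), θ ⟨(1, y), hy⟩ = y)
    {u v : Ω} (hu : u ∈ R) (hv : v ∈ T) (hx : (u, v) ∈ R.prod T) : θ ⟨(u, v), hx⟩ = u * v := by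
  have h1 : ((u, 1) : Ω × Ω) ∈ R.prod T := ⟨hu, T.one_mem⟩
  have h2 : ((1, v) : Ω × Ω) ∈ R.prod T := ⟨R.one_mem, hv⟩
  have e : (⟨(u, v), hx⟩ : ↥(R.prod T)) = ⟨(u, 1), h1⟩ * ⟨(1, v), h2⟩ :=
    Subtype.ext (Prod.ext (mul_one u).symm (one_mul v).symm)
  rw [e, map_mul, hθ₁ u h1, hθ₂ v h2]

theorem Data.le (h : Data F p R E D) : T ≤ S := h.normalIn.1.2.2.2.1.1

theorem Data.le_centralizerIn (h : Data F p R E D) : T ≤ centralizerIn S R :=
  (h.cent T (E.conj_mem le_rfl T.one_mem)).2.1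

theorem Data.commute (h : Data F p R E D) {u v : Ω} (hu : u ∈ R) (hv : v ∈ T) : u * v = v * u :=
  Subgroup.mem_centralizer_iff.1 (h.le_centralizerIn hv).2 u hu

theorem Data.le_centralizerIn' (h : Data F p R E D) : R ≤ centralizerIn S T := fun u hu =>
  ⟨h.normal.1 hu, Subgroup.mem_centralizer_iff.2 fun _ hv => (h.commute hu hv).symm⟩

theorem Data.eq_sup (h : Data F p R E D) : U = R ⊔ T := by
  obtain ⟨D₀, -, Z, θ, -, -, -, hθ₁, hθ₂, hfac⟩ := h.prod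
  rw [← hfac.2.2.1]
  apply le_antisymm
  · rintro _ ⟨⟨⟨u, v⟩, hu, hv⟩, rfl⟩
    have e := theta_mul (u := u) (v := v) hθ₁ hθ₂ hu hv ⟨hu, hv⟩
    change θ ⟨(u, v), ⟨hu, hv⟩⟩ ∈ _
    rw [e]
    exact Subgroup.mul_mem_sup hu hv
  · exact sup_le (fun u hu => ⟨⟨(u, 1), hu, T.one_mem⟩, hθ₁ u _⟩)
      fun v hv => ⟨⟨(1, v), R.one_mem, hv⟩, hθ₂ v _⟩

theorem Data.exists_mul (h : Data F p R E D) {x : Ω} (hx : x ∈ U) :
    ∃ u ∈ R, ∃ v ∈ T, u * v = x := by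
  obtain ⟨D₀, -, Z, θ, -, -, -, hθ₁, hθ₂, hfac⟩ := h.prod
  obtain ⟨⟨⟨u, v⟩, hu, hv⟩, rfl⟩ := hfac.2.2.1.ge hx
  refine ⟨u, hu, v, hv, ?_⟩
  exact (theta_mul hθ₁ hθ₂ hu hv _).symm

theorem Data.le_S (h : Data F p R E D) : U ≤ S := h.eq_sup.le.trans (sup_le h.normal.1 h.le)

/-- The second coordinates of the decompositions of the elements of `P`. -/
def second (R T P : Subgroup Ω) : Subgroup Ω := (P ⊔ R) ⊓ T

theorem mem_second {P : Subgroup Ω} {u v : Ω} (hu : u ∈ R) (hv : v ∈ T) (hx : u * v ∈ P) :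
    v ∈ second R T P := by
  refine ⟨?_, hv⟩
  have h : u⁻¹ * (u * v) ∈ P ⊔ R :=
    Subgroup.mul_mem _ (Subgroup.mem_sup_right (R.inv_mem hu)) (Subgroup.mem_sup_left hx)
  rwa [inv_mul_cancel_left] at h

/-- The maps of the product. -/
theorem Data.isMap_iff (h : Data F p R E D) {P : Subgroup Ω} {f : Ω → Ω} :
    IsMap D P f ↔ P ≤ U ∧ ∃ r ∈ R, ∃ (P₂ : Subgroup Ω) (e : Ω → Ω), IsMap E P₂ e ∧
      ∀ u ∈ R, ∀ v ∈ T, u * v ∈ P → v ∈ P₂ ∧ f (u * v) = r * u * r⁻¹ * e v := by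
  obtain ⟨D₀, hD₀, Z, θ, -, -, -, hθ₁, hθ₂, hfac⟩ := h.prod
  have hv : ∀ {u v : Ω}, u ∈ R → v ∈ T → homExt θ (u, v) = u * v := by
    intro u v hu hv
    rw [homExt_apply θ (show (u, v) ∈ R.prod T from ⟨hu, hv⟩), theta_mul hθ₁ hθ₂ hu hv]
  have hmem : ∀ {u v : Ω}, ((u, v) ∈ preimageAlong θ P ↔ u ∈ R ∧ v ∈ T ∧ u * v ∈ P) := by
    intro u v
    rw [mem_preimageAlong]
    constructor
    · rintro ⟨⟨hu, hv'⟩, hx⟩
      exact ⟨hu, hv', by rwa [hv hu hv'] at hx⟩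
    · rintro ⟨hu, hv', hx⟩
      exact ⟨⟨hu, hv'⟩, by rwa [hv hu hv']⟩
  rw [isMap_factor_iff hfac]
  constructor
  · rintro ⟨hP, g, hg, hgv⟩
    obtain ⟨-, g₁, g₂, hg₁, hg₂, hgp⟩ := (isMap_product_iff hD₀).1 hg
    obtain ⟨-, r, hr, hg₁v⟩ := isMap_inner_iff.1 hg₁
    refine ⟨hP, r, hr, _, g₂, hg₂, fun u hu v hv' hx => ?_⟩
    have hm := hmem.2 ⟨hu, hv', hx⟩
    refine ⟨⟨_, hm, rfl⟩, ?_⟩
    have h1 := hgv _ hm
    have h0 : g₁ u = r * u * r⁻¹ := hg₁v u ⟨_, hm, rfl⟩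
    rw [hv hu hv', hgp _ hm] at h1
    simp only at h1
    rw [h0] at h1
    have h2 : g₂ v ∈ T := hg₂.mem ⟨_, hm, rfl⟩
    rwa [hv (R.mul_mem (R.mul_mem hr hu) (R.inv_mem hr)) h2] at h1
  · rintro ⟨hP, r, hr, P₂, e, he, hfv⟩
    refine ⟨hP, fun w => (r * w.1 * r⁻¹, e w.2), (isMap_product_iff hD₀).2
      ⟨preimageAlong_le θ P, fun x => r * x * r⁻¹, e, ?_, ?_, fun w _ => rfl⟩, ?_⟩
    · refine isMap_inner_iff.2 ⟨?_, r, hr, fun x _ => rfl⟩
      rintro _ ⟨⟨u, v⟩, hw, rfl⟩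
      exact (hmem.1 hw).1
    · refine he.mono ?_
      rintro _ ⟨⟨u, v⟩, hw, rfl⟩
      obtain ⟨hu, hv', hx⟩ := hmem.1 hw
      exact (hfv u hu v hv' hx).1
    · rintro ⟨u, v⟩ hw
      obtain ⟨hu, hv', hx⟩ := hmem.1 hw
      obtain ⟨h2, h3⟩ := hfv u hu v hv' hx
      rw [hv hu hv', h3]
      exact (hv (R.mul_mem (R.mul_mem hr hu) (R.inv_mem hr)) (he.mem h2)).symm

/-- A map of `E` extends to a map of `F` fixing `R`. -/
theorem Data.exists_fix (h : Data F p R E D) {P₂ : Subgroup Ω} {e : Ω → Ω} (he : IsMap E P₂ e) :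
    ∃ g, IsMap F (P₂ ⊔ R) g ∧ (∀ x ∈ P₂, g x = e x) ∧ ∀ x ∈ R, g x = x := by
  obtain ⟨φ, hφ, hφv⟩ := he
  obtain ⟨-, -, -, ψ, hψ, hag, hfix⟩ := h.cent P₂ hφ
  refine ⟨homFun ψ, isMap_homFun hψ, fun x hx => ?_, fun x hx => ?_⟩
  · rw [homFun_apply ψ (Subgroup.mem_sup_left hx)]
    exact (hag ⟨x, hx⟩).trans (hφv ⟨x, hx⟩)
  · rw [homFun_apply ψ (Subgroup.mem_sup_right hx)]
    exact hfix ⟨x, hx⟩

theorem Data.isSubsystemOf (h : Data F p R E D) : D.IsSubsystemOf F := by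
  intro P φ hφ
  obtain ⟨hP, r, hr, P₂, e, he, hf⟩ := h.isMap_iff.1 (isMap_homFun hφ)
  obtain ⟨g, hg, hge, hgR⟩ := h.exists_fix he
  have hle : P ≤ P₂ ⊔ R := fun x hx => by
    obtain ⟨u, hu, v, hv, rfl⟩ := h.exists_mul (hP hx)
    exact Subgroup.mul_mem _ (Subgroup.mem_sup_right hu)
      (Subgroup.mem_sup_left (hf u hu v hv hx).1)
  refine (mem_hom_iff φ).2 ((hg.mono hle).comp (isMap_conj (F := F) le_rfl (h.normal.1 hr))
    (fun x hx => hg.mem (hle hx)) |>.congr fun x hx => ?_)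
  obtain ⟨u, hu, v, hv, rfl⟩ := h.exists_mul (hP hx)
  obtain ⟨hv2, hfx⟩ := hf u hu v hv hx
  have hev : e v ∈ T := he.mem hv2
  rw [hfx]
  show r * g (u * v) * r⁻¹ = _
  rw [hg.map_mul (Subgroup.mem_sup_right hu) (Subgroup.mem_sup_left hv2), hgR u hu, hge v hv2]
  calc r * (u * e v) * r⁻¹ = r * u * (e v * r⁻¹) := by group
    _ = r * u * r⁻¹ * e v := by rw [← h.commute (R.inv_mem hr) hev, ← mul_assoc]

variable [Fact p.Prime] [Finite S]

theorem Data.stronglyClosed (h : Data F p R E D) : F.StronglyClosed U := by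
  refine stronglyClosed_iff.2 ⟨h.le_S, fun P f hf x hx hxU => ?_⟩
  obtain ⟨g, hg, hgv, hgR⟩ := (isNormal_iff.1 h.normal).2 P f hf
  obtain ⟨u, hu, v, hv, rfl⟩ := h.exists_mul hxU
  have hvP : v ∈ P ⊔ R := (mem_second hu hv hx).1
  rw [← hgv _ hx, hg.map_mul (Subgroup.mem_sup_right hu) hvP, h.eq_sup]
  exact Subgroup.mul_mem_sup (hgR.le ⟨u, hu, rfl⟩)
    (isMap_mem_of_stronglyClosed h.normalIn.1.2.2.2.1 hg hvP hv)

theorem Data.exists_first (h : Data F p R E D) {P : Subgroup Ω} (hP : P ≤ U) {v : Ω}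
    (hv : v ∈ second R T P) : ∃ u ∈ R, u * v ∈ P := by
  have hn : P ≤ Subgroup.normalizer (R : Set Ω) :=
    (hP.trans h.le_S).trans (le_normalizer_of_isNormal h.normal)
  have hv' : v ∈ ((P ⊔ R : Subgroup Ω) : Set Ω) := hv.1
  rw [Subgroup.coe_mul_of_left_le_normalizer_right _ _ hn] at hv'
  obtain ⟨q, hq, w, hw, rfl⟩ := hv'
  exact ⟨w⁻¹, R.inv_mem hw, by rw [h.commute (R.inv_mem hw) hv.2, mul_inv_cancel_right]; exact hq⟩

theorem Data.strongInvariant (h : Data F p R E D) : StrongInvariant D F := by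
  classical
  intro P Q f g hPQ hQU hf hfQ hg P' hP'
  obtain ⟨hP, r, hr, P₂, e, he, hfv⟩ := h.isMap_iff.1 hf
  obtain ⟨G, hG, hGv, hGR⟩ := (isNormal_iff.1 h.normal).2 Q g hg
  have hT := h.normalIn.1.2.2.2.1
  have hGmem : ∀ u ∈ R, G u ∈ R := fun u hu => hGR.le ⟨u, hu, rfl⟩
  have hA₁ : second R T P ≤ P₂ := fun v hv => by
    obtain ⟨u, hu, hx⟩ := h.exists_first hP hv
    exact (hfv u hu v hv.2 hx).1
  have hA₂ : ∀ v ∈ second R T P, e v ∈ second R T Q := by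
    intro v hv
    obtain ⟨u, hu, hx⟩ := h.exists_first hP hv
    obtain ⟨h2, h3⟩ := hfv u hu v hv.2 hx
    exact mem_second (R.mul_mem (R.mul_mem hr hu) (R.inv_mem hr)) (he.mem h2) (h3 ▸ hfQ _ hx)
  have hBle : second R T Q ≤ Q ⊔ R := inf_le_left
  obtain ⟨P'₂, hP'₂⟩ : ∃ K : Subgroup Ω, G '' (second R T P : Set Ω) = K := by
    obtain ⟨K, hK⟩ := (hG.mono ((inf_le_left : second R T P ≤ _).trans
      (sup_le_sup_right hPQ R))).exists_iso
    exact ⟨K, hK.image_eq⟩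
  obtain ⟨e', he', he'v⟩ := strongInvariant_of_invariant h.normalIn.1.2.2 (second R T P)
    (second R T Q) e G (inf_le_inf_right _ (sup_le_sup_right hPQ R)) inf_le_right
    (he.mono hA₁) hA₂ (hG.mono hBle) P'₂ hP'₂
  have hP'U : P' ≤ U := fun y hy => by
    obtain ⟨x, hx, rfl⟩ := hP'.ge hy
    exact isMap_mem_of_stronglyClosed h.stronglyClosed hg (hPQ hx) (hP hx)
  have hrr := R.inv_mem hr
  refine ⟨fun y => if hy : ∃ x ∈ P, g x = y then g (f hy.choose) else 1, h.isMap_iff.2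
    ⟨hP'U, G r, hGmem r hr, P'₂, e', he', fun u' hu' v' hv' hy => ?_⟩, fun x hx => ?_⟩
  · have hex : ∃ x ∈ P, g x = u' * v' := hP'.ge hy
    obtain ⟨hx, hxe⟩ := hex.choose_spec
    set x := hex.choose
    obtain ⟨u₀, hu₀, hu₀e⟩ := hGR.ge hu'
    have huR : u₀ ∈ R := hu₀
    have hv : u₀⁻¹ * x ∈ Q ⊔ R := Subgroup.mul_mem _ (Subgroup.mem_sup_right (R.inv_mem huR))
      (Subgroup.mem_sup_left (hPQ hx))
    have hGv' : G (u₀⁻¹ * x) = v' := by
      rw [hG.map_mul (Subgroup.mem_sup_right (R.inv_mem huR)) (Subgroup.mem_sup_left (hPQ hx)),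
        hG.map_inv (Subgroup.mem_sup_right huR), hu₀e, hGv x (hPQ hx), hxe, inv_mul_cancel_left]
    have hvT : u₀⁻¹ * x ∈ T := by
      obtain ⟨K, hK⟩ := hG.exists_iso
      obtain ⟨k, hk, hk1, -⟩ := hK.exists_symm
      rw [← hk1 _ hv, hGv']
      exact isMap_mem_of_stronglyClosed hT hk.isMap (hGv' ▸ hK.mem hv) hv'
    have hxv : u₀ * (u₀⁻¹ * x) ∈ P := by rwa [mul_inv_cancel_left]
    refine ⟨hP'₂.le ⟨_, mem_second huR hvT hxv, hGv'⟩, ?_⟩
    rw [dif_pos hex]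
    show g (f x) = _
    obtain ⟨h2, h3⟩ := hfv u₀ huR _ hvT hxv
    rw [mul_inv_cancel_left] at h3
    have hru : r * u₀ * r⁻¹ ∈ R := R.mul_mem (R.mul_mem hr huR) hrr
    rw [← hGv _ (hfQ x hx), h3,
      hG.map_mul (Subgroup.mem_sup_right hru) (hBle (hA₂ _ (mem_second huR hvT hxv))),
      hG.map_mul (Subgroup.mem_sup_right (R.mul_mem hr huR)) (Subgroup.mem_sup_right hrr),
      hG.map_mul (Subgroup.mem_sup_right hr) (Subgroup.mem_sup_right huR),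
      hG.map_inv (Subgroup.mem_sup_right hr), hu₀e, ← he'v _ (mem_second huR hvT hxv), hGv']
  · have hex : ∃ z ∈ P, g z = g x := ⟨x, hx, rfl⟩
    show dite _ _ _ = _
    rw [dif_pos hex]
    obtain ⟨hz, hze⟩ := hex.choose_spec
    rw [hg.injOn (hPQ hz) (hPQ hx) hze]

theorem Data.isSaturated (h : Data F p R E D) (hS : IsPGroup p S) : D.IsSaturated p := by
  obtain ⟨D₀, hD₀, Z, θ, hZ, -, -, -, -, hfac⟩ := h.prod
  have hRS := h.normal.1
  have := finite_of_le hRS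
  have := finite_of_le h.le
  haveI : Finite (R.prod T) := Finite.of_equiv _ (Subgroup.prodEquiv R T).symm.toEquiv
  have hp : IsPGroup p (R.prod T) := by
    intro x
    obtain ⟨a, ha⟩ := hS.to_le hRS ⟨_, x.2.1⟩
    obtain ⟨b, hb⟩ := hS.to_le h.le ⟨_, x.2.2⟩
    refine ⟨a + b, Subtype.ext (Prod.ext ?_ ?_)⟩
    · show (x : Ω × Ω).1 ^ p ^ (a + b) = 1
      rw [pow_add, pow_mul, show (x : Ω × Ω).1 ^ p ^ a = 1 from congrArg Subtype.val ha, one_pow]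
    · show (x : Ω × Ω).2 ^ p ^ (a + b) = 1
      rw [pow_add, mul_comm, pow_mul, show (x : Ω × Ω).2 ^ p ^ b = 1 from congrArg Subtype.val hb,
        one_pow]
  have hsat : D₀.IsSaturated p := isSaturated_product (hS.to_le hRS) (hS.to_le h.le)
    (isSaturated_inner (hS.to_le hRS)) h.normalIn.1.1 hD₀
  refine isSaturated_factor hp hsat (stronglyClosed_iff.2 ⟨hfac.1, fun P f hf x hx hxZ => ?_⟩) hfac
  obtain ⟨g, hg, hgv, hgZ⟩ := (isCentral_iff.1 (isCentral_center D₀)).2 P f hf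
  rw [← hgv x hx, hgZ x (hZ hxZ)]
  exact hxZ

theorem Data.isNormalIn (h : Data F p R E D) (hS : IsPGroup p S) (hF : F.IsSaturated p) :
    D.IsNormalIn F p := by
  refine ⟨⟨h.isSaturated hS, hF, (isInvariantIn_iff_strongInvariant hS hF h.isSubsystemOf
    h.stronglyClosed).2 h.strongInvariant⟩, fun α hα => ?_⟩
  have hUS := h.le_S
  obtain ⟨-, r, hr, P₂, e, he, hv⟩ := h.isMap_iff.1 ((mem_autGroup_iff le_rfl α).1 hα).isMap
  have hTS := h.le
  have hTp : IsPGroup p T := hS.to_le hTS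
  have := finite_of_le hTS
  have hT₂ : T ≤ P₂ := fun v hv' => (hv 1 R.one_mem v hv'
    (h.eq_sup ▸ Subgroup.mem_sup_right (by rw [one_mul]; exact hv'))).1
  have heT := (he.mono hT₂).isIso_of_card_le (fun x hx => (he.mono hT₂).mem hx) le_rfl
  obtain ⟨a, ha, hav⟩ := exists_mem_autGroup heT
  obtain ⟨x, hx, m, hmo, hxv⟩ := Residual.exists_inner_mul hTp h.normalIn.1.1 ha
  have hTc : E.IsCentric T := ⟨le_rfl, fun Q hQ => by
    obtain ⟨f, hf⟩ := isConj_iff.1 hQ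
    rw [Subgroup.eq_of_le_of_card_ge hf.le_right hf.card_eq.ge]
    exact inf_le_left⟩
  obtain ⟨δ, hδ, hδv⟩ := exists_isExt hS hF h.normalIn hTc (Subgroup.pow_mem _ ha m) hmo
  have hRc : R ≤ centE E F p h.normalIn.1.2.2.2.1.1 :=
    le_centE hS hF h.normalIn h.le_centralizerIn' h.cent
  have hδm := hδ.isMap hTS
  have hg : r * x⁻¹ ∈ S := S.mul_mem (h.normal.1 hr) (S.inv_mem (hTS hx))
  have hVle : U ⊔ centralizerIn S U ≤ T ⊔ centralizerIn S T := by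
    refine sup_le (h.eq_sup.le.trans (sup_le (h.le_centralizerIn'.trans le_sup_right) le_sup_left))
      (le_sup_of_le_right fun c hc => ⟨hc.1, ?_⟩)
    exact Subgroup.centralizer_le (show (T : Set Ω) ⊆ U from h.eq_sup ▸ (le_sup_right : T ≤ R ⊔ T))
      hc.2
  have hVS : U ⊔ centralizerIn S U ≤ S := sup_centralizerIn_le hUS
  have hFm : IsMap F (U ⊔ centralizerIn S U) (fun y => r * x⁻¹ * autFun δ y * (r * x⁻¹)⁻¹) :=
    (hδm.mono hVle).comp (isMap_conj (F := F) le_rfl hg) fun y hy => hδm.mem (hVle hy)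
  have hxU : x ∈ U := h.eq_sup ▸ Subgroup.mem_sup_right hx
  have hrU : r ∈ U := h.eq_sup ▸ Subgroup.mem_sup_left hr
  have hgU : r * x⁻¹ ∈ U := U.mul_mem hrU (U.inv_mem hxU)
  have hUv : ∀ y ∈ U, r * x⁻¹ * autFun δ y * (r * x⁻¹)⁻¹ = autFun α y := by
    intro y hy
    obtain ⟨u, hu, v, hv', rfl⟩ := h.exists_mul hy
    rw [hδm.map_mul (Subgroup.mem_sup_right (h.le_centralizerIn' hu)) (Subgroup.mem_sup_left hv'),
      (hRc hu).2 T δ hTc hδ, hδv v hv', autFun_apply _ hv', hxv, (hv u hu v hv' hy).2, ← hav ⟨v, hv'⟩]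
    have hw : ((a ⟨v, hv'⟩ : T) : Ω) ∈ T := SetLike.coe_mem _
    generalize ((a ⟨v, hv'⟩ : T) : Ω) = w at hw ⊢
    have e1 : x⁻¹ * u = u * x⁻¹ := (h.commute hu (T.inv_mem hx)).symm
    calc r * x⁻¹ * (u * (x * w * x⁻¹)) * (r * x⁻¹)⁻¹ = r * (x⁻¹ * u) * x * w * r⁻¹ := by group
      _ = r * u * (w * r⁻¹) := by rw [e1]; group
      _ = r * u * r⁻¹ * w := by rw [← h.commute (R.inv_mem hr) hw, mul_assoc (r * u)]
  have hCv : ∀ c ∈ centralizerIn S U,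
      c⁻¹ * (r * x⁻¹ * autFun δ c * (r * x⁻¹)⁻¹) ∈ U ⊓ Subgroup.centralizer (U : Set Ω) := by
    intro c hc
    have hcT : c ∈ centralizerIn S T :=
      ⟨hc.1, Subgroup.centralizer_le (show (T : Set Ω) ⊆ U from
        h.eq_sup ▸ (le_sup_right : T ≤ R ⊔ T)) hc.2⟩
    have hd := hδ.mod c hcT
    have hδc := hδ.mem_centralizerIn hTS hcT
    have hdc : c⁻¹ * autFun δ c ∈ centralizerIn S T :=
      Subgroup.mul_mem _ (Subgroup.inv_mem _ hcT) hδc
    have hdU : c⁻¹ * autFun δ c ∈ Subgroup.centralizer (U : Set Ω) := by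
      refine Subgroup.mem_centralizer_iff.2 fun y hy => ?_
      obtain ⟨u, hu, v, hv', rfl⟩ := h.exists_mul hy
      rw [mul_assoc, Subgroup.mem_centralizer_iff.1 hdc.2 v hv', ← mul_assoc, h.commute hu hd,
        mul_assoc]
    have hδcU : autFun δ c ∈ Subgroup.centralizer (U : Set Ω) := by
      rw [show autFun δ c = c * (c⁻¹ * autFun δ c) by group]
      exact Subgroup.mul_mem _ hc.2 hdU
    rw [Subgroup.mem_centralizer_iff.1 hδcU _ hgU, mul_inv_cancel_right]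
    exact ⟨h.eq_sup ▸ Subgroup.mem_sup_right hd, hdU⟩
  have hmaps : ∀ y ∈ U ⊔ centralizerIn S U,
      r * x⁻¹ * autFun δ y * (r * x⁻¹)⁻¹ ∈ U ⊔ centralizerIn S U := by
    intro y hy
    refine mem_of_mem_sup hFm le_sup_left le_sup_right (fun z hz => ?_) (fun z hz => ?_) y hy
    · exact Subgroup.mem_sup_left (by rw [hUv z hz]; exact autFun_mem α hz)
    · have := hCv z hz
      exact (mul_mem_cancel_left (Subgroup.inv_mem _ (Subgroup.mem_sup_right hz))).1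
        (Subgroup.mem_sup_left this.1)
  have := finite_of_le hVS
  obtain ⟨β, hβ, hβv⟩ := exists_mem_autGroup (hFm.isIso_of_card_le hmaps le_rfl)
  refine ⟨β, hβ, fun y => ?_, fun c hc => ?_⟩
  · rw [hβv]
    exact (hUv y y.2).trans (autFun_coe α y)
  · rw [hβv]
    exact hCv c hc

/-- A subgroup of the normal part that centralises the support is central in the product. -/
theorem Data.isCentral_of_le (h : Data F p R E D) {Y : Subgroup Ω} (hY : Y ≤ R)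
    (hYc : ∀ y ∈ Y, ∀ x ∈ U, x * y = y * x) : D.IsCentral Y := by
  have hYU : Y ≤ U := hY.trans (h.eq_sup ▸ le_sup_left)
  refine isCentral_iff.2 ⟨hYU, fun P f hf => ?_⟩
  obtain ⟨hP, r, hr, P₂, e, he, hfv⟩ := h.isMap_iff.1 hf
  have hrU : r ∈ U := h.eq_sup ▸ Subgroup.mem_sup_left hr
  obtain ⟨g, hg, hge, hgR⟩ := h.exists_fix he
  have hA : ∀ x ∈ P, x ∈ P₂ ⊔ R := fun x hx => by
    obtain ⟨u, hu, v, hv, rfl⟩ := h.exists_mul (hP hx)
    exact Subgroup.mul_mem _ (Subgroup.mem_sup_right hu)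
      (Subgroup.mem_sup_left (hfv u hu v hv hx).1)
  refine ⟨fun x => r * g x * r⁻¹, h.isMap_iff.2 ⟨sup_le hP hYU, r, hr, P₂, e, he,
    fun u hu v hv hx => ?_⟩, fun x hx => ?_, fun y hy => ?_⟩
  · have hn : P ≤ Subgroup.normalizer (Y : Set Ω) := fun x hx =>
      mem_normalizer_of_conj_mem (hYU.trans h.le_S) fun y hy => by
        rw [hYc y hy x (hP hx), mul_inv_cancel_right]; exact hy
    have hx' : u * v ∈ ((P ⊔ Y : Subgroup Ω) : Set Ω) := hx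
    rw [Subgroup.coe_mul_of_left_le_normalizer_right _ _ hn] at hx'
    obtain ⟨q, hq, y, hy, hqy⟩ := hx'
    have hq' : y⁻¹ * u * v = q := by
      rw [mul_assoc, ← hqy]
      show y⁻¹ * (q * y) = q
      rw [hYc y hy q (hP hq), inv_mul_cancel_left]
    have hv₂ := (hfv (y⁻¹ * u) (R.mul_mem (R.inv_mem (hY hy)) hu) v hv (hq' ▸ hq)).1
    refine ⟨hv₂, ?_⟩
    rw [hg.map_mul (Subgroup.mem_sup_right hu) (Subgroup.mem_sup_left hv₂), hgR u hu, hge v hv₂]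
    calc r * (u * e v) * r⁻¹ = r * u * (e v * r⁻¹) := by group
      _ = r * u * r⁻¹ * e v := by
        rw [← h.commute (R.inv_mem hr) (he.mem hv₂), mul_assoc (r * u)]
  · obtain ⟨u, hu, v, hv, rfl⟩ := h.exists_mul (hP hx)
    obtain ⟨hv₂, hfx⟩ := hfv u hu v hv hx
    show r * g (u * v) * r⁻¹ = _
    rw [hfx, hg.map_mul (Subgroup.mem_sup_right hu) (Subgroup.mem_sup_left hv₂), hgR u hu,
      hge v hv₂]
    calc r * (u * e v) * r⁻¹ = r * u * (e v * r⁻¹) := by group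
      _ = r * u * r⁻¹ * e v := by
        rw [← h.commute (R.inv_mem hr) (he.mem hv₂), mul_assoc (r * u)]
  · show r * g y * r⁻¹ = y
    rw [hgR y (hY hy), hYc y hy r hrU, mul_inv_cancel_right]

end CfsgLib.Fusion.NormalProduct
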