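import Cfsg.Agent.Lib.Fusion.Layer
import Cfsg.Agent.Lib.Fusion.NormalProduct
import Cfsg.Agent.Lib.Fusion.ComponentCentral

/-!
The central product of a normal subgroup and a normal subsystem centralising it exists.
-/

set_option autoImplicit false
set_option linter.unusedSectionVars false

namespace CfsgLib.Fusion.GenFitting

open Cfsg Cfsg.FusionSystem

variable {Ω : Type*} [Group Ω] {S R T : Subgroup Ω} {F : FusionSystem S} {E : FusionSystem T}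
  {p : ℕ} [Fact p.Prime] [Finite S]

/-- The intersection is central in the subsystem. -/
theorem isCentral_inf (hS : IsPGroup p S) (hR : F.IsNormal R) (hE : E.IsNormalIn F p)
    (hc : ∀ P : Subgroup Ω, E.Hom P ⊆ F.centralizerHom R P) : E.IsCentral (R ⊓ T) := by
  obtain ⟨hle, hext⟩ := isNormal_iff.1
    (isNormal_inf_subsystem hS hE.1.1 hE.1.2.2.1 hE.1.2.2.2.1 hR)
  refine isCentral_iff.2 ⟨hle, fun P e he => ?_⟩
  obtain ⟨g, hg, hag, -⟩ := hext P e he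
  refine ⟨g, hg, hag, fun x hx => ?_⟩
  obtain ⟨φ, hφ, hv⟩ := hg
  obtain ⟨-, -, -, ψ, -, hψP, hψR⟩ := hc _ hφ
  have h1 := hψP ⟨x, Subgroup.mem_sup_right hx⟩
  have h2 := hψR ⟨x, hx.1⟩
  rw [hv] at h1
  exact h1.symm.trans h2

theorem exists_centralProduct (hS : IsPGroup p S) (hR : F.IsNormal R) (hE : E.IsNormalIn F p)
    (hc : ∀ P : Subgroup Ω, E.Hom P ⊆ F.centralizerHom R P) :
    ∃ (U : Subgroup Ω) (D : FusionSystem U), IsCentralProductOf (innerFusionSystem R) E D := by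
  have hTC : T ≤ centralizerIn S R := (hc T (E.conj_mem le_rfl T.one_mem)).2.1
  have hcomm : ∀ u ∈ R, ∀ v ∈ T, u * v = v * u := fun u hu v hv =>
    Subgroup.mem_centralizer_iff.1 (hTC hv).2 u hu
  have hRS := hR.1
  have := finite_of_le hRS
  have := finite_of_le (hE.1.2.2.2.1.1)
  have : Finite ↥(R.prod T) := Finite.of_equiv _ (R.prodEquiv T).toEquiv.symm
  obtain ⟨D₀, hD₀⟩ := exists_productSystem (innerFusionSystem R) E
  let θ : ↥(R.prod T) →* Ω := MonoidHom.mk' (fun x => x.1.1 * x.1.2) fun a b => by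
    show (a.1.1 * b.1.1) * (a.1.2 * b.1.2) = a.1.1 * a.1.2 * (b.1.1 * b.1.2)
    calc (a.1.1 * b.1.1) * (a.1.2 * b.1.2) = a.1.1 * (b.1.1 * a.1.2) * b.1.2 := by group
      _ = a.1.1 * (a.1.2 * b.1.1) * b.1.2 := by rw [hcomm _ b.2.1 _ a.2.2]
      _ = _ := by group
  set Z : Subgroup (Ω × Ω) := θ.ker.map (R.prod T).subtype with hZdef
  have hZle : Z ≤ R.prod T := Subgroup.map_subtype_le _
  have hZmem : ∀ z ∈ Z, z.1 ∈ R ⊓ T ∧ z.2 ∈ R ⊓ T ∧ z.1 * z.2 = 1 := by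
    rintro _ ⟨⟨⟨u, v⟩, hu, hv⟩, hz, rfl⟩
    have h1 : u * v = 1 := hz
    have e : v = u⁻¹ := eq_inv_of_mul_eq_one_right h1
    exact ⟨⟨hu, by simpa [e] using T.inv_mem hv⟩, ⟨e ▸ R.inv_mem hu, hv⟩, h1⟩
  have hcE := isCentral_iff.1 (isCentral_inf hS hR hE hc)
  have hZc : D₀.IsCentral Z := by
    refine isCentral_iff.2 ⟨hZle, fun P f hf => ?_⟩
    obtain ⟨hP, f₁, f₂, hf₁, hf₂, hfv⟩ := (isMap_product_iff hD₀).1 hf
    obtain ⟨hP₁, r, hr, hrv⟩ := isMap_inner_iff.1 hf₁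
    obtain ⟨g₂, hg₂, hag, hfix⟩ := hcE.2 _ f₂ hf₂
    refine ⟨fun w => (r * w.1 * r⁻¹, g₂ w.2), (isMap_product_iff hD₀).2
      ⟨sup_le hP hZle, fun x => r * x * r⁻¹, g₂, ?_, ?_, fun w _ => rfl⟩, fun w hw => ?_,
      fun z hz => ?_⟩
    · refine isMap_inner_iff.2 ⟨?_, r, hr, fun _ _ => rfl⟩
      rintro _ ⟨w, hw, rfl⟩
      exact (sup_le hP hZle hw).1
    · refine hg₂.mono ?_
      rw [Subgroup.map_sup]
      exact sup_le_sup le_rfl (by rintro _ ⟨z, hz, rfl⟩; exact (hZmem z hz).2.1)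
    · rw [hfv w hw]
      exact Prod.ext (hrv w.1 ⟨w, hw, rfl⟩).symm (hag w.2 ⟨w, hw, rfl⟩)
    · refine Prod.ext ?_ (hfix _ (hZmem z hz).2.1)
      show r * z.1 * r⁻¹ = z.1
      rw [hcomm r hr z.1 (hZmem z hz).1.2, mul_inv_cancel_right]
  obtain ⟨D, hD⟩ := exists_factorSystem (F := D₀) (θ := θ) (S' := θ.range)
    (stronglyClosed_of_isCentral hZc) (fun s => ⟨fun h => ⟨s, h, rfl⟩, by
      rintro ⟨s', hs', e⟩
      exact Subtype.ext e ▸ hs'⟩) rfl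
  refine ⟨θ.range, D, D₀, hD₀, Z, θ, le_sSup hZc, ?_, ?_, fun x hx => mul_one x,
    fun y hy => one_mul y, hD⟩
  · refine (Subgroup.eq_bot_iff_forall _).2 fun z ⟨hz, _, h2⟩ => ?_
    have h2' : z.2 = 1 := Subgroup.mem_bot.1 h2
    have h1 := (hZmem z hz).2.2
    rw [h2', mul_one] at h1
    exact Prod.ext h1 h2'
  · refine (Subgroup.eq_bot_iff_forall _).2 fun z ⟨hz, h1, _⟩ => ?_
    have h1' : z.1 = 1 := Subgroup.mem_bot.1 h1
    have h2 := (hZmem z hz).2.2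
    rw [h1', one_mul] at h2
    exact Prod.ext h1' h2

end CfsgLib.Fusion.GenFitting
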