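import Cfsg.Agent.Lib.Fusion.PPrimeIndex

/-!
Subsystems of index prime to `p` with a prescribed automizer of the whole group.
-/

set_option autoImplicit false
set_option linter.unusedSectionVars false

namespace CfsgLib.Fusion.PPrime

open Cfsg Cfsg.FusionSystem

variable {Ω : Type*} [Group Ω] {S : Subgroup Ω} {F : FusionSystem S} {p : ℕ}

/-- A map is a member of `A` composed with a map of the residual. -/
def Twist (F : FusionSystem S) (p : ℕ) (A : Subgroup (MulAut S)) (P : Subgroup Ω) (f : Ω → Ω) :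
    Prop :=
  ∃ a ∈ A, ∃ f₀, IsMap (E0 F p) P f₀ ∧ ∀ x ∈ P, f x = autFun a (f₀ x)

theorem Twist.congr {A : Subgroup (MulAut S)} {P : Subgroup Ω} {f g : Ω → Ω}
    (h : Twist F p A P f) (hfg : ∀ x ∈ P, f x = g x) : Twist F p A P g := by
  obtain ⟨a, ha, f₀, hf₀, hv⟩ := h
  exact ⟨a, ha, f₀, hf₀, fun x hx => (hfg x hx).symm.trans (hv x hx)⟩

theorem isSubPred_twist (A : Subgroup (MulAut S)) (hA : A ≤ F.autGroup S) :
    IsSubPred F fun P f => IsMap F P f ∧ Twist F p A P f where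
  isMap h := h.1
  congr h he := ⟨h.1.congr he, h.2.congr he⟩
  conj := fun {P g} hP hg => ⟨isMap_conj hP hg, 1, A.one_mem, _, isMap_conj hP hg,
    fun x hx => by
      rw [autFun_apply _ (S.mul_mem (S.mul_mem hg (hP hx)) (S.inv_mem hg))]
      rfl⟩
  comp := fun {P Q f g} hf hg hm => by
    refine ⟨hf.1.comp hg.1 hm, ?_⟩
    obtain ⟨-, a, ha, f₀, hf₀, hv⟩ := hf
    obtain ⟨-, b, hb, g₀, hg₀, hw⟩ := hg
    refine ⟨b * a, A.mul_mem hb ha, (autFun a⁻¹ ∘ g₀ ∘ autFun a) ∘ f₀,
      hf₀.comp (autInv_E0 a (hA ha) _ _ hg₀) fun x hx => ?_, fun x hx => ?_⟩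
    · have h1 := mem_imageAut a⁻¹ (hm x hx) (hv x hx ▸ autFun_mem a (hf₀.mem hx))
      rwa [hv x hx, autFun_inv_autFun a (hf₀.mem hx)] at h1
    · show g (f x) = autFun (b * a) (autFun a⁻¹ (g₀ (autFun a (f₀ x))))
      have h2 : g₀ (f x) ∈ S := hg₀.mem (hm x hx)
      rw [← hv x hx, autFun_mul _ _ (autFun_mem a⁻¹ h2), autFun_autFun_inv a h2,
        hw _ (hm x hx)]
  inv := fun {P Q f r} hf hi hr h1 => by
    refine ⟨hr.isMap, ?_⟩
    obtain ⟨-, a, ha, f₀, hf₀, hv⟩ := hf
    obtain ⟨Q₀, hQ₀⟩ := hf₀.exists_iso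
    obtain ⟨r₀, hr₀, hr₀1, -⟩ := hQ₀.exists_symm
    have him : imageAut a⁻¹⁻¹ Q₀ = Q := SetLike.coe_injective (by
      rw [inv_inv, ← coe_imageAut a hQ₀.le_right, ← hQ₀.image_eq, Set.image_image, ← hi.image_eq]
      exact Set.image_congr fun x hx => (hv x hx).symm)
    have hrr := autInv_E0 a⁻¹ ((F.autGroup S).inv_mem (hA ha)) _ _ hr₀.isMap
    rw [him] at hrr
    refine ⟨a⁻¹, A.inv_mem ha, _, hrr, fun y hy => ?_⟩
    obtain ⟨x, hx, rfl⟩ := hi.surj hy
    show r (f x) = autFun a⁻¹ (autFun a⁻¹⁻¹ (r₀ (autFun a⁻¹ (f x))))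
    rw [inv_inv, hv x hx, autFun_inv_autFun a (hf₀.mem hx), hr₀1 x hx, ← hv x hx, h1 x hx,
      autFun_inv_autFun a (hi.le_left hx)]


/-- The least closed system whose automizer of `S` contains `A`. -/
def ext (F : FusionSystem S) (p : ℕ) (A : Subgroup (MulAut S)) : FusionSystem S :=
  meet F fun D => Closed F p D ∧ A ≤ D.autGroup S

theorem closed_ext (A : Subgroup (MulAut S)) : Closed F p (ext F p A) :=
  closed_meet fun _ h => h.1

theorem le_ext {A : Subgroup (MulAut S)} (hA : A ≤ F.autGroup S) :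
    A ≤ (ext F p A).autGroup S :=
  fun _ ha => mem_autGroup_meet le_rfl (hA ha) fun _ hD => hD.2 ha

theorem E0_le_ext (A : Subgroup (MulAut S)) : (E0 F p).IsSubsystemOf (ext F p A) :=
  meet_le (closed_ext A)

variable [Finite S] [Fact p.Prime]

/-- The least closed system with the prescribed automizer is saturated. -/
theorem isSaturated_ext (hS : IsPGroup p S) (hF : F.IsSaturated p) {A : Subgroup (MulAut S)}
    (hA : A ≤ F.autGroup S) : (ext F p A).IsSaturated p := by
  have hW := closed_ext (F := F) (p := p) A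
  have hAW := le_ext (p := p) hA
  set W := ext F p A with hWdef
  have hsub : W.IsSubsystemOf F := meet_subsystem
  obtain ⟨-, hfac, hcent⟩ := hasPrimeToPIndex hS hF hsub hW.1
  refine SatExtend.isSaturated_of_family (ℋ := {P | F.IsCentric P}) hS
      (fun P hP Q hQ => isCentric_of_isConj hP (isConj_of_subsystem hsub hQ)) ?_ ?_
      fun P hP hPn => absurd ((hcent P).1 hP) hPn
  · intro P (hP : F.IsCentric P)
    obtain ⟨Q, hPQ, hQ⟩ := exists_isFullyNormalized (F := F) hP.1
    obtain ⟨f, hf⟩ := isConj_iff.1 hPQ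
    obtain ⟨a, ha, f₀, hf₀, hv⟩ := hfac hf.isMap
    obtain ⟨Q₀, hQ₀⟩ := hf₀.exists_iso
    have hQ₀F : F.IsConj P Q₀ := (hQ₀.of_subsystem hsub).isConj
    have hQ₀n : F.IsFullyNormalized Q₀ := by
      refine ⟨hQ₀.le_right, fun B hB => ?_⟩
      refine (hQ.2 B (isConj_trans (isConj_symm hPQ) (isConj_trans hQ₀F hB))).trans ?_
      have := finite_of_le (S := S) (P := normalizerIn S Q₀) inf_le_left
      have hQeq : imageAut a⁻¹ Q = Q₀ := SetLike.coe_injective (by
        rw [← coe_imageAut a⁻¹ hQ.1, ← hf.image_eq, Set.image_image, ← hQ₀.image_eq]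
        exact Set.image_congr fun x hx => by
          rw [hv x hx, autFun_inv_autFun a (hQ₀.le_right (hQ₀.mem hx))])
      have hm := isIso_imageAut ((F.autGroup S).inv_mem ha) hQ.1
      rw [hQeq] at hm
      have hN := isMap_autFun ((F.autGroup S).inv_mem ha)
        (inf_le_left : normalizerIn S Q ≤ S)
      exact hN.card_le fun x hx => hN.mem_normalizerIn (le_normalizerIn hQ.1) hm hx hx.2
    have hQ₀c := isCentric_of_isConj hP hQ₀F
    refine ⟨Q₀, hQ₀.isConj, (isFullyAutomized_iff hS).2 ⟨hQ₀.le_right, fun A hA hAp => ?_⟩,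
      isReceptive_iff.2 ⟨hQ₀.le_right, fun R g hg => ?_⟩⟩
    · have hle := hQ₀.le_right
      have := finite_of_le hle
      have := finite_mulAut Q₀
      set K := opc F p Q₀
      have hKE : K ≤ W.autGroup Q₀ := hW.1 Q₀ hQ₀c
      have hAF : A ≤ F.autGroup Q₀ := fun x hx =>
        (mem_autGroup_iff hle x).2 (((mem_autGroup_iff hle x).1 (hA hx)).of_subsystem hsub)
      obtain ⟨-, T, hT⟩ := isFullyAutomized_of_isFullyNormalized hS hF hQ₀n
      have hTK : ((T : Subgroup (F.autGroup Q₀))) ≤ K.subgroupOf (F.autGroup Q₀) := by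
        rw [hT]
        exact fun x hx =>
          le_opc (autInducedBy_le_autGroup hle) (isPGroup_autInducedBy hS Q₀) hx
      have hAK : A.subgroupOf (F.autGroup Q₀) ≤ K.subgroupOf (F.autGroup Q₀) :=
        fun x hx => le_opc hAF hAp hx
      obtain ⟨SA, hSA⟩ := (((hAp.of_equiv (Subgroup.subgroupOfEquivOfLe hAF).symm).of_equiv
        (Subgroup.subgroupOfEquivOfLe hAK).symm)).exists_le_sylow
      obtain ⟨c, hc⟩ := MulAction.exists_smul_eq (K.subgroupOf (F.autGroup Q₀)) SA (T.subtype hTK)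
      refine ⟨(c : F.autGroup Q₀), hKE c.2, fun x hx => ?_⟩
      have hxK : (⟨⟨x, hAF hx⟩, hAK hx⟩ : K.subgroupOf (F.autGroup Q₀)) ∈
          (A.subgroupOf (F.autGroup Q₀)).subgroupOf _ := hx
      have h1 : c * ⟨⟨x, hAF hx⟩, hAK hx⟩ * c⁻¹ ∈
          ((T.subtype hTK : Sylow p _) : Subgroup (K.subgroupOf (F.autGroup Q₀))) := by
        rw [← hc, Sylow.coe_subgroup_smul, Subgroup.mem_pointwise_smul_iff_inv_smul_mem]
        simpa [mul_assoc] using hSA hxK
      rw [Sylow.coe_subtype, Subgroup.mem_subgroupOf, hT] at h1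
      exact h1
    · have hgF := hg.of_subsystem hsub
      obtain ⟨ψ, hψ, hψv⟩ :=
        (isReceptive_iff.1 (isReceptive_of_isFullyNormalized hS hF hQ₀n)).2 R g hgF
      obtain ⟨b, hb, ψ₀, hψ₀, hw⟩ := hfac hψ
      refine ⟨ψ, ?_, hψv⟩
      have hRN := le_nPhi hg.isMap
      obtain ⟨B, hB⟩ := (hψ₀.mono hRN).exists_iso
      obtain ⟨r, hr, hr1, -⟩ := hB.exists_symm
      have hBc : F.IsCentric B :=
        isCentric_of_isConj hQ₀c (isConj_trans (isConj_symm hgF.isConj)
          (hB.of_subsystem hsub).isConj)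
      have hbE : b ∈ W.autGroup S := by
        refine hW.2 b hb B hBc ((hr.isMap.comp hg.isMap fun y hy => hr.mem hy).congr
          fun y hy => ?_)
        obtain ⟨x, hx, rfl⟩ := hB.surj hy
        show g (r (ψ₀ x)) = _
        rw [hr1 x hx, ← hψv x hx, hw x (hRN hx)]
      exact (hψ₀.comp ((mem_autGroup_iff le_rfl b).1 hbE).isMap fun x hx => hψ₀.mem hx).congr
        fun x hx => (hw x hx).symm
  · intro E hE P φ hφ
    have hC : ∀ D, (D = W ∨ D = E) → ∀ (R : Subgroup Ω) (g : Ω → Ω), F.IsCentric R →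
        IsMap W R g → IsMap D R g := by
      rintro D (rfl | rfl) R g hR hg
      · exact hg
      · obtain ⟨χ, hχ, hv⟩ := hg
        exact ⟨χ, hE R hR hχ, hv⟩
    have hclosed : Closed F p (meet F fun D => D = W ∨ D = E) := by
      refine ⟨fun R hR α hα => ?_, fun b hb R hR hm => ?_⟩
      · refine mem_autGroup_meet hR.1 (opc_le R hα) fun D hD =>
          mem_autGroup_of_isMap (hC D hD R _ hR
            ((mem_autGroup_iff hR.1 α).1 (hW.1 R hR hα)).isMap) α
            fun x => (autFun_coe α x).symm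
      · refine mem_autGroup_meet le_rfl hb fun D hD => ?_
        have hScen : F.IsCentric S := isCentric_of_le hR hR.1 le_rfl
        exact mem_autGroup_of_isMap (hC D hD S _ hScen ((mem_autGroup_iff le_rfl b).1
          (hW.2 b hb R hR ((isMap_meet.1 hm).2 _ (Or.inl rfl)))).isMap) b
          fun x => (autFun_coe b x).symm
    have hA' : A ≤ (meet F fun D => D = W ∨ D = E).autGroup S := fun a ha =>
      mem_autGroup_meet le_rfl (hA ha) fun D hD => mem_autGroup_of_isMap (hC D hD S _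
        ⟨le_rfl, fun Q hQ => by
          obtain ⟨g, hg⟩ := isConj_iff.1 hQ
          rw [Subgroup.eq_of_le_of_card_ge hg.le_right hg.card_eq.ge]
          exact inf_le_left⟩
        ((mem_autGroup_iff le_rfl a).1 (hAW ha)).isMap) a fun x => (autFun_coe a x).symm
    have h1 := (isMap_meet.1 (isMap_homFun hφ)).2 _ ⟨hclosed, hA'⟩
    exact (mem_hom_iff φ).2 ((isMap_meet.1 h1).2 E (Or.inr rfl))

/-- The maps of that system. -/
theorem isMap_ext_iff (hS : IsPGroup p S) {A : Subgroup (MulAut S)} (hA : A ≤ F.autGroup S)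
    (h0 : (E0 F p).autGroup S ≤ A) {P : Subgroup Ω} {f : Ω → Ω} :
    IsMap (ext F p A) P f ↔ Twist F p A P f := by
  refine ⟨fun hf => ?_, fun ⟨a, ha, f₀, hf₀, hv⟩ => ?_⟩
  · have hM := isSubPred_twist (p := p) A hA
    refine ((isMap_ofPred hM).1 ((isMap_meet.1 hf).2 _ ⟨⟨fun R hR α hα => ?_, ?_⟩, ?_⟩)).2
    · refine mem_autGroup_of_isMap ((isMap_ofPred hM).2
        ⟨((mem_autGroup_iff hR.1 α).1 (opc_le R hα)).isMap, 1, A.one_mem, autFun α,
          ((mem_autGroup_iff hR.1 α).1 (closed_E0.1 R hR hα)).isMap, fun x hx => ?_⟩) α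
        fun x => (autFun_coe α x).symm
      rw [autFun_apply (1 : MulAut S) (hR.1 (autFun_mem α hx))]
      rfl
    · intro b hb R hR hm
      obtain ⟨-, a, ha, f₀, hf₀, hv⟩ := (isMap_ofPred hM).1 hm
      have hab : a⁻¹ * b ∈ (E0 F p).autGroup S := closed_E0.2 _
        ((F.autGroup S).mul_mem ((F.autGroup S).inv_mem (hA ha)) hb) R hR
        (hf₀.congr fun x hx => by
          rw [autFun_mul _ _ (hR.1 hx), hv x hx, autFun_inv_autFun a (hf₀.mem hx)])
      have hbA : b ∈ A := by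
        have := A.mul_mem ha (h0 hab)
        rwa [mul_inv_cancel_left] at this
      exact mem_autGroup_of_isMap ((isMap_ofPred hM).2 ⟨((mem_autGroup_iff le_rfl b).1 hb).isMap,
        b, hbA, id, isMap_id le_rfl, fun x _ => rfl⟩) b fun x => (autFun_coe b x).symm
    · intro a ha
      exact mem_autGroup_of_isMap ((isMap_ofPred hM).2
        ⟨((mem_autGroup_iff le_rfl a).1 (hA ha)).isMap, a, ha, id, isMap_id le_rfl,
          fun x _ => rfl⟩) a fun x => (autFun_coe a x).symm
  · exact ((isMap_of_subsystem (E0_le_ext A) hf₀).comp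
      ((mem_autGroup_iff le_rfl a).1 (le_ext hA ha)).isMap fun x hx => hf₀.mem hx).congr
      fun x hx => (hv x hx).symm

end CfsgLib.Fusion.PPrime
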