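import Cfsg.Agent.Lib.Fusion.Layer
import Cfsg.Agent.Lib.Fusion.PPrimeExtend
import Cfsg.Agent.Lib.Fusion.NormalCentralizerSystem

/-!
The largest subsystem over the meet of the supports of two normal subsystems that is normal in all
three systems.
-/

set_option autoImplicit false
set_option linter.unusedSectionVars false

namespace CfsgLib.Fusion.MeetNormal

open Cfsg Cfsg.FusionSystem

variable {Ω : Type*} [Group Ω] {S T U : Subgroup Ω}

/-- The extension condition for one automorphism of `T`. -/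
def ExtT (G : FusionSystem U) (T : Subgroup Ω) (α : MulAut T) : Prop :=
  ∃ g, IsMap G (T ⊔ centralizerIn U T) g ∧ (∀ t ∈ T, g t = autFun α t) ∧
    ∀ c ∈ centralizerIn U T, c⁻¹ * g c ∈ T ⊓ Subgroup.centralizer (T : Set Ω)

theorem mem_centralizerIn_of_mod (hTU : T ≤ U) {c z : Ω} (hc : c ∈ centralizerIn U T)
    (hz : z ∈ T ⊓ Subgroup.centralizer (T : Set Ω)) : c * z ∈ centralizerIn U T :=
  Subgroup.mul_mem _ hc ⟨hTU hz.1, hz.2⟩

theorem ExtT.mem {G : FusionSystem U} {α : MulAut T} {g : Ω → Ω} (hTU : T ≤ U)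
    (hg : IsMap G (T ⊔ centralizerIn U T) g) (hv : ∀ t ∈ T, g t = autFun α t)
    (hc : ∀ c ∈ centralizerIn U T, c⁻¹ * g c ∈ T ⊓ Subgroup.centralizer (T : Set Ω)) :
    ∀ x ∈ T ⊔ centralizerIn U T, g x ∈ T ⊔ centralizerIn U T :=
  mem_of_mem_sup hg le_sup_left le_sup_right
    (fun t ht => Subgroup.mem_sup_left (hv t ht ▸ autFun_mem α ht))
    fun c hcc => Subgroup.mem_sup_right (by
      have := mem_centralizerIn_of_mod hTU hcc (hc c hcc)
      rwa [mul_inv_cancel_left] at this)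

/-- The automorphisms satisfying the extension condition. -/
def extSub (G : FusionSystem U) (T : Subgroup Ω) [Finite U] (hTU : T ≤ U) : Subgroup (MulAut T) where
  carrier := {α | ExtT G T α}
  one_mem' := ⟨id, isMap_id (sup_le hTU inf_le_left),
    fun t ht => by rw [id, autFun_apply (1 : MulAut T) ht]; rfl,
    fun c hc => by rw [id, inv_mul_cancel]; exact Subgroup.one_mem _⟩
  mul_mem' := fun {a b} ha hb => by
    obtain ⟨g, hg, hgv, hgc⟩ := ha
    obtain ⟨k, hk, hkv, hkc⟩ := hb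
    refine ⟨g ∘ k, hk.comp hg (ExtT.mem hTU hk hkv hkc), fun t ht => ?_, fun c hc => ?_⟩
    · show g (k t) = _
      rw [hkv t ht, hgv _ (autFun_mem b ht), autFun_mul _ _ ht]
    · have hkcC : k c ∈ centralizerIn U T := by
        have := mem_centralizerIn_of_mod hTU hc (hkc c hc)
        rwa [mul_inv_cancel_left] at this
      have := Subgroup.mul_mem _ (hkc c hc) (hgc _ hkcC)
      show c⁻¹ * g (k c) ∈ _
      rwa [show c⁻¹ * k c * ((k c)⁻¹ * g (k c)) = c⁻¹ * g (k c) by group] at this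
  inv_mem' := fun {a} ha => by
    obtain ⟨g, hg, hgv, hgc⟩ := ha
    have := finite_of_le (sup_le hTU inf_le_left : T ⊔ centralizerIn U T ≤ U)
    obtain ⟨r, hr, hr1, hr2⟩ :=
      (hg.isIso_of_card_le (ExtT.mem hTU hg hgv hgc) le_rfl).exists_symm
    refine ⟨r, hr.isMap, fun t ht => ?_, fun c hc => ?_⟩
    · have h1 := hr1 _ (Subgroup.mem_sup_left (autFun_mem a⁻¹ ht))
      rw [hgv _ (autFun_mem a⁻¹ ht), ← autFun_mul _ _ ht, mul_inv_cancel,
        autFun_apply (1 : MulAut T) ht] at h1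
      exact h1
    · have hcV := Subgroup.mem_sup_right (S := T) hc
      have hC : r c ∈ centralizerIn U T := by
        refine hr.isMap.mem_centralizerIn le_sup_left ⟨hr.isMap.mono le_sup_left, ?_⟩ hcV hc.2
        ext y
        constructor
        · rintro ⟨x, hx, rfl⟩
          have h1 := hr1 _ (Subgroup.mem_sup_left (autFun_mem a⁻¹ hx))
          rw [hgv _ (autFun_mem a⁻¹ hx), ← autFun_mul _ _ hx, mul_inv_cancel,
            autFun_apply (1 : MulAut T) hx] at h1
          show r x ∈ T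
          rw [show r x = autFun a⁻¹ x from h1]
          exact autFun_mem _ hx
        · intro hy
          exact ⟨g y, hgv y hy ▸ autFun_mem a hy, hr1 y (Subgroup.mem_sup_left hy)⟩
      have h1 := hgc _ hC
      rw [hr2 c hcV] at h1
      simpa using Subgroup.inv_mem _ h1

/-- The extension condition is invariant under automorphisms extending to the centralizer. -/
theorem extT_conj {F : FusionSystem S} [Finite S] {G : FusionSystem U}
    (hG : StrongInvariant G F) (hU : F.StronglyClosed U) (hTU : T ≤ U) {α a : MulAut T}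
    (hα : ExtT G T α) {b : Ω → Ω} (hb : IsMap F (T ⊔ centralizerIn S T) b)
    (hbv : ∀ t ∈ T, b t = autFun a t) : ExtT G T (a * α * a⁻¹) := by
  obtain ⟨g, hg, hgv, hgc⟩ := hα
  set V := T ⊔ centralizerIn U T with hV
  have hVS : V ≤ T ⊔ centralizerIn S T := sup_le_sup le_rfl (inf_le_inf_right _ hU.1)
  have hbV := hb.mono hVS
  have hbT : IsIso F T T b := by
    refine ⟨hbV.mono le_sup_left, ?_⟩
    ext y
    constructor
    · rintro ⟨x, hx, rfl⟩
      exact hbv x hx ▸ autFun_mem a hx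
    · intro hy
      refine ⟨autFun a⁻¹ y, autFun_mem _ hy, ?_⟩
      rw [hbv _ (autFun_mem _ hy), ← autFun_mul _ _ hy, mul_inv_cancel,
        autFun_apply (1 : MulAut T) hy]
      rfl
  have hbC : ∀ c ∈ centralizerIn U T, b c ∈ centralizerIn U T := fun c hc =>
    ⟨isMap_mem_of_stronglyClosed hU hbV (Subgroup.mem_sup_right hc) hc.1,
      (hbV.mem_centralizerIn le_sup_left hbT (Subgroup.mem_sup_right hc) hc.2).2⟩
  have hbm : ∀ x ∈ V, b x ∈ V := mem_of_mem_sup hbV le_sup_left le_sup_right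
    (fun t ht => Subgroup.mem_sup_left (hbT.mem ht))
    fun c hc => Subgroup.mem_sup_right (hbC c hc)
  have hVU : V ≤ U := sup_le hTU inf_le_left
  have := finite_of_le (hVU.trans hU.1)
  have hbi := hbV.isIso_of_card_le hbm le_rfl
  obtain ⟨r, hr, hr1, hr2⟩ := hbi.exists_symm
  obtain ⟨g', hg', hg'v⟩ := hG V V g b le_rfl hVU hg (ExtT.mem hTU hg hgv hgc) hbV V hbi.image_eq
  refine ⟨g', hg', fun t ht => ?_, fun c hc => ?_⟩
  · have e : t = b (autFun a⁻¹ t) := by
      rw [hbv _ (autFun_mem _ ht), ← autFun_mul _ _ ht, mul_inv_cancel,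
        autFun_apply (1 : MulAut T) ht]
      rfl
    conv_lhs => rw [e]
    rw [hg'v _ (Subgroup.mem_sup_left (autFun_mem _ ht)), hgv _ (autFun_mem _ ht),
      hbv _ (autFun_mem _ (autFun_mem _ ht)), autFun_mul _ _ ht, autFun_mul _ _ (autFun_mem _ ht)]
  · obtain ⟨x, hx, rfl⟩ := hbi.surj (Subgroup.mem_sup_right (S := T) hc)
    have hxC : x ∈ centralizerIn U T := by
      refine ⟨hVU hx, mem_centralizer_of_conj_eq fun t ht => ?_⟩
      refine hbV.injOn ?_ (Subgroup.mem_sup_left ht) ?_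
      · exact V.mul_mem (V.mul_mem hx (Subgroup.mem_sup_left ht)) (V.inv_mem hx)
      · rw [hbV.map_conj hx (Subgroup.mem_sup_left ht),
          conj_eq_self_of_mem_centralizer hc.2 (hbT.mem ht)]
    have hz := hgc x hxC
    have hgx : g x ∈ V := ExtT.mem hTU hg hgv hgc x hx
    rw [hg'v x hx, ← hbV.map_inv hx, ← hbV.map_mul (V.inv_mem hx) hgx]
    exact ⟨hbT.mem hz.1, (hbV.mem_centralizerIn le_sup_left hbT
      (V.mul_mem (V.inv_mem hx) hgx) hz.2).2⟩

/-- The extension condition in the form of the definition. -/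
theorem exists_ext_aut {F : FusionSystem S} [Finite S] (hTS : T ≤ S) {α : MulAut T}
    (hα : ExtT F T α) :
    ∃ β ∈ F.autGroup (T ⊔ centralizerIn S T),
      (∀ x : T, ((β (Subgroup.inclusion le_sup_left x) : ↥(T ⊔ centralizerIn S T)) : Ω) =
        ((α x : T) : Ω)) ∧
      ∀ c : ↥(T ⊔ centralizerIn S T), (c : Ω) ∈ centralizerIn S T →
        (c : Ω)⁻¹ * ((β c : ↥(T ⊔ centralizerIn S T)) : Ω) ∈
          T ⊓ Subgroup.centralizer (T : Set Ω) := by
  obtain ⟨g, hg, hgv, hgc⟩ := hα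
  have := finite_of_le (sup_le hTS inf_le_left : T ⊔ centralizerIn S T ≤ S)
  obtain ⟨β, hβ, hβv⟩ :=
    exists_mem_autGroup (hg.isIso_of_card_le (ExtT.mem hTS hg hgv hgc) le_rfl)
  refine ⟨β, hβ, fun x => ?_, fun c hc => ?_⟩
  · rw [hβv]
    show g x = _
    rw [hgv x x.2, autFun_coe]
  · rw [hβv]
    exact hgc c hc

/-- The converse. -/
theorem extT_of_isNormalIn {F : FusionSystem S} {p : ℕ} {D : FusionSystem T} (hD : D.IsNormalIn F p)
    {α : MulAut T} (hα : α ∈ D.autGroup T) : ExtT F T α := by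
  obtain ⟨β, hβ, hβv, hβc⟩ := hD.2 α hα
  have hVS : T ⊔ centralizerIn S T ≤ S := sup_le hD.1.2.2.2.1.1 inf_le_left
  refine ⟨autFun β, ((mem_autGroup_iff hVS β).1 hβ).isMap, fun t ht => ?_, fun c hc => ?_⟩
  · rw [autFun_apply β (Subgroup.mem_sup_left ht), autFun_apply α ht]
    exact hβv ⟨t, ht⟩
  · rw [autFun_apply β (Subgroup.mem_sup_right hc)]
    exact hβc ⟨c, Subgroup.mem_sup_right hc⟩ hc

variable {T₁ T₂ : Subgroup Ω} {F : FusionSystem S} {E₁ : FusionSystem T₁} {E₂ : FusionSystem T₂}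
variable {p : ℕ} [Fact p.Prime] [Finite S]

theorem exists_meet_normal (hS : IsPGroup p S) (hF : F.IsSaturated p) (h₁ : E₁.IsNormalIn F p)
    (h₂ : E₂.IsNormalIn F p) :
    ∃ D : FusionSystem (T₁ ⊓ T₂), (D.IsNormalIn F p ∧ D.IsNormalIn E₁ p ∧ D.IsNormalIn E₂ p) ∧
      ∀ D' : FusionSystem (T₁ ⊓ T₂), D'.IsNormalIn F p → D'.IsNormalIn E₁ p →
        D'.IsNormalIn E₂ p → D'.IsSubsystemOf D := by
  have h : Meet.Data F p E₁ E₂ := ⟨hS, hF, h₁.1, h₂⟩
  set T := T₁ ⊓ T₂
  set W := h.sys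
  have hW := h.isWeaklyNormalIn
  have hTS : T ≤ S := h.TS
  have hT₁ : T₁ ≤ S := h₁.1.2.2.2.1.1
  have hT₂ : T₂ ≤ S := h₂.1.2.2.2.1.1
  have : Finite T := finite_of_le hTS
  have := finite_of_le hT₁
  have := finite_of_le hT₂
  have := finite_mulAut T
  have hTp : IsPGroup p T := hS.to_le hTS
  have hres := PPrime.isPPrimeResidual_E0 hTp hW.1
  have hW₁ := Layer.isWeaklyNormalIn_of_subsystem hS hW h₁.1 h.sub₁
  have hW₂ := Layer.isWeaklyNormalIn_of_subsystem hS hW h₂.1 h.sub₂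
  set A : Subgroup (MulAut T) := W.autGroup T ⊓ (extSub F T hTS ⊓
    (extSub E₁ T inf_le_left ⊓ extSub E₂ T inf_le_right)) with hAdef
  have hA : A ≤ W.autGroup T := inf_le_left
  have h0 : (PPrime.E0 W p).autGroup T ≤ A := fun α hα =>
    ⟨(mem_autGroup_iff le_rfl α).2 (((mem_autGroup_iff le_rfl α).1 hα).of_subsystem
      PPrime.meet_subsystem),
    extT_of_isNormalIn (Residual.isNormalIn_residual hS hW hres) hα,
    extT_of_isNormalIn (Residual.isNormalIn_residual (hS.to_le hT₁) hW₁ hres) hα,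
    extT_of_isNormalIn (Residual.isNormalIn_residual (hS.to_le hT₂) hW₂ hres) hα⟩
  -- the subgroup is invariant
  have hAn : ∀ a ∈ F.autGroup T, ∀ α ∈ A, a * α * a⁻¹ ∈ A := by
    intro a ha α hα
    have hfc : F.IsFullyNormalized T := NormalCentralizer.isFullyNormalized_of_closed (F := F) hTS
      fun Q f hf x hx hxT => isMap_mem_of_stronglyClosed h.closed hf hx hxT
    obtain ⟨b, hb, hbv⟩ := (isReceptive_iff.1 (isReceptive_of_isFullyNormalized hS hF hfc)).2 T _
      ((mem_autGroup_iff hTS a).1 ha)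
    have hb' : IsMap F (T ⊔ centralizerIn S T) b := hb.mono
      (sup_le (le_nPhi ((mem_autGroup_iff hTS a).1 ha).isMap) (centralizerIn_le_nPhi T _))
    have hsc : F.StronglyClosed S :=
      stronglyClosed_iff.2 ⟨le_rfl, fun _ _ hf _ hx _ => hf.mem hx⟩
    refine ⟨Residual.mem_autGroup_transport hW.2.2 le_rfl ((mem_autGroup_iff hTS a).1 ha) hα.1
      fun x hx => ?_, extT_conj (strongInvariant_of_invariant (ResidualSeries.isInvariantIn_self F))
        hsc hTS hα.2.1 hb' hbv,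
      extT_conj (strongInvariant_of_invariant h.inv₁) h.inv₁.2.1 inf_le_left hα.2.2.1 hb' hbv,
      extT_conj (strongInvariant_of_invariant h.inv₂) h.inv₂.2.1 inf_le_right hα.2.2.2 hb' hbv⟩
    rw [autFun_mul _ _ (autFun_mem a hx), autFun_mul _ _ (autFun_mem _ (autFun_mem a hx)),
      Residual.inv_mul_autFun a hx]
  set D := PPrime.ext W p A
  have hiff : ∀ {P : Subgroup Ω} {f : Ω → Ω}, IsMap D P f ↔ PPrime.Twist W p A P f :=
    PPrime.isMap_ext_iff hTp hA h0
  have hDs : D.IsSaturated p := PPrime.isSaturated_ext hTp hW.1 hA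
  have hDW : D.IsSubsystemOf W := PPrime.meet_subsystem
  have hDF : D.IsSubsystemOf F := fun P => (hDW P).trans (hW.2.2.1 P)
  have haut : ∀ α ∈ D.autGroup T, α ∈ A := by
    intro α hα
    obtain ⟨a, ha, f₀, hf₀, hv⟩ := hiff.1 ((mem_autGroup_iff le_rfl α).1 hα).isMap
    obtain ⟨e, he, hev⟩ := exists_mem_autGroup
      (hf₀.isIso_of_card_le (fun x hx => hf₀.mem hx) le_rfl)
    have e1 : α = a * e := MulEquiv.ext fun x => Subtype.ext (by
      rw [← autFun_coe α x, hv x x.2, MulAut.mul_apply, ← hev x, autFun_coe])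
    exact e1 ▸ A.mul_mem ha (h0 he)
  have hDinv : D.IsInvariantIn F := by
    refine ⟨hDF, h.closed, fun P hPT φ hφ a ha => ?_, fun P hP φ hφ => ?_⟩
    · obtain ⟨c, hc, f₀, hf₀, hv⟩ := hiff.1 (isMap_homFun hφ)
      have hf₁ := Residual.autInv_E0 hW.2.2 ((F.autGroup T).inv_mem ha) hf₀
      rw [inv_inv] at hf₁
      have hm : IsMap D (imageAut a P) (autFun a ∘ homFun φ ∘ autFun a⁻¹) :=
        hiff.2 ⟨a * c * a⁻¹, hAn a ha c hc, _, hf₁, fun y hy => by
          obtain ⟨hyT, hyP⟩ := PPrime.mem_imageAut_inv (S := T) a⁻¹ (P := P) (by rwa [inv_inv])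
          show autFun a (homFun φ (autFun a⁻¹ y)) =
            autFun (a * c * a⁻¹) (autFun a (f₀ (autFun a⁻¹ y)))
          have hm0 := hf₀.mem hyP
          rw [hv _ hyP, autFun_mul _ _ (autFun_mem a hm0), Residual.inv_mul_autFun a hm0,
            autFun_mul _ _ hm0]⟩
      obtain ⟨χ, hχ, hχv⟩ := hm.exists_hom
      refine ⟨χ, hχ, fun x hφx hax => (hχv ⟨_, hax⟩).trans ?_⟩
      show autFun a (homFun φ (autFun a⁻¹ ((a ⟨x, hPT x.2⟩ : T) : Ω))) = _
      rw [← autFun_apply a (hPT x.2), PPrime.autFun_inv_autFun a (hPT x.2), homFun_coe,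
        autFun_apply a hφx]
    · obtain ⟨a, ha, w, hw, hv⟩ := exists_frattini hW.2.2 hP (isMap_homFun hφ)
      obtain ⟨-, hfac, -⟩ := PPrime.hasPrimeToPIndex (E := PPrime.E0 W p) hTp hW.1
        PPrime.meet_subsystem PPrime.closed_E0.1
      obtain ⟨b, hb, f₀, hf₀, hw'⟩ := hfac hw
      have hbF : b ∈ F.autGroup T :=
        (mem_autGroup_iff hTS b).2 (((mem_autGroup_iff le_rfl b).1 hb).of_subsystem hW.2.2.1)
      obtain ⟨φ₀, hφ₀, hφ₀v⟩ := (isMap_of_subsystem (PPrime.E0_le_ext A) hf₀).exists_hom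
      refine ⟨a * b, (F.autGroup T).mul_mem ha hbF, φ₀, hφ₀, fun x hx => ?_⟩
      have e1 := hv x x.2
      rw [homFun_coe, hw' x x.2, ← hφ₀v x, ← autFun_mul _ _ hx, autFun_apply _ hx] at e1
      exact e1
  have hDw : D.IsWeaklyNormalIn F p := ⟨hDs, hF, hDinv⟩
  refine ⟨D, ⟨⟨hDw, fun α hα => exists_ext_aut hTS (haut α hα).2.1⟩,
    ⟨Layer.isWeaklyNormalIn_of_subsystem hS hDw h₁.1 (fun P => (hDW P).trans (h.sub₁ P)),
      fun α hα => exists_ext_aut inf_le_left (haut α hα).2.2.1⟩,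
    ⟨Layer.isWeaklyNormalIn_of_subsystem hS hDw h₂.1 (fun P => (hDW P).trans (h.sub₂ P)),
      fun α hα => exists_ext_aut inf_le_right (haut α hα).2.2.2⟩⟩, fun D' hD' hD₁ hD₂ => ?_⟩
  -- maximality
  have hres' := PPrime.isPPrimeResidual_E0 hTp hD'.1.1
  have hW' : D'.IsWeaklyNormalIn F p := hD'.1
  have hE' : (PPrime.E0 D' p).IsSubsystemOf (PPrime.E0 W p) := fun P =>
    (Layer.E0_le_E0 hTp hW'.1 P).trans
      (Residual.E0_le_of_weaklyNormal hS (Residual.isNormalIn_residual hS hW' hres').1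
        (Residual.isNormalIn_residual hS hW hres).1 P)
  have hEW : (PPrime.E0 D' p).IsSubsystemOf W := fun P =>
    (hE' P).trans (PPrime.meet_subsystem P)
  -- the automizer of the whole subgroup
  have hauto : D'.autGroup T ≤ A := by
    intro α hα
    have hext := (⟨extT_of_isNormalIn hD' hα, extT_of_isNormalIn hD₁ hα,
      extT_of_isNormalIn hD₂ hα⟩ : ExtT F T α ∧ ExtT E₁ T α ∧ ExtT E₂ T α)
    refine ⟨?_, hext⟩
    obtain ⟨x, hx, m, hmo, hxv⟩ := Residual.exists_inner_mul hTp hD'.1.1 hα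
    have hαm : α ^ m ∈ W.autGroup T := by
      refine h.mem_sys ⟨⟨le_rfl, fun Q hQ => ?_⟩, ?_, ?_, Or.inl hmo⟩
      · obtain ⟨g, hg⟩ := isConj_iff.1 hQ
        rw [Subgroup.eq_of_le_of_card_ge (Meet.le_of_isIso h.closed le_rfl hg) hg.card_eq.ge]
        exact inf_le_left
      · exact (E₁.autGroup T).pow_mem ((mem_autGroup_iff inf_le_left α).2
          (((mem_autGroup_iff le_rfl α).1 hα).of_subsystem hD₁.1.2.2.1)) m
      · exact (E₂.autGroup T).pow_mem ((mem_autGroup_iff inf_le_right α).2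
          (((mem_autGroup_iff le_rfl α).1 hα).of_subsystem hD₂.1.2.2.1)) m
    have hxi := (W.autGroup T).inv_mem (autInducedBy_le_autGroup le_rfl
      (conjAut_mem_autInducedBy (K := T) (Subgroup.le_normalizer hx) hx))
    have e : α = (conjAut T (Subgroup.le_normalizer hx))⁻¹ * α ^ m := by
      rw [eq_inv_mul_iff_mul_eq]
      exact MulEquiv.ext fun y => Subtype.ext (by rw [MulAut.mul_apply, conjAut_apply, hxv])
    exact e ▸ (W.autGroup T).mul_mem hxi hαm
  intro P φ hφ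
  obtain ⟨-, hfac, -⟩ := PPrime.hasPrimeToPIndex (E := PPrime.E0 D' p) hTp hW'.1
    PPrime.meet_subsystem PPrime.closed_E0.1
  obtain ⟨a, ha, f₀, hf₀, hv⟩ := hfac (isMap_homFun hφ)
  exact (mem_hom_iff φ).2 (hiff.2 ⟨a, hauto ha, f₀, isMap_of_subsystem hE' hf₀, hv⟩)

end CfsgLib.Fusion.MeetNormal
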