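import Cfsg.Agent.Lib.Fusion.Centralise
import Cfsg.Agent.Lib.Fusion.GeneralizedFitting
import Cfsg.Agent.Lib.Fusion.MeetNormal

/-!
The central product of two normal subsystems centralising each other is normal.
-/

set_option autoImplicit false
set_option linter.unusedSectionVars false
set_option linter.style.haveILetI false

namespace CfsgLib.Fusion.CommProduct

open Cfsg Cfsg.FusionSystem
open CfsgLib.Fusion.NormalCentralizer
open scoped Pointwise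

variable {Ω : Type*} [Group Ω] {S T₁ T₂ T T' U : Subgroup Ω} {F : FusionSystem S}
  {E : FusionSystem T} {E₁ : FusionSystem T₁} {E₂ : FusionSystem T₂} {D : FusionSystem U} {p : ℕ}

/-- `D` is a central product of two normal subsystems, each centralising the other. -/
structure Data (F : FusionSystem S) (p : ℕ) (E₁ : FusionSystem T₁) (E₂ : FusionSystem T₂)
    (D : FusionSystem U) : Prop where
  pgroup : IsPGroup p S
  sat : F.IsSaturated p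
  n₁ : E₁.IsNormalIn F p
  n₂ : E₂.IsNormalIn F p
  le₁ : T₂ ≤ centE E₁ F p n₁.1.2.2.2.1.1
  le₂ : T₁ ≤ centE E₂ F p n₂.1.2.2.2.1.1
  prod : IsCentralProductOf E₁ E₂ D

variable [Fact p.Prime] [Finite S]

/-- A map of a normal subsystem extends fixing a subgroup of its centraliser. -/
theorem exists_fix (hS : IsPGroup p S) (hF : F.IsSaturated p) (hE : E.IsNormalIn F p)
    (h : T' ≤ centE E F p hE.1.2.2.2.1.1) {P : Subgroup Ω} {e : Ω → Ω} (he : IsMap E P e) :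
    ∃ g, IsMap F (P ⊔ T') g ∧ (∀ x ∈ P, g x = e x) ∧ ∀ x ∈ T', g x = x := by
  obtain ⟨φ, hφ, hφv⟩ := he
  obtain ⟨-, -, -, ψ, hψ, hag, hfix⟩ :=
    Centralise.centralizerHom_anti h P (centralizes_centE hS hF hE P hφ)
  refine ⟨homFun ψ, isMap_homFun hψ, fun x hx => ?_, fun x hx => ?_⟩
  · rw [homFun_apply ψ (Subgroup.mem_sup_left hx)]
    exact (hag ⟨x, hx⟩).trans (hφv ⟨x, hx⟩)
  · rw [homFun_apply ψ (Subgroup.mem_sup_right hx)]
    exact hfix ⟨x, hx⟩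

theorem fix_of_mem (hS : IsPGroup p S) (hF : F.IsSaturated p) (hE : E.IsNormalIn F p)
    (h : T' ≤ centE E F p hE.1.2.2.2.1.1) {P : Subgroup Ω} {e : Ω → Ω} (he : IsMap E P e) {a : Ω}
    (ha : a ∈ P) (ha' : a ∈ T') : e a = a := by
  obtain ⟨g, -, hge, hgf⟩ := exists_fix hS hF hE h he
  rw [← hge a ha, hgf a ha']

/-- The intersection is central in the subsystem. -/
theorem isCentral_inf (hS : IsPGroup p S) (hF : F.IsSaturated p) (hE : E.IsNormalIn F p)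
    (hT' : F.StronglyClosed T') (h : T' ≤ centE E F p hE.1.2.2.2.1.1) :
    E.IsCentral (T ⊓ T') := by
  have hTS := hE.1.2.2.2.1.1
  have hA : F.IsNormal (T ⊓ T') := isNormal_of_abelian hS hF
    (Meet.stronglyClosed_inf hE.1.2.2.2.1 hT') fun x hx y hy =>
      Subgroup.mem_centralizer_iff.1 ((centE_le hTS) (h hy.2)).2 x hx.1
  obtain ⟨hle, hext⟩ := isNormal_iff.1
    (isNormal_inf_subsystem hS hE.1.1 hE.1.2.2.1 hE.1.2.2.2.1 hA)
  have e : T ⊓ T' ⊓ T = T ⊓ T' := inf_eq_left.2 inf_le_left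
  rw [e] at hle hext
  refine isCentral_iff.2 ⟨hle, fun P f hf => ?_⟩
  obtain ⟨g, hg, hag, -⟩ := hext P f hf
  exact ⟨g, hg, hag, fun x hx => fix_of_mem hS hF hE h hg (Subgroup.mem_sup_right hx) hx.2⟩

/-- The central product exists. -/
theorem exists_product (hS : IsPGroup p S) (hF : F.IsSaturated p) (n₁ : E₁.IsNormalIn F p)
    (n₂ : E₂.IsNormalIn F p) (h₁ : T₂ ≤ centE E₁ F p n₁.1.2.2.2.1.1)
    (h₂ : T₁ ≤ centE E₂ F p n₂.1.2.2.2.1.1) :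
    ∃ D : FusionSystem (T₁ ⊔ T₂), IsCentralProductOf E₁ E₂ D := by
  have hT₁ := n₁.1.2.2.2.1
  have hT₂ := n₂.1.2.2.2.1
  have hcomm : ∀ u ∈ T₁, ∀ v ∈ T₂, u * v = v * u := fun u hu v hv =>
    Subgroup.mem_centralizer_iff.1 (centE_le hT₁.1 (h₁ hv)).2 u hu
  have := finite_of_le hT₁.1
  have := finite_of_le hT₂.1
  have : Finite ↥(T₁.prod T₂) := Finite.of_equiv _ (T₁.prodEquiv T₂).toEquiv.symm
  obtain ⟨D₀, hD₀⟩ := exists_productSystem E₁ E₂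
  let θ : ↥(T₁.prod T₂) →* Ω := MonoidHom.mk' (fun x => x.1.1 * x.1.2) fun a b => by
    show (a.1.1 * b.1.1) * (a.1.2 * b.1.2) = a.1.1 * a.1.2 * (b.1.1 * b.1.2)
    calc (a.1.1 * b.1.1) * (a.1.2 * b.1.2) = a.1.1 * (b.1.1 * a.1.2) * b.1.2 := by group
      _ = a.1.1 * (a.1.2 * b.1.1) * b.1.2 := by rw [hcomm _ b.2.1 _ a.2.2]
      _ = _ := by group
  set Z : Subgroup (Ω × Ω) := θ.ker.map (T₁.prod T₂).subtype with hZdef
  have hZle : Z ≤ T₁.prod T₂ := Subgroup.map_subtype_le _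
  have hZmem : ∀ z ∈ Z, z.1 ∈ T₁ ⊓ T₂ ∧ z.2 ∈ T₁ ⊓ T₂ ∧ z.1 * z.2 = 1 := by
    rintro _ ⟨⟨⟨u, v⟩, hu, hv⟩, hz, rfl⟩
    have h1 : u * v = 1 := hz
    have e : v = u⁻¹ := eq_inv_of_mul_eq_one_right h1
    exact ⟨⟨hu, by simpa [e] using T₂.inv_mem hv⟩, ⟨e ▸ T₁.inv_mem hu, hv⟩, h1⟩
  have hc₁ := isCentral_iff.1 (isCentral_inf hS hF n₁ hT₂ h₁)
  have hc₂ := isCentral_iff.1 (isCentral_inf hS hF n₂ hT₁ h₂)
  have hZc : D₀.IsCentral Z := by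
    refine isCentral_iff.2 ⟨hZle, fun P f hf => ?_⟩
    obtain ⟨hP, f₁, f₂, hf₁, hf₂, hfv⟩ := (isMap_product_iff hD₀).1 hf
    obtain ⟨g₁, hg₁, hag₁, hfix₁⟩ := hc₁.2 _ f₁ hf₁
    obtain ⟨g₂, hg₂, hag₂, hfix₂⟩ := hc₂.2 _ f₂ hf₂
    refine ⟨fun w => (g₁ w.1, g₂ w.2), (isMap_product_iff hD₀).2
      ⟨sup_le hP hZle, g₁, g₂, hg₁.mono ?_, hg₂.mono ?_, fun w _ => rfl⟩, fun w hw => ?_,
      fun z hz => ?_⟩
    · rw [Subgroup.map_sup]
      exact sup_le_sup le_rfl (by rintro _ ⟨z, hz, rfl⟩; exact (hZmem z hz).1)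
    · rw [Subgroup.map_sup]
      refine sup_le_sup le_rfl ?_
      rintro _ ⟨z, hz, rfl⟩
      exact (inf_comm T₁ T₂).le (hZmem z hz).2.1
    · rw [hfv w hw]
      exact Prod.ext (hag₁ w.1 ⟨w, hw, rfl⟩) (hag₂ w.2 ⟨w, hw, rfl⟩)
    · exact Prod.ext (hfix₁ _ (hZmem z hz).1)
        (hfix₂ _ ((inf_comm T₁ T₂).le (hZmem z hz).2.1))
  have hr : θ.range = T₁ ⊔ T₂ := by
    refine le_antisymm ?_ (sup_le (fun u hu => ⟨⟨(u, 1), hu, T₂.one_mem⟩, mul_one u⟩)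
      fun v hv => ⟨⟨(1, v), T₁.one_mem, hv⟩, one_mul v⟩)
    rintro _ ⟨⟨⟨u, v⟩, hu, hv⟩, rfl⟩
    exact Subgroup.mul_mem_sup hu hv
  obtain ⟨D, hD⟩ := exists_factorSystem (F := D₀) (θ := θ) (S' := T₁ ⊔ T₂)
    (stronglyClosed_of_isCentral hZc) (fun s => ⟨fun h => ⟨s, h, rfl⟩, by
      rintro ⟨s', hs', e⟩
      exact Subtype.ext e ▸ hs'⟩) hr
  refine ⟨D, D₀, hD₀, Z, θ, le_sSup hZc, ?_, ?_, fun x hx => mul_one x,
    fun y hy => one_mul y, hD⟩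
  · refine (Subgroup.eq_bot_iff_forall _).2 fun z ⟨hz, _, h2⟩ => ?_
    have h2' : z.2 = 1 := Subgroup.mem_bot.1 h2
    have h1 := (hZmem z hz).2.2
    rw [h2', mul_one] at h1
    exact Prod.ext h1 h2'
  · refine (Subgroup.eq_bot_iff_forall _).2 fun z ⟨hz, h1, _⟩ => ?_
    have h1' : z.1 = 1 := Subgroup.mem_bot.1 h1
    have h2 := (hZmem z hz).2.2
    rw [h1', one_mul] at h2
    exact Prod.ext h1' h2

omit [Finite S] in
/-- A congruent map preserves the projection. -/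
theorem mem_of_congr {R : Subgroup Ω} {g g' : Ω → Ω} (hT : F.StronglyClosed T')
    (hgR : ∀ r ∈ R, g r ∈ R) (hg' : IsMap F (R ⊔ T') g')
    (hc : ∀ r ∈ R, (g r)⁻¹ * g' r ∈ T') : ∀ y ∈ R ⊔ T', g' y ∈ R ⊔ T' :=
  mem_of_mem_sup hg' le_sup_left le_sup_right
    (fun r hr => by
      have := Subgroup.mul_mem_sup (hgR r hr) (hc r hr)
      rwa [mul_inv_cancel_left] at this)
    fun t ht => Subgroup.mem_sup_right
      (isMap_mem_of_stronglyClosed hT hg' (Subgroup.mem_sup_right ht) ht)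

namespace Data

variable (h : Data F p E₁ E₂ D)
include h

theorem closed₁ : F.StronglyClosed T₁ := h.n₁.1.2.2.2.1
theorem closed₂ : F.StronglyClosed T₂ := h.n₂.1.2.2.2.1

theorem commute {u v : Ω} (hu : u ∈ T₁) (hv : v ∈ T₂) : u * v = v * u :=
  Subgroup.mem_centralizer_iff.1 (centE_le h.closed₁.1 (h.le₁ hv)).2 u hu

theorem eq_sup : U = T₁ ⊔ T₂ := by
  obtain ⟨D₀, -, Z, θ, -, -, -, hθ₁, hθ₂, hfac⟩ := h.prod
  rw [← hfac.2.2.1]
  apply le_antisymm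
  · rintro _ ⟨⟨⟨u, v⟩, hu, hv⟩, rfl⟩
    have e := NormalProduct.theta_mul (u := u) (v := v) hθ₁ hθ₂ hu hv ⟨hu, hv⟩
    change θ ⟨(u, v), ⟨hu, hv⟩⟩ ∈ _
    rw [e]
    exact Subgroup.mul_mem_sup hu hv
  · exact sup_le (fun u hu => ⟨⟨(u, 1), hu, T₂.one_mem⟩, hθ₁ u _⟩)
      fun v hv => ⟨⟨(1, v), T₁.one_mem, hv⟩, hθ₂ v _⟩

theorem left_le : T₁ ≤ U := h.eq_sup ▸ le_sup_left
theorem right_le : T₂ ≤ U := h.eq_sup ▸ le_sup_right

theorem le_S : U ≤ S := h.eq_sup.le.trans (sup_le h.closed₁.1 h.closed₂.1)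

theorem exists_mul {x : Ω} (hx : x ∈ U) : ∃ u ∈ T₁, ∃ v ∈ T₂, u * v = x := by
  obtain ⟨D₀, -, Z, θ, -, -, -, hθ₁, hθ₂, hfac⟩ := h.prod
  obtain ⟨⟨⟨u, v⟩, hu, hv⟩, rfl⟩ := hfac.2.2.1.ge hx
  exact ⟨u, hu, v, hv, (NormalProduct.theta_mul hθ₁ hθ₂ hu hv _).symm⟩

theorem stronglyClosed : F.StronglyClosed U := by
  have h₁ := h.closed₁
  haveI := normal_subgroupOf_of_stronglyClosed h₁
  obtain ⟨F₁, hF₁⟩ := exists_factorSystem (θ := QuotientGroup.mk' (T₁.subgroupOf S))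
    (S' := (⊤ : Subgroup (S ⧸ T₁.subgroupOf S))) h₁
    (fun s => by rw [QuotientGroup.mk'_apply, QuotientGroup.eq_one_iff]; rfl)
    (MonoidHom.range_eq_top.2 (QuotientGroup.mk'_surjective _))
  have := stronglyClosed_preimageAlong (isSurjectiveMorphism_factor h.pgroup h.sat h₁ hF₁).1
    (stronglyClosed_imageAlong hF₁ h.closed₂)
  rw [preimageAlong_imageAlong hF₁ h.closed₂.1, sup_comm] at this
  rwa [h.eq_sup]

theorem commute_inf {a x : Ω} (ha : a ∈ T₁ ⊓ T₂) (hx : x ∈ U) : a * x = x * a := by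
  obtain ⟨u, hu, v, hv, rfl⟩ := h.exists_mul hx
  rw [← mul_assoc, ← h.commute hu ha.2, mul_assoc, h.commute ha.1 hv, ← mul_assoc]

theorem fix₁ {P : Subgroup Ω} {e : Ω → Ω} (he : IsMap E₁ P e) {a : Ω} (ha : a ∈ P)
    (ha' : a ∈ T₂) : e a = a := fix_of_mem h.pgroup h.sat h.n₁ h.le₁ he ha ha'

theorem fix₂ {P : Subgroup Ω} {e : Ω → Ω} (he : IsMap E₂ P e) {a : Ω} (ha : a ∈ P)
    (ha' : a ∈ T₁) : e a = a := fix_of_mem h.pgroup h.sat h.n₂ h.le₂ he ha ha'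

/-- The maps of the product. -/
theorem isMap_iff {P : Subgroup Ω} {f : Ω → Ω} :
    IsMap D P f ↔ P ≤ U ∧ ∃ (P₁ : Subgroup Ω) (e₁ : Ω → Ω) (P₂ : Subgroup Ω) (e₂ : Ω → Ω),
      IsMap E₁ P₁ e₁ ∧ IsMap E₂ P₂ e₂ ∧
      ∀ u ∈ T₁, ∀ v ∈ T₂, u * v ∈ P → u ∈ P₁ ∧ v ∈ P₂ ∧ f (u * v) = e₁ u * e₂ v := by
  obtain ⟨D₀, hD₀, Z, θ, -, -, -, hθ₁, hθ₂, hfac⟩ := h.prod
  have hv : ∀ {u v : Ω}, u ∈ T₁ → v ∈ T₂ → homExt θ (u, v) = u * v := by
    intro u v hu hv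
    rw [homExt_apply θ (show (u, v) ∈ T₁.prod T₂ from ⟨hu, hv⟩),
      NormalProduct.theta_mul hθ₁ hθ₂ hu hv]
  have hmem : ∀ {u v : Ω}, ((u, v) ∈ preimageAlong θ P ↔ u ∈ T₁ ∧ v ∈ T₂ ∧ u * v ∈ P) := by
    intro u v
    rw [mem_preimageAlong]
    constructor
    · rintro ⟨⟨hu, hv'⟩, hx⟩
      exact ⟨hu, hv', by rwa [hv hu hv'] at hx⟩
    · rintro ⟨hu, hv', hx⟩
      exact ⟨⟨hu, hv'⟩, by rwa [hv hu hv']⟩
  rw [isMap_factor_iff hfac]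
  constructor
  · rintro ⟨hP, g, hg, hgv⟩
    obtain ⟨-, g₁, g₂, hg₁, hg₂, hgp⟩ := (isMap_product_iff hD₀).1 hg
    refine ⟨hP, _, g₁, _, g₂, hg₁, hg₂, fun u hu v hv' hx => ?_⟩
    have hm := hmem.2 ⟨hu, hv', hx⟩
    refine ⟨⟨_, hm, rfl⟩, ⟨_, hm, rfl⟩, ?_⟩
    have h1 := hgv _ hm
    rw [hv hu hv', hgp _ hm] at h1
    simp only at h1
    exact h1.trans (hv (hg₁.mem ⟨_, hm, rfl⟩) (hg₂.mem ⟨_, hm, rfl⟩))
  · rintro ⟨hP, P₁, e₁, P₂, e₂, he₁, he₂, hfv⟩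
    refine ⟨hP, fun w => (e₁ w.1, e₂ w.2), (isMap_product_iff hD₀).2
      ⟨preimageAlong_le θ P, e₁, e₂, ?_, ?_, fun w _ => rfl⟩, ?_⟩
    · refine he₁.mono ?_
      rintro _ ⟨⟨u, v⟩, hw, rfl⟩
      obtain ⟨hu, hv', hx⟩ := hmem.1 hw
      exact (hfv u hu v hv' hx).1
    · refine he₂.mono ?_
      rintro _ ⟨⟨u, v⟩, hw, rfl⟩
      obtain ⟨hu, hv', hx⟩ := hmem.1 hw
      exact (hfv u hu v hv' hx).2.1
    · rintro ⟨u, v⟩ hw
      obtain ⟨hu, hv', hx⟩ := hmem.1 hw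
      obtain ⟨h2, h2', h3⟩ := hfv u hu v hv' hx
      rw [hv hu hv', h3]
      exact (hv (he₁.mem h2) (he₂.mem h2')).symm

/-- A pair of maps of the factors gives a map of the product. -/
theorem exists_map {P P₁ P₂ : Subgroup Ω} {e₁ e₂ : Ω → Ω} (hP : P ≤ U) (he₁ : IsMap E₁ P₁ e₁)
    (he₂ : IsMap E₂ P₂ e₂) (hcov : ∀ u ∈ T₁, ∀ v ∈ T₂, u * v ∈ P → u ∈ P₁ ∧ v ∈ P₂) :
    ∃ f, IsMap D P f ∧ ∀ u ∈ T₁, ∀ v ∈ T₂, u * v ∈ P → f (u * v) = e₁ u * e₂ v := by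
  classical
  let f : Ω → Ω := fun x =>
    if hx : ∃ w : Ω × Ω, w.1 ∈ T₁ ∧ w.2 ∈ T₂ ∧ w.1 * w.2 = x then
      e₁ hx.choose.1 * e₂ hx.choose.2 else 1
  have key : ∀ u ∈ T₁, ∀ v ∈ T₂, u * v ∈ P → f (u * v) = e₁ u * e₂ v := by
    intro u hu v hv hx
    have hex : ∃ w : Ω × Ω, w.1 ∈ T₁ ∧ w.2 ∈ T₂ ∧ w.1 * w.2 = u * v := ⟨(u, v), hu, hv, rfl⟩
    show dite _ _ _ = _
    rw [dif_pos hex]
    obtain ⟨hu', hv', he⟩ := hex.choose_spec
    set u' := hex.choose.1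
    set v' := hex.choose.2
    obtain ⟨huP, hvP⟩ := hcov u hu v hv hx
    obtain ⟨huP', hvP'⟩ := hcov u' hu' v' hv' (he ▸ hx)
    have heq : u⁻¹ * u' = v * v'⁻¹ := by
      rw [eq_mul_inv_iff_mul_eq, mul_assoc, he, inv_mul_cancel_left]
    have ha : u⁻¹ * u' ∈ T₁ ⊓ T₂ :=
      ⟨T₁.mul_mem (T₁.inv_mem hu) hu', heq ▸ T₂.mul_mem hv (T₂.inv_mem hv')⟩
    have hva : v * v'⁻¹ ∈ T₁ := heq ▸ ha.1
    rw [show u' = u * (u⁻¹ * u') by group, he₁.map_mul huP (P₁.mul_mem (P₁.inv_mem huP) huP'),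
      h.fix₁ he₁ (P₁.mul_mem (P₁.inv_mem huP) huP') ha.2, show v = v * v'⁻¹ * v' by group,
      he₂.map_mul (P₂.mul_mem hvP (P₂.inv_mem hvP')) hvP',
      h.fix₂ he₂ (P₂.mul_mem hvP (P₂.inv_mem hvP')) hva, heq, mul_assoc]
  exact ⟨f, h.isMap_iff.2 ⟨hP, P₁, e₁, P₂, e₂, he₁, he₂, fun u hu v hv hx =>
    ⟨(hcov u hu v hv hx).1, (hcov u hu v hv hx).2, key u hu v hv hx⟩⟩, key⟩

theorem isSubsystemOf : D.IsSubsystemOf F := by
  intro P φ hφ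
  obtain ⟨hP, P₁, e₁, P₂, e₂, he₁, he₂, hf⟩ := h.isMap_iff.1 (isMap_homFun hφ)
  obtain ⟨g₁, hg₁, hge₁, hgf₁⟩ := exists_fix h.pgroup h.sat h.n₁ h.le₁ he₁
  obtain ⟨g₂, hg₂, hge₂, hgf₂⟩ := exists_fix h.pgroup h.sat h.n₂ h.le₂ he₂
  have hle : P ≤ P₁ ⊔ T₂ := fun x hx => by
    obtain ⟨u, hu, v, hv, rfl⟩ := h.exists_mul (hP hx)
    exact Subgroup.mul_mem_sup (hf u hu v hv hx).1 hv
  have hv₁ : ∀ u ∈ T₁, ∀ v ∈ T₂, u * v ∈ P → g₁ (u * v) = e₁ u * v := fun u hu v hv hx => by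
    rw [hg₁.map_mul (Subgroup.mem_sup_left (hf u hu v hv hx).1) (Subgroup.mem_sup_right hv),
      hge₁ u (hf u hu v hv hx).1, hgf₁ v hv]
  refine (mem_hom_iff φ).2 ((hg₁.mono hle).comp hg₂ (fun x hx => ?_) |>.congr fun x hx => ?_)
  all_goals obtain ⟨u, hu, v, hv, rfl⟩ := h.exists_mul (hP hx)
  all_goals obtain ⟨hu1, hv2, hfx⟩ := hf u hu v hv hx
  · rw [hv₁ u hu v hv hx, h.commute (he₁.mem hu1) hv]
    exact Subgroup.mul_mem_sup hv2 (he₁.mem hu1)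
  · rw [hfx]
    show g₂ (g₁ (u * v)) = _
    rw [hv₁ u hu v hv hx, hg₂.map_mul (Subgroup.mem_sup_right (he₁.mem hu1))
      (Subgroup.mem_sup_left hv2), hgf₂ _ (he₁.mem hu1), hge₂ v hv2]

theorem isSaturated : D.IsSaturated p := by
  obtain ⟨D₀, hD₀, Z, θ, hZ, -, -, -, -, hfac⟩ := h.prod
  have := finite_of_le h.closed₁.1
  have := finite_of_le h.closed₂.1
  haveI : Finite (T₁.prod T₂) := Finite.of_equiv _ (Subgroup.prodEquiv T₁ T₂).symm.toEquiv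
  have hp : IsPGroup p (T₁.prod T₂) := by
    intro x
    obtain ⟨a, ha⟩ := h.pgroup.to_le h.closed₁.1 ⟨_, x.2.1⟩
    obtain ⟨b, hb⟩ := h.pgroup.to_le h.closed₂.1 ⟨_, x.2.2⟩
    refine ⟨a + b, Subtype.ext (Prod.ext ?_ ?_)⟩
    · show (x : Ω × Ω).1 ^ p ^ (a + b) = 1
      rw [pow_add, pow_mul, show (x : Ω × Ω).1 ^ p ^ a = 1 from congrArg Subtype.val ha, one_pow]
    · show (x : Ω × Ω).2 ^ p ^ (a + b) = 1
      rw [pow_add, mul_comm, pow_mul, show (x : Ω × Ω).2 ^ p ^ b = 1 from congrArg Subtype.val hb,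
        one_pow]
  have hsat : D₀.IsSaturated p := isSaturated_product (h.pgroup.to_le h.closed₁.1)
    (h.pgroup.to_le h.closed₂.1) h.n₁.1.1 h.n₂.1.1 hD₀
  refine isSaturated_factor hp hsat (stronglyClosed_iff.2 ⟨hfac.1, fun P f hf x hx hxZ => ?_⟩) hfac
  obtain ⟨g, hg, hgv, hgZ⟩ := (isCentral_iff.1 (isCentral_center D₀)).2 P f hf
  rw [← hgv x hx, hgZ x (hZ hxZ)]
  exact hxZ

/-- The product is stable under the automorphisms of its support. -/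
theorem autStable : SeedCriterion.AutStable D F := by
  intro a ha P f hf
  obtain ⟨hP, P₁, e₁, P₂, e₂, he₁, he₂, hfv⟩ := h.isMap_iff.1 hf
  have hUS := h.le_S
  have := finite_of_le h.closed₁.1
  have := finite_of_le h.closed₂.1
  have hb := ((mem_autGroup_iff hUS a⁻¹).1 (Subgroup.inv_mem _ ha)).isMap
  have hres : ∀ {V : Subgroup Ω}, F.StronglyClosed V → V ≤ U → Finite V →
      ∃ c ∈ F.autGroup V, ∀ x ∈ V, autFun c x = autFun a⁻¹ x := by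
    intro V hV hVU _
    obtain ⟨c, hc, hcv⟩ := exists_mem_autGroup ((hb.mono hVU).isIso_of_card_le
      (fun x hx => isMap_mem_of_stronglyClosed hV hb (hVU hx) hx) le_rfl)
    exact ⟨c, hc, fun x hx => (autFun_apply c hx).trans (hcv ⟨x, hx⟩)⟩
  obtain ⟨b₁, hb₁, hb₁v⟩ := hres h.closed₁ h.left_le inferInstance
  obtain ⟨b₂, hb₂, hb₂v⟩ := hres h.closed₂ h.right_le inferInstance
  obtain ⟨e₁', he₁', he₁'v⟩ := exists_transport h.n₁.1.2.2 he₁ hb₁ (coe_imageAut b₁ he₁.le)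
  obtain ⟨e₂', he₂', he₂'v⟩ := exists_transport h.n₂.1.2.2 he₂ hb₂ (coe_imageAut b₂ he₂.le)
  have hm := ((mem_autGroup_iff hUS a).1 ha).isMap
  refine h.isMap_iff.2 ⟨imageAut_le _ _, _, e₁', _, e₂', he₁', he₂', fun u hu v hv hx => ?_⟩
  obtain ⟨-, hxP⟩ := PPrime.mem_imageAut_inv a hx
  have hu' : autFun a u ∈ T₁ :=
    isMap_mem_of_stronglyClosed h.closed₁ hm (h.left_le hu) hu
  have hv' : autFun a v ∈ T₂ :=
    isMap_mem_of_stronglyClosed h.closed₂ hm (h.right_le hv) hv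
  rw [hm.map_mul (h.left_le hu) (h.right_le hv)] at hxP
  obtain ⟨hu1, hv2, hfx⟩ := hfv _ hu' _ hv' hxP
  have hu0 : autFun b₁ (autFun a u) = u := by
    rw [hb₁v _ hu', PPrime.autFun_inv_autFun a (h.left_le hu)]
  have hv0 : autFun b₂ (autFun a v) = v := by
    rw [hb₂v _ hv', PPrime.autFun_inv_autFun a (h.right_le hv)]
  refine ⟨hu0 ▸ mem_imageAut b₁ hu1 (he₁.le hu1), hv0 ▸ mem_imageAut b₂ hv2 (he₂.le hv2), ?_⟩
  have h1 := he₁'v _ hu1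
  have h2 := he₂'v _ hv2
  rw [hu0] at h1
  rw [hv0] at h2
  show autFun a⁻¹ (f (autFun a (u * v))) = _
  rw [hm.map_mul (h.left_le hu) (h.right_le hv), hfx, h1, h2, hb₁v _ (he₁.mem hu1),
    hb₂v _ (he₂.mem hv2), hb.map_mul (h.left_le (he₁.mem hu1)) (h.right_le (he₂.mem hv2))]

/-- Automorphisms extending to the support normalise the automizer. -/
theorem conj_mem_autGroup {R : Subgroup Ω} (hR : R ≤ U) {a : MulAut U} (ha : a ∈ F.autGroup U)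
    {n : MulAut R} (hn : ∀ x : R, (n x : Ω) = autFun a x) {j : MulAut R} (hj : j ∈ D.autGroup R) :
    n * j * n⁻¹ ∈ D.autGroup R := by
  have hm := h.autStable a⁻¹ (Subgroup.inv_mem _ ha) R _ ((mem_autGroup_iff hR j).1 hj).isMap
  rw [inv_inv] at hm
  refine mem_autGroup_of_isMap (hm.mono fun x hx => ?_) _ fun y => ?_
  · obtain ⟨y, hy⟩ := n.surjective ⟨x, hx⟩
    have e : x = autFun a y := by rw [← hn y, hy]
    exact e ▸ mem_imageAut a y.2 (hR y.2)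
  · obtain ⟨x, rfl⟩ := n.surjective y
    rw [MulAut.mul_apply, MulAut.mul_apply, MulAut.inv_apply_self]
    show _ = autFun a (autFun j (autFun a⁻¹ (n x : Ω)))
    rw [hn x, PPrime.autFun_inv_autFun a (hR x.2), autFun_coe, hn]

/-- Conjugation moves the automizer only by automorphisms trivial modulo the intersection. -/
theorem exists_conj_aut {R : Subgroup Ω} (hR : R ≤ U) (hAR : T₁ ⊓ T₂ ≤ R) {g j : MulAut R}
    (hg : g ∈ F.autGroup R) (hj : j ∈ D.autGroup R) :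
    ∃ d ∈ D.autGroup R, (∀ z : R, (z : Ω) ∈ T₁ ⊓ T₂ → (d⁻¹ * (g * j * g⁻¹)) z = z) ∧
      ∀ z : R, (z : Ω)⁻¹ * ((d⁻¹ * (g * j * g⁻¹)) z : Ω) ∈ T₁ ⊓ T₂ := by
  have hUS := h.le_S
  have hRS := hR.trans hUS
  have := finite_of_le hRS
  have hgm := ((mem_autGroup_iff hRS g).1 hg).isMap
  obtain ⟨hjR, P₁, e₁, P₂, e₂, he₁, he₂, hjv⟩ :=
    h.isMap_iff.1 ((mem_autGroup_iff hR j).1 hj).isMap
  obtain ⟨g₁, hg₁, hg₁v⟩ := exists_map_sup_congr h.pgroup h.sat h.closed₂ hgm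
  obtain ⟨g₂, hg₂, hg₂v⟩ := exists_map_sup_congr h.pgroup h.sat h.closed₁ hgm
  have hgR : ∀ r ∈ R, autFun g r ∈ R := fun r hr => autFun_mem g hr
  have hg₁m := mem_of_congr h.closed₂ hgR hg₁ hg₁v
  have hg₂m := mem_of_congr h.closed₁ hgR hg₂ hg₂v
  set R₁ := T₁ ⊓ (R ⊔ T₂) with hR₁
  set R₂ := T₂ ⊓ (R ⊔ T₁) with hR₂
  have hproj : ∀ u ∈ T₁, ∀ v ∈ T₂, u * v ∈ R → u ∈ R₁ ∧ v ∈ R₂ := fun u hu v hv hx =>
    ⟨⟨hu, by
      have := Subgroup.mul_mem_sup hx (T₂.inv_mem hv)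
      rwa [mul_inv_cancel_right] at this⟩, hv, by
      have := Subgroup.mul_mem (R ⊔ T₁) (Subgroup.mem_sup_right (T₁.inv_mem hu))
        (Subgroup.mem_sup_left hx)
      rwa [inv_mul_cancel_left] at this⟩
  have hconj : ∀ {V : Subgroup Ω}, F.StronglyClosed V → ∀ r ∈ R, ∀ w ∈ V, r * w * r⁻¹ ∈ V :=
    fun hV r hr w hw => conjMem_of_stronglyClosed hV (hRS hr) hw
  have hlift₁ : ∀ u ∈ R₁, ∃ v ∈ T₂, u * v ∈ R := fun u hu => by
    have hu' : u ∈ ((R ⊔ T₂ : Subgroup Ω) : Set Ω) := hu.2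
    rw [Subgroup.coe_mul_of_left_le_normalizer_right _ _ (fun r hr =>
      mem_normalizer_of_conj_mem h.closed₂.1 (hconj h.closed₂ r hr))] at hu'
    obtain ⟨r, hr, w, hw, e⟩ := hu'
    exact ⟨w⁻¹, T₂.inv_mem hw, by rw [← e]; simpa using hr⟩
  have hlift₂ : ∀ v ∈ R₂, ∃ u ∈ T₁, u * v ∈ R := fun v hv => by
    have hv' : v ∈ ((R ⊔ T₁ : Subgroup Ω) : Set Ω) := hv.2
    rw [Subgroup.coe_mul_of_left_le_normalizer_right _ _ (fun r hr =>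
      mem_normalizer_of_conj_mem h.closed₁.1 (hconj h.closed₁ r hr))] at hv'
    obtain ⟨r, hr, w, hw, e⟩ := hv'
    exact ⟨w⁻¹, T₁.inv_mem hw, by
      rw [h.commute (T₁.inv_mem hw) hv.1, ← e]; simpa using hr⟩
  have hR₁P : R₁ ≤ P₁ := fun u hu => by
    obtain ⟨v, hv, hx⟩ := hlift₁ u hu
    exact (hjv u hu.1 v hv hx).1
  have hR₂P : R₂ ≤ P₂ := fun v hv => by
    obtain ⟨u, hu, hx⟩ := hlift₂ v hv
    exact (hjv u hu v hv.1 hx).2.1
  have he₁R : ∀ u ∈ R₁, e₁ u ∈ R₁ := fun u hu => by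
    obtain ⟨v, hv, hx⟩ := hlift₁ u hu
    obtain ⟨h1, h2, h3⟩ := hjv u hu.1 v hv hx
    exact (hproj _ (he₁.mem h1) _ (he₂.mem h2) (h3 ▸ autFun_mem j hx)).1
  have he₂R : ∀ v ∈ R₂, e₂ v ∈ R₂ := fun v hv => by
    obtain ⟨u, hu, hx⟩ := hlift₂ v hv
    obtain ⟨h1, h2, h3⟩ := hjv u hu v hv.1 hx
    exact (hproj _ (he₁.mem h1) _ (he₂.mem h2) (h3 ▸ autFun_mem j hx)).2
  have hg₁R : ∀ u ∈ R₁, g₁ u ∈ R₁ := fun u hu =>
    ⟨isMap_mem_of_stronglyClosed h.closed₁ hg₁ hu.2 hu.1, hg₁m u hu.2⟩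
  have hg₂R : ∀ v ∈ R₂, g₂ v ∈ R₂ := fun v hv =>
    ⟨isMap_mem_of_stronglyClosed h.closed₂ hg₂ hv.2 hv.1, hg₂m v hv.2⟩
  have := finite_of_le (S := S) (P := R₁) (inf_le_left.trans h.closed₁.1)
  have := finite_of_le (S := S) (P := R₂) (inf_le_left.trans h.closed₂.1)
  have hg₁' := hg₁.mono (inf_le_right : R₁ ≤ R ⊔ T₂)
  have hg₂' := hg₂.mono (inf_le_right : R₂ ≤ R ⊔ T₁)
  obtain ⟨d₁, hd₁, hd₁v⟩ := strongInvariant_of_invariant h.n₁.1.2.2 R₁ R₁ e₁ g₁ le_rfl inf_le_left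
    (he₁.mono hR₁P) he₁R hg₁' R₁ (hg₁'.isIso_of_card_le hg₁R le_rfl).image_eq
  obtain ⟨d₂, hd₂, hd₂v⟩ := strongInvariant_of_invariant h.n₂.1.2.2 R₂ R₂ e₂ g₂ le_rfl inf_le_left
    (he₂.mono hR₂P) he₂R hg₂' R₂ (hg₂'.isIso_of_card_le hg₂R le_rfl).image_eq
  obtain ⟨f, hf, hfv⟩ := h.exists_map hR hd₁ hd₂ hproj
  -- the defect of `g₁` and `g₂`
  have hdefect : ∀ u ∈ T₁, ∀ v ∈ T₂, u * v ∈ R →
      ∃ l ∈ T₁ ⊓ T₂, autFun g (u * v) = g₁ u * l * g₂ v := by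
    intro u hu v hv hx
    obtain ⟨h1, h2⟩ := hproj u hu v hv hx
    have hw₁ : g₁ u ∈ T₁ := (hg₁R u h1).1
    have hw₂ : g₂ v ∈ T₂ := (hg₂R v h2).1
    have hgv₁ : g₁ (u * v) = g₁ u * g₁ v := hg₁.map_mul h1.2 (Subgroup.mem_sup_right hv)
    have hgv₂ : g₂ (u * v) = g₂ u * g₂ v := hg₂.map_mul (Subgroup.mem_sup_right hu) h2.2
    have hg₁v' : g₁ v ∈ T₂ :=
      isMap_mem_of_stronglyClosed h.closed₂ hg₁ (Subgroup.mem_sup_right hv) hv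
    have hg₂u : g₂ u ∈ T₁ :=
      isMap_mem_of_stronglyClosed h.closed₁ hg₂ (Subgroup.mem_sup_right hu) hu
    refine ⟨(g₁ u)⁻¹ * autFun g (u * v) * (g₂ v)⁻¹, ⟨?_, ?_⟩, by group⟩
    · rw [mul_assoc]
      refine T₁.mul_mem (T₁.inv_mem hw₁) ?_
      have k1 : (autFun g (u * v))⁻¹ * g₂ (u * v) ∈ T₁ := hg₂v _ hx
      have k2 := hconj h.closed₁ _ (hgR _ hx) _ k1
      have k3 := T₁.mul_mem (T₁.inv_mem k2) hg₂u
      rw [hgv₂] at k3
      convert k3 using 1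
      group
    · refine T₂.mul_mem ?_ (T₂.inv_mem hw₂)
      have k1 : (autFun g (u * v))⁻¹ * g₁ (u * v) ∈ T₂ := hg₁v _ hx
      have k2 := T₂.mul_mem hg₁v' (T₂.inv_mem k1)
      rw [hgv₁] at k2
      convert k2 using 1
      group
  have hy : ∀ r ∈ R, autFun (g * j * g⁻¹) (autFun g r) = autFun g (autFun j r) := by
    intro r hr
    rw [autFun_apply g hr, autFun_coe, MulAut.mul_apply, MulAut.mul_apply, MulAut.inv_apply_self,
      autFun_apply j hr, autFun_coe]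
  have hAU : T₁ ⊓ T₂ ≤ U := hAR.trans hR
  have hgval : ∀ r ∈ R, ∃ μ ∈ T₁ ⊓ T₂,
      f (autFun g r) = autFun (g * j * g⁻¹) (autFun g r) * μ := by
    intro r hr
    obtain ⟨u, hu, v, hv, rfl⟩ := h.exists_mul (hR hr)
    obtain ⟨h1, h2⟩ := hproj u hu v hv hr
    obtain ⟨k1, k2, k3⟩ := hjv u hu v hv hr
    obtain ⟨l, hl, hlv⟩ := hdefect u hu v hv hr
    obtain ⟨l', hl', hl'v⟩ := hdefect _ (he₁.mem k1) _ (he₂.mem k2)
      (k3 ▸ autFun_mem j hr)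
    refine ⟨l'⁻¹ * l, Subgroup.mul_mem _ (Subgroup.inv_mem _ hl') hl, ?_⟩
    rw [hy _ hr, k3, hl'v, hlv]
    have hlu : g₁ u * l ∈ T₁ := T₁.mul_mem (hg₁R u h1).1 hl.1
    have hl1 : l ∈ R₁ := ⟨hl.1, Subgroup.mem_sup_right hl.2⟩
    rw [hfv _ hlu _ (hg₂R v h2).1 (hlv ▸ autFun_mem g hr),
      hd₁.map_mul (hg₁R u h1) hl1, h.fix₁ hd₁ hl1 hl.2, hd₁v u h1, hd₂v v h2]
    have hgU : g₂ (e₂ v) ∈ U := h.right_le (hg₂R _ (he₂R v h2)).1
    calc g₁ (e₁ u) * l * g₂ (e₂ v) = g₁ (e₁ u) * l' * ((l'⁻¹ * l) * g₂ (e₂ v)) := by group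
      _ = g₁ (e₁ u) * l' * (g₂ (e₂ v) * (l'⁻¹ * l)) := by
        rw [h.commute_inf (Subgroup.mul_mem _ (Subgroup.inv_mem _ hl') hl) hgU]
      _ = _ := by group
  have hfR : ∀ z ∈ R, f z ∈ R := fun z hz => by
    obtain ⟨μ, hμ, e⟩ := hgval _ (autFun_mem g⁻¹ hz)
    rw [show autFun g (autFun g⁻¹ z) = z from autFun_self_inv g hz] at e
    rw [e]
    exact R.mul_mem (autFun_mem _ hz) (hAR hμ)
  obtain ⟨d, hd, hdv⟩ := exists_mem_autGroup (hf.isIso_of_card_le hfR le_rfl)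
  have hdA : ∀ z : R, (z : Ω) ∈ T₁ ⊓ T₂ → d z = z := fun z hz => Subtype.ext (by
    have hz' : (z : Ω) * 1 ∈ R := by rw [mul_one]; exact z.2
    have h1 := hfv (z : Ω) hz.1 1 T₂.one_mem hz'
    rw [mul_one, hd₂.map_one, mul_one, h.fix₁ hd₁ ⟨hz.1, Subgroup.mem_sup_left z.2⟩ hz.2] at h1
    rw [hdv, h1])
  have hd'A : ∀ z : R, (z : Ω) ∈ T₁ ⊓ T₂ → d⁻¹ z = z := fun z hz => by
    conv_lhs => rw [← hdA z hz]
    rw [MulAut.inv_apply_self]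
  refine ⟨d, hd, fun z hz => ?_, fun z => ?_⟩
  · have hyz : (g * j * g⁻¹) z = z := by
      obtain ⟨w, rfl⟩ := g.surjective z
      have hw : (w : Ω) ∈ T₁ ⊓ T₂ := by
        have hinv := ((mem_autGroup_iff hRS g⁻¹).1 (Subgroup.inv_mem _ hg)).isMap
        have h1 := isMap_mem_of_stronglyClosed (Meet.stronglyClosed_inf h.closed₁ h.closed₂) hinv
          (g w).2 hz
        rwa [autFun_coe, MulAut.inv_apply_self] at h1
      rw [MulAut.mul_apply, MulAut.mul_apply, MulAut.inv_apply_self]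
      congr 1
      refine Subtype.ext ?_
      have hw' : (w : Ω) * 1 ∈ R := by rw [mul_one]; exact w.2
      obtain ⟨k1, -, k3⟩ := hjv (w : Ω) hw.1 1 T₂.one_mem hw'
      rw [mul_one, he₂.map_one, mul_one, h.fix₁ he₁ k1 hw.2, autFun_coe] at k3
      exact k3
    rw [MulAut.mul_apply, hyz, hd'A z hz]
  · obtain ⟨μ, hμ, e⟩ := hgval _ (autFun_mem g⁻¹ z.2)
    rw [show autFun g (autFun g⁻¹ (z : Ω)) = z from autFun_self_inv g z.2, autFun_coe,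
      ← hdv z] at e
    have e' : (g * j * g⁻¹) z = d z * ⟨μ⁻¹, hAR (Subgroup.inv_mem _ hμ)⟩ := Subtype.ext (by
      rw [Subgroup.coe_mul, e, mul_inv_cancel_right])
    rw [MulAut.mul_apply, e', map_mul, MulAut.inv_apply_self,
      hd'A _ (Subgroup.inv_mem _ hμ), Subgroup.coe_mul, inv_mul_cancel_left]
    exact Subgroup.inv_mem _ hμ

/-- Conjugates of inner automorphisms lie in the product. -/
theorem seeds : SeedCriterion.Seeds D F := by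
  intro R hRU hfn hc g hg x hx
  have hUS := h.le_S
  have hRS := hfn.1
  have := finite_of_le hRS
  have := finite_mulAut R
  set A := T₁ ⊓ T₂ with hAdef
  have hAsc : F.StronglyClosed A := Meet.stronglyClosed_inf h.closed₁ h.closed₂
  have hAR : A ≤ R := fun a ha => hc ⟨h.left_le ha.1,
    Subgroup.mem_centralizer_iff.2 fun r hr => (h.commute_inf ha (hRU hr)).symm⟩
  set G := F.autGroup R
  set J := D.autGroup R
  have hJG : J ≤ G := fun j hj => (mem_autGroup_iff hRS j).2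
    (((mem_autGroup_iff hRU j).1 hj).of_subsystem h.isSubsystemOf)
  have hinvA : ∀ a ∈ G, ∀ y ∈ R, y ∈ A → autFun a y ∈ A := fun a ha y hy hyA =>
    isMap_mem_of_stronglyClosed hAsc ((mem_autGroup_iff hRS a).1 ha).isMap hy hyA
  set K := (trivKer F R A).map G.subtype with hKdef
  obtain ⟨-, Sy, hSy⟩ := isFullyAutomized_of_isFullyNormalized h.pgroup h.sat hfn
  have hKS : K ≤ autInducedBy S R := by
    rintro _ ⟨a, ha, rfl⟩
    have h1 : a ∈ (Sy : Subgroup G) :=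
      (trivKer_le_pCore h.pgroup hRS hinvA).trans (Residual.le_sylow
        (hn := CfsgLib.Fitting.pCore_normal p) (CfsgLib.Fitting.pCore_isPGroup p) Sy) ha
    rw [hSy] at h1
    exact h1
  have hKG : K ≤ G := Subgroup.map_subtype_le _
  have hSJ : ∀ s ∈ autInducedBy S R, ∀ j ∈ J, s * j * s⁻¹ ∈ J := by
    intro s hs j hj
    obtain ⟨w, hw, hwv⟩ := (mem_autInducedBy_iff S R s).1 hs
    have hwU : w ∈ Subgroup.normalizer (U : Set Ω) := mem_normalizer_of_conj_mem hUS fun y hy =>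
      conjMem_of_stronglyClosed h.stronglyClosed hw hy
    refine h.conj_mem_autGroup hRU (autInducedBy_le_autGroup hUS
      (conjAut_mem_autInducedBy hwU hw)) (fun y => ?_) hj
    rw [autFun_apply _ (hRU y.2), conjAut_apply, hwv]
  have hKnJ : K ≤ Subgroup.normalizer (J : Set (MulAut R)) := fun k hk =>
    Subgroup.mem_normalizer_iff.2 fun j => ⟨fun hj => hSJ k (hKS hk) j hj, fun hj => by
      have h1 := hSJ k⁻¹ (hKS (K.inv_mem hk)) _ hj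
      rwa [show k⁻¹ * (k * j * k⁻¹) * k⁻¹⁻¹ = j by group] at h1⟩
  -- `J K` is normal
  have hJKn : ∀ a ∈ G, J ⊔ K ≤ (J ⊔ K).comap (MulAut.conj a).toMonoidHom := by
    intro a ha
    refine sup_le (fun j hj => ?_) fun k hk => Subgroup.mem_sup_right ?_
    · obtain ⟨d, hd, hd1, hd2⟩ := h.exists_conj_aut hRU hAR ha hj
      have hmem : d⁻¹ * (a * j * a⁻¹) ∈ K :=
        ⟨⟨_, G.mul_mem (G.inv_mem (hJG hd)) (G.mul_mem (G.mul_mem ha (hJG hj)) (G.inv_mem ha))⟩,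
          ⟨hd1, fun z => hd2 z⟩, rfl⟩
      show a * j * a⁻¹ ∈ J ⊔ K
      rw [show a * j * a⁻¹ = d * (d⁻¹ * (a * j * a⁻¹)) by group]
      exact Subgroup.mul_mem_sup hd hmem
    · obtain ⟨k₀, ⟨hk1, hk2⟩, rfl⟩ := hk
      have hainv : ∀ y : R, (y : Ω) ∈ A → (((a⁻¹ : MulAut R) y : R) : Ω) ∈ A := fun y hy => by
        rw [← autFun_coe]; exact hinvA _ (G.inv_mem ha) _ y.2 hy
      refine ⟨⟨a, ha⟩ * k₀ * ⟨a, ha⟩⁻¹, ⟨fun y hy => ?_, fun y => ?_⟩, rfl⟩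
      · show a ((k₀ : MulAut R) (a⁻¹ y)) = y
        rw [hk1 _ (hainv y hy), MulAut.apply_inv_self]
      · obtain ⟨z, rfl⟩ := a.surjective y
        show (((a z)⁻¹ * a ((k₀ : MulAut R) (a⁻¹ (a z))) : R) : Ω) ∈ A
        rw [MulAut.inv_apply_self, ← map_inv, ← map_mul, ← autFun_coe]
        exact hinvA a ha _ (SetLike.coe_mem _) (hk2 z)
  set N := (J ⊔ K).subgroupOf G
  haveI : N.Normal := ⟨fun b hb a => hJKn a a.2 hb⟩
  obtain ⟨SK, hSK⟩ := SatExtend.exists_sylow_inf Sy N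
  have hxJ : x ∈ J := autInducedBy_le_autGroup hRU hx
  have hxS : x ∈ autInducedBy S R := autInducedBy_mono hUS R hx
  have htop : (⟨g, hg⟩ : G)⁻¹ ∈
      Subgroup.normalizer (((SK : Subgroup N).map N.subtype : Subgroup _) : Set G) ⊔ N := by
    rw [Sylow.normalizer_sup_eq_top]
    exact Subgroup.mem_top _
  obtain ⟨n, hn, b, hb, hnb⟩ := Subgroup.mem_sup_of_normal_right.1 htop
  have hxK : (⟨x, hJG hxJ⟩ : G) ∈ (SK : Subgroup N).map N.subtype := by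
    refine ⟨⟨_, Subgroup.mem_subgroupOf.2 (Subgroup.mem_sup_left hxJ)⟩, ?_, rfl⟩
    rw [SetLike.mem_coe, hSK, Subgroup.mem_subgroupOf, hSy, Subgroup.mem_subgroupOf]
    exact hxS
  obtain ⟨z, hz, hze⟩ :=
    (Subgroup.mem_normalizer_iff.1 (Subgroup.inv_mem _ hn) _).1 hxK
  rw [SetLike.mem_coe, hSK, Subgroup.mem_subgroupOf, hSy, Subgroup.mem_subgroupOf] at hz
  have hzeq : ((n⁻¹ : G) : MulAut R) * x * ((n⁻¹ : G) : MulAut R)⁻¹ = ((z : G) : MulAut R) :=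
    (congrArg (fun w : G => (w : MulAut R)) hze).symm
  have hnU : ((n⁻¹ : G) : MulAut R) * x * ((n⁻¹ : G) : MulAut R)⁻¹ ∈ autInducedBy U R := by
    obtain ⟨t, ht, htv⟩ := (mem_autInducedBy_iff _ R x).1 hx
    obtain ⟨s, hs, hsv⟩ := (mem_autInducedBy_iff _ R _).1 (hzeq ▸ hz :
      ((n⁻¹ : G) : MulAut R) * x * ((n⁻¹ : G) : MulAut R)⁻¹ ∈ autInducedBy S R)
    set a := ((n⁻¹ : G) : MulAut R)
    have hai := (mem_autGroup_iff hRS a).1 (n⁻¹ : G).2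
    obtain ⟨f', hf', hf'v⟩ := (isReceptive_iff.1
      (isReceptive_of_isFullyNormalized h.pgroup h.sat hfn)).2 R _ hai
    have htn := (mem_normalizerIn_of_induces hRS (hUS ht) htv).2
    have hval : ∀ y ∈ R, autFun a (t * y * t⁻¹) = s * autFun a y * s⁻¹ := fun y hy => by
      have h1 := hsv (a ⟨y, hy⟩)
      rw [MulAut.mul_apply, MulAut.mul_apply, MulAut.inv_apply_self] at h1
      rw [autFun_apply a hy, ← h1, ← htv ⟨y, hy⟩, autFun_coe]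
    have htN : t ∈ nPhi S R (autFun a) := ⟨hUS ht, htn, s, hs, hval⟩
    refine (mem_autInducedBy_iff _ R _).2
      ⟨f' t, isMap_mem_of_stronglyClosed h.stronglyClosed hf' htN ht, fun w => ?_⟩
    obtain ⟨y, rfl⟩ := a.surjective w
    rw [MulAut.mul_apply, MulAut.mul_apply, MulAut.inv_apply_self]
    have hyN : ∀ w : R, (w : Ω) ∈ nPhi S R (autFun a) := fun w => le_nPhi hai.isMap w.2
    rw [← autFun_coe a (x y), htv, ← autFun_coe a y, hval y y.2,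
      ← hf'v _ y.2, ← hf'.map_conj htN (hyN y), hf'v _ (conj_mem_of_mem_normalizer htn y.2),
      hval y y.2, hf'v _ y.2]
  -- `b⁻¹` normalises `J`
  have hJKJ : J ⊔ K ≤ Subgroup.normalizer (J : Set (MulAut R)) :=
    sup_le Subgroup.le_normalizer hKnJ
  have hbn := hJKJ (Subgroup.inv_mem _ hb)
  have hgeq : g = ((b : MulAut R))⁻¹ * ((n⁻¹ : G) : MulAut R) := by
    have := congrArg (fun w : G => ((w : MulAut R))⁻¹) hnb
    simpa using this.symm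
  rw [hgeq, show (b : MulAut R)⁻¹ * ((n⁻¹ : G) : MulAut R) * x *
    ((b : MulAut R)⁻¹ * ((n⁻¹ : G) : MulAut R))⁻¹ = (b : MulAut R)⁻¹ *
      (((n⁻¹ : G) : MulAut R) * x * ((n⁻¹ : G) : MulAut R)⁻¹) * (b : MulAut R)⁻¹⁻¹ by group]
  exact (Subgroup.mem_normalizer_iff.1 hbn _).1 (autInducedBy_le_autGroup hRU hnU)

theorem isInvariantIn : D.IsInvariantIn F := by
  refine ⟨h.isSubsystemOf, h.stronglyClosed, fun P hPT φ hφ a ha => ?_, fun P hP φ hφ => ?_⟩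
  · have hf := h.autStable a⁻¹ (Subgroup.inv_mem _ ha) P _ (isMap_homFun hφ)
    rw [inv_inv] at hf
    obtain ⟨χ, hχ, hχv⟩ := hf.exists_hom
    refine ⟨χ, hχ, fun x hφx hax => (hχv ⟨_, hax⟩).trans ?_⟩
    show autFun a (homFun φ (autFun a⁻¹ ((a ⟨x, hPT x.2⟩ : _) : Ω))) = _
    rw [← autFun_apply a (hPT x.2), PPrime.autFun_inv_autFun a (hPT x.2), homFun_coe,
      autFun_apply a hφx]
  · obtain ⟨a, ha, f₀, hf₀, hv⟩ := SeedCriterion.factors_of_seeds h.pgroup h.sat h.stronglyClosed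
      h.autStable h.seeds _ P _ rfl hP (isMap_homFun hφ)
    obtain ⟨φ₀, hφ₀, hφ₀v⟩ := hf₀.exists_hom
    refine ⟨a, ha, φ₀, hφ₀, fun x hx => ?_⟩
    rw [← homFun_coe φ x, hv x x.2, ← hφ₀v x, autFun_apply a hx]

end Data

/-- An automorphism of a normal subsystem over its support satisfies the extension condition on
the product with a subgroup of its centraliser. -/
theorem exists_extT (hS : IsPGroup p S) (hF : F.IsSaturated p) (hE : E.IsNormalIn F p)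
    (h : T' ≤ centE E F p hE.1.2.2.2.1.1) (hT' : T' ≤ S) (hUeq : U = T ⊔ T') {a : MulAut T}
    (ha : a ∈ E.autGroup T) :
    ∃ β : MulAut U, MeetNormal.ExtT F U β ∧ (∀ u ∈ T, autFun β u = autFun a u) ∧
      ∀ v ∈ T', autFun β v = v := by
  have hTS := hE.1.2.2.2.1.1
  have hUS : U ≤ S := hUeq ▸ sup_le hTS hT'
  have hTp : IsPGroup p T := hS.to_le hTS
  have := finite_of_le hTS
  obtain ⟨x, hx, m, hmo, hxv⟩ := Residual.exists_inner_mul hTp hE.1.1 ha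
  have hTc : E.IsCentric T := ⟨le_rfl, fun Q hQ => by
    obtain ⟨f, hf⟩ := isConj_iff.1 hQ
    rw [Subgroup.eq_of_le_of_card_ge hf.le_right hf.card_eq.ge]
    exact inf_le_left⟩
  obtain ⟨δ, hδ, hδv⟩ := exists_isExt hS hF hE hTc (Subgroup.pow_mem _ ha m) hmo
  have hδm := hδ.isMap hTS
  have hT'C : T' ≤ centralizerIn S T := h.trans (centE_le hTS)
  have hTU : T ≤ U := hUeq ▸ le_sup_left
  have hCle : centralizerIn S U ≤ centralizerIn S T :=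
    inf_le_inf_left _ (Subgroup.centralizer_le (show (T : Set Ω) ⊆ U from hTU))
  have hVle : U ⊔ centralizerIn S U ≤ T ⊔ centralizerIn S T :=
    sup_le (hUeq ▸ sup_le_sup le_rfl hT'C) (le_sup_of_le_right hCle)
  have hx' : x⁻¹ ∈ T := T.inv_mem hx
  have hfix : ∀ v ∈ T', autFun δ v = v := fun v hv => (h hv).2 T δ hTc hδ
  have hb : IsMap F (U ⊔ centralizerIn S U) (fun y => x⁻¹ * autFun δ y * x⁻¹⁻¹) :=
    (hδm.mono hVle).comp (isMap_conj (F := F) le_rfl (hTS hx')) fun y hy => hδm.mem (hVle hy)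
  have hv₁ : ∀ u ∈ T, x⁻¹ * autFun δ u * x⁻¹⁻¹ = autFun a u := fun u hu => by
    rw [hδv u hu, autFun_apply _ hu, hxv, autFun_apply a hu]
    group
  have hv₂ : ∀ v ∈ T', x⁻¹ * autFun δ v * x⁻¹⁻¹ = v := fun v hv => by
    rw [hfix v hv, Subgroup.mem_centralizer_iff.1 (hT'C hv).2 _ hx', mul_inv_cancel_right]
  have hU₁ : T ≤ U ⊔ centralizerIn S U := hTU.trans le_sup_left
  have hU₂ : T' ≤ U ⊔ centralizerIn S U := (hUeq ▸ le_sup_right : T' ≤ U).trans le_sup_left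
  have hUm : ∀ y ∈ U, x⁻¹ * autFun δ y * x⁻¹⁻¹ ∈ U := fun y hy =>
    mem_of_mem_sup hb hU₁ hU₂ (fun u hu => hTU (by rw [hv₁ u hu]; exact autFun_mem a hu))
      (fun v hv => by rw [hv₂ v hv, hUeq]; exact Subgroup.mem_sup_right hv) y (hUeq ▸ hy)
  have := finite_of_le hUS
  obtain ⟨β, -, hβv⟩ :=
    exists_mem_autGroup ((hb.mono le_sup_left).isIso_of_card_le hUm le_rfl)
  have hβv' : ∀ y ∈ U, autFun β y = x⁻¹ * autFun δ y * x⁻¹⁻¹ := fun y hy =>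
    (autFun_apply β hy).trans (hβv ⟨y, hy⟩)
  refine ⟨β, ⟨_, hb, fun y hy => (hβv' y hy).symm, fun c hc => ?_⟩,
    fun u hu => (hβv' u (hTU hu)).trans (hv₁ u hu),
    fun v hv => (hβv' v (hUeq ▸ Subgroup.mem_sup_right hv)).trans (hv₂ v hv)⟩
  have hcT := hCle hc
  have hδc := hδ.mem_centralizerIn hTS hcT
  have e1 : x⁻¹ * autFun δ c * x⁻¹⁻¹ = autFun δ c := by
    rw [Subgroup.mem_centralizer_iff.1 hδc.2 _ hx', mul_inv_cancel_right]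
  rw [e1]
  refine ⟨hTU (hδ.mod c hcT), mem_centralizer_of_conj_eq fun y hy => ?_⟩
  rw [hUeq] at hy
  obtain ⟨u, hu, v, hv, rfl⟩ :=
    Residual.exists_mul_of_mem_sup (hT'C.trans inf_le_right) hy
  have hzC : c⁻¹ * autFun δ c ∈ centralizerIn S T :=
    Subgroup.mul_mem _ (Subgroup.inv_mem _ hcT) hδc
  have hvU : v ∈ U := hUeq ▸ Subgroup.mem_sup_right hv
  have hcv : c * v * c⁻¹ = v := conj_eq_self_of_mem_centralizer hc.2 hvU
  have hδcv : autFun δ c * v * (autFun δ c)⁻¹ = v := by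
    conv_lhs => rw [← hfix v hv]
    rw [← hδm.map_conj (Subgroup.mem_sup_right hcT) (Subgroup.mem_sup_right (hT'C hv)), hcv,
      hfix v hv]
  have hzv : c⁻¹ * autFun δ c * v * (c⁻¹ * autFun δ c)⁻¹ = v := by
    calc c⁻¹ * autFun δ c * v * (c⁻¹ * autFun δ c)⁻¹
        = c⁻¹ * (autFun δ c * v * (autFun δ c)⁻¹) * c := by group
      _ = c⁻¹ * (c * v * c⁻¹) * c := by rw [hδcv, hcv]
      _ = v := by group
  calc c⁻¹ * autFun δ c * (u * v) * (c⁻¹ * autFun δ c)⁻¹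
      = (c⁻¹ * autFun δ c * u * (c⁻¹ * autFun δ c)⁻¹) *
        (c⁻¹ * autFun δ c * v * (c⁻¹ * autFun δ c)⁻¹) := by group
    _ = u * v := by rw [conj_eq_self_of_mem_centralizer hzC.2 hu, hzv]

/-- The product is normal. -/
theorem Data.isNormalIn (h : Data F p E₁ E₂ D) : D.IsNormalIn F p := by
  refine ⟨⟨h.isSaturated, h.sat, h.isInvariantIn⟩, fun α hα => ?_⟩
  have hUS := h.le_S
  refine MeetNormal.exists_ext_aut hUS ?_
  obtain ⟨-, P₁, e₁, P₂, e₂, he₁, he₂, hv⟩ := h.isMap_iff.1 ((mem_autGroup_iff le_rfl α).1 hα).isMap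
  have := finite_of_le h.closed₁.1
  have := finite_of_le h.closed₂.1
  have := finite_of_le hUS
  have h₁P : T₁ ≤ P₁ := fun u hu => (hv u hu 1 T₂.one_mem (by rw [mul_one]; exact h.left_le hu)).1
  have h₂P : T₂ ≤ P₂ := fun v hv' =>
    (hv 1 T₁.one_mem v hv' (by rw [one_mul]; exact h.right_le hv')).2.1
  obtain ⟨a₁, ha₁, ha₁v⟩ := exists_mem_autGroup
    ((he₁.mono h₁P).isIso_of_card_le (fun x hx => (he₁.mono h₁P).mem hx) le_rfl)
  obtain ⟨a₂, ha₂, ha₂v⟩ := exists_mem_autGroup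
    ((he₂.mono h₂P).isIso_of_card_le (fun x hx => (he₂.mono h₂P).mem hx) le_rfl)
  obtain ⟨β₁, hβ₁, hβ₁u, hβ₁v⟩ :=
    exists_extT h.pgroup h.sat h.n₁ h.le₁ h.closed₂.1 h.eq_sup ha₁
  obtain ⟨β₂, hβ₂, hβ₂v, hβ₂u⟩ :=
    exists_extT h.pgroup h.sat h.n₂ h.le₂ h.closed₁.1 (h.eq_sup.trans (sup_comm _ _)) ha₂
  have e : α = β₁ * β₂ := by
    refine MulEquiv.ext fun z => Subtype.ext ?_
    obtain ⟨u, hu, v, hv', hz⟩ := h.exists_mul z.2
    obtain ⟨h1, h2, h3⟩ := hv u hu v hv' (hz ▸ z.2)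
    rw [hz, autFun_coe] at h3
    have hm₂ := hβ₂
    obtain ⟨g₂, hg₂, hg₂v, -⟩ := hm₂
    obtain ⟨g₁, hg₁, hg₁v, -⟩ := id hβ₁
    have huV : ∀ w ∈ U, w ∈ U ⊔ centralizerIn S U := fun w hw => Subgroup.mem_sup_left hw
    rw [MulAut.mul_apply, h3, ← autFun_coe β₁, ← autFun_coe β₂, ← hz,
      ← hg₂v _ (U.mul_mem (h.left_le hu) (h.right_le hv')),
      hg₂.map_mul (huV _ (h.left_le hu)) (huV _ (h.right_le hv')), hg₂v u (h.left_le hu),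
      hg₂v v (h.right_le hv'), hβ₂u u hu, hβ₂v v hv',
      ← hg₁v _ (U.mul_mem (h.left_le hu) (h.right_le (autFun_mem a₂ hv'))),
      hg₁.map_mul (huV _ (h.left_le hu)) (huV _ (h.right_le (autFun_mem a₂ hv'))),
      hg₁v u (h.left_le hu), hg₁v _ (h.right_le (autFun_mem a₂ hv')), hβ₁u u hu,
      hβ₁v _ (autFun_mem a₂ hv'), autFun_apply a₁ hu, autFun_apply a₂ hv', ha₁v, ha₂v]
  exact e ▸ (MeetNormal.extSub F U hUS).mul_mem hβ₁ hβ₂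

end CfsgLib.Fusion.CommProduct
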