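import Cfsg.Agent.Lib.Fusion.GeneralizedFitting
import Cfsg.Agent.Lib.Fusion.FactorSaturated

/-!
Images of weakly normal subsystems in factor systems; a normal subsystem of a quasisimple system is
over a central subgroup or over the whole group.
-/

set_option autoImplicit false
set_option linter.unusedSectionVars false

namespace CfsgLib.Fusion.QSNormal

open Cfsg Cfsg.FusionSystem

variable {Ω Ω' : Type*} [Group Ω] [Group Ω'] {S U Z : Subgroup Ω} {S' : Subgroup Ω'}
variable {F : FusionSystem S} {D : FusionSystem U} {F' : FusionSystem S'} {θ : S →* Ω'} {p : ℕ}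
variable [Fact p.Prime] [Finite S]

/-- The image of a weakly normal subsystem in a factor system. -/
theorem exists_image (hS : IsPGroup p S) (hF : F.IsSaturated p) (hD : D.IsWeaklyNormalIn F p)
    (hZ : F.StronglyClosed Z) (hZU : Z ≤ U) (hE : F.IsFactorSystem Z θ F') :
    ∃ D' : FusionSystem (imageAlong θ U), D'.IsWeaklyNormalIn F' p := by
  have hI := hD.2.2
  have hUS := hI.2.1.1
  have := finite_of_le hUS
  have hr : θ.range = S' := hE.2.2.1
  haveI : Finite S' := hr ▸ Finite.of_surjective _ θ.rangeRestrict_surjective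
  have hS' : IsPGroup p S' := hr ▸ hS.of_surjective _ θ.rangeRestrict_surjective
  set θU : U →* Ω' := θ.comp (Subgroup.inclusion hUS) with hθU
  have hext : ∀ x ∈ U, homExt θU x = homExt θ x := fun x hx => by
    rw [homExt_apply θU hx, homExt_apply θ (hUS hx)]; rfl
  have hrU : θU.range = imageAlong θ U := by
    ext y
    constructor
    · rintro ⟨x, rfl⟩
      exact ⟨Subgroup.inclusion hUS x, x.2, rfl⟩
    · rintro ⟨x, hx, rfl⟩
      exact ⟨⟨x, hx⟩, rfl⟩
  have hZD : D.StronglyClosed Z := stronglyClosed_iff.2 ⟨hZU, fun P f hf x hx hxZ =>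
    isMap_mem_of_stronglyClosed hZ (isMap_of_subsystem hI.1 hf) hx hxZ⟩
  obtain ⟨D', hD'⟩ := exists_factorSystem (F := D) (θ := θU) (S' := imageAlong θ U) hZD
    (fun s => (hE.2.1 (Subgroup.inclusion hUS s))) hrU
  have hUS' : imageAlong θ U ≤ S' := (stronglyClosed_imageAlong hE hI.2.1).1
  have hpre : ∀ {P' : Subgroup Ω'}, P' ≤ imageAlong θ U →
      preimageAlong θU P' = preimageAlong θ P' := by
    intro P' hP'
    have hsup : preimageAlong θ (imageAlong θ U) = U :=
      (preimageAlong_imageAlong hE hUS).trans (sup_eq_left.2 hZU)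
    ext x
    rw [mem_preimageAlong, mem_preimageAlong]
    constructor
    · rintro ⟨hx, h⟩
      exact ⟨hUS hx, by rwa [← hext x hx]⟩
    · rintro ⟨hx, h⟩
      have hxU : x ∈ U := hsup.le ((mem_preimageAlong θ _).2 ⟨hx, hP' h⟩)
      exact ⟨hxU, by rwa [hext x hxU]⟩
  have hmap : ∀ {P' : Subgroup Ω'} {f : Ω' → Ω'}, IsMap D' P' f ↔ P' ≤ imageAlong θ U ∧
      ∃ g, IsMap D (preimageAlong θ P') g ∧
        ∀ x ∈ preimageAlong θ P', f (homExt θ x) = homExt θ (g x) := by
    intro P' f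
    rw [isMap_factor_iff hD']
    refine and_congr_right fun hP' => exists_congr fun g => ?_
    rw [hpre hP']
    refine and_congr_right fun hg => forall₂_congr fun x hx => ?_
    rw [hext x (hg.le hx), hext _ (hg.mem hx)]
  have hsub : D'.IsSubsystemOf F' := fun P' φ hφ => by
    obtain ⟨hP', g, hg, hv⟩ := hmap.1 (isMap_homFun hφ)
    exact (mem_hom_iff φ).2 ((isMap_factor_iff hE).2
      ⟨hP'.trans hUS', g, isMap_of_subsystem hI.1 hg, hv⟩)
  have hsat : D'.IsSaturated p := isSaturated_factor (hS.to_le hUS) hD.1 hZD hD'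
  have hF' : F'.IsSaturated p := isSaturated_factor hS hF hZ hE
  refine ⟨D', hsat, hF', (isInvariantIn_iff_strongInvariant hS' hF' hsub
    (stronglyClosed_imageAlong hE hI.2.1)).2 ?_⟩
  intro P' Q' f g hPQ hQU hf hfQ hg P'' hP''
  obtain ⟨hP'U, f₀, hf₀, hf₀v⟩ := hmap.1 hf
  obtain ⟨hQ'S, g₀, hg₀, hg₀v⟩ := (isMap_factor_iff hE).1 hg
  set P := preimageAlong θ P'
  set Q := preimageAlong θ Q'
  have hPQ' : P ≤ Q := preimageAlong_mono θ hPQ
  have hQU' : Q ≤ U := (preimageAlong_mono θ hQU).trans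
    ((preimageAlong_imageAlong hE hUS).trans (sup_eq_left.2 hZU)).le
  have hfQ' : ∀ x ∈ P, f₀ x ∈ Q := fun x hx => by
    refine (mem_preimageAlong θ Q').2 ⟨hUS (hf₀.mem hx), ?_⟩
    rw [← hf₀v x hx]
    exact hfQ _ ((mem_preimageAlong θ P').1 hx).2
  obtain ⟨K, hK⟩ := (hg₀.mono hPQ').exists_iso
  obtain ⟨e, he, hev⟩ := strongInvariant_of_invariant hI P Q f₀ g₀ hPQ' hQU' hf₀ hfQ' hg₀ K
    hK.image_eq
  have hrange : P' ≤ θ.range := (hPQ.trans hQ'S).trans hr.ge
  have hZP : Z ≤ P := le_preimageAlong hE P'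
  have hgZ : ∀ z ∈ Z, g₀ z ∈ Z := fun z hz =>
    isMap_mem_of_stronglyClosed hZ hg₀ (hPQ' (hZP hz)) hz
  have hP''U : P'' ≤ imageAlong θ U := fun y hy => by
    obtain ⟨z, hz, rfl⟩ := hP''.ge hy
    exact isMap_mem_of_stronglyClosed (stronglyClosed_imageAlong hE hI.2.1) hg (hPQ hz)
      (hP'U hz)
  have hKeq : preimageAlong θ P'' = K := by
    refine le_antisymm (fun y hy => ?_) fun y hy => ?_
    · obtain ⟨hyS, hy'⟩ := (mem_preimageAlong θ P'').1 hy
      obtain ⟨z, hz, hze⟩ := hP''.ge hy'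
      obtain ⟨x, hx, rfl⟩ := exists_mem_preimageAlong hrange hz
      rw [hg₀v x (hPQ' hx)] at hze
      have hgS := hg₀.mem (hPQ' hx)
      have hd : (g₀ x)⁻¹ * y ∈ Z := by
        refine (mem_of_homExt_eq_one hE (S.mul_mem (S.inv_mem hgS) hyS)).1 ?_
        rw [homExt_mul' θ (S.inv_mem hgS) hyS, homExt_inv' θ hgS, hze, inv_mul_cancel]
      have hZK : Z ≤ K := fun w hw => by
        obtain ⟨v, hv, rfl⟩ := (image_eq_of_mem hZ.1 hg₀ (hZP.trans hPQ') hgZ).ge hw
        exact hK.mem (hZP hv)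
      have := K.mul_mem (hK.mem hx) (hZK hd)
      rwa [mul_inv_cancel_left] at this
    · obtain ⟨x, hx, rfl⟩ := hK.surj hy
      refine (mem_preimageAlong θ P'').2 ⟨hg₀.mem (hPQ' hx), ?_⟩
      rw [← hg₀v x (hPQ' hx)]
      exact hP''.le ⟨_, ((mem_preimageAlong θ P').1 hx).2, rfl⟩
  obtain ⟨e', he', he'v⟩ := exists_factor_map hD' hP''U
    (show IsMap D (preimageAlong θU P'') e by rw [hpre hP''U, hKeq]; exact he)
    fun z hz => isMap_mem_of_stronglyClosed hZD he (hKeq ▸ le_preimageAlong hE P'' hz) hz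
  refine ⟨e', he', fun y hy => ?_⟩
  obtain ⟨x, hx, rfl⟩ := exists_mem_preimageAlong hrange hy
  have hgx : g₀ x ∈ K := hK.mem hx
  rw [hg₀v x (hPQ' hx)]
  have h1 := he'v (g₀ x) (by rw [hpre hP''U, hKeq]; exact hgx)
  rw [hext _ (he.le hgx), hext _ (he.mem hgx)] at h1
  rw [h1, hev x hx, hf₀v x hx, hg₀v _ (hfQ' x hx)]

/-- A normal subsystem of a quasisimple system is over a central or the whole subgroup. -/
theorem le_center_or_eq (hS : IsPGroup p S) (hq : F.Quasisimple p) {T : Subgroup Ω}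
    {N : FusionSystem T} (hN : N.IsNormalIn F p) : T ≤ F.center ∨ T = S := by
  obtain ⟨hF, hyp, hsimple⟩ := hq
  have hTS : T ≤ S := hN.1.2.2.2.1.1
  have hZc := isCentral_center F
  have hZn : F.IsNormal F.center := by
    refine isNormal_iff.2 ⟨hZc.1, fun P f hf => ?_⟩
    obtain ⟨g, hg, hag, hfix⟩ := (isCentral_iff.1 hZc).2 P f hf
    exact ⟨g, hg, hag, (Set.image_congr hfix).trans (Set.image_id' _)⟩
  have hZsc := stronglyClosed_of_isCentral hZc
  set Z := F.center
  have hc : ∀ P : Subgroup Ω, N.Hom P ⊆ F.centralizerHom Z P := by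
    intro P φ hφ
    have hcS : S ≤ centralizerIn S Z := fun s hs =>
      ⟨hs, Subgroup.mem_centralizer_iff.2 fun z hz =>
        (Subgroup.mem_centralizer_iff.1 (F.center_le_centralizer hz) s hs).symm⟩
    have hφF : φ ∈ F.Hom P := hN.1.2.2.1 P hφ
    obtain ⟨ψ, hψ, hag, hfix⟩ := hZc.2 P φ hφF
    exact ⟨hφF, (F.le_of_mem hφF).1.trans hcS, fun x => hcS ((F.le_of_mem hφF).2 x), ψ, hψ, hag,
      hfix⟩
  obtain ⟨U, D, hprod⟩ := GenFitting.exists_centralProduct hS hZn hN hc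
  have h : NormalProduct.Data F p Z N D := ⟨hZn, hN, hc, hprod⟩
  have hD := h.isNormalIn hS hF
  have hUeq : U = Z ⊔ T := h.eq_sup
  have hUS : U ≤ S := h.le_S
  set θ := QuotientGroup.mk' (Z.subgroupOf S) with hθ
  have hker : ∀ s : S, θ s = 1 ↔ (s : Ω) ∈ Z := fun s => by
    rw [hθ, QuotientGroup.mk'_apply, QuotientGroup.eq_one_iff]; rfl
  have hr : θ.range = ⊤ := MonoidHom.range_eq_top.2 (QuotientGroup.mk'_surjective _)
  obtain ⟨Fb, hFb⟩ := exists_factorSystem (S' := (⊤ : Subgroup (S ⧸ Z.subgroupOf S))) hZsc hker hr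
  obtain ⟨hFbs, hne, hmax⟩ := hsimple Fb hFb
  obtain ⟨Db, hDb⟩ := exists_image hS hF hD.1 hZsc (hUeq ▸ le_sup_left) hFb
  have hT' : IsPGroup p (⊤ : Subgroup (S ⧸ Z.subgroupOf S)) :=
    (hS.to_quotient _).to_subgroup _
  have hDbn := Residual.isNormalIn_residual hT' hDb
    (PPrime.isPPrimeResidual_E0 ((hS.to_quotient _).to_subgroup _) hDb.1)
  rcases hmax _ _ hDbn with h0 | ⟨htop, -⟩
  · refine Or.inl fun t ht => ?_
    have hmem : homExt θ t ∈ imageAlong θ U :=
      mem_imageAlong hUS (hUeq ▸ Subgroup.mem_sup_right ht)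
    rw [h0, Subgroup.mem_bot] at hmem
    exact (mem_of_homExt_eq_one hFb (hTS ht)).1 hmem
  · refine Or.inr (le_antisymm hTS ?_)
    have hUeqS : U = S := by
      refine le_antisymm hUS fun s hs => ?_
      have h1 : s ∈ preimageAlong θ (imageAlong θ U) :=
        (mem_preimageAlong θ _).2 ⟨hs, htop ▸ Subgroup.mem_top _⟩
      rwa [preimageAlong_imageAlong hFb hUS, sup_eq_left.2 (hUeq ▸ le_sup_left)] at h1
    subst hUeqS
    refine hyp.ge.trans (hyperfocal_le_of_coprime fun P α hP hα hαo x => ?_)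
    have := finite_of_le hP
    have := finite_mulAut P
    have hfull : F.IsSubsystemOf D := fun Q => (Layer.le_E0_of_quasisimple hS
      ⟨hF, hyp, hsimple⟩ Q).trans (Residual.E0_le_of_weaklyNormal hS
        ⟨hF, hF, ResidualSeries.isInvariantIn_self F⟩ hD.1 Q)
    obtain ⟨-, r, hr', P₂, e, he, hv⟩ :=
      h.isMap_iff.1 (isMap_of_subsystem hfull ((mem_autGroup_iff hP α).1 hα).isMap)
    obtain ⟨u, hu, v, hv', huv⟩ := h.exists_mul (hP x.2)
    obtain ⟨hv2, hfx⟩ := hv u hu v hv' (huv ▸ x.2)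
    rw [huv, autFun_coe] at hfx
    have hru : r * u * r⁻¹ = u := by
      rw [Subgroup.mem_centralizer_iff.1 (F.center_le_centralizer hu) r (hZc.1 hr'),
        mul_inv_cancel_right]
    rw [hfx, hru, ← huv, show (u * v)⁻¹ * (u * e v) = v⁻¹ * e v by group]
    exact T.mul_mem (T.inv_mem hv') (he.mem hv2)

end CfsgLib.Fusion.QSNormal
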