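import Cfsg.Agent.Lib.Fusion.CommutingFactor
import Cfsg.Agent.Lib.Fusion.CharacteristicNormal
import Cfsg.Agent.Lib.Fusion.QuasisimpleNormal
import Cfsg.Agent.Lib.Fusion.NormalCentralizerSystem
import Cfsg.Agent.Lib.Fusion.PowerIndex

/-!
Components are normal in the layer.
-/

set_option autoImplicit false
set_option linter.unusedSectionVars false

namespace CfsgLib.Fusion.CompStructure

open Cfsg Cfsg.FusionSystem
open CfsgLib.Fusion.NormalCentralizer

variable {Ω : Type*} [Group Ω] {U X TL : Subgroup Ω} {G : FusionSystem U} {C : FusionSystem X}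
  {L : FusionSystem TL} {p : ℕ}

/-- `L` is the least normal subsystem of `G` over a subgroup containing `X`. -/
structure Least (G : FusionSystem U) (p : ℕ) (X : Subgroup Ω) (L : FusionSystem TL) : Prop where
  normal : L.IsNormalIn G p
  self : L.IsSubsystemOf (PPrime.E0 L p)
  le : X ≤ TL
  least : ∀ (R : Subgroup Ω) (D : FusionSystem R), D.IsNormalIn G p → X ≤ R →
    TL ≤ R ∧ L.IsSubsystemOf D
  hyp : L.hyperfocalSubgroup p = TL

/-- Every component is normal in the least normal subsystem containing it. -/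
def NormalInLeast (G : FusionSystem U) (p : ℕ) : Prop :=
  ∀ (X : Subgroup Ω) (C : FusionSystem X), C.IsComponentIn G p →
    ∀ (TL : Subgroup Ω) (L : FusionSystem TL), Least G p X L → C.IsNormalIn L p

variable [hp : Fact p.Prime] [Finite U]

theorem isCentral_of_le {A : Subgroup Ω} (hA : A ≤ G.center) : G.IsCentral A := by
  obtain ⟨hle, hext⟩ := isCentral_iff.1 (isCentral_center G)
  refine isCentral_iff.2 ⟨hA.trans hle, fun P f hf => ?_⟩
  obtain ⟨g, hg, hag, hfix⟩ := hext P f hf
  exact ⟨g, hg.mono (sup_le_sup le_rfl hA), hag, fun x hx => hfix x (hA hx)⟩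

omit [Finite U] in
theorem eq_of_support (hfin : Finite U) (hU : IsPGroup p U) {T' : Subgroup Ω}
    {D : FusionSystem T'} (he : T' = U) (hG : G.IsSaturated p)
    (hself : G.IsSubsystemOf (PPrime.E0 G p)) (hD : D.IsNormalIn G p)
    (hC : C.IsNormalIn D p) : C.IsNormalIn G p := by
  subst he
  exact Layer.eq_of_subsystem hD.1.2.2.1
    (fun P => (hself P).trans (Layer.E0_le_same hfin hU rfl hG hD.1 P)) ▸ hC

omit [Finite U] in
/-- A component lies, as a component, in every normal subsystem containing its support. -/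
theorem subnormal_of_normal (h : C.IsSubnormalIn G p) : Finite U → IsPGroup p U →
    C.Quasisimple p → ∀ (TD : Subgroup Ω) (D : FusionSystem TD), D.IsNormalIn G p → X ≤ TD →
      C.IsSubnormalIn D p := by
  revert hp
  induction h with
  | refl G p =>
    intro _ hfin hU hq TD D hD hle
    obtain rfl := le_antisymm hD.1.2.2.2.1.1 hle
    obtain rfl := Layer.eq_of_subsystem hD.1.2.2.1 fun P =>
      (Layer.le_E0_of_quasisimple hU hq P).trans (Layer.E0_le_same hfin hU rfl hq.1 hD.1 P)
    exact .refl _ p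
  | step hsub hn ih =>
    intro _ hfin hV hq TD D hD hle
    have hW := hn.1.2.2.2.1.1
    obtain ⟨M, ⟨-, hMW, hMD⟩, -⟩ := MeetNormal.exists_meet_normal hV hn.1.2.1 hn hD
    exact .step (ih (finite_of_le hW) (hV.to_le hW) hq _ M hMW
      (le_inf (le_of_isSubnormalIn hsub) hle)) hMD

theorem component_of_normal (hU : IsPGroup p U) (hC : C.IsComponentIn G p) {TD : Subgroup Ω}
    {D : FusionSystem TD} (hD : D.IsNormalIn G p) (hle : X ≤ TD) : C.IsComponentIn D p :=
  ⟨subnormal_of_normal hC.1 inferInstance hU hC.2 TD D hD hle, hC.2⟩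

omit [Finite U] in
/-- A subnormal subsystem in no smaller normal subsystem is normal. -/
theorem isNormalIn_of_top (h : C.IsSubnormalIn G p) : Finite U → IsPGroup p U →
    G.IsSaturated p → G.IsSubsystemOf (PPrime.E0 G p) →
    (∀ (R : Subgroup Ω) (D : FusionSystem R), D.IsNormalIn G p → X ≤ R → U ≤ R) →
      C.IsNormalIn G p := by
  revert hp
  induction h with
  | refl G p =>
    intro _ hfin hU hG hself hfull
    have hn := Residual.isNormalIn_residual hU
      ⟨hG, hG, ResidualSeries.isInvariantIn_self G⟩ (PPrime.isPPrimeResidual_E0 hU hG)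
    rwa [← Layer.eq_of_subsystem hself PPrime.meet_subsystem] at hn
  | step hsub hn ih =>
    intro _ hfin hU hG hself hfull
    obtain rfl := le_antisymm hn.1.2.2.2.1.1 (hfull _ _ hn (le_of_isSubnormalIn hsub))
    obtain rfl := Layer.eq_of_subsystem hn.1.2.2.1
      fun P => (hself P).trans (Layer.E0_le_same hfin hU rfl hG hn.1 P)
    exact ih hfin hU hG hself hfull

theorem exists_least (hU : IsPGroup p U) (hG : G.IsSaturated p) (hC : C.IsComponentIn G p) :
    ∃ (T : Subgroup Ω) (L : FusionSystem T), Least G p X L := by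
  have hXU := le_of_isSubnormalIn hC.1
  have := finite_of_le hXU
  set 𝒯 := {T : Subgroup Ω | ∃ D : FusionSystem T, D.IsNormalIn G p ∧ X ≤ T}
  have hGn : (PPrime.E0 G p).IsNormalIn G p := Residual.isNormalIn_residual hU
    ⟨hG, hG, ResidualSeries.isInvariantIn_self G⟩ (PPrime.isPPrimeResidual_E0 hU hG)
  obtain ⟨T, ⟨D, hD, hXT⟩, hmin⟩ := Set.exists_min_image 𝒯 (fun T => Nat.card T)
    (finite_subgroups_le _ fun T ⟨D, hD, _⟩ => hD.1.2.2.2.1.1) ⟨U, _, hGn, hXU⟩
  have hTU := hD.1.2.2.2.1.1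
  have := finite_of_le hTU
  have hTp : IsPGroup p T := hU.to_le hTU
  have hres := PPrime.isPPrimeResidual_E0 hTp hD.1.1
  set L := PPrime.E0 D p
  have hL : L.IsNormalIn G p := Residual.isNormalIn_residual hU hD.1 hres
  have hLL : L.IsSubsystemOf (PPrime.E0 L p) := Layer.E0_le_E0 hTp hD.1.1
  have hleast : ∀ (R : Subgroup Ω) (D' : FusionSystem R), D'.IsNormalIn G p → X ≤ R →
      T ≤ R ∧ L.IsSubsystemOf D' := by
    intro R D' hD' hc
    obtain ⟨W, ⟨hW, -, -⟩, -⟩ := MeetNormal.exists_meet_normal hU hG hD hD'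
    have hcard : Nat.card T ≤ Nat.card ↥(T ⊓ R) := hmin _ ⟨_, hW, le_inf hXT hc⟩
    have : Finite ↥(T ⊓ R) := finite_of_le (S := T) inf_le_left
    have hTR : T ≤ R := (Subgroup.eq_of_le_of_card_ge inf_le_left hcard).ge.trans inf_le_right
    exact ⟨hTR, fun P => (hLL P).trans
      (Layer.E0_le_of_subnormal (.step (.refl L p) hL) inferInstance hU hG R D' hD'.1 hTR P)⟩
  refine ⟨T, L, hL, hLL, hXT, hleast, ?_⟩
  set H := L.hyperfocalSubgroup p with hHdef
  have hHT : H ≤ T := hyperfocal_le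
  have hCL : C.IsSubsystemOf L := fun P =>
    (Layer.le_E0_of_quasisimple (hU.to_le hXU) hC.2 P).trans
      (Layer.E0_le_of_subnormal hC.1 inferInstance hU hG T L hL.1 hXT P)
  have hXH : X ≤ H := hC.2.2.1.ge.trans (PowerIndex.hyperfocal_mono hCL)
  obtain ⟨E', hE', hE'L, hcov, -⟩ :=
    PowerIndex.exists_subsystem H _ T rfl hTp L hL.1.1 hHT le_rfl
  have hn := PowerIndex.isNormalIn hTp hL.1.1 hHT
    ⟨fun x hx g => conj_mem_hyperfocal g.2 hx⟩ le_rfl hE' hE'L hcov
  have := finite_of_le hHT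
  have hHp : IsPGroup p H := hTp.to_le hHT
  have hMn := Residual.isNormalIn_residual hTp hn.1 (PPrime.isPPrimeResidual_E0 hHp hE')
  have hMG := Layer.isNormalIn_of_char hU hG hL hMn (Layer.E0_le_E0 hHp hE')
    fun a ha x hx => by
      have h := transport_of_invariant hL.1.2.2 ha
      have h1 := h.mem_img hHT hx
      rwa [hHdef, ← h.hyperfocal_eq hTp hL.1.1] at h1
  exact le_antisymm hHT (hleast H _ hMG hXH).1

/-- The layer of a normal subsystem is normal. -/
theorem exists_layer_normal (hU : IsPGroup p U) (hG : G.IsSaturated p) (hL : L.IsNormalIn G p) :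
    ∃ (T : Subgroup Ω) (E : FusionSystem T), E.IsNormalIn G p ∧
      (∀ (Y : Subgroup Ω) (C' : FusionSystem Y), C'.IsComponentIn L p → Y ≤ T) ∧
      ∀ (R : Subgroup Ω) (D : FusionSystem R), D.IsNormalIn L p →
        (∀ (Y : Subgroup Ω) (C' : FusionSystem Y), C'.IsComponentIn L p → Y ≤ R) → T ≤ R := by
  have hLU := hL.1.2.2.2.1.1
  have := finite_of_le hLU
  have hLp : IsPGroup p TL := hU.to_le hLU
  obtain ⟨T, E, hE, hself, hleast⟩ := Layer.exists_layer hLp hL.1.1
  have hcomp : ∀ (Y : Subgroup Ω) (C' : FusionSystem Y), C'.IsComponentIn L p → Y ≤ T :=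
    fun Y C' h => Layer.le_of_subsystem (hE.2.1 Y C' h)
  refine ⟨T, E, Layer.isNormalIn_of_char hU hG hL hE.1 hself fun a ha x hx => ?_, hcomp,
    fun R D hD hc => (hleast R D hD hc).1⟩
  have h := (transport_of_invariant hL.1.2.2 ha).symm
  have hTle : T ≤ h.img T := (hleast _ _ (h.isNormalIn_push hLp hE.1) fun Y C' hC' y hy => by
    obtain ⟨Y', C'', hC'', ht⟩ := exists_component_transport h.symm hLp hC'
    have h1 := h.mem_img hE.1.1.2.2.2.1.1 (hcomp _ _ hC'' (ht.j_mem y hy))
    rwa [h.jk y (le_of_isSubnormalIn hC'.1 hy)] at h1).1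
  exact h.k_mem_of_mem_img (hTle hx)

/-- The support of a component lies in a normal subsystem, or that subsystem centralises the
least normal subsystem containing the component. -/
theorem le_or_le_centE (hU : IsPGroup p U) (hG : G.IsSaturated p) (hnil : NormalInLeast G p)
    {Y : Subgroup Ω} {C' : FusionSystem Y} (hC' : C'.IsComponentIn G p) {T' : Subgroup Ω}
    {L' : FusionSystem T'} (hL' : Least G p Y L') (hD₁ : L.IsNormalIn G p) :
    Y ≤ TL ∨ TL ≤ centE L' G p hL'.normal.1.2.2.2.1.1 := by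
  have hTL := hD₁.1.2.2.2.1
  have hT' := hL'.normal.1.2.2.2.1
  have := finite_of_le hTL.1
  have := finite_of_le hT'.1
  have hT'p : IsPGroup p T' := hU.to_le hT'.1
  have hL's := hL'.normal.1.1
  have := finite_of_le (hL'.le.trans hT'.1)
  obtain ⟨M, ⟨hMG, -, hM⟩, -⟩ := MeetNormal.exists_meet_normal hU hG hD₁ hL'.normal
  have hC'L := hnil _ _ hC' _ _ hL'
  obtain ⟨N, ⟨-, hNC, -⟩, -⟩ := MeetNormal.exists_meet_normal hT'p hL's hC'L hM
  rcases QSNormal.le_center_or_eq (hU.to_le (hL'.le.trans hT'.1)) hC'.2 hNC with hc | he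
  swap
  · exact Or.inl (he.ge.trans (inf_le_right.trans inf_le_left))
  refine Or.inr ?_
  have h1 := Centralise.le_centE hT'p hL's hC'L hC'.2.2.1 hM.1.2.2.2.1 (isCentral_of_le hc)
  obtain ⟨D, hD, hDc⟩ := exists_centralizer_system hT'p hL's hC'L
  have hMp : IsPGroup p ↥(TL ⊓ T') := hT'p.to_le inf_le_right
  have : Finite ↥(TL ⊓ T') := finite_of_le (S := T') inf_le_right
  have h2 := Layer.E0_le_of_subnormal (.step (.refl M p) hM) inferInstance hT'p hL's _ D hD.1 h1
  have hM0 := Residual.isNormalIn_residual hU hMG.1 (PPrime.isPPrimeResidual_E0 hMp hMG.1.1)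
  have h3 : Y ≤ centE (PPrime.E0 M p) G p hM0.1.2.2.2.1.1 :=
    NormalCentralizer.le_centE hU hG hM0 (fun y hy => ⟨hT'.1 (hL'.le hy),
      Subgroup.mem_centralizer_iff.2 fun a ha =>
        (Subgroup.mem_centralizer_iff.1 (centE_le _ (h1 ha)).2 y hy).symm⟩)
      fun P φ hφ => Centralise.centralizerHom_mono hT'.1 hL'.normal.1.2.2.1 Y P (hDc P (h2 P hφ))
  obtain ⟨D', hD', hD'c⟩ := exists_centralizer_system hU hG hM0
  obtain ⟨h4, h5⟩ := hL'.least _ D' hD' h3
  have h6 : TL ⊓ T' ≤ centE L' G p hT'.1 :=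
    NormalCentralizer.le_centE hU hG hL'.normal (fun a ha => ⟨hT'.1 ha.2,
      Subgroup.mem_centralizer_iff.2 fun t ht =>
        (Subgroup.mem_centralizer_iff.1 (centE_le _ (h4 ht)).2 a ha).symm⟩)
      fun P φ hφ => hD'c P (h5 P hφ)
  have h7 := CommProduct.isCentral_inf hU hG hL'.normal (Meet.stronglyClosed_inf hTL hT') h6
  rw [show T' ⊓ (TL ⊓ T') = T' ⊓ TL by rw [inf_comm TL, ← inf_assoc, inf_idem]] at h7
  exact Centralise.le_centE hU hG hL'.normal hL'.hyp hTL h7

/-- Another component lies in the least subsystem or in its centraliser. -/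
theorem dichotomy (hU : IsPGroup p U) (hG : G.IsSaturated p) (hnil : NormalInLeast G p)
    (hL : Least G p X L) {Y : Subgroup Ω} {C' : FusionSystem Y} (hC' : C'.IsComponentIn G p) :
    Y ≤ TL ∨ Y ≤ centE L G p hL.normal.1.2.2.2.1.1 := by
  obtain ⟨T', L', hL'⟩ := exists_least hU hG hC'
  have hT' := hL'.normal.1.2.2.2.1
  refine (le_or_le_centE hU hG hnil hC' hL' hL.normal).imp_right fun h8 => ?_
  obtain ⟨D'', hD'', hD''c⟩ := exists_centralizer_system hU hG hL'.normal
  obtain ⟨-, h10⟩ := hL.least _ D'' hD'' (hL.le.trans h8)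
  exact hL'.le.trans (NormalCentralizer.le_centE hU hG hL.normal (fun t ht => ⟨hT'.1 ht,
    Subgroup.mem_centralizer_iff.2 fun u hu =>
      (Subgroup.mem_centralizer_iff.1 (centE_le _ (h8 hu)).2 t ht).symm⟩)
    fun P φ hφ => hD''c P (h10 P hφ))

/-- In a system generated by its components every component is normal. -/
theorem isNormalIn_of_layerFull (hU : IsPGroup p U) (hG : G.IsSaturated p)
    (hself : G.IsSubsystemOf (PPrime.E0 G p)) (hnil : NormalInLeast G p)
    (hfull : ∀ (R : Subgroup Ω) (D : FusionSystem R), D.IsNormalIn G p →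
      (∀ (Y : Subgroup Ω) (C' : FusionSystem Y), C'.IsComponentIn G p → Y ≤ R) → U ≤ R)
    (hC : C.IsComponentIn G p) : C.IsNormalIn G p := by
  obtain ⟨T, L, hL⟩ := exists_least hU hG hC
  obtain ⟨DY, hDY, hc⟩ := exists_centralizer_system hU hG hL.normal
  have hTL : T ≤ U := hL.normal.1.2.2.2.1.1
  have h1 := NormalCentralizer.le_centE hU hG hDY (le_centralizerIn_centE hTL) hc
  obtain ⟨D, hD⟩ := CommProduct.exists_product hU hG hL.normal hDY le_rfl h1
  have h : CommProduct.Data G p L DY D := ⟨hU, hG, hL.normal, hDY, le_rfl, h1, hD⟩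
  have hUle := hfull _ D h.isNormalIn fun Y C' hC' =>
    (dichotomy hU hG hnil hL hC').elim (fun e => e.trans le_sup_left) fun e => e.trans le_sup_right
  exact eq_of_support inferInstance hU (le_antisymm h.le_S hUle) hG hself h.isNormalIn
    (h.isNormalIn₁ (hnil _ _ hC _ _ hL))

omit [Finite U] in
theorem normalInLeast : ∀ (n : ℕ) (U : Subgroup Ω), Finite U → Nat.card U = n → IsPGroup p U →
    ∀ G : FusionSystem U, G.IsSaturated p → NormalInLeast G p := by
  intro n
  induction n using Nat.strong_induction_on with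
  | _ n ih =>
  intro U _ hn hU G hG X C hC TL L hL
  have hTU := hL.normal.1.2.2.2.1.1
  have := finite_of_le hTU
  have hTp : IsPGroup p TL := hU.to_le hTU
  have hLs := hL.normal.1.1
  have hnilL : NormalInLeast L p := by
    intro Y C' hC' T2 L2 hL2
    have h2T := hL2.normal.1.2.2.2.1.1
    rcases eq_or_ne T2 TL with rfl | hne
    · obtain rfl := Layer.eq_of_subsystem hL2.normal.1.2.2.1 fun P =>
        (hL.self P).trans (Layer.E0_le_same inferInstance hTp rfl hLs hL2.normal.1 P)
      exact isNormalIn_of_top hC'.1 inferInstance hTp hLs hL.self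
        fun R D hD hle => (hL2.least R D hD hle).1
    · have := finite_of_le h2T
      have hlt : Nat.card T2 < n := by
        rw [← hn]
        refine lt_of_lt_of_le (lt_of_le_of_ne (Subgroup.card_le_of_le h2T) fun e => hne ?_)
          (Subgroup.card_le_of_le hTU)
        exact Subgroup.eq_of_le_of_card_ge h2T e.ge
      have hC2 := component_of_normal hTp hC' hL2.normal hL2.le
      refine isNormalIn_of_layerFull (hTp.to_le h2T) hL2.normal.1.1 hL2.self
        (ih _ hlt T2 inferInstance rfl (hTp.to_le h2T) L2 hL2.normal.1.1) (fun R D hD hc => ?_) hC2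
      obtain ⟨TE, E, hE, hEc, hEl⟩ := exists_layer_normal hTp hLs hL2.normal
      exact (hL2.least _ E hE (hEc _ _ hC2)).1.trans (hEl R D hD hc)
  have hC1 := component_of_normal hU hC hL.normal hL.le
  refine isNormalIn_of_layerFull hTp hLs hL.self hnilL (fun R D hD hc => ?_) hC1
  obtain ⟨TE, E, hE, hEc, hEl⟩ := exists_layer_normal hU hG hL.normal
  exact (hL.least _ E hE (hEc _ _ hC1)).1.trans (hEl R D hD hc)

/-- The components are normal in the layer. -/
theorem isNormalIn_layer {T : Subgroup Ω} {E : FusionSystem T} (hU : IsPGroup p U)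
    (hG : G.IsSaturated p) (hE : E.IsLayerOf G p) (hC : C.IsComponentIn G p) :
    C.IsNormalIn E p := by
  obtain ⟨T₀, E₀, h₀, hself, hleast⟩ := Layer.exists_layer hU hG
  have e1 := h₀.2.2 _ E hE.1 hE.2.1
  have e2 := hE.2.2 _ E₀ h₀.1 h₀.2.1
  obtain rfl := le_antisymm (Layer.le_of_subsystem e2) (Layer.le_of_subsystem e1)
  obtain rfl := Layer.eq_of_subsystem e2 e1
  have hTU := hE.1.1.2.2.2.1.1
  have := finite_of_le hTU
  have hTp : IsPGroup p T := hU.to_le hTU
  have hcomp : ∀ (Y : Subgroup Ω) (C' : FusionSystem Y), C'.IsComponentIn G p →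
      C'.IsComponentIn E p := fun Y C' h =>
    component_of_normal hU h hE.1 (Layer.le_of_subsystem (hE.2.1 Y C' h))
  refine isNormalIn_of_layerFull hTp hE.1.1.1 hself
    (normalInLeast _ T inferInstance rfl hTp E hE.1.1.1) (fun R D hD hc => ?_) (hcomp _ _ hC)
  obtain ⟨TE, E', hE', hE'c, hE'l⟩ := exists_layer_normal hU hG hE.1
  exact (hleast _ E' hE' fun Y C' h => hE'c _ _ (hcomp Y C' h)).1.trans (hE'l R D hD hc)

end CfsgLib.Fusion.CompStructure
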