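import Mathlib
import Cfsg.Agent.Lib.Fusion.WeaklyNormalCore
import Cfsg.Agent.Lib.Fusion.TransportGroup
import Cfsg.Agent.Lib.Fusion.GroupModel

/-!
Constraint passes to subnormal subgroups and along isomorphisms of fusion systems.
-/

set_option autoImplicit false

namespace CfsgLib.Fusion

open Cfsg Cfsg.FusionSystem

theorem Transport.isNormal {Ω Ω' : Type*} [Group Ω] [Group Ω'] {S : Subgroup Ω} {S' : Subgroup Ω'}
    {F : FusionSystem S} {F' : FusionSystem S'} {j : Ω → Ω'} {k : Ω' → Ω}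
    (h : Transport F F' j k) {Q : Subgroup Ω} (hQ : F.IsNormal Q) : F'.IsNormal (h.img Q) := by
  refine isNormal_iff.2 ⟨h.img_le Q, fun P' f' hf' => ?_⟩
  have hP' := hf'.le
  obtain ⟨hQS, hext⟩ := isNormal_iff.1 hQ
  have hf := h.symm.isMap hf'
  obtain ⟨g, hg, hag, hgQ⟩ := hext _ _ hf
  have hle : P' ⊔ h.img Q ≤ h.img (h.symm.img P' ⊔ Q) := by
    refine sup_le ?_ (h.img_mono le_sup_right)
    exact (h.img_symm_img hP').ge.trans (h.img_mono le_sup_left)
  refine ⟨fun y => j (g (k y)), (h.isMap hg).mono hle, fun y hy => ?_, ?_⟩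
  · show j (g (k y)) = f' y
    rw [hag _ (h.symm.mem_img hP' hy)]
    show j (k (f' (j (k y)))) = f' y
    rw [h.jk y (hP' hy), h.jk _ (hf'.mem hy)]
  · rw [h.coe_img hQS, Set.image_image]
    conv_rhs => rw [← hgQ, Set.image_image]
    exact Set.image_congr fun x hx => by rw [h.kj x (hQS hx)]

theorem Transport.isCentric {Ω Ω' : Type*} [Group Ω] [Group Ω'] {S : Subgroup Ω}
    {S' : Subgroup Ω'} {F : FusionSystem S} {F' : FusionSystem S'} {j : Ω → Ω'} {k : Ω' → Ω}
    (h : Transport F F' j k) {Q : Subgroup Ω} (hQ : F.IsCentric Q) : F'.IsCentric (h.img Q) := by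
  refine ⟨h.img_le Q, fun R' hR' y hy => ?_⟩
  have hR'S := (le_of_isConj hR').2
  have hc := h.symm.isConj hR'
  rw [h.img_img hQ.1] at hc
  have hky : k y ∈ centralizerIn S (h.symm.img R') := by
    refine Subgroup.mem_inf.2 ⟨h.k_mem y hy.1, Subgroup.mem_centralizer_iff.2 fun x hx => ?_⟩
    obtain ⟨z, hz, hzS, rfl⟩ := h.symm.mem_img_iff'.1 hx
    rw [← h.k_mul z hzS y hy.1, ← h.k_mul y hy.1 z hzS]
    exact congrArg k (Subgroup.mem_centralizer_iff.1 hy.2 z hz)
  have := h.mem_img (h.symm.img_le R') (hQ.2 _ hc hky)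
  rwa [h.img_symm_img hR'S, h.jk y hy.1] at this

/-- Constraint is invariant under isomorphism. -/
theorem Transport.isConstrained {Ω Ω' : Type*} [Group Ω] [Group Ω'] {S : Subgroup Ω}
    {S' : Subgroup Ω'} [Finite S] [Finite S'] {F : FusionSystem S} {F' : FusionSystem S'}
    {j : Ω → Ω'} {k : Ω' → Ω} (h : Transport F F' j k) {p : ℕ} [Fact p.Prime] (hS : IsPGroup p S)
    (hF : F.IsConstrained p) : F'.IsConstrained p := by
  obtain ⟨hsat, Q, hQ, hQc⟩ := hF
  exact ⟨h.isSaturated hS hsat, _, h.isNormal hQ, h.isCentric hQc⟩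

variable {G : Type*} [Group G] [Finite G] {p : ℕ} [Fact p.Prime]

/-- A subnormal subgroup meets a Sylow subgroup in a Sylow subgroup and inherits constraint. -/
theorem isConstrained_fsos_of_isSubnormal (S : Sylow p G)
    (hF : (groupFusionSystem (S : Subgroup G)).IsConstrained p) {H : Subgroup G}
    (hH : H.IsSubnormal) :
    (∀ U : Subgroup G, U ≤ H → IsPGroup p U → Nat.card U ≤ Nat.card ↥((S : Subgroup G) ⊓ H)) ∧
      (fusionSystemOfSubgroup H ((S : Subgroup G) ⊓ H) inf_le_right).IsConstrained p := by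
  induction hH with
  | top =>
    have hmax : ∀ U : Subgroup G, U ≤ ⊤ → IsPGroup p U →
        Nat.card U ≤ Nat.card ↥((S : Subgroup G) ⊓ ⊤) := fun U hU hUp =>
      card_le_inf_of_normal S ⊤ hU hUp
    refine ⟨hmax, isConstrained_of_stronglyClosed S.isPGroup' hF
      (isSaturated_fsos inf_le_right (S.isPGroup'.to_le inf_le_left) hmax)
      (isInvariantIn_fsos S ⊤).1 (isInvariantIn_fsos S ⊤).2.1⟩
  | step H K hle hK hn ih =>
    obtain ⟨hKmax, hKc⟩ := ih
    have hconj : ∀ k ∈ K, ∀ x ∈ H, k * x * k⁻¹ ∈ H := fun k hk x hx =>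
      hn.conj_mem ⟨x, hle hx⟩ hx ⟨k, hk⟩
    have hTp : IsPGroup p ↥((S : Subgroup G) ⊓ K) := S.isPGroup'.to_le inf_le_left
    have hmax : ∀ U : Subgroup G, U ≤ H → IsPGroup p U →
        Nat.card U ≤ Nat.card ↥((S : Subgroup G) ⊓ H) := by
      intro U hU hUp
      obtain ⟨R, hR⟩ := (exists_sylow_eq_iff hTp (inf_le_right : _ ≤ K)).2 hKmax
      obtain ⟨g, hg⟩ := exists_conj_le_sylow R
        (hUp.of_equiv (Subgroup.subgroupOfEquivOfLe (hU.trans hle)).symm)
      rw [← card_map_conj U (g : G)]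
      refine Subgroup.card_le_of_le ?_
      rintro _ ⟨x, hx, rfl⟩
      have hm := hg ⟨⟨x, hle (hU hx)⟩, hx, rfl⟩
      rw [hR] at hm
      exact ⟨hm.1, hconj g g.2 x (hU hx)⟩
    refine ⟨hmax, isConstrained_of_stronglyClosed hTp hKc
      (isSaturated_fsos inf_le_right (S.isPGroup'.to_le inf_le_left) hmax) ?_ ?_⟩
    · intro P φ hφ
      obtain ⟨hP, hT, g, hg, hv⟩ := hφ
      exact ⟨hP.trans (inf_le_inf_left _ hle), fun x => inf_le_inf_left _ hle (hT x), g,
        hle hg, hv⟩
    · refine stronglyClosed_iff.2 ⟨inf_le_inf_left _ hle, fun P f hf x hx hxT => ?_⟩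
      obtain ⟨-, hfT, g, hg, hv⟩ := isMap_fsos_iff.1 hf
      exact ⟨(hfT x hx).1, hv x hx ▸ hconj g hg x hxT.2⟩

/-- The group fusion system of a subnormal subgroup of a group with constrained fusion. -/
theorem isConstrained_of_isSubnormal (S : Sylow p G)
    (hF : (groupFusionSystem (S : Subgroup G)).IsConstrained p) {H : Subgroup G}
    (hH : H.IsSubnormal) :
    (groupFusionSystem ((S : Subgroup G).subgroupOf H)).IsConstrained p := by
  obtain ⟨k, hk⟩ := transport_fsos H ((S : Subgroup G) ⊓ H) inf_le_right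
  have := hk.symm.isConstrained (S.isPGroup'.to_le inf_le_left)
    (isConstrained_fsos_of_isSubnormal S hF hH).2
  rw [Subgroup.inf_subgroupOf_right] at this
  exact this

/-- Constraint passes to the quotient by a central subgroup. -/
theorem isConstrained_quotient_central (S : Sylow p G) (N : Subgroup G) [N.Normal]
    (hN : N ≤ Subgroup.center G) (hF : (groupFusionSystem (S : Subgroup G)).IsConstrained p) :
    (groupFusionSystem ((S : Subgroup G).map (QuotientGroup.mk' N))).IsConstrained p := by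
  set F := groupFusionSystem (S : Subgroup G) with hFdef
  obtain ⟨hsat, Q₀, hQ₀, hQ₀c⟩ := hF
  set Q := F.core with hQdef
  have hQ : F.IsNormal Q := isNormal_core F
  have hQc : F.IsCentric Q := isCentric_of_le hQ₀c (le_sSup hQ₀) hQ.1
  set π := QuotientGroup.mk' N with hπ
  have hQcl := stronglyClosed_of_isNormal hQ
  have hz : ∀ {a : G}, a ∈ N → ∀ g : G, g * a = a * g := fun ha g =>
    Subgroup.mem_center_iff.1 (hN ha) g
  -- the preimage in `S` of the centralizer of the image of `Q`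
  set C := (S : Subgroup G) ⊓ (Subgroup.centralizer ((Q.map π : Subgroup (G ⧸ N)) : Set (G ⧸ N))).comap π
    with hC
  have hCiff : ∀ x, x ∈ C ↔ x ∈ (S : Subgroup G) ∧ ∀ q ∈ Q, x * q * x⁻¹ * q⁻¹ ∈ N := by
    intro x
    refine Subgroup.mem_inf.trans (and_congr_right fun _ => ?_)
    rw [Subgroup.mem_comap, Subgroup.mem_centralizer_iff]
    constructor
    · intro h q hq
      rw [← QuotientGroup.ker_mk' N, MonoidHom.mem_ker]
      have := h (π q) ⟨q, hq, rfl⟩
      show π (x * q * x⁻¹ * q⁻¹) = 1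
      rw [map_mul, map_mul, map_mul, map_inv, map_inv, ← this, mul_inv_cancel_right, mul_inv_cancel]
    · rintro h _ ⟨q, hq, rfl⟩
      have := h q hq
      rw [← QuotientGroup.ker_mk' N, MonoidHom.mem_ker, map_mul, map_inv, mul_inv_eq_one,
        map_mul, map_mul, map_inv, mul_inv_eq_iff_eq_mul] at this
      exact this.symm
  have hCn : F.IsNormal C := by
    refine isNormal_of_series S.isPGroup' hsat 3
      (fun i => if i = 0 then ⊥ else if i = 1 then N ⊓ (S : Subgroup G) else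
        if i = 2 then centralizerIn (S : Subgroup G) Q else C) rfl rfl
      (fun i hi => ?_) (fun i hi => ?_) (fun i hi g hg x hx => ?_)
    · interval_cases i
      · exact bot_le
      · exact fun a ha => ⟨ha.2, Subgroup.mem_centralizer_iff.2 fun q _ => hz ha.1 q⟩
      · exact fun a ha => (hCiff a).2 ⟨ha.1, fun q hq => by
          rw [(Subgroup.mem_centralizer_iff.1 ha.2 q hq).symm, mul_inv_cancel_right, mul_inv_cancel]
          exact N.one_mem⟩
    · interval_cases i
      · exact stronglyClosed_of_isNormal (isNormal_bot F)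
      · refine stronglyClosed_iff.2 ⟨inf_le_right, fun P f hf a ha haZ => ?_⟩
        obtain ⟨-, -, g, hg⟩ := isMap_group_iff.1 hf
        rw [hg a ha, hz haZ.1, mul_inv_cancel_right]
        exact haZ
      · exact stronglyClosed_centralizer hQ
      · refine stronglyClosed_iff.2 ⟨inf_le_left, fun P f hf a ha haC => ?_⟩
        obtain ⟨g, hg, hag, hgQ⟩ := (isNormal_iff.1 hQ).2 P f hf
        obtain ⟨-, hgS, t, ht⟩ := isMap_group_iff.1 hg
        refine (hCiff _).2 ⟨hf.mem ha, fun q hq => ?_⟩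
        obtain ⟨q', hq', rfl⟩ := hgQ.symm.subset hq
        have h1 := ((hCiff a).1 haC).2 q' hq'
        rw [← hag a ha, ht a (Subgroup.mem_sup_left ha), ht q' (Subgroup.mem_sup_right hq'),
          show t * a * t⁻¹ * (t * q' * t⁻¹) * (t * a * t⁻¹)⁻¹ * (t * q' * t⁻¹)⁻¹
            = t * (a * q' * a⁻¹ * q'⁻¹) * t⁻¹ by group, hz h1, mul_inv_cancel_right]
        exact h1
    · interval_cases i
      · show g * x * g⁻¹ * x⁻¹ ∈ (⊥ : Subgroup G)
        rw [Subgroup.mem_bot, hz (show x ∈ N from hx.1), mul_inv_cancel_right, mul_inv_cancel]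
      · refine Subgroup.mem_inf.2 ⟨((hCiff g).1 hg).2 x (hQc.2 Q (isConj_refl hQ.1) hx), ?_⟩
        have hgS := ((hCiff g).1 hg).1
        exact Subgroup.mul_mem _ (Subgroup.mul_mem _ (Subgroup.mul_mem _ hgS hx.1)
          (Subgroup.inv_mem _ hgS)) (Subgroup.inv_mem _ hx.1)
      · have hgS := ((hCiff g).1 hg).1
        have hxS := ((hCiff x).1 hx).1
        refine Subgroup.mem_inf.2 ⟨Subgroup.mul_mem _ (Subgroup.mul_mem _
          (Subgroup.mul_mem _ hgS hxS) (Subgroup.inv_mem _ hgS)) (Subgroup.inv_mem _ hxS), ?_⟩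
        refine Subgroup.mem_centralizer_iff.2 fun q hq => ?_
        have ha := ((hCiff g).1 hg).2 q hq
        have hb := ((hCiff x).1 hx).2 q hq
        generalize hA : g * q * g⁻¹ * q⁻¹ = A at ha
        generalize hB : x * q * x⁻¹ * q⁻¹ = B at hb
        have hgq : g * q * g⁻¹ = A * q := by rw [← hA]; group
        have hxq : x * q * x⁻¹ = B * q := by rw [← hB]; group
        have h1 : g * x * q * (g * x)⁻¹ = A * B * q := by
          rw [show g * x * q * (g * x)⁻¹ = g * (x * q * x⁻¹) * g⁻¹ by group, hxq,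
            show g * (B * q) * g⁻¹ = g * B * g⁻¹ * (g * q * g⁻¹) by group, hgq, hz hb g,
            mul_inv_cancel_right, ← mul_assoc, hz ha B]
        have h2 : x * g * q * (x * g)⁻¹ = A * B * q := by
          rw [show x * g * q * (x * g)⁻¹ = x * (g * q * g⁻¹) * x⁻¹ by group, hgq,
            show x * (A * q) * x⁻¹ = x * A * x⁻¹ * (x * q * x⁻¹) by group, hxq, hz ha x,
            mul_inv_cancel_right, ← mul_assoc]
        have h4 : (g * x * g⁻¹ * x⁻¹) * (A * B * q) = A * B * q * (g * x * g⁻¹ * x⁻¹) := by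
          conv_lhs => rw [← h2]
          conv_rhs => rw [← h1]
          group
        rw [← mul_assoc, hz (N.mul_mem ha hb), mul_assoc (A * B), mul_assoc (A * B)] at h4
        exact (mul_left_cancel h4).symm
  -- so `C` lies in the core
  have hCQ : C ≤ Q := le_sSup hCn
  have hsurj : Function.Surjective π := QuotientGroup.mk'_surjective N
  have hsatQ : (groupFusionSystem ((S : Subgroup G).map π)).IsSaturated p :=
    isSaturated_group (S.mapSurjective hsurj)
  have hker : ∀ x y : G, π x = π y → x * y⁻¹ ∈ N := fun x y e => by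
    rw [← QuotientGroup.ker_mk' N, MonoidHom.mem_ker, map_mul, map_inv, mul_inv_eq_one]
    exact e
  have hQbar : Q.map π ≤ (S : Subgroup G).map π := Subgroup.map_mono hQ.1
  -- a central element times a `p`-element of `S` lies in `S` if its order is a power of `p`
  have hmem : ∀ x ∈ (S : Subgroup G), ∀ g : G, π (g * x * g⁻¹) ∈ (S : Subgroup G).map π →
      g * x * g⁻¹ ∈ (S : Subgroup G) := by
    intro x hx g hgx
    obtain ⟨t, ht, hte⟩ := hgx
    have hyN := hker _ _ hte.symm
    obtain ⟨a, ha⟩ := S.isPGroup' ⟨x, hx⟩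
    obtain ⟨b, hb⟩ := S.isPGroup' ⟨t, ht⟩
    have hxa : x ^ p ^ a = 1 := congrArg Subtype.val ha
    have htb : t ^ p ^ b = 1 := congrArg Subtype.val hb
    set z := g * x * g⁻¹ * t⁻¹ with hzdef
    have hzt : g * x * g⁻¹ = z * t := by rw [hzdef, inv_mul_cancel_right]
    have hzp : z ^ p ^ (a + b) = 1 := by
      have h1 : (g * x * g⁻¹) ^ p ^ (a + b) = 1 := by
        rw [conj_pow, pow_add, pow_mul, hxa, one_pow, mul_one, mul_inv_cancel]
      rw [hzt, ((show Commute t z from hz hyN t).symm).mul_pow] at h1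
      rwa [show t ^ p ^ (a + b) = 1 by rw [pow_add, mul_comm, pow_mul, htb, one_pow], mul_one]
        at h1
    have hZn : (Subgroup.zpowers z).Normal := ⟨fun w hw k => by
      rw [hz (Subgroup.zpowers_le.2 hyN hw) k, mul_inv_cancel_right]
      exact hw⟩
    have hzS : z ∈ (S : Subgroup G) :=
      IsPGroup.le_sylow_of_normal (isPGroup_zpowers_of_pow hzp) S (Subgroup.mem_zpowers z)
    rw [hzt]
    exact Subgroup.mul_mem _ hzS ht
  have hQbarN : (groupFusionSystem ((S : Subgroup G).map π)).IsNormal (Q.map π) := by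
    refine isNormal_iff.2 ⟨hQbar, fun P' f' hf' => ?_⟩
    obtain ⟨hP', hfS, gb, hgb⟩ := isMap_group_iff.1 hf'
    obtain ⟨g, rfl⟩ := hsurj gb
    have hf : IsMap F ((S : Subgroup G) ⊓ P'.comap π) (fun x => g * x * g⁻¹) := by
      refine isMap_group_iff.2 ⟨inf_le_left, fun x hx => hmem x hx.1 g ?_, g, fun x _ => rfl⟩
      rw [map_mul, map_mul, map_inv, ← hgb _ hx.2]
      exact hfS _ hx.2
    obtain ⟨h, hh, hag, hhQ⟩ := (isNormal_iff.1 hQ).2 _ _ hf
    obtain ⟨-, hhS, t, ht⟩ := isMap_group_iff.1 hh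
    have hle : P' ⊔ Q.map π ≤
        ((((S : Subgroup G) ⊓ P'.comap π) ⊔ Q).map π) := by
      refine sup_le (fun y hy => ?_) (Subgroup.map_mono le_sup_right)
      obtain ⟨x, hx, rfl⟩ := hP' hy
      exact ⟨x, Subgroup.mem_sup_left ⟨hx, hy⟩, rfl⟩
    refine ⟨fun y => π t * y * (π t)⁻¹, isMap_group_iff.2 ⟨sup_le hP' hQbar, fun y hy => ?_,
      π t, fun _ _ => rfl⟩, fun y hy => ?_, ?_⟩
    · obtain ⟨x, hx, rfl⟩ := hle hy
      exact ⟨h x, hhS x hx, by rw [ht x hx, map_mul, map_mul, map_inv]⟩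
    · obtain ⟨x, hx, rfl⟩ := hP' hy
      have hxm : x ∈ (S : Subgroup G) ⊓ P'.comap π := ⟨hx, hy⟩
      show π t * π x * (π t)⁻¹ = f' (π x)
      rw [hgb _ hy, ← map_inv, ← map_mul, ← map_mul, ← ht x (Subgroup.mem_sup_left hxm),
        hag x hxm, map_mul, map_mul, map_inv]
    · rw [Subgroup.coe_map, Set.image_image]
      conv_rhs => rw [← hhQ, Set.image_image]
      exact Set.image_congr fun x hx => by
        rw [ht x (Subgroup.mem_sup_right hx), map_mul, map_mul, map_inv]
  refine ⟨hsatQ, _, hQbarN, hQbar, fun R hR y hy => ?_⟩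
  obtain ⟨f, hf⟩ := isConj_iff.1 hR
  have hle : R ≤ Q.map π := fun w hw => by
    obtain ⟨v, hv, rfl⟩ := hf.surj hw
    exact isMap_mem_of_stronglyClosed (stronglyClosed_of_isNormal hQbarN) hf.isMap hv hv
  have hReq : R = Q.map π := Subgroup.eq_of_le_of_card_ge hle hf.card_eq.ge
  subst hReq
  obtain ⟨x, hx, rfl⟩ := hy.1
  exact ⟨x, hCQ (Subgroup.mem_inf.2 ⟨hx, hy.2⟩), rfl⟩

end CfsgLib.Fusion
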