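import Mathlib
import Cfsg.Agent.Lib.Fusion.ZJControl
import Cfsg.Agent.Lib.Fusion.KSystem
import Cfsg.Agent.Lib.Fusion.Ext

/-!
A saturated system at an odd prime that is not inner contains a constrained subsystem over the
same group that is not inner.
-/

set_option autoImplicit false
set_option linter.style.haveILetI false

namespace CfsgLib.Fusion

open Cfsg Cfsg.FusionSystem

universe u

variable {Ω : Type u} [Group Ω] {S : Subgroup Ω} [Finite S] {F : FusionSystem S} {p : ℕ}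
  [Fact p.Prime]

/-- The normalizer system of a subgroup normalized by `S`, over `S`. -/
theorem exists_normalizer_over (hS : IsPGroup p S) (hF : F.IsSaturated p) {X : Subgroup Ω}
    (hX : X ≤ S) (hXn : S ≤ Subgroup.normalizer (X : Set Ω)) :
    ∃ E : FusionSystem S, E.IsSaturated p ∧ ∀ P f, IsMap E P f ↔ P ≤ S ∧
      ∃ g, IsMap F (P ⊔ X) g ∧ (∀ x ∈ P, g x = f x) ∧ g '' (X : Set Ω) = X := by
  have hXN : normalizerIn S X = S := inf_eq_left.2 hXn
  have hXfn : F.IsFullyNormalized X := ⟨hX, fun Q' _ => by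
    rw [hXN]; exact Subgroup.card_le_of_le inf_le_left⟩
  obtain ⟨E, hE⟩ : ∃ E, F.IsNormalizerSystem X E := ⟨normalizerSystem F X hX, fun _ => rfl⟩
  have key : ∀ (T : Subgroup Ω), T = S → ∀ E : FusionSystem T, E.IsSaturated p →
      (∀ P f, IsMap E P f ↔ P ≤ S ∧ ∃ g, IsMap F (P ⊔ X) g ∧ (∀ x ∈ P, g x = f x) ∧
        g '' (X : Set Ω) = X) →
      ∃ E : FusionSystem S, E.IsSaturated p ∧ ∀ P f, IsMap E P f ↔ P ≤ S ∧
        ∃ g, IsMap F (P ⊔ X) g ∧ (∀ x ∈ P, g x = f x) ∧ g '' (X : Set Ω) = X := by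
    rintro T rfl E h1 h2
    exact ⟨E, h1, h2⟩
  refine key _ hXN E (isSaturated_normalizerSystem hS hF hXfn hE) fun P f => ?_
  rw [isMap_normalizerSystem_iff hE, hXN]
  exact ⟨fun ⟨hP, _, h⟩ => ⟨hP, h⟩, fun ⟨hP, g, hg, hgf, hgX⟩ => ⟨hP, fun x hx =>
    hgf x hx ▸ hg.mem (Subgroup.mem_sup_left hx), g, hg, hgf, hgX⟩⟩

/-- All maps of the system are conjugations by elements of `S`. -/
def IsInnerOnly (F : FusionSystem S) : Prop :=
  ∀ (P : Subgroup Ω) (f : Ω → Ω), IsMap F P f → IsMap (innerFusionSystem S) P f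

theorem exists_constrained_subsystem_aux (hp : p ≠ 2) (hS : IsPGroup p S) :
    ∀ (n : ℕ) (F : FusionSystem S), (mapGraphs F).ncard = n → F.IsSaturated p →
      ¬ IsInnerOnly F → ∃ E : FusionSystem S,
        (∀ P f, IsMap E P f → IsMap F P f) ∧ E.IsConstrained p ∧ ¬ IsInnerOnly E := by
  intro n
  induction n using Nat.strong_induction_on with
  | _ n ihn =>
  intro F hn hF hni
  by_contra hno
  have hsub : ∀ E : FusionSystem S, (∀ P f, IsMap E P f → IsMap F P f) →
      (mapGraphs E).ncard < n → E.IsSaturated p → IsInnerOnly E := by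
    intro E hEF hlt hE
    by_contra hEi
    obtain ⟨E', hE', hc, hne⟩ := ihn _ hlt E rfl hE hEi
    exact hno ⟨E', fun P f h => hEF P f (hE' P f h), hc, hne⟩
  -- normalizers of non-normal subgroups are inner
  have hA : ∀ X : Subgroup Ω, X ≤ S → S ≤ Subgroup.normalizer (X : Set Ω) → ¬ F.IsNormal X →
      ∀ P f, P ≤ S → (∃ g, IsMap F (P ⊔ X) g ∧ (∀ x ∈ P, g x = f x) ∧ g '' (X : Set Ω) = X) →
        IsMap (innerFusionSystem S) P f := by
    intro X hX hXn hnot P f hP hg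
    obtain ⟨E, hEsat, hE⟩ := exists_normalizer_over hS hF hX hXn
    have hEF : ∀ P f, IsMap E P f → IsMap F P f := fun P f hm => by
      obtain ⟨-, g, hg, hgf, -⟩ := (hE P f).1 hm
      exact (hg.mono le_sup_left).congr hgf
    refine hsub E hEF ?_ hEsat P f ((hE P f).2 ⟨hP, hg⟩)
    rw [← hn]
    refine ncard_mapGraphs_lt hEF ?_
    by_contra hc
    push Not at hc
    refine hnot (isNormal_iff.2 ⟨hX, fun P f hm => ?_⟩)
    obtain ⟨-, g, hg, hgf, hgX⟩ := (hE P f).1 (hc P f hm)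
    exact ⟨g, hg, hgf, hgX⟩
  set R := F.core with hRdef
  have hR : F.IsNormal R := isNormal_core F
  have hRS := hR.1
  have hRn := le_normalizer_of_isNormal hR
  have := finite_of_le hRS
  by_cases hC : centralizerIn S R ≤ R
  · exact hno ⟨F, fun _ _ h => h, ⟨hF, R, hR, isCentric_of_fullyCentralized hS hF
      (isFullyCentralized_of_isFullyNormalized hS hF (isFullyNormalized_of_isNormal hR)) hC⟩, hni⟩
  have hmax : ∀ Y, F.IsNormal Y → Y ≤ R := fun Y hY => le_sSup hY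
  by_cases hp₂ : IsPGroup p (F.autGroup R)
  · -- the relative `Z(J)`
    set X := relW zjFunctor R S with hXdef
    have hX : X ≤ S := relW_le _ R S
    have hW2 : ∀ (Q R : Type u) [Group Q] [Group R] [Finite Q], IsPGroup p Q → ∀ φ : Q ≃* R,
        (zjFunctor Q).map φ.toMonoidHom = zjFunctor R :=
      fun Q R _ _ _ hQ φ => zjFunctor_map Q R hQ φ
    have hXn : S ≤ Subgroup.normalizer (X : Set Ω) := fun s hs =>
      normalizer_le_relW zjFunctor hW2 (le_refl S) hS (Subgroup.le_normalizer hs) (hRn hs)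
    have hnot : ¬ F.IsNormal X := fun h =>
      relW_ne zjFunctor zjFunctor_ne_bot hS hRS hRn (fun e => hC (e ▸ inf_le_left))
        (le_antisymm (hmax _ h) (le_relW _ hRS))
    have hfix : FixPGroup F p X := by
      intro A hA' hXA a ha haX hac
      have hai := (mem_autGroup_iff hA' a).1 ha
      have hm := hA X hX hXn hnot A _ hA'
        ⟨autFun a, by rw [sup_eq_left.2 hXA]; exact hai.isMap, fun _ _ => rfl, haX⟩
      have hmem : a ∈ (innerFusionSystem S).autGroup A :=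
        (mem_autGroup_iff hA' a).2 ⟨hm, hai.image_eq⟩
      rw [autGroup_inner hA'] at hmem
      exact coprime_pGroup_eq_one (isPGroup_autInducedBy hS A) hmem hac
    exact hni ((autsPGroup_of_fix zjFunctor (H := Multiplicative ℤ) zjFunctor_ne_bot hW2
      zjFunctor zjFunctor_ne_bot hW2
      (fun L _ _ P hc _ hN _ => isPGroup_of_normalizer_zj hp L P hc hN) _ S F rfl hS hF
      (isSectionFree_infinite F _) R hR hp₂ hfix hfix.centPGroup).le_inner hS hF)
  set EK := kSystem F R hRS (autInducedBy S R) (conj_adm hR)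
  have hlt : (mapGraphs EK).ncard < n := by
    rw [← hn]
    refine ncard_mapGraphs_lt (fun P f h => isMap_of_kSystem h) ?_
    by_contra hc
    push Not at hc
    refine hp₂ ((isPGroup_autInducedBy hS R).to_le fun a ha => ?_)
    obtain ⟨-, g, hg, hag, k, hk, hkv⟩ := isMap_kSystem_iff.1
      (hc R _ ((mem_autGroup_iff hRS a).1 ha).isMap)
    rwa [show a = k from MulEquiv.ext fun x => Subtype.ext (by
      rw [← autFun_coe a x, ← hag x x.2, hkv x x.2, autFun_coe])]
  have hEKi := hsub EK (fun P f h => isMap_of_kSystem h) hlt (isSaturated_kSystem hS hF hR)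
  set R₀ := R ⊔ centralizerIn S R with hR₀def
  have hR₀S : R₀ ≤ S := sup_le hRS inf_le_left
  have hR₀n : S ≤ Subgroup.normalizer (R₀ : Set Ω) := fun s hs => by
    refine mem_normalizer_of_conj_mem hR₀S (mem_of_mem_sup
      (isMap_conj (F := F) hR₀S hs) le_sup_left le_sup_right
      (fun y hy => Subgroup.mem_sup_left (conj_mem_of_mem_normalizer (hRn hs) hy))
      fun y hy => Subgroup.mem_sup_right ⟨S.mul_mem (S.mul_mem hs hy.1) (S.inv_mem hs),
        mem_centralizer_of_conj_eq fun w hw => ?_⟩)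
    have hw' := conj_mem_of_mem_normalizer (hRn (S.inv_mem hs)) hw
    have e := conj_eq_self_of_mem_centralizer hy.2 hw'
    calc s * y * s⁻¹ * w * (s * y * s⁻¹)⁻¹ = s * (y * (s⁻¹ * w * s⁻¹⁻¹) * y⁻¹) * s⁻¹ := by group
      _ = w := by rw [e]; group
  have hR₀not : ¬ F.IsNormal R₀ := fun h => hC (le_sup_right.trans (hmax _ h))
  refine hni fun P f hf => ?_
  obtain ⟨g, hg, hgf, hgU⟩ := (isNormal_iff.1 hR).2 P f hf
  have hPS : P ⊔ R ≤ S := sup_le hf.le hRS
  have hiso : IsIso F R R g := ⟨hg.mono le_sup_right, hgU⟩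
  obtain ⟨g₀, hg₀, hg₀v⟩ := (isReceptive_iff.1 (isReceptive_of_isFullyNormalized hS hF
    (isFullyNormalized_of_isNormal hR))).2 R g hiso
  set D := nPhi S R g
  have hPD : P ⊔ R ≤ D := fun x hx => ⟨hPS hx, hRn (hPS hx), g x, hg.mem hx,
    fun y hy => hg.map_conj hx (Subgroup.mem_sup_right hy)⟩
  have hRD : R ≤ D := le_nPhi hiso.isMap
  have hR₀D : R₀ ≤ D := sup_le hRD (centralizerIn_le_nPhi R g)
  have hg₀U : IsIso F R R g₀ := hiso.congr fun x hx => (hg₀v x hx).symm
  have hg₀R : g₀ '' (R₀ : Set Ω) = R₀ := image_eq_of_mem hR₀S hg₀ hR₀D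
    (mem_of_mem_sup hg₀ hRD (centralizerIn_le_nPhi R g)
      (fun x hx => Subgroup.mem_sup_left (hg₀U.mem hx))
      fun x hx => Subgroup.mem_sup_right
        (hg₀.mem_centralizerIn hRD hg₀U (centralizerIn_le_nPhi R g hx) hx.2))
  obtain ⟨-, s, hs, hsv⟩ := isMap_inner_iff.1 (hA R₀ hR₀S hR₀n hR₀not P g₀ hf.le
    ⟨g₀, hg₀.mono (sup_le (le_sup_left.trans hPD) hR₀D), fun _ _ => rfl, hg₀R⟩)
  obtain ⟨I, hI⟩ := (hg₀.mono hPD).exists_iso
  obtain ⟨g₀', hg₀', hg₀'1, -⟩ := hI.exists_symm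
  have hRI : R ≤ I := fun z hz => by
    obtain ⟨x, hx, rfl⟩ := hg₀U.surj hz
    exact hI.mem (Subgroup.mem_sup_right hx)
  have hh : IsMap F I (g ∘ g₀') := hg₀'.isMap.comp hg fun z hz => hg₀'.mem hz
  have hhK : IsMap EK I (g ∘ g₀') := by
    refine isMap_kSystem_iff.2 ⟨hh, g ∘ g₀', by rwa [sup_eq_left.2 hRI], fun _ _ => rfl, 1,
      Subgroup.one_mem _, fun z hz => ?_⟩
    obtain ⟨x, hx, rfl⟩ := hg₀U.surj hz
    show g (g₀' (g₀ x)) = _
    rw [hg₀'1 x (Subgroup.mem_sup_right hx), autFun_apply _ (hg₀U.mem hx)]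
    exact (hg₀v x hx).symm
  obtain ⟨-, t, ht, htv⟩ := isMap_inner_iff.1 (hEKi I _ hhK)
  refine isMap_inner_iff.2 ⟨hf.le, t * s, S.mul_mem ht hs, fun x hx => ?_⟩
  have e := htv (g₀ x) (hI.mem (Subgroup.mem_sup_left hx))
  rw [hsv x hx] at e
  rw [← hgf x hx]
  calc g x = (g ∘ g₀') (g₀ x) := by
        show g x = g (g₀' (g₀ x))
        rw [hg₀'1 x (Subgroup.mem_sup_left hx)]
    _ = t * (s * x * s⁻¹) * t⁻¹ := by rw [hsv x hx]; exact e
    _ = t * s * x * (t * s)⁻¹ := by group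

/-- A noninner saturated system at an odd prime has a noninner constrained subsystem. -/
theorem exists_constrained_subsystem (hp : p ≠ 2) (hS : IsPGroup p S) (hF : F.IsSaturated p)
    (hne : ∃ P : Subgroup Ω, F.Hom P ≠ (innerFusionSystem S).Hom P) :
    ∃ E : FusionSystem S, E ≤ F ∧ E.IsConstrained p ∧
      ∃ P : Subgroup Ω, E.Hom P ≠ (innerFusionSystem S).Hom P := by
  have hni : ¬ IsInnerOnly F := fun h => by
    obtain ⟨P, hP⟩ := hne
    refine hP (Set.Subset.antisymm (fun φ hφ => (mem_hom_iff φ).2 (h P _ (isMap_homFun hφ)))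
      fun φ hφ => hom_inner_subset F le_rfl hφ)
  obtain ⟨E, hE, hc, hEi⟩ := exists_constrained_subsystem_aux hp hS _ F rfl hF hni
  refine ⟨E, fun P φ hφ => (mem_hom_iff φ).2 (hE P _ (isMap_homFun hφ)), hc, ?_⟩
  by_contra h
  push Not at h
  refine hEi fun P f hf => ?_
  obtain ⟨φ, hφ, hv⟩ := hf
  exact ⟨φ, h P ▸ hφ, hv⟩

end CfsgLib.Fusion
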