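import Mathlib
import Cfsg.Agent.Lib.SylowNumber.Basic
import Cfsg.Agent.Lib.Fusion.Group

/-!
The characteristic abelian subgroup `D*(S)` of Glauberman and Solomon, and its behaviour in
`p`-stable groups.
-/

set_option autoImplicit false

open scoped commutatorElement

namespace CfsgLib.DStar

variable {G : Type*} [Group G]

/-- `A` is abelian and every `x ∈ S` with `⟨A, x⟩` of class at most two centralizes it. -/
def InD (S A : Subgroup G) : Prop :=
  A ≤ S ∧ (∀ a ∈ A, ∀ b ∈ A, Commute a b) ∧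
    ∀ x ∈ S, (∀ a ∈ A, Commute ⁅a, x⁆ x ∧ ∀ b ∈ A, Commute ⁅a, x⁆ b) → ∀ a ∈ A, Commute a x

/-- The subgroup generated by the members of `InD S`. -/
def dStar (S : Subgroup G) : Subgroup G := sSup {A | InD S A}

theorem InD.mono {S T A : Subgroup G} (h : InD S A) (hTS : T ≤ S) (hAT : A ≤ T) : InD T A :=
  ⟨hAT, h.2.1, fun x hx => h.2.2 x (hTS hx)⟩

theorem le_dStar {S A : Subgroup G} (h : InD S A) : A ≤ dStar S := le_sSup h

theorem dStar_le (S : Subgroup G) : dStar S ≤ S := sSup_le fun _ h => h.1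

theorem commutator_mem_of_normalizer {N : Subgroup G} {x a : G} (hx : x ∈ N)
    (ha : a ∈ Subgroup.normalizer (N : Set G)) : ⁅a, x⁆ ∈ N := by
  rw [commutatorElement_def]
  exact N.mul_mem ((Subgroup.mem_normalizer_iff.1 ha x).1 hx) (N.inv_mem hx)

theorem commutator_mem_lcs {S : Subgroup G} {k : ℕ} {x a : G}
    (hx : x ∈ S.lowerCentralSeries k) (ha : a ∈ S) : ⁅a, x⁆ ∈ S.lowerCentralSeries (k + 1) := by
  rw [Subgroup.lowerCentralSeries_succ, ← commutatorElement_inv]
  exact Subgroup.inv_mem _ (Subgroup.commutator_mem_commutator hx ha)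

/-- A member of `InD S` centralizes every abelian subgroup normalized by `S`. -/
theorem InD.commute_of_abelian {S A N : Subgroup G} [Group.IsNilpotent S] (h : InD S A)
    (hNS : N ≤ S) (hN : S ≤ Subgroup.normalizer (N : Set G))
    (hNc : ∀ x ∈ N, ∀ y ∈ N, Commute x y) : ∀ a ∈ A, ∀ x ∈ N, Commute a x := by
  obtain ⟨n, hn⟩ := (Subgroup.isNilpotent_iff_lowerCentralSeries S).1 inferInstance
  suffices key : ∀ j k, n ≤ k + j → ∀ x ∈ N, x ∈ S.lowerCentralSeries k →
      ∀ a ∈ A, Commute a x from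
    fun a ha x hx => key n 0 (by omega) x hx (hNS hx) a ha
  intro j
  induction j with
  | zero =>
    intro k hk x _ hx a _
    have hx1 : x ∈ (⊥ : Subgroup G) := hn ▸ S.lowerCentralSeries_antitone (by omega) hx
    rw [Subgroup.mem_bot.1 hx1]
    exact Commute.one_right a
  | succ j ih =>
    intro k hk x hxN hxk
    refine h.2.2 x (hNS hxN) fun a ha => ⟨?_, fun b hb => ?_⟩
    · exact hNc _ (commutator_mem_of_normalizer hxN (hN (h.1 ha))) _ hxN
    · exact (ih (k + 1) (by omega) _ (commutator_mem_of_normalizer hxN (hN (h.1 ha)))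
        (commutator_mem_lcs hxk (h.1 ha)) b hb).symm

/-- A finite nilpotent group has a self-centralizing abelian normal subgroup. -/
theorem exists_self_centralizing [Finite G] (S : Subgroup G) [Group.IsNilpotent S] :
    ∃ N : Subgroup G, N ≤ S ∧ S ≤ Subgroup.normalizer (N : Set G) ∧
      (∀ x ∈ N, ∀ y ∈ N, Commute x y) ∧ S ⊓ Subgroup.centralizer (N : Set G) ≤ N := by
  obtain ⟨N, -, ⟨hNS, hN, hNc⟩, hmax⟩ := Finite.exists_le_maximal
    (p := fun N : Subgroup G =>
      N ≤ S ∧ S ≤ Subgroup.normalizer (N : Set G) ∧ ∀ x ∈ N, ∀ y ∈ N, Commute x y)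
    (a := ⊥) ⟨bot_le, by rw [Subgroup.normalizer_eq_top]; exact le_top, fun x hx y _ => by
      rw [Subgroup.mem_bot.1 hx]; exact Commute.one_left y⟩
  refine ⟨N, hNS, hN, hNc, ?_⟩
  obtain ⟨n, hn⟩ := (Subgroup.isNilpotent_iff_lowerCentralSeries S).1 inferInstance
  suffices key : ∀ j k, n ≤ k + j → ∀ z ∈ S, z ∈ Subgroup.centralizer (N : Set G) →
      z ∈ S.lowerCentralSeries k → z ∈ N from
    fun z hz => key n 0 (by omega) z hz.1 hz.2 hz.1
  intro j
  induction j with
  | zero =>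
    intro k hk z _ _ hz
    have hz1 : z ∈ (⊥ : Subgroup G) := hn ▸ S.lowerCentralSeries_antitone (by omega) hz
    rw [Subgroup.mem_bot.1 hz1]
    exact N.one_mem
  | succ j ih =>
    intro k hk z hzS hzC hzk
    have hcl : N ⊔ Subgroup.zpowers z = Subgroup.closure ((N : Set G) ∪ {z}) := by
      rw [Subgroup.closure_union, Subgroup.closure_eq, Subgroup.zpowers_eq_closure]
    have hconj : ∀ s ∈ S, s * z * s⁻¹ ∈ N ⊔ Subgroup.zpowers z := by
      intro s hs
      have hcz : s * z * s⁻¹ ∈ Subgroup.centralizer (N : Set G) := by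
        rw [Subgroup.mem_centralizer_iff]
        intro y hy
        have hy' := (Subgroup.mem_normalizer_iff.1 (hN (S.inv_mem hs)) y).1 hy
        rw [inv_inv] at hy'
        have hc := Subgroup.mem_centralizer_iff.1 hzC _ hy'
        calc y * (s * z * s⁻¹) = s * ((s⁻¹ * y * s) * z) * s⁻¹ := by group
          _ = s * (z * (s⁻¹ * y * s)) * s⁻¹ := by rw [hc]
          _ = s * z * s⁻¹ * y := by group
      have hco : ⁅s, z⁆ ∈ N := ih (k + 1) (by omega) _
        (by rw [commutatorElement_def]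
            exact S.mul_mem (S.mul_mem (S.mul_mem hs hzS) (S.inv_mem hs)) (S.inv_mem hzS))
        (by rw [commutatorElement_def]
            exact Subgroup.mul_mem _ hcz (Subgroup.inv_mem _ hzC))
        (commutator_mem_lcs hzk hs)
      have : s * z * s⁻¹ = ⁅s, z⁆ * z := by rw [commutatorElement_def]; group
      rw [this]
      exact Subgroup.mul_mem _ (Subgroup.mem_sup_left hco)
        (Subgroup.mem_sup_right (Subgroup.mem_zpowers z))
    have hle : N ⊔ Subgroup.zpowers z ≤ S := sup_le hNS (Subgroup.zpowers_le.2 hzS)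
    have hnorm : S ≤ Subgroup.normalizer ((N ⊔ Subgroup.zpowers z : Subgroup G) : Set G) := by
      intro s hs
      refine Subgroup.mem_normalizer_fintype fun y hy => ?_
      have h1 : (N ⊔ Subgroup.zpowers z).map (MulAut.conj s).toMonoidHom
          ≤ N ⊔ Subgroup.zpowers z := by
        rw [Subgroup.map_sup, MonoidHom.map_zpowers]
        refine sup_le ?_ (Subgroup.zpowers_le.2 (hconj s hs))
        rintro _ ⟨w, hw, rfl⟩
        exact Subgroup.mem_sup_left ((Subgroup.mem_normalizer_iff.1 (hN hs) w).1 hw)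
      exact h1 ⟨y, hy, rfl⟩
    have hcomm : ∀ x ∈ N ⊔ Subgroup.zpowers z, ∀ y ∈ N ⊔ Subgroup.zpowers z, Commute x y := by
      have h2 : ∀ x ∈ ((N : Set G) ∪ {z}), ∀ y ∈ ((N : Set G) ∪ {z}), Commute x y := by
        rintro x (hx | rfl) y (hy | rfl)
        · exact hNc x hx y hy
        · exact Subgroup.mem_centralizer_iff.1 hzC x hx
        · exact (Subgroup.mem_centralizer_iff.1 hzC y hy).symm
        · exact Commute.refl _
      intro x hx y hy
      rw [hcl] at hx hy
      exact Subgroup.closure_induction₂ (p := fun a b _ _ => Commute a b)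
        (fun a b ha hb => h2 a ha b hb) (fun a _ => Commute.one_left a)
        (fun a _ => Commute.one_right a) (fun a b c _ _ _ h h' => h.mul_left h')
        (fun a b c _ _ _ h h' => h.mul_right h') (fun a b _ _ h => h.inv_left)
        (fun a b _ _ h => h.inv_right) hx hy
    exact hmax ⟨hle, hnorm, hcomm⟩ le_sup_left
      (Subgroup.mem_sup_right (Subgroup.mem_zpowers z))

theorem dStar_comm [Finite G] (S : Subgroup G) [Group.IsNilpotent S] :
    ∀ x ∈ dStar S, ∀ y ∈ dStar S, Commute x y := by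
  obtain ⟨N, hNS, hN, hNc, hNN⟩ := exists_self_centralizing S
  have h : dStar S ≤ N := sSup_le fun A hA a ha => hNN ⟨hA.1 ha,
    Subgroup.mem_centralizer_iff.2 fun x hx => (hA.commute_of_abelian hNS hN hNc a ha x hx).symm⟩
  exact fun x hx y hy => hNc x (h hx) y (h hy)

theorem inD_dStar [Finite G] (S : Subgroup G) [Group.IsNilpotent S] : InD S (dStar S) := by
  refine ⟨dStar_le S, dStar_comm S, fun x hx hcl a ha => ?_⟩
  have h : dStar S ≤ Subgroup.centralizer {x} := sSup_le fun A hA b hb => by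
    have hAW := le_dStar hA
    have hc := hA.2.2 x hx (fun c hc => ⟨(hcl c (hAW hc)).1,
      fun d hd => (hcl c (hAW hc)).2 d (hAW hd)⟩) b hb
    exact Subgroup.mem_centralizer_iff.2 fun y hy => by
      rw [Set.mem_singleton_iff.1 hy]; exact hc.symm
  exact (Subgroup.mem_centralizer_iff.1 (h ha) x rfl).symm

theorem InD.map {S A : Subgroup G} (h : InD S A) (e : G ≃* G) :
    InD (S.map e.toMonoidHom) (A.map e.toMonoidHom) := by
  refine ⟨Subgroup.map_mono h.1, ?_, ?_⟩
  · rintro _ ⟨a, ha, rfl⟩ _ ⟨b, hb, rfl⟩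
    exact (h.2.1 a ha b hb).map _
  · rintro _ ⟨x, hx, rfl⟩ hcl _ ⟨a, ha, rfl⟩
    have key := h.2.2 x hx (fun c hc => by
      obtain ⟨h1, h2⟩ := hcl _ ⟨c, hc, rfl⟩
      refine ⟨?_, fun d hd => ?_⟩
      · refine Commute.of_map (f := e.toMonoidHom) e.injective ?_
        rw [map_commutatorElement]; exact h1
      · refine Commute.of_map (f := e.toMonoidHom) e.injective ?_
        rw [map_commutatorElement]; exact h2 _ ⟨d, hd, rfl⟩) a ha
    exact key.map _

theorem dStar_map (S : Subgroup G) (e : G ≃* G) :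
    dStar (S.map e.toMonoidHom) = (dStar S).map e.toMonoidHom := by
  have h1 : ∀ (T : Subgroup G) (f : G ≃* G),
      (dStar T).map f.toMonoidHom ≤ dStar (T.map f.toMonoidHom) := fun T f => by
    rw [Subgroup.map_le_iff_le_comap]
    exact sSup_le fun A hA => Subgroup.map_le_iff_le_comap.1 (le_dStar (hA.map f))
  refine le_antisymm (fun y hy => ?_) (h1 S e)
  have hy' := h1 _ e.symm ⟨y, hy, rfl⟩
  rw [Subgroup.map_map, show e.symm.toMonoidHom.comp e.toMonoidHom = MonoidHom.id G by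
    ext; simp, Subgroup.map_id] at hy'
  exact ⟨_, hy', by simp⟩

theorem normalizer_le_normalizer_dStar [Finite G] (S : Subgroup G) :
    Subgroup.normalizer (S : Set G) ≤ Subgroup.normalizer (dStar S : Set G) := by
  intro g hg
  have hS : S.map (MulAut.conj g).toMonoidHom = S := by
    ext y
    rw [CfsgLib.Fusion.mem_map_conj]
    constructor
    · intro hy
      simpa [mul_assoc] using (Subgroup.mem_normalizer_iff.1 hg _).1 hy
    · intro hy
      refine (Subgroup.mem_normalizer_iff.1 hg _).2 ?_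
      simpa [mul_assoc] using hy
  refine Subgroup.mem_normalizer_fintype fun y hy => ?_
  have := dStar_map S (MulAut.conj g)
  rw [hS] at this
  rw [SetLike.mem_coe, this]
  exact ⟨y, hy, rfl⟩

theorem dStar_ne_bot [Finite G] {p : ℕ} [Fact p.Prime] {S : Subgroup G} (hS : IsPGroup p S)
    (hne : S ≠ ⊥) : dStar S ≠ ⊥ := by
  have : Nontrivial S := (Subgroup.nontrivial_iff_ne_bot S).2 hne
  have hc := hS.center_nontrivial
  have hA : InD S ((Subgroup.center S).map S.subtype) := by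
    refine ⟨Subgroup.map_subtype_le _, ?_, ?_⟩
    · rintro _ ⟨a, ha, rfl⟩ _ ⟨b, -, rfl⟩
      exact (congrArg Subtype.val (Subgroup.mem_center_iff.1 ha b)).symm
    · rintro x hx - _ ⟨a, ha, rfl⟩
      exact (congrArg Subtype.val (Subgroup.mem_center_iff.1 ha ⟨x, hx⟩)).symm
  intro h
  have h0 := le_dStar hA
  rw [h, le_bot_iff, Subgroup.map_eq_bot_iff_of_injective _ S.subtype_injective] at h0
  exact (Subgroup.nontrivial_iff_ne_bot _).1 hc h0

/-! ### Stability -/

/-- A `p`-element-free formulation of stability at `X`: an element acting quadratically on `X`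
lies in a normal subgroup of `N(X)` which is a `p`-group modulo `C(X)`. -/
def QuadStable (p : ℕ) (X : Subgroup G) : Prop :=
  ∀ x ∈ Subgroup.normalizer (X : Set G),
    (∀ a ∈ X, (x * a⁻¹ * x⁻¹) * a * (x * a⁻¹ * x⁻¹) * (x * (x * a * x⁻¹) * x⁻¹) = 1) →
    ∃ O : Subgroup G, x ∈ O ∧ O ≤ Subgroup.normalizer (X : Set G) ∧
      Subgroup.normalizer (X : Set G) ≤ Subgroup.normalizer (O : Set G) ∧
      ∀ o ∈ O, ∃ k : ℕ, o ^ p ^ k ∈ Subgroup.centralizer (X : Set G)

theorem normalizer_map_conj (X : Subgroup G) (g : G) :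
    (Subgroup.normalizer (X : Set G)).map (MulAut.conj g).toMonoidHom
      = Subgroup.normalizer ((X.map (MulAut.conj g).toMonoidHom : Subgroup G) : Set G) :=
  Subgroup.map_equiv_normalizer_eq X (MulAut.conj g)

theorem QuadStable.map_conj {p : ℕ} {X : Subgroup G} (h : QuadStable p X) (g : G) :
    QuadStable p (X.map (MulAut.conj g).toMonoidHom) := by
  intro x hx hq
  rw [← normalizer_map_conj] at hx ⊢
  obtain ⟨x₀, hx₀, rfl⟩ := hx
  obtain ⟨O, hxO, hO, hON, hOp⟩ := h x₀ hx₀ fun a ha => by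
    have := hq _ ⟨a, ha, rfl⟩
    apply (MulAut.conj g).injective
    rw [map_one, ← this]
    simp only [map_mul, map_inv, MulEquiv.coe_toMonoidHom]
  refine ⟨O.map (MulAut.conj g).toMonoidHom, ⟨x₀, hxO, rfl⟩, Subgroup.map_mono hO, ?_, ?_⟩
  · rw [← normalizer_map_conj O]
    exact Subgroup.map_mono hON
  · rintro _ ⟨o, ho, rfl⟩
    obtain ⟨k, hk⟩ := hOp o ho
    refine ⟨k, ?_⟩
    rw [← map_pow]
    exact CfsgLib.Fusion.map_conj_mem_centralizer hk

/-- Elements of a normal subgroup that is a `p`-group modulo `C(X)` act as elements of any Sylow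
subgroup. -/
theorem exists_same_action [Finite G] {p : ℕ} [Fact p.Prime] {H R X O : Subgroup G}
    (hR : IsPGroup p R) (hRH : R ≤ H)
    (hmax : ∀ T : Subgroup G, T ≤ H → IsPGroup p T → Nat.card T ≤ Nat.card R)
    (hX : H ≤ Subgroup.normalizer (X : Set G))
    (hON : H ≤ Subgroup.normalizer (O : Set G))
    (hOp : ∀ o ∈ O, ∃ k : ℕ, o ^ p ^ k ∈ Subgroup.centralizer (X : Set G))
    {x : G} (hxH : x ∈ H) (hxO : x ∈ O) :
    ∃ y ∈ R, ∀ a ∈ X, y * a * y⁻¹ = x * a * x⁻¹ := by
  obtain ⟨P, hP⟩ := (CfsgLib.Fusion.exists_sylow_eq_iff (N := H) hR hRH).2 hmax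
  haveI : ((Subgroup.centralizer (X : Set G)).subgroupOf H).Normal := by
    refine ⟨fun c hc h => ?_⟩
    rw [Subgroup.mem_subgroupOf, Subgroup.mem_centralizer_iff] at hc ⊢
    intro a ha
    have ha' := (Subgroup.mem_normalizer_iff.1 (hX (H.inv_mem h.2)) a).1 ha
    rw [inv_inv] at ha'
    have hc' := hc _ ha'
    simp only [Subgroup.coe_mul, Subgroup.coe_inv]
    calc a * ((h : G) * c * (h : G)⁻¹)
          = (h : G) * (((h : G)⁻¹ * a * h) * c) * (h : G)⁻¹ := by group
      _ = (h : G) * ((c : G) * ((h : G)⁻¹ * a * h)) * (h : G)⁻¹ := by rw [hc']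
      _ = (h : G) * c * (h : G)⁻¹ * a := by group
  set C := (Subgroup.centralizer (X : Set G)).subgroupOf H with hC
  have hON' : (O.subgroupOf H).Normal := ⟨fun c hc h =>
    (Subgroup.mem_normalizer_iff.1 (hON h.2) _).1 hc⟩
  haveI : ((O.subgroupOf H).map (QuotientGroup.mk' C)).Normal :=
    hON'.map _ (QuotientGroup.mk'_surjective C)
  have hp' : IsPGroup p ((O.subgroupOf H).map (QuotientGroup.mk' C)) := by
    rintro ⟨_, o, ho, rfl⟩
    obtain ⟨k, hk⟩ := hOp o ho
    refine ⟨k, Subtype.ext ?_⟩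
    show (QuotientGroup.mk' C o) ^ p ^ k = 1
    rw [← map_pow, QuotientGroup.mk'_apply, QuotientGroup.eq_one_iff, hC, Subgroup.mem_subgroupOf,
      SubgroupClass.coe_pow]
    exact hk
  have hle := IsPGroup.le_sylow_of_normal hp'
    (P.mapSurjective (QuotientGroup.mk'_surjective C))
  have hmem := hle ⟨⟨x, hxH⟩, hxO, rfl⟩
  rw [Sylow.coe_mapSurjective] at hmem
  obtain ⟨y, hy, hyx⟩ := hmem
  rw [hP] at hy
  refine ⟨y, hy, fun a ha => ?_⟩
  rw [QuotientGroup.mk'_apply, QuotientGroup.mk'_apply, QuotientGroup.eq, hC,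
    Subgroup.mem_subgroupOf, Subgroup.mem_centralizer_iff] at hyx
  have h2 : a * ((y : G)⁻¹ * x) = (y : G)⁻¹ * x * a := by simpa using hyx a ha
  calc (y : G) * a * (y : G)⁻¹
        = (y : G) * (a * ((y : G)⁻¹ * x)) * x⁻¹ := by group
    _ = (y : G) * ((y : G)⁻¹ * x * a) * x⁻¹ := by rw [h2]
    _ = x * a * x⁻¹ := by group

/-- The key step: an abelian normal subgroup generated by members of `InD` of Sylow subgroups is a
member for every Sylow subgroup. -/
theorem inD_of_generated [Finite G] {p : ℕ} [Fact p.Prime] {H R X : Subgroup G}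
    (hR : IsPGroup p R) (hRH : R ≤ H)
    (hmax : ∀ T : Subgroup G, T ≤ H → IsPGroup p T → Nat.card T ≤ Nat.card R)
    (hX : H ≤ Subgroup.normalizer (X : Set G)) (hXR : X ≤ R)
    (hXc : ∀ a ∈ X, ∀ b ∈ X, Commute a b) (hst : QuadStable p X)
    (𝒜 : Set (Subgroup G)) (hgen : X = sSup 𝒜)
    (hwit : ∀ A ∈ 𝒜, ∃ T : Subgroup G, T ≤ H ∧ IsPGroup p T ∧ Nat.card R ≤ Nat.card T ∧ InD T A) :
    InD R X := by
  refine ⟨hXR, hXc, fun x hx hcl => ?_⟩
  have hcX : ∀ a ∈ X, ⁅a, x⁆ ∈ X := fun a ha => by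
    rw [commutatorElement_def, show a * x * a⁻¹ * x⁻¹ = a * (x * a⁻¹ * x⁻¹) by group]
    exact X.mul_mem ha ((Subgroup.mem_normalizer_iff.1 (hX (hRH hx)) _).1 (X.inv_mem ha))
  obtain ⟨O, hxO, -, hON, hOp⟩ := hst x (hX (hRH hx)) fun a ha => by
    have h1 : x * ⁅a, x⁆ * x⁻¹ = ⁅a, x⁆ := by rw [← (hcl a ha).1.eq]; group
    have hu : x * a⁻¹ * x⁻¹ = a⁻¹ * ⁅a, x⁆ := by rw [commutatorElement_def]; group
    have hw : x * a * x⁻¹ = ⁅a, x⁆⁻¹ * a := by rw [commutatorElement_def]; group
    have hv : x * (x * a * x⁻¹) * x⁻¹ = ⁅a, x⁆⁻¹ * (x * a * x⁻¹) := by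
      have h3 : ∀ u : G, x * (u⁻¹ * a) * x⁻¹ = (x * u * x⁻¹)⁻¹ * (x * a * x⁻¹) := fun u => by group
      have h4 := h3 ⁅a, x⁆
      rw [← hw, h1] at h4
      exact h4
    rw [hv, hw, hu]
    have hc : Commute a⁻¹ ⁅a, x⁆ := (hXc _ (X.inv_mem ha) _ (hcX a ha))
    calc a⁻¹ * ⁅a, x⁆ * a * (a⁻¹ * ⁅a, x⁆) * (⁅a, x⁆⁻¹ * (⁅a, x⁆⁻¹ * a))
          = (a⁻¹ * ⁅a, x⁆) * ⁅a, x⁆⁻¹ * a * 1 := by group
      _ = 1 := by group
  have hC : X ≤ Subgroup.centralizer {x} := by
    rw [hgen]
    refine sSup_le fun A hA b hb => ?_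
    have hAX : A ≤ X := hgen ▸ le_sSup hA
    obtain ⟨T, hTH, hT, hcard, hD⟩ := hwit A hA
    obtain ⟨y, hy, hyx⟩ := exists_same_action hT hTH
      (fun U hU hUp => (hmax U hU hUp).trans hcard) hX ((hX.trans hON)) hOp (hRH hx) hxO
    have hcy : ∀ a ∈ X, ⁅a, y⁆ = ⁅a, x⁆ := fun a ha => by
      rw [commutatorElement_def, commutatorElement_def,
        show a * y * a⁻¹ * y⁻¹ = a * (y * a⁻¹ * y⁻¹) by group, hyx _ (X.inv_mem ha)]
      group
    have hc := hD.2.2 y hy (fun a ha => by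
      rw [hcy a (hAX ha)]
      refine ⟨?_, fun d hd => (hcl a (hAX ha)).2 d (hAX hd)⟩
      have h := hyx _ (hcX a (hAX ha))
      rw [show x * ⁅a, x⁆ * x⁻¹ = ⁅a, x⁆ by rw [← (hcl a (hAX ha)).1.eq]; group] at h
      show ⁅a, x⁆ * y = y * ⁅a, x⁆
      conv_lhs => rw [← h]
      group) b hb
    rw [Subgroup.mem_centralizer_iff]
    intro z hz
    rw [Set.mem_singleton_iff] at hz
    subst hz
    have h := hyx b (hAX hb)
    rw [show y * b * y⁻¹ = b by rw [← hc.eq]; group] at h
    calc z * b = z * b * z⁻¹ * z := by group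
      _ = b * z := by rw [← h]
  exact fun a ha => (Subgroup.mem_centralizer_iff.1 (hC ha) x rfl).symm

/-- The subgroup generated by the conjugates of `W` under `H`. -/
def conjClosure (H W : Subgroup G) : Subgroup G :=
  sSup {A | ∃ h ∈ H, A = W.map (MulAut.conj h).toMonoidHom}

theorem le_conjClosure (H W : Subgroup G) : W ≤ conjClosure H W :=
  le_sSup ⟨1, H.one_mem, by ext; simp⟩

theorem le_normalizer_conjClosure [Finite G] (H W : Subgroup G) :
    H ≤ Subgroup.normalizer (conjClosure H W : Set G) := by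
  intro g hg
  refine Subgroup.mem_normalizer_fintype fun y hy => ?_
  have h1 : (conjClosure H W).map (MulAut.conj g).toMonoidHom ≤ conjClosure H W := by
    rw [Subgroup.map_le_iff_le_comap]
    refine sSup_le ?_
    rintro _ ⟨h, hh, rfl⟩
    rw [← Subgroup.map_le_iff_le_comap, Subgroup.map_map]
    refine le_sSup ⟨g * h, H.mul_mem hg hh, ?_⟩
    congr 1
    ext z
    simp [mul_assoc]
  exact h1 ⟨y, hy, rfl⟩

theorem conjClosure_le {H W T : Subgroup G}
    (h : ∀ g ∈ H, W.map (MulAut.conj g).toMonoidHom ≤ T) : conjClosure H W ≤ T :=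
  sSup_le (by rintro _ ⟨g, hg, rfl⟩; exact h g hg)

theorem isPGroup_map_conj {p : ℕ} {R : Subgroup G} (hR : IsPGroup p R) (g : G) :
    IsPGroup p (R.map (MulAut.conj g).toMonoidHom) := hR.map _

/-- If `W` is a member for `R`, the `H`-conjugates of `W` generate a member for `R`, provided they
generate an abelian subgroup of `R`. -/
theorem inD_conjClosure [Finite G] {p : ℕ} [Fact p.Prime] {H R W : Subgroup G}
    (hR : IsPGroup p R) (hRH : R ≤ H)
    (hmax : ∀ T : Subgroup G, T ≤ H → IsPGroup p T → Nat.card T ≤ Nat.card R)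
    (hXR : conjClosure H W ≤ R) (hXc : ∀ a ∈ conjClosure H W, ∀ b ∈ conjClosure H W, Commute a b)
    (hst : QuadStable p (conjClosure H W)) (hW : InD R W) : InD R (conjClosure H W) := by
  refine inD_of_generated hR hRH hmax (le_normalizer_conjClosure H W) hXR hXc hst _ rfl ?_
  rintro _ ⟨h, hh, rfl⟩
  refine ⟨R.map (MulAut.conj h).toMonoidHom, ?_, isPGroup_map_conj hR h,
    (CfsgLib.Fusion.card_map_conj R h).ge, hW.map _⟩
  rintro _ ⟨r, hr, rfl⟩
  exact H.mul_mem (H.mul_mem hh (hRH hr)) (H.inv_mem hh)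

/-- Frattini step: `H = C_H(B) N_H(D*(R))` for an abelian `B ≤ D*(R)` normalized by `H`. -/
theorem le_centralizer_sup_normalizer [Finite G] {p : ℕ} [Fact p.Prime] {H R B : Subgroup G}
    (hR : IsPGroup p R) (hRH : R ≤ H)
    (hmax : ∀ T : Subgroup G, T ≤ H → IsPGroup p T → Nat.card T ≤ Nat.card R)
    (hB : H ≤ Subgroup.normalizer (B : Set G)) (hBW : B ≤ dStar R)
    (hst : ∀ X : Subgroup G, X ≤ R → QuadStable p X) :
    H ≤ Subgroup.centralizer (B : Set G) ⊔ Subgroup.normalizer (dStar R : Set G) := by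
  haveI : Group.IsNilpotent R := hR.isNilpotent
  set C := R ⊓ Subgroup.centralizer (B : Set G) with hC
  haveI : Group.IsNilpotent C := (hR.to_le inf_le_left).isNilpotent
  have hWC : dStar R ≤ C := le_inf (dStar_le R) fun w hw =>
    Subgroup.mem_centralizer_iff.2 fun b hb => dStar_comm R b (hBW hb) w hw
  set N' := H ⊓ Subgroup.normalizer (C : Set G) with hN'
  have hRN' : R ≤ N' := le_inf hRH fun r hr => Subgroup.mem_normalizer_fintype fun c hc => by
    refine ⟨R.mul_mem (R.mul_mem hr hc.1) (R.inv_mem hr), ?_⟩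
    refine Subgroup.mem_centralizer_iff.2 fun b hb => ?_
    have hb' := (Subgroup.mem_normalizer_iff.1 (hB (H.inv_mem (hRH hr))) b).1 hb
    rw [inv_inv] at hb'
    have hc' := Subgroup.mem_centralizer_iff.1 hc.2 _ hb'
    calc b * (r * c * r⁻¹) = r * ((r⁻¹ * b * r) * c) * r⁻¹ := by group
      _ = r * (c * (r⁻¹ * b * r)) * r⁻¹ := by rw [hc']
      _ = r * c * r⁻¹ * b := by group
  have hWn : ∀ m ∈ N', InD C ((dStar R).map (MulAut.conj m).toMonoidHom) := fun m hm => by
    have h := ((inD_dStar R).mono inf_le_left hWC).map (MulAut.conj m)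
    rwa [show C.map (MulAut.conj m).toMonoidHom = C from ?_] at h
    ext y
    rw [CfsgLib.Fusion.mem_map_conj]
    constructor
    · intro hy
      simpa [mul_assoc] using (Subgroup.mem_normalizer_iff.1 hm.2 _).1 hy
    · intro hy
      refine (Subgroup.mem_normalizer_iff.1 hm.2 _).2 ?_
      simpa [mul_assoc] using hy
  have hXC : conjClosure N' (dStar R) ≤ dStar C := conjClosure_le fun m hm => le_dStar (hWn m hm)
  have hXR : conjClosure N' (dStar R) ≤ R := hXC.trans ((dStar_le C).trans inf_le_left)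
  have hX := inD_conjClosure hR hRN' (fun T hT hTp => hmax T (hT.trans inf_le_left) hTp) hXR
    (fun a ha b hb => dStar_comm C a (hXC ha) b (hXC hb)) (hst _ hXR) (inD_dStar R)
  have hN'W : N' ≤ Subgroup.normalizer (dStar R : Set G) := by
    have heq : conjClosure N' (dStar R) = dStar R :=
      le_antisymm (le_dStar hX) (le_conjClosure _ _)
    exact (le_normalizer_conjClosure N' (dStar R)).trans_eq (by rw [heq])
  -- Frattini
  haveI hKn : ((Subgroup.centralizer (B : Set G)).subgroupOf H).Normal := by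
    refine ⟨fun c hc h => ?_⟩
    rw [Subgroup.mem_subgroupOf, Subgroup.mem_centralizer_iff] at hc ⊢
    intro a ha
    have ha' := (Subgroup.mem_normalizer_iff.1 (hB (H.inv_mem h.2)) a).1 ha
    rw [inv_inv] at ha'
    have hc' := hc _ ha'
    simp only [Subgroup.coe_mul, Subgroup.coe_inv]
    calc a * ((h : G) * c * (h : G)⁻¹)
          = (h : G) * (((h : G)⁻¹ * a * h) * c) * (h : G)⁻¹ := by group
      _ = (h : G) * ((c : G) * ((h : G)⁻¹ * a * h)) * (h : G)⁻¹ := by rw [hc']
      _ = (h : G) * c * (h : G)⁻¹ * a := by group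
  set K := (Subgroup.centralizer (B : Set G)).subgroupOf H with hK
  obtain ⟨P, hP⟩ := (CfsgLib.Fusion.exists_sylow_eq_iff (N := H) hR hRH).2 hmax
  have htop := Sylow.normalizer_sup_eq_top (CfsgLib.SylowNumber.infSylow K P)
  intro h hh
  have hmem : (⟨h, hh⟩ : H) ∈ Subgroup.normalizer
      (((CfsgLib.SylowNumber.infSylow K P : Subgroup K).map K.subtype : Subgroup H) : Set H) ⊔ K :=
    htop ▸ Subgroup.mem_top _
  obtain ⟨n, hn, k, hk, hnk⟩ := Subgroup.mem_sup_of_normal_right.1 hmem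
  have hmapC : ((CfsgLib.SylowNumber.infSylow K P : Subgroup K).map K.subtype : Subgroup H)
      = C.subgroupOf H := by
    rw [CfsgLib.SylowNumber.coe_infSylow, Subgroup.subgroupOf_map_subtype, hP, hC, hK]
    ext z
    simp [Subgroup.mem_subgroupOf]
  rw [hmapC] at hn
  have hnC : (n : G) ∈ Subgroup.normalizer (C : Set G) := by
    refine Subgroup.mem_normalizer_fintype fun c hc => ?_
    have := (Subgroup.mem_normalizer_iff.1 hn ⟨c, hRH hc.1⟩).1 hc
    simpa [Subgroup.mem_subgroupOf] using this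
  have heq : h = (n : G) * k := by simpa using (congrArg Subtype.val hnk).symm
  rw [heq]
  exact Subgroup.mul_mem _ (Subgroup.mem_sup_right (hN'W ⟨n.2, hnC⟩)) (Subgroup.mem_sup_left hk)

end CfsgLib.DStar
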