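import Mathlib

/-!
Automorphisms of odd order of an abelian `2`-group with distinct invariants are trivial.
-/

set_option autoImplicit false

namespace CfsgLib.Fusion

theorem iterate_add_fixed {A : Type*} [AddCommGroup A] (σ : A ≃+ A) {x t : A} (hx : σ x = x + t)
    (ht : σ t = t) : ∀ m : ℕ, σ^[m] x = x + m • t := by
  intro m
  induction m with
  | zero => simp
  | succ m ih =>
    rw [Function.iterate_succ_apply', ih, map_add, map_nsmul, ht, hx, succ_nsmul']
    abel

theorem eq_zero_of_odd {A : Type*} [AddCommGroup A] (σ : A ≃+ A) {N : ℕ} (hN : Odd N)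
    (hσ : ∀ x, σ^[N] x = x) {x t : A} (hx : σ x = x + t) (ht : σ t = t) (h2 : 2 • t = 0) :
    t = 0 := by
  have h := iterate_add_fixed σ hx ht N
  rw [hσ] at h
  obtain ⟨c, rfl⟩ := hN
  rw [add_nsmul, one_nsmul, mul_nsmul, h2, nsmul_zero, zero_add] at h
  exact left_eq_add.1 h

theorem exists_eq_mul_of_two_nsmul {m : ℕ} (hm : 1 ≤ m) {x : ZMod (2 ^ m)} (h : 2 • x = 0) :
    ∃ c : ℕ, x = (c : ZMod (2 ^ m)) * ((2 ^ (m - 1) : ℕ) : ZMod (2 ^ m)) := by
  have : NeZero (2 ^ m) := ⟨pow_ne_zero _ two_ne_zero⟩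
  have h' : ((2 * x.val : ℕ) : ZMod (2 ^ m)) = 0 := by
    rw [Nat.cast_mul, ZMod.natCast_zmod_val, ← nsmul_eq_mul]
    exact h
  rw [ZMod.natCast_eq_zero_iff] at h'
  obtain ⟨j, rfl⟩ : ∃ j, m = j + 1 := ⟨m - 1, by omega⟩
  obtain ⟨c, hc⟩ : 2 ^ j ∣ x.val :=
    Nat.dvd_of_mul_dvd_mul_left two_pos (by rw [← pow_succ']; exact h')
  refine ⟨c, ?_⟩
  rw [← Nat.cast_mul, add_tsub_cancel_right, mul_comm c, ← hc, ZMod.natCast_zmod_val]

theorem involution_ne_zero_eq {m : ℕ} (hm : 1 ≤ m) {x y : ZMod (2 ^ m)} (hx : 2 • x = 0)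
    (hy : 2 • y = 0) (hx0 : x ≠ 0) (hy0 : y ≠ 0) : x = y := by
  have key : ∀ z : ZMod (2 ^ m), 2 • z = 0 → z ≠ 0 →
      z = ((2 ^ (m - 1) : ℕ) : ZMod (2 ^ m)) := by
    intro z hz hz0
    obtain ⟨c, rfl⟩ := exists_eq_mul_of_two_nsmul hm hz
    have h2 : ((2 : ℕ) : ZMod (2 ^ m)) * ((2 ^ (m - 1) : ℕ) : ZMod (2 ^ m)) = 0 := by
      rw [← Nat.cast_mul, ← pow_succ', show m - 1 + 1 = m by omega, ZMod.natCast_self]
    rcases Nat.even_or_odd' c with ⟨d, rfl | rfl⟩
    · exfalso
      apply hz0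
      rw [Nat.cast_mul, mul_comm ((2 : ℕ) : ZMod (2 ^ m)), mul_assoc, h2, mul_zero]
    · rw [Nat.cast_add, add_mul, Nat.cast_mul, mul_comm ((2 : ℕ) : ZMod (2 ^ m)), mul_assoc, h2,
        mul_zero, zero_add, Nat.cast_one, one_mul]
  rw [key x hx hx0, key y hy hy0]

variable {n : ℕ} (a : Fin n → ℕ)

/-- An odd order automorphism of `∏ ZMod (2 ^ a i)` with `a` strictly increasing is trivial. -/
theorem addEquiv_eq_id_of_odd (ha : StrictMono a) (ha1 : ∀ i, 1 ≤ a i)
    (σ : ((i : Fin n) → ZMod (2 ^ a i)) ≃+ ((i : Fin n) → ZMod (2 ^ a i))) {N : ℕ} (hN : Odd N)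
    (hσ : ∀ x, σ^[N] x = x) (x : (i : Fin n) → ZMod (2 ^ a i)) : σ x = x := by
  have hchar : ∀ (τ : ((i : Fin n) → ZMod (2 ^ a i)) ≃+ ((i : Fin n) → ZMod (2 ^ a i)))
      (k : ℕ) (v : (i : Fin n) → ZMod (2 ^ a i)), 2 • v = 0 →
      (∀ i : Fin n, (i : ℕ) < k → v i = 0) → ∀ i : Fin n, (i : ℕ) < k → τ v i = 0 := by
    intro τ k v hv hvk i hik
    by_cases hk : k < n
    · set K : Fin n := ⟨k, hk⟩
      have hw : ∃ w, v = 2 ^ (a K - 1) • w := by
        have : ∀ j, ∃ w, v j = 2 ^ (a K - 1) • w := by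
          intro j
          rcases lt_or_ge (j : ℕ) k with hj | hj
          · exact ⟨0, by rw [hvk j hj, nsmul_zero]⟩
          · obtain ⟨c, hc⟩ := exists_eq_mul_of_two_nsmul (ha1 j)
              (show 2 • v j = 0 by rw [← Pi.smul_apply, hv]; rfl)
            have hle : a K ≤ a j := ha.monotone (show K ≤ j from hj)
            refine ⟨(c : ZMod (2 ^ a j)) * ((2 ^ (a j - a K) : ℕ) : ZMod (2 ^ a j)), ?_⟩
            rw [hc, nsmul_eq_mul,
              mul_left_comm (((2 ^ (a K - 1) : ℕ)) : ZMod (2 ^ a j)) (c : ZMod (2 ^ a j))]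
            congr 1
            rw [← Nat.cast_mul, ← pow_add]
            congr 2
            have := ha1 K
            omega
        choose w hw using this
        exact ⟨w, funext hw⟩
      obtain ⟨w, rfl⟩ := hw
      have hai : a i ≤ a K - 1 := by
        have := ha (show i < K from hik)
        omega
      rw [map_nsmul, Pi.smul_apply, nsmul_eq_mul,
        (ZMod.natCast_eq_zero_iff _ _).2 (Nat.pow_dvd_pow 2 hai), zero_mul]
    · have : v = 0 := funext fun j => hvk j (by omega)
      rw [this, map_zero]; rfl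
  have hinv : ∀ (d k : ℕ), n - k = d → ∀ v, 2 • v = 0 →
      (∀ i : Fin n, (i : ℕ) < k → v i = 0) → σ v = v := by
    intro d
    induction d with
    | zero =>
      intro k hk v _ hvk
      have : v = 0 := funext fun j => hvk j (by omega)
      rw [this, map_zero]
    | succ d ih =>
      intro k hk v hv hvk
      set K : Fin n := ⟨k, by omega⟩
      by_cases h0 : v K = 0
      · refine ih (k + 1) (by omega) v hv fun i hi => ?_
        rcases Nat.lt_succ_iff_lt_or_eq.1 hi with h | h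
        · exact hvk i h
        · obtain rfl : i = K := Fin.ext h
          exact h0
      · have h2 : 2 • σ v = 0 := by rw [← map_nsmul, hv, map_zero]
        have h1 : σ v K ≠ 0 := by
          intro hz
          apply h0
          have hlow : ∀ i : Fin n, (i : ℕ) < k + 1 → σ v i = 0 := by
            intro i hi
            rcases Nat.lt_succ_iff_lt_or_eq.1 hi with h | h
            · exact hchar σ k v hv hvk i h
            · obtain rfl : i = K := Fin.ext h
              exact hz
          have := hchar σ.symm (k + 1) (σ v) h2 hlow K (Nat.lt_succ_self k)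
          rwa [AddEquiv.symm_apply_apply] at this
        have heq : σ v K = v K := involution_ne_zero_eq (ha1 K)
          (by rw [← Pi.smul_apply, h2]; rfl) (by rw [← Pi.smul_apply, hv]; rfl) h1 h0
        have ht2 : 2 • (σ v - v) = 0 := by rw [nsmul_sub, h2, hv, sub_zero]
        have htfix : σ (σ v - v) = σ v - v := by
          refine ih (k + 1) (by omega) _ ht2 fun i hi => ?_
          rcases Nat.lt_succ_iff_lt_or_eq.1 hi with h | h
          · rw [Pi.sub_apply, hchar σ k v hv hvk i h, hvk i h, sub_zero]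
          · obtain rfl : i = K := Fin.ext h
            rw [Pi.sub_apply, heq, sub_self]
        exact sub_eq_zero.1 (eq_zero_of_odd σ hN hσ (by abel) htfix ht2)
  have hall : ∀ (m : ℕ) (y : (i : Fin n) → ZMod (2 ^ a i)), 2 ^ m • y = 0 → σ y = y := by
    intro m
    induction m with
    | zero =>
      intro y hy
      rw [pow_zero, one_nsmul] at hy
      rw [hy, map_zero]
    | succ m ih =>
      intro y hy
      have h2 : σ (2 • y) = 2 • y := ih _ (by rw [← mul_nsmul', ← pow_succ]; exact hy)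
      have ht2 : 2 • (σ y - y) = 0 := by rw [nsmul_sub, ← map_nsmul, h2, sub_self]
      exact sub_eq_zero.1 (eq_zero_of_odd σ hN hσ (by abel)
        (hinv n 0 rfl _ ht2 fun i hi => absurd hi (Nat.not_lt_zero _)) ht2)
  refine hall (∑ i, a i) x (funext fun i => ?_)
  rw [Pi.smul_apply, nsmul_eq_mul, (ZMod.natCast_eq_zero_iff _ _).2
    (Nat.pow_dvd_pow 2 (Finset.single_le_sum (f := a) (fun j _ => Nat.zero_le _)
      (Finset.mem_univ i))), zero_mul]
  rfl

end CfsgLib.Fusion
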