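import Cfsg.Agent.Lib.Fusion.NormalCentralizer
import Cfsg.Agent.Lib.Fusion.StronglyClosedAutomizer

/-!
Automorphisms of order prime to `p` of a normal subsystem, on a fully normalised subgroup, extend
to subgroups of the normalizer trivially modulo the support on the centraliser.
-/

set_option autoImplicit false
set_option linter.unusedSectionVars false

namespace CfsgLib.Fusion.MeetExt

open Cfsg Cfsg.FusionSystem
open CfsgLib.Fusion.NormalCentralizer
open scoped Pointwise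

/-! ### A Frattini argument -/

/-- If `Ω` meets the `p`-subgroups over it only in itself, elements normalising `K` can be
corrected by `K` so as to normalise `Ω`. -/
theorem exists_mul_normalizes {G : Type*} [Group G] [Finite G] {p : ℕ} [Fact p.Prime]
    {K W : Subgroup G} (hW : IsPGroup p W) (hn : W ≤ Subgroup.normalizer (K : Set G))
    (hmax : ∀ P : Subgroup G, IsPGroup p P → W ≤ P → P ⊓ K ≤ W) {ε : G}
    (hε : ∀ w ∈ W, ε * w * ε⁻¹ ∈ W ⊔ K) :
    ∃ k ∈ K, ∀ w ∈ W, k * ε * w * (k * ε)⁻¹ ∈ W := by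
  have hcoe : ∀ x ∈ W ⊔ K, ∃ w ∈ W, ∃ k ∈ K, w * k = x := fun x hx => by
    have hx' : x ∈ ((W ⊔ K : Subgroup G) : Set G) := hx
    rw [Subgroup.coe_mul_of_left_le_normalizer_right _ _ hn] at hx'
    exact hx'
  let Wε : Subgroup G := W.map (MulAut.conj ε).toMonoidHom
  have hle : Wε ≤ W ⊔ K := by
    rintro _ ⟨w, hw, rfl⟩
    exact hε w hw
  obtain ⟨D₀, hD₀⟩ := (hW.of_equiv (Subgroup.subgroupOfEquivOfLe (le_sup_left : W ≤ W ⊔ K)).symm
    ).exists_le_sylow
  obtain ⟨D₁, hD₁⟩ := ((hW.map (MulAut.conj ε).toMonoidHom).of_equiv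
    (Subgroup.subgroupOfEquivOfLe hle).symm).exists_le_sylow
  obtain ⟨l, hl⟩ := MulAction.exists_smul_eq ↥(W ⊔ K) D₁ D₀
  have hD₀W : ∀ y : ↥(W ⊔ K), y ∈ D₀ → (y : G) ∈ W := by
    intro y hy
    obtain ⟨w, hw, k, hk, e⟩ := hcoe y y.2
    set P := (D₀ : Subgroup ↥(W ⊔ K)).map (W ⊔ K).subtype with hPdef
    have hWP : W ≤ P := fun v hv =>
      ⟨⟨v, Subgroup.mem_sup_left hv⟩, hD₀ (Subgroup.mem_subgroupOf.2 hv), rfl⟩
    have hyP : (y : G) ∈ P := ⟨y, hy, rfl⟩
    have hkP : k ∈ P := by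
      rw [show k = w⁻¹ * (y : G) by rw [← e]; group]
      exact P.mul_mem (P.inv_mem (hWP hw)) hyP
    rw [← e]
    exact W.mul_mem hw (hmax P (D₀.isPGroup'.map _) hWP ⟨hkP, hk⟩)
  obtain ⟨w, hw, k, hk, e⟩ := hcoe l l.2
  refine ⟨k, hk, fun v hv => ?_⟩
  have hvε : ε * v * ε⁻¹ ∈ W ⊔ K := hε v hv
  have h1 : l * ⟨ε * v * ε⁻¹, hvε⟩ * l⁻¹ ∈ D₀ := by
    rw [← SetLike.mem_coe, ← hl]
    show _ ∈ ((l • D₁ : Sylow p _) : Subgroup ↥(W ⊔ K))
    rw [Sylow.coe_subgroup_smul, Subgroup.mem_pointwise_smul_iff_inv_smul_mem]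
    refine hD₁ (Subgroup.mem_subgroupOf.2 ⟨v, hv, ?_⟩)
    simp [mul_assoc]
  have h2 : (l : G) * (ε * v * ε⁻¹) * (l : G)⁻¹ ∈ W := hD₀W _ h1
  have h3 := W.mul_mem (W.mul_mem (W.inv_mem hw) h2) hw
  rw [← e] at h3
  convert h3 using 1
  group

variable {Ω : Type*} [Group Ω] {S T : Subgroup Ω} {F : FusionSystem S} {p : ℕ}
variable [Fact p.Prime] [Finite S]

/-! ### A subgroup times the centraliser of a receptive subgroup -/

/-- The conjugates of `R C_T(R)` map back. -/
theorem exists_back (hT : F.StronglyClosed T) {R U' : Subgroup Ω} (hRT : R ≤ T)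
    (hr : F.IsReceptive R) {g : Ω → Ω} (hg : IsIso F (R ⊔ centralizerIn T R) U' g) :
    ∃ (R' : Subgroup Ω) (h : Ω → Ω), IsIso F R R' g ∧ IsMap F (R' ⊔ centralizerIn S R') h ∧
      IsIso F R' R h ∧ U' ≤ R' ⊔ centralizerIn S R' ∧ IsIso F U' (R ⊔ centralizerIn T R) h := by
  set U := R ⊔ centralizerIn T R
  obtain ⟨R', hR'⟩ := (hg.isMap.mono (le_sup_left : R ≤ U)).exists_iso
  obtain ⟨r, hr', -, -⟩ := hR'.exists_symm
  obtain ⟨h, hh, hv⟩ := (isReceptive_iff.1 hr).2 R' r hr'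
  have hdom : R' ⊔ centralizerIn S R' ≤ nPhi S R' r :=
    sup_le (le_nPhi hr'.isMap) (centralizerIn_le_nPhi R' r)
  have hR'U : R' ≤ U' := fun y hy => by
    obtain ⟨x, hx, rfl⟩ := hR'.surj hy
    exact hg.mem (Subgroup.mem_sup_left hx)
  have hhR : IsIso F R' R h := hr'.congr fun x hx => (hv x hx).symm
  have hUT : U ≤ T := sup_le hRT inf_le_left
  have hgC : ∀ c ∈ centralizerIn T R, g c ∈ centralizerIn S R' ∧ g c ∈ T := fun c hc =>
    ⟨hg.isMap.mem_centralizerIn le_sup_left hR' (Subgroup.mem_sup_right hc) hc.2,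
      isMap_mem_of_stronglyClosed hT hg.isMap (Subgroup.mem_sup_right hc) hc.1⟩
  have hU'N : U' ≤ R' ⊔ centralizerIn S R' := fun y hy => by
    obtain ⟨x, hx, rfl⟩ := hg.surj hy
    exact mem_of_mem_sup hg.isMap le_sup_left le_sup_right
      (fun z hz => Subgroup.mem_sup_left (hR'.mem hz))
      (fun z hz => Subgroup.mem_sup_right (hgC z hz).1) x hx
  have hm := hh.mono hdom
  have := finite_of_le (S := S) (P := U) (hUT.trans hT.1)
  refine ⟨R', h, hR', hm, hhR, hU'N, (hm.mono hU'N).isIso_of_card_le (fun y hy => ?_) ?_⟩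
  · obtain ⟨x, hx, rfl⟩ := hg.surj hy
    refine mem_of_mem_sup (f := h ∘ g) (F := F) (C := U) ((hg.isMap.comp (hm.mono hU'N)
      fun z hz => hg.mem hz)) le_sup_left le_sup_right (fun z hz => ?_) (fun z hz => ?_) x hx
    · exact Subgroup.mem_sup_left (hhR.mem (hR'.mem hz))
    · refine Subgroup.mem_sup_right ⟨isMap_mem_of_stronglyClosed hT hm
        (Subgroup.mem_sup_right (hgC z hz).1) (hgC z hz).2, ?_⟩
      exact (hm.mem_centralizerIn le_sup_left hhR (Subgroup.mem_sup_right (hgC z hz).1)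
        (hgC z hz).1.2).2
  · exact hg.card_eq.ge

theorem isFullyCentralized_sup (hT : F.StronglyClosed T) {R : Subgroup Ω} (hRT : R ≤ T)
    (hr : F.IsReceptive R) : F.IsFullyCentralized (R ⊔ centralizerIn T R) := by
  refine ⟨sup_le (hRT.trans hT.1) (inf_le_left.trans hT.1), fun U' hU' => ?_⟩
  obtain ⟨g, hg⟩ := isConj_iff.1 hU'
  obtain ⟨R', h, hR', hm, hhR, hU'N, hhU⟩ := exists_back hT hRT hr hg
  have hR'U : R' ≤ U' := fun y hy => by
    obtain ⟨x, hx, rfl⟩ := hR'.surj hy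
    exact hg.mem (Subgroup.mem_sup_left hx)
  have hle : centralizerIn S U' ≤ centralizerIn S R' :=
    inf_le_inf_left _ (Subgroup.centralizer_le (show (R' : Set Ω) ⊆ U' from hR'U))
  have := finite_of_le (S := S) (P := centralizerIn S (R ⊔ centralizerIn T R)) inf_le_left
  refine (hm.mono (hle.trans le_sup_right)).card_le fun c hc => ?_
  exact hm.mem_centralizerIn hU'N hhU (Subgroup.mem_sup_right (hle hc)) hc.2

theorem centralizerIn_le_of_conj (hT : F.StronglyClosed T) {R U' : Subgroup Ω} (hRT : R ≤ T)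
    (hr : F.IsReceptive R) {g : Ω → Ω} (hg : IsIso F (R ⊔ centralizerIn T R) U' g) :
    centralizerIn T U' ≤ U' := by
  obtain ⟨R', h, hR', hm, hhR, hU'N, hhU⟩ := exists_back hT hRT hr hg
  intro c hc
  have hR'U : R' ≤ U' := fun y hy => by
    obtain ⟨x, hx, rfl⟩ := hR'.surj hy
    exact hg.mem (Subgroup.mem_sup_left hx)
  have hcR : c ∈ centralizerIn S R' :=
    ⟨hT.1 hc.1, Subgroup.centralizer_le (show (R' : Set Ω) ⊆ U' from hR'U) hc.2⟩
  have hcd := Subgroup.mem_sup_right (S := R') hcR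
  have hhc : h c ∈ centralizerIn T R := ⟨isMap_mem_of_stronglyClosed hT hm hcd hc.1,
    (hm.mem_centralizerIn le_sup_left hhR hcd hcR.2).2⟩
  obtain ⟨y, hy, hye⟩ := hhU.surj (Subgroup.mem_sup_right hhc)
  exact hm.injOn (hU'N hy) hcd hye ▸ hy

/-- A `p`-group of automorphisms of `R C_S(R)` fixing `R` is inner by `C_S(R)`, if it contains
those. -/
theorem le_autInducedBy_of_fix (hS : IsPGroup p S) (hF : F.IsSaturated p) {R : Subgroup Ω}
    (hr : F.IsReceptive R) {U : Subgroup Ω} (hU : U = R ⊔ centralizerIn S R)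
    {P : Subgroup (MulAut U)} (hP : P ≤ F.autGroup U) (hp : IsPGroup p P)
    (hfix : ∀ a ∈ P, ∀ y ∈ R, autFun a y = y) (hle : autInducedBy (centralizerIn S R) U ≤ P) :
    P ≤ autInducedBy (centralizerIn S R) U := by
  subst hU
  have hUS : (R ⊔ centralizerIn S R) ≤ S := sup_le hr.1 inf_le_left
  have := finite_of_le hUS
  have := finite_mulAut ↥(R ⊔ centralizerIn S R)
  obtain ⟨Q, hQ, hQa, -⟩ := hF (R ⊔ centralizerIn S R) hUS
  obtain ⟨φ₀, hφ₀⟩ := isConj_iff.1 hQ
  obtain ⟨δ, hδ, hδv⟩ := ((isFullyAutomized_iff hS).1 hQa).2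
    (P.map (MulAut.congr hφ₀.equiv).toMonoidHom)
    (by rintro _ ⟨a, ha, rfl⟩; exact hφ₀.congr_mem_autGroup (hP (SetLike.mem_coe.1 ha))) (hp.map _)
  set φ := autFun δ ∘ φ₀
  have hφ : IsIso F (R ⊔ centralizerIn S R) Q φ := hφ₀.comp ((mem_autGroup_iff hQa.1 δ).1 hδ)
  have hsc : F.StronglyClosed S := stronglyClosed_iff.2 ⟨le_rfl, fun _ _ hf _ hx _ => hf.mem hx⟩
  obtain ⟨R', h, hR', hm, hhR, hQN, hhU⟩ := exists_back hsc hr.1 hr hφ
  have hψ : IsIso F (R ⊔ centralizerIn S R) (R ⊔ centralizerIn S R) (h ∘ φ) := hφ.comp hhU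
  obtain ⟨ψ, hψm, hψv⟩ := exists_mem_autGroup hψ
  have hconj : ∀ a ∈ P, ψ * a * ψ⁻¹ ∈ autInducedBy (centralizerIn S R) (R ⊔ centralizerIn S R) := by
    intro a ha
    obtain ⟨s, hs, hsv⟩ := (mem_autInducedBy_iff S Q _).1 (hδv _ ⟨a, ha, rfl⟩)
    have hsx : ∀ x ∈ (R ⊔ centralizerIn S R), φ (autFun a x) = s * φ x * s⁻¹ := fun x hx => by
      have h1 := hsv (δ (hφ₀.equiv ⟨x, hx⟩))
      simp only [MulAut.mul_apply, MulAut.inv_apply_self, MulEquiv.coe_toMonoidHom] at h1
      rw [← autFun_coe δ, ← autFun_coe δ, hφ₀.congr_apply, hφ₀.equiv_apply] at h1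
      rw [autFun_apply a hx]
      exact h1
    have hsR : s ∈ centralizerIn S R' := ⟨hs, mem_centralizer_of_conj_eq fun y hy => by
      obtain ⟨x, hx, rfl⟩ := hR'.surj hy
      rw [← hsx x (Subgroup.mem_sup_left hx), hfix a ha x hx]⟩
    have hsd := Subgroup.mem_sup_right (S := R') hsR
    refine (mem_autInducedBy_iff _ (R ⊔ centralizerIn S R) _).2 ⟨h s, hm.mem_centralizerIn le_sup_left hhR hsd hsR.2,
      fun z => ?_⟩
    obtain ⟨x, rfl⟩ := ψ.surjective z
    rw [MulAut.mul_apply, MulAut.mul_apply, MulAut.inv_apply_self, hψv, hψv]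
    show h (φ (a x : Ω)) = h s * h (φ x) * (h s)⁻¹
    rw [← autFun_coe a x, hsx x x.2, hm.map_conj hsd (hQN (hφ.mem x.2))]
  have hmap : P.map (MulAut.conj ψ).toMonoidHom ≤ autInducedBy (centralizerIn S R) (R ⊔ centralizerIn S R) := by
    rintro _ ⟨a, ha, rfl⟩
    exact hconj a ha
  exact (Subgroup.eq_of_le_of_card_ge hle (by
    rw [← Subgroup.card_map_of_injective (K := P) (f := (MulAut.conj ψ).toMonoidHom)
      (MulAut.conj ψ).injective]
    exact Subgroup.card_le_of_le hmap)).ge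

/-! ### The extension -/

variable {E : FusionSystem T}

/-- Automorphisms in `E` induced by elements of `S` are induced by `T`. -/
theorem mem_autInducedBy_of_mem (hS : IsPGroup p S) (hE : E.IsWeaklyNormalIn F p)
    {R : Subgroup Ω} (hR : E.IsFullyNormalized R) {α : MulAut R} (hα : α ∈ E.autGroup R)
    (hα' : α ∈ autInducedBy S R) : α ∈ autInducedBy T R := by
  have hTS := hE.2.2.2.1.1
  have hTp : IsPGroup p T := hS.to_le hTS
  have := finite_of_le hTS
  have := finite_of_le hR.1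
  have := finite_mulAut R
  have hle : autInducedBy T R ≤ E.autGroup R ⊓ autInducedBy S R :=
    le_inf (autInducedBy_le_autGroup hR.1) (autInducedBy_mono hTS R)
  obtain ⟨δ, hδ, hδv⟩ := ((isFullyAutomized_iff hTp).1
    (isFullyAutomized_of_isFullyNormalized hTp hE.1 hR)).2 (E.autGroup R ⊓ autInducedBy S R)
    inf_le_left ((isPGroup_autInducedBy hS R).to_le inf_le_right)
  have hmap : (E.autGroup R ⊓ autInducedBy S R).map (MulAut.conj δ).toMonoidHom ≤
      autInducedBy T R := by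
    rintro _ ⟨a, ha, rfl⟩
    exact hδv a ha
  exact (Subgroup.eq_of_le_of_card_ge hle (by
    rw [← Subgroup.card_map_of_injective (K := E.autGroup R ⊓ autInducedBy S R)
      (f := (MulAut.conj δ).toMonoidHom) (MulAut.conj δ).injective]
    exact Subgroup.card_le_of_le hmap)).ge ⟨hα, hα'⟩

/-- The automorphisms fixing `R` pointwise. -/
def fixSub (R U : Subgroup Ω) : Subgroup (MulAut U) where
  carrier := {a | ∀ x : U, (x : Ω) ∈ R → a x = x}
  one_mem' := fun x _ => rfl
  mul_mem' := fun {a b} ha hb x hx => by rw [MulAut.mul_apply, hb x hx, ha x hx]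
  inv_mem' := fun {a} ha x hx => by
    conv_lhs => rw [← ha x hx]
    rw [MulAut.inv_apply_self]

theorem conj_fixSub {R U : Subgroup Ω} {g k : MulAut U}
    (hg : ∀ x : U, (x : Ω) ∈ R → (g⁻¹ x : Ω) ∈ R) (hk : k ∈ fixSub R U) :
    g * k * g⁻¹ ∈ fixSub R U := fun x hx => by
  rw [MulAut.mul_apply, MulAut.mul_apply, hk _ (hg x hx), MulAut.apply_inv_self]

/-- The automorphisms of `V` fixing `U` pointwise and trivial modulo it. -/
def modSub (U V : Subgroup Ω) : Subgroup (MulAut V) where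
  carrier := {a | a ∈ fixSub U V ∧ ∀ x : V, (x : Ω)⁻¹ * (a x : Ω) ∈ U}
  one_mem' := ⟨Subgroup.one_mem _, fun x => by simp⟩
  mul_mem' := fun {a b} ha hb => ⟨Subgroup.mul_mem _ ha.1 hb.1, fun x => by
    rw [MulAut.mul_apply, show (x : Ω)⁻¹ * (a (b x) : Ω) =
      ((x : Ω)⁻¹ * (b x : Ω)) * ((b x : Ω)⁻¹ * (a (b x) : Ω)) by group]
    exact U.mul_mem (hb.2 x) (ha.2 (b x))⟩
  inv_mem' := fun {a} ha => ⟨Subgroup.inv_mem _ ha.1, fun x => by
    have h1 := U.inv_mem (ha.2 (a⁻¹ x))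
    rw [MulAut.apply_inv_self] at h1
    simpa using h1⟩

theorem isPGroup_modSub (hS : IsPGroup p S) {U V : Subgroup Ω} (hV : V ≤ S) :
    IsPGroup p (modSub U V) := fun a => by
  have := finite_of_le hV
  obtain ⟨j, hj⟩ := (hS.to_le hV).exists_card_eq
  refine ⟨j, Subtype.ext (MulEquiv.ext fun x => ?_)⟩
  show (((a : MulAut V)) ^ p ^ j) x = x
  refine pow_eq_one_of_fixed_diff (a.2.1 _ ?_) (hj ▸ pow_card_eq_one')
  rw [Subgroup.coe_mul, Subgroup.coe_inv]
  exact a.2.2 x

/-- An automorphism of order prime to `p` of `E` at a fully normalised subgroup extends over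
`W ≤ N_S(R)` trivially modulo `T` on `C_S(R)`. -/
theorem exists_ext_trivial' (hS : IsPGroup p S) (hF : F.IsSaturated p) (hE : E.IsNormalIn F p)
    {R : Subgroup Ω} (hRT : R ≤ T) (hR : F.IsFullyNormalized R) {x : MulAut R}
    (hx : x ∈ E.autGroup R) (hxo : (orderOf x).Coprime p) {W : Subgroup Ω}
    (hW : W ≤ normalizerIn S R) (hRW : R ≤ W) (hCW : centralizerIn S R ≤ W)
    (hxW : ∀ w ∈ W, ∃ w' ∈ W, ∀ y ∈ R, autFun x (w * y * w⁻¹) = w' * autFun x y * w'⁻¹) :
    ∃ δ, IsIso F W W δ ∧ (∀ y ∈ R, δ y = autFun x y) ∧ IsMap E (R ⊔ centralizerIn T R) δ ∧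
      ∀ c ∈ centralizerIn S R, c⁻¹ * δ c ∈ T := by
  have hI := hE.1.2.2
  have hTS := hI.2.1.1
  have hTp : IsPGroup p T := hS.to_le hTS
  have hT := hI.2.1
  have := finite_of_le hTS
  have hRS := hR.1
  have := finite_of_le hRS
  have hWS : W ≤ S := hW.trans inf_le_left
  have hrF := isReceptive_of_isFullyNormalized hS hF hR
  have hRE := isFullyNormalized_of_super hS hF hI hR hRT
  have hrE := isReceptive_of_isFullyNormalized hTp hE.1.1 hRE
  set U := R ⊔ centralizerIn T R with hUdef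
  have hUT : U ≤ T := sup_le hRT inf_le_left
  have hUS := hUT.trans hTS
  have := finite_of_le hUS
  have := finite_mulAut U
  have hscE : E.StronglyClosed T := stronglyClosed_iff.2 ⟨le_rfl, fun _ _ hf _ hy _ => hf.mem hy⟩
  have hUc : E.IsCentric U := ⟨hUT, fun Q hQ => by
    obtain ⟨g, hg⟩ := isConj_iff.1 hQ
    exact centralizerIn_le_of_conj hscE hRT hrE hg⟩
  have hUfc : F.IsFullyCentralized U := isFullyCentralized_sup hT hRT hrF
  have hTn : ∀ s ∈ S, ∀ t ∈ T, s * t * s⁻¹ ∈ T := fun s hs t ht => normalizer_T hI hs ht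
  have hWU : ∀ w ∈ W, w ∈ Subgroup.normalizer (U : Set Ω) := fun w hw =>
    mem_normalizer_of_conj_mem hUS fun z hz =>
      mem_of_mem_sup (F := F) (f := fun z => w * z * w⁻¹) (C := U)
        (isMap_conj hUS (hWS hw)) le_sup_left le_sup_right
        (fun y hy => Subgroup.mem_sup_left (conj_mem_of_mem_normalizer (hW hw).2 hy))
        (fun c hc => Subgroup.mem_sup_right ⟨hTn w (hWS hw) c hc.1,
          mem_centralizer_of_conj_eq fun y hy => by
            have h1 := conj_eq_self_of_mem_centralizer hc.2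
              (conj_mem_of_mem_normalizer (Subgroup.inv_mem _ (hW hw).2) hy)
            calc w * c * w⁻¹ * y * (w * c * w⁻¹)⁻¹ = w * (c * (w⁻¹ * y * w⁻¹⁻¹) * c⁻¹) * w⁻¹ := by
                  group
              _ = y := by rw [h1]; group⟩) z hz
  -- the correction `w' = w t` with `t ∈ T`
  have hsplit : ∀ w ∈ W, ∃ t ∈ T, t ∈ W ∧
      ∀ y ∈ R, autFun x (w * y * w⁻¹) = w * t * autFun x y * (w * t)⁻¹ := by
    intro w hw
    obtain ⟨w', hw', hv⟩ := hxW w hw
    have hn := (hW hw).2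
    have hn' : w⁻¹ * w' ∈ Subgroup.normalizer (R : Set Ω) :=
      Subgroup.mul_mem _ (Subgroup.inv_mem _ hn) (hW hw').2
    have e : conjAut R hn' = (conjAut R hn)⁻¹ * x * conjAut R hn * x⁻¹ := by
      refine MulEquiv.ext fun z => Subtype.ext ?_
      obtain ⟨y, rfl⟩ := x.surjective z
      apply mul_left_cancel (a := w)
      rw [MulAut.mul_apply, MulAut.inv_apply_self, MulAut.mul_apply, MulAut.mul_apply,
        conjAut_apply]
      have h2 : w * ((conjAut R hn)⁻¹ (x (conjAut R hn y)) : Ω) * w⁻¹ = x (conjAut R hn y) := by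
        rw [← conjAut_apply R hn, MulAut.apply_inv_self]
      have h3 : (x (conjAut R hn y) : Ω) = w' * (x y : Ω) * w'⁻¹ := by
        rw [← autFun_coe x (conjAut R hn y), conjAut_apply, hv y y.2, autFun_coe]
      calc w * (w⁻¹ * w' * (x y : Ω) * (w⁻¹ * w')⁻¹) = w' * (x y : Ω) * w'⁻¹ * w := by group
        _ = w * ((conjAut R hn)⁻¹ (x (conjAut R hn y)) : Ω) := by rw [← h3, ← h2]; group
    have hmemE : conjAut R hn' ∈ E.autGroup R := by
      rw [e]
      have hnF : conjAut R hn ∈ F.autGroup R :=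
        autInducedBy_le_autGroup hRS (conjAut_mem_autInducedBy hn (hWS hw))
      refine Subgroup.mul_mem _ ?_ (Subgroup.inv_mem _ hx)
      exact Residual.mem_autGroup_transport hI hRT ((mem_autGroup_iff hRS _).1
        ((F.autGroup R).inv_mem hnF)) hx fun z hz => by
          rw [autFun_apply ((conjAut R hn)⁻¹) (autFun_mem x hz)]
          rw [autFun_apply _ (autFun_mem _ hz)]
          simp [autFun_apply _ hz]
    obtain ⟨t, ht, htv⟩ := (mem_autInducedBy_iff T R _).1 (mem_autInducedBy_of_mem hS hE.1 hRE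
      hmemE (conjAut_mem_autInducedBy hn' (S.mul_mem (S.inv_mem (hWS hw)) (hWS hw'))))
    have hrel : ∀ z ∈ R, t * z * t⁻¹ = w⁻¹ * w' * z * (w⁻¹ * w')⁻¹ := fun z hz => by
      rw [← htv ⟨z, hz⟩, conjAut_apply]
    have hcW : (w⁻¹ * w')⁻¹ * t ∈ W :=
      hCW ⟨S.mul_mem (S.inv_mem (S.mul_mem (S.inv_mem (hWS hw)) (hWS hw'))) (hTS ht),
        mul_inv_mem_centralizer hrel⟩
    refine ⟨t, ht, ?_, fun y hy => ?_⟩
    · rw [show t = w⁻¹ * w' * ((w⁻¹ * w')⁻¹ * t) by group]
      exact W.mul_mem (W.mul_mem (W.inv_mem hw) hw') hcW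
    · rw [hv y hy, show w * t * autFun x y * (w * t)⁻¹ = w * (t * autFun x y * t⁻¹) * w⁻¹ by group,
        hrel _ (autFun_mem x hy)]
      group
  -- an extension to `U`
  obtain ⟨g, hg, hgv⟩ := (isReceptive_iff.1 hrE).2 R _ ((mem_autGroup_iff hRT x).1 hx)
  have hUN : U ≤ nPhi T R (autFun x) :=
    sup_le (le_nPhi ((mem_autGroup_iff hRT x).1 hx).isMap) (centralizerIn_le_nPhi R _)
  have hgU : ∀ y ∈ U, g y ∈ U := mem_of_mem_sup (hg.mono hUN) le_sup_left le_sup_right
    (fun y hy => Subgroup.mem_sup_left (by rw [hgv y hy]; exact autFun_mem x hy))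
    (fun c hc => Subgroup.mem_sup_right ((hg.mono hUN).mem_centralizerIn le_sup_left
      (((mem_autGroup_iff hRT x).1 hx).congr fun y hy => (hgv y hy).symm)
      (Subgroup.mem_sup_right hc) hc.2))
  obtain ⟨ε, hε, hεv⟩ := exists_mem_autGroup ((hg.mono hUN).isIso_of_card_le hgU le_rfl)
  have hεR : ∀ y ∈ R, autFun ε y = autFun x y := fun y hy => by
    rw [autFun_apply ε (Subgroup.mem_sup_left hy), hεv, hgv y hy]
  set K : Subgroup (MulAut U) := E.autGroup U ⊓ fixSub R U
  set A : Subgroup (MulAut U) := autInducedBy W U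
  have hAF : A ≤ F.autGroup U :=
    (autInducedBy_mono hWS U).trans (autInducedBy_le_autGroup hUS)
  have hcongE : ∀ b ∈ F.autGroup U, ∀ a ∈ E.autGroup U, b * a * b⁻¹ ∈ E.autGroup U :=
    fun b hb a ha => Residual.mem_autGroup_transport hI hUT ((mem_autGroup_iff hUS b).1 hb) ha
      fun z hz => by
        rw [autFun_apply _ (autFun_mem b hz), autFun_apply b (autFun_mem a hz)]
        simp [autFun_apply _ hz]
  have hWR : ∀ (w : Ω) (hw : w ∈ W) (z : U), (z : Ω) ∈ R →
      (((conjAut U (hWU w hw))⁻¹ z : U) : Ω) ∈ R := fun w hw z hz => by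
    have h1 : w * (((conjAut U (hWU w hw))⁻¹ z : U) : Ω) * w⁻¹ = z := by
      rw [← conjAut_apply U (hWU w hw), MulAut.apply_inv_self]
    have h2 := conj_mem_of_mem_normalizer (Subgroup.inv_mem _ (hW hw).2) hz
    rw [← h1] at h2
    simpa [mul_assoc] using h2
  have hKnorm : ∀ a ∈ A, ∀ k ∈ K, a * k * a⁻¹ ∈ K := by
    intro a ha k hk
    refine ⟨hcongE a (hAF ha) k hk.1, ?_⟩
    obtain ⟨w, hw, hv⟩ := (mem_autInducedBy_iff W U a).1 ha
    have e : a = conjAut U (hWU w hw) :=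
      MulEquiv.ext fun z => Subtype.ext (by rw [conjAut_apply]; exact hv z)
    exact conj_fixSub (fun z hz => e ▸ hWR w hw z hz) hk.2
  have hnK : A ≤ Subgroup.normalizer (K : Set (MulAut U)) := fun a ha =>
    Subgroup.mem_normalizer_iff.2 fun k => ⟨hKnorm a ha k, fun hk => by
      have h1 := hKnorm _ (A.inv_mem ha) _ hk
      rwa [show a⁻¹ * (a * k * a⁻¹) * a⁻¹⁻¹ = k by group] at h1⟩
  have hCTA : autInducedBy (centralizerIn T R) U ≤ A :=
    autInducedBy_mono ((inf_le_inf_right _ hTS).trans hCW) U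
  have hmax : ∀ P : Subgroup (MulAut U), IsPGroup p P → A ≤ P → P ⊓ K ≤ A := by
    intro P hP hAP
    refine (le_autInducedBy_of_fix hTp hE.1.1 hrE rfl (P := P ⊓ K) (fun a ha => ha.2.1)
      (hP.to_le inf_le_left) (fun a ha y hy => ?_) (le_inf (hCTA.trans hAP) (le_inf
        ((autInducedBy_mono inf_le_left U).trans (autInducedBy_le_autGroup hUT))
        fun a ha z hz => ?_))).trans hCTA
    · rw [autFun_apply a (Subgroup.mem_sup_left hy)]
      exact congrArg Subtype.val (ha.2.2 ⟨y, _⟩ hy)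
    · obtain ⟨c, hc, hcv⟩ := (mem_autInducedBy_iff _ U a).1 ha
      exact Subtype.ext (by rw [hcv, conj_eq_self_of_mem_centralizer hc.2 hz])
  have hεW : ∀ a ∈ A, ε * a * ε⁻¹ ∈ A ⊔ K := by
    intro a ha
    obtain ⟨w, hw, hwv⟩ := (mem_autInducedBy_iff W U a).1 ha
    obtain ⟨t, ht, htW, htv⟩ := hsplit w hw
    have hwt : w * t ∈ W := W.mul_mem hw htW
    set b := conjAut U (hWU _ hwt)
    have hb : b ∈ A := conjAut_mem_autInducedBy _ hwt
    have hk : b⁻¹ * (ε * a * ε⁻¹) ∈ K := by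
      refine ⟨?_, fun z hz => ?_⟩
      · have hsp : b = conjAut U (hWU w hw) * conjAut U (hWU t htW) :=
          MulEquiv.ext fun z => Subtype.ext (by
            rw [MulAut.mul_apply, conjAut_apply, conjAut_apply, conjAut_apply]; group)
        have ea : a = conjAut U (hWU w hw) :=
          MulEquiv.ext fun z => Subtype.ext (by rw [conjAut_apply]; exact hwv z)
        rw [show b⁻¹ * (ε * a * ε⁻¹) = (conjAut U (hWU t htW))⁻¹ * ((a⁻¹ * ε * a⁻¹⁻¹) * ε⁻¹) by
          rw [hsp, ← ea]; group]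
        exact Subgroup.mul_mem _ (Subgroup.inv_mem _ (autInducedBy_le_autGroup hUT
          (conjAut_mem_autInducedBy _ ht))) (Subgroup.mul_mem _
          (hcongE _ ((F.autGroup U).inv_mem (hAF ha)) _ hε) (Subgroup.inv_mem _ hε))
      · apply b.injective
        rw [MulAut.mul_apply, MulAut.apply_inv_self]
        refine Subtype.ext ?_
        rw [conjAut_apply]
        set u := (x⁻¹ : MulAut R) ⟨z, hz⟩
        have hεu : ε ⟨u, Subgroup.mem_sup_left u.2⟩ = z := Subtype.ext (by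
          rw [← autFun_coe ε]
          show autFun ε (u : Ω) = z
          rw [hεR _ u.2, autFun_coe, MulAut.apply_inv_self])
        rw [MulAut.mul_apply, MulAut.mul_apply, ← hεu, MulAut.inv_apply_self, ← autFun_coe ε,
          hwv, hεu]
        show autFun ε (w * (u : Ω) * w⁻¹) = _
        rw [hεR _ (conj_mem_of_mem_normalizer (hW hw).2 u.2), htv _ u.2, autFun_coe,
          MulAut.apply_inv_self]
    rw [show ε * a * ε⁻¹ = b * (b⁻¹ * (ε * a * ε⁻¹)) by group]
    exact Subgroup.mul_mem_sup hb hk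
  obtain ⟨k, hk, hknorm⟩ :=
    exists_mul_normalizes (isPGroup_autInducedBy (hS.to_le hWS) U) hnK hmax hεW
  obtain ⟨m, hm1, hmo⟩ := Residual.exists_pPrime_pow (p := p) (k * ε) hxo
  set η := (k * ε) ^ m with hηdef
  have hηE : η ∈ E.autGroup U := Subgroup.pow_mem _ (Subgroup.mul_mem _ hk.1 hε) m
  have hηR : ∀ y ∈ R, autFun η y = autFun x y := fun y hy => by
    rw [hηdef, autFun_pow_eq le_sup_left (fun z hz => ?_) m y hy,
      Residual.pow_eq_self_of_modEq hm1]
    rw [autFun_mul _ _ (Subgroup.mem_sup_left hz), hεR z hz,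
      autFun_apply k (Subgroup.mem_sup_left (autFun_mem x hz))]
    exact congrArg Subtype.val (hk.2 ⟨autFun x z, _⟩ (autFun_mem x hz))
  have hηn : ∀ a ∈ A, η * a * η⁻¹ ∈ A := by
    have : ∀ n : ℕ, ∀ a ∈ A, (k * ε) ^ n * a * ((k * ε) ^ n)⁻¹ ∈ A := by
      intro n
      induction n with
      | zero => intro a ha; simpa using ha
      | succ n ih =>
        intro a ha
        have h1 := hknorm _ (ih a ha)
        rw [pow_succ']
        simpa only [mul_inv_rev, mul_assoc] using h1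
    exact this m
  -- the extension to `U C_S(U)`
  set V := U ⊔ centralizerIn S U with hVdef
  obtain ⟨δ₁, hδ₁, hδ₁v⟩ := exists_isExt hS hF hE hUc hηE hmo
  have hVS : V ≤ S := sup_centralizerIn_le hUS
  have := finite_of_le hVS
  have := finite_mulAut V
  have hrU := isReceptive_of_isFullyCentralized hS hF hUfc
  have hscS : F.StronglyClosed S := stronglyClosed_iff.2 ⟨le_rfl, fun _ _ hf _ hy _ => hf.mem hy⟩
  have hWV : ∀ w ∈ W, w ∈ Subgroup.normalizer (V : Set Ω) := fun w hw => by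
    refine mem_normalizer_of_conj_mem hVS fun z hz => ?_
    exact mem_of_mem_sup (F := F) (f := fun z => w * z * w⁻¹) (C := V)
      (isMap_conj hVS (hWS hw)) le_sup_left le_sup_right
      (fun y hy => Subgroup.mem_sup_left (conj_mem_of_mem_normalizer (hWU w hw) hy))
      (fun c hc => Subgroup.mem_sup_right (mem_centralizerIn_conj ⟨hWS hw, hWU w hw⟩ hc)) z hz
  have hRU : (R : Set Ω) ⊆ U := (le_sup_left : R ≤ U)
  have hCUW : centralizerIn S U ≤ W :=
    (inf_le_inf_left _ (Subgroup.centralizer_le hRU)).trans hCW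
  have hVW : autInducedBy (centralizerIn S U) V ≤ autInducedBy W V := autInducedBy_mono hCUW V
  have hmodF : modSub U V ⊓ F.autGroup V ≤ autInducedBy (centralizerIn S U) V := by
    set C := autInducedBy (centralizerIn S U) V
    set M := modSub U V ⊓ F.autGroup V
    have hCF : C ≤ F.autGroup V :=
      (autInducedBy_mono inf_le_left V).trans (autInducedBy_le_autGroup hVS)
    have hfixC : C ≤ fixSub U V := fun a ha z hz => by
      obtain ⟨c, hc, hv⟩ := (mem_autInducedBy_iff _ V a).1 ha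
      exact Subtype.ext (by rw [hv, conj_eq_self_of_mem_centralizer hc.2 hz])
    have hCM : C ≤ Subgroup.normalizer (M : Set (MulAut V)) := by
      have key : ∀ a ∈ C, ∀ k ∈ M, a * k * a⁻¹ ∈ M := fun a ha k hk =>
        ⟨⟨conj_fixSub (fun z hz => by rwa [C.inv_mem ha |> hfixC |> (· z hz)]) hk.1.1, fun z => by
            obtain ⟨y, rfl⟩ := a.surjective z
            rw [MulAut.mul_apply, MulAut.mul_apply, MulAut.inv_apply_self]
            obtain ⟨c, hc, hv⟩ := (mem_autInducedBy_iff _ V a).1 ha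
            rw [hv, hv, show (c * (y : Ω) * c⁻¹)⁻¹ * (c * (k y : Ω) * c⁻¹) =
              c * ((y : Ω)⁻¹ * (k y : Ω)) * c⁻¹ by group,
              conj_eq_self_of_mem_centralizer hc.2 (hk.1.2 y)]
            exact hk.1.2 y⟩,
          Subgroup.mul_mem _ (Subgroup.mul_mem _ (hCF ha) hk.2) (Subgroup.inv_mem _ (hCF ha))⟩
      exact fun a ha => Subgroup.mem_normalizer_iff.2 fun k => ⟨key a ha k, fun hk => by
        have h1 := key _ (C.inv_mem ha) _ hk
        rwa [show a⁻¹ * (a * k * a⁻¹) * a⁻¹⁻¹ = k by group] at h1⟩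
    have hCp : IsPGroup p C := isPGroup_autInducedBy (hS.to_le inf_le_left) V
    have hMp : IsPGroup p M := (isPGroup_modSub hS hVS).to_le inf_le_left
    have hsp : IsPGroup p (C ⊔ M : Subgroup (MulAut V)) :=
      IsPGroup.to_sup_of_normal_right' hCp hMp hCM
    exact le_sup_right.trans (le_autInducedBy_of_fix hS hF hrU rfl (sup_le hCF inf_le_right) hsp
      (fun a ha y hy => by
        rw [autFun_apply a (Subgroup.mem_sup_left hy)]
        exact congrArg Subtype.val
          ((sup_le hfixC (inf_le_left.trans fun b hb => hb.1) : C ⊔ M ≤ fixSub U V) ha ⟨y, _⟩ hy))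
      le_sup_left)
  have hδU : ∀ y ∈ U, autFun δ₁ y = autFun η y := hδ₁v
  have hnV : ∀ w ∈ W, ∃ w' ∈ W, ∀ z ∈ V, autFun δ₁ (w * z * w⁻¹) = w' * autFun δ₁ z * w'⁻¹ := by
    intro w hw
    obtain ⟨w₁, hw₁, hw₁v⟩ := (mem_autInducedBy_iff W U _).1
      (hηn _ (conjAut_mem_autInducedBy (hWU w hw) hw))
    have hη1 : ∀ y ∈ U, autFun η (w * y * w⁻¹) = w₁ * autFun η y * w₁⁻¹ := fun y hy => by
      have h1 := hw₁v (η ⟨y, hy⟩)
      rw [MulAut.mul_apply, MulAut.mul_apply, MulAut.inv_apply_self] at h1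
      rw [autFun_apply η hy, ← h1, ← autFun_coe η, conjAut_apply]
    have htd : ∃ t ∈ T, t ∈ W ∧
        ∀ y ∈ U, autFun η (w * y * w⁻¹) = w * t * autFun η y * (w * t)⁻¹ := by
      obtain ⟨t, ht, htW, htv⟩ := hsplit w hw
      set d := (w * t)⁻¹ * w₁ with hd
      have hdW : d ∈ W := W.mul_mem (W.inv_mem (W.mul_mem hw htW)) hw₁
      have hdR : ∀ y ∈ R, d * y * d⁻¹ = y := by
        intro y hy
        set u := (x⁻¹ : MulAut R) ⟨y, hy⟩
        have hu : autFun x (u : Ω) = y := by rw [autFun_coe, MulAut.apply_inv_self]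
        have h1 := hη1 u (Subgroup.mem_sup_left u.2)
        rw [hηR _ (conj_mem_of_mem_normalizer (hW hw).2 u.2), hηR _ u.2, htv _ u.2, hu] at h1
        rw [show d * y * d⁻¹ = (w * t)⁻¹ * (w₁ * y * w₁⁻¹) * (w * t) by rw [hd]; group, ← h1]
        group
      have hdK : conjAut U (hWU d hdW) ∈ autInducedBy (centralizerIn T R) U := by
        have hdA : conjAut U (hWU d hdW) ∈ A := conjAut_mem_autInducedBy _ hdW
        have hAp : IsPGroup p A := isPGroup_autInducedBy (hS.to_le hWS) U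
        refine le_autInducedBy_of_fix hTp hE.1.1 hrE rfl (P := A ⊓ K) (fun a ha => ha.2.1)
          (hAp.to_le inf_le_left) (fun a ha y hy => ?_)
          (le_inf hCTA (le_inf ((autInducedBy_mono inf_le_left U).trans
            (autInducedBy_le_autGroup hUT)) fun a ha z hz => ?_))
          (show conjAut U (hWU d hdW) ∈ A ⊓ K from ⟨hdA, ?_, fun z hz => Subtype.ext ?_⟩)
        · rw [autFun_apply a (Subgroup.mem_sup_left hy)]
          exact congrArg Subtype.val (ha.2.2 ⟨y, _⟩ hy)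
        · obtain ⟨c, hc, hcv⟩ := (mem_autInducedBy_iff _ U a).1 ha
          exact Subtype.ext (by rw [hcv, conj_eq_self_of_mem_centralizer hc.2 hz])
        · set a := conjAut U (hWU w hw)
          have haF : a ∈ F.autGroup U := hAF (conjAut_mem_autInducedBy _ hw)
          have e : conjAut U (hWU d hdW) =
              (conjAut U (hWU t htW))⁻¹ * ((a⁻¹ * η * a⁻¹⁻¹) * η⁻¹) := by
            refine MulEquiv.ext fun z => Subtype.ext ?_
            obtain ⟨y, rfl⟩ := η.surjective z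
            have hL : w₁ * (η y : Ω) * w₁⁻¹ = (η (a y) : Ω) := by
              rw [← autFun_coe η y, ← autFun_coe η (a y), conjAut_apply, hη1 y y.2]
            have hinv : ∀ (v : Ω) (hv : v ∈ W) (q : U),
                (((conjAut U (hWU v hv))⁻¹ q : U) : Ω) = v⁻¹ * (q : Ω) * v := fun v hv q => by
              have h1 := conjAut_apply U (hWU v hv) ((conjAut U (hWU v hv))⁻¹ q)
              rw [MulAut.apply_inv_self] at h1
              rw [h1]
              group
            rw [MulAut.mul_apply, MulAut.mul_apply, MulAut.mul_apply, MulAut.mul_apply,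
              MulAut.inv_apply_self, inv_inv, hinv t htW, (hinv w hw : ∀ q, ((a⁻¹ q : U) : Ω) = _),
              conjAut_apply, ← hL, hd]
            group
          rw [e]
          exact Subgroup.mul_mem _ (Subgroup.inv_mem _ (autInducedBy_le_autGroup hUT
            (conjAut_mem_autInducedBy _ ht))) (Subgroup.mul_mem _
            (hcongE _ ((F.autGroup U).inv_mem haF) _ hηE) (Subgroup.inv_mem _ hηE))
        · rw [conjAut_apply]
          exact hdR _ hz
      obtain ⟨c, hc, hcv⟩ := (mem_autInducedBy_iff _ U _).1 hdK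
      refine ⟨t * c, T.mul_mem ht hc.1,
        W.mul_mem htW (hCW ⟨hTS hc.1, hc.2⟩), fun y hy => ?_⟩
      have h2 := hcv ⟨_, autFun_mem η hy⟩
      rw [conjAut_apply] at h2
      change d * autFun η y * d⁻¹ = c * autFun η y * c⁻¹ at h2
      rw [hη1 y hy, show w₁ = w * t * d by rw [hd]; group,
        show w * t * d * autFun η y * (w * t * d)⁻¹ =
          w * t * (d * autFun η y * d⁻¹) * (w * t)⁻¹ by group, h2]
      group
    obtain ⟨t, ht, htW, htv⟩ := htd
    set b := conjAut V (hWV _ (W.mul_mem hw htW))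
    set a := conjAut V (hWV w hw)
    have hk : b⁻¹ * (δ₁ * a * δ₁⁻¹) ∈ autInducedBy (centralizerIn S U) V := by
      refine hmodF ⟨⟨fun z hz => ?_, fun z => ?_⟩, ?_⟩
      · apply b.injective
        rw [MulAut.mul_apply, MulAut.apply_inv_self]
        refine Subtype.ext ?_
        set u := (η⁻¹ : MulAut U) ⟨z, hz⟩
        have hu : autFun η (u : Ω) = z := by rw [autFun_coe, MulAut.apply_inv_self]
        have hδu : δ₁ ⟨u, Subgroup.mem_sup_left u.2⟩ = z := Subtype.ext (by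
          rw [← autFun_coe δ₁]
          exact (hδU _ u.2).trans hu)
        rw [conjAut_apply, MulAut.mul_apply, MulAut.mul_apply, ← hδu, MulAut.inv_apply_self,
          ← autFun_coe δ₁, conjAut_apply]
        show autFun δ₁ (w * (u : Ω) * w⁻¹) = _
        rw [hδU _ (conj_mem_of_mem_normalizer (hWU w hw) u.2), htv _ u.2, hu, hδu]
      · -- trivial modulo `U`
        obtain ⟨y, rfl⟩ := δ₁.surjective z
        rw [MulAut.mul_apply, MulAut.mul_apply, MulAut.mul_apply, MulAut.inv_apply_self]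
        obtain ⟨u, hu, c, hc, hyc⟩ :=
          Residual.exists_mul_of_mem_sup (centralizerIn_le_centralizer S U) y.2
        set n := Subgroup.normalizer (U : Set Ω)
        have hwc : w * c * w⁻¹ ∈ centralizerIn S U := mem_centralizerIn_conj ⟨hWS hw, hWU w hw⟩ hc
        have hwtn : w * t ∈ n := hWU _ (W.mul_mem hw htW)
        have hδm := hδ₁.isMap hUS
        obtain ⟨q₁, hq₁, e₁⟩ : ∃ q ∈ U, autFun δ₁ c = c * q :=
          ⟨c⁻¹ * autFun δ₁ c, hδ₁.mod c hc, by group⟩
        obtain ⟨q₂, hq₂, e₂⟩ : ∃ q ∈ U, autFun δ₁ (w * c * w⁻¹) = w * c * w⁻¹ * q :=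
          ⟨_, hδ₁.mod _ hwc, (mul_inv_cancel_left _ _).symm⟩
        obtain ⟨q₃, hq₃, e₃⟩ : ∃ q ∈ U, t⁻¹ * c * t = c * q := by
          refine ⟨c⁻¹ * t⁻¹ * c * t, hUc.2 U (isConj_refl hUT) ?_, by group⟩
          have h1 := mem_centralizerIn_conj
            ⟨S.inv_mem (hTS ht), Subgroup.inv_mem _ (hWU t htW)⟩ hc
          rw [inv_inv] at h1
          refine ⟨?_, ?_⟩
          · have h2 := hTn c⁻¹ (S.inv_mem hc.1) _ (T.inv_mem ht)
            simpa [mul_assoc] using T.mul_mem h2 ht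
          · have h2 := Subgroup.mul_mem _ (Subgroup.inv_mem _ hc.2) h1.2
            simpa [mul_assoc] using h2
        have hconjc : ∀ v ∈ U, c⁻¹ * v * c = v := fun v hv => by
          have h1 := conj_eq_self_of_mem_centralizer ((Subgroup.centralizer _).inv_mem hc.2) hv
          rwa [inv_inv] at h1
        have hconjn : ∀ {g v : Ω}, g ∈ n → v ∈ U → g * v * g⁻¹ ∈ U := fun hg hv =>
          conj_mem_of_mem_normalizer hg hv
        have hinv : (((b⁻¹ (δ₁ (a y)) : V)) : Ω) = (w * t)⁻¹ * (δ₁ (a y) : Ω) * (w * t) := by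
          have h1 := conjAut_apply V (hWV _ (W.mul_mem hw htW)) (b⁻¹ (δ₁ (a y)))
          rw [MulAut.apply_inv_self] at h1
          rw [h1]
          group
        have hδy : (δ₁ y : Ω) = autFun η u * (c * q₁) := by
          rw [← autFun_coe δ₁ y, hyc, hδm.map_mul (Subgroup.mem_sup_left hu)
            (Subgroup.mem_sup_right hc), hδU u hu, e₁]
        have hδay : (δ₁ (a y) : Ω) = autFun η (w * u * w⁻¹) * (w * c * w⁻¹ * q₂) := by
          rw [← autFun_coe δ₁ (a y), conjAut_apply, hyc,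
            show w * (u * c) * w⁻¹ = w * u * w⁻¹ * (w * c * w⁻¹) by group,
            hδm.map_mul (Subgroup.mem_sup_left (conj_mem_of_mem_normalizer (hWU w hw) hu))
              (Subgroup.mem_sup_right hwc), hδU _ (conj_mem_of_mem_normalizer (hWU w hw) hu), e₂]
        rw [hinv, hδay, htv u hu, hδy]
        set s := autFun η u
        set v := (w * t)⁻¹ * q₂ * (w * t)
        have hv : v ∈ U := by
          have := hconjn (Subgroup.inv_mem _ hwtn) hq₂
          rwa [inv_inv] at this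
        have e4 : (w * t)⁻¹ * (w * t * s * (w * t)⁻¹ * (w * c * w⁻¹ * q₂)) * (w * t) =
            s * (t⁻¹ * c * t) * v := by
          simp only [v]
          group
        rw [e4, e₃, show (s * (c * q₁))⁻¹ * (s * (c * q₃) * v) =
          q₁⁻¹ * (q₃ * v) by group]
        exact U.mul_mem (U.inv_mem hq₁) (U.mul_mem hq₃ hv)
      · exact Subgroup.mul_mem _ (Subgroup.inv_mem _ (autInducedBy_le_autGroup hVS
          (conjAut_mem_autInducedBy _ (hWS (W.mul_mem hw htW))))) (Subgroup.mul_mem _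
          (Subgroup.mul_mem _ hδ₁.mem (autInducedBy_le_autGroup hVS
            (conjAut_mem_autInducedBy _ (hWS hw)))) (Subgroup.inv_mem _ hδ₁.mem))
    obtain ⟨c, hc, hcv⟩ := (mem_autInducedBy_iff _ V _).1 hk
    refine ⟨w * t * c, W.mul_mem (W.mul_mem hw htW) (hCUW hc), fun z hz => ?_⟩
    have h1 := hcv (δ₁ ⟨z, hz⟩)
    rw [MulAut.mul_apply, MulAut.mul_apply, MulAut.mul_apply, MulAut.inv_apply_self] at h1
    have h2 := conjAut_apply V (hWV _ (W.mul_mem hw htW)) (b⁻¹ (δ₁ (a ⟨z, hz⟩)))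
    rw [MulAut.apply_inv_self, h1, ← autFun_coe δ₁, conjAut_apply] at h2
    rw [autFun_apply δ₁ hz]
    refine h2.trans ?_
    group
  -- extend over `W`
  have hVfc : F.IsFullyCentralized V := isFullyCentralized_sup hscS hUS hrU
  have hδiso := (mem_autGroup_iff hVS δ₁).1 hδ₁.mem
  obtain ⟨δ₂, hδ₂, hδ₂v⟩ :=
    (isReceptive_iff.1 (isReceptive_of_isFullyCentralized hS hF hVfc)).2 V _ hδiso
  have hWle : W ≤ nPhi S V (autFun δ₁) := fun w hw => by
    obtain ⟨w', hw', hv⟩ := hnV w hw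
    exact ⟨hWS hw, hWV w hw, w', hWS hw', hv⟩
  have hm₂ := hδ₂.mono hWle
  have hδ₂R : ∀ y ∈ R, δ₂ y = autFun x y := fun y hy => by
    rw [hδ₂v y (Subgroup.mem_sup_left (hRU hy)), hδU y (hRU hy), hηR y hy]
  have hWW : ∀ w ∈ W, δ₂ w ∈ W := fun w hw => by
    obtain ⟨w', hw', hv⟩ := hxW w hw
    have h1 : ∀ y ∈ R, δ₂ w * y * (δ₂ w)⁻¹ = w' * y * w'⁻¹ := fun y hy => by
      set u := (x⁻¹ : MulAut R) ⟨y, hy⟩
      have hu : autFun x (u : Ω) = y := by rw [autFun_coe, MulAut.apply_inv_self]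
      rw [← hu, ← hδ₂R _ u.2, ← hm₂.map_conj hw (hRW u.2),
        hδ₂R _ (conj_mem_of_mem_normalizer (hW hw).2 u.2), hv _ u.2, hδ₂R _ u.2]
    have h2 : w'⁻¹ * δ₂ w ∈ W :=
      hCW ⟨S.mul_mem (S.inv_mem (hWS hw')) (hm₂.mem hw), mul_inv_mem_centralizer h1⟩
    simpa using W.mul_mem hw' h2
  have := finite_of_le hWS
  have hiso := hm₂.isIso_of_card_le hWW le_rfl
  obtain ⟨D, hD, hDv⟩ := exists_mem_autGroup hiso
  have := finite_mulAut W
  obtain ⟨n, hn1, hno⟩ :=
    Residual.exists_pPrime_pow (p := p) D (o := orderOf x * orderOf δ₁) (Nat.Coprime.mul_left hxo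
      hδ₁.coprime)
  have hnx : n ≡ 1 [MOD orderOf x] := hn1.of_dvd (dvd_mul_right _ _)
  have hD2 : ∀ w ∈ W, autFun D w = δ₂ w := fun w hw => by rw [autFun_apply D hw, hDv]
  set G := autFun (D ^ n)
  have hGR : ∀ y ∈ R, G y = autFun x y := fun y hy => by
    show autFun (D ^ n) y = _
    rw [autFun_pow_eq hRW (fun z hz => (hD2 z (hRW hz)).trans (hδ₂R z hz)) n y hy,
      Residual.pow_eq_self_of_modEq hnx]
  have hGm : IsMap F W G := ((mem_autGroup_iff hWS _).1 ((F.autGroup W).pow_mem hD n)).isMap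
  have hUW : U ≤ W := sup_le hRW ((inf_le_inf_right _ hTS).trans hCW)
  have hGUU : ∀ y ∈ U, G y ∈ U := mem_of_mem_sup hGm (sup_le hRW
    ((inf_le_inf_right _ hTS).trans hCW) |> fun h => le_sup_left.trans h)
    (le_sup_right.trans hUW)
    (fun y hy => Subgroup.mem_sup_left (by rw [hGR y hy]; exact autFun_mem x hy))
    (fun d hd => Subgroup.mem_sup_right ⟨isMap_mem_of_stronglyClosed hT hGm
      (hUW (Subgroup.mem_sup_right hd)) hd.1, (hGm.mem_centralizerIn hRW
        ((((mem_autGroup_iff hRT x).1 hx).of_subsystem hI.1).congr fun y hy => (hGR y hy).symm)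
        (hUW (Subgroup.mem_sup_right hd)) hd.2).2⟩)
  obtain ⟨γ, hγ, hγv⟩ := exists_mem_autGroup ((hGm.mono hUW).isIso_of_card_le hGUU le_rfl)
  have hγE : γ ∈ E.autGroup U := by
    have e : γ = η := by
      refine MulEquiv.ext fun z => Subtype.ext ?_
      rw [hγv, ← autFun_coe η z, ← hδU _ z.2]
      show autFun (D ^ n) (z : Ω) = _
      rw [autFun_pow_eq hUW (δ := D) (α := η) (fun y hy => by
        rw [hD2 y (hUW hy), hδ₂v y (Subgroup.mem_sup_left hy), hδU y hy]) n z z.2, hδU _ z.2]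
      have hηo : orderOf η ∣ orderOf δ₁ := orderOf_dvd_of_pow_eq_one (MulEquiv.ext fun y =>
        Subtype.ext (by
          have h5 := autFun_pow_eq (le_sup_left : U ≤ V) hδU (orderOf δ₁) y y.2
          rw [pow_orderOf_eq_one, autFun_one (Subgroup.mem_sup_left y.2), autFun_coe] at h5
          exact h5.symm))
      rw [Residual.pow_eq_self_of_modEq (hn1.of_dvd (hηo.trans (dvd_mul_left _ _)))]
    exact e ▸ hηE
  refine ⟨G, (mem_autGroup_iff hWS _).1 ((F.autGroup W).pow_mem hD n), hGR,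
    ((mem_autGroup_iff hUT γ).1 hγE).isMap.congr fun z hz => by rw [autFun_apply γ hz, hγv],
    fun c hc => ?_⟩
  -- trivial modulo `T`
  have hGU : ∀ d ∈ centralizerIn S U, d⁻¹ * G d ∈ T := fun d hd => by
    have hdW := hCUW hd
    have h1 : G d = autFun δ₁ d := by
      have hCV : centralizerIn S U ≤ V := le_sup_right
      have hpre : ∀ z ∈ centralizerIn S U, autFun D z = autFun δ₁ z := fun z hz =>
        (hD2 z (hCUW hz)).trans (hδ₂v z (hCV hz))
      have key : ∀ i : ℕ, ∀ z ∈ centralizerIn S U,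
          autFun (D ^ i) z = autFun (δ₁ ^ i) z ∧ autFun (δ₁ ^ i) z ∈ centralizerIn S U := by
        intro i
        induction i with
        | zero =>
          intro z hz
          simp only [pow_zero]
          rw [autFun_one (hCUW hz), autFun_one (hCV hz)]
          exact ⟨rfl, hz⟩
        | succ i ih =>
          intro z hz
          obtain ⟨h3, h4⟩ := ih z hz
          rw [pow_succ', pow_succ', autFun_mul _ _ (hCUW hz), autFun_mul _ _ (hCV hz), h3,
            hpre _ h4]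
          exact ⟨rfl, hδ₁.mem_centralizerIn hUS h4⟩
      show autFun (D ^ n) d = _
      rw [(key n d hd).1, Residual.pow_eq_self_of_modEq (hn1.of_dvd (dvd_mul_left _ _))]
    rw [h1]
    exact hUT (hδ₁.mod d hd)
  -- `G` moves `c` by an element of `T C_S(U)`
  have hCG : ∀ c ∈ centralizerIn S R, c⁻¹ * G c ∈ T ⊔ centralizerIn S U := by
    intro c hc
    have hcW := hCW hc
    have hcn := hWU c hcW
    have hGc : G c ∈ centralizerIn S R := hGm.mem_centralizerIn hRW
      (((mem_autGroup_iff hRS x).1 ((F.autGroup R |> fun A => (mem_autGroup_iff hRS x).2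
        (((mem_autGroup_iff hRT x).1 hx).of_subsystem hI.1)))).congr
          fun y hy => (hGR y hy).symm) hcW hc.2
    have hGcn := hWU (G c) (hCW hGc)
    have hmem : (conjAut U hcn)⁻¹ * conjAut U hGcn ∈ E.autGroup U ⊓ autInducedBy S U := by
      refine ⟨?_, Subgroup.mul_mem _ (Subgroup.inv_mem _ (conjAut_mem_autInducedBy _ hc.1))
        (conjAut_mem_autInducedBy _ hGc.1)⟩
      have e : conjAut U hGcn = γ * conjAut U hcn * γ⁻¹ := by
        refine MulEquiv.ext fun z => Subtype.ext ?_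
        obtain ⟨y, rfl⟩ := γ.surjective z
        rw [MulAut.mul_apply, MulAut.mul_apply, MulAut.inv_apply_self, conjAut_apply, hγv, hγv,
          conjAut_apply, hGm.map_conj hcW (hUW y.2)]
      rw [e, show (conjAut U hcn)⁻¹ * (γ * conjAut U hcn * γ⁻¹) =
        ((conjAut U hcn)⁻¹ * γ * (conjAut U hcn)⁻¹⁻¹) * γ⁻¹ by group]
      exact Subgroup.mul_mem _ (hcongE _ ((F.autGroup U).inv_mem (autInducedBy_le_autGroup hUS
        (conjAut_mem_autInducedBy hcn hc.1))) _ hγE) (Subgroup.inv_mem _ hγE)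
    obtain ⟨a, ha, b, hb, hab⟩ : ∃ a ∈ centralizerIn T R, ∃ b ∈ centralizerIn S U,
        c⁻¹ * G c = a * b := by
      have hfix : (conjAut U hcn)⁻¹ * conjAut U hGcn ∈ fixSub R U :=
        Subgroup.mul_mem _ (Subgroup.inv_mem _ fun z hz => Subtype.ext (by
          rw [conjAut_apply, conj_eq_self_of_mem_centralizer hc.2 hz]))
          fun z hz => Subtype.ext (by
            rw [conjAut_apply, conj_eq_self_of_mem_centralizer hGc.2 hz])
      have hle := le_autInducedBy_of_fix hTp hE.1.1 hrE rfl (P := K ⊓ autInducedBy S U)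
        (fun a ha => ha.1.1) ((isPGroup_autInducedBy hS U).to_le inf_le_right)
        (fun a ha y hy => by
          rw [autFun_apply a (Subgroup.mem_sup_left hy)]
          exact congrArg Subtype.val (ha.1.2 ⟨y, _⟩ hy))
        (le_inf (le_inf ((autInducedBy_mono inf_le_left U).trans (autInducedBy_le_autGroup hUT))
          fun a ha z hz => by
            obtain ⟨c', hc', hcv⟩ := (mem_autInducedBy_iff _ U a).1 ha
            exact Subtype.ext (by rw [hcv, conj_eq_self_of_mem_centralizer hc'.2 hz]))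
          (autInducedBy_mono (inf_le_left.trans hTS) U))
        ⟨⟨hmem.1, hfix⟩, hmem.2⟩
      obtain ⟨a, ha, hav⟩ := (mem_autInducedBy_iff _ U _).1 hle
      refine ⟨a, ha, a⁻¹ * (c⁻¹ * G c), ⟨S.mul_mem (S.inv_mem (hTS ha.1))
        (S.mul_mem (S.inv_mem hc.1) hGc.1), mul_inv_mem_centralizer fun z hz => ?_⟩, by group⟩
      have h1 := hav ⟨z, hz⟩
      rw [MulAut.mul_apply] at h1
      have h2 := conjAut_apply U hcn ((conjAut U hcn)⁻¹ (conjAut U hGcn ⟨z, hz⟩))
      rw [MulAut.apply_inv_self, h1, conjAut_apply] at h2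
      change G c * z * (G c)⁻¹ = c * (a * z * a⁻¹) * c⁻¹ at h2
      rw [show c⁻¹ * G c * z * (c⁻¹ * G c)⁻¹ = c⁻¹ * (G c * z * (G c)⁻¹) * c by group, h2]
      group
    rw [hab]
    exact Subgroup.mul_mem_sup ha.1 hb
  set y := c⁻¹ * G c with hy
  have hyTC := hCG c hc
  have hyW : y ∈ W := W.mul_mem (W.inv_mem (hCW hc))
    ((mem_autGroup_iff hWS _).1 ((F.autGroup W).pow_mem hD n) |>.mem (hCW hc))
  have hmodT : ∀ z ∈ W, z ∈ T ⊔ centralizerIn S U → z⁻¹ * G z ∈ T := by
    intro z hzW hz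
    have hn' : centralizerIn S U ≤ Subgroup.normalizer (T : Set Ω) := fun s hs =>
      le_normalizer_of_stronglyClosed hT hs.1
    have hz' : z ∈ ((T ⊔ centralizerIn S U : Subgroup Ω) : Set Ω) := hz
    rw [Subgroup.coe_mul_of_right_le_normalizer_left _ _ hn'] at hz'
    obtain ⟨a, ha, b, hb, rfl⟩ := hz'
    have hbW := hCUW hb
    have haW : a ∈ W := by
      have := W.mul_mem hzW (W.inv_mem hbW)
      rwa [mul_inv_cancel_right] at this
    show (a * b)⁻¹ * G (a * b) ∈ T
    rw [hGm.map_mul haW hbW]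
    have h1 : a⁻¹ * G a ∈ T := T.mul_mem (T.inv_mem ha) (isMap_mem_of_stronglyClosed hT hGm haW ha)
    have h2 := hTn b⁻¹ (S.inv_mem hb.1) _ h1
    rw [show (a * b)⁻¹ * (G a * G b) = b⁻¹ * (a⁻¹ * G a) * b⁻¹⁻¹ * (b⁻¹ * G b) by group]
    exact T.mul_mem h2 (hGU b hb)
  haveI hTn' : (T.subgroupOf S).Normal :=
    ⟨fun a ha g => hTn g g.2 _ ha⟩
  have hiter : ∀ i : ℕ, (y ^ i)⁻¹ * (c⁻¹ * autFun ((D ^ n) ^ i) c) ∈ T ∧
      autFun ((D ^ n) ^ i) c ∈ W := by
    intro i
    induction i with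
    | zero =>
      simp only [pow_zero]
      rw [autFun_one (hCW hc)]
      exact ⟨by simp, hCW hc⟩
    | succ i ih =>
      obtain ⟨h1, h2⟩ := ih
      set e := autFun ((D ^ n) ^ i) c with he
      refine ⟨?_, autFun_mem _ (hCW hc)⟩
      rw [pow_succ' (D ^ n), autFun_mul _ _ (hCW hc), ← he]
      show (y ^ (i + 1))⁻¹ * (c⁻¹ * G e) ∈ T
      have hyi : y ^ i ∈ W := W.pow_mem hyW i
      set r := (y ^ i)⁻¹ * (c⁻¹ * e) with hr
      have hrW : r ∈ W := W.mul_mem (W.inv_mem hyi) (W.mul_mem (W.inv_mem (hCW hc)) h2)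
      have e1 : G e = G c * G (y ^ i) * G r := by
        rw [← hGm.map_mul (hCW hc) hyi, ← hGm.map_mul (W.mul_mem (hCW hc) hyi) hrW, hr]
        congr 1
        group
      have h3 := hmodT _ hyi (Subgroup.pow_mem _ hyTC i)
      have h4 := isMap_mem_of_stronglyClosed hT hGm hrW h1
      rw [e1, pow_succ', show (y * y ^ i)⁻¹ * (c⁻¹ * (G c * G (y ^ i) * G r)) =
        (y ^ i)⁻¹ * (y⁻¹ * (c⁻¹ * G c)) * G (y ^ i) * G r by group, ← hy, inv_mul_cancel, mul_one]
      exact T.mul_mem h3 h4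
  have hfin := (hiter (orderOf (D ^ n))).1
  rw [pow_orderOf_eq_one, autFun_one (hCW hc), inv_mul_cancel, mul_one] at hfin
  have hpow : y ^ orderOf (D ^ n) ∈ T := by simpa using T.inv_mem hfin
  obtain ⟨j, hj⟩ := hS ⟨y, hWS hyW⟩
  have hpj : y ^ p ^ j ∈ T := by
    have := congrArg Subtype.val hj
    rw [SubgroupClass.coe_pow] at this
    rw [this]
    exact T.one_mem
  have hco : Nat.Coprime (orderOf (D ^ n)) (p ^ j) := hno.pow_right j
  obtain ⟨u, v, huv⟩ := Nat.isCoprime_iff_coprime.2 hco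
  have : y = (y ^ orderOf (D ^ n)) ^ u * (y ^ (p ^ j)) ^ v := by
    rw [← zpow_natCast y (orderOf (D ^ n)), ← zpow_natCast y (p ^ j), ← zpow_mul, ← zpow_mul,
      ← zpow_add, mul_comm ((orderOf (D ^ n) : ℤ)), mul_comm ((↑(p ^ j) : ℤ)), huv, zpow_one]
  rw [this]
  exact T.mul_mem (T.zpow_mem hpow u) (T.zpow_mem hpj v)

/-- An automorphism of order prime to `p` of `E` at a fully normalised subgroup extends over
`W ≤ N_S(R)` trivially modulo `T` on `C_S(R)`. -/
theorem exists_ext_trivial (hS : IsPGroup p S) (hF : F.IsSaturated p) (hE : E.IsNormalIn F p)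
    {R : Subgroup Ω} (hRT : R ≤ T) (hR : F.IsFullyNormalized R) {x : MulAut R}
    (hx : x ∈ E.autGroup R) (hxo : (orderOf x).Coprime p) {W : Subgroup Ω}
    (hW : W ≤ normalizerIn S R) (hRW : R ≤ W) (hCW : centralizerIn S R ≤ W)
    (hxW : ∀ w ∈ W, ∃ w' ∈ W, ∀ y ∈ R, autFun x (w * y * w⁻¹) = w' * autFun x y * w'⁻¹) :
    ∃ δ, IsIso F W W δ ∧ (∀ y ∈ R, δ y = autFun x y) ∧
      ∀ c ∈ centralizerIn S R, c⁻¹ * δ c ∈ T := by
  obtain ⟨δ, h1, h2, -, h3⟩ := exists_ext_trivial' hS hF hE hRT hR hx hxo hW hRW hCW hxW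
  exact ⟨δ, h1, h2, h3⟩

end CfsgLib.Fusion.MeetExt
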