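import Cfsg.Agent.Lib.Fusion.MeetAutomizer

/-!
The automizer in the meet extends over the subgroups of `N_T(R)` that it moves inside `N_T(R)`.
-/

set_option autoImplicit false
set_option linter.unusedSectionVars false
set_option linter.style.haveILetI false

namespace CfsgLib.Fusion.Meet

open Cfsg Cfsg.FusionSystem
open scoped Pointwise

variable {M : Type*} [Group M]

/-- The conjugate subgroup `g A g⁻¹`. -/
def cj (g : M) (A : Subgroup M) : Subgroup M := A.map (MulAut.conj g).toMonoidHom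

theorem mem_cj {g a : M} {A : Subgroup M} (ha : a ∈ A) : g * a * g⁻¹ ∈ cj g A := ⟨a, ha, rfl⟩

theorem cj_le {g : M} {A B : Subgroup M} (h : ∀ a ∈ A, g * a * g⁻¹ ∈ B) : cj g A ≤ B := by
  rintro _ ⟨a, ha, rfl⟩
  exact h a ha

theorem card_cj (g : M) (A : Subgroup M) : Nat.card (cj g A) = Nat.card A :=
  Subgroup.card_map_of_injective (f := (MulAut.conj g).toMonoidHom) (MulAut.conj g).injective

theorem cj_mono (g : M) {A B : Subgroup M} (h : A ≤ B) : cj g A ≤ cj g B := Subgroup.map_mono h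

theorem cj_cj (g l : M) (A : Subgroup M) : cj g (cj l A) = cj (g * l) A := by
  ext x
  constructor
  · rintro ⟨_, ⟨a, ha, rfl⟩, rfl⟩
    exact ⟨a, ha, by simp [mul_assoc]⟩
  · rintro ⟨a, ha, rfl⟩
    exact ⟨l * a * l⁻¹, mem_cj ha, by simp [mul_assoc]⟩

theorem cj_one (A : Subgroup M) : cj 1 A = A := by
  ext x
  constructor
  · rintro ⟨a, ha, rfl⟩
    simpa using ha
  · intro hx
    exact ⟨x, hx, by simp⟩

theorem cj_inv (g : M) (A : Subgroup M) : cj g⁻¹ (cj g A) = A := by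
  rw [cj_cj, inv_mul_cancel, cj_one]

theorem mem_normalizer_cj {g n : M} {A : Subgroup M}
    (hn : n ∈ Subgroup.normalizer (A : Set M)) :
    g * n * g⁻¹ ∈ Subgroup.normalizer (cj g A : Set M) := by
  refine Subgroup.mem_normalizer_iff.2 fun x => ?_
  have hx : x = g * (g⁻¹ * x * g) * g⁻¹ := by group
  constructor
  · rintro ⟨a, ha, rfl⟩
    refine ⟨n * a * n⁻¹, (Subgroup.mem_normalizer_iff.1 hn a).1 ha, ?_⟩
    simp [mul_assoc]
  · rintro ⟨a, ha, hax⟩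
    refine ⟨n⁻¹ * a * n, (Subgroup.mem_normalizer_iff.1 hn _).2 (by simpa [mul_assoc] using ha), ?_⟩
    have h1 : g * a * g⁻¹ = g * n * g⁻¹ * x * (g * n * g⁻¹)⁻¹ := hax
    show g * (n⁻¹ * a * n) * g⁻¹ = x
    calc g * (n⁻¹ * a * n) * g⁻¹ = (g * n * g⁻¹)⁻¹ * (g * a * g⁻¹) * (g * n * g⁻¹) := by group
      _ = x := by rw [h1]; group

variable {Ω : Type*} [Group Ω] {S T₁ T₂ : Subgroup Ω}
variable {F : FusionSystem S} {E₁ : FusionSystem T₁} {E₂ : FusionSystem T₂} {p : ℕ}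

/-- `α` extends over the elements inducing automorphisms in `Q`. -/
def Ext (W : FusionSystem (T₁ ⊓ T₂)) (R : Subgroup Ω) (Q : Subgroup (MulAut R)) (α : MulAut R) :
    Prop :=
  ∃ g, IsMap W (preInd (T₁ ⊓ T₂) R Q) g ∧ ∀ r ∈ R, g r = autFun α r

theorem preInd_mono {K R : Subgroup Ω} {Q Q' : Subgroup (MulAut R)} (hQ : Q ≤ Q') :
    preInd K R Q ≤ preInd K R Q' := fun _ hw => by
  obtain ⟨hw, a, ha, hv⟩ := hw
  exact ⟨hw, a, hQ ha, hv⟩

theorem Ext.mono {W : FusionSystem (T₁ ⊓ T₂)} {R : Subgroup Ω} {Q Q' : Subgroup (MulAut R)}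
    {α : MulAut R} (hα : Ext W R Q α) (hQ : Q' ≤ Q) : Ext W R Q' α := by
  obtain ⟨g, hg, hv⟩ := hα
  exact ⟨g, hg.mono (preInd_mono hQ), hv⟩

/-- Extensions map `preInd Q` into `preInd Q'`. -/
theorem ext_mem {W : FusionSystem (T₁ ⊓ T₂)} {R : Subgroup Ω} (hR : R ≤ T₁ ⊓ T₂)
    {Q Q' : Subgroup (MulAut R)} (hQ : autInducedBy R R ≤ Q) {α : MulAut R} {g : Ω → Ω}
    (hg : IsMap W (preInd (T₁ ⊓ T₂) R Q) g) (hv : ∀ r ∈ R, g r = autFun α r)
    (h : cj α Q ≤ Q') : ∀ y ∈ preInd (T₁ ⊓ T₂) R Q, g y ∈ preInd (T₁ ⊓ T₂) R Q' := by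
  intro y hy
  have hyW := hy
  obtain ⟨-, a, ha, hay⟩ := hy
  refine mem_preInd_of_induces (hg.mem hyW) (h (mem_cj ha)) fun z => ?_
  obtain ⟨u, rfl⟩ := α.surjective z
  have hRp : R ≤ preInd (T₁ ⊓ T₂) R Q := le_preInd hR hQ
  rw [MulAut.mul_apply, MulAut.mul_apply, MulAut.inv_apply_self, ← autFun_coe α (a u),
    ← autFun_coe α u, ← hv _ (a u).2, ← hv _ u.2, hay, hg.map_conj hyW (hRp u.2)]

theorem Ext.comp {W : FusionSystem (T₁ ⊓ T₂)} {R : Subgroup Ω} (hR : R ≤ T₁ ⊓ T₂)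
    {Q Q' : Subgroup (MulAut R)} (hQ : autInducedBy R R ≤ Q) {α β : MulAut R}
    (hα : Ext W R Q α) (hβ : Ext W R Q' β) (h : cj α Q ≤ Q') : Ext W R Q (β * α) := by
  obtain ⟨g, hg, hgv⟩ := hα
  obtain ⟨k, hk, hkv⟩ := hβ
  refine ⟨k ∘ g, hg.comp hk (ext_mem hR hQ hg hgv h), fun r hr => ?_⟩
  show k (g r) = autFun (β * α) r
  rw [hgv r hr, hkv _ (autFun_mem α hr), autFun_mul _ _ hr]

theorem Ext.inv {W : FusionSystem (T₁ ⊓ T₂)} [Finite ↥(T₁ ⊓ T₂)] {R : Subgroup Ω}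
    (hR : R ≤ T₁ ⊓ T₂) {Q : Subgroup (MulAut R)} (hQ : autInducedBy R R ≤ Q) {α : MulAut R}
    (hα : Ext W R Q α) (h : cj α Q ≤ Q) : Ext W R Q α⁻¹ := by
  obtain ⟨g, hg, hv⟩ := hα
  have hle : preInd (T₁ ⊓ T₂) R Q ≤ T₁ ⊓ T₂ := fun w hw => hw.1
  have := finite_of_le hle
  obtain ⟨r, hr, hr1, -⟩ := (hg.isIso_of_card_le (ext_mem hR hQ hg hv h) le_rfl).exists_symm
  refine ⟨r, hr.isMap, fun z hz => ?_⟩
  have h1 := hr1 _ (le_preInd hR hQ (autFun_mem α⁻¹ hz))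
  rw [hv _ (autFun_mem α⁻¹ hz), ← autFun_mul _ _ hz, mul_inv_cancel,
    autFun_apply (1 : MulAut R) hz] at h1
  exact h1

theorem ext_conj {W : FusionSystem (T₁ ⊓ T₂)} {R : Subgroup Ω} (Q : Subgroup (MulAut R))
    {u : MulAut R} (hu : u ∈ autInducedBy (T₁ ⊓ T₂) R) : Ext W R Q u := by
  obtain ⟨t, ht, hv⟩ := (mem_autInducedBy_iff _ R u).1 hu
  exact ⟨fun y => t * y * t⁻¹, isMap_conj (fun w hw => hw.1) ht,
    fun r hr => by rw [autFun_apply u hr, hv]⟩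

namespace Data

variable (h : Data F p E₁ E₂) [Fact p.Prime] [Finite S]
include h

variable {R : Subgroup Ω}

/-- The step: an automorphism of order prime to `p` in both systems. -/
theorem ext_coprime (hR : Good F (T₁ ⊓ T₂) R) (hfn : F.IsFullyNormalized R) {x : MulAut R}
    (hx : x ∈ bSub E₁ E₂ R) (hxo : (orderOf x).Coprime p) {Q : Subgroup (MulAut R)}
    (hQU : Q ≤ autInducedBy (T₁ ⊓ T₂) R) (hQI : autInducedBy R R ≤ Q)
    (hxQ : ∀ a ∈ Q, x * a * x⁻¹ ∈ Q) : Ext h.sys R Q x := by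
  have hRT := hR.1
  have hTS := h.TS
  have hRS := hfn.1
  have := finite_of_le hRS
  set M := preInd (T₁ ⊓ T₂) R Q with hMdef
  have hMT : M ≤ T₁ ⊓ T₂ := fun w hw => hw.1
  have hMS : M ≤ S := hMT.trans hTS
  have := finite_of_le hMS
  have := finite_mulAut M
  have hRM : R ≤ M := le_preInd hRT hQI
  have hMg : Good F (T₁ ⊓ T₂) M := h.good_of_le hR hRM hMT
  -- extensions in each system
  have key : ∀ {U : Subgroup Ω} {E : FusionSystem U}, E.IsWeaklyNormalIn F p → T₁ ⊓ T₂ ≤ U →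
      x ∈ E.autGroup R → ∃ g ∈ E.autGroup M, (orderOf g).Coprime p ∧
        ∀ r ∈ R, autFun g r = autFun x r := by
    intro U E hE hTU hxE
    have hI := hE.2.2
    have hUS := hI.2.1.1
    have := finite_of_le hUS
    have hRU := hRT.trans hTU
    obtain ⟨f, hf, hfv⟩ := (isReceptive_iff.1 (isReceptive_of_isFullyNormalized
      (h.pgroup.to_le hUS) hE.1
      (NormalCentralizer.isFullyNormalized_of_super h.pgroup h.sat hI hfn hRU))).2 R _
        ((mem_autGroup_iff hRU x).1 hxE)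
    have hMn : M ≤ nPhi U R (autFun x) := fun y hy => by
      obtain ⟨a, ha, hav⟩ := exists_preInd hy
      obtain ⟨t, ht, htv⟩ := (mem_autInducedBy_iff _ R _).1 (hQU (hxQ a ha))
      refine ⟨hTU hy.1, preInd_le_normalizer hy, t, hTU ht, fun z hz => ?_⟩
      have h1 := htv (x ⟨z, hz⟩)
      rw [MulAut.mul_apply, MulAut.mul_apply, MulAut.inv_apply_self] at h1
      rw [← hav z hz, autFun_apply x hz, ← h1, autFun_apply a hz, autFun_coe]
    have hfm := hf.mono hMn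
    have hfM : ∀ y ∈ M, f y ∈ M := fun y hy => by
      obtain ⟨a, ha, hav⟩ := exists_preInd hy
      refine mem_preInd_of_induces (isMap_mem_of_stronglyClosed h.closed
        (isMap_of_subsystem hI.1 hfm) hy hy.1) (hxQ a ha) fun z => ?_
      obtain ⟨u, rfl⟩ := x.surjective z
      rw [MulAut.mul_apply, MulAut.mul_apply, MulAut.inv_apply_self, ← autFun_coe x (a u),
        ← autFun_coe x u, ← hfv _ (a u).2, ← hfv _ u.2, ← autFun_coe a u, hav _ u.2,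
        hfm.map_conj hy (hRM u.2)]
    obtain ⟨g, hg, hgv⟩ := exists_mem_autGroup (hfm.isIso_of_card_le hfM le_rfl)
    obtain ⟨m, hm1, hmo⟩ := Residual.exists_pPrime_pow (p := p) g hxo
    refine ⟨g ^ m, (E.autGroup M).pow_mem hg m, hmo, fun r hr => ?_⟩
    rw [NormalCentralizer.autFun_pow_eq hRM (fun z hz => by
      rw [autFun_apply g (hRM hz), hgv, hfv z hz]) m r hr, Residual.pow_eq_self_of_modEq hm1]
  obtain ⟨g₁, hg₁, -, hg₁v⟩ := key h.weak inf_le_left hx.1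
  obtain ⟨g₂, hg₂, hg₂o, hg₂v⟩ := key h.normal.1 inf_le_right hx.2
  -- the second lies in the first system too
  set η := g₁⁻¹ * g₂ with hη
  have hfix : ∀ z : M, (z : Ω) ∈ R → η z = z := fun z hz => by
    have e : g₁ z = g₂ z := Subtype.ext (by
      rw [← autFun_coe g₁, ← autFun_coe g₂, hg₁v _ hz, hg₂v _ hz])
    rw [hη, MulAut.mul_apply, ← e, MulAut.inv_apply_self]
  have hmod : η ∈ MeetExt.modSub R M := by
    refine ⟨hfix, fun z => hR.2 R (isConj_refl hRS)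
      ⟨(T₁ ⊓ T₂).mul_mem ((T₁ ⊓ T₂).inv_mem (hMT z.2)) (hMT (η z).2),
        mul_inv_mem_centralizer fun r hr => ?_⟩⟩
    have hzn := preInd_le_normalizer z.2
    have e1 : η (z * ⟨r, hRM hr⟩ * z⁻¹) = z * ⟨r, hRM hr⟩ * z⁻¹ :=
      hfix _ (conj_mem_of_mem_normalizer hzn hr)
    rw [map_mul, map_mul, map_inv, hfix ⟨r, hRM hr⟩ hr] at e1
    exact congrArg (fun w : M => (w : Ω)) e1
  have hg₁F : g₁ ∈ F.autGroup M := (mem_autGroup_iff hMS g₁).2
    (((mem_autGroup_iff (hMT.trans inf_le_left) g₁).1 hg₁).of_subsystem h.inv₁.1)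
  have hg₂F : g₂ ∈ F.autGroup M := (mem_autGroup_iff hMS g₂).2
    (((mem_autGroup_iff (hMT.trans inf_le_right) g₂).1 hg₂).of_subsystem h.inv₂.1)
  have hg₂₁ : g₂ ∈ E₁.autGroup M := by
    set N := (E₁.autGroup M).subgroupOf (F.autGroup M)
    haveI : N.Normal := ⟨fun b hb g => by
      have hgi := (mem_autGroup_iff hMS (g : MulAut M)).1 g.2
      refine Residual.mem_autGroup_transport h.inv₁ (hMT.trans inf_le_left) hgi hb fun y hy => ?_
      rw [autFun_apply _ hy, autFun_apply _ hy, autFun_coe, autFun_coe]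
      simp⟩
    let π := QuotientGroup.mk' N
    have heq : π ⟨g₂, hg₂F⟩ = π (⟨g₁, hg₁F⟩⁻¹ * ⟨g₂, hg₂F⟩) := by
      rw [map_mul, map_inv, show π ⟨g₁, hg₁F⟩ = 1 from
        (QuotientGroup.eq_one_iff (⟨g₁, hg₁F⟩ : F.autGroup M)).2 (Subgroup.mem_subgroupOf.2 hg₁),
        inv_one, one_mul]
    obtain ⟨j, hj⟩ := MeetExt.isPGroup_modSub h.pgroup hMS ⟨η, hmod⟩
    have hjη : η ^ p ^ j = 1 := congrArg Subtype.val hj
    have h2 : π ⟨g₂, hg₂F⟩ ^ orderOf g₂ = 1 := by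
      rw [← map_pow, show (⟨g₂, hg₂F⟩ : F.autGroup M) ^ orderOf g₂ = 1 from
        Subtype.ext (pow_orderOf_eq_one g₂), map_one]
    have h3 : π ⟨g₂, hg₂F⟩ ^ p ^ j = 1 := by
      rw [heq, ← map_pow, show (⟨g₁, hg₁F⟩⁻¹ * ⟨g₂, hg₂F⟩ : F.autGroup M) ^ p ^ j = 1 from
        Subtype.ext hjη, map_one]
    exact Subgroup.mem_subgroupOf.1 <| (QuotientGroup.eq_one_iff (⟨g₂, hg₂F⟩ : F.autGroup M)).1
      (NormalCentralizer.eq_one_of_coprime_pow (hg₂o.pow_right j) h2 h3)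
  exact ⟨autFun g₂, ((mem_autGroup_iff hMT g₂).1
    (h.mem_sys ⟨hMg, hg₂₁, hg₂, Or.inl hg₂o⟩)).isMap, hg₂v⟩

/-- Extensions of the automizer. -/
theorem ext_of_jSub (hR : Good F (T₁ ⊓ T₂) R) (hfn : F.IsFullyNormalized R) :
    ∀ (d : ℕ) (Q : Subgroup (MulAut R)) (α : MulAut R), α ∈ jSub E₁ E₂ p R →
      autInducedBy R R ≤ Q → Q ≤ autInducedBy (T₁ ⊓ T₂) R →
      cj α Q ≤ autInducedBy (T₁ ⊓ T₂) R →
      Nat.card (autInducedBy (T₁ ⊓ T₂) R) - Nat.card Q = d → Ext h.sys R Q α := by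
  have hRT := hR.1
  have hRS := hfn.1
  have := finite_of_le hRS
  have := finite_mulAut R
  have : Finite ↥(T₁ ⊓ T₂) := finite_of_le h.TS
  set T := T₁ ⊓ T₂
  set J := jSub E₁ E₂ p R with hJ
  set U := autInducedBy T R with hU
  have hUp : IsPGroup p U := isPGroup_autInducedBy (h.pgroup.to_le h.TS) R
  have hUJ : U ≤ J := le_sup_left
  have hinn : ∀ (g : MulAut R), ∀ a ∈ autInducedBy R R, g * a * g⁻¹ ∈ autInducedBy R R := by
    intro g a ha
    obtain ⟨u, hu, huv⟩ := (mem_autInducedBy_iff R R a).1 ha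
    refine (mem_autInducedBy_iff R R _).2 ⟨g ⟨u, hu⟩, SetLike.coe_mem _, fun z => ?_⟩
    obtain ⟨y, rfl⟩ := g.surjective z
    rw [MulAut.mul_apply, MulAut.mul_apply, MulAut.inv_apply_self,
      show a y = ⟨u, hu⟩ * y * (⟨u, hu⟩ : R)⁻¹ from Subtype.ext (huv y), map_mul, map_mul, map_inv]
    rfl
  have hinn' : ∀ (g : MulAut R) {Q : Subgroup (MulAut R)}, autInducedBy R R ≤ Q →
      autInducedBy R R ≤ cj g Q := fun g Q hQ a ha => by
    refine ⟨g⁻¹ * a * g⁻¹⁻¹, hQ (hinn g⁻¹ a ha), ?_⟩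
    simp [mul_assoc]
  -- the normaliser of a well placed subgroup extends
  have hplace : ∀ Q₁ : Subgroup (MulAut R), autInducedBy R R ≤ Q₁ → Q₁ ≤ U →
      (∀ l ∈ J, cj l Q₁ ≤ U → Nat.card ↥(U ⊓ Subgroup.normalizer (cj l Q₁ : Set (MulAut R))) ≤
        Nat.card ↥(U ⊓ Subgroup.normalizer (Q₁ : Set (MulAut R)))) →
      ∃ D : Sylow p ↥(J ⊓ Subgroup.normalizer (Q₁ : Set (MulAut R))),
        (∀ x : ↥(J ⊓ Subgroup.normalizer (Q₁ : Set (MulAut R))), x ∈ (D : Subgroup _) →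
          (x : MulAut R) ∈ U) ∧
        ∀ n ∈ J, n ∈ Subgroup.normalizer (Q₁ : Set (MulAut R)) → Ext h.sys R Q₁ n := by
    intro Q₁ hI hQU hmax
    set N := J ⊓ Subgroup.normalizer (Q₁ : Set (MulAut R)) with hN
    set P := U ⊓ Subgroup.normalizer (Q₁ : Set (MulAut R)) with hP
    have hPN : P ≤ N := inf_le_inf_right _ hUJ
    obtain ⟨D, hD⟩ := ((hUp.to_le inf_le_left : IsPGroup p P).of_equiv
      (Subgroup.subgroupOfEquivOfLe hPN).symm).exists_le_sylow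
    set A := (D : Subgroup N).map N.subtype with hA
    have hPA : P ≤ A := fun x hx => ⟨⟨x, hPN hx⟩, hD (Subgroup.mem_subgroupOf.2 hx), rfl⟩
    have hAN : A ≤ N := Subgroup.map_subtype_le _
    obtain ⟨δ, hδ, hδv⟩ := h.exists_conj_jSub hRT hfn (hAN.trans inf_le_left) (D.isPGroup'.map _)
    have hQ₁A : cj δ Q₁ ≤ U := cj_le fun a ha => hδv a
      (hPA ⟨hQU ha, Subgroup.le_normalizer ha⟩)
    have hle : cj δ A ≤ U ⊓ Subgroup.normalizer (cj δ Q₁ : Set (MulAut R)) :=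
      cj_le fun a ha => ⟨hδv a ha, mem_normalizer_cj (hAN ha).2⟩
    have hAP : A = P := (Subgroup.eq_of_le_of_card_ge hPA ((card_cj δ A).symm.le.trans
      ((Subgroup.card_le_of_le hle).trans (hmax δ hδ hQ₁A)))).symm
    have hDU : ∀ x : N, x ∈ (D : Subgroup N) → (x : MulAut R) ∈ U := fun x hx =>
      (hAP.le ⟨x, hx, rfl⟩).1
    refine ⟨D, hDU, ?_⟩
    let X : Subgroup (MulAut R) :=
      { carrier := {n | n ∈ Subgroup.normalizer (Q₁ : Set (MulAut R)) ∧ Ext h.sys R Q₁ n}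
        one_mem' := ⟨Subgroup.one_mem _, ext_conj Q₁ (Subgroup.one_mem _)⟩
        mul_mem' := fun {a b} ha hb => ⟨Subgroup.mul_mem _ ha.1 hb.1, hb.2.comp hRT hI ha.2
          (cj_le fun c hc => (Subgroup.mem_normalizer_iff.1 hb.1 c).1 hc)⟩
        inv_mem' := fun {a} ha => ⟨Subgroup.inv_mem _ ha.1, ha.2.inv hRT hI
          (cj_le fun c hc => (Subgroup.mem_normalizer_iff.1 ha.1 c).1 hc)⟩ }
    have hX : N ≤ X := ModelNormal.le_of_sylow_coprime D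
      (fun x hx => ⟨x.2.2, ext_conj Q₁ (hDU x hx)⟩) fun x hx hxo =>
      ⟨hx.2, h.ext_coprime hR hfn (h.jSub_le_bSub hRT hx.1) hxo hQU hI fun a ha =>
        (Subgroup.mem_normalizer_iff.1 hx.2 a).1 ha⟩
    exact fun n hn hnn => (hX ⟨hn, hnn⟩).2
  intro d
  induction d using Nat.strong_induction_on with
  | _ d ih =>
  intro Q α hα hI hQU hαQ hd
  rcases eq_or_ne Q U with rfl | hne
  · have hcj : cj α U = U := Subgroup.eq_of_le_of_card_ge hαQ (card_cj α U).ge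
    obtain ⟨-, -, hext⟩ := hplace U hI le_rfl fun l _ _ =>
      (Subgroup.card_le_of_le inf_le_left).trans
        (Subgroup.card_le_of_le (le_inf le_rfl Subgroup.le_normalizer))
    refine hext α hα (Subgroup.mem_normalizer_iff.2 fun a => ⟨fun ha => hcj.le (mem_cj ha),
      fun ha => ?_⟩)
    rw [← cj_inv α U, hcj]
    exact ⟨α * a * α⁻¹, ha, by simp [mul_assoc]⟩
  -- a well placed conjugate
  obtain ⟨j, ⟨hj, hjU⟩, hjmax⟩ := Set.exists_max_image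
    {j : MulAut R | j ∈ J ∧ cj j Q ≤ U}
    (fun j => Nat.card ↥(U ⊓ Subgroup.normalizer (cj j Q : Set (MulAut R))))
    (Set.toFinite _) ⟨1, J.one_mem, (cj_one Q).le.trans hQU⟩
  set Q₁ := cj j Q with hQ₁
  obtain ⟨D, hDU, hext⟩ := hplace Q₁ (hinn' j hI) hjU fun l hl hlU => by
    rw [hQ₁, cj_cj] at hlU ⊢
    exact hjmax (l * j) ⟨J.mul_mem hl hj, hlU⟩
  -- moving the normaliser in `U` of a conjugate into `U`
  have hmove : ∀ (Q' : Subgroup (MulAut R)) (k : MulAut R), k ∈ J → Q' ≤ U → cj k Q' = Q₁ →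
      Nat.card Q' = Nat.card Q →
      ∃ l ∈ J, l ∈ Subgroup.normalizer (Q₁ : Set (MulAut R)) ∧
        cj (l * k) Q' = Q₁ ∧ ∃ N' : Subgroup (MulAut R), Q' ≤ N' ∧ N' ≤ U ∧
          cj (l * k) N' ≤ U ∧ Nat.card Q < Nat.card N' := by
    intro Q' k hk hQ' hkQ hcard
    set N' := U ⊓ Subgroup.normalizer (Q' : Set (MulAut R)) with hN'
    have hne' : Q' ≠ U := fun e => hne (Subgroup.eq_of_le_of_card_ge hQU (by rw [← hcard, e]))
    have hlt : Nat.card Q' < Nat.card N' := by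
      have hle : Q' ≤ N' := le_inf hQ' Subgroup.le_normalizer
      refine lt_of_le_of_ne (Subgroup.card_le_of_le hle) fun e => ?_
      exact (lt_normalizerIn hUp hQ' hne').ne (Subgroup.eq_of_le_of_card_ge hle e.ge)
    have hkN : cj k N' ≤ J ⊓ Subgroup.normalizer (Q₁ : Set (MulAut R)) := cj_le fun a ha =>
      ⟨J.mul_mem (J.mul_mem hk (hUJ ha.1)) (J.inv_mem hk), hkQ ▸ mem_normalizer_cj ha.2⟩
    obtain ⟨D', hD'⟩ := (((hUp.to_le inf_le_left : IsPGroup p N').map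
      (MulAut.conj k).toMonoidHom).of_equiv
      (Subgroup.subgroupOfEquivOfLe hkN).symm).exists_le_sylow
    obtain ⟨l, hl⟩ := MulAction.exists_smul_eq ↥(J ⊓ Subgroup.normalizer (Q₁ : Set (MulAut R))) D' D
    have hlQ : cj (l : MulAut R) Q₁ = Q₁ := Subgroup.eq_of_le_of_card_ge
      (cj_le fun a ha => (Subgroup.mem_normalizer_iff.1 l.2.2 a).1 ha) (card_cj _ Q₁).ge
    refine ⟨l, l.2.1, l.2.2, by rw [← cj_cj, hkQ, hlQ], N', le_inf hQ' Subgroup.le_normalizer,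
      inf_le_left, ?_, hcard ▸ hlt⟩
    rw [← cj_cj]
    refine cj_le fun a ha => hDU (l * ⟨a, hkN ha⟩ * l⁻¹) ?_
    rw [← hl, Sylow.coe_subgroup_smul, Subgroup.mem_pointwise_smul_iff_inv_smul_mem]
    simpa [mul_assoc] using hD' (Subgroup.mem_subgroupOf.2 ha :
      (⟨a, hkN ha⟩ : ↥(J ⊓ Subgroup.normalizer (Q₁ : Set (MulAut R)))) ∈
        (cj k N').subgroupOf _)
  obtain ⟨l, hl, hln, hlQ, N₁, hQN₁, hN₁U, hN₁m, hc₁⟩ := hmove Q j hj hQU rfl rfl
  obtain ⟨l', hl', hln', hlQ', N₂, hQN₂, hN₂U, hN₂m, hc₂⟩ := hmove (cj α Q) (j * α⁻¹)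
    (J.mul_mem hj (J.inv_mem hα)) hαQ (by rw [cj_cj, inv_mul_cancel_right]) (card_cj α Q)
  have hcU : ∀ {A : Subgroup (MulAut R)}, A ≤ U → Nat.card A ≤ Nat.card U :=
    fun hA => Subgroup.card_le_of_le hA
  have e1 : Ext h.sys R Q (l * j) := by
    have h1 := hcU hN₁U
    exact (ih _ (by omega) N₁ (l * j) (J.mul_mem hl hj) (hI.trans hQN₁) hN₁U hN₁m rfl).mono hQN₁
  set j₂ := l' * (j * α⁻¹) with hj₂
  have hj₂J : j₂ ∈ J := J.mul_mem hl' (J.mul_mem hj (J.inv_mem hα))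
  have e2 : Ext h.sys R Q₁ j₂⁻¹ := by
    have h1 := card_cj j₂ N₂
    have h2 := hcU hN₂m
    have hle : Q₁ ≤ cj j₂ N₂ := hlQ' ▸ cj_mono _ hQN₂
    exact (ih _ (by omega) (cj j₂ N₂) j₂⁻¹ (J.inv_mem hj₂J)
      ((hinn' j hI).trans hle) hN₂m ((cj_inv j₂ N₂).le.trans hN₂U) rfl).mono hle
  have hn : l' * l⁻¹ ∈ Subgroup.normalizer (Q₁ : Set (MulAut R)) :=
    Subgroup.mul_mem _ hln' (Subgroup.inv_mem _ hln)
  have e3 := hext (l' * l⁻¹) (J.mul_mem hl' (J.inv_mem hl)) hn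
  have e13 := e1.comp hRT hI e3 (le_of_eq hlQ)
  have e123 := e13.comp hRT hI e2 (by
    rw [← cj_cj, hlQ]
    exact cj_le fun a ha => (Subgroup.mem_normalizer_iff.1 hn a).1 ha)
  convert e123 using 1
  rw [hj₂]
  group

end Data

end CfsgLib.Fusion.Meet
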