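import Cfsg.Agent.Lib.Fusion.MeetBase
import Cfsg.Agent.Lib.Fusion.MeetExtend

/-!
Automorphisms of subgroups of `S` which act trivially modulo the support `T` of a normal subsystem
`E` and restrict to `E` on the trace in `T`: the ingredients of the product of `E` with a subgroup
between `T` and `S`.
-/

set_option autoImplicit false
set_option linter.unusedSectionVars false
set_option linter.style.haveILetI false

namespace CfsgLib.Fusion.Supplement

open Cfsg Cfsg.FusionSystem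
open CfsgLib.Fusion.NormalCentralizer

variable {Ω : Type*} [Group Ω] {S T : Subgroup Ω} {F : FusionSystem S} {E : FusionSystem T}
variable {p : ℕ}

/-- The hypotheses. -/
structure Data (F : FusionSystem S) (p : ℕ) (E : FusionSystem T) : Prop where
  pgroup : IsPGroup p S
  sat : F.IsSaturated p
  normal : E.IsNormalIn F p

/-- The automorphisms of `P` in `F` trivial modulo `T` whose trace on `T` lies in `E`. -/
def Gam (F : FusionSystem S) (E : FusionSystem T) (P : Subgroup Ω) : Subgroup (MulAut P) :=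
  F.autGroup P ⊓
  { carrier := {α | (∀ x ∈ P, x⁻¹ * autFun α x ∈ T) ∧ IsMap E (P ⊓ T) (autFun α) ∧
      IsMap E (P ⊓ T) (autFun α⁻¹)}
    one_mem' := by
      have h1 : IsMap E (P ⊓ T) (autFun (1 : MulAut P)) :=
        (isMap_id inf_le_right).congr fun x hx => (NormalCentralizer.autFun_one hx.1).symm
      refine ⟨fun x hx => ?_, h1, by rw [inv_one]; exact h1⟩
      rw [NormalCentralizer.autFun_one hx, inv_mul_cancel]
      exact T.one_mem
    mul_mem' := by
      rintro α β ⟨ha, ha1, ha2⟩ ⟨hb, hb1, hb2⟩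
      refine ⟨fun x hx => ?_, (hb1.comp ha1 fun x hx => ⟨autFun_mem β hx.1, hb1.mem hx⟩).congr
        fun x hx => (autFun_mul α β hx.1).symm, ?_⟩
      · rw [autFun_mul α β hx, show x⁻¹ * autFun α (autFun β x) =
          x⁻¹ * autFun β x * ((autFun β x)⁻¹ * autFun α (autFun β x)) by group]
        exact T.mul_mem (hb x hx) (ha _ (autFun_mem β hx))
      · rw [mul_inv_rev]
        exact (ha2.comp hb2 fun x hx => ⟨autFun_mem α⁻¹ hx.1, ha2.mem hx⟩).congr
          fun x hx => (autFun_mul β⁻¹ α⁻¹ hx.1).symm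
    inv_mem' := by
      rintro α ⟨ha, ha1, ha2⟩
      refine ⟨fun x hx => ?_, ha2, by rwa [inv_inv]⟩
      have h1 := T.inv_mem (ha _ (autFun_mem α⁻¹ hx))
      rw [NormalCentralizer.autFun_self_inv α hx] at h1
      simpa using h1 }

/-- The elements of order prime to `p` generate this. -/
def Oc (F : FusionSystem S) (E : FusionSystem T) (p : ℕ) (P : Subgroup Ω) : Subgroup (MulAut P) :=
  Subgroup.closure {α | α ∈ Gam F E P ∧ (orderOf α).Coprime p}

theorem gam_le (P : Subgroup Ω) : Gam F E P ≤ F.autGroup P := inf_le_left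

theorem oc_le (P : Subgroup Ω) : Oc F E p P ≤ Gam F E P :=
  (Subgroup.closure_le _).2 fun _ h => h.1

theorem gam_mod {P : Subgroup Ω} {α : MulAut P} (hα : α ∈ Gam F E P) {x : Ω} (hx : x ∈ P) :
    x⁻¹ * autFun α x ∈ T := hα.2.1 x hx

theorem gam_isMap {P : Subgroup Ω} {α : MulAut P} (hα : α ∈ Gam F E P) :
    IsMap E (P ⊓ T) (autFun α) := hα.2.2.1

/-- `P` has largest normaliser in `T`. -/
def TMax (F : FusionSystem S) (T P : Subgroup Ω) : Prop :=
  P ≤ S ∧ ∀ Q, F.IsConj P Q → Nat.card (normalizerIn T Q) ≤ Nat.card (normalizerIn T P)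

variable [Finite S]

theorem mem_gam (hI : E.IsInvariantIn F) {P : Subgroup Ω} {α : MulAut P}
    (hα : α ∈ F.autGroup P) (hmod : ∀ x ∈ P, x⁻¹ * autFun α x ∈ T)
    (hmap : IsMap E (P ⊓ T) (autFun α)) : α ∈ Gam F E P := by
  refine ⟨hα, hmod, hmap, ?_⟩
  have := finite_of_le (S := S) (P := P ⊓ T) (inf_le_right.trans hI.2.1.1)
  obtain ⟨r, hr, hr1, -⟩ := (hmap.isIso_of_card_le (B := P ⊓ T)
    (fun x hx => ⟨autFun_mem α hx.1, hmap.mem hx⟩) le_rfl).exists_symm
  refine hr.isMap.congr fun y hy => ?_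
  obtain ⟨x, hx, rfl⟩ := (hmap.isIso_of_card_le (B := P ⊓ T)
    (fun x hx => ⟨autFun_mem α hx.1, hmap.mem hx⟩) le_rfl).surj hy
  rw [hr1 x hx, NormalCentralizer.autFun_inv_self α hx.1]

/-! ### Transport -/

theorem mem_T_iff (hI : E.IsInvariantIn F) {P Q : Subgroup Ω} {f : Ω → Ω} (hf : IsIso F P Q f)
    {x : Ω} (hx : x ∈ P) : f x ∈ T ↔ x ∈ T := by
  refine ⟨fun h => ?_, fun h => isMap_mem_of_stronglyClosed hI.2.1 hf.isMap hx h⟩
  obtain ⟨r, hr, hr1, -⟩ := hf.exists_symm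
  rw [← hr1 x hx]
  exact isMap_mem_of_stronglyClosed hI.2.1 hr.isMap (hf.mem hx) h

theorem iso_inf (hI : E.IsInvariantIn F) {P Q : Subgroup Ω} {f : Ω → Ω} (hf : IsIso F P Q f) :
    IsIso F (P ⊓ T) (Q ⊓ T) f := by
  refine ⟨hf.isMap.mono inf_le_left, Set.ext fun y => ⟨?_, fun hy => ?_⟩⟩
  · rintro ⟨x, hx, rfl⟩
    exact ⟨hf.mem hx.1, (mem_T_iff hI hf hx.1).2 hx.2⟩
  · obtain ⟨x, hx, rfl⟩ := hf.surj hy.1
    exact ⟨x, ⟨hx, (mem_T_iff hI hf hx).1 hy.2⟩, rfl⟩

theorem centric_transport (hI : E.IsInvariantIn F) {P Q : Subgroup Ω} {f : Ω → Ω}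
    (hf : IsIso F P Q f) (hc : E.IsCentric (P ⊓ T)) : E.IsCentric (Q ⊓ T) :=
  Residual.isCentric_of_iso hI hc (iso_inf hI hf)

theorem gam_transport (hI : E.IsInvariantIn F) {P Q : Subgroup Ω} {f : Ω → Ω}
    (hf : IsIso F P Q f) {α : MulAut P} (hα : α ∈ Gam F E P) :
    MulAut.congr hf.equiv α ∈ Gam F E Q := by
  have key : ∀ {β : MulAut P}, IsMap E (P ⊓ T) (autFun β) →
      IsMap E (Q ⊓ T) (autFun (MulAut.congr hf.equiv β)) := by
    intro β hβ
    obtain ⟨f', hf', hv⟩ := strongInvariant_of_invariant hI (P ⊓ T) (P ⊓ T) (autFun β) f le_rfl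
      inf_le_right hβ (fun x hx => ⟨autFun_mem β hx.1, hβ.mem hx⟩)
      (hf.isMap.mono inf_le_left) (Q ⊓ T) (iso_inf hI hf).image_eq
    refine hf'.congr fun y hy => ?_
    obtain ⟨x, hx, rfl⟩ := (iso_inf hI hf).surj hy
    rw [hv x hx, Meet.congr_autFun hf β hx.1]
  refine ⟨hf.congr_mem_autGroup hα.1, fun y hy => ?_, key hα.2.2.1, ?_⟩
  · obtain ⟨x, hx, rfl⟩ := hf.surj hy
    rw [← Meet.congr_autFun hf α hx, ← hf.isMap.map_inv hx,
      ← hf.isMap.map_mul (P.inv_mem hx) (autFun_mem α hx)]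
    exact isMap_mem_of_stronglyClosed hI.2.1 hf.isMap
      (P.mul_mem (P.inv_mem hx) (autFun_mem α hx)) (gam_mod hα hx)
  · rw [← map_inv]
    exact key hα.2.2.2

theorem oc_transport (hI : E.IsInvariantIn F) {P Q : Subgroup Ω} {f : Ω → Ω}
    (hf : IsIso F P Q f) {α : MulAut P} (hα : α ∈ Oc F E p P) :
    MulAut.congr hf.equiv α ∈ Oc F E p Q := by
  have hle : Oc F E p P ≤ (Oc F E p Q).comap (MulAut.congr hf.equiv).toMonoidHom :=
    (Subgroup.closure_le _).2 fun a ha => Subgroup.subset_closure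
      ⟨gam_transport hI hf ha.1, by
        show (orderOf (MulAut.congr hf.equiv a)).Coprime p
        rw [MulEquiv.orderOf_eq]
        exact ha.2⟩
  exact hle hα

theorem congr_eq_conj {P : Subgroup Ω} {g : MulAut P} (hg : IsIso F P P (autFun g))
    (α : MulAut P) : MulAut.congr hg.equiv α = g * α * g⁻¹ := by
  refine MulEquiv.ext fun y => Subtype.ext ?_
  obtain ⟨x, rfl⟩ := hg.equiv.surjective y
  rw [hg.congr_apply, autFun_coe]
  have e : hg.equiv x = g x := Subtype.ext (by rw [hg.equiv_apply, autFun_coe])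
  rw [e]
  simp

theorem gam_conj (hI : E.IsInvariantIn F) {P : Subgroup Ω} (hP : P ≤ S) {g a : MulAut P}
    (hg : g ∈ F.autGroup P) (ha : a ∈ Gam F E P) : g * a * g⁻¹ ∈ Gam F E P :=
  congr_eq_conj ((mem_autGroup_iff hP g).1 hg) a ▸
    gam_transport hI ((mem_autGroup_iff hP g).1 hg) ha

theorem oc_conj (hI : E.IsInvariantIn F) {P : Subgroup Ω} (hP : P ≤ S) {g a : MulAut P}
    (hg : g ∈ F.autGroup P) (ha : a ∈ Oc F E p P) : g * a * g⁻¹ ∈ Oc F E p P :=
  congr_eq_conj ((mem_autGroup_iff hP g).1 hg) a ▸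
    oc_transport hI ((mem_autGroup_iff hP g).1 hg) ha

theorem autInducedBy_le_gam [Fact p.Prime] (hI : E.IsInvariantIn F) {P : Subgroup Ω}
    (hP : P ≤ S) : autInducedBy T P ≤ Gam F E P := by
  intro α hα
  obtain ⟨t, ht, hv⟩ := (mem_autInducedBy_iff T P α).1 hα
  refine mem_gam hI (autInducedBy_le_autGroup hP (autInducedBy_mono hI.2.1.1 P hα))
    (fun x hx => ?_) ((isMap_conj inf_le_right ht).congr fun x hx =>
      ((autFun_apply α hx.1).trans (hv ⟨x, hx.1⟩)).symm)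
  rw [autFun_apply α hx, hv]
  show x⁻¹ * (t * x * t⁻¹) ∈ T
  rw [show x⁻¹ * (t * x * t⁻¹) = x⁻¹ * t * x⁻¹⁻¹ * t⁻¹ by group]
  exact T.mul_mem (normalizer_T hI (S.inv_mem (hP hx)) ht) (T.inv_mem ht)

theorem normalizerIn_le_normalizerIn_inf [Fact p.Prime] (hI : E.IsInvariantIn F)
    {P : Subgroup Ω} (hP : P ≤ S) : normalizerIn S P ≤ normalizerIn S (P ⊓ T) :=
  fun _ hg => ⟨hg.1, mem_normalizer_of_conj_mem (inf_le_left.trans hP)
    fun _ hx => ⟨conj_mem_of_mem_normalizer hg.2 hx.1, normalizer_T hI hg.1 hx.2⟩⟩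

/-! ### Fully normalised pairs -/

variable [Fact p.Prime]

/-- `P` moves to a subgroup fully normalised together with its trace in `T`. -/
theorem exists_fn_pair (hS : IsPGroup p S) (hF : F.IsSaturated p) (hI : E.IsInvariantIn F)
    {P : Subgroup Ω} (hP : P ≤ S) :
    ∃ (P' : Subgroup Ω) (h : Ω → Ω), IsMap F (normalizerIn S P) h ∧ IsIso F P P' h ∧
      (∀ g ∈ normalizerIn S P, h g ∈ normalizerIn S P') ∧ F.IsFullyNormalized P' ∧
      F.IsFullyNormalized (P' ⊓ T) := by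
  obtain ⟨Q, hPQ, hQ⟩ := exists_isFullyNormalized (F := F) hP
  obtain ⟨h₁, hh₁, hh₁i, hh₁N, -⟩ := exists_map_normalizerIn hS
    (isFullyAutomized_of_isFullyNormalized hS hF hQ) (isReceptive_of_isFullyNormalized hS hF hQ) hPQ
  obtain ⟨A, hA, hAn⟩ := exists_isFullyNormalized (F := F) (inf_le_left.trans hQ.1 : Q ⊓ T ≤ S)
  obtain ⟨k, hk, hki, -, -⟩ := exists_map_normalizerIn hS
    (isFullyAutomized_of_isFullyNormalized hS hF hAn) (isReceptive_of_isFullyNormalized hS hF hAn) hA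
  have hk' := hk.mono (normalizerIn_le_normalizerIn_inf (p := p) hI hQ.1)
  obtain ⟨P', hP'⟩ := (hk'.mono (le_normalizerIn hQ.1)).exists_iso
  have hkN : ∀ g ∈ normalizerIn S Q, k g ∈ normalizerIn S P' := fun g hg =>
    hk'.mem_normalizerIn (le_normalizerIn hQ.1) hP' hg hg.2
  have hfn : F.IsFullyNormalized P' := by
    refine ⟨hP'.le_right, fun R hR => (hQ.2 R (isConj_trans hP'.isConj hR)).trans ?_⟩
    have := finite_of_le (S := S) (P := normalizerIn S P') inf_le_left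
    exact hk'.card_le hkN
  have hA' : P' ⊓ T = A := SetLike.coe_injective
    ((iso_inf hI hP').image_eq.symm.trans hki.image_eq)
  exact ⟨P', k ∘ h₁, hh₁.comp hk' hh₁N, hh₁i.comp hP', fun g hg => hkN _ (hh₁N g hg), hfn,
    hA' ▸ hAn⟩

theorem tMax_of_fn (hS : IsPGroup p S) (hF : F.IsSaturated p) (hI : E.IsInvariantIn F)
    {P : Subgroup Ω} (hP : F.IsFullyNormalized P) : TMax F T P := by
  refine ⟨hP.1, fun Q hQ => ?_⟩
  obtain ⟨k, hk, -, hkn, -⟩ := exists_map_normalizerIn hS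
    (isFullyAutomized_of_isFullyNormalized hS hF hP) (isReceptive_of_isFullyNormalized hS hF hP)
    (isConj_symm hQ)
  have := finite_of_le (S := S) (P := normalizerIn T P) (inf_le_left.trans hI.2.1.1)
  have hle : normalizerIn T Q ≤ normalizerIn S Q := inf_le_inf_right _ hI.2.1.1
  exact (hk.mono hle).card_le fun y hy =>
    ⟨isMap_mem_of_stronglyClosed hI.2.1 hk (hle hy) hy.1, (hkn y (hle hy)).2⟩

theorem TMax.exists_pair (hS : IsPGroup p S) (hF : F.IsSaturated p) (hI : E.IsInvariantIn F)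
    {P : Subgroup Ω} (hP : TMax F T P) :
    ∃ (P' : Subgroup Ω) (h : Ω → Ω), IsMap F (normalizerIn S P) h ∧ IsIso F P P' h ∧
      (∀ g ∈ normalizerIn S P, h g ∈ normalizerIn S P') ∧ F.IsFullyNormalized P' ∧
      F.IsFullyNormalized (P' ⊓ T) ∧
      ∀ t ∈ normalizerIn T P', ∃ t₀ ∈ normalizerIn T P, h t₀ = t := by
  obtain ⟨P', h, hh, hi, hN, hfn, hfn'⟩ := exists_fn_pair hS hF hI hP.1
  refine ⟨P', h, hh, hi, hN, hfn, hfn', fun t ht => ?_⟩
  have hle : normalizerIn T P ≤ normalizerIn S P := inf_le_inf_right _ hI.2.1.1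
  have := finite_of_le (S := S) (P := normalizerIn T P') (inf_le_left.trans hI.2.1.1)
  exact ((hh.mono hle).isIso_of_card_le (B := normalizerIn T P') (fun g hg =>
    ⟨isMap_mem_of_stronglyClosed hI.2.1 hh (hle hg) hg.1, (hN g (hle hg)).2⟩)
    (hP.2 P' hi.isConj)).surj ht

/-! ### Iteration modulo a subgroup -/

omit [Finite S] in
/-- An automorphism of order prime to `p` of a `p`-group trivial on a difference modulo `H` has that
difference in `H`. -/
theorem diff_mem {W H : Subgroup Ω} (hW : IsPGroup p W) {D : MulAut W}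
    (hD : (orderOf D).Coprime p) (hH : ∀ z ∈ W, z ∈ H → autFun D z ∈ H) {w : Ω} (hw : w ∈ W)
    (hy : ∀ i : ℕ, ((w⁻¹ * autFun D w) ^ i)⁻¹ * autFun D ((w⁻¹ * autFun D w) ^ i) ∈ H) :
    w⁻¹ * autFun D w ∈ H := by
  set y := w⁻¹ * autFun D w with hydef
  have hyW : y ∈ W := W.mul_mem (W.inv_mem hw) (autFun_mem D hw)
  have hmul : ∀ {a b : Ω}, a ∈ W → b ∈ W → autFun D (a * b) = autFun D a * autFun D b :=
    fun ha hb => by
      rw [autFun_apply D (W.mul_mem ha hb), autFun_apply D ha, autFun_apply D hb,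
        ← Subgroup.coe_mul, ← map_mul]
      rfl
  have hit : ∀ i : ℕ, (w * y ^ i)⁻¹ * autFun (D ^ i) w ∈ H := by
    intro i
    induction i with
    | zero =>
      rw [pow_zero, pow_zero, mul_one, NormalCentralizer.autFun_one hw, inv_mul_cancel]
      exact H.one_mem
    | succ i ih =>
      set r := (w * y ^ i)⁻¹ * autFun (D ^ i) w with hr
      have hwy : w * y ^ i ∈ W := W.mul_mem hw (W.pow_mem hyW i)
      have hrW : r ∈ W := W.mul_mem (W.inv_mem hwy) (autFun_mem _ hw)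
      have e : autFun (D ^ i) w = w * y ^ i * r := by rw [hr, mul_inv_cancel_left]
      rw [pow_succ' D, autFun_mul _ _ hw, e, hmul hwy hrW, hmul hw (W.pow_mem hyW i),
        show autFun D w = w * y by rw [hydef, mul_inv_cancel_left],
        show (w * y ^ (i + 1))⁻¹ * (w * y * autFun D (y ^ i) * autFun D r) =
          (y ^ i)⁻¹ * autFun D (y ^ i) * autFun D r by rw [pow_succ']; group]
      exact H.mul_mem (hy i) (hH r hrW ih)
  have hfin := hit (orderOf D)
  rw [pow_orderOf_eq_one, NormalCentralizer.autFun_one hw,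
    show (w * y ^ orderOf D)⁻¹ * w = (y ^ orderOf D)⁻¹ by group] at hfin
  obtain ⟨j, hj⟩ := hW ⟨y, hyW⟩
  have hpj : y ^ p ^ j = 1 := congrArg Subtype.val hj
  obtain ⟨u, v, huv⟩ := Nat.isCoprime_iff_coprime.2 (hD.pow_right j)
  have e : y = (y ^ orderOf D) ^ u * (y ^ p ^ j) ^ v := by
    rw [← zpow_natCast y (orderOf D), ← zpow_natCast y (p ^ j), ← zpow_mul, ← zpow_mul,
      ← zpow_add, mul_comm ((orderOf D : ℤ)), mul_comm ((↑(p ^ j) : ℤ)), huv, zpow_one]
  rw [e, hpj, one_zpow, mul_one]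
  exact H.zpow_mem (by simpa using H.inv_mem hfin) u

/-! ### The restriction to the trace in `T` -/

/-- An automorphism of order prime to `p` of `M ≤ N_T(U)` extending one in `E` of a centric `U` lies
in `E`. -/
theorem mem_autGroup_of_centric (hS : IsPGroup p S) (hE : E.IsWeaklyNormalIn F p)
    {U M : Subgroup Ω} (hU : E.IsCentric U) (hUM : U ≤ M) (hM : M ≤ normalizerIn T U)
    {g : MulAut M} (hg : g ∈ F.autGroup M) (ho : (orderOf g).Coprime p)
    (hgU : ∀ x ∈ U, autFun g x ∈ U) (hgE : IsMap E U (autFun g)) : g ∈ E.autGroup M := by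
  have hI := hE.2.2
  have hTS := hI.2.1.1
  have hTp : IsPGroup p T := hS.to_le hTS
  have := finite_of_le hTS
  have := finite_of_le (S := T) hU.1
  have hMT : M ≤ T := hM.trans inf_le_left
  have hMS := hMT.trans hTS
  have := finite_of_le hMS
  have := finite_mulAut M
  have hi : IsIso E U U (autFun g) := hgE.isIso_of_card_le hgU le_rfl
  obtain ⟨f, hf, hfv⟩ := (isReceptive_iff.1 (isReceptive_of_isFullyCentralized hTp hE.1
    (isFullyCentralized_of_isCentric hU))).2 U _ hi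
  have hmg := ((mem_autGroup_iff hMS g).1 hg).isMap
  have hMn : M ≤ nPhi T U (autFun g) := fun y hy =>
    ⟨hMT hy, (hM hy).2, autFun g y, hMT (autFun_mem g hy), fun z hz => hmg.map_conj hy (hUM hz)⟩
  have hfm := hf.mono hMn
  have hfM : ∀ y ∈ M, f y ∈ M := by
    intro y hy
    have hc : (autFun g y)⁻¹ * f y ∈ centralizerIn T U :=
      ⟨T.mul_mem (T.inv_mem (hMT (autFun_mem g hy))) (hfm.mem hy),
        mul_inv_mem_centralizer fun x hx => by
          obtain ⟨z, hz, rfl⟩ := hi.surj hx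
          rw [← hmg.map_conj hy (hUM hz), ← hfv z hz, ← hfm.map_conj hy (hUM hz),
            hfv _ (conj_mem_of_mem_normalizer (hM hy).2 hz)]⟩
    have h1 := M.mul_mem (autFun_mem g hy) (hUM (hU.2 U (isConj_refl hU.1) hc))
    rwa [mul_inv_cancel_left] at h1
  obtain ⟨g₁, hg₁, hg₁v⟩ := exists_mem_autGroup (hfm.isIso_of_card_le hfM le_rfl)
  set η := g₁⁻¹ * g with hη
  have hfix : ∀ z : M, (z : Ω) ∈ U → η z = z := fun z hz => by
    have e : g₁ z = g z := Subtype.ext (by rw [hg₁v, hfv _ hz, autFun_coe])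
    rw [hη, MulAut.mul_apply, ← e, MulAut.inv_apply_self]
  have hmod : η ∈ MeetExt.modSub U M := by
    refine ⟨hfix, fun z => hU.2 U (isConj_refl hU.1)
      ⟨T.mul_mem (T.inv_mem (hMT z.2)) (hMT (η z).2), mul_inv_mem_centralizer fun r hr => ?_⟩⟩
    have e1 : η (z * ⟨r, hUM hr⟩ * z⁻¹) = z * ⟨r, hUM hr⟩ * z⁻¹ :=
      hfix _ (conj_mem_of_mem_normalizer (hM z.2).2 hr)
    rw [map_mul, map_mul, map_inv, hfix ⟨r, hUM hr⟩ hr] at e1
    exact congrArg (fun w : M => (w : Ω)) e1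
  have hg₁F : g₁ ∈ F.autGroup M := (mem_autGroup_iff hMS g₁).2
    (((mem_autGroup_iff hMT g₁).1 hg₁).of_subsystem hI.1)
  set N := (E.autGroup M).subgroupOf (F.autGroup M)
  haveI : N.Normal := ⟨fun b hb k => by
    have hki := (mem_autGroup_iff hMS (k : MulAut M)).1 k.2
    refine Residual.mem_autGroup_transport hI hMT hki hb fun y hy => ?_
    rw [autFun_apply _ hy, autFun_apply _ hy, autFun_coe, autFun_coe]
    simp⟩
  let π := QuotientGroup.mk' N
  have heq : π ⟨g, hg⟩ = π (⟨g₁, hg₁F⟩⁻¹ * ⟨g, hg⟩) := by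
    rw [map_mul, map_inv, show π ⟨g₁, hg₁F⟩ = 1 from
      (QuotientGroup.eq_one_iff (⟨g₁, hg₁F⟩ : F.autGroup M)).2 (Subgroup.mem_subgroupOf.2 hg₁),
      inv_one, one_mul]
  obtain ⟨j, hj⟩ := MeetExt.isPGroup_modSub hS hMS ⟨η, hmod⟩
  have hjη : η ^ p ^ j = 1 := congrArg Subtype.val hj
  have h2 : π ⟨g, hg⟩ ^ orderOf g = 1 := by
    rw [← map_pow, show (⟨g, hg⟩ : F.autGroup M) ^ orderOf g = 1 from
      Subtype.ext (pow_orderOf_eq_one g), map_one]
  have h3 : π ⟨g, hg⟩ ^ p ^ j = 1 := by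
    rw [heq, ← map_pow, show (⟨g₁, hg₁F⟩⁻¹ * ⟨g, hg⟩ : F.autGroup M) ^ p ^ j = 1 from
      Subtype.ext hjη, map_one]
  exact Subgroup.mem_subgroupOf.1 <| (QuotientGroup.eq_one_iff (⟨g, hg⟩ : F.autGroup M)).1
    (NormalCentralizer.eq_one_of_coprime_pow (ho.pow_right j) h2 h3)

end CfsgLib.Fusion.Supplement
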