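import Cfsg.Agent.Lib.Fusion.PowerIndex
import Cfsg.Agent.Lib.Fusion.SupplementBase
import Cfsg.Agent.Lib.Fusion.MeetExtension
import Cfsg.Agent.Lib.Fusion.NormalCentralizerSystem
import Cfsg.Agent.Lib.Fusion.CharacteristicNormal

/-!
The subsystem of `p`-power index over the hyperfocal subgroup of a normal subsystem is normal.
-/

set_option autoImplicit false
set_option linter.unusedSectionVars false

namespace CfsgLib.Fusion.NormalPResidual

open Cfsg Cfsg.FusionSystem

variable {Ω : Type*} [Group Ω] {S T : Subgroup Ω} {F : FusionSystem S} {E : FusionSystem T}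
variable {p : ℕ} [Fact p.Prime] [Finite S]

set_option maxHeartbeats 1000000 in
/-- The residual of a normal subsystem is normal. -/
theorem isNormalIn (hS : IsPGroup p S) (hF : F.IsSaturated p) (hE : E.IsNormalIn F p)
    {H : Subgroup Ω} (hH : E.hyperfocalSubgroup p = H) {E₁ : FusionSystem H}
    (h₁ : E₁.IsSaturated p) (h₁E : E₁.IsSubsystemOf E) (hcov : PowerIndex.Cov E p H E₁) :
    E₁.IsNormalIn F p := by
  have hI := hE.1.2.2
  have hTS := hI.2.1.1
  have := finite_of_le hTS
  have hTp : IsPGroup p T := hS.to_le hTS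
  have hEs := hE.1.1
  have hHT : H ≤ T := hH ▸ hyperfocal_le
  have hHS : H ≤ S := hHT.trans hTS
  have := finite_of_le hHS
  have hHp : IsPGroup p H := hS.to_le hHS
  have hn₁ := PowerIndex.isNormalIn hTp hEs hHT
    ⟨fun x hx g => hH ▸ conj_mem_hyperfocal g.2 (hH.symm ▸ hx)⟩ hH.le h₁ h₁E hcov
  have hI₁ := hn₁.1.2.2
  -- stability
  have hstab : ∀ a ∈ F.autGroup T, ∀ x ∈ H, autFun a x ∈ H := fun a ha x hx => by
    have h := transport_of_invariant hI ha
    have h1 := h.mem_img hHT hx
    rw [← hH] at h1 ⊢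
    rwa [← h.hyperfocal_eq hTp hEs] at h1
  have hsc : F.StronglyClosed H := stronglyClosed_iff.2 ⟨hHS, fun P f hf x hx hxH => by
    obtain ⟨a, ha, f₀, hf₀, hv⟩ :=
      exists_frattini hI inf_le_right (hf.mono (inf_le_left : P ⊓ T ≤ P))
    rw [hv x ⟨hx, hHT hxH⟩]
    exact hstab a ha _ (isMap_mem_of_stronglyClosed hI₁.2.1 hf₀ ⟨hx, hHT hxH⟩ hxH)⟩
  have hinv : E₁.IsInvariantIn F := by
    refine ⟨fun P φ hφ => hI.1 P (h₁E P hφ), hsc, fun P hPH φ hφ a ha => ?_, fun P hP φ hφ => ?_⟩
    · have hM := PPrime.isSubPred_conjd (F := E₁) (E := E₁) a⁻¹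
      have hai := (F.autGroup H).inv_mem ha
      have hc : PowerIndex.Cov E p H (PPrime.ofPred E₁ _ hM) := by
        intro R hR α hα ho
        have hi : IsIso F R (imageAut a⁻¹⁻¹ R) (autFun a⁻¹⁻¹) :=
          ⟨((mem_autGroup_iff hHS a⁻¹⁻¹).1 ((F.autGroup H).inv_mem hai)).isMap.mono hR,
            coe_imageAut a⁻¹⁻¹ hR⟩
        have hval : ∀ y ∈ R, autFun a⁻¹⁻¹ (autFun α y) =
            autFun (MulAut.congr hi.equiv α) (autFun a⁻¹⁻¹ y) := fun y hy => by
          rw [autFun_apply α hy, autFun_apply _ (hi.mem hy)]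
          exact (hi.congr_apply α ⟨y, hy⟩).symm
        have h := hcov _ (imageAut_le _ _) _
          (Residual.mem_autGroup_transport hI (hR.trans hHT) hi hα hval)
          (by rwa [MulEquiv.orderOf_eq])
        refine mem_autGroup_of_isMap ((PPrime.isMap_ofPred hM).2
          ⟨((mem_autGroup_iff hR α).1 (hcov R hR α hα ho)).isMap,
            ((mem_autGroup_iff (imageAut_le _ _) _).1 h).isMap.congr fun y hy => ?_⟩) α
              fun x => (autFun_coe α x).symm
        obtain ⟨x, hx, rfl⟩ := hi.surj hy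
        show _ = autFun a⁻¹⁻¹ (autFun α (autFun a⁻¹ (autFun a⁻¹⁻¹ x)))
        rw [PPrime.autFun_autFun_inv a⁻¹ (hR hx), hval x hx]
      have h1 := ((PPrime.isMap_ofPred hM).1 (isMap_of_subsystem
        (PowerIndex.le_of_cov hTp hHT h₁ h₁E le_rfl hc) (isMap_homFun hφ))).2
      rw [inv_inv] at h1
      obtain ⟨χ, hχ, hχv⟩ := h1
      refine ⟨χ, hχ, fun x hφx hax => ?_⟩
      refine (hχv ⟨_, hax⟩).trans ?_
      show autFun a (homFun φ (autFun a⁻¹ ((a ⟨x, hPH x.2⟩ : H) : Ω))) = _
      rw [← autFun_apply a (hPH x.2), PPrime.autFun_inv_autFun a (hPH x.2), homFun_coe,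
        autFun_apply a hφx]
    · obtain ⟨a, ha, f₀, hf₀, hv⟩ := exists_frattini hI (hP.trans hHT) (isMap_homFun hφ)
      obtain ⟨b, hb, f₁, hf₁, hv'⟩ := exists_frattini hI₁ hP hf₀
      have hcomp : IsMap F H (autFun a ∘ autFun b) :=
        (isMap_of_subsystem hI.1 ((mem_autGroup_iff hHT b).1 hb).isMap).comp
          ((mem_autGroup_iff hTS a).1 ha).isMap fun x hx => hHT (autFun_mem b hx)
      obtain ⟨c, hc, hcv⟩ := exists_mem_autGroup (hcomp.isIso_of_card_le
        (fun x hx => hstab a ha _ (autFun_mem b hx)) le_rfl)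
      obtain ⟨φ₀, hφ₀, hφ₀v⟩ := hf₁.exists_hom
      refine ⟨c, hc, φ₀, hφ₀, fun x hx => ?_⟩
      rw [hcv, ← homFun_coe φ x, hv x x.2, hv' x x.2, ← hφ₀v x]
      rfl
  refine ⟨⟨h₁, hF, hinv⟩, ?_⟩
  -- extensions
  set C := centralizerIn S H
  set W := H ⊔ C
  have hWS : W ≤ S := sup_le hHS inf_le_left
  have := finite_of_le hWS
  have := finite_mulAut W
  have := finite_mulAut H
  have hZ : ∀ {g : Ω}, g ∈ H → g ∈ Subgroup.normalizer (W : Set Ω) := fun hg =>
    Subgroup.le_normalizer (Subgroup.mem_sup_left hg)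
  -- the automorphisms that extend
  let X : Subgroup (MulAut H) :=
    { carrier := {α | ∃ β ∈ F.autGroup W, (∀ x ∈ H, autFun β x = autFun α x) ∧
        ∀ c ∈ C, c⁻¹ * autFun β c ∈ H ⊓ Subgroup.centralizer (H : Set Ω)}
      one_mem' := ⟨1, Subgroup.one_mem _, fun x hx => by
        rw [NormalCentralizer.autFun_one (Subgroup.mem_sup_left hx),
          NormalCentralizer.autFun_one hx], fun c hc => by
        rw [NormalCentralizer.autFun_one (Subgroup.mem_sup_right hc), inv_mul_cancel]
        exact Subgroup.one_mem _⟩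
      mul_mem' := by
        rintro α α' ⟨β, hβ, h1, h2⟩ ⟨β', hβ', h1', h2'⟩
        refine ⟨β * β', Subgroup.mul_mem _ hβ hβ', fun x hx => ?_, fun c hc => ?_⟩
        · rw [CfsgLib.Fusion.autFun_mul _ _ (Subgroup.mem_sup_left hx),
            CfsgLib.Fusion.autFun_mul _ _ hx, h1' x hx, h1 _ (autFun_mem α' hx)]
        · have hz := h2' c hc
          set z := c⁻¹ * autFun β' c
          have hm := ((mem_autGroup_iff hWS β).1 hβ).isMap
          have hβz : autFun β z = autFun α z := h1 z hz.1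
          have hαz : autFun α z ∈ H ⊓ Subgroup.centralizer (H : Set Ω) := by
            refine ⟨autFun_mem α hz.1, mem_centralizer_of_conj_eq fun y hy => ?_⟩
            obtain ⟨u, hu⟩ := α.surjective ⟨y, hy⟩
            have e : autFun α (u : Ω) = y := by rw [autFun_coe, hu]
            have h3 : z * (u : Ω) * z⁻¹ = u := conj_eq_self_of_mem_centralizer hz.2 u.2
            rw [← e, autFun_apply α hz.1, autFun_coe, ← Subgroup.coe_inv, ← Subgroup.coe_mul,
              ← Subgroup.coe_mul, ← map_inv, ← map_mul, ← map_mul]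
            exact congrArg Subtype.val (congrArg α (Subtype.ext h3))
          rw [CfsgLib.Fusion.autFun_mul _ _ (Subgroup.mem_sup_right hc),
            show autFun β' c = c * z from (mul_inv_cancel_left _ _).symm,
            hm.map_mul (Subgroup.mem_sup_right hc) (Subgroup.mem_sup_left hz.1), ← mul_assoc, hβz]
          exact Subgroup.mul_mem _ (h2 c hc) hαz
      inv_mem' := by
        rintro α ⟨β, hβ, h1, h2⟩
        refine ⟨β⁻¹, Subgroup.inv_mem _ hβ, fun x hx => ?_, fun c hc => ?_⟩
        · conv_lhs => rw [show x = autFun α (autFun α⁻¹ x) by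
            rw [← CfsgLib.Fusion.autFun_mul _ _ hx, mul_inv_cancel,
              NormalCentralizer.autFun_one hx]]
          have hy := autFun_mem α⁻¹ hx
          rw [← h1 _ hy, ← CfsgLib.Fusion.autFun_mul _ _ (Subgroup.mem_sup_left hy),
            inv_mul_cancel, NormalCentralizer.autFun_one (Subgroup.mem_sup_left hy)]
        · have hz := h2 c hc
          set z := c⁻¹ * autFun β c
          have hm := ((mem_autGroup_iff hWS β⁻¹).1 (Subgroup.inv_mem _ hβ)).isMap
          have hcW : c ∈ W := Subgroup.mem_sup_right hc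
          have e : autFun β⁻¹ c * autFun β⁻¹ z = c := by
            rw [← hm.map_mul hcW (Subgroup.mem_sup_left hz.1),
              show c * z = autFun β c from mul_inv_cancel_left _ _,
              ← CfsgLib.Fusion.autFun_mul _ _ hcW, inv_mul_cancel,
              NormalCentralizer.autFun_one hcW]
          set w := autFun β⁻¹ z
          have hw : w ∈ H ⊓ Subgroup.centralizer (H : Set Ω) := by
            have hwH : w ∈ H := isMap_mem_of_stronglyClosed hsc hm (Subgroup.mem_sup_left hz.1) hz.1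
            refine ⟨hwH, mem_centralizer_of_conj_eq fun y hy => ?_⟩
            have hy' : autFun β y ∈ H := by rw [h1 y hy]; exact autFun_mem α hy
            have h3 := congrArg (autFun β⁻¹) (conj_eq_self_of_mem_centralizer hz.2 hy')
            rw [hm.map_conj (Subgroup.mem_sup_left hz.1) (Subgroup.mem_sup_left hy'),
              ← CfsgLib.Fusion.autFun_mul _ _ (Subgroup.mem_sup_left hy), inv_mul_cancel,
              NormalCentralizer.autFun_one (Subgroup.mem_sup_left hy)] at h3
            exact h3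
          rw [show c⁻¹ * autFun β⁻¹ c = w⁻¹ by
            rw [eq_inv_iff_mul_eq_one, mul_assoc, e, inv_mul_cancel]]
          exact Subgroup.inv_mem _ hw }
  have hHfn : F.IsFullyNormalized H :=
    NormalCentralizer.isFullyNormalized_of_closed hHS fun Q f hf x hx hxH => isMap_mem_of_stronglyClosed hsc hf hx hxH
  intro α hα
  suffices hαX : α ∈ X by
    obtain ⟨β, hβ, h1, h2⟩ := hαX
    refine ⟨β, hβ, fun x => ?_, fun c hc => ?_⟩
    · rw [← autFun_coe β, ← autFun_coe α]
      exact h1 x x.2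
    · rw [← autFun_coe β]
      exact h2 c hc
  have hH₁ : E₁.IsFullyNormalized H := ⟨le_rfl, fun Q hQ => by
    obtain ⟨g, hg⟩ := isConj_iff.1 hQ
    rw [Subgroup.eq_of_le_of_card_ge hg.le_right hg.card_eq.ge]⟩
  obtain ⟨-, Sy, hSy⟩ := isFullyAutomized_of_isFullyNormalized hHp h₁ hH₁
  refine ModelNormal.le_of_sylow_coprime (A := X) Sy (fun a ha => ?_) (fun a ha hao => ?_) hα
  · rw [hSy] at ha
    obtain ⟨g, hg, hv⟩ := (mem_autInducedBy_iff H H _).1 ha
    refine ⟨conjAut W (hZ hg), autInducedBy_le_autGroup hWS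
      (conjAut_mem_autInducedBy (hZ hg) (hHS hg)), fun x hx => ?_, fun c hc => ?_⟩
    · rw [autFun_apply _ (Subgroup.mem_sup_left hx), conjAut_apply, autFun_apply _ hx]
      exact (hv ⟨x, hx⟩).symm
    · rw [autFun_apply _ (Subgroup.mem_sup_right hc), conjAut_apply]
      show c⁻¹ * (g * c * g⁻¹) ∈ _
      rw [Subgroup.mem_centralizer_iff.1 hc.2 g hg, mul_inv_cancel_right, inv_mul_cancel]
      exact Subgroup.one_mem _
  -- order prime to `p`
  have haE : a ∈ E.autGroup H := (mem_autGroup_iff hHT a).2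
    (((mem_autGroup_iff le_rfl a).1 ha).of_subsystem h₁E)
  obtain ⟨δ, hδ, hδH, hδE, hδT⟩ := MeetExt.exists_ext_trivial' (W := W) hS hF hE hHT hHfn haE hao
    (sup_le (le_normalizerIn hHS) (centralizerIn_le_normalizerIn S H)) le_sup_left le_sup_right
    fun w hw => by
      obtain ⟨t, ht, c, hc, rfl⟩ :=
        Residual.exists_mul_of_mem_sup (Residual.cs_le_centralizer le_rfl) hw
      refine ⟨autFun a t * c, Subgroup.mul_mem_sup (autFun_mem a ht) hc, fun y hy => ?_⟩
      have e1 : t * c * y * (t * c)⁻¹ = t * y * t⁻¹ := by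
        rw [show t * c * y * (t * c)⁻¹ = t * (c * y * c⁻¹) * t⁻¹ by group,
          conj_eq_self_of_mem_centralizer hc.2 hy]
      have e2 : autFun a t * c * autFun a y * (autFun a t * c)⁻¹ =
          autFun a t * autFun a y * (autFun a t)⁻¹ := by
        rw [show autFun a t * c * autFun a y * (autFun a t * c)⁻¹ =
          autFun a t * (c * autFun a y * c⁻¹) * (autFun a t)⁻¹ by group,
          conj_eq_self_of_mem_centralizer hc.2 (autFun_mem a hy)]
      rw [e1, e2, ((mem_autGroup_iff le_rfl a).1 ha).isMap.map_conj ht hy]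
  obtain ⟨γ, hγ, hγv⟩ := exists_mem_autGroup hδ
  have hγ' : ∀ x ∈ W, autFun γ x = δ x := fun x hx => (autFun_apply γ hx).trans (hγv ⟨x, hx⟩)
  obtain ⟨m, hm1, hmo⟩ := Residual.exists_pPrime_pow (p := p) γ hao
  set β := γ ^ m
  have hβ : β ∈ F.autGroup W := (F.autGroup W).pow_mem hγ m
  have hβH : ∀ x ∈ H, autFun β x = autFun a x := fun x hx => by
    rw [NormalCentralizer.autFun_pow_eq le_sup_left (fun y hy =>
      (hγ' y (Subgroup.mem_sup_left hy)).trans (hδH y hy)) m x hx,
      Residual.pow_eq_self_of_modEq hm1]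
  have hβm := ((mem_autGroup_iff hWS β).1 hβ).isMap
  -- the restriction to `U = H C_T(H)`
  set U := H ⊔ centralizerIn T H with hU
  have hUT : U ≤ T := sup_le hHT inf_le_left
  have hUW : U ≤ W := sup_le_sup le_rfl (inf_le_inf_right _ hTS)
  have := finite_of_le (hUT.trans hTS)
  have := finite_mulAut U
  have hδU : ∀ z ∈ U, δ z ∈ U := fun z hz =>
    mem_of_mem_sup hδE le_sup_left le_sup_right
      (fun y hy => Subgroup.mem_sup_left (by rw [hδH y hy]; exact autFun_mem a hy))
      (fun y hy => Subgroup.mem_sup_right (hδE.mem_centralizerIn le_sup_left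
        (((mem_autGroup_iff hHT a).1 haE).congr fun x hx => (hδH x hx).symm)
        (Subgroup.mem_sup_right hy) hy.2)) z hz
  obtain ⟨ε, hε, hεv⟩ := exists_mem_autGroup (hδE.isIso_of_card_le hδU le_rfl)
  have hεβ : ∀ z ∈ U, autFun β z = autFun (ε ^ m) z := NormalCentralizer.autFun_pow_eq hUW
    (fun z hz => by rw [hγ' z (hUW hz), autFun_apply ε hz, hεv]) m
  have hεo : (orderOf (ε ^ m)).Coprime p :=
    NormalCentralizer.coprime_orderOf_restrict hUW hεβ hmo
  refine ⟨β, hβ, hβH, fun c hc => ?_⟩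
  have hcW : c ∈ W := Subgroup.mem_sup_right hc
  set y := c⁻¹ * autFun β c
  have hyC : y ∈ centralizerIn S H := by
    have h1 := hβm.mem_centralizerIn le_sup_left
      ((((mem_autGroup_iff hHT a).1 haE).of_subsystem hI.1).congr fun x hx => (hβH x hx).symm)
      hcW hc.2
    exact Subgroup.mul_mem _ (Subgroup.inv_mem _ hc) h1
  have hyT : y ∈ T := by
    have key : ∀ i : ℕ, autFun (γ ^ i) c ∈ C ∧ c⁻¹ * autFun (γ ^ i) c ∈ T := by
      intro i
      induction i with
      | zero =>
        rw [pow_zero, NormalCentralizer.autFun_one hcW, inv_mul_cancel]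
        exact ⟨hc, T.one_mem⟩
      | succ i ih =>
        rw [pow_succ', CfsgLib.Fusion.autFun_mul _ _ hcW,
          hγ' _ (Subgroup.mem_sup_right ih.1)]
        refine ⟨hδ.isMap.mem_centralizerIn le_sup_left
          ((((mem_autGroup_iff hHT a).1 haE).of_subsystem hI.1).congr fun x hx => (hδH x hx).symm)
          (Subgroup.mem_sup_right ih.1) ih.1.2, ?_⟩
        have := T.mul_mem ih.2 (hδT _ ih.1)
        simpa [mul_assoc] using this
    exact (key m).2
  refine ⟨Supplement.diff_mem (hS.to_le hWS) hmo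
    (fun z hz hzH => isMap_mem_of_stronglyClosed hsc hβm hz hzH) hcW fun i => ?_, hyC.2⟩
  have hyi : y ^ i ∈ U :=
    Subgroup.pow_mem _ (Subgroup.mem_sup_right (⟨hyT, hyC.2⟩ : y ∈ centralizerIn T H)) i
  rw [hεβ _ hyi, ← hH]
  have h2 := inv_mul_mem_hyperfocal (F := E) hUT (α := ⟨ε ^ m, (E.autGroup U).pow_mem hε m⟩)
    (CfsgLib.Transfer.mem_pResidual_of_coprime (by rw [← Subgroup.orderOf_coe]; exact hεo))
    ⟨y ^ i, hyi⟩
  rwa [← autFun_apply _ hyi] at h2

end CfsgLib.Fusion.NormalPResidual
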