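import Cfsg.Agent.Lib.Fusion.ResidualLimit
import Cfsg.Agent.Lib.Fusion.WeaklyNormalResidual
import Cfsg.Agent.Lib.Fusion.NormalPResidual
import Cfsg.Agent.Lib.Fusion.MeetNormal

/-!
The residual limit of a normal subsystem is normal, and grows with the subsystem.
-/

set_option autoImplicit false
set_option linter.unusedSectionVars false

namespace CfsgLib.Fusion.Envelope

open Cfsg Cfsg.FusionSystem

universe u

variable {Ω : Type u} [Group Ω] {S : Subgroup Ω} {F : FusionSystem S}
variable {p : ℕ} [Fact p.Prime] [Finite S]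

/-- The residual of `p`-power index is monotone. -/
theorem pResidual_mono (hS : IsPGroup p S) {T U : Subgroup Ω} {X : FusionSystem T}
    {Y : FusionSystem U} (hTS : T ≤ S) (hUS : U ≤ S) (hXY : X.IsSubsystemOf Y)
    {D : FusionSystem (X.hyperfocalSubgroup p)} (hD : X.IsPResidual p D)
    {D' : FusionSystem (Y.hyperfocalSubgroup p)} (hD' : Y.IsPResidual p D') :
    D.IsSubsystemOf D' := by
  have := finite_of_le hUS
  have := finite_of_le hTS
  have hh : X.hyperfocalSubgroup p ≤ Y.hyperfocalSubgroup p := PowerIndex.hyperfocal_mono hXY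
  refine PowerIndex.le_of_cov (F := Y) (hS.to_le hUS) (hh.trans hyperfocal_le) hD.1
    (fun P φ hφ => hXY P (hD.2.1 P hφ)) hh fun P hP α hα ho => ?_
  exact PowerIndex.cov_iff.2 hD'.2.2.2 P (hP.trans hh) α hα ho

/-- The `p`-residual of a normal subsystem is normal. -/
theorem pResidual_normal (hS : IsPGroup p S) (hF : F.IsSaturated p) {T : Subgroup Ω}
    {X : FusionSystem T} (hX : X.IsNormalIn F p) {D : FusionSystem (X.hyperfocalSubgroup p)}
    (hD : X.IsPResidual p D) : D.IsNormalIn F p :=
  NormalPResidual.isNormalIn hS hF hX rfl hD.1 hD.2.1 (PowerIndex.cov_iff.2 hD.2.2.2)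

/-- The residual of index prime to `p` is monotone on normal subsystems. -/
theorem pPrimeResidual_mono (hS : IsPGroup p S) (hF : F.IsSaturated p) {T U : Subgroup Ω}
    {X : FusionSystem T} {Y : FusionSystem U} (hX : X.IsNormalIn F p) (hY : Y.IsNormalIn F p)
    (hXY : X.IsSubsystemOf Y) {D : FusionSystem T} (hD : X.IsPPrimeResidual p D)
    {D' : FusionSystem U} (hD' : Y.IsPPrimeResidual p D') : D.IsSubsystemOf D' := by
  have hTS := hX.1.2.2.2.1.1
  have := finite_of_le hTS
  have hTU : T ≤ U := (Y.le_of_mem (hXY T (subtype_mem X le_rfl))).1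
  obtain ⟨M, ⟨hMF, -, hMD'⟩, -⟩ := MeetNormal.exists_meet_normal hS hF hX
    (Residual.isNormalIn_residual hS hY.1 hD')
  have hTUe : T ⊓ U = T := inf_eq_left.2 hTU
  suffices H : ∀ (W : Subgroup Ω) (M : FusionSystem W), W = T → M.IsWeaklyNormalIn F p →
      M.IsSubsystemOf D' → D.IsSubsystemOf D' from H _ M hTUe hMF.1 hMD'.1.2.2.1
  rintro W M rfl hM hMD P φ hφ
  refine hMD P (Residual.E0_le_of_weaklyNormal hS hX.1 hM P ?_)
  obtain ⟨h0s, h0i, -⟩ := PPrime.isPPrimeResidual_E0 (hS.to_le hTS) hX.1.1
  exact hD.2.2 _ h0s h0i P hφ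

/-- A limit is stable. -/
theorem limit_stable {U : Subgroup Ω} {X : FusionSystem S} {L : FusionSystem U}
    (hL : L.IsResidualLimitOf X p) :
    L.hyperfocalSubgroup p = U ∧ L.IsPPrimeResidual p L := by
  induction hL with
  | stable _ _ h h' => exact ⟨h, h'⟩
  | step _ _ _ _ _ _ _ ih => exact ih

/-- A limit of a normal subsystem is normal. -/
theorem limit_normal {T U : Subgroup Ω}
    {X : FusionSystem T} {L : FusionSystem U} (hL : L.IsResidualLimitOf X p) :
    IsPGroup p S → F.IsSaturated p → X.IsNormalIn F p → L.IsNormalIn F p := by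
  rename_i hp hfin
  revert hp hfin
  induction hL with
  | stable =>
    intro hp hfin _ _ h
    exact h
  | step X p D D' h1 h2 _ ih =>
    intro hp hfin hS hF hX
    exact ih hS hF (Residual.isNormalIn_residual hS (pResidual_normal hS hF hX h1).1 h2)

/-- A limit is contained in its system. -/
theorem limit_sub {T U : Subgroup Ω} {X : FusionSystem T} {L : FusionSystem U}
    (hL : L.IsResidualLimitOf X p) : L.IsSubsystemOf X := by
  induction hL with
  | stable => exact fun _ _ h => h
  | step X p D D' h1 h2 _ ih => exact fun P φ hφ => h1.2.1 P (h2.2.1.1 P (ih P hφ))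

/-- Limits are monotone on normal subsystems. -/
theorem limit_mono {T U V V' : Subgroup Ω} {X : FusionSystem T} {Y : FusionSystem U}
    {L : FusionSystem V} {L' : FusionSystem V'} (hL' : L'.IsResidualLimitOf Y p) :
    IsPGroup p S → F.IsSaturated p → X.IsNormalIn F p → Y.IsNormalIn F p → X.IsSubsystemOf Y →
      L.IsResidualLimitOf X p → L.IsSubsystemOf L' := by
  rename_i hp hfin
  revert hp hfin
  induction hL' generalizing T V with
  | stable Y p h h' =>
    intro hp hfin _ _ _ _ hXY hL P φ hφ
    exact hXY P (limit_sub hL P hφ)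
  | step Y p D D' h1 h2 _ ih =>
    intro hp hfin hS hF hX hY hXY hL
    have hTS := hX.1.2.2.2.1.1
    have := finite_of_le hTS
    obtain ⟨D₁, D₁', k1, k2, W, M, k3, k4⟩ := ResidualLimit.exists_step hX.1.1 hL
    have hD₁ := pResidual_normal hS hF hX k1
    have hD := pResidual_normal hS hF hY h1
    have hUS := hY.1.2.2.2.1.1
    have hsub := pPrimeResidual_mono hS hF hD₁ hD
      (pResidual_mono hS hTS hUS hXY k1 h1) k2 h2
    intro P φ hφ
    exact ih hS hF (Residual.isNormalIn_residual hS hD₁.1 k2)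
      (Residual.isNormalIn_residual hS hD.1 h2) hsub k3 P ((k4 P).symm ▸ hφ)

end CfsgLib.Fusion.Envelope
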