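import Cfsg.Agent.Lib.Fusion.EnvelopeStep
import Cfsg.Agent.Lib.Fusion.EnvelopeMono
import Cfsg.Prelude.Def_Local

/-!
The normal envelope of a normal subsystem with `p`-solvable automizer quotient: a normal subsystem
over `T C_S(T)` with the same automizer of `T`, containing every residual limit.
-/

set_option autoImplicit false
set_option linter.unusedSectionVars false
set_option linter.style.haveILetI false

namespace CfsgLib.Fusion.Envelope

open Cfsg Cfsg.FusionSystem
open CfsgLib.Fusion.Supplement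

universe u

variable {Ω : Type u} [Group Ω] {S T U : Subgroup Ω} {F : FusionSystem S}
variable {p : ℕ} [Fact p.Prime] [Finite S]

/-- A normal subsystem of a normal subsystem stable under the automizer is normal, if it is over a
subgroup containing its centraliser. -/
theorem normal_trans {U' : Subgroup Ω} {G : FusionSystem U} {G' : FusionSystem U'}
    (hS : IsPGroup p S) (hG : G.IsNormalIn F p) (hG' : G'.IsSaturated p)
    (hG'I : G'.IsInvariantIn G) (hU' : centralizerIn S U' ≤ U')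
    (hstab : ∀ a ∈ F.autGroup U, ∀ x ∈ U', autFun a x ∈ U')
    (hinv : ∀ a ∈ F.autGroup U', ∀ (P : Subgroup Ω) (f : Ω → Ω), IsMap G' P f →
      IsMap G' (imageAut a⁻¹ P) (autFun a⁻¹ ∘ f ∘ autFun a)) :
    G'.IsNormalIn F p := by
  have hUU : U' ≤ U := hG'I.2.1.1
  have hUS : U ≤ S := hG.1.2.2.2.1.1
  have hU'S : U' ≤ S := hUU.trans hUS
  have : Finite U' := finite_of_le hU'S
  have hGI := hG.1.2.2
  have hsc : F.StronglyClosed U' := by
    refine stronglyClosed_iff.2 ⟨hU'S, fun P f hf x hx hxU => ?_⟩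
    have hle : Subgroup.zpowers x ≤ U' := Subgroup.zpowers_le.2 hxU
    have hleP : Subgroup.zpowers x ≤ P := Subgroup.zpowers_le.2 hx
    obtain ⟨a, ha, f₀, hf₀, hv⟩ := exists_frattini hGI (hle.trans hUU) (hf.mono hleP)
    have hxz := Subgroup.mem_zpowers x
    have h1 : f₀ x ∈ U' := isMap_mem_of_stronglyClosed hG'I.2.1 hf₀ hxz hxU
    rw [hv x hxz]
    exact hstab a ha _ h1
  refine ⟨⟨hG', hG.1.2.1, fun P φ hφ => hGI.1 P (hG'I.1 P hφ), hsc, ?_, ?_⟩, fun α hα => ?_⟩
  · intro P hPT φ hφ a ha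
    have h1 := hinv a⁻¹ ((F.autGroup U').inv_mem ha) P _ (isMap_homFun hφ)
    rw [inv_inv] at h1
    obtain ⟨χ, hχ, hχv⟩ := h1
    refine ⟨χ, hχ, fun x hφx hax => ?_⟩
    refine (hχv ⟨_, hax⟩).trans ?_
    show autFun a (homFun φ (autFun a⁻¹ ((a ⟨x, hPT x.2⟩ : U') : Ω))) = _
    rw [← autFun_apply a (hPT x.2), PPrime.autFun_inv_autFun a (hPT x.2), homFun_coe,
      autFun_apply a hφx]
  · intro P hP φ hφ
    obtain ⟨a, ha, f₀, hf₀, hv⟩ := exists_frattini hGI (hP.trans hUU) (isMap_homFun hφ)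
    obtain ⟨b, hb, f₁, hf₁, hw⟩ := exists_frattini hG'I hP hf₀
    have haS := (mem_autGroup_iff hUS a).1 ha
    obtain ⟨c, hc, hcv⟩ := exists_mem_autGroup ((haS.isMap.mono hUU).isIso_of_card_le
      (B := U') (fun z hz => hstab a ha z hz) le_rfl)
    have hbF : b ∈ F.autGroup U' := (mem_autGroup_iff hU'S b).2
      (((mem_autGroup_iff hUU b).1 hb).of_subsystem hGI.1)
    obtain ⟨φ₁, hφ₁, hw₁⟩ := hf₁
    refine ⟨c * b, (F.autGroup U').mul_mem hc hbF, φ₁, hφ₁, fun x hx => ?_⟩
    have e := hv x x.2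
    rw [homFun_coe, hw x x.2, ← hw₁ x] at e
    rw [e, ← autFun_coe (c * b) ⟨φ₁ x, hx⟩, CfsgLib.Fusion.autFun_mul _ _ hx,
      autFun_apply c (autFun_mem b hx), hcv]
  · have hXeq : U' ⊔ centralizerIn S U' = U' := sup_eq_left.2 hU'
    have hαF : IsIso F U' U' (autFun α) :=
      (((mem_autGroup_iff le_rfl α).1 hα).of_subsystem hG'I.1).of_subsystem hGI.1
    have : Finite ↥(U' ⊔ centralizerIn S U') := finite_of_le (show U' ⊔ centralizerIn S U' ≤ S by rw [hXeq]; exact hU'S)
    have hαX : IsIso F (U' ⊔ centralizerIn S U') (U' ⊔ centralizerIn S U') (autFun α) := by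
      rw [hXeq]; exact hαF
    obtain ⟨β, hβ, hβv⟩ := exists_mem_autGroup hαX
    refine ⟨β, hβ, fun x => by rw [hβv, ← autFun_coe α x]; rfl, fun c hc => ?_⟩
    rw [hβv]
    have hm : autFun α c ∈ centralizerIn S U' :=
      hαF.isMap.mem_centralizerIn le_rfl hαF (hU' hc) hc.2
    exact ⟨U'.mul_mem (U'.inv_mem (hU' hc)) (hU' hm),
      Subgroup.mul_mem _ (Subgroup.inv_mem _ hc.2) hm.2⟩

/-- A `p`-solvable group separates a nontrivial subgroup. -/
theorem exists_proper_of_isPSolvable {Q : Type*} [Group Q] [Finite Q] (hQ : Cfsg.IsPSolvable p Q)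
    (H : Subgroup Q) (hH : H ≠ ⊥) : ∃ K : Subgroup Q, K < H ∧
      ((∀ x ∈ H, (orderOf x).Coprime p → x ∈ K) ∨
        ∀ x ∈ H, ∀ k : ℕ, orderOf x = p ^ k → x ∈ K) := by
  obtain ⟨n, L, h0, hl, hmono, hn, hrel⟩ := hQ
  have hex : ∀ i : ℕ, ∀ hi : i < n + 1, H ≤ L ⟨i, hi⟩ →
      ∃ j : Fin n, ¬ H ≤ L j.castSucc ∧ H ≤ L j.succ := by
    intro i
    induction i with
    | zero =>
      intro hi hle
      exact absurd (le_bot_iff.1 (hle.trans (le_of_eq h0))) hH
    | succ i ih =>
      intro hi hle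
      by_cases h : H ≤ L ⟨i, by omega⟩
      · exact ih (by omega) h
      · exact ⟨⟨i, by omega⟩, h, hle⟩
  obtain ⟨j, hj, hj'⟩ := hex n (by omega) (hl.symm ▸ le_top)
  refine ⟨H ⊓ L j.castSucc, lt_of_le_of_ne inf_le_left fun e => hj (inf_eq_left.1 e), ?_⟩
  haveI := hn j.castSucc
  have key : ∀ x ∈ H, ∀ m : ℕ, orderOf x = m →
      Nat.Coprime m ((L j.castSucc).relIndex (L j.succ)) → x ∈ H ⊓ L j.castSucc := by
    intro x hx m hm hco
    refine ⟨hx, ?_⟩
    set K := (L j.castSucc).subgroupOf (L j.succ)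
    set y : L j.succ ⧸ K := QuotientGroup.mk ⟨x, hj' hx⟩
    have h1 : y ^ m = 1 := by
      rw [← QuotientGroup.mk_pow, ← hm]
      have : (⟨x, hj' hx⟩ : L j.succ) ^ orderOf x = 1 := Subtype.ext (pow_orderOf_eq_one x)
      rw [this, QuotientGroup.mk_one]
    have h2 : y ^ (L j.castSucc).relIndex (L j.succ) = 1 := pow_card_eq_one'
    have h3 := NormalCentralizer.eq_one_of_coprime_pow hco h1 h2
    exact Subgroup.mem_subgroupOf.1 ((QuotientGroup.eq_one_iff _).1 h3)
  rcases hrel j with ⟨m, hm⟩ | hco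
  · exact Or.inl fun x hx ho => key x hx _ rfl (hm ▸ ho.pow_right m)
  · exact Or.inr fun x hx k hk => key x hx _ hk (hco.symm.pow_left k)

variable {E : FusionSystem T}

/-- The stages of the construction. -/
structure Stage (F : FusionSystem S) (E : FusionSystem T) (p : ℕ) (G : FusionSystem U) : Prop where
  normal : G.IsNormalIn F p
  sup_le : T ⊔ centralizerIn S T ≤ U
  normalE : E.IsNormalIn G p
  limit_le : ∀ {V : Subgroup Ω} (L : FusionSystem V), L.IsResidualLimitOf F p → L.IsSubsystemOf G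

theorem stage_self (hS : IsPGroup p S) (hE : E.IsNormalIn F p) : Stage F E p F where
  normal := by
    refine ⟨⟨hE.1.2.1, hE.1.2.1, ResidualSeries.isInvariantIn_self F⟩, fun α hα => ?_⟩
    have hXeq : S ⊔ centralizerIn S S = S := sup_eq_left.2 inf_le_left
    have : Finite ↥(S ⊔ centralizerIn S S) := finite_of_le hXeq.le
    have hαX : IsIso F (S ⊔ centralizerIn S S) (S ⊔ centralizerIn S S) (autFun α) := by
      rw [hXeq]; exact (mem_autGroup_iff le_rfl α).1 hα
    obtain ⟨β, hβ, hβv⟩ := exists_mem_autGroup hαX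
    refine ⟨β, hβ, fun x => by rw [hβv, ← autFun_coe α x]; rfl, fun c hc => ?_⟩
    rw [hβv]
    have hm : autFun α c ∈ centralizerIn S S := ((mem_autGroup_iff le_rfl α).1 hα).isMap.mem_centralizerIn
      le_rfl ((mem_autGroup_iff le_rfl α).1 hα) hc.1 hc.2
    exact ⟨S.mul_mem (S.inv_mem hc.1) hm.1,
      Subgroup.mul_mem _ (Subgroup.inv_mem _ hc.2) hm.2⟩
  sup_le := _root_.sup_le hE.1.2.2.2.1.1 inf_le_left
  normalE := hE
  limit_le := fun _ hL => limit_sub hL

variable {G : FusionSystem U} (hS : IsPGroup p S) (hF : F.IsSaturated p) (hE : E.IsNormalIn F p)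
  (hst : Stage F E p G)
include hS hF hE hst

theorem Stage.data : Data G p E :=
  ⟨hS.to_le hst.normal.1.2.2.2.1.1, hst.normal.1.1, hst.normalE⟩

theorem Stage.autGroup_le : G.autGroup T ≤ F.autGroup T := fun a ha =>
  (mem_autGroup_iff hE.1.2.2.2.1.1 a).2
    (((mem_autGroup_iff hst.normalE.1.2.2.2.1.1 a).1 ha).of_subsystem hst.normal.1.2.2.1)

/-- `Aut_F(T)` normalises `Aut_G(T)`. -/
theorem Stage.conj_autGroup {a b : MulAut T} (ha : a ∈ F.autGroup T) (hb : b ∈ G.autGroup T) :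
    a * b * a⁻¹ ∈ G.autGroup T := by
  refine Residual.mem_autGroup_transport hst.normal.1.2.2 hst.normalE.1.2.2.2.1.1
    ((mem_autGroup_iff hE.1.2.2.2.1.1 a).1 ha) hb fun x hx => ?_
  rw [CfsgLib.Fusion.autFun_mul _ _ (autFun_mem a hx), NormalCentralizer.autFun_inv_self a hx,
    CfsgLib.Fusion.autFun_mul _ _ hx]

theorem conj_autGroup_E {a b : MulAut T} (ha : a ∈ F.autGroup T) (hb : b ∈ E.autGroup T) :
    a * b * a⁻¹ ∈ E.autGroup T := by
  refine Residual.mem_autGroup_transport hE.1.2.2 le_rfl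
    ((mem_autGroup_iff hE.1.2.2.2.1.1 a).1 ha) hb fun x hx => ?_
  rw [CfsgLib.Fusion.autFun_mul _ _ (autFun_mem a hx), NormalCentralizer.autFun_inv_self a hx,
    CfsgLib.Fusion.autFun_mul _ _ hx]

/-- `T C_S(T)` is preserved by the automorphisms of `U`. -/
theorem Stage.stable_R {a : MulAut U} (ha : a ∈ F.autGroup U) {x : Ω}
    (hx : x ∈ T ⊔ centralizerIn S T) : autFun a x ∈ T ⊔ centralizerIn S T := by
  have hTS := hE.1.2.2.2.1.1
  have hTU : T ≤ U := le_sup_left.trans hst.sup_le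
  have hi := (mem_autGroup_iff hst.normal.1.2.2.2.1.1 a).1 ha
  have : Finite T := finite_of_le hTS
  have hiT := (hi.isMap.mono hTU).isIso_of_card_le (B := T) (fun z hz =>
    isMap_mem_of_stronglyClosed hE.1.2.2.2.1 hi.isMap (hTU hz) hz) le_rfl
  exact mem_of_mem_sup (hi.isMap.mono hst.sup_le) le_sup_left le_sup_right
    (fun z hz => Subgroup.mem_sup_left (hiT.mem hz))
    (fun z hz => Subgroup.mem_sup_right
      (hi.isMap.mem_centralizerIn hTU hiT (hst.sup_le (Subgroup.mem_sup_right hz)) hz.2)) x hx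

/-- The step of `p`-power index. -/
theorem Stage.power_step {N : Subgroup (MulAut T)} (hB : E.autGroup T ≤ N) (hNA : N < G.autGroup T)
    (hN : ∀ a ∈ G.autGroup T, ∀ n ∈ N, a * n * a⁻¹ ∈ N)
    (hp' : ∀ a ∈ G.autGroup T, (orderOf a).Coprime p → a ∈ N) :
    ∃ (U' : Subgroup Ω) (G' : FusionSystem U'), Stage F E p G' ∧
      Nat.card (G'.autGroup T) < Nat.card (G.autGroup T) := by
  have hd := hst.data hS hF hE
  have hUS : U ≤ S := hst.normal.1.2.2.2.1.1
  have : Finite U := finite_of_le hUS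
  have hUp : IsPGroup p U := hS.to_le hUS
  have hTS := hE.1.2.2.2.1.1
  have hTU : T ≤ U := le_sup_left.trans hst.sup_le
  have : Finite T := finite_of_le hTS
  have := finite_mulAut T
  set R := T ⊔ centralizerIn S T with hRdef
  set U' := G.hyperfocalSubgroup p ⊔ R with hU'
  have hU'U : U' ≤ U := _root_.sup_le hyperfocal_le hst.sup_le
  have hhypn : ∀ a ∈ F.autGroup U, ∀ x ∈ G.hyperfocalSubgroup p,
      autFun a x ∈ G.hyperfocalSubgroup p := by
    intro a ha x hx
    have hi := (mem_autGroup_iff hUS a).1 ha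
    induction hx using Subgroup.closure_induction with
    | mem y hy =>
      obtain ⟨P, α, z, hP, hα, rfl⟩ := hy
      obtain ⟨P', hP'⟩ := (hi.isMap.mono hP).exists_iso
      have hP'U : P' ≤ U := fun y hy => by
        obtain ⟨w, hw, rfl⟩ := hP'.surj hy
        exact hi.mem (hP hw)
      have htr : ∀ c ∈ G.autGroup P, MulAut.congr hP'.equiv c ∈ G.autGroup P' := fun c hc => by
        refine Residual.mem_autGroup_transport hst.normal.1.2.2 hP hP' hc fun w hw => ?_
        rw [autFun_apply _ (hP'.mem hw), autFun_apply c hw]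
        exact (hP'.congr_apply c ⟨w, hw⟩).symm
      let g : G.autGroup P →* G.autGroup P' :=
        ((MulAut.congr hP'.equiv).toMonoidHom.comp (G.autGroup P).subtype).codRestrict _
          fun c => htr c c.2
      have h1 := inv_mul_mem_hyperfocal (F := G) hP'U
        (CfsgLib.Transfer.map_pResidual_le g ⟨α, hα, rfl⟩) (hP'.equiv z)
      rw [show (g α : MulAut P') = MulAut.congr hP'.equiv α from rfl, hP'.congr_apply,
        hP'.equiv_apply] at h1
      rw [hi.isMap.map_mul (U.inv_mem (hP z.2)) (hP (SetLike.coe_mem _)), hi.isMap.map_inv (hP z.2)]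
      exact h1
    | one => rw [hi.isMap.map_one]; exact Subgroup.one_mem _
    | mul a b ha hb iha ihb =>
      rw [hi.isMap.map_mul (hyperfocal_le ha) (hyperfocal_le hb)]
      exact Subgroup.mul_mem _ iha ihb
    | inv a ha iha =>
      rw [hi.isMap.map_inv (hyperfocal_le ha)]
      exact Subgroup.inv_mem _ iha
  have hstab : ∀ a ∈ F.autGroup U, ∀ x ∈ U', autFun a x ∈ U' := fun a ha =>
    mem_of_mem_sup (((mem_autGroup_iff hUS a).1 ha).isMap.mono hU'U) le_sup_left le_sup_right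
      (fun z hz => Subgroup.mem_sup_left (hhypn a ha z hz))
      (fun z hz => Subgroup.mem_sup_right (hst.stable_R hS hF hE ha hz))
  have hn : (U'.subgroupOf U).Normal := ⟨fun y hy g => by
    have hgn : (g : Ω) ∈ Subgroup.normalizer (U : Set Ω) := Subgroup.le_normalizer g.2
    have h1 := hstab _ (autInducedBy_le_autGroup hUS (conjAut_mem_autInducedBy (K := S) hgn
      (hUS g.2))) y (Subgroup.mem_subgroupOf.1 hy)
    rw [autFun_coe, conjAut_apply] at h1
    exact Subgroup.mem_subgroupOf.2 h1⟩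
  obtain ⟨G', hG's, hG'G, hcov, -⟩ :=
    PowerIndex.exists_subsystem U' _ U rfl hUp G hst.normal.1.1 hU'U le_sup_left
  have hG'n : G'.IsNormalIn G p :=
    PowerIndex.isNormalIn hUp hst.normal.1.1 hU'U hn le_sup_left hG's hG'G hcov
  have hC : centralizerIn U T = centralizerIn S T := le_antisymm (inf_le_inf_right _ hUS)
    fun c hc => ⟨hst.sup_le (Subgroup.mem_sup_right hc), hc.2⟩
  have hRU' : T ⊔ centralizerIn U T ≤ U' := by rw [hC]; exact le_sup_right
  have hG'F : G'.IsNormalIn F p := by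
    refine normal_trans hS hst.normal hG's hG'n.1.2.2 ?_ hstab fun a ha P f hf => ?_
    · exact fun c hc => (le_sup_right : R ≤ U') (Subgroup.mem_sup_right
        ⟨hc.1, Subgroup.centralizer_le (show (T : Set Ω) ⊆ U' from
          (le_sup_left : T ≤ R).trans le_sup_right) hc.2⟩)
    have hM := PPrime.isSubPred_conjd (F := G') (E := G') a
    have hU'S : U' ≤ S := hU'U.trans hUS
    have hcov' : PowerIndex.Cov G p U' (PPrime.ofPred G' _ hM) := by
      intro P hP α hα ho
      have hi : IsIso F P (imageAut a⁻¹ P) (autFun a⁻¹) :=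
        ⟨((mem_autGroup_iff hU'S a⁻¹).1 ((F.autGroup U').inv_mem ha)).isMap.mono hP,
          coe_imageAut a⁻¹ hP⟩
      have hcg : MulAut.congr hi.equiv α ∈ G.autGroup (imageAut a⁻¹ P) := by
        refine Residual.mem_autGroup_transport hst.normal.1.2.2 (hP.trans hU'U) hi hα fun w hw => ?_
        rw [autFun_apply _ (hi.mem hw), autFun_apply α hw]
        exact (hi.congr_apply α ⟨w, hw⟩).symm
      have h1 := hcov _ (imageAut_le _ _) _ hcg (by rwa [MulEquiv.orderOf_eq])
      refine mem_autGroup_of_isMap ((PPrime.isMap_ofPred hM).2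
        ⟨((mem_autGroup_iff hP α).1 (hcov P hP α hα ho)).isMap,
          ((mem_autGroup_iff (imageAut_le _ _) _).1 h1).isMap.congr fun y hy => ?_⟩) α
            fun x => (autFun_coe α x).symm
      obtain ⟨x, hx, rfl⟩ := hi.surj hy
      show _ = autFun a⁻¹ (autFun α (autFun a (autFun a⁻¹ x)))
      rw [PPrime.autFun_autFun_inv a (hP hx), autFun_apply α hx, autFun_apply _ hy]
      exact hi.congr_apply α ⟨x, hx⟩
    exact ((PPrime.isMap_ofPred hM).1
      (isMap_of_subsystem (PowerIndex.le_of_cov hUp hU'U hG's hG'G le_rfl hcov') hf)).2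
  have hEG' : E.IsNormalIn G' p := normal_powerSys hd hRU' hU'U hG's hG'G hcov
  refine ⟨U', G', ⟨hG'F, le_sup_right, hEG', fun L hL => ?_⟩, ?_⟩
  · have hLF := limit_normal hL hS hF (stage_self hS hE).normal
    have hLs := hLF.1.1
    have hLU := hst.limit_le L hL
    obtain ⟨hst1, -⟩ := limit_stable hL
    have hVS := hLF.1.2.2.2.1.1
    have hh : ∀ W, W = L.hyperfocalSubgroup p → W ≤ G.hyperfocalSubgroup p :=
      fun W hW => hW.le.trans (PowerIndex.hyperfocal_mono hLU)
    refine PowerIndex.le_of_cov (F := G) hUp ((hh _ hst1.symm).trans hyperfocal_le) hLs hLU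
      ((hh _ hst1.symm).trans le_sup_left) fun P hP α hα ho =>
        hcov P (hP.trans ((hh _ hst1.symm).trans le_sup_left)) α hα ho
  have hsub : G'.autGroup T ≤ G.autGroup T := fun a ha => (mem_autGroup_iff hTU a).2
    (((mem_autGroup_iff (le_sup_left.trans hRU') a).1 ha).of_subsystem hG'G)
  refine lt_of_le_of_ne (Subgroup.card_le_of_le hsub) fun e => hNA.ne (le_antisymm hNA.le ?_)
  have heq : G'.autGroup T = G.autGroup T := Subgroup.eq_of_le_of_card_ge hsub e.ge
  have hpre : U' ≤ Meet.preInd U T N := by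
    refine _root_.sup_le (hyperfocal_le_preInd hd hB hN hp') (_root_.sup_le
      (Meet.le_preInd hTU ((autInducedBy_le_autGroup le_rfl).trans hB)) ?_)
    rw [← hC]
    exact Meet.centralizerIn_le_preInd
  have : Finite U' := finite_of_le (hU'U.trans hUS)
  have hTfn : G'.IsFullyNormalized T := NormalCentralizer.isFullyNormalized_of_closed
    (le_sup_left.trans hRU') fun P f hf x hx hxT =>
      isMap_mem_of_stronglyClosed hEG'.1.2.2.2.1 hf hx hxT
  obtain ⟨-, Sy, hSy⟩ := isFullyAutomized_of_isFullyNormalized (hS.to_le (hU'U.trans hUS))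
    hG's hTfn
  rw [← heq]
  refine ModelNormal.le_of_sylow_coprime Sy (fun a ha => ?_) fun a ha hao => hp' a (hsub ha) hao
  rw [hSy] at ha
  obtain ⟨g, hg, hgv⟩ := (mem_autInducedBy_iff U' T _).1 ha
  obtain ⟨-, b, hb, hbv⟩ := hpre hg
  have e1 : (a : MulAut T) = b := MulEquiv.ext fun y => Subtype.ext ((hgv y).trans (hbv y).symm)
  exact e1 ▸ hb

/-- The step of index prime to `p`. -/
theorem Stage.prime_step {N : Subgroup (MulAut T)} (hB : E.autGroup T ≤ N) (hNA : N < G.autGroup T)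
    (hN : ∀ a ∈ F.autGroup T, ∀ n ∈ N, a * n * a⁻¹ ∈ N)
    (hp : ∀ a ∈ G.autGroup T, ∀ k : ℕ, orderOf a = p ^ k → a ∈ N) :
    ∃ (U' : Subgroup Ω) (G' : FusionSystem U'), Stage F E p G' ∧
      Nat.card (G'.autGroup T) < Nat.card (G.autGroup T) := by
  have hd := hst.data hS hF hE
  have hUS : U ≤ S := hst.normal.1.2.2.2.1.1
  have : Finite U := finite_of_le hUS
  have hUp : IsPGroup p U := hS.to_le hUS
  have hTS := hE.1.2.2.2.1.1
  have hTU : T ≤ U := le_sup_left.trans hst.sup_le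
  have : Finite T := finite_of_le hTS
  have := finite_mulAut T
  have hEn := normal_primeSys hd hB hp
  have hsat := isSaturated_primeSys hd hB hp
  have hsub := primeSys_sub hd hB hp
  have hK : resSub G T hTU N ≤ G.autGroup U := fun _ ha => ha.1
  have h0 := E0_aut_le hd hB hp
  have hE0 := PPrime.isPPrimeResidual_E0 hUp hst.normal.1.1
  obtain ⟨hidx, hfac, -⟩ := PPrime.hasPrimeToPIndex hUp hst.normal.1.1
    (PPrime.meet_subsystem : (PPrime.E0 G p).IsSubsystemOf G) PPrime.closed_E0.1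
  set G' := primeSys G p T hTU N
  have hG'I : G'.IsInvariantIn G := by
    refine ⟨hsub, stronglyClosed_iff.2 ⟨le_rfl, fun _ _ hf _ hx _ => hf.mem hx⟩, ?_, ?_⟩
    · intro P hPT φ hφ a ha
      have hm := (PPrime.isMap_ext_iff hUp hK h0).1 (isMap_homFun hφ)
      obtain ⟨b, hb, f₀, hf₀, hv⟩ := hm
      have hab : a * b * a⁻¹ ∈ resSub G T hTU N := by
        obtain ⟨hbG, ν, hν, hbν⟩ := hb
        obtain ⟨α, hα, hαv⟩ := exists_restrict hd hTU ((mem_autGroup_iff le_rfl a).1 ha).isMap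
        refine ⟨Subgroup.mul_mem _ (Subgroup.mul_mem _ ha hbG) (Subgroup.inv_mem _ ha),
          α * ν * α⁻¹, hN α (hst.autGroup_le hS hF hE hα) ν hν, fun t ht => ?_⟩
        have h1 : autFun a⁻¹ t = autFun α⁻¹ t := NormalCentralizer.autFun_inv_eq hTU hαv ht
        rw [CfsgLib.Fusion.autFun_mul _ _ (hTU ht), h1,
          CfsgLib.Fusion.autFun_mul _ _ (hTU (autFun_mem _ ht)), hbν _ (autFun_mem _ ht),
          hαv _ (autFun_mem _ (autFun_mem _ ht)), CfsgLib.Fusion.autFun_mul _ _ ht,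
          CfsgLib.Fusion.autFun_mul _ _ (autFun_mem _ ht)]
      have h1 := Residual.autInv_E0 (F := G) (E := G) (ResidualSeries.isInvariantIn_self G)
        ((G.autGroup U).inv_mem ha) hf₀
      rw [inv_inv] at h1
      have hmap : IsMap G' (imageAut a P) (autFun a ∘ homFun φ ∘ autFun a⁻¹) := by
        refine (PPrime.isMap_ext_iff hUp hK h0).2 ⟨_, hab, _, h1, fun y hy => ?_⟩
        have hyU : y ∈ U := imageAut_le _ _ hy
        have hy' : autFun a⁻¹ y ∈ P := by
          have h2 := PPrime.mem_imageAut_inv a⁻¹ (x := y) (by rwa [inv_inv])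
          exact h2.2
        show autFun a (homFun φ (autFun a⁻¹ y)) = _
        rw [hv _ hy', Function.comp_apply, Function.comp_apply,
          CfsgLib.Fusion.autFun_mul _ _ (autFun_mem _ (hf₀.mem hy')),
          PPrime.autFun_inv_autFun a (hf₀.mem hy'),
          CfsgLib.Fusion.autFun_mul _ _ (hf₀.mem hy')]
      obtain ⟨χ, hχ, hχv⟩ := hmap
      refine ⟨χ, hχ, fun x hφx hax => ?_⟩
      refine (hχv ⟨_, hax⟩).trans ?_
      show autFun a (homFun φ (autFun a⁻¹ ((a ⟨x, hPT x.2⟩ : U) : Ω))) = _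
      rw [← autFun_apply a (hPT x.2), PPrime.autFun_inv_autFun a (hPT x.2), homFun_coe,
        autFun_apply a hφx]
    · intro P hP φ hφ
      obtain ⟨b, hb, f₀, hf₀, hv⟩ := hfac (isMap_homFun hφ)
      obtain ⟨φ₀, hφ₀, hv₀⟩ := isMap_of_subsystem (PPrime.E0_le_ext (F := G) (p := p)
        (resSub G T hTU N)) hf₀
      refine ⟨b, hb, φ₀, hφ₀, fun x hx => ?_⟩
      have e := hv x x.2
      rw [homFun_coe, ← hv₀ x] at e
      rw [e, autFun_apply b hx]
  have hG'F : G'.IsNormalIn F p := by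
    refine normal_trans hS hst.normal hsat hG'I ?_ (fun a ha x hx => autFun_mem a hx)
      fun a ha P f hf => ?_
    · exact fun c hc => hst.sup_le (Subgroup.mem_sup_right
        ⟨hc.1, Subgroup.centralizer_le (show (T : Set Ω) ⊆ U from hTU) hc.2⟩)
    obtain ⟨b, hb, f₀, hf₀, hv⟩ := (PPrime.isMap_ext_iff hUp hK h0).1 hf
    have hab : a⁻¹ * b * a ∈ resSub G T hTU N := by
      obtain ⟨hbG, ν, hν, hbν⟩ := hb
      have hai := (mem_autGroup_iff hUS a).1 ha
      obtain ⟨α, hα, hαv⟩ : ∃ α ∈ F.autGroup T, ∀ t ∈ T, autFun a t = autFun α t := by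
        obtain ⟨α, hα, hv⟩ := exists_mem_autGroup ((hai.isMap.mono hTU).isIso_of_card_le
          (B := T) (fun t ht => isMap_mem_of_stronglyClosed hE.1.2.2.2.1 hai.isMap (hTU ht) ht)
          le_rfl)
        exact ⟨α, hα, fun t ht => by rw [autFun_apply α ht, hv]⟩
      have hbG' : a⁻¹ * b * a ∈ G.autGroup U := by
        refine Residual.mem_autGroup_transport hst.normal.1.2.2 le_rfl
          ((mem_autGroup_iff hUS a⁻¹).1 ((F.autGroup U).inv_mem ha)) hbG fun x hx => ?_
        rw [CfsgLib.Fusion.autFun_mul _ _ (autFun_mem a⁻¹ hx),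
          PPrime.autFun_autFun_inv a hx, CfsgLib.Fusion.autFun_mul _ _ hx]
      refine ⟨hbG', α⁻¹ * ν * α, by simpa using hN _ ((F.autGroup T).inv_mem hα) ν hν,
        fun t ht => ?_⟩
      rw [CfsgLib.Fusion.autFun_mul _ _ (hTU ht), hαv t ht,
        CfsgLib.Fusion.autFun_mul _ _ (hTU (autFun_mem _ ht)), hbν _ (autFun_mem _ ht),
        NormalCentralizer.autFun_inv_eq hTU hαv (autFun_mem _ (autFun_mem _ ht)),
        CfsgLib.Fusion.autFun_mul _ _ ht, CfsgLib.Fusion.autFun_mul _ _ (autFun_mem _ ht)]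
    refine (PPrime.isMap_ext_iff hUp hK h0).2 ⟨_, hab, _,
      Residual.autInv_E0 hst.normal.1.2.2 ha hf₀, fun y hy => ?_⟩
    have hyP : autFun a y ∈ P := (PPrime.mem_imageAut_inv a hy).2
    show autFun a⁻¹ (f (autFun a y)) = _
    rw [hv _ hyP, Function.comp_apply, Function.comp_apply,
      CfsgLib.Fusion.autFun_mul _ _ (autFun_mem _ (hf₀.mem hyP)),
      PPrime.autFun_autFun_inv a (hf₀.mem hyP),
      CfsgLib.Fusion.autFun_mul _ _ (hf₀.mem hyP)]
  refine ⟨U, G', ⟨hG'F, hst.sup_le, hEn, fun L hL => ?_⟩, ?_⟩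
  · have hLF := limit_normal hL hS hF (stage_self hS hE).normal
    obtain ⟨-, hst2⟩ := limit_stable hL
    exact fun P φ hφ => isMap_of_subsystem (PPrime.E0_le_ext (F := G) (p := p) (resSub G T hTU N))
      (isMap_of_subsystem (pPrimeResidual_mono hS hF hLF hst.normal (hst.limit_le L hL) hst2 hE0)
        (isMap_homFun hφ)) |> (mem_hom_iff φ).2
  calc Nat.card (G'.autGroup T) ≤ Nat.card N :=
        Subgroup.card_le_of_le (autGroup_primeSys_le hd hB hp)
    _ < Nat.card (G.autGroup T) := lt_of_le_of_ne (Subgroup.card_le_of_le hNA.le)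
        fun e => hNA.ne (Subgroup.eq_of_le_of_card_ge hNA.le e.ge)

omit hS hF hE hst in
theorem exists_envelope (hS : IsPGroup p S) (hF : F.IsSaturated p) (hE : E.IsNormalIn F p)
    [hn : ((E.autGroup T).subgroupOf (F.autGroup T)).Normal]
    (hsolv : Cfsg.IsPSolvable p (↥(F.autGroup T) ⧸ (E.autGroup T).subgroupOf (F.autGroup T))) :
    ∃ G : FusionSystem (T ⊔ centralizerIn S T), Stage F E p G ∧
      G.autGroup T = E.autGroup T := by
  have hTS := hE.1.2.2.2.1.1
  have : Finite T := finite_of_le hTS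
  have := finite_mulAut T
  suffices H : ∀ (n : ℕ) (U : Subgroup Ω) (G : FusionSystem U), Nat.card (G.autGroup T) = n →
      Stage F E p G → ∃ G : FusionSystem (T ⊔ centralizerIn S T), Stage F E p G ∧
      G.autGroup T = E.autGroup T from H _ S F rfl (stage_self hS hE)
  intro n
  induction n using Nat.strong_induction_on with
  | _ n ih =>
  intro U G hcard hst
  have hd := hst.data hS hF hE
  have hUS : U ≤ S := hst.normal.1.2.2.2.1.1
  have : Finite U := finite_of_le hUS
  have hUp : IsPGroup p U := hS.to_le hUS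
  have hTU : T ≤ U := le_sup_left.trans hst.sup_le
  have hBA : E.autGroup T ≤ G.autGroup T := fun a ha => (mem_autGroup_iff hTU a).2
    (((mem_autGroup_iff le_rfl a).1 ha).of_subsystem hst.normalE.1.2.2.1)
  by_cases heq : G.autGroup T = E.autGroup T
  · -- `U = T C_S(T)`
    have hUR : U ≤ T ⊔ centralizerIn S T := by
      intro g hg
      have hgn : g ∈ Subgroup.normalizer (T : Set Ω) :=
        mem_normalizer_of_conj_mem hTS fun z hz =>
          NormalCentralizer.normalizer_T hE.1.2.2 (hUS hg) hz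
      have hgA : conjAut T hgn ∈ E.autGroup T := heq ▸
        autInducedBy_le_autGroup hTU (conjAut_mem_autInducedBy hgn hg)
      have hTfn : E.IsFullyNormalized T := ⟨le_rfl, fun Q hQ => by
        obtain ⟨g', hg'⟩ := isConj_iff.1 hQ
        rw [Subgroup.eq_of_le_of_card_ge hg'.le_right hg'.card_eq.ge]⟩
      obtain ⟨t, ht, htv⟩ := (mem_autInducedBy_iff T T _).1 (MeetExt.mem_autInducedBy_of_mem hS
        hE.1 hTfn hgA (conjAut_mem_autInducedBy hgn (hUS hg)))
      have hc : t⁻¹ * g ∈ centralizerIn S T :=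
        ⟨S.mul_mem (S.inv_mem (hTS ht)) (hUS hg), mul_inv_mem_centralizer fun z hz => by
          have h1 := htv ⟨z, hz⟩
          rw [conjAut_apply] at h1
          simpa using h1⟩
      have h2 := Subgroup.mul_mem_sup ht hc
      rwa [mul_inv_cancel_left] at h2
    obtain rfl : U = T ⊔ centralizerIn S T := le_antisymm hUR hst.sup_le
    exact ⟨G, hst, heq⟩
  -- a proper step
  set A := F.autGroup T
  set B := E.autGroup T
  have hAG := hst.autGroup_le hS hF hE
  let π := QuotientGroup.mk' (B.subgroupOf A)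
  set H := ((G.autGroup T).subgroupOf A).map π
  have hH : H ≠ ⊥ := fun e => heq (le_antisymm (fun a ha => by
    have h1 : π ⟨a, hAG ha⟩ ∈ H := ⟨⟨a, hAG ha⟩, ha, rfl⟩
    rw [e, Subgroup.mem_bot] at h1
    exact Subgroup.mem_subgroupOf.1 ((QuotientGroup.eq_one_iff (⟨a, hAG ha⟩ : A)).1 h1)) hBA)
  obtain ⟨K, hK, hcase⟩ := exists_proper_of_isPSolvable hsolv H hH
  have hproper : ∀ (s : Set (MulAut T)), (∀ a ∈ s, a ∈ G.autGroup T) →
      (∀ a ∈ s, ∀ ha : a ∈ A, π ⟨a, ha⟩ ∈ K) → B ⊔ Subgroup.closure s < G.autGroup T := by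
    intro s hs hsK
    have hle : B ⊔ Subgroup.closure s ≤ ((K.comap π).map A.subtype : Subgroup (MulAut T)) := by
      refine _root_.sup_le (fun b hb => ?_) ((Subgroup.closure_le _).2 fun a ha => ?_)
      · refine ⟨⟨b, hAG (hBA hb)⟩, ?_, rfl⟩
        show π _ ∈ K
        rw [show π ⟨b, hAG (hBA hb)⟩ = 1 from
          (QuotientGroup.eq_one_iff (⟨b, hAG (hBA hb)⟩ : A)).2 (Subgroup.mem_subgroupOf.2 hb)]
        exact K.one_mem
      · exact ⟨⟨a, hAG (hs a ha)⟩, hsK a ha _, rfl⟩
    refine lt_of_le_of_ne (_root_.sup_le hBA ((Subgroup.closure_le _).2 hs)) fun e => hK.not_ge ?_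
    rintro _ ⟨a, ha, rfl⟩
    have h1 : (a : MulAut T) ∈ B ⊔ Subgroup.closure s := e.symm ▸ Subgroup.mem_subgroupOf.1 ha
    obtain ⟨c, hc, hce⟩ := hle h1
    rw [← Subtype.ext hce]
    exact hc
  have hnorm : ∀ (P : MulAut T → Prop), (∀ a b, P b → P (a * b * a⁻¹)) →
      ∀ a ∈ A, ∀ n ∈ B ⊔ Subgroup.closure {b | b ∈ G.autGroup T ∧ P b},
        a * n * a⁻¹ ∈ B ⊔ Subgroup.closure {b | b ∈ G.autGroup T ∧ P b} := by
    intro P hP a ha n hn
    have hle : B ⊔ Subgroup.closure {b | b ∈ G.autGroup T ∧ P b} ≤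
        (B ⊔ Subgroup.closure {b | b ∈ G.autGroup T ∧ P b}).comap (MulAut.conj a).toMonoidHom :=
      _root_.sup_le (fun b hb => Subgroup.mem_sup_left (conj_autGroup_E hS hF hE hst ha hb))
        ((Subgroup.closure_le _).2 fun b hb => Subgroup.mem_sup_right
          (Subgroup.subset_closure ⟨hst.conj_autGroup hS hF hE ha hb.1, hP a b hb.2⟩))
    exact hle hn
  rcases hcase with hK' | hK'
  · -- automorphisms of order prime to `p`
    set s : Set (MulAut T) := {b | b ∈ G.autGroup T ∧ (orderOf b).Coprime p}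
    have hsN : ∀ a ∈ G.autGroup T, (orderOf a).Coprime p → a ∈ B ⊔ Subgroup.closure s :=
      fun a ha ho => Subgroup.mem_sup_right (Subgroup.subset_closure ⟨ha, ho⟩)
    obtain ⟨U', G', hst', hlt⟩ := hst.power_step hS hF hE le_sup_left
      (hproper s (fun a ha => ha.1) fun a ha haA => hK' _ ⟨⟨a, haA⟩, ha.1, rfl⟩
        (Nat.Coprime.coprime_dvd_left (orderOf_map_dvd π _)
          (by rw [← Subgroup.orderOf_coe]; exact ha.2)))
      (fun a ha => hnorm (fun b => (orderOf b).Coprime p) (fun a b hb => by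
        rw [show a * b * a⁻¹ = MulAut.conj a b from rfl, MulEquiv.orderOf_eq]; exact hb) a (hAG ha))
      hsN
    exact ih _ (hcard ▸ hlt) U' G' rfl hst'
  · -- `p`-elements
    set s : Set (MulAut T) := {b | b ∈ G.autGroup T ∧ ∃ k : ℕ, orderOf b = p ^ k}
    have hsN : ∀ a ∈ G.autGroup T, ∀ k : ℕ, orderOf a = p ^ k → a ∈ B ⊔ Subgroup.closure s :=
      fun a ha k hk => Subgroup.mem_sup_right (Subgroup.subset_closure ⟨ha, k, hk⟩)
    obtain ⟨U', G', hst', hlt⟩ := hst.prime_step hS hF hE le_sup_left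
      (hproper s (fun a ha => ha.1) fun a ha haA => by
        obtain ⟨k, hk⟩ := ha.2
        obtain ⟨i, -, hi⟩ := (Nat.dvd_prime_pow (Fact.out : p.Prime)).1
          ((orderOf_map_dvd π (⟨a, haA⟩ : A)).trans
            (by rw [← Subgroup.orderOf_coe, hk]))
        exact hK' _ ⟨⟨a, haA⟩, ha.1, rfl⟩ i hi)
      (hnorm (fun b => ∃ k : ℕ, orderOf b = p ^ k) fun a b hb => by
        rw [show a * b * a⁻¹ = MulAut.conj a b from rfl, MulEquiv.orderOf_eq]; exact hb)
      hsN
    exact ih _ (hcard ▸ hlt) U' G' rfl hst'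

end CfsgLib.Fusion.Envelope
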