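import Cfsg.Agent.Lib.Fusion.SupplementInvariant
import Cfsg.Agent.Lib.Fusion.AgreeCentric
import Cfsg.Agent.Lib.Fusion.RadicalExt

/-!
The class of a map modulo the automizer of a normal subsystem: every map is an isomorphism between
subgroups above `T` after a map of the product, and on centric subgroups the restriction of that
isomorphism to `T` is determined modulo `Aut_E(T)` and the automorphisms induced by the product.
-/

set_option autoImplicit false
set_option linter.unusedSectionVars false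
set_option linter.style.haveILetI false

namespace CfsgLib.Fusion.Envelope

open Cfsg Cfsg.FusionSystem
open CfsgLib.Fusion.Supplement

variable {Ω : Type*} [Group Ω] {S T : Subgroup Ω} {F : FusionSystem S} {E : FusionSystem T}
variable {p : ℕ} [Fact p.Prime] [Finite S]

/-- `f` on `P` is `a d` with `a : R → R'` restricting to `α` on `T` and `d` in the product over
`R`. -/
def Cls (F : FusionSystem S) (E : FusionSystem T) (p : ℕ) [Fact p.Prime] [Finite S]
    (R R' P : Subgroup Ω) (f : Ω → Ω) (α : MulAut T) : Prop :=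
  ∃ (a d : Ω → Ω) (h : Setting F p E R), IsIso F R R' a ∧ IsMap h.sys P d ∧
    (∀ x ∈ P, f x = a (d x)) ∧ ∀ t ∈ T, a t = autFun α t

/-- What is undetermined in the class. -/
def amb (E : FusionSystem T) (R : Subgroup Ω) : Subgroup (MulAut T) :=
  E.autGroup T ⊔ autInducedBy R T

theorem Cls.congr {R R' P : Subgroup Ω} {f g : Ω → Ω} {α : MulAut T}
    (h : Cls F E p R R' P f α) (hfg : ∀ x ∈ P, f x = g x) : Cls F E p R R' P g α := by
  obtain ⟨a, d, hR, ha, hd, hv, ht⟩ := h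
  exact ⟨a, d, hR, ha, hd, fun x hx => (hfg x hx).symm.trans (hv x hx), ht⟩

theorem Cls.comp {R R' R'' : Subgroup Ω} {P Q : Subgroup Ω} {f g : Ω → Ω} {α β : MulAut T}
    (hf : Cls F E p R R' P f α) (hg : Cls F E p R' R'' Q g β) (hm : ∀ x ∈ P, f x ∈ Q) :
    Cls F E p R R'' P (g ∘ f) (β * α) := by
  obtain ⟨a, d, h, ha, hd, hv, hat⟩ := hf
  obtain ⟨b, e, h', hb, he, hw, hbt⟩ := hg
  obtain ⟨r, hr, h1, h2⟩ := ha.exists_symm
  obtain ⟨P₀, hP₀⟩ := (hr.isMap.mono he.le).exists_iso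
  refine ⟨b ∘ a, (r ∘ e ∘ a) ∘ d, h, ha.comp hb,
    hd.comp (h.pull h' ha hr h1 h2 he hP₀) fun x hx => ?_, fun x hx => ?_, fun t ht => ?_⟩
  · have h3 := hP₀.mem (hm x hx)
    rwa [hv x hx, h1 _ (hd.mem hx)] at h3
  · show g (f x) = b (a (r (e (a (d x)))))
    rw [hw _ (hm x hx), hv x hx, h2 _ (he.mem (hv x hx ▸ hm x hx))]
  · show b (a t) = autFun (β * α) t
    rw [hat t ht, hbt _ (autFun_mem α ht), autFun_mul _ _ ht]

variable (h : Data F p E)
include h

/-- A map of `F` on a subgroup containing `T` restricts to an element of `Aut_F(T)`. -/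
theorem exists_restrict {R : Subgroup Ω} {a : Ω → Ω} (hTR : T ≤ R) (ha : IsMap F R a) :
    ∃ α ∈ F.autGroup T, ∀ t ∈ T, a t = autFun α t := by
  have : Finite T := finite_of_le h.TS
  obtain ⟨α, hα, hv⟩ := exists_mem_autGroup ((ha.mono hTR).isIso_of_card_le
    (B := T) (fun t ht => isMap_mem_of_stronglyClosed h.inv.2.1 ha (hTR ht) ht) le_rfl)
  exact ⟨α, hα, fun t ht => by rw [autFun_apply α ht, hv]⟩

/-- Every map has a class. -/
theorem exists_cls {P Q : Subgroup Ω} {f : Ω → Ω} (hf : IsIso F P Q f) :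
    ∃ α ∈ F.autGroup T, Cls F E p (T ⊔ P) (T ⊔ Q) P f α := by
  obtain ⟨a, d, hR, ha, hd, hv⟩ := h.fac hf
  obtain ⟨α, hα, hat⟩ := exists_restrict h le_sup_left ha.isMap
  exact ⟨α, hα, a, d, hR, ha, hd, hv, hat⟩

/-- An isomorphism above `T` is its own class. -/
theorem cls_of_iso {R R' P : Subgroup Ω} {a : Ω → Ω} (hTR : T ≤ R) (ha : IsIso F R R' a)
    (hP : P ≤ R) {α : MulAut T} (hat : ∀ t ∈ T, a t = autFun α t) :
    Cls F E p R R' P a α :=
  ⟨a, id, { h with TR := hTR, RS := ha.le_left }, ha, isMap_id hP, fun _ _ => rfl, hat⟩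

/-- The products grow with their supports. -/
theorem sys_mono {R₁ R₂ : Subgroup Ω} (h₁ : Setting F p E R₁) (h₂ : Setting F p E R₂)
    (hle : R₁ ≤ R₂) {P : Subgroup Ω} {d : Ω → Ω} (hd : IsMap h₁.sys P d) :
    IsMap h₂.sys P d := by
  let M : Subgroup Ω → (Ω → Ω) → Prop := fun Q f => IsMap h₁.sys Q f ∧ IsMap h₂.sys Q f
  have hM : PPrime.IsSubPred h₁.sys M :=
    { isMap := fun hf => hf.1
      congr := fun hf he => ⟨hf.1.congr he, hf.2.congr he⟩
      conj := fun hQ hg => ⟨isMap_conj hQ hg, isMap_conj (hQ.trans hle) (hle hg)⟩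
      comp := fun hf hg hm => ⟨hf.1.comp hg.1 hm, hf.2.comp hg.2 hm⟩
      inv := fun {Q Q' f r} hf hi hr h1 => by
        refine ⟨hr.isMap, ?_⟩
        obtain ⟨r', hr', hr'1, -⟩ := IsIso.exists_symm ⟨hf.2, hi.image_eq⟩
        refine hr'.isMap.congr fun y hy => ?_
        obtain ⟨x, hx, rfl⟩ := hi.surj hy
        rw [hr'1 x hx, h1 x hx] }
  have hle' : h₁.sys.IsSubsystemOf (PPrime.ofPred h₁.sys M hM) := h₁.sys_le fun Q α hα =>
    mem_autGroup_of_isMap ((PPrime.isMap_ofPred hM).2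
      ⟨((mem_autGroup_iff hα.1.1 α).1 (h₁.mem_sys hα)).isMap,
        ((mem_autGroup_iff (hα.1.1.trans hle) α).1
          (h₂.mem_sys ⟨⟨hα.1.1.trans hle, hα.1.2⟩, hα.2⟩)).isMap⟩) α
      fun x => (autFun_coe α x).symm
  exact ((PPrime.isMap_ofPred hM).1 (isMap_of_subsystem hle' hd)).2

/-- A map of the product on a subgroup containing `T` is, on `T`, in the undetermined part. -/
theorem sys_restrict {R₂ R : Subgroup Ω} (h₂ : Setting F p E R₂) (hTR : T ≤ R) {d : Ω → Ω}
    (hd : IsMap h₂.sys R d) {α : MulAut T} (hv : ∀ t ∈ T, d t = autFun α t) :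
    α ∈ amb E R₂ := by
  have hTS := h.TS
  have : Finite T := finite_of_le hTS
  obtain ⟨-, r, hr, -, e, he, hev⟩ := h₂.isMap_sys hd
  have heT : IsMap E T e := he.mono (le_inf hTR le_rfl)
  obtain ⟨b, hb, hbv⟩ := exists_mem_autGroup
    (heT.isIso_of_card_le (B := T) (fun t ht => heT.mem ht) le_rfl)
  have hrn : r ∈ Subgroup.normalizer (T : Set Ω) :=
    mem_normalizer_of_conj_mem hTS fun z hz => h.normT (h₂.RS hr) hz
  have e1 : α = conjAut T hrn * b := MulEquiv.ext fun t => Subtype.ext (by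
    rw [MulAut.mul_apply, conjAut_apply, hbv, ← autFun_coe α t, ← hv t t.2,
      hev t ⟨hTR t.2, t.2⟩])
  rw [e1]
  exact Subgroup.mul_mem _ (Subgroup.mem_sup_right (conjAut_mem_autInducedBy hrn hr))
    (Subgroup.mem_sup_left hb)

/-- An isomorphism above `T` agreeing with a map of the product on a centric subgroup is in the
undetermined part on `T`. -/
theorem unique {R₂ R : Subgroup Ω} (h₂ : Setting F p E R₂) (hTR : T ≤ R) (hR : R ≤ R₂)
    {a : Ω → Ω} (ha : IsMap F R a) (haR : ∀ x ∈ R, a x ∈ R₂) {α : MulAut T}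
    (hat : ∀ t ∈ T, a t = autFun α t) {P : Subgroup Ω} {d : Ω → Ω} (hP : F.IsCentric P)
    (hPR : P ≤ R) (hd : IsMap h₂.sys P d) (hag : ∀ x ∈ P, a x = d x) : α ∈ amb E R₂ := by
  have hR₂S := h₂.RS
  have : Finite R₂ := finite_of_le hR₂S
  have hRS := hR.trans hR₂S
  have : Finite R := finite_of_le hRS
  have hR₂p : IsPGroup p R₂ := h.pgroup.to_le hR₂S
  have hW : h₂.sys.IsSaturated p := h₂.isSaturated
  suffices H : ∀ (n : ℕ) (P : Subgroup Ω) (d : Ω → Ω), Nat.card R - Nat.card P = n →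
      F.IsCentric P → P ≤ R → IsMap h₂.sys P d → (∀ x ∈ P, a x = d x) →
      α ∈ amb E R₂ from H _ P d rfl hP hPR hd hag
  intro n
  induction n using Nat.strong_induction_on with
  | _ n ih =>
  intro P d hn hP hPR hd hag
  rcases eq_or_ne P R with rfl | hne
  · exact sys_restrict h h₂ hTR hd fun t ht => (hag t (hTR ht)).symm.trans (hat t ht)
  obtain ⟨P', hdi⟩ := hd.exists_iso
  have hcP' : h₂.sys.IsCentric P' := by
    have hP'c : F.IsCentric P' := CfsgLib.Fusion.isCentric_of_isConj hP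
      (hdi.of_subsystem h₂.sub).isConj
    refine ⟨hdi.le_right, fun Q hQ x hx => hP'c.2 Q (isConj_of_subsystem h₂.sub hQ) ?_⟩
    exact ⟨hR₂S hx.1, hx.2⟩
  obtain ⟨d', hd', hd'v⟩ := (isReceptive_iff.1 (isReceptive_of_isFullyCentralized hR₂p hW
    (isFullyCentralized_of_isCentric hcP'))).2 P d hdi
  have hlt : P < normalizerIn R P := lt_normalizerIn (h.pgroup.to_le hRS) hPR hne
  have hN : normalizerIn R P ≤ nPhi R₂ P d := fun y hy =>
    ⟨hR hy.1, hy.2, a y, haR y hy.1, fun x hx => by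
      have hc := conj_mem_of_mem_normalizer hy.2 hx
      rw [← hag _ hc, ← hag x hx, ha.map_conj hy.1 (hPR hx)]⟩
  have hdN := hd'.mono hN
  have hNS : normalizerIn R P ≤ S := inf_le_left.trans hRS
  have hm1 : IsMap F (normalizerIn R P) a := ha.mono inf_le_left
  obtain ⟨z, hz, -, hzv⟩ := exists_center_of_agree h.pgroup h.sat
    (isMap_of_subsystem h₂.sub hdN) hm1 _ P rfl hlt.le hP fun x hx =>
      (hd'v x hx).trans (hag x hx).symm
  have hzN : z ∈ normalizerIn R P := hlt.le hz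
  have hnew : IsMap h₂.sys (normalizerIn R P) (d' ∘ fun y => z * y * z⁻¹) :=
    (isMap_conj (inf_le_left.trans hR) (hR (hPR hz))).comp hdN fun y hy =>
      (normalizerIn R P).mul_mem ((normalizerIn R P).mul_mem hzN hy)
        ((normalizerIn R P).inv_mem hzN)
  have : Finite (normalizerIn R P) := finite_of_le (S := R) inf_le_left
  have hcard : Nat.card P < Nat.card (normalizerIn R P) :=
    lt_of_le_of_ne (Subgroup.card_le_of_le hlt.le)
      fun e => hlt.ne (Subgroup.eq_of_le_of_card_ge hlt.le e.ge)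
  have hle : Nat.card (normalizerIn R P) ≤ Nat.card R := Subgroup.card_le_of_le inf_le_left
  exact ih _ (by omega) _ _ rfl (isCentric_of_le hP hlt.le hNS) inf_le_left hnew hzv

/-- Two classes of a map on a centric subgroup agree up to the undetermined part. -/
theorem compare {R₁ R₁' R₂ R₂' P Q : Subgroup Ω} {f g : Ω → Ω} {α β : MulAut T}
    (hP : F.IsCentric P) (hf : Cls F E p R₁ R₁' P f α) (hg : Cls F E p R₂ R₂' Q g β)
    (hPQ : P ≤ Q) (hfg : ∀ x ∈ P, f x = g x) (hR : R₁ ≤ R₂) (hR' : R₁' ≤ R₂') :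
    β⁻¹ * α ∈ amb E R₂ := by
  obtain ⟨a, d, h₁, ha, hd, hv, hat⟩ := hf
  obtain ⟨b, e, h₂, hb, he, hw, hbt⟩ := hg
  obtain ⟨P₁, hd₁⟩ := hd.exists_iso
  obtain ⟨r, hr, hr1, -⟩ := hd₁.exists_symm
  obtain ⟨q, hq, hq1, hq2⟩ := hb.exists_symm
  have hqa : IsMap F R₁ (q ∘ a) := ha.isMap.comp hq.isMap fun x hx => hR' (ha.mem hx)
  have hP₁c : F.IsCentric P₁ :=
    CfsgLib.Fusion.isCentric_of_isConj hP (hd₁.of_subsystem h₁.sub).isConj
  have hm : IsMap h₂.sys P₁ (e ∘ r) :=
    (sys_mono h h₁ h₂ hR hr.isMap).comp he fun x hx => hPQ (hr.mem hx)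
  refine unique h h₂ h₁.TR hR hqa (fun x hx => hq.mem (hR' (ha.mem hx)))
    (α := β⁻¹ * α) ?_ hP₁c hd₁.le_right hm fun y hy => ?_
  · intro t ht
    show q (a t) = _
    have h1 := autFun_mem α ht
    have h2 := autFun_mem β⁻¹ h1
    rw [hat t ht, autFun_mul _ _ ht]
    calc q (autFun α t) = q (b (autFun β⁻¹ (autFun α t))) := by
          rw [hbt _ h2, NormalCentralizer.autFun_self_inv β h1]
      _ = _ := hq1 _ (h₂.TR h2)
  · obtain ⟨x, hx, rfl⟩ := hd₁.surj hy
    show q (a (d x)) = e (r (d x))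
    rw [hr1 x hx, ← hv x hx, hfg x hx, hw x (hPQ hx), hq1 _ (he.mem (hPQ hx))]

end CfsgLib.Fusion.Envelope
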