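import Cfsg.Agent.Lib.Fusion.Envelope
import Cfsg.Agent.Lib.Fusion.NormalCentralizer

/-!
The envelope of a normal subsystem `E` with `C_S(E) ≤ T`: its hyperfocal subgroup lies in `T`, and
on `T` it is `E`.
-/

set_option autoImplicit false
set_option linter.unusedSectionVars false

namespace CfsgLib.Fusion.Envelope

open Cfsg Cfsg.FusionSystem
open CfsgLib.Fusion.Supplement

variable {Ω : Type*} [Group Ω] {S T : Subgroup Ω} {F : FusionSystem S} {E : FusionSystem T}
variable {p : ℕ} [Fact p.Prime] [Finite S]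
variable {G : FusionSystem (T ⊔ centralizerIn S T)}
variable (hS : IsPGroup p S) (hF : F.IsSaturated p) (hE : E.IsNormalIn F p)
  (hst : Stage F E p G) (hGA : G.autGroup T = E.autGroup T)
include hS hF hE hst hGA

/-- On `T` the envelope is `E`. -/
theorem isMap_of_envelope {P : Subgroup Ω} {f : Ω → Ω} (hP : P ≤ T) (hf : IsMap G P f) :
    IsMap E P f := by
  obtain ⟨a, ha, f₀, hf₀, hv⟩ := exists_frattini hst.normalE.1.2.2 hP hf
  rw [hGA] at ha
  exact (hf₀.comp ((mem_autGroup_iff le_rfl a).1 ha).isMap fun x hx => hf₀.mem hx).congr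
    fun x hx => (hv x hx).symm

variable (hCE : NormalCentralizer.centE E F p hE.1.2.2.2.1.1 ≤ T)
include hCE

/-- Every map of the envelope is a conjugation modulo `T`. -/
theorem exists_conj_mod {P Q : Subgroup Ω} {f : Ω → Ω} (hf : IsIso G P Q f) :
    ∃ r ∈ T ⊔ centralizerIn S T, ∀ x ∈ P, (r * x * r⁻¹)⁻¹ * f x ∈ T := by
  have hTS := hE.1.2.2.2.1.1
  have hRS : T ⊔ centralizerIn S T ≤ S := sup_le hTS inf_le_left
  have : Finite ↥(T ⊔ centralizerIn S T) := finite_of_le hRS
  have hd := hst.data hS hF hE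
  obtain ⟨a, d, hs, ha, hd', hv⟩ := hd.fac hf
  obtain ⟨α, hα, hat⟩ := exists_restrict hd le_sup_left ha.isMap
  rw [hGA] at hα
  obtain ⟨β, hβ, hβT, hβC⟩ := hE.2 α hα
  have hβv : ∀ t ∈ T, autFun β t = autFun α t := fun t ht => by
    rw [autFun_apply β (Subgroup.mem_sup_left ht), autFun_apply α ht]
    exact hβT ⟨t, ht⟩
  have hRP : T ⊔ P ≤ T ⊔ centralizerIn S T := sup_le le_sup_left hf.le_left
  have hRQ : T ⊔ Q ≤ T ⊔ centralizerIn S T := sup_le le_sup_left hf.le_right
  have hβi : IsMap F (T ⊔ centralizerIn S T) (autFun β⁻¹) :=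
    ((mem_autGroup_iff hRS β⁻¹).1 ((F.autGroup _).inv_mem hβ)).isMap
  have hγ : IsMap F (T ⊔ P) (autFun β⁻¹ ∘ a) :=
    (isMap_of_subsystem hst.normal.1.2.2.1 ha.isMap).comp hβi fun x hx => hRQ (ha.mem hx)
  have hγT : ∀ t ∈ T, (autFun β⁻¹ ∘ a) t = t := fun t ht => by
    show autFun β⁻¹ (a t) = t
    rw [hat t ht, ← hβv t ht, NormalCentralizer.autFun_inv_self β (Subgroup.mem_sup_left ht)]
  have hmod : ∀ x ∈ T ⊔ P, x⁻¹ * a x ∈ T := by
    intro x hx
    have hxR : x ∈ ((centralizerIn S T ⊔ T : Subgroup Ω) : Set Ω) := by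
      rw [sup_comm]; exact hRP hx
    rw [Subgroup.coe_mul_of_left_le_normalizer_right (centralizerIn S T) T
      (inf_le_right.trans (Subgroup.centralizer_le_normalizer _))] at hxR
    obtain ⟨c, hc, t, ht, rfl⟩ := hxR
    simp only [SetLike.mem_coe] at hc ht
    have hcP : c ∈ T ⊔ P := by
      simpa using (T ⊔ P).mul_mem hx ((T ⊔ P).inv_mem (Subgroup.mem_sup_left ht))
    have hu : c⁻¹ * autFun β⁻¹ (a c) ∈ T := hCE (NormalCentralizer.focal_le_centE hS hF hE
      (centralizerSystem F T hTS) (fun _ => rfl)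
      (NormalCentralizer.mem_focal hTS hγ le_sup_left hcP hc hγT))
    set u := c⁻¹ * autFun β⁻¹ (a c) with hudef
    have hcR : c ∈ T ⊔ centralizerIn S T := Subgroup.mem_sup_right hc
    have hz : c⁻¹ * autFun β c ∈ T := by
      rw [autFun_apply β hcR]
      exact (hβC ⟨c, hcR⟩ hc).1
    have hac : a c = autFun β c * autFun β u := by
      have h1 : autFun β⁻¹ (a c) = c * u := by rw [hudef, mul_inv_cancel_left]
      rw [← (((mem_autGroup_iff hRS β).1 hβ).isMap).map_mul hcR (Subgroup.mem_sup_left hu),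
        ← h1, NormalCentralizer.autFun_self_inv β (hRQ (ha.mem hcP))]
    rw [ha.isMap.map_mul hcP (Subgroup.mem_sup_left ht), hac, hat t ht, hβv u hu]
    have h2 := T.mul_mem (T.mul_mem (T.mul_mem (T.inv_mem ht) hz) (autFun_mem α hu)) (autFun_mem α ht)
    convert h2 using 1
    group
  obtain ⟨-, r, hr, hrmod, -⟩ := hs.isMap_sys hd'
  refine ⟨r, hRP hr, fun x hx => ?_⟩
  rw [hv x hx]
  have h3 := T.mul_mem (hrmod x hx) (hmod _ (hd'.mem hx))
  convert h3 using 1
  group

/-- The hyperfocal subgroup of the envelope lies in `T`. -/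
theorem hyperfocal_envelope_le : G.hyperfocalSubgroup p ≤ T := by
  have hTS := hE.1.2.2.2.1.1
  set R := T ⊔ centralizerIn S T
  have hRS : R ≤ S := sup_le hTS inf_le_left
  have hnR : ∀ s ∈ R, ∀ u ∈ T, s * u * s⁻¹ ∈ T := fun s hs u hu =>
    NormalCentralizer.normalizer_T hE.1.2.2 (hRS hs) hu
  refine (Subgroup.closure_le _).2 ?_
  rintro _ ⟨P, α, x, hP, hα, rfl⟩
  have : Finite P := finite_of_le (hP.trans hRS)
  suffices H : ∀ x ∈ P, x⁻¹ * autFun (α : MulAut P) x ∈ T by
    have h1 := H x x.2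
    rwa [autFun_coe] at h1
  clear x
  induction hα using Subgroup.closure_induction with
  | mem b hb =>
    have hi := (mem_autGroup_iff hP (b : MulAut P)).1 b.2
    have ho : (orderOf (b : MulAut P)).Coprime p := by rw [Subgroup.orderOf_coe]; exact hb
    obtain ⟨γ, hγ, hv⟩ := exists_conj_mod hS hF hE hst hGA hCE hi
    have hk : ∀ k : ℕ, ∀ x ∈ P,
        (γ ^ k * x * (γ ^ k)⁻¹)⁻¹ * autFun ((b : MulAut P) ^ k) x ∈ T := by
      intro k
      induction k with
      | zero =>
        intro x hx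
        rw [pow_zero, pow_zero, NormalCentralizer.autFun_one hx]
        simp
      | succ k ih =>
        intro x hx
        have h1 := T.mul_mem (hnR γ hγ _ (ih x hx)) (hv _ (autFun_mem ((b : MulAut P) ^ k) hx))
        rw [pow_succ' (b : MulAut P), CfsgLib.Fusion.autFun_mul _ _ hx, pow_succ' γ]
        convert h1 using 1
        group
    intro x hx
    set n := orderOf (b : MulAut P) with hn
    obtain ⟨j, hj⟩ := (hS.to_le hRS) ⟨γ, hγ⟩
    have hγj : γ ^ p ^ j = 1 := congrArg Subtype.val hj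
    obtain ⟨i, -, hi'⟩ :=
      (Nat.dvd_prime_pow (Fact.out : p.Prime)).1 (orderOf_dvd_of_pow_eq_one hγj)
    obtain ⟨m, hm⟩ := exists_pow_eq_self_of_coprime (x := γ) (n := n)
      (by rw [hi']; exact ho.pow_right i)
    have h1 := hk (n * m) x hx
    rw [pow_mul γ, hm, pow_mul (b : MulAut P), hn, pow_orderOf_eq_one, one_pow,
      NormalCentralizer.autFun_one hx] at h1
    have h2 := T.mul_mem (T.inv_mem h1) (hv x hx)
    convert h2 using 1
    group
  | one =>
    intro x hx
    rw [OneMemClass.coe_one, NormalCentralizer.autFun_one hx, inv_mul_cancel]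
    exact T.one_mem
  | mul a b _ _ ha hb =>
    intro x hx
    rw [Subgroup.coe_mul, CfsgLib.Fusion.autFun_mul _ _ hx]
    have h1 := T.mul_mem (hb x hx) (ha _ (autFun_mem (b : MulAut P) hx))
    convert h1 using 1
    group
  | inv a _ ha =>
    intro x hx
    rw [Subgroup.coe_inv]
    have h1 := T.inv_mem (ha _ (autFun_mem (a : MulAut P)⁻¹ hx))
    rw [NormalCentralizer.autFun_self_inv _ hx] at h1
    simpa using h1

end CfsgLib.Fusion.Envelope
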