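import Cfsg.Agent.Lib.Fusion.EnvelopeClass
import Cfsg.Agent.Lib.Fusion.Hyperfocal
import Cfsg.Agent.Lib.Fusion.MeetAutomizer

/-!
The hyperfocal subgroup acts on `T` by automorphisms in every invariant overgroup of `Aut_E(T)` of
`p`-power index in `Aut_F(T)`.
-/

set_option autoImplicit false
set_option linter.unusedSectionVars false
set_option linter.style.haveILetI false

namespace CfsgLib.Fusion.Envelope

open Cfsg Cfsg.FusionSystem
open CfsgLib.Fusion.Supplement

variable {Ω : Type*} [Group Ω] {S T : Subgroup Ω} {F : FusionSystem S} {E : FusionSystem T}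
variable {p : ℕ} [Fact p.Prime] [Finite S]

variable (h : Data F p E) {N : Subgroup (MulAut T)}
  (hB : E.autGroup T ≤ N) (hN : ∀ a ∈ F.autGroup T, ∀ n ∈ N, a * n * a⁻¹ ∈ N)
  (hp' : ∀ a ∈ F.autGroup T, (orderOf a).Coprime p → a ∈ N)
include h hB hN hp'

set_option maxHeartbeats 1000000 in
/-- The hyperfocal subgroup induces automorphisms in `N`. -/
theorem hyperfocal_le_preInd : F.hyperfocalSubgroup p ≤ Meet.preInd S T N := by
  have hTS := h.TS
  have : Finite T := finite_of_le hTS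
  have := finite_mulAut T
  have hnT : ∀ {g : Ω}, g ∈ S → g ∈ Subgroup.normalizer (T : Set Ω) := fun hg =>
    mem_normalizer_of_conj_mem hTS fun z hz => h.normT hg hz
  have hcA : ∀ {g : Ω} (hg : g ∈ S), conjAut T (hnT hg) ∈ F.autGroup T := fun hg =>
    autInducedBy_le_autGroup hTS (conjAut_mem_autInducedBy _ hg)
  set U₁ := Meet.preInd S T N with hU₁
  have hmemU : ∀ {g : Ω} (hg : g ∈ S), conjAut T (hnT hg) ∈ N → g ∈ U₁ := fun hg hm =>
    Meet.mem_preInd_of_induces hg hm fun y => conjAut_apply T _ y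
  have hTU : ∀ t ∈ T, t ∈ U₁ := fun t ht => hmemU (hTS ht)
    (hB (autInducedBy_le_autGroup le_rfl (conjAut_mem_autInducedBy _ ht)))
  have hU₁n : ∀ s ∈ S, ∀ u ∈ U₁, s * u * s⁻¹ ∈ U₁ := by
    rintro s hs u ⟨hu, a, ha, hav⟩
    refine hmemU (S.mul_mem (S.mul_mem hs hu) (S.inv_mem hs)) ?_
    have e : conjAut T (hnT (S.mul_mem (S.mul_mem hs hu) (S.inv_mem hs))) =
        conjAut T (hnT hs) * a * (conjAut T (hnT hs))⁻¹ := by
      refine MulEquiv.ext fun y => ?_
      obtain ⟨z, rfl⟩ := (conjAut T (hnT hs)).surjective y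
      refine Subtype.ext ?_
      simp only [MulAut.mul_apply, MulAut.inv_apply_self, conjAut_apply, hav]
      group
    rw [e]
    exact hN _ (hcA hs) _ ha
  -- conjugation modulo `U₁`
  let M : Subgroup Ω → (Ω → Ω) → Prop := fun P f =>
    IsMap F P f ∧ ∃ γ ∈ S, ∀ x ∈ P, (γ * x * γ⁻¹)⁻¹ * f x ∈ U₁
  have hM : PPrime.IsSubPred F M :=
    { isMap := fun hf => hf.1
      congr := fun {P f g} hf he => ⟨hf.1.congr he, by
        obtain ⟨γ, hγ, hv⟩ := hf.2
        exact ⟨γ, hγ, fun x hx => he x hx ▸ hv x hx⟩⟩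
      conj := fun {P g} hP hg => ⟨isMap_conj hP hg, g, hg, fun x _ => by
        rw [inv_mul_cancel]; exact U₁.one_mem⟩
      comp := fun {P Q f g} hf hg hm => ⟨hf.1.comp hg.1 hm, by
        obtain ⟨γ, hγ, hv⟩ := hf.2
        obtain ⟨δ, hδ, hw⟩ := hg.2
        refine ⟨δ * γ, S.mul_mem hδ hγ, fun x hx => ?_⟩
        have h2 := U₁.mul_mem (hU₁n δ hδ _ (hv x hx)) (hw _ (hm x hx))
        show (δ * γ * x * (δ * γ)⁻¹)⁻¹ * g (f x) ∈ U₁
        convert h2 using 1
        group⟩
      inv := fun {P Q f r} hf hi hr h1 => ⟨hr.isMap, by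
        obtain ⟨γ, hγ, hv⟩ := hf.2
        refine ⟨γ⁻¹, S.inv_mem hγ, fun y hy => ?_⟩
        obtain ⟨x, hx, rfl⟩ := hi.surj hy
        have h2 := hU₁n _ (S.inv_mem hγ) _ (U₁.inv_mem (hv x hx))
        rw [h1 x hx]
        convert h2 using 1
        group⟩ }
  -- automorphisms of order prime to `p`
  have hfix : ∀ {P : Subgroup Ω}, P ≤ S → ∀ (α : MulAut P), (orderOf α).Coprime p →
      ∀ γ ∈ S, (∀ x ∈ P, (γ * x * γ⁻¹)⁻¹ * autFun α x ∈ U₁) →
      ∀ x ∈ P, x⁻¹ * autFun α x ∈ U₁ := by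
    intro P hP α ho γ hγ hv
    have hk : ∀ k : ℕ, ∀ x ∈ P, (γ ^ k * x * (γ ^ k)⁻¹)⁻¹ * autFun (α ^ k) x ∈ U₁ := by
      intro k
      induction k with
      | zero =>
        intro x hx
        rw [pow_zero, pow_zero, NormalCentralizer.autFun_one hx]
        simp
      | succ k ih =>
        intro x hx
        have h1 := U₁.mul_mem (hU₁n γ hγ _ (ih x hx)) (hv _ (autFun_mem (α ^ k) hx))
        rw [pow_succ' α, CfsgLib.Fusion.autFun_mul _ _ hx, pow_succ' γ]
        convert h1 using 1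
        group
    have hfix1 : ∀ m : ℕ, ∀ x ∈ P,
        ((γ ^ orderOf α) ^ m * x * ((γ ^ orderOf α) ^ m)⁻¹)⁻¹ * x ∈ U₁ := by
      intro m x hx
      rw [← pow_mul]
      have h1 := hk (orderOf α * m) x hx
      rwa [pow_mul α, pow_orderOf_eq_one, one_pow, NormalCentralizer.autFun_one hx] at h1
    intro x hx
    obtain ⟨j, hj⟩ := h.pgroup ⟨γ, hγ⟩
    have hγj : γ ^ p ^ j = 1 := congrArg Subtype.val hj
    obtain ⟨i, -, hi⟩ := (Nat.dvd_prime_pow (Fact.out : p.Prime)).1 (orderOf_dvd_of_pow_eq_one hγj)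
    obtain ⟨m, hm⟩ := exists_pow_eq_self_of_coprime (x := γ) (n := orderOf α)
      (by rw [hi]; exact ho.pow_right i)
    have h1 := hfix1 m x hx
    rw [hm] at h1
    have h2 := U₁.mul_mem (U₁.inv_mem h1) (hv x hx)
    convert h2 using 1
    group
  -- the centric subgroups
  have hcent : ∀ (Q : Subgroup Ω), F.IsCentric Q → ∀ α ∈ F.autGroup Q,
      (orderOf α).Coprime p → ∀ x ∈ Q, x⁻¹ * autFun α x ∈ U₁ := by
    intro Q hQ α hα ho
    have hi := (mem_autGroup_iff hQ.1 α).1 hα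
    obtain ⟨ν, hνA, hcls⟩ := exists_cls h hi
    set R₀ := T ⊔ Q
    have hR₀ : R₀ ≤ S := sup_le hTS hQ.1
    have hk : ∀ k : ℕ, Cls F E p R₀ R₀ Q (autFun (α ^ k)) (ν ^ k) := by
      intro k
      induction k with
      | zero =>
        rw [pow_zero, pow_zero]
        exact (cls_of_iso h le_sup_left (a := id) ⟨isMap_id hR₀, Set.image_id _⟩ le_sup_right
          fun t ht => (NormalCentralizer.autFun_one ht).symm).congr
            fun x hx => (NormalCentralizer.autFun_one hx).symm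
      | succ k ih =>
        rw [pow_succ', pow_succ']
        exact (ih.comp hcls fun x hx => autFun_mem _ hx).congr
          fun x hx => (CfsgLib.Fusion.autFun_mul _ _ hx).symm
    set J := N ⊔ autInducedBy R₀ T with hJ
    have hνn : ν ^ orderOf α ∈ J := by
      have h1 := compare h hQ (hk (orderOf α)) (hk 0) le_rfl (fun x _ => by
        rw [pow_orderOf_eq_one, pow_zero]) le_rfl le_rfl
      rw [pow_zero, inv_one, one_mul] at h1
      exact sup_le_sup_right hB _ h1
    obtain ⟨j, o, ho', hνo⟩ : ∃ j o : ℕ, o.Coprime p ∧ orderOf ν = p ^ j * o := by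
      obtain ⟨j, o, hnd, he⟩ := Nat.exists_eq_pow_mul_and_not_dvd (orderOf_pos ν).ne' p
        (Fact.out : p.Prime).ne_one
      exact ⟨j, o, ((Fact.out : p.Prime).coprime_iff_not_dvd.2 hnd).symm, he⟩
    have hνp : ν ^ p ^ j ∈ J := by
      refine Subgroup.mem_sup_left (hp' _ ((F.autGroup T).pow_mem hνA _) ?_)
      refine Nat.Coprime.coprime_dvd_left (orderOf_dvd_of_pow_eq_one ?_) ho'
      rw [← pow_mul, ← hνo, pow_orderOf_eq_one]
    have hνJ : ν ∈ J := by
      obtain ⟨u, v, huv⟩ := Nat.isCoprime_iff_coprime.2 (ho.pow_right j)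
      have e : ν = (ν ^ orderOf α) ^ u * (ν ^ p ^ j) ^ v := by
        rw [← zpow_natCast ν (orderOf α), ← zpow_natCast ν (p ^ j), ← zpow_mul, ← zpow_mul,
          ← zpow_add, mul_comm ((orderOf α : ℤ)), mul_comm ((↑(p ^ j) : ℤ)), huv, zpow_one]
      rw [e]
      exact J.mul_mem (J.zpow_mem hνn u) (J.zpow_mem hνp v)
    have hAN : autInducedBy R₀ T ≤ Subgroup.normalizer (N : Set (MulAut T)) := fun w hw =>
      Subgroup.mem_normalizer_fintype fun n hn =>
        hN w (autInducedBy_le_autGroup hTS (autInducedBy_mono hR₀ T hw)) n hn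
    obtain ⟨c, hc, k, hkN, hck⟩ : ∃ c ∈ autInducedBy R₀ T, ∃ k ∈ N, ν = c * k := by
      have h1 : ν ∈ ((autInducedBy R₀ T ⊔ N : Subgroup (MulAut T)) : Set (MulAut T)) := by
        rw [sup_comm]; exact hνJ
      rw [Subgroup.coe_mul_of_left_le_normalizer_right _ _ hAN] at h1
      obtain ⟨c, hc, k, hk, e⟩ := h1
      exact ⟨c, hc, k, hk, e.symm⟩
    obtain ⟨u, hu, huv⟩ := (mem_autInducedBy_iff R₀ T c).1 hc
    obtain ⟨a, d, hs, ha, hd, hv, hat⟩ := hcls
    obtain ⟨-, r, hr, hrmod, -⟩ := hs.isMap_sys hd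
    have hrS := hR₀ hr
    have huS := hR₀ hu
    refine hfix hQ.1 α ho (u * r) (S.mul_mem huS hrS) fun x hx => ?_
    set y := r * x * r⁻¹ with hy
    have hyR : y ∈ R₀ := R₀.mul_mem (R₀.mul_mem hr (Subgroup.mem_sup_right hx)) (R₀.inv_mem hr)
    have ht : y⁻¹ * d x ∈ T := hrmod x hx
    have e1 : autFun α x = a y * a (y⁻¹ * d x) := by
      rw [hv x hx, ← ha.isMap.map_mul hyR (Subgroup.mem_sup_left ht), mul_inv_cancel_left]
    have hatm : a (y⁻¹ * d x) ∈ U₁ := hTU _ (by rw [hat _ ht]; exact autFun_mem ν ht)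
    have hayS : a y ∈ S := hR₀ (ha.mem hyR)
    have hyS : y ∈ S := hR₀ hyR
    have hw : (u * y * u⁻¹)⁻¹ * a y ∈ S :=
      S.mul_mem (S.inv_mem (S.mul_mem (S.mul_mem huS hyS) (S.inv_mem huS))) hayS
    have hwU : (u * y * u⁻¹)⁻¹ * a y ∈ U₁ := by
      refine hmemU hw ?_
      have e2 : conjAut T (hnT hw) = c * ((conjAut T (hnT hyS))⁻¹ * k *
          (conjAut T (hnT hyS))⁻¹⁻¹ * k⁻¹) * c⁻¹ := by
        refine MulEquiv.ext fun z => ?_
        obtain ⟨z₁, rfl⟩ := ν.surjective z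
        rw [inv_inv]
        have key : (((ν (conjAut T (hnT hyS) z₁)) : T) : Ω) =
            a y * ((ν z₁ : T) : Ω) * (a y)⁻¹ := by
          rw [← autFun_coe ν, ← hat _ (SetLike.coe_mem _), conjAut_apply,
            ha.isMap.map_conj hyR (Subgroup.mem_sup_left z₁.2), hat _ z₁.2, autFun_coe]
        have e3 : ∀ w : T, ((c w : T) : Ω) = u * w * u⁻¹ := huv
        have e4 : (((conjAut T (hnT hyS))⁻¹ (k (conjAut T (hnT hyS) z₁)) : T) : Ω) =
            y⁻¹ * ((k (conjAut T (hnT hyS) z₁) : T) : Ω) * y := by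
          have h5 := conjAut_apply T (hnT hyS)
            ((conjAut T (hnT hyS))⁻¹ (k (conjAut T (hnT hyS) z₁)))
          rw [MulAut.apply_inv_self] at h5
          rw [h5]
          group
        refine Subtype.ext ?_
        rw [conjAut_apply, show (u * y * u⁻¹)⁻¹ * a y * ((ν z₁ : T) : Ω) *
          ((u * y * u⁻¹)⁻¹ * a y)⁻¹ = (u * y * u⁻¹)⁻¹ * (a y * ((ν z₁ : T) : Ω) * (a y)⁻¹) *
            (u * y * u⁻¹) by group, ← key, hck]
        simp only [MulAut.mul_apply, MulAut.inv_apply_self]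
        rw [e3, e3, e4]
        group
      rw [e2]
      exact hN c (autInducedBy_le_autGroup hTS (autInducedBy_mono hR₀ T hc)) _
        (N.mul_mem (hN _ ((F.autGroup T).inv_mem (hcA hyS)) _ hkN) (N.inv_mem hkN))
    have h3 := U₁.mul_mem hwU hatm
    show (u * r * x * (u * r)⁻¹)⁻¹ * autFun α x ∈ U₁
    rw [e1]
    convert h3 using 1
    rw [hy]
    group
  have hFM : F ≤ PPrime.ofPred F M hM := by
    refine le_of_autGroup_le' h.pgroup h.sat fun Q hQ α hα => ?_
    obtain ⟨hQc, hQn⟩ : F.IsCentric Q ∧ F.IsFullyNormalized Q := by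
      rcases hQ with rfl | hess
      · have hQ : ∀ R : Subgroup Ω, F.IsConj Q R → R = Q := fun R hR => by
          obtain ⟨g, hg⟩ := isConj_iff.1 hR
          exact Subgroup.eq_of_le_of_card_ge hg.le_right hg.card_eq.ge
        exact ⟨⟨le_rfl, fun R hR => hQ R hR ▸ inf_le_left⟩,
          ⟨le_rfl, fun R hR => by rw [hQ R hR]⟩⟩
      · exact ⟨hess.1, hess.2.1⟩
    have := finite_of_le hQn.1
    have := finite_mulAut Q
    obtain ⟨Sy, hSy⟩ := (isFullyAutomized_of_isFullyNormalized h.pgroup h.sat hQn).2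
    haveI := CfsgLib.Transfer.pResidual_normal p (F.autGroup Q)
    have htop : (⟨α, hα⟩ : F.autGroup Q) ∈
        (Sy : Subgroup (F.autGroup Q)) ⊔ Cfsg.pResidual p (F.autGroup Q) := by
      rw [CfsgLib.Transfer.sylow_sup_pResidual]; exact Subgroup.mem_top _
    obtain ⟨r, hr, β, hβ, hrβ⟩ := Subgroup.mem_sup_of_normal_right.1 htop
    have hα' : α = (r : MulAut Q) * (β : MulAut Q) := congrArg Subtype.val hrβ.symm
    rw [hα']
    refine Subgroup.mul_mem _ ?_ ?_
    · rw [hSy] at hr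
      obtain ⟨g, hg, hgv⟩ := (mem_autInducedBy_iff S Q _).1 hr
      exact mem_autGroup_of_isMap (isMap_conj hQn.1 hg) _ hgv
    · clear hα' hrβ htop
      induction hβ using Subgroup.closure_induction with
      | mem b hb =>
        refine mem_autGroup_of_isMap ((PPrime.isMap_ofPred hM).2
          ⟨((mem_autGroup_iff hQn.1 _).1 b.2).isMap, 1, S.one_mem, fun x hx => ?_⟩) _
          fun x => (autFun_coe _ x).symm
        simpa using hcent Q hQc b b.2 (by rw [Subgroup.orderOf_coe]; exact hb) x hx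
      | one => exact Subgroup.one_mem _
      | mul a b _ _ ha hb => exact Subgroup.mul_mem _ ha hb
      | inv a _ ha => exact Subgroup.inv_mem _ ha
  refine (Subgroup.closure_le _).2 ?_
  rintro _ ⟨P, α, x, hP, hα, rfl⟩
  suffices H : ∀ x : P, (x : Ω)⁻¹ * (((α : MulAut P) x : P) : Ω) ∈ U₁ from H x
  induction hα using Subgroup.closure_induction with
  | mem b hb =>
    intro x
    obtain ⟨φ, hφ, hv⟩ := ((mem_autGroup_iff hP _).1 b.2).isMap
    obtain ⟨-, γ, hγ, hγv⟩ := (PPrime.isMap_ofPred hM).1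
      (IsMap.congr ⟨φ, hFM P hφ, hv⟩ fun x _ => rfl)
    have h1 := hfix hP (b : MulAut P) (by rw [Subgroup.orderOf_coe]; exact hb) γ hγ hγv x x.2
    rwa [autFun_coe] at h1
  | one => intro x; simp
  | mul a b _ _ ha hb =>
    intro x
    have h1 := U₁.mul_mem (hb x) (ha ((b : MulAut P) x))
    convert h1 using 1
    simp only [Subgroup.coe_mul, MulAut.mul_apply]
    group
  | inv a _ ha =>
    intro x
    have h1 := U₁.inv_mem (ha ((a : MulAut P)⁻¹ x))
    rw [MulAut.apply_inv_self] at h1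
    simpa using h1

end CfsgLib.Fusion.Envelope
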