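import Cfsg.Agent.Lib.Fusion.EnvelopeClass
import Cfsg.Agent.Lib.Fusion.PPrimeExtend
import Cfsg.Agent.Lib.Fusion.NormalCentralizerSystem
import Cfsg.Agent.Lib.Fusion.Alperin

/-!
The subsystem of index prime to `p` cut out by an invariant overgroup of `Aut_E(T)` containing the
`p`-elements of `Aut_F(T)`.
-/

set_option autoImplicit false
set_option linter.unusedSectionVars false
set_option linter.style.haveILetI false

namespace CfsgLib.Fusion.Envelope

open Cfsg Cfsg.FusionSystem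
open CfsgLib.Fusion.Supplement

variable {Ω : Type*} [Group Ω] {S T : Subgroup Ω} {F : FusionSystem S} {E : FusionSystem T}
variable {p : ℕ} [Fact p.Prime] [Finite S]

/-- The automorphisms of `S` acting on `T` in `N`. -/
def resSub (F : FusionSystem S) (T : Subgroup Ω) (hTS : T ≤ S) (N : Subgroup (MulAut T)) :
    Subgroup (MulAut S) where
  carrier := {a | a ∈ F.autGroup S ∧ ∃ ν ∈ N, ∀ t ∈ T, autFun a t = autFun ν t}
  one_mem' := ⟨Subgroup.one_mem _, 1, N.one_mem, fun t ht => by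
    rw [NormalCentralizer.autFun_one (hTS ht), NormalCentralizer.autFun_one ht]⟩
  mul_mem' := by
    rintro a b ⟨ha, ν, hν, hav⟩ ⟨hb, μ, hμ, hbv⟩
    refine ⟨Subgroup.mul_mem _ ha hb, ν * μ, N.mul_mem hν hμ, fun t ht => ?_⟩
    rw [CfsgLib.Fusion.autFun_mul _ _ (hTS ht), hbv t ht, hav _ (autFun_mem μ ht),
      CfsgLib.Fusion.autFun_mul _ _ ht]
  inv_mem' := by
    rintro a ⟨ha, ν, hν, hav⟩
    exact ⟨Subgroup.inv_mem _ ha, ν⁻¹, N.inv_mem hν,
      fun t ht => NormalCentralizer.autFun_inv_eq hTS hav ht⟩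

/-- The subsystem cut out by `N`. -/
noncomputable def primeSys (F : FusionSystem S) (p : ℕ) (T : Subgroup Ω) (hTS : T ≤ S)
    (N : Subgroup (MulAut T)) : FusionSystem S :=
  PPrime.ext F p (resSub F T hTS N)

/-- The maps whose class lies in `N`. -/
def InN (F : FusionSystem S) (E : FusionSystem T) (p : ℕ) [Fact p.Prime] [Finite S]
    (N : Subgroup (MulAut T)) (P : Subgroup Ω) (f : Ω → Ω) : Prop :=
  IsMap F P f ∧ (F.IsCentric P → ∀ Q : Subgroup Ω, IsIso F P Q f →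
    ∃ ν ∈ N, Cls F E p (T ⊔ P) (T ⊔ Q) P f ν)

variable (h : Data F p E) {N : Subgroup (MulAut T)} (hB : E.autGroup T ≤ N)
  (hp : ∀ a ∈ F.autGroup T, ∀ k : ℕ, orderOf a = p ^ k → a ∈ N)
include h hB hp

theorem primeSys_sub : (primeSys F p T h.TS N).IsSubsystemOf F := PPrime.meet_subsystem

theorem isSaturated_primeSys : (primeSys F p T h.TS N).IsSaturated p :=
  PPrime.isSaturated_ext h.pgroup h.sat fun _ ha => ha.1

theorem indBy_le {R : Subgroup Ω} (hR : R ≤ S) : autInducedBy R T ≤ N := fun a ha => by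
  obtain ⟨g, hg, hgv⟩ := (mem_autInducedBy_iff R T a).1 ha
  obtain ⟨k, hk⟩ := (IsPGroup.iff_orderOf.1 (isPGroup_autInducedBy h.pgroup T))
    ⟨a, autInducedBy_mono hR T ha⟩
  exact hp a (autInducedBy_le_autGroup h.TS (autInducedBy_mono hR T ha)) k
    (by rwa [← Subgroup.orderOf_coe] at hk)

theorem amb_le {R : Subgroup Ω} (hR : R ≤ S) : amb E R ≤ N := sup_le hB (indBy_le h hB hp hR)

/-- A class of the same map lies in `N` with another one. -/
theorem mem_of_compare {R₁ R₁' R₂ R₂' P Q : Subgroup Ω} {f g : Ω → Ω} {α β : MulAut T}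
    (hP : F.IsCentric P) (hf : Cls F E p R₁ R₁' P f α) (hg : Cls F E p R₂ R₂' Q g β)
    (hR₂ : R₂ ≤ S) (hPQ : P ≤ Q) (hfg : ∀ x ∈ P, f x = g x) (hR : R₁ ≤ R₂) (hR' : R₁' ≤ R₂') :
    α ∈ N ↔ β ∈ N := by
  have h1 := amb_le h hB hp hR₂ (compare h hP hf hg hPQ hfg hR hR')
  constructor
  · intro hα
    have h2 := N.mul_mem hα (N.inv_mem h1)
    simpa [mul_assoc] using h2
  · intro hβ
    have h2 := N.mul_mem hβ h1
    rwa [mul_inv_cancel_left] at h2

omit h hB hp in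
theorem cls_le {R R' P : Subgroup Ω} {f : Ω → Ω} {α : MulAut T}
    (hf : Cls F E p R R' P f α) : R ≤ S ∧ R' ≤ S := by
  obtain ⟨a, d, hR, ha, -⟩ := hf
  exact ⟨ha.le_left, ha.le_right⟩

theorem isSubPred_inN : PPrime.IsSubPred F (InN F E p N) where
  isMap hf := hf.1
  congr := fun {P f g} hf he => ⟨hf.1.congr he, fun hP Q hQ => by
    obtain ⟨ν, hν, hc⟩ := hf.2 hP Q (hQ.congr fun x hx => (he x hx).symm)
    exact ⟨ν, hν, hc.congr he⟩⟩
  conj := fun {P g} hP hg => ⟨isMap_conj hP hg, fun _ Q hQ => by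
    have hgn : g ∈ Subgroup.normalizer (T : Set Ω) :=
      mem_normalizer_of_conj_mem h.TS fun z hz => h.normT hg hz
    have hR : T ⊔ P ≤ S := sup_le h.TS hP
    have : Finite ↥(T ⊔ P) := finite_of_le hR
    have hi : IsIso F (T ⊔ P) (T ⊔ Q) fun x => g * x * g⁻¹ := by
      obtain ⟨B, hBi⟩ := (isMap_conj (F := F) hR hg).exists_iso
      have e : B = T ⊔ Q := by
        refine le_antisymm (fun y hy => ?_) (sup_le (fun t ht => ?_) fun y hy => ?_)
        · obtain ⟨x, hx, rfl⟩ := hBi.surj hy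
          exact mem_of_mem_sup hBi.isMap le_sup_left le_sup_right
            (fun z hz => Subgroup.mem_sup_left (h.normT hg hz))
            (fun z hz => Subgroup.mem_sup_right (hQ.mem hz)) x hx
        · have h1 := hBi.mem (Subgroup.mem_sup_left
            (h.normT (S.inv_mem hg) ht : g⁻¹ * t * g⁻¹⁻¹ ∈ T) : g⁻¹ * t * g⁻¹⁻¹ ∈ T ⊔ P)
          simpa [mul_assoc] using h1
        · obtain ⟨x, hx, rfl⟩ := hQ.surj hy
          exact hBi.mem (Subgroup.mem_sup_right hx)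
      exact e ▸ hBi
    exact ⟨conjAut T hgn, indBy_le h hB hp le_rfl (conjAut_mem_autInducedBy hgn hg),
      cls_of_iso h le_sup_left hi le_sup_right fun t ht => by
        rw [autFun_apply _ ht, conjAut_apply]⟩⟩
  comp := fun {P P' f g} hf hg hm => ⟨hf.1.comp hg.1 hm, fun hP Q hQ => by
    obtain ⟨Q₁, hQ₁⟩ := hf.1.exists_iso
    have hQ₁c := CfsgLib.Fusion.isCentric_of_isConj hP hQ₁.isConj
    have hQ₁P : Q₁ ≤ P' := fun y hy => by
      obtain ⟨x, hx, rfl⟩ := hQ₁.surj hy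
      exact hm x hx
    have hP'c := isCentric_of_le hQ₁c hQ₁P hg.1.le
    obtain ⟨ν₁, hν₁, hc₁⟩ := hf.2 hP Q₁ hQ₁
    obtain ⟨Q₃, hQ₃⟩ := hg.1.exists_iso
    obtain ⟨ν₂, hν₂, hc₂⟩ := hg.2 hP'c Q₃ hQ₃
    have hgi : IsIso F Q₁ Q g := ⟨hg.1.mono hQ₁P, by
      rw [← hQ₁.image_eq, Set.image_image]; exact hQ.image_eq⟩
    obtain ⟨ν₃, -, hc₃⟩ := exists_cls h hgi
    have hν₃ : ν₃ ∈ N := (mem_of_compare h hB hp hQ₁c hc₃ hc₂ (cls_le hc₂).1 hQ₁P (fun _ _ => rfl)
      (sup_le_sup_left hQ₁P T) (sup_le_sup_left (fun y hy => by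
        obtain ⟨x, hx, rfl⟩ := hgi.surj hy
        exact hQ₃.mem (hQ₁P hx)) T)).2 hν₂
    exact ⟨ν₃ * ν₁, N.mul_mem hν₃ hν₁, hc₁.comp hc₃ fun x hx => hQ₁.mem hx⟩⟩
  inv := fun {P Q f r} hf hi hr h1 => ⟨hr.isMap, fun hQ Q' hQ' => by
    have hP := CfsgLib.Fusion.isCentric_of_isConj hQ hr.isConj
    obtain rfl : Q' = P := SetLike.coe_injective (hQ'.image_eq.symm.trans hr.image_eq)
    obtain ⟨ν, hν, hc⟩ := hf.2 hP Q hi
    obtain ⟨μ, -, hc'⟩ := exists_cls h hr
    have hR : T ⊔ Q' ≤ S := sup_le h.TS hP.1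
    have hid : Cls F E p (T ⊔ Q') (T ⊔ Q') Q' id 1 := cls_of_iso h le_sup_left
      ⟨isMap_id hR, Set.image_id _⟩ le_sup_right
      fun t ht => (NormalCentralizer.autFun_one ht).symm
    have h2 : μ * ν ∈ N := (mem_of_compare h hB hp hP (hc.comp hc' fun x hx => hi.mem hx) hid hR
      le_rfl h1 le_rfl le_rfl).2 N.one_mem
    refine ⟨μ, ?_, hc'⟩
    have h3 := N.mul_mem h2 (N.inv_mem hν)
    rwa [mul_inv_cancel_right] at h3⟩

/-- A class of an automorphism of `S`. -/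
theorem cls_top {a : MulAut S} (ha : a ∈ F.autGroup S) :
    ∃ ν ∈ F.autGroup T, (∀ t ∈ T, autFun a t = autFun ν t) ∧ ∀ P : Subgroup Ω, P ≤ S →
      ∀ Q : Subgroup Ω, IsIso F P Q (autFun a) →
        Cls F E p (T ⊔ P) (T ⊔ Q) P (autFun a) ν := by
  have hm := ((mem_autGroup_iff le_rfl a).1 ha).isMap
  obtain ⟨ν, hνA, hνv⟩ := exists_restrict h h.TS hm
  refine ⟨ν, hνA, hνv, fun P hP Q hQ => ?_⟩
  have hR : T ⊔ P ≤ S := sup_le h.TS hP
  have : Finite ↥(T ⊔ P) := finite_of_le hR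
  obtain ⟨B, hBi⟩ := (hm.mono hR).exists_iso
  have e : B = T ⊔ Q := by
    refine le_antisymm (fun y hy => ?_) (sup_le (fun t ht => ?_) fun y hy => ?_)
    · obtain ⟨x, hx, rfl⟩ := hBi.surj hy
      exact mem_of_mem_sup hBi.isMap le_sup_left le_sup_right
        (fun z hz => Subgroup.mem_sup_left (by rw [hνv z hz]; exact autFun_mem ν hz))
        (fun z hz => Subgroup.mem_sup_right (hQ.mem hz)) x hx
    · have h1 := hBi.mem (Subgroup.mem_sup_left (autFun_mem ν⁻¹ ht) : autFun ν⁻¹ t ∈ T ⊔ P)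
      rwa [hνv _ (autFun_mem ν⁻¹ ht), NormalCentralizer.autFun_self_inv ν ht] at h1
    · obtain ⟨x, hx, rfl⟩ := hQ.surj hy
      exact hBi.mem (Subgroup.mem_sup_right hx)
  exact cls_of_iso h le_sup_left (e ▸ hBi) le_sup_right hνv

/-- The subsystem consists of maps with class in `N`. -/
theorem primeSys_inN {P : Subgroup Ω} {f : Ω → Ω}
    (hf : IsMap (primeSys F p T h.TS N) P f) : InN F E p N P f := by
  have hM := isSubPred_inN h hB hp
  refine (PPrime.isMap_ofPred hM).1 (isMap_of_subsystem (PPrime.meet_le ⟨⟨fun R hR α hα => ?_,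
    fun a ha R hR hm => ?_⟩, fun a ha => ?_⟩) hf)
  · rw [PPrime.opc_eq] at hα
    induction hα using Subgroup.closure_induction with
    | mem b hb =>
      obtain ⟨hbF, k, hk⟩ := hb
      have hi := (mem_autGroup_iff hR.1 b).1 hbF
      refine mem_autGroup_of_isMap ((PPrime.isMap_ofPred hM).2 ⟨hi.isMap, fun _ Q hQ => ?_⟩) b
        fun x => (autFun_coe b x).symm
      obtain rfl : Q = R := SetLike.coe_injective (hQ.image_eq.symm.trans hi.image_eq)
      obtain ⟨ν, hνA, hc⟩ := exists_cls h hi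
      refine ⟨ν, ?_, hc⟩
      have hR₀ : T ⊔ Q ≤ S := sup_le h.TS hR.1
      have hpow : ∀ m : ℕ, Cls F E p (T ⊔ Q) (T ⊔ Q) Q (autFun (b ^ m)) (ν ^ m) := by
        intro m
        induction m with
        | zero =>
          rw [pow_zero, pow_zero]
          exact (cls_of_iso h le_sup_left (a := id) ⟨isMap_id hR₀, Set.image_id _⟩ le_sup_right
            fun t ht => (NormalCentralizer.autFun_one ht).symm).congr
              fun x hx => (NormalCentralizer.autFun_one hx).symm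
        | succ m ih =>
          rw [pow_succ', pow_succ']
          exact (ih.comp hc fun x hx => autFun_mem _ hx).congr
            fun x hx => (CfsgLib.Fusion.autFun_mul _ _ hx).symm
      have h1 : ν ^ p ^ k ∈ N := (mem_of_compare h hB hp hR (hpow (p ^ k)) (hpow 0) hR₀ le_rfl
        (fun x _ => by rw [← hk, pow_orderOf_eq_one, pow_zero]) le_rfl le_rfl).2
        (by rw [pow_zero]; exact N.one_mem)
      have := finite_of_le h.TS
      have := finite_mulAut T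
      obtain ⟨j, o, ho', hνo⟩ : ∃ j o : ℕ, o.Coprime p ∧ orderOf ν = p ^ j * o := by
        obtain ⟨j, o, hnd, he⟩ := Nat.exists_eq_pow_mul_and_not_dvd (orderOf_pos ν).ne' p
          (Fact.out : p.Prime).ne_one
        exact ⟨j, o, ((Fact.out : p.Prime).coprime_iff_not_dvd.2 hnd).symm, he⟩
      have h2 : ν ^ o ∈ N := by
        obtain ⟨i, -, hi⟩ := (Nat.dvd_prime_pow (Fact.out : p.Prime)).1
          (orderOf_dvd_of_pow_eq_one (show (ν ^ o) ^ p ^ j = 1 by
            rw [← pow_mul, mul_comm, ← hνo, pow_orderOf_eq_one]))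
        exact hp _ ((F.autGroup T).pow_mem hνA o) i hi
      obtain ⟨u, v, huv⟩ := Nat.isCoprime_iff_coprime.2 (ho'.symm.pow_left k)
      have e : ν = (ν ^ p ^ k) ^ u * (ν ^ o) ^ v := by
        rw [← zpow_natCast ν (p ^ k), ← zpow_natCast ν o, ← zpow_mul, ← zpow_mul,
          ← zpow_add, mul_comm ((↑(p ^ k) : ℤ)), mul_comm ((o : ℤ)), huv, zpow_one]
      rw [e]
      exact N.mul_mem (N.zpow_mem h1 u) (N.zpow_mem h2 v)
    | one => exact Subgroup.one_mem _
    | mul a b _ _ ha hb => exact Subgroup.mul_mem _ ha hb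
    | inv a _ ha => exact Subgroup.inv_mem _ ha
  · obtain ⟨ν, -, hνv, hcl⟩ := cls_top h hB hp ha
    obtain ⟨hfm, hfN⟩ := (PPrime.isMap_ofPred hM).1 hm
    obtain ⟨Q, hQ⟩ := hfm.exists_iso
    obtain ⟨μ, hμ, hc⟩ := hfN hR Q hQ
    have hν : ν ∈ N := (mem_of_compare h hB hp hR (hcl R hR.1 Q hQ) hc
      (sup_le h.TS hR.1) le_rfl (fun _ _ => rfl) le_rfl le_rfl).2 hμ
    refine mem_autGroup_of_isMap ((PPrime.isMap_ofPred hM).2
      ⟨((mem_autGroup_iff le_rfl a).1 ha).isMap, fun hSc Q' hQ' => ?_⟩) a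
      fun x => (autFun_coe a x).symm
    exact ⟨ν, hν, hcl S le_rfl Q' hQ'⟩
  · obtain ⟨haF, μ, hμ, hav⟩ := ha
    obtain ⟨ν, -, hνv, hcl⟩ := cls_top h hB hp haF
    have e : ν = μ := MulEquiv.ext fun t => Subtype.ext (by
      rw [← autFun_coe ν t, ← autFun_coe μ t, ← hνv t t.2, ← hav t t.2])
    refine mem_autGroup_of_isMap ((PPrime.isMap_ofPred hM).2
      ⟨((mem_autGroup_iff le_rfl a).1 haF).isMap, fun _ Q' hQ' =>
        ⟨ν, e ▸ hμ, hcl S le_rfl Q' hQ'⟩⟩) a fun x => (autFun_coe a x).symm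

/-- Automorphisms of `S` in the residual act on `T` in `N`. -/
theorem E0_aut_le : (PPrime.E0 F p).autGroup S ≤ resSub F T h.TS N := by
  intro a ha
  have hm := ((mem_autGroup_iff le_rfl a).1 ha)
  have haF : a ∈ F.autGroup S :=
    (mem_autGroup_iff le_rfl a).2 (hm.of_subsystem PPrime.meet_subsystem)
  obtain ⟨-, hin⟩ := primeSys_inN h hB hp
    (isMap_of_subsystem (PPrime.E0_le_ext (F := F) (p := p) (resSub F T h.TS N)) hm.isMap)
  obtain ⟨ν, -, hνv, hcl⟩ := cls_top h hB hp haF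
  have hSi := (mem_autGroup_iff le_rfl a).1 haF
  have hSc : F.IsCentric S := ⟨le_rfl, fun Q hQ => by
    obtain ⟨g, hg⟩ := isConj_iff.1 hQ
    rw [Subgroup.eq_of_le_of_card_ge hg.le_right hg.card_eq.ge]
    exact inf_le_left⟩
  obtain ⟨μ, hμ, hc⟩ := hin hSc S hSi
  exact ⟨haF, ν, (mem_of_compare h hB hp hSc (hcl S le_rfl S hSi) hc (sup_le h.TS le_rfl) le_rfl
    (fun _ _ => rfl) le_rfl le_rfl).2 hμ, hνv⟩

/-- Maps of centric subgroups with class in `N` are maps of the subsystem. -/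
theorem mem_primeSys {P Q : Subgroup Ω} {f : Ω → Ω} (hP : F.IsCentric P) (hf : IsIso F P Q f)
    {ν : MulAut T} (hν : ν ∈ N) (hc : Cls F E p (T ⊔ P) (T ⊔ Q) P f ν) :
    IsMap (primeSys F p T h.TS N) P f := by
  obtain ⟨-, hfac, -⟩ := PPrime.hasPrimeToPIndex h.pgroup h.sat
    (PPrime.meet_subsystem : (PPrime.E0 F p).IsSubsystemOf F) PPrime.closed_E0.1
  obtain ⟨a, ha, f₀, hf₀, hv⟩ := hfac hf.isMap
  obtain ⟨Q₀, hQ₀⟩ := hf₀.exists_iso
  have hG₀ : IsMap (primeSys F p T h.TS N) P f₀ :=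
    isMap_of_subsystem (PPrime.E0_le_ext _) hf₀
  obtain ⟨-, hin⟩ := primeSys_inN h hB hp hG₀
  obtain ⟨ν₀, hν₀, hc₀⟩ := hin hP Q₀ (hQ₀.of_subsystem PPrime.meet_subsystem)
  obtain ⟨μ, -, hμv, hcl⟩ := cls_top h hB hp ha
  have haQ : IsIso F Q₀ Q (autFun a) := ⟨(((mem_autGroup_iff le_rfl a).1 ha).isMap).mono
    hQ₀.le_right, by
    rw [← hQ₀.image_eq, Set.image_image, ← hf.image_eq]
    exact Set.image_congr fun x hx => (hv x hx).symm⟩
  have h1 : μ * ν₀ ∈ N := (mem_of_compare h hB hp hP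
    ((hc₀.comp (hcl Q₀ hQ₀.le_right Q haQ) fun x hx => hQ₀.mem hx).congr
      fun x hx => (hv x hx).symm) hc (cls_le hc).1 le_rfl (fun _ _ => rfl) le_rfl le_rfl).2 hν
  have hμ : μ ∈ N := by
    have h2 := N.mul_mem h1 (N.inv_mem hν₀)
    rwa [mul_inv_cancel_right] at h2
  exact (hG₀.comp ((mem_autGroup_iff le_rfl a).1 (PPrime.le_ext (p := p)
    (A := resSub F T h.TS N) (fun _ hb => hb.1)
    (show a ∈ resSub F T h.TS N from ⟨ha, μ, hμ, hμv⟩))).isMap
      fun x hx => hG₀.mem hx).congr fun x hx => (hv x hx).symm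

/-- The automizer of `T` in the subsystem is in `N`. -/
theorem autGroup_primeSys_le : (primeSys F p T h.TS N).autGroup T ≤ N := by
  have hTS := h.TS
  have hD := isSaturated_primeSys h hB hp
  have hsub := primeSys_sub h hB hp
  intro α hα
  have hT : ∀ (P : Subgroup Ω) (f : Ω → Ω), IsMap (primeSys F p T hTS N) P f →
      ∀ x ∈ P, x ∈ T → f x ∈ T := fun P f hf x hx hxT =>
    isMap_mem_of_stronglyClosed h.inv.2.1 (isMap_of_subsystem hsub hf) hx hxT
  have hTfn := NormalCentralizer.isFullyNormalized_of_closed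
    (F := primeSys F p T hTS N) hTS hT
  have hi := (mem_autGroup_iff hTS α).1 hα
  obtain ⟨g, hg, hgv⟩ := (isReceptive_iff.1
    (isReceptive_of_isFullyNormalized h.pgroup hD hTfn)).2 T _ hi
  set R := T ⊔ centralizerIn S T with hR
  have hRn : R ≤ nPhi S T (autFun α) := sup_le (le_nPhi hi.isMap) (centralizerIn_le_nPhi _ _)
  have hgR := hg.mono hRn
  have hRS : R ≤ S := sup_le hTS inf_le_left
  have : Finite R := finite_of_le hRS
  obtain ⟨B, hgB⟩ := hgR.exists_iso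
  have hBF := hgB.of_subsystem hsub
  have hstab : ∀ {B' : Subgroup Ω} {g' : Ω → Ω}, IsIso F R B' g' → B' = R := by
    intro B' g' hg'
    refine Subgroup.eq_of_le_of_card_ge (fun y hy => ?_) hg'.card_eq.ge
    obtain ⟨x, hx, rfl⟩ := hg'.surj hy
    obtain ⟨T', hT'⟩ := (hg'.isMap.mono (le_sup_left : T ≤ R)).exists_iso
    have : Finite T := finite_of_le hTS
    obtain rfl : T' = T := Subgroup.eq_of_le_of_card_ge (fun z hz => by
      obtain ⟨w, hw, rfl⟩ := hT'.surj hz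
      exact isMap_mem_of_stronglyClosed h.inv.2.1 hT'.isMap hw hw) hT'.card_eq.ge
    exact mem_of_mem_sup hg'.isMap le_sup_left le_sup_right
      (fun z hz => Subgroup.mem_sup_left (hT'.mem hz))
      (fun z hz => Subgroup.mem_sup_right (hg'.isMap.mem_centralizerIn le_sup_left hT'
        (Subgroup.mem_sup_right hz) hz.2)) x hx
  have hRc : F.IsCentric R := ⟨hRS, fun Q hQ => by
    obtain ⟨g', hg'⟩ := isConj_iff.1 hQ
    rw [hstab hg']
    exact fun x hx => Subgroup.mem_sup_right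
      ⟨hx.1, Subgroup.centralizer_le (le_sup_left : T ≤ R) hx.2⟩⟩
  have hB' := hstab hBF
  rw [hB'] at hBF
  obtain ⟨ν, hν, hc⟩ := (primeSys_inN h hB hp hgR).2 hRc R hBF
  have hTR : T ⊔ R = R := sup_eq_right.2 le_sup_left
  rw [hTR] at hc
  have hcl : Cls F E p R R R g α := cls_of_iso h le_sup_left hBF le_rfl fun t ht => hgv t ht
  exact (mem_of_compare h hB hp hRc hcl hc hRS le_rfl (fun _ _ => rfl) le_rfl le_rfl).2 hν

end CfsgLib.Fusion.Envelope
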