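import Cfsg.Agent.Lib.Fusion.EnvelopePower
import Cfsg.Agent.Lib.Fusion.EnvelopePrime
import Cfsg.Agent.Lib.Fusion.PowerIndex
import Cfsg.Agent.Lib.Fusion.StrongInvariance
import Cfsg.Agent.Lib.Fusion.ModelNormalBase

/-!
A normal subsystem stays normal in a saturated subsystem above `T C_S(T)` containing it and the
extensions of its automorphisms of `T` of order prime to `p`; both canonical steps qualify.
-/

set_option autoImplicit false
set_option linter.unusedSectionVars false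
set_option linter.style.haveILetI false

namespace CfsgLib.Fusion.Envelope

open Cfsg Cfsg.FusionSystem
open CfsgLib.Fusion.Supplement CfsgLib.Fusion.NormalCentralizer

variable {Ω : Type*} [Group Ω] {S T U : Subgroup Ω} {F : FusionSystem S} {E : FusionSystem T}
variable {p : ℕ} [Fact p.Prime] [Finite S]

/-- The normal subsystem is normal in the smaller system. -/
theorem normal_of_sub (h : Data F p E) {G : FusionSystem U} (hG : G.IsSaturated p)
    (hGF : G.IsSubsystemOf F) (hR : T ⊔ centralizerIn S T ≤ U) (hEG : E.IsSubsystemOf G)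
    (hext : ∀ δ : MulAut ↥(T ⊔ centralizerIn S T), IsExt E F p T δ →
      IsMap G (T ⊔ centralizerIn S T) (autFun δ)) : E.IsNormalIn G p := by
  have hI := h.inv
  have hTS := h.TS
  have hTU : T ≤ U := le_sup_left.trans hR
  have hUS : U ≤ S := (F.le_of_mem (hGF U (subtype_mem G le_rfl))).1
  have : Finite U := finite_of_le hUS
  have : Finite T := finite_of_le hTS
  have := finite_mulAut T
  have hUp : IsPGroup p U := h.pgroup.to_le hUS
  have hTp : IsPGroup p T := h.pgroup.to_le hTS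
  have hT : G.StronglyClosed T := stronglyClosed_iff.2 ⟨hTU, fun P f hf x hx hxT =>
    isMap_mem_of_stronglyClosed hI.2.1 (isMap_of_subsystem hGF hf) hx hxT⟩
  have hinv : E.IsInvariantIn G := (isInvariantIn_iff_strongInvariant hUp hG hEG hT).2
    fun P Q f g hPQ hQT hf hfQ hg =>
      strongInvariant_of_invariant hI P Q f g hPQ hQT hf hfQ (isMap_of_subsystem hGF hg)
  refine ⟨⟨h.normal.1.1, hG, hinv⟩, fun α hα => ?_⟩
  have hC : centralizerIn U T = centralizerIn S T := le_antisymm (inf_le_inf_right _ hUS)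
    fun c hc => ⟨hR (Subgroup.mem_sup_right hc), hc.2⟩
  have htop : E.IsCentric T := ⟨le_rfl, fun Q hQ => by
    obtain ⟨g, hg⟩ := isConj_iff.1 hQ
    rw [Subgroup.eq_of_le_of_card_ge hg.le_right hg.card_eq.ge]
    exact inf_le_left⟩
  have hTfn : E.IsFullyNormalized T := ⟨le_rfl, fun Q hQ => by
    obtain ⟨g, hg⟩ := isConj_iff.1 hQ
    rw [Subgroup.eq_of_le_of_card_ge hg.le_right hg.card_eq.ge]⟩
  obtain ⟨-, Sy, hSy⟩ := isFullyAutomized_of_isFullyNormalized hTp h.normal.1.1 hTfn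
  have hle : E.autGroup T ≤ extGroup G T hTU := by
    refine ModelNormal.le_of_sylow_coprime Sy (fun a ha => ?_) fun a ha hao => ?_
    · rw [hSy] at ha
      obtain ⟨t, ht, htv⟩ := (mem_autInducedBy_iff T T _).1 ha
      refine hasExt_of_isMap (isMap_conj le_rfl (hTU ht)) (sup_le hTU inf_le_left)
        (fun x hx => by rw [autFun_apply _ hx]; exact (htv ⟨x, hx⟩).symm) fun c hc => ?_
      have h1 : t * c * t⁻¹ = c := by
        have h2 := conj_eq_self_of_mem_centralizer hc.2 ht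
        calc t * c * t⁻¹ = (c * t * c⁻¹) * c * t⁻¹ := by rw [h2]
          _ = c := by group
      rw [h1, inv_mul_cancel]
      exact T.one_mem
    · obtain ⟨δ, hδ, hδv⟩ := exists_isExt h.pgroup h.sat h.normal htop ha hao
      refine hasExt_of_isMap (hext δ hδ) (by rw [hC]) hδv fun c hc => hδ.mod c (hC ▸ hc)
  obtain ⟨β, hβ, hβT, hβc⟩ := hle hα
  have hXU : T ⊔ centralizerIn U T ≤ U := sup_le hTU inf_le_left
  refine ⟨β, hβ, fun x => ?_, fun c hc => ?_⟩
  · rw [← autFun_coe β, ← autFun_coe α]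
    exact hβT x x.2
  · have h1 := hβc c hc
    have h2 := autFun_mem_centralizerIn le_sup_left hβ hXU hβT hc c.2
    rw [autFun_coe] at h1 h2
    exact ⟨h1, Subgroup.mul_mem _ (Subgroup.inv_mem _ hc.2) h2.2⟩

variable {N : Subgroup (MulAut T)}

/-- The subsystem cut out by `N` contains the normal subsystem. -/
theorem sub_primeSys (h : Data F p E) (hB : E.autGroup T ≤ N)
    (hp : ∀ a ∈ F.autGroup T, ∀ k : ℕ, orderOf a = p ^ k → a ∈ N) :
    E.IsSubsystemOf (primeSys F p T h.TS N) := by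
  have hI := h.inv
  have hTS := h.TS
  have : Finite T := finite_of_le hTS
  have hTp : IsPGroup p T := h.pgroup.to_le hTS
  set G := primeSys F p T hTS N
  have hM : PPrime.IsSubPred E fun P f => IsMap E P f ∧ IsMap G P f :=
    { isMap := fun hf => hf.1
      congr := fun hf he => ⟨hf.1.congr he, hf.2.congr he⟩
      conj := fun hP hg => ⟨isMap_conj hP hg, isMap_conj (hP.trans hTS) (hTS hg)⟩
      comp := fun hf hg hm => ⟨hf.1.comp hg.1 hm, hf.2.comp hg.2 hm⟩
      inv := fun {P Q f r} hf hi hr h1 => by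
        refine ⟨hr.isMap, ?_⟩
        obtain ⟨r', hr', hr'1, -⟩ := IsIso.exists_symm ⟨hf.2, hi.image_eq⟩
        refine hr'.isMap.congr fun y hy => ?_
        obtain ⟨x, hx, rfl⟩ := hi.surj hy
        rw [hr'1 x hx, h1 x hx] }
  suffices hle : E ≤ PPrime.ofPred E _ hM from fun P φ hφ => (mem_hom_iff φ).2
    ((PPrime.isMap_ofPred hM).1 ((mem_hom_iff φ).1 (hle P hφ))).2
  refine le_of_autGroup_le' hTp h.normal.1.1 fun Q hQ => ?_
  obtain ⟨hQfn, hQc⟩ : E.IsFullyNormalized Q ∧ E.IsCentric Q := by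
    rcases hQ with rfl | hess
    · have hQ : ∀ R : Subgroup Ω, E.IsConj Q R → R = Q := fun R hR => by
        obtain ⟨g, hg⟩ := isConj_iff.1 hR
        exact Subgroup.eq_of_le_of_card_ge hg.le_right hg.card_eq.ge
      exact ⟨⟨le_rfl, fun R hR => by rw [hQ R hR]⟩,
        ⟨le_rfl, fun R hR => hQ R hR ▸ inf_le_left⟩⟩
    · exact ⟨hess.2.1, hess.1⟩
  have hQT := hQfn.1
  have := finite_of_le hQT
  have := finite_mulAut Q
  have hQS := hQT.trans hTS
  obtain ⟨-, Sy, hSy⟩ := isFullyAutomized_of_isFullyNormalized hTp h.normal.1.1 hQfn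
  refine ModelNormal.le_of_sylow_coprime Sy (fun a ha => ?_) fun e he heo => ?_
  · rw [hSy] at ha
    exact autInducedBy_le_autGroup hQT ha
  have hei := (mem_autGroup_iff hQT e).1 he
  refine mem_autGroup_of_isMap ((PPrime.isMap_ofPred hM).2 ⟨hei.isMap, ?_⟩) e
    fun x => (autFun_coe e x).symm
  -- a fully normalised image under a map of the subsystem
  obtain ⟨Q', hQQ', hQ'⟩ := exists_isFullyNormalized (F := F) hQS
  obtain ⟨f, hf⟩ := isConj_iff.1 hQQ'
  obtain ⟨-, hfac, -⟩ := PPrime.hasPrimeToPIndex h.pgroup h.sat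
    (PPrime.meet_subsystem : (PPrime.E0 F p).IsSubsystemOf F) PPrime.closed_E0.1
  obtain ⟨a, ha, f₀, hf₀, hv⟩ := hfac hf.isMap
  have hG₀ : IsMap G Q f₀ := isMap_of_subsystem (PPrime.E0_le_ext _) hf₀
  obtain ⟨Q₀, hQ₀⟩ := hG₀.exists_iso
  have hQ₀F := hQ₀.of_subsystem (primeSys_sub h hB hp)
  have hQ₀n : F.IsFullyNormalized Q₀ := by
    refine ⟨hQ₀.le_right, fun B hB' => ?_⟩
    refine (hQ'.2 B (isConj_trans (isConj_symm hQQ') (isConj_trans hQ₀F.isConj hB'))).trans ?_
    have := finite_of_le (S := S) (P := normalizerIn S Q₀) inf_le_left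
    have hQeq : imageAut a⁻¹ Q' = Q₀ := SetLike.coe_injective (by
      rw [← coe_imageAut a⁻¹ hQ'.1, ← hf.image_eq, Set.image_image, ← hQ₀.image_eq]
      exact Set.image_congr fun x hx => by
        rw [hv x hx, PPrime.autFun_inv_autFun a (hf₀.mem hx)])
    have hm := PPrime.isIso_imageAut ((F.autGroup S).inv_mem ha) hQ'.1
    rw [hQeq] at hm
    have hN := PPrime.isMap_autFun ((F.autGroup S).inv_mem ha)
      (inf_le_left : normalizerIn S Q' ≤ S)
    exact hN.card_le fun x hx => hN.mem_normalizerIn (le_normalizerIn hQ'.1) hm hx hx.2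
  have hQ₀T : Q₀ ≤ T := Residual.le_of_iso hI hQT hQ₀F
  have hQ₀c : E.IsCentric Q₀ := Residual.isCentric_of_iso hI hQc hQ₀F
  have := finite_of_le hQ₀.le_right
  obtain ⟨e', he', he'v⟩ : ∃ e' ∈ E.autGroup Q₀, ∀ x ∈ Q, autFun e' (f₀ x) = f₀ (autFun e x) := by
    refine ⟨MulAut.congr hQ₀F.equiv e, ?_, fun x hx => ?_⟩
    · refine Residual.mem_autGroup_transport hI hQT hQ₀F he fun x hx => ?_
      rw [autFun_apply _ (hQ₀.mem hx), autFun_apply e hx]
      exact (hQ₀F.congr_apply e ⟨x, hx⟩).symm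
    · rw [autFun_apply _ (hQ₀.mem hx), autFun_apply e hx]
      exact hQ₀F.congr_apply e ⟨x, hx⟩
  have he'o : (orderOf e').Coprime p := by
    refine Nat.Coprime.coprime_dvd_left (orderOf_dvd_of_pow_eq_one ?_) heo
    have hpow : ∀ k : ℕ, ∀ x ∈ Q, autFun (e' ^ k) (f₀ x) = f₀ (autFun (e ^ k) x) := by
      intro k
      induction k with
      | zero =>
        intro x hx
        rw [pow_zero, pow_zero, autFun_one hx, autFun_one (hQ₀.mem hx)]
      | succ k ih =>
        intro x hx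
        rw [pow_succ', pow_succ', CfsgLib.Fusion.autFun_mul _ _ (hQ₀.mem hx), ih x hx,
          he'v _ (autFun_mem _ hx), CfsgLib.Fusion.autFun_mul _ _ hx]
    refine MulEquiv.ext fun y => Subtype.ext ?_
    obtain ⟨x, hx, hxy⟩ := hQ₀.surj y.2
    rw [← autFun_coe (e' ^ orderOf e) y, ← hxy, hpow _ x hx, pow_orderOf_eq_one, autFun_one hx,
      hxy]
    rfl
  set P := Q₀ ⊔ centralizerIn S Q₀
  have hPS : P ≤ S := sup_centralizerIn_le hQ₀.le_right
  have : Finite P := finite_of_le hPS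
  obtain ⟨δ, hδ, hδv⟩ := exists_isExt h.pgroup h.sat h.normal hQ₀c he' he'o
  have hfc := isFullyCentralized_of_isFullyNormalized h.pgroup h.sat hQ₀n
  have hPc : F.IsCentric P := by
    refine ⟨hPS, fun P' hP' => ?_⟩
    obtain ⟨g, hg⟩ := isConj_iff.1 hP'
    obtain ⟨Q₁, hQ₁⟩ := (hg.isMap.mono (le_sup_left : Q₀ ≤ P)).exists_iso
    intro x hx
    have hxQ : x ∈ centralizerIn S Q₁ := ⟨hx.1, Subgroup.centralizer_le (fun y hy => by
      obtain ⟨w, hw, rfl⟩ := hQ₁.surj hy
      exact hg.mem (Subgroup.mem_sup_left hw)) hx.2⟩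
    have hm := hg.isMap.mono (le_sup_right : centralizerIn S Q₀ ≤ P)
    have : Finite (centralizerIn S Q₁) := finite_of_le inf_le_left
    have hi := hm.isIso_of_card_le (B := centralizerIn S Q₁) (fun z hz =>
      hg.isMap.mem_centralizerIn le_sup_left hQ₁ (Subgroup.mem_sup_right hz) hz.2)
      (hfc.2 Q₁ hQ₁.isConj)
    obtain ⟨z, hz, rfl⟩ := hi.surj hxQ
    exact hg.mem (Subgroup.mem_sup_right hz)
  have hδi := (mem_autGroup_iff hPS δ).1 hδ.mem
  have hset := h.setting hPS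
  have hPT : P ⊓ T ≤ Q₀ := fun y hy => by
    obtain ⟨u, hu, c, hc, rfl⟩ :=
      Residual.exists_mul_of_mem_sup (centralizerIn_le_centralizer S Q₀) hy.1
    have hcT : c ∈ T := by
      have h1 := T.mul_mem (T.inv_mem (hQ₀T hu)) hy.2
      rwa [inv_mul_cancel_left] at h1
    exact Q₀.mul_mem hu (hQ₀c.2 Q₀ (isConj_refl hQ₀c.1) ⟨hcT, hc.2⟩)
  have hgen : Gen F E p (T ⊔ P) P δ := by
    refine ⟨⟨le_sup_right, isCentric_of_le hQ₀c (le_inf le_sup_left hQ₀T) inf_le_right⟩,
      mem_gam hI hδ.mem (fun x hx => ?_) (((((mem_autGroup_iff hQ₀T e').1 he').isMap).congr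
        fun x hx => (hδv x hx).symm).mono hPT), hδ.coprime⟩
    obtain ⟨u, hu, c, hc, rfl⟩ :=
      Residual.exists_mul_of_mem_sup (centralizerIn_le_centralizer S Q₀) hx
    rw [hδi.isMap.map_mul (Subgroup.mem_sup_left hu) (Subgroup.mem_sup_right hc),
      show (u * c)⁻¹ * (autFun δ u * autFun δ c) =
        c⁻¹ * (u⁻¹ * autFun δ u) * c * (c⁻¹ * autFun δ c) by group]
    refine T.mul_mem ?_ (hQ₀T (hδ.mod c hc))
    have h1 := h.normT (S.inv_mem hc.1)
      (T.mul_mem (T.inv_mem (hQ₀T hu)) (hQ₀T (hδ.map_mem hu)) : u⁻¹ * autFun δ u ∈ T)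
    rwa [inv_inv] at h1
  have hmd : IsMap hset.sys P (autFun δ) :=
    ((mem_autGroup_iff le_sup_right δ).1 (hset.mem_sys hgen)).isMap
  have hcls : Cls F E p (T ⊔ P) (T ⊔ P) P (autFun δ) 1 :=
    ⟨id, autFun δ, hset, ⟨isMap_id (sup_le hTS hPS), Set.image_id _⟩, hmd, fun _ _ => rfl,
      fun t ht => (autFun_one ht).symm⟩
  have hδG := mem_primeSys h hB hp hPc hδi N.one_mem hcls
  have he'G : IsMap G Q₀ (autFun e') := (hδG.mono le_sup_left).congr hδv
  obtain ⟨r, hr, hr1, -⟩ := hQ₀.exists_symm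
  refine ((hG₀.comp he'G fun x hx => hQ₀.mem hx).comp hr.isMap fun x hx => ?_).congr fun x hx => ?_
  · exact autFun_mem e' (hQ₀.mem hx)
  · show r (autFun e' (f₀ x)) = autFun e x
    rw [he'v x hx, hr1 _ (autFun_mem e hx)]

/-- The normal subsystem is normal in the subsystem cut out by `N`. -/
theorem normal_primeSys (h : Data F p E) (hB : E.autGroup T ≤ N)
    (hp : ∀ a ∈ F.autGroup T, ∀ k : ℕ, orderOf a = p ^ k → a ∈ N) :
    E.IsNormalIn (primeSys F p T h.TS N) p := by
  have hRS : T ⊔ centralizerIn S T ≤ S := sup_le h.TS inf_le_left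
  refine normal_of_sub h (isSaturated_primeSys h hB hp) (primeSys_sub h hB hp) hRS
    (sub_primeSys h hB hp) fun δ hδ => ?_
  have : Finite T := finite_of_le h.TS
  have : Finite ↥(T ⊔ centralizerIn S T) := finite_of_le hRS
  have hδi := (mem_autGroup_iff hRS δ).1 hδ.mem
  obtain ⟨α, hα, hαv⟩ := hδ.exists_restrict
  have hRc : F.IsCentric (T ⊔ centralizerIn S T) := ⟨hRS, fun Q hQ => by
    obtain ⟨g, hg⟩ := isConj_iff.1 hQ
    intro x hx
    have hTQ : T ≤ Q := fun t ht => by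
      have hi := (hg.isMap.mono (le_sup_left : T ≤ _)).isIso_of_card_le (B := T) (fun z hz =>
        isMap_mem_of_stronglyClosed h.inv.2.1 hg.isMap (Subgroup.mem_sup_left hz) hz) le_rfl
      obtain ⟨z, hz, rfl⟩ := hi.surj ht
      exact hg.mem (Subgroup.mem_sup_left hz)
    obtain ⟨T', hT'⟩ := (hg.isMap.mono (le_sup_left : T ≤ _)).exists_iso
    have hQR : Q ≤ T ⊔ centralizerIn S T := fun y hy => by
      obtain ⟨z, hz, rfl⟩ := hg.surj hy
      obtain rfl : T' = T := Subgroup.eq_of_le_of_card_ge (fun z hz => by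
        obtain ⟨w, hw, rfl⟩ := hT'.surj hz
        exact isMap_mem_of_stronglyClosed h.inv.2.1 hT'.isMap hw hw) hT'.card_eq.ge
      exact mem_of_mem_sup hg.isMap le_sup_left le_sup_right
        (fun w hw => Subgroup.mem_sup_left (hT'.mem hw))
        (fun w hw => Subgroup.mem_sup_right (hg.isMap.mem_centralizerIn le_sup_left hT'
          (Subgroup.mem_sup_right hw) hw.2)) z hz
    exact (Subgroup.eq_of_le_of_card_ge hQR hg.card_eq.ge).symm ▸
      Subgroup.mem_sup_right ⟨hx.1, Subgroup.centralizer_le hTQ hx.2⟩⟩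
  have hTR : T ⊔ (T ⊔ centralizerIn S T) = T ⊔ centralizerIn S T := sup_eq_right.2 le_sup_left
  have hc := cls_of_iso h le_sup_left hδi le_rfl hαv
  refine mem_primeSys h hB hp hRc hδi (hB hα) ?_
  rw [hTR]
  exact hc

/-- The subsystem of `p`-power index contains the normal subsystem as a normal one. -/
theorem normal_powerSys (h : Data F p E) (hR : T ⊔ centralizerIn S T ≤ U) (hUS : U ≤ S)
    {G : FusionSystem U} (hG : G.IsSaturated p) (hGF : G.IsSubsystemOf F)
    (hcov : PowerIndex.Cov F p U G) : E.IsNormalIn G p := by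
  have hTU : T ≤ U := le_sup_left.trans hR
  refine normal_of_sub h hG hGF hR
    (PowerIndex.le_of_cov h.pgroup h.TS h.normal.1.1 h.inv.1 hTU
      fun P hP α hα ho => hcov P (hP.trans hTU) α hα ho) fun δ hδ => ?_
  exact ((mem_autGroup_iff hR δ).1 (hcov _ hR δ hδ.mem hδ.coprime)).isMap

end CfsgLib.Fusion.Envelope
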