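import Mathlib
import Cfsg.Agent.Lib.Fusion.Normal
import Cfsg.Agent.Lib.Fusion.AbelianLayers
import Cfsg.Agent.Lib.Qd.RankTwo

/-!
An essential subgroup has no characteristic series with steps of order at most `p`.
-/

set_option autoImplicit false
set_option linter.style.haveILetI false

namespace CfsgLib.Fusion.EssentialFlag

open Cfsg Cfsg.FusionSystem

variable {p : ℕ} [Fact p.Prime]

/-- `T` is generated over `K` by an element whose `p`th power lies in `K`. -/
def SmallStep {H : Type*} [Group H] (p : ℕ) (K T : Subgroup H) : Prop :=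
  ∃ z ∈ T, z ^ p ∈ K ∧ T ≤ K ⊔ Subgroup.zpowers z

/-- A characteristic series with steps of order at most `p`. -/
def HasFlag (p : ℕ) (H : Type*) [Group H] : Prop :=
  ∃ (n : ℕ) (L : ℕ → Subgroup H), L 0 = ⊥ ∧ L n = ⊤ ∧ (∀ i, (L i).Characteristic) ∧
    ∀ i < n, SmallStep p (L i) (L (i + 1))

omit [Fact p.Prime] in
theorem smallStep_of_relIndex {H : Type*} [Group H] [Finite H] (hp : p.Prime) {K T : Subgroup H}
    [K.Normal] (hle : K ≤ T) (h : K.relIndex T = p) : SmallStep p K T := by
  obtain ⟨z, hzT, hzK⟩ : ∃ z ∈ T, z ∉ K := by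
    by_contra hc
    push Not at hc
    rw [Subgroup.relIndex_eq_one.2 hc] at h
    exact hp.one_lt.ne h
  refine ⟨z, hzT, ?_, ?_⟩
  · have := Subgroup.pow_index_mem (K.subgroupOf T) ⟨z, hzT⟩
    have h' : (K.subgroupOf T).index = p := h
    rw [h'] at this
    exact this
  · set M := K ⊔ Subgroup.zpowers z
    have hMT : M ≤ T := sup_le hle (Subgroup.zpowers_le.2 hzT)
    have hm := Subgroup.relIndex_mul_relIndex K M T le_sup_left hMT
    rw [h] at hm
    have h1 : K.relIndex M ≠ 1 := fun e =>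
      hzK (Subgroup.relIndex_eq_one.1 e (Subgroup.mem_sup_right (Subgroup.mem_zpowers z)))
    rcases hp.eq_one_or_self_of_dvd _ ⟨_, hm.symm⟩ with h2 | h2
    · exact absurd h2 h1
    · rw [h2] at hm
      exact Subgroup.relIndex_eq_one.1 ((mul_eq_left₀ hp.ne_zero).1 hm)

/-- An automorphism of `p`-power order acts trivially on a step of order `p`. -/
theorem step_stabilised {H : Type*} [Group H] {K T : Subgroup H} [K.Normal] (hs : SmallStep p K T)
    {α : MulAut H} (hK : ∀ x ∈ K, α x ∈ K) (hT : ∀ x ∈ T, α x ∈ T) {k : ℕ}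
    (hα : α ^ p ^ k = 1) : ∀ y ∈ T, y⁻¹ * α y ∈ K := by
  obtain ⟨z, hz, hzp, hgen⟩ := hs
  set q := QuotientGroup.mk' K
  have hq1 : ∀ y : H, q y = 1 ↔ y ∈ K := fun y => QuotientGroup.eq_one_iff y
  have hzq : q z ^ p = 1 := by rw [← map_pow, hq1]; exact hzp
  have hgen' : ∀ y ∈ T, ∃ j : ℤ, q y = q z ^ j := by
    intro y hy
    have := Subgroup.mem_map_of_mem q (hgen hy)
    rw [Subgroup.map_sup, MonoidHom.map_zpowers, QuotientGroup.map_mk'_self, bot_sup_eq] at this
    obtain ⟨j, hj⟩ := Subgroup.mem_zpowers_iff.1 this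
    exact ⟨j, hj.symm⟩
  obtain ⟨a, ha⟩ := hgen' (α z) (hT z hz)
  have hlin : ∀ (y : H) (j : ℤ), q y = q z ^ j → q (α y) = q z ^ (a * j) := by
    intro y j hy
    have hy' : y * (z ^ j)⁻¹ ∈ K := by rw [← hq1, map_mul, map_inv, map_zpow, hy, mul_inv_cancel]
    have := (hq1 _).2 (hK _ hy')
    rwa [map_mul, map_inv, map_zpow, map_mul, map_inv, map_zpow, ha, ← zpow_mul, mul_inv_eq_one] at this
  have hiter : ∀ m : ℕ, q ((α ^ m) z) = q z ^ (a ^ m) := by
    intro m
    induction m with
    | zero => simp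
    | succ m ih => rw [pow_succ', MulAut.mul_apply, hlin _ _ ih, pow_succ']
  intro y hy
  obtain ⟨j, hj⟩ := hgen' y hy
  rw [← hq1, map_mul, map_inv, hlin y j hj, hj]
  rcases eq_or_ne (q z) 1 with h | h
  · simp [h]
  have h1 : q z ^ (a ^ (p ^ k) - 1) = 1 := by
    rw [zpow_sub, zpow_one, ← hiter, hα, MulAut.one_apply, mul_inv_cancel]
  have h2 := orderOf_dvd_iff_zpow_eq_one.2 h1
  rw [orderOf_eq_prime hzq h, ← ZMod.intCast_zmod_eq_zero_iff_dvd, Int.cast_sub, Int.cast_pow,
    ZMod.pow_card_pow, Int.cast_one, sub_eq_zero] at h2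
  obtain ⟨d, hd⟩ : (p : ℤ) ∣ a * j - j := by
    rw [← ZMod.intCast_zmod_eq_zero_iff_dvd]
    push_cast
    rw [h2, one_mul, sub_self]
  rw [show a * j = j + (p : ℤ) * d by omega, zpow_add, zpow_mul, zpow_natCast, hzq, one_zpow,
    mul_one, inv_mul_cancel]

variable {Ω : Type*} [Group Ω] {S : Subgroup Ω} {F : FusionSystem S} [Finite S]

/-- A normal `p`-subgroup of the automizer of an essential subgroup contains no outer automorphism
induced from `S`. -/
theorem false_of_normal (hS : IsPGroup p S) {P : Subgroup Ω} (hne : P ≠ S)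
    (hP : F.IsEssential p P) (K : Subgroup (F.autGroup P)) (hKn : K.Normal) (hKp : IsPGroup p K)
    (h : ∀ α : F.autGroup P, (α : MulAut P) ∈ autInducedBy S P → α ∈ K) : False := by
  have hPS := hP.1.1
  have := finite_of_le hPS
  have := finite_mulAut P
  have hlt := lt_normalizerIn hS hPS hne
  obtain ⟨g, hg, hgP⟩ := SetLike.exists_of_lt hlt
  have hα := conjAut_mem_autInducedBy (K := S) hg.2 hg.1
  exact hgP (mem_of_mem_pCore hP.1 (isRadical_of_isEssential hS hP) hg
    (α := ⟨_, autInducedBy_le_autGroup hPS hα⟩) (conjAut_apply P hg.2)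
    (CfsgLib.Fitting.le_pCore hKn hKp (h _ hα)))

/-- An essential subgroup has no characteristic series with steps of order at most `p`. -/
theorem not_hasFlag (hS : IsPGroup p S) (hF : F.IsSaturated p) {P : Subgroup Ω}
    (hP : F.IsEssential p P) : ¬ HasFlag p P := by
  rintro ⟨n, L, h0, hn, hchar, hstep⟩
  have hPS := hP.1.1
  have := finite_of_le hPS
  have := finite_mulAut P
  have hinv : ∀ (α : MulAut P) (i : ℕ), ∀ x ∈ L i, α x ∈ L i := fun α i x hx =>
    (Subgroup.characteristic_iff_map_le.1 (hchar i) α) ⟨x, hx, rfl⟩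
  let K : Subgroup (MulAut P) :=
    { carrier := {α | ∀ i < n, ∀ x ∈ L (i + 1), x⁻¹ * α x ∈ L i}
      one_mem' := fun i _ x _ => by
        rw [MulAut.one_apply, inv_mul_cancel]; exact Subgroup.one_mem _
      mul_mem' := by
        intro a b ha hb i hi x hx
        rw [MulAut.mul_apply, show x⁻¹ * a (b x) = (x⁻¹ * b x) * ((b x)⁻¹ * a (b x)) by group]
        exact Subgroup.mul_mem _ (hb i hi x hx) (ha i hi _ (hinv b _ x hx))
      inv_mem' := by
        intro a ha i hi x hx
        have := Subgroup.inv_mem _ (ha i hi _ (hinv a⁻¹ _ x hx))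
        rwa [MulAut.apply_inv_self, mul_inv_rev, inv_inv] at this }
  refine false_of_normal hS (ne_of_isEssential hS hF hP) hP (K.subgroupOf (F.autGroup P)) ?_ ?_ ?_
  · refine ⟨fun a ha b i hi x hx => ?_⟩
    show x⁻¹ * ((b : MulAut P) * (a : MulAut P) * (b : MulAut P)⁻¹) x ∈ L i
    simp only [MulAut.mul_apply]
    have := hinv (b : MulAut P) i _ (ha i hi _ (hinv (b : MulAut P)⁻¹ _ x hx))
    rwa [map_mul, map_inv, MulAut.apply_inv_self] at this
  · exact (isPGroup_of_stabilizes_series (hS.to_le hPS) L n h0 hn K fun α hα => hα).comap_subtype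
  · intro α hα i hi x hx
    obtain ⟨k, hk⟩ := (isPGroup_autInducedBy hS P) ⟨(α : MulAut P), hα⟩
    haveI := hchar i
    exact step_stabilised (hstep i hi) (hinv _ i) (hinv _ (i + 1)) (congrArg Subtype.val hk) x hx

open AbelianLayers in
omit [Finite S] in
/-- A thin abelian `p`-group has a flag. -/
theorem hasFlag_of_thin {X : Type*} [CommGroup X] [Finite X] (hX : IsPGroup p X)
    (hT : AbelianLayers.Thin X p) : HasFlag p X := by
  obtain ⟨k, hk⟩ := hX.exists_card_eq
  set N := k + 1 with hN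
  have hexp : ∀ (j : ℕ), k ≤ j → ∀ x : X, x ^ p ^ j = 1 := fun j hj x => by
    obtain ⟨d, hd⟩ : p ^ k ∣ p ^ j := Nat.pow_dvd_pow p hj
    rw [hd, pow_mul, ← hk, pow_card_eq_one', one_pow]
  have hend : ∀ j, AbelianLayers.layer X p j N = (powMonoidHom (p ^ j) : X →* X).ker := fun j => by
    refine le_antisymm (sup_le le_rfl ?_) le_sup_left
    rintro _ ⟨-, v, rfl⟩
    rw [powMonoidHom_apply, hexp N (Nat.le_succ k) v]
    exact one_mem _
  have hker : ∀ j, AbelianLayers.layer X p j 0 ≤ (powMonoidHom (p ^ (j + 1)) : X →* X).ker := by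
    refine fun j => sup_le (fun x hx => ?_) inf_le_left
    rw [MonoidHom.mem_ker, powMonoidHom_apply] at hx ⊢
    rw [pow_succ, pow_mul, hx, one_pow]
  have hstart : ∀ j, AbelianLayers.layer X p j 0 = AbelianLayers.layer X p (j + 1) N := fun j => by
    rw [hend]
    exact le_antisymm (hker j) fun x hx => Subgroup.mem_sup_right ⟨hx, x, by simp⟩
  refine ⟨N * N, fun t => AbelianLayers.layer X p (t / N) (N - t % N), ?_, ?_, fun t => ?_, fun t ht => ?_⟩
  · simp only [Nat.zero_div, Nat.zero_mod, Nat.sub_zero, hend, pow_zero]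
    ext x
    simp
  · simp only [Nat.mul_div_cancel _ (show 0 < N by omega), Nat.mul_mod_left, Nat.sub_zero, hend]
    rw [eq_top_iff]
    intro x _
    exact hexp N (Nat.le_succ k) x
  · refine Subgroup.characteristic_iff_map_le.2 fun φ => ?_
    rintro _ ⟨x, hx, rfl⟩
    exact layer_map φ hx
  · have hd := Nat.div_add_mod t N
    have hlt := Nat.mod_lt t (show N > 0 by omega)
    obtain ⟨j, i, hi, h1, h2⟩ : ∃ j i, i ≤ N ∧
        AbelianLayers.layer X p (t / N) (N - t % N) = AbelianLayers.layer X p j (i + 1) ∧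
          AbelianLayers.layer X p ((t + 1) / N) (N - (t + 1) % N) = AbelianLayers.layer X p j i := by
      refine ⟨t / N, N - t % N - 1, by omega, by rw [Nat.sub_add_cancel (by omega)], ?_⟩
      rcases Nat.lt_or_ge (t % N + 1) N with h | h
      · have h1 : (t + 1) % N = t % N + 1 ∧ (t + 1) / N = t / N := by
          refine ⟨?_, ?_⟩
          · conv_lhs => rw [← hd, add_assoc, Nat.mul_add_mod, Nat.mod_eq_of_lt h]
          · conv_lhs => rw [← hd, add_assoc, Nat.mul_add_div (by omega), Nat.div_eq_of_lt h, add_zero]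
        rw [h1.1, h1.2, Nat.sub_sub]
      · have h1 : t + 1 = N * (t / N + 1) := by rw [Nat.mul_add]; omega
        rw [show N - t % N - 1 = 0 by omega, hstart, h1, Nat.mul_mod_right,
          Nat.mul_div_cancel_left _ (by omega), Nat.sub_zero]
    obtain ⟨x, hx⟩ := layer_step (p := p) hT j i
    dsimp only
    rw [h1, h2]
    refine ⟨x, hx ▸ Subgroup.mem_sup_right (Subgroup.mem_zpowers x), ?_, hx.le⟩
    have hxl : x ∈ AbelianLayers.layer X p j i := hx ▸ Subgroup.mem_sup_right (Subgroup.mem_zpowers x)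
    have hxk : x ^ p ^ (j + 1) = 1 := by
      have : AbelianLayers.layer X p j i ≤ (powMonoidHom (p ^ (j + 1)) : X →* X).ker := by
        refine sup_le (fun y hy => ?_) inf_le_left
        rw [MonoidHom.mem_ker, powMonoidHom_apply] at hy ⊢
        rw [pow_succ, pow_mul, hy, one_pow]
      exact this hxl
    refine Subgroup.mem_sup_left ?_
    rw [MonoidHom.mem_ker, powMonoidHom_apply, ← pow_mul, ← pow_succ', hxk]

/-- An abelian essential subgroup has a repeated invariant. -/
theorem repeated_of_abelian (hS : IsPGroup p S) (hF : F.IsSaturated p) {P : Subgroup Ω}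
    (hP : F.IsEssential p P) (hab : IsMulCommutative P) :
    ∃ (n : ℕ) (H : Type) (_ : CommGroup H), 0 < n ∧
      Nonempty (P ≃* (Multiplicative (ZMod (p ^ n)) × Multiplicative (ZMod (p ^ n))) × H) := by
  have := finite_of_le hP.1.1
  letI : CommGroup P := { (inferInstance : Group P) with mul_comm := hab.is_comm.comm }
  have hPp : IsPGroup p P := hS.to_le hP.1.1
  exact (AbelianLayers.thin_or_repeated hPp).resolve_left fun h =>
    not_hasFlag hS hF hP (hasFlag_of_thin hPp h)

/-- A homocyclic essential subgroup of rank two and exponent above `p` forces `p ≤ 3`. -/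
theorem le_three_of_homocyclic (hS : IsPGroup p S) (hF : F.IsSaturated p) {P : Subgroup Ω}
    (hP : F.IsEssential p P) {n : ℕ} (hn : 2 ≤ n)
    (e : P ≃* Multiplicative (ZMod (p ^ n)) × Multiplicative (ZMod (p ^ n))) : p ≤ 3 := by
  classical
  by_contra hp3
  push Not at hp3
  have hPS := hP.1.1
  have := finite_of_le hPS
  have := finite_mulAut P
  have hPp : IsPGroup p P := hS.to_le hPS
  letI : CommGroup P := { (inferInstance : Group P) with
    mul_comm := fun a b => e.injective (by rw [map_mul, map_mul, mul_comm]) }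
  have hC : ∀ v : Multiplicative (ZMod (p ^ n)), v ^ p ^ n = 1 := fun v => by
    have h := pow_card_eq_one' (x := v)
    rwa [Nat.card_congr Multiplicative.toAdd, Nat.card_zmod] at h
  haveI : NeZero (p ^ n) := ⟨(pow_pos (Fact.out : p.Prime).pos n).ne'⟩
  have hCdiv : ∀ v : Multiplicative (ZMod (p ^ n)), v ^ p = 1 → ∃ u, u ^ p = v := by
    intro v hv
    let g : Multiplicative (ZMod (p ^ n)) := Multiplicative.ofAdd 1
    have hg : orderOf g = p ^ n := by
      rw [show orderOf g = addOrderOf (1 : ZMod (p ^ n)) from orderOf_ofAdd_eq_addOrderOf _,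
        ZMod.addOrderOf_one]
    have hg1 : g ^ p ^ (n - 1) ≠ 1 := fun h' => by
      have := orderOf_dvd_of_pow_eq_one h'
      rw [hg, Nat.pow_dvd_pow_iff_le_right (Fact.out : p.Prime).one_lt] at this
      omega
    have hgp : (g ^ p ^ (n - 1)) ^ p = 1 := by
      rw [← pow_mul, ← pow_succ, show n - 1 + 1 = n by omega, hC]
    obtain ⟨j, hj⟩ := Subgroup.mem_zpowers_iff.1 (AbelianLayers.mem_zpowers_of_pow hgp hg1 hv)
    refine ⟨(g ^ p ^ (n - 1 - 1)) ^ j, ?_⟩
    rw [← hj, ← zpow_natCast, ← zpow_mul, mul_comm, zpow_mul, zpow_natCast, ← pow_mul, ← pow_succ,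
      show n - 1 - 1 + 1 = n - 1 by omega]
  set U : Subgroup P := (powMonoidHom p : P →* P).range with hU
  have hdiv : ∀ v : P, v ^ p = 1 → v ∈ U := by
    intro v hv
    obtain ⟨u1, hu1⟩ := hCdiv (e v).1 (by rw [← Prod.pow_fst, ← map_pow, hv, map_one]; rfl)
    obtain ⟨u2, hu2⟩ := hCdiv (e v).2 (by rw [← Prod.pow_snd, ← map_pow, hv, map_one]; rfl)
    refine ⟨e.symm (u1, u2), e.injective ?_⟩
    rw [powMonoidHom_apply, map_pow, e.apply_symm_apply, Prod.pow_mk, hu1, hu2]
  have hUinv : ∀ α : MulAut P, ∀ x ∈ U, α x ∈ U := by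
    rintro α _ ⟨v, rfl⟩
    exact ⟨α v, by simp⟩
  have hcardU : U.index = p ^ 2 := by
    have h1 : U.index = Nat.card (powMonoidHom p : P →* P).ker := by
      have h2 := U.card_mul_index
      have h3 := Subgroup.card_eq_card_quotient_mul_card_subgroup (powMonoidHom p : P →* P).ker
      rw [Nat.card_congr (QuotientGroup.quotientKerEquivRange (powMonoidHom p : P →* P)).toEquiv,
        ← hU, ← h2] at h3
      exact Nat.eq_of_mul_eq_mul_left Nat.card_pos h3
    have hk : Nat.card (powMonoidHom p : Multiplicative (ZMod (p ^ n)) →* _).ker = p := by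
      rw [IsCyclic.card_powMonoidHom_ker, Nat.card_congr Multiplicative.toAdd, Nat.card_zmod]
      exact Nat.gcd_eq_right (dvd_pow_self p (by omega))
    rw [h1, sq]
    conv_rhs => rw [← hk, ← Nat.card_prod]
    refine Nat.card_congr
      { toFun := fun v => (⟨(e v).1, ?_⟩, ⟨(e v).2, ?_⟩)
        invFun := fun u => ⟨e.symm ((u.1 : Multiplicative (ZMod (p ^ n))), (u.2 : Multiplicative (ZMod (p ^ n)))), ?_⟩
        left_inv := fun v => Subtype.ext (by simp)
        right_inv := fun u => Prod.ext (Subtype.ext (by simp)) (Subtype.ext (by simp)) }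
    · rw [MonoidHom.mem_ker, powMonoidHom_apply, ← Prod.pow_fst, ← map_pow,
        show (v : P) ^ p = 1 from v.2, map_one]; rfl
    · rw [MonoidHom.mem_ker, powMonoidHom_apply, ← Prod.pow_snd, ← map_pow,
        show (v : P) ^ p = 1 from v.2, map_one]; rfl
    · rw [MonoidHom.mem_ker, powMonoidHom_apply, ← map_pow, Prod.pow_mk,
        show (u.1 : Multiplicative (ZMod (p ^ n))) ^ p = 1 from u.1.2,
        show (u.2 : Multiplicative (ZMod (p ^ n))) ^ p = 1 from u.2.2]
      exact map_one e.symm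
  let K : Subgroup (MulAut P) :=
    { carrier := {α | ∀ v, α v * v⁻¹ ∈ U}
      one_mem' := fun v => by rw [MulAut.one_apply, mul_inv_cancel]; exact U.one_mem
      mul_mem' := fun {a b} ha hb v => by
        rw [MulAut.mul_apply, show a (b v) * v⁻¹ = (a (b v) * (b v)⁻¹) * (b v * v⁻¹) by group]
        exact U.mul_mem (ha _) (hb v)
      inv_mem' := fun {a} ha v => by
        have := U.inv_mem (ha (a⁻¹ v))
        rwa [MulAut.apply_inv_self, mul_inv_rev, inv_inv] at this }
  have hKn : (K.subgroupOf (F.autGroup P)).Normal := by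
    refine ⟨fun a ha b v => ?_⟩
    show ((b : MulAut P) * (a : MulAut P) * (b : MulAut P)⁻¹) v * v⁻¹ ∈ U
    have := hUinv (b : MulAut P) _ (ha ((b : MulAut P)⁻¹ v))
    rwa [map_mul, map_inv, MulAut.apply_inv_self] at this
  have hKp : IsPGroup p K := by
    refine isPGroup_of_stabilizes_series hPp (fun i => (powMonoidHom (p ^ (n - i)) : P →* P).range) n
      ?_ ?_ K fun α hα i hi x hx => ?_
    · rw [eq_bot_iff]
      rintro _ ⟨v, rfl⟩
      rw [Subgroup.mem_bot, powMonoidHom_apply, Nat.sub_zero]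
      apply e.injective
      rw [map_pow, map_one]
      exact Prod.ext (by rw [Prod.pow_fst, hC]; rfl) (by rw [Prod.pow_snd, hC]; rfl)
    · rw [eq_top_iff]
      intro v _
      exact ⟨v, by simp⟩
    · obtain ⟨v, rfl⟩ := hx
      obtain ⟨u, hu⟩ := hα v
      refine ⟨u, ?_⟩
      simp only [powMonoidHom_apply] at hu ⊢
      rw [map_pow, ← inv_pow, ← mul_pow, mul_comm v⁻¹, ← hu, ← pow_mul, ← pow_succ',
        show n - (i + 1) + 1 = n - i by omega]
  refine false_of_normal hS (ne_of_isEssential hS hF hP) hP _ hKn hKp.comap_subtype fun α hα => ?_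
  -- first reduce to automorphisms of order `p`
  by_contra hαK
  obtain ⟨k, hk⟩ := (isPGroup_autInducedBy hS P) ⟨(α : MulAut P), hα⟩
  have hk' : (α : MulAut P) ^ p ^ k = 1 := congrArg Subtype.val hk
  have hbot : ∀ β : F.autGroup P, (β : MulAut P) ∈ K → β = 1 := by
    intro β hβ
    have hrad := isRadical_of_isEssential hS hP
    have h1 : β ∈ Cfsg.pCore p (F.autGroup P) :=
      CfsgLib.Fitting.le_pCore hKn hKp.comap_subtype hβ
    have h2 : (β : MulAut P) ∈ Cfsg.Inn P := hrad.2 ▸ ⟨β, h1, rfl⟩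
    obtain ⟨g, hg, hgv⟩ := (mem_autInducedBy_iff P P _).1 (inn_eq_autInducedBy P ▸ h2)
    refine Subtype.ext (MulEquiv.ext fun x => Subtype.ext ?_)
    rw [hgv]
    show g * (x : Ω) * g⁻¹ = x
    have hc : (⟨g, hg⟩ : P) * x = x * ⟨g, hg⟩ := mul_comm _ _
    rw [show g * (x : Ω) = x * g from congrArg Subtype.val hc, mul_inv_cancel_right]
  obtain ⟨m, hm1, hm⟩ : ∃ m, (α : MulAut P) ^ p ^ m ≠ 1 ∧ (α : MulAut P) ^ p ^ (m + 1) = 1 := by
    have h0 : (α : MulAut P) ≠ 1 := fun h => hαK (by
      show (α : MulAut P) ∈ K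
      rw [h]; exact K.one_mem)
    have hex : ∃ j, (α : MulAut P) ^ p ^ j = 1 := ⟨k, hk'⟩
    rcases Nat.eq_zero_or_pos (Nat.find hex) with h | h
    · have := Nat.find_spec hex
      rw [h, pow_zero, pow_one] at this
      exact absurd this h0
    · exact ⟨Nat.find hex - 1, Nat.find_min hex (by omega),
        by rw [Nat.sub_add_cancel h]; exact Nat.find_spec hex⟩
  set β : MulAut P := (α : MulAut P) ^ p ^ m
  have hβp : β ^ p = 1 := by rw [← pow_mul, ← pow_succ, hm]
  refine hm1 (congrArg Subtype.val (hbot (α ^ p ^ m) ?_) : _)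
  show β ∈ K
  intro v
  let W : Subgroup P :=
    { carrier := {v | β v * v⁻¹ ∈ U}
      one_mem' := by simp
      mul_mem' := fun {a b} ha hb => by
        show β (a * b) * (a * b)⁻¹ ∈ U
        rw [map_mul, mul_inv, mul_mul_mul_comm]
        exact U.mul_mem ha hb
      inv_mem' := fun {a} ha => by
        show β a⁻¹ * a⁻¹⁻¹ ∈ U
        rw [map_inv, ← mul_inv]
        exact U.inv_mem ha }
  have hUW : U ≤ W := fun u hu => U.mul_mem (hUinv β u hu) (U.inv_mem hu)
  have hWinv : ∀ x ∈ W, β x ∈ W := fun x hx => by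
    show β (β x) * (β x)⁻¹ ∈ U
    have := hUinv β _ hx
    rwa [map_mul, map_inv] at this
  have hUne : W ≠ U := by
    intro hWU
    let ρ : MulAut (P ⧸ U) := QuotientGroup.congr U U β (by
      refine SetLike.coe_injective (Set.eq_of_subset_of_ncard_le ?_ ?_ (Set.toFinite _))
      · rintro _ ⟨x, hx, rfl⟩; exact hUinv β x hx
      · exact (Set.ncard_image_of_injective (U : Set P) β.injective).ge)
    have hρ : ∀ x : P, ρ (x : P ⧸ U) = ((β x : P) : P ⧸ U) := fun x => rfl
    have hρp : ρ ^ p = 1 := by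
      have key : ∀ (j : ℕ) (x : P), (ρ ^ j) (x : P ⧸ U) = (((β ^ j) x : P) : P ⧸ U) := by
        intro j
        induction j with
        | zero => intro x; rfl
        | succ j ih => intro x; rw [pow_succ', MulAut.mul_apply, ih, hρ, pow_succ', MulAut.mul_apply]
      refine MulEquiv.ext fun y => ?_
      obtain ⟨x, rfl⟩ := QuotientGroup.mk'_surjective U y
      exact (key p x).trans (by rw [hβp]; rfl)
    have hG : IsPGroup p (Subgroup.zpowers ρ) := by
      refine IsPGroup.of_card_dvd_pow (n := 1) ?_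
      rw [Nat.card_zpowers, pow_one]
      exact orderOf_dvd_of_pow_eq_one hρp
    obtain ⟨b, hb, hb1⟩ : ∃ b, b ∈ MulAction.fixedPoints (Subgroup.zpowers ρ) (P ⧸ U) ∧ (1 : P ⧸ U) ≠ b :=
      hG.exists_fixed_point_of_prime_dvd_card_of_fixed_point (P ⧸ U)
        (by rw [← Subgroup.index_eq_card, hcardU]; exact dvd_pow_self p two_ne_zero)
        (fun g => map_one (g : MulAut (P ⧸ U)))
    obtain ⟨x, rfl⟩ := QuotientGroup.mk'_surjective U b
    refine hb1 ((QuotientGroup.eq_one_iff x).2 (hWU ▸ ?_)).symm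
    have h := hb ⟨ρ, Subgroup.mem_zpowers ρ⟩
    have h' : ((β x : P) : P ⧸ U) = (x : P ⧸ U) := h
    show β x * x⁻¹ ∈ U
    rw [← QuotientGroup.eq_one_iff, QuotientGroup.mk_mul, QuotientGroup.mk_inv, h', mul_inv_cancel]
  have hd2 : ∀ v, β (β v * v⁻¹) * (β v * v⁻¹)⁻¹ ∈ U := by
    rcases eq_or_ne W ⊤ with hW | hW
    · intro v
      exact hW.ge (Subgroup.mem_top (β v * v⁻¹))
    have hidx : W.index = p := by
      have h1 := Subgroup.relIndex_mul_index hUW
      rw [hcardU] at h1
      obtain ⟨i, -, hi⟩ := (Nat.dvd_prime_pow (Fact.out : p.Prime)).1 ⟨_, (mul_comm _ _).trans h1 |>.symm⟩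
      rw [hi] at h1
      have hU1 : U.relIndex W ≠ 1 := fun e => hUne (le_antisymm (Subgroup.relIndex_eq_one.1 e) hUW)
      rcases i with _ | _ | i
      · exact absurd (Subgroup.index_eq_one.1 (by rw [hi, pow_zero])) hW
      · rw [hi, pow_one]
      · exfalso
        refine hU1 (Nat.eq_one_of_mul_eq_one_right (n := p ^ i) ?_)
        have hp0 : 0 < p ^ 2 := pow_pos (Fact.out : p.Prime).pos 2
        refine Nat.eq_of_mul_eq_mul_right hp0 ?_
        calc U.relIndex W * p ^ i * p ^ 2 = U.relIndex W * p ^ (i + 1 + 1) := by ring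
          _ = p ^ 2 := h1
          _ = 1 * p ^ 2 := (one_mul _).symm
    intro v
    have hs : SmallStep p W ⊤ := smallStep_of_relIndex Fact.out le_top (by rw [Subgroup.relIndex_top_right, hidx])
    have := step_stabilised hs hWinv (fun x _ => Subgroup.mem_top _) (k := 1) (by rw [pow_one, hβp]) v (Subgroup.mem_top v)
    show β v * v⁻¹ ∈ W
    rw [mul_comm]
    exact this
  refine CfsgLib.Qd.diff_mem_of_period hp3 U β.toMonoidHom ?_ ?_ ?_ hd2 v
  · intro v
    have key : ∀ (j : ℕ) (x : P), (β.toMonoidHom)^[j] x = (β ^ j) x := by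
      intro j
      induction j with
      | zero => intro x; rfl
      | succ j ih => intro x; rw [Function.iterate_succ_apply', ih, pow_succ', MulAut.mul_apply]; rfl
    rw [key, hβp]
    rfl
  · rintro u ⟨x, rfl⟩; exact ⟨x, rfl⟩
  · intro x v h
    have h1 : x * (v ^ p)⁻¹ ∈ U := hdiv _ (by rw [mul_pow, inv_pow, ← pow_mul, h, mul_inv_cancel])
    have := U.mul_mem h1 (⟨v, rfl⟩ : v ^ p ∈ U)
    simpa using this

end CfsgLib.Fusion.EssentialFlag
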