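import Mathlib
import Cfsg.Agent.Lib.Fusion.RankTwoInversion
import Cfsg.Agent.Lib.Fusion.Normal
import Cfsg.Agent.Lib.Qd.Facts

/-!
Automorphism groups of a group of order `p²` generated by two transvections contain `SL(2, p)`.
-/

set_option autoImplicit false

namespace CfsgLib.Fusion

open scoped MatrixGroups

variable {V : Type*} [Group V] [Finite V] {p : ℕ} [hp : Fact p.Prime]

omit [Finite V] in
theorem pow_eq_one_of_transvections (hV : Nat.card V = p ^ 2) {v w : V} {a b : MulAut V}
    (hgen : ∀ f g : V →* V, f v = g v → f w = g w → f = g)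
    (hav : a v = v) (haw : a w = w * v) (hbw : b w = w) (hbv : b v = v * w⁻¹) :
    ∀ x : V, x ^ p = 1 := by
  have hP : IsPGroup p V := IsPGroup.of_card hV
  have : Finite V := Nat.finite_of_card_ne_zero (by rw [hV]; exact pow_ne_zero _ hp.out.ne_zero)
  have hcyc : ¬ IsCyclic V := by
    intro hc
    have hab : ∀ α β : MulAut V, ∀ x, α (β x) = β (α x) := by
      intro α β x
      obtain ⟨g, hg⟩ := hc.exists_generator
      obtain ⟨i, hi⟩ := Subgroup.mem_zpowers_iff.1 (hg x)
      obtain ⟨j, hj⟩ := Subgroup.mem_zpowers_iff.1 (hg (α g))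
      obtain ⟨k, hk⟩ := Subgroup.mem_zpowers_iff.1 (hg (β g))
      rw [← hi, map_zpow, map_zpow, map_zpow, map_zpow, ← hj, ← hk, map_zpow, map_zpow, ← hj,
        ← hk, ← zpow_mul, ← zpow_mul, ← zpow_mul, ← zpow_mul]
      congr 1
      ring
    have h1 := hab a b w
    rw [hbw, haw, map_mul, hbw, hbv] at h1
    have hw1 : w = 1 := by
      have h2 : v = v * w⁻¹ := mul_left_cancel h1
      exact inv_eq_one.1 (mul_eq_left.1 h2.symm)
    have hv1 : v = 1 := by rw [hw1, map_one, one_mul] at haw; exact haw.symm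
    have h3 := hgen (MonoidHom.id V) 1 (by simp [hv1]) (by simp [hw1])
    have : Subsingleton V := ⟨fun x y => by
      have e : ∀ z : V, z = 1 := fun z => DFunLike.congr_fun h3 z
      rw [e x, e y]⟩
    rw [Nat.card_of_subsingleton (1 : V)] at hV
    exact absurd hV (Nat.one_lt_pow two_ne_zero hp.out.one_lt).ne
  intro x
  obtain ⟨k, hk, hkx⟩ := (Nat.dvd_prime_pow hp.out).1 (hV ▸ orderOf_dvd_natCard x)
  have hk2 : k ≠ 2 := by
    rintro rfl
    exact hcyc (isCyclic_of_orderOf_eq_card x (hkx.trans hV.symm))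
  exact orderOf_dvd_iff_pow_eq_one.1 (hkx ▸ (pow_dvd_pow p (show k ≤ 1 by omega)).trans
    (pow_one p).dvd)

/-- Two opposite transvections of a group of order `p²` generate a copy of `SL(2, p)`. -/
theorem exists_sl2_of_transvections (hV : Nat.card V = p ^ 2) {v w : V} {a b : MulAut V}
    (hgen : ∀ f g : V →* V, f v = g v → f w = g w → f = g)
    (hav : a v = v) (haw : a w = w * v) (hbw : b w = w) (hbv : b v = v * w⁻¹)
    {A : Subgroup (MulAut V)} (ha : a ∈ A) (hb : b ∈ A) :
    ∃ K : Subgroup A, Nonempty (K ≃* SL(2, ZMod p)) := by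
  have hexp := pow_eq_one_of_transvections hV hgen hav haw hbw hbv
  have hcomm : ∀ x y : V, x * y = y * x :=
    fun x y => (IsPGroup.isMulCommutative_of_card_eq_prime_sq hV).is_comm.comm x y
  letI : CommGroup V := { (inferInstance : Group V) with mul_comm := hcomm }
  haveI : NeZero p := ⟨hp.out.ne_zero⟩
  let fv : ZMod p →+ Additive V := ZMod.lift p ⟨zmultiplesHom (Additive V) (Additive.ofMul v), by
    rw [zmultiplesHom_apply, natCast_zsmul, ← ofMul_pow, hexp]; rfl⟩
  let fw : ZMod p →+ Additive V := ZMod.lift p ⟨zmultiplesHom (Additive V) (Additive.ofMul w), by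
    rw [zmultiplesHom_apply, natCast_zsmul, ← ofMul_pow, hexp]; rfl⟩
  let e₀ : Multiplicative (Fin 2 → ZMod p) →* V := MonoidHom.mk'
    (fun i => (fv (i.toAdd 0)).toMul * (fw (i.toAdd 1)).toMul) fun i j => by
      simp only [toAdd_mul, Pi.add_apply, map_add, toMul_add]
      exact mul_mul_mul_comm _ _ _ _
  have hfv : ∀ n : ℕ, fv (n : ZMod p) = Additive.ofMul (v ^ n) := fun n => by
    rw [← Int.cast_natCast, ZMod.lift_coe]
    simp [ofMul_pow]
  have hfw : ∀ n : ℕ, fw (n : ZMod p) = Additive.ofMul (w ^ n) := fun n => by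
    rw [← Int.cast_natCast, ZMod.lift_coe]
    simp [ofMul_pow]
  have hv1 : v ≠ 1 := by
    intro e
    rw [e, map_one, one_mul] at hbv
    have hw : w = 1 := inv_eq_one.1 hbv.symm
    have h3 := hgen (MonoidHom.id V) 1 (by simp [e]) (by simp [hw])
    have : Subsingleton V := ⟨fun x y => by
      have e : ∀ z : V, z = 1 := fun z => DFunLike.congr_fun h3 z
      rw [e x, e y]⟩
    rw [Nat.card_of_subsingleton (1 : V)] at hV
    exact absurd hV (Nat.one_lt_pow two_ne_zero hp.out.one_lt).ne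
  have hvR : v ∈ e₀.range := ⟨Multiplicative.ofAdd ![1, 0], by
    show (fv 1).toMul * (fw 0).toMul = v
    rw [← Nat.cast_one, hfv, map_zero]; simp⟩
  have hwR : w ∈ e₀.range := ⟨Multiplicative.ofAdd ![0, 1], by
    show (fv 0).toMul * (fw 1).toMul = w
    rw [← Nat.cast_one, hfw, map_zero]; simp⟩
  have hwv : w ∉ Subgroup.zpowers v := by
    intro h
    obtain ⟨k, hk⟩ := Subgroup.mem_zpowers_iff.1 h
    have h1 : b w = (v * w⁻¹) ^ k := by rw [← hbv, ← map_zpow, hk]
    rw [hbw, mul_zpow, hk, left_eq_mul, inv_zpow, inv_eq_one] at h1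
    have hvp : orderOf v = p := orderOf_eq_prime (hexp v) hv1
    have h2 : (p : ℤ) ∣ k * k := by
      rw [← hvp, orderOf_dvd_iff_zpow_eq_one, zpow_mul, hk, h1]
    have h3 : (p : ℤ) ∣ k := (Int.Prime.dvd_mul' hp.out h2).elim id id
    have hw : w = 1 := by rw [← hk, ← orderOf_dvd_iff_zpow_eq_one, hvp]; exact h3
    rw [hw, map_one, one_mul] at haw
    exact hv1 haw.symm
  have hsurj : Function.Surjective e₀ := by
    rw [← MonoidHom.range_eq_top]
    by_contra hne
    obtain ⟨k, hk, hkc⟩ := (Nat.dvd_prime_pow hp.out).1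
      (hV ▸ Subgroup.card_subgroup_dvd_card e₀.range)
    have hk2 : k ≠ 2 := by
      rintro rfl
      exact hne ((Subgroup.card_eq_iff_eq_top _).1 (hkc.trans hV.symm))
    have hle : Subgroup.zpowers v ≤ e₀.range := Subgroup.zpowers_le.2 hvR
    refine hwv ((Subgroup.eq_of_le_of_card_ge hle ?_).symm ▸ hwR)
    rw [Nat.card_zpowers, orderOf_eq_prime (hexp v) hv1, hkc]
    exact (Nat.pow_le_pow_right hp.out.pos (show k ≤ 1 by omega)).trans (pow_one p).le
  have hbij : Function.Bijective e₀ := by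
    refine (Nat.bijective_iff_surjective_and_card _).2 ⟨hsurj, ?_⟩
    rw [hV, Nat.card_congr Multiplicative.toAdd, Nat.card_fun, Nat.card_fin, Nat.card_zmod]
  let e := MulEquiv.ofBijective e₀ hbij
  let ρ : SL(2, ZMod p) →* MulAut (Multiplicative (Fin 2 → ZMod p)) := MonoidHom.mk'
    (fun M => AddEquiv.toMultiplicative
      { toFun := fun x => (M : Matrix (Fin 2) (Fin 2) (ZMod p)).mulVec x
        invFun := fun x => ((M⁻¹ : SL(2, ZMod p)) : Matrix (Fin 2) (Fin 2) (ZMod p)).mulVec x
        left_inv := fun x => by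
          show (M⁻¹ : SL(2, ZMod p)).1.mulVec (M.1.mulVec x) = x
          rw [Matrix.mulVec_mulVec, ← Matrix.SpecialLinearGroup.coe_mul, inv_mul_cancel]
          simp
        right_inv := fun x => by
          show M.1.mulVec ((M⁻¹ : SL(2, ZMod p)).1.mulVec x) = x
          rw [Matrix.mulVec_mulVec, ← Matrix.SpecialLinearGroup.coe_mul, mul_inv_cancel]
          simp
        map_add' := fun x y => Matrix.mulVec_add _ _ _ })
    fun M N => MulEquiv.ext fun x => by
      show Multiplicative.ofAdd ((M * N : SL(2, ZMod p)).1.mulVec x.toAdd) =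
        Multiplicative.ofAdd (M.1.mulVec (N.1.mulVec x.toAdd))
      rw [Matrix.mulVec_mulVec, Matrix.SpecialLinearGroup.coe_mul]
  let Φ : SL(2, ZMod p) →* MulAut V := (MulAut.congr e).toMonoidHom.comp ρ
  have hΦinj : Function.Injective Φ := by
    intro M N h
    have h' : ρ M = ρ N := (MulAut.congr e).injective h
    apply Subtype.ext
    refine Matrix.ext fun i j => ?_
    have h1 := congrFun (congrArg Multiplicative.toAdd
      (DFunLike.congr_fun h' (Multiplicative.ofAdd (Pi.single j 1 : Fin 2 → ZMod p)))) i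
    fin_cases i <;> fin_cases j <;> simpa [ρ] using h1
  have hval : ∀ (M : SL(2, ZMod p)) (x : Multiplicative (Fin 2 → ZMod p)),
      Φ M (e₀ x) = e₀ (Multiplicative.ofAdd (M.1.mulVec x.toAdd)) := fun M x => by
    show e (ρ M (e.symm (e x))) = _
    rw [e.symm_apply_apply]
    rfl
  have hext : ∀ (M : SL(2, ZMod p)) (c : MulAut V), Φ M v = c v → Φ M w = c w → Φ M = c :=
    fun M c h₁ h₂ => MulEquiv.ext fun x => DFunLike.congr_fun
      (hgen (Φ M).toMonoidHom c.toMonoidHom h₁ h₂) x
  have ev : e₀ (Multiplicative.ofAdd ![1, 0]) = v := by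
    show (fv 1).toMul * (fw 0).toMul = v
    rw [← Nat.cast_one, hfv, map_zero]; simp
  have ew : e₀ (Multiplicative.ofAdd ![0, 1]) = w := by
    show (fv 0).toMul * (fw 1).toMul = w
    rw [← Nat.cast_one, hfw, map_zero]; simp
  have hA : Φ (SL2.up 1) = a := by
    refine hext _ _ ?_ ?_
    · rw [hav]
      conv_lhs => rw [← ev, hval]
      conv_rhs => rw [← ev]
      congr 2
      rw [SL2.up_coe]
      ext i; fin_cases i <;> simp [Matrix.mulVec, dotProduct]
    · rw [haw]
      conv_lhs => rw [← ew, hval]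
      conv_rhs => rw [← ew, ← ev, ← map_mul, ← ofAdd_add]
      congr 2
      rw [SL2.up_coe]
      ext i; fin_cases i <;> simp [Matrix.mulVec, dotProduct]
  have hB : Φ (SL2.lo 1)⁻¹ = b := by
    refine hext _ _ ?_ ?_
    · rw [hbv]
      conv_lhs => rw [← ev, hval]
      conv_rhs => rw [← ev, ← ew, ← map_inv, ← map_mul, ← ofAdd_neg, ← ofAdd_add]
      congr 2
      rw [Matrix.SpecialLinearGroup.coe_inv, SL2.lo_coe, Matrix.adjugate_fin_two_of]
      ext i; fin_cases i <;> simp [Matrix.mulVec, dotProduct]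
    · rw [hbw]
      conv_lhs => rw [← ew, hval]
      conv_rhs => rw [← ew]
      congr 2
      rw [Matrix.SpecialLinearGroup.coe_inv, SL2.lo_coe, Matrix.adjugate_fin_two_of]
      ext i; fin_cases i <;> simp [Matrix.mulVec, dotProduct]
  have hle : Φ.range ≤ A := by
    have h : A.comap Φ = ⊤ := CfsgLib.Qd.eq_top_of_up_lo (by rw [Subgroup.mem_comap, hA]; exact ha)
      (by rw [← inv_mem_iff, Subgroup.mem_comap, hB]; exact hb)
    rintro _ ⟨M, rfl⟩
    exact (h ▸ Subgroup.mem_top M : M ∈ A.comap Φ)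
  exact ⟨Φ.range.subgroupOf A,
    ⟨(Subgroup.subgroupOfEquivOfLe hle).trans (MonoidHom.ofInjective hΦinj).symm⟩⟩

end CfsgLib.Fusion
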