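import Mathlib
import Cfsg.Prelude.Def_Transfer
import Cfsg.Agent.Lib.Fusion.EssentialFlag
import Cfsg.Agent.Lib.Critical.Basic
import Cfsg.Agent.Lib.PSolvable.Omega

/-!
Non-abelian `p`-groups of order `p ^ 3` and `p ^ 4` without a characteristic series with steps of
order at most `p`.
-/

set_option autoImplicit false
set_option linter.style.haveILetI false

namespace CfsgLib.Fusion.SmallNonabelian

open scoped commutatorElement
open CfsgLib.Fusion.EssentialFlag

universe u

variable {p : ℕ} [Fact p.Prime] {H : Type u} [Group H]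

omit [Fact p.Prime] in
/-- Powers of a product in class two. -/
theorem mul_pow_class_two {a b : H} (hc : ∀ g, Commute ⁅b, a⁆ g) (n : ℕ) :
    (a * b) ^ n = a ^ n * b ^ n * ⁅b, a⁆ ^ n.choose 2 := by
  induction n with
  | zero => simp
  | succ n ih =>
    set c := ⁅b, a⁆ with hcdef
    have h0 : b * a = c * (a * b) := by rw [hcdef, commutatorElement_def]; group
    have h1 : ∀ k : ℕ, b ^ k * a = c ^ k * a * b ^ k := by
      intro k
      induction k with
      | zero => simp
      | succ k ihk =>
        calc b ^ (k + 1) * a = b * (b ^ k * a) := by rw [pow_succ', mul_assoc]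
          _ = b * (c ^ k * a * b ^ k) := by rw [ihk]
          _ = c ^ k * (b * a) * b ^ k := by
            rw [← mul_assoc, ← mul_assoc, ← ((hc b).pow_left k).eq, mul_assoc (c ^ k) b]
          _ = c ^ k * c * a * (b * b ^ k) := by rw [h0]; simp [mul_assoc]
          _ = c ^ (k + 1) * a * b ^ (k + 1) := by rw [← pow_succ, ← pow_succ']
    calc (a * b) ^ (n + 1) = a ^ n * b ^ n * c ^ n.choose 2 * (a * b) := by rw [pow_succ, ih]
      _ = a ^ n * (b ^ n * a) * b * c ^ n.choose 2 := by
        rw [mul_assoc (a ^ n * b ^ n), ((hc (a * b)).pow_left _).eq]; simp [mul_assoc]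
      _ = a ^ n * (c ^ n * a * b ^ n) * b * c ^ n.choose 2 := by rw [h1]
      _ = a ^ n * (a * b ^ n * c ^ n) * b * c ^ n.choose 2 := by
        rw [mul_assoc (c ^ n) a, ((hc (a * b ^ n)).pow_left n).eq]
      _ = a ^ n * a * (b ^ n * (c ^ n * b)) * c ^ n.choose 2 := by simp [mul_assoc]
      _ = a ^ (n + 1) * b ^ (n + 1) * (c ^ n * c ^ n.choose 2) := by
        rw [((hc b).pow_left n).eq, ← pow_succ, pow_succ b n]; simp [mul_assoc]
      _ = _ := by rw [← pow_add, Nat.choose_succ_succ, Nat.choose_one_right]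

variable [Finite H]

/-- The data of a group whose centre has index `p ^ 2`. -/
structure Gens (p : ℕ) (x y : H) : Prop where
  comm_ne : ⁅x, y⁆ ≠ 1
  comm_pow : ⁅x, y⁆ ^ p = 1
  comm_mem : ∀ a b : H, ⁅a, b⁆ ∈ Subgroup.zpowers ⁅x, y⁆
  central : ⁅x, y⁆ ∈ Subgroup.center H
  pow_mem : ∀ a : H, a ^ p ∈ Subgroup.center H
  gen : Subgroup.closure {x, y} ⊔ Subgroup.center H = ⊤

theorem exists_gens (hH : IsPGroup p H) (hidx : (Subgroup.center H).index = p ^ 2) :
    ∃ x y : H, Gens p x y := by
  have hp := (Fact.out : p.Prime)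
  set Z := Subgroup.center H
  set q := QuotientGroup.mk' Z
  have hq1 : ∀ a, q a = 1 ↔ a ∈ Z := fun a => QuotientGroup.eq_one_iff a
  have hQ : Nat.card (H ⧸ Z) = p ^ 2 := by rw [← Subgroup.index_eq_card]; exact hidx
  have hna : ¬ ∀ a b : H, a * b = b * a := by
    intro h
    have : Z = ⊤ := eq_top_iff.2 fun a _ => Subgroup.mem_center_iff.2 fun b => h b a
    rw [this, Subgroup.index_top] at hidx
    exact (Nat.one_lt_pow two_ne_zero hp.one_lt).ne hidx
  have hncyc : ¬ IsCyclic (H ⧸ Z) := fun h => hna fun a b =>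
    commutative_of_cyclic_center_quotient q (by rw [QuotientGroup.ker_mk']) a b
  have hord : ∀ u : H ⧸ Z, u ^ p = 1 := by
    intro u
    have hd : orderOf u ∣ p ^ 2 := hQ ▸ orderOf_dvd_natCard u
    obtain ⟨i, hi2, hi⟩ := (Nat.dvd_prime_pow hp).1 hd
    rcases (show i ≤ 1 ∨ i = 2 by omega) with h | rfl
    · exact orderOf_dvd_iff_pow_eq_one.1 (hi ▸ (Nat.pow_dvd_pow p h).trans (pow_one p).dvd)
    · exact absurd (isCyclic_of_orderOf_eq_card u (hi.trans hQ.symm)) hncyc
  have hqcomm : ∀ a b : H ⧸ Z, a * b = b * a := IsPGroup.commutative_of_card_eq_prime_sq hQ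
  haveI : Nontrivial (H ⧸ Z) :=
    Finite.one_lt_card_iff_nontrivial.1 (by rw [hQ]; exact Nat.one_lt_pow two_ne_zero hp.one_lt)
  obtain ⟨u, hu⟩ := exists_ne (1 : H ⧸ Z)
  obtain ⟨x, rfl⟩ := QuotientGroup.mk'_surjective Z u
  obtain ⟨w, hw⟩ : ∃ w, w ∉ Subgroup.zpowers (q x) := by
    by_contra h
    push Not at h
    exact hncyc ⟨q x, h⟩
  obtain ⟨y, rfl⟩ := QuotientGroup.mk'_surjective Z w
  have hgenQ : (Subgroup.closure {x, y}).map q = ⊤ := by
    apply Subgroup.eq_top_of_card_eq
    rw [hQ]
    have h1 : Subgroup.zpowers (q x) < (Subgroup.closure {x, y}).map q := by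
      refine lt_of_le_not_ge (Subgroup.zpowers_le.2 ⟨x, Subgroup.subset_closure (by simp), rfl⟩) ?_
      exact fun h => hw (h ⟨y, Subgroup.subset_closure (by simp), rfl⟩)
    have h2 : p ^ 1 < Nat.card ((Subgroup.closure {x, y}).map q) := by
      rw [pow_one, ← orderOf_eq_prime (hord _) hu, ← Nat.card_zpowers]
      exact Set.ncard_lt_ncard (SetLike.coe_ssubset_coe.2 h1)
    obtain ⟨i, hi2, hi⟩ := (Nat.dvd_prime_pow hp).1
      (hQ ▸ ((Subgroup.closure {x, y}).map q).card_subgroup_dvd_card)
    rw [hi] at h2 ⊢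
    have := (Nat.pow_lt_pow_iff_right hp.one_lt).1 h2
    rw [show i = 2 by omega]
  have hgen : Subgroup.closure {x, y} ⊔ Z = ⊤ := by
    have := congrArg (Subgroup.comap q) hgenQ
    rwa [Subgroup.comap_map_eq, QuotientGroup.ker_mk', Subgroup.comap_top] at this
  have hcen : ∀ a b : H, ⁅a, b⁆ ∈ Z := fun a b => by
    rw [← hq1, map_commutatorElement, commutatorElement_eq_one_iff_mul_comm]
    exact hqcomm _ _
  set c := ⁅x, y⁆ with hc
  let N := Subgroup.zpowers c
  haveI : N.Normal := ⟨fun n hn g => by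
    obtain ⟨i, rfl⟩ := Subgroup.mem_zpowers_iff.1 hn
    rw [(Subgroup.mem_center_iff.1 (Z.zpow_mem (hcen x y) i)) g, mul_inv_cancel_right]
    exact Subgroup.zpow_mem_zpowers c i⟩
  set r := QuotientGroup.mk' N
  have hr1 : ∀ a, r a = 1 ↔ a ∈ N := fun a => QuotientGroup.eq_one_iff a
  have hrc : Commute (r x) (r y) := by
    rw [← commutatorElement_eq_one_iff_commute, ← map_commutatorElement, hr1]
    exact Subgroup.mem_zpowers c
  have hcommN : ∀ a b : H, Commute (r a) (r b) := by
    have htop : ∀ K : Subgroup H, x ∈ K → y ∈ K → Z ≤ K → K = ⊤ := fun K hx hy hZ =>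
      top_le_iff.1 (hgen ▸ sup_le ((Subgroup.closure_le K).2 (by
        rintro v (rfl | rfl) <;> assumption)) hZ)
    have hone : ∀ v, Commute (r v) (r x) → Commute (r v) (r y) → ∀ b, Commute (r v) (r b) := by
      intro v h1 h2 b
      have := htop ((Subgroup.centralizer {r v}).comap r)
        (Subgroup.mem_comap.2 (Subgroup.mem_centralizer_singleton_iff.2 h1.symm.eq))
        (Subgroup.mem_comap.2 (Subgroup.mem_centralizer_singleton_iff.2 h2.symm.eq))
        (fun z hz => Subgroup.mem_comap.2 (Subgroup.mem_centralizer_singleton_iff.2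
          (by rw [← map_mul, ← map_mul, (Subgroup.mem_center_iff.1 hz) v])))
      have hb : b ∈ (Subgroup.centralizer {r v}).comap r := this ▸ Subgroup.mem_top b
      exact (Subgroup.mem_centralizer_singleton_iff.1 (Subgroup.mem_comap.1 hb)).symm
    have hx : ∀ b, Commute (r x) (r b) := hone x (Commute.refl _) hrc
    have hy : ∀ b, Commute (r y) (r b) := hone y hrc.symm (Commute.refl _)
    exact fun a => hone a (hx a).symm (hy a).symm
  have hpow : ∀ a : H, a ^ p ∈ Z := fun a => by rw [← hq1, map_pow]; exact hord _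
  refine ⟨x, y, ⟨?_, ?_, fun a b => ?_, hcen x y, hpow, hgen⟩⟩
  · intro h
    refine hu ((hq1 x).2 (Subgroup.mem_center_iff.2 fun g => ?_))
    have htop' : Subgroup.centralizer {x} = ⊤ := by
      rw [eq_top_iff, ← hgen]
      refine sup_le ((Subgroup.closure_le _).2 ?_) fun z hz => ?_
      · rintro v (rfl | rfl)
        · exact Subgroup.mem_centralizer_singleton_iff.2 rfl
        · exact Subgroup.mem_centralizer_singleton_iff.2
            (commutatorElement_eq_one_iff_mul_comm.1 h).symm
      · exact Subgroup.mem_centralizer_singleton_iff.2 ((Subgroup.mem_center_iff.1 hz) x).symm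
    exact Subgroup.mem_centralizer_singleton_iff.1 (htop' ▸ Subgroup.mem_top g)
  · have hk : ∀ k : ℕ, ⁅x ^ k, y⁆ = c ^ k := by
      intro k
      induction k with
      | zero => simp
      | succ k ih =>
        calc ⁅x ^ (k + 1), y⁆ = x * ⁅x ^ k, y⁆ * x⁻¹ * ⁅x, y⁆ := by
              rw [pow_succ', commutatorElement_def, commutatorElement_def, commutatorElement_def]; group
          _ = c ^ (k + 1) := by
            rw [ih, ← hc, (Subgroup.mem_center_iff.1 (Z.pow_mem (hcen x y) k)) x,
              mul_inv_cancel_right, pow_succ]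
    rw [← hk, commutatorElement_eq_one_iff_mul_comm]
    exact ((Subgroup.mem_center_iff.1 (hpow x)) y).symm
  · rw [← hr1, map_commutatorElement, commutatorElement_eq_one_iff_commute]
    exact hcommN a b

variable {x y : H}

theorem Gens.comm_central (h : Gens p x y) (a b g : H) : Commute ⁅a, b⁆ g := by
  obtain ⟨i, hi⟩ := Subgroup.mem_zpowers_iff.1 (h.comm_mem a b)
  exact ((Subgroup.mem_center_iff.1 ((Subgroup.center H).zpow_mem h.central i)) g).symm.trans rfl |>
    fun e => hi ▸ e

theorem Gens.commutator_eq (h : Gens p x y) : commutator H = Subgroup.zpowers ⁅x, y⁆ := by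
  refine le_antisymm ?_ (Subgroup.zpowers_le.2 ?_)
  · rw [commutator_def, Subgroup.commutator_le]
    exact fun a _ b _ => h.comm_mem a b
  · rw [commutator_def]
    exact Subgroup.commutator_mem_commutator (Subgroup.mem_top x) (Subgroup.mem_top y)

theorem Gens.card_zpowers (h : Gens p x y) : Nat.card (Subgroup.zpowers ⁅x, y⁆) = p := by
  rw [Nat.card_zpowers, orderOf_eq_prime h.comm_pow h.comm_ne]

theorem Gens.le_center (h : Gens p x y) : Subgroup.zpowers ⁅x, y⁆ ≤ Subgroup.center H :=
  Subgroup.zpowers_le.2 h.central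

theorem Gens.char (h : Gens p x y) : (Subgroup.zpowers ⁅x, y⁆).Characteristic := by
  rw [← h.commutator_eq, commutator_def]
  infer_instance

/-- A characteristic subgroup of index `p` over the centre gives a flag. -/
theorem Gens.flag_of_index (h : Gens p x y) (hidx : (Subgroup.center H).index = p ^ 2)
    (hDZ : (Subgroup.zpowers ⁅x, y⁆).relIndex (Subgroup.center H) ∣ p) (M : Subgroup H)
    (hMc : M.Characteristic) (hZM : Subgroup.center H ≤ M) (hM : M.index = p) : HasFlag p H := by
  have hp := (Fact.out : p.Prime)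
  have := h.char
  let L : ℕ → Subgroup H := fun i =>
    match i with
    | 0 => ⊥
    | 1 => Subgroup.zpowers ⁅x, y⁆
    | 2 => Subgroup.center H
    | 3 => M
    | _ => ⊤
  refine ⟨4, L, rfl, rfl, fun i => ?_, fun i hi => ?_⟩
  · match i with
    | 0 => exact (inferInstance : (⊥ : Subgroup H).Characteristic)
    | 1 => exact h.char
    | 2 => exact (inferInstance : (Subgroup.center H).Characteristic)
    | 3 => exact hMc
    | i + 4 => exact (inferInstance : (⊤ : Subgroup H).Characteristic)
  · interval_cases i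
    · show SmallStep p (⊥ : Subgroup H) (Subgroup.zpowers ⁅x, y⁆)
      exact smallStep_of_relIndex hp bot_le (by rw [Subgroup.relIndex_bot_left]; exact h.card_zpowers)
    · show SmallStep p (Subgroup.zpowers ⁅x, y⁆) (Subgroup.center H)
      rcases hp.eq_one_or_self_of_dvd _ hDZ with h1 | h1
      · exact ⟨1, one_mem _, by simp, (Subgroup.relIndex_eq_one.1 h1).trans le_sup_left⟩
      · exact smallStep_of_relIndex hp h.le_center h1
    · show SmallStep p (Subgroup.center H) M
      refine smallStep_of_relIndex hp hZM ?_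
      have := Subgroup.relIndex_mul_index hZM
      rw [hM, hidx, sq] at this
      exact Nat.eq_of_mul_eq_mul_right hp.pos this
    · show SmallStep p M (⊤ : Subgroup H)
      exact smallStep_of_relIndex hp le_top (by rw [Subgroup.relIndex_top_right, hM])

/-- A power map into a group of order `p`: it is trivial or its kernel has index `p`. -/
theorem trivial_or_flag (h : Gens p x y) (hidx : (Subgroup.center H).index = p ^ 2)
    (hDZ : (Subgroup.zpowers ⁅x, y⁆).relIndex (Subgroup.center H) ∣ p) {Y : Type u} [Group Y]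
    (f : H →* Y) (hZ : Subgroup.center H ≤ f.ker) (hchar : f.ker.Characteristic)
    (hcard : Nat.card f.range ∣ p) : f = 1 ∨ HasFlag p H := by
  rcases (Fact.out : p.Prime).eq_one_or_self_of_dvd _ (Subgroup.index_ker f ▸ hcard) with h1 | h1
  · left
    refine MonoidHom.ext fun a => ?_
    have := Subgroup.index_eq_one.1 h1
    exact (MonoidHom.mem_ker).1 (this ▸ Subgroup.mem_top a)
  · exact .inr (h.flag_of_index hidx hDZ _ hchar hZ h1)

/-- Either all `p`th powers lie in the commutator subgroup or there is a flag. -/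
theorem Gens.pow_mem_comm_or_flag (h : Gens p x y) (hidx : (Subgroup.center H).index = p ^ 2)
    (hDZ : (Subgroup.zpowers ⁅x, y⁆).relIndex (Subgroup.center H) ∣ p)
    (hZp : ∀ z ∈ Subgroup.center H, z ^ p ∈ Subgroup.zpowers ⁅x, y⁆) :
    (∀ a, a ^ p ∈ Subgroup.zpowers ⁅x, y⁆) ∨ HasFlag p H := by
  have := h.char
  set q := QuotientGroup.mk' (Subgroup.zpowers ⁅x, y⁆)
  have hq1 : ∀ a, q a = 1 ↔ a ∈ Subgroup.zpowers ⁅x, y⁆ := fun a => QuotientGroup.eq_one_iff a
  let f : H →* H ⧸ Subgroup.zpowers ⁅x, y⁆ := MonoidHom.mk' (fun a => q (a ^ p)) fun a b => by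
    rw [mul_pow_class_two (h.comm_central b a) p, map_mul, map_mul,
      (hq1 _).2 (Subgroup.pow_mem _ (h.comm_mem b a) _), mul_one]
  have hmem : ∀ a, a ∈ f.ker ↔ a ^ p ∈ Subgroup.zpowers ⁅x, y⁆ := fun a => hq1 (a ^ p)
  have hchar : f.ker.Characteristic := by
    refine Subgroup.characteristic_iff_map_le.2 fun φ => ?_
    rintro _ ⟨a, ha, rfl⟩
    rw [hmem, ← map_pow]
    exact (Subgroup.characteristic_iff_map_le.1 h.char φ) ⟨_, (hmem a).1 ha, rfl⟩
  have hcard : Nat.card f.range ∣ p := by
    refine (Subgroup.card_dvd_of_le (K := (Subgroup.center H).map q) ?_).trans ?_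
    · rintro _ ⟨a, rfl⟩
      exact ⟨a ^ p, h.pow_mem a, rfl⟩
    · rw [← Subgroup.relIndex_ker, QuotientGroup.ker_mk']
      exact hDZ
  rcases trivial_or_flag h hidx hDZ f (fun z hz => (hmem z).2 (hZp z hz)) hchar hcard with h1 | h1
  · exact .inl fun a => (hmem a).1 (DFunLike.congr_fun h1 a)
  · exact .inr h1

/-- For odd `p`: exponent `p` or a flag. -/
theorem Gens.exp_or_flag (h : Gens p x y) (hidx : (Subgroup.center H).index = p ^ 2)
    (hDZ : (Subgroup.zpowers ⁅x, y⁆).relIndex (Subgroup.center H) ∣ p) (hp2 : p ≠ 2)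
    (hZp : ∀ z ∈ Subgroup.center H, z ^ p = 1) : (∀ a : H, a ^ p = 1) ∨ HasFlag p H := by
  rcases h.pow_mem_comm_or_flag hidx hDZ (fun z hz => by rw [hZp z hz]; exact one_mem _) with hD | hF
  swap
  · exact .inr hF
  let f : H →* H := MonoidHom.mk' (fun a => a ^ p) fun a b => by
    rw [mul_pow_class_two (h.comm_central b a) p]
    obtain ⟨i, hi⟩ := Subgroup.mem_zpowers_iff.1 (h.comm_mem b a)
    obtain ⟨d, hd⟩ := (Fact.out : p.Prime).dvd_choose_self two_ne_zero
      (lt_of_le_of_ne (Fact.out : p.Prime).two_le (Ne.symm hp2))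
    rw [← hi, hd, pow_mul (⁅x, y⁆ ^ i), show (⁅x, y⁆ ^ i) ^ p = 1 by
      rw [← zpow_natCast, ← zpow_mul, mul_comm, zpow_mul, zpow_natCast, h.comm_pow, one_zpow],
      one_pow, mul_one]
  have hchar : f.ker.Characteristic := by
    refine Subgroup.characteristic_iff_map_le.2 fun φ => ?_
    rintro _ ⟨a, ha, rfl⟩
    show (φ a) ^ p = 1
    rw [← map_pow, show a ^ p = 1 from ha, map_one]
  have hcard : Nat.card f.range ∣ p := by
    refine (Subgroup.card_dvd_of_le (K := Subgroup.zpowers ⁅x, y⁆) ?_).trans h.card_zpowers.dvd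
    rintro _ ⟨a, rfl⟩
    exact hD a
  rcases trivial_or_flag h hidx hDZ f (fun z hz => hZp z hz) hchar hcard with h1 | h1
  · exact .inl fun a => DFunLike.congr_fun h1 a
  · exact .inr h1

/-- For `p = 2`: all squares outside the centre are the commutator, or a flag. -/
theorem Gens.square_or_flag {x y : H} (h : Gens 2 x y) (hidx : (Subgroup.center H).index = 2 ^ 2)
    (hDZ : (Subgroup.zpowers ⁅x, y⁆).relIndex (Subgroup.center H) ∣ 2)
    (hZp : ∀ z ∈ Subgroup.center H, z ^ 2 = 1) :
    (∀ a, a ∉ Subgroup.center H → a ^ 2 = ⁅x, y⁆) ∨ HasFlag 2 H := by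
  haveI : Fact (Nat.Prime 2) := ⟨Nat.prime_two⟩
  rcases h.pow_mem_comm_or_flag hidx hDZ (fun z hz => by rw [hZp z hz]; exact one_mem _) with hD | hF
  swap
  · exact .inr hF
  set c := ⁅x, y⁆ with hc
  have hval : ∀ g ∈ Subgroup.zpowers c, g = 1 ∨ g = c := by
    intro g hg
    obtain ⟨i, rfl⟩ := Subgroup.mem_zpowers_iff.1 hg
    rcases Int.even_or_odd' i with ⟨d, rfl | rfl⟩
    · left; rw [zpow_mul, show (2 : ℤ) = ((2 : ℕ) : ℤ) from rfl, zpow_natCast, h.comm_pow, one_zpow]
    · right
      rw [zpow_add_one, zpow_mul, show (2 : ℤ) = ((2 : ℕ) : ℤ) from rfl, zpow_natCast, h.comm_pow,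
        one_zpow, one_mul]
  by_cases hall : ∀ a, a ∉ Subgroup.center H → a ^ 2 ≠ 1
  · exact .inl fun a ha => (hval _ (hD a)).resolve_left (hall a ha)
  push Not at hall
  obtain ⟨a, haZ, ha2⟩ := hall
  obtain ⟨b, hb⟩ : ∃ b : H, b ^ 2 ≠ 1 := by
    by_contra hcon
    push Not at hcon
    refine h.comm_ne ?_
    rw [commutatorElement_eq_one_iff_mul_comm]
    have hinv : ∀ g : H, g⁻¹ = g := fun g => inv_eq_of_mul_eq_one_right (by rw [← sq, hcon])
    rw [← hinv (x * y), mul_inv_rev, hinv, hinv]
  have hbZ : b ∉ Subgroup.center H := fun hZ => hb (hZp b hZ)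
  have hb2 : b ^ 2 = c := (hval _ (hD b)).resolve_left hb
  set M := Subgroup.center H ⊔ Subgroup.zpowers b
  have hMidx : M.index = 2 := by
    have hQ : ∀ g : H ⧸ Subgroup.center H, g ^ 2 = 1 := fun g => by
      obtain ⟨g, rfl⟩ := QuotientGroup.mk'_surjective _ g
      rw [← map_pow]
      exact (QuotientGroup.eq_one_iff _).2 (h.pow_mem g)
    have hne : (QuotientGroup.mk' (Subgroup.center H)) b ≠ 1 := fun e => hbZ ((QuotientGroup.eq_one_iff b).1 e)
    have hM : M = (Subgroup.zpowers (QuotientGroup.mk' (Subgroup.center H) b)).comap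
        (QuotientGroup.mk' (Subgroup.center H)) := by
      rw [← MonoidHom.map_zpowers, Subgroup.comap_map_eq, QuotientGroup.ker_mk', sup_comm]
    rw [hM, Subgroup.index_comap_of_surjective _ (QuotientGroup.mk'_surjective _)]
    have h1 := (Subgroup.zpowers (QuotientGroup.mk' (Subgroup.center H) b)).card_mul_index
    rw [Nat.card_zpowers, orderOf_eq_prime (hQ _) hne, ← Subgroup.index_eq_card, hidx] at h1
    omega
  have hMmem : ∀ g, g ∈ M ↔ g ∈ Subgroup.center H ∨ g ^ 2 ≠ 1 := by
    have hin : ∀ g ∈ M, g ∉ Subgroup.center H → g ^ 2 = c := by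
      intro g hg hgZ
      rw [Subgroup.mem_sup_of_normal_left] at hg
      obtain ⟨z, hz, w, hw, rfl⟩ := hg
      obtain ⟨i, rfl⟩ := Subgroup.mem_zpowers_iff.1 hw
      have hcomm : Commute z (b ^ i) := ((Subgroup.mem_center_iff.1 hz) _).symm
      rw [hcomm.mul_pow, hZp z hz, one_mul, ← zpow_natCast, ← zpow_mul, mul_comm, zpow_mul,
        zpow_natCast, hb2]
      rcases Int.even_or_odd' i with ⟨d, rfl | rfl⟩
      · exfalso
        refine hgZ (mul_mem hz ?_)
        rw [zpow_mul, show (2 : ℤ) = ((2 : ℕ) : ℤ) from rfl, zpow_natCast, hb2]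
        exact Subgroup.zpow_mem _ h.central d
      · rw [zpow_add_one, zpow_mul, show (2 : ℤ) = ((2 : ℕ) : ℤ) from rfl, zpow_natCast, h.comm_pow,
          one_zpow, one_mul]
    intro g
    constructor
    · intro hg
      by_cases hgZ : g ∈ Subgroup.center H
      · exact .inl hgZ
      · exact .inr (by rw [hin g hg hgZ]; exact h.comm_ne)
    · rintro (hg | hg)
      · exact Subgroup.mem_sup_left hg
      · by_contra hgM
        apply hg
        have haM : a ∉ M := fun ha' => by
          have := hin a ha' haZ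
          rw [ha2] at this
          exact h.comm_ne this.symm
        have hm : a⁻¹ * g ∈ M := (Subgroup.mul_mem_iff_of_index_two hMidx).2
          (iff_of_false (fun h' => haM (by simpa using M.inv_mem h')) hgM)
        have hcen : ∀ u v : H, ∀ g, Commute ⁅u, v⁆ g := h.comm_central
        rw [show g = a * (a⁻¹ * g) by group, mul_pow_class_two (hcen _ _), ha2, one_mul]
        have hne : a⁻¹ * g ∉ Subgroup.center H → (a⁻¹ * g) ^ 2 = c := hin _ hm
        by_cases hmZ : a⁻¹ * g ∈ Subgroup.center H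
        · rw [hZp _ hmZ, commutatorElement_eq_one_iff_mul_comm.2 ((Subgroup.mem_center_iff.1 hmZ) a).symm,
            one_pow, one_mul]
        · rw [hne hmZ]
          have hk : ⁅a⁻¹ * g, a⁆ = c := by
            refine (hval _ (h.comm_mem _ _)).resolve_left fun e => ?_
            have hcm : Commute (a⁻¹ * g) a := commutatorElement_eq_one_iff_commute.1 e
            -- `a` would commute with `M` and itself
            refine haZ (Subgroup.mem_center_iff.2 fun u => ?_)
            have hle : M ⊔ Subgroup.zpowers a ≤ Subgroup.centralizer {a} := by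
              refine sup_le (sup_le (fun z hz => ?_) (Subgroup.zpowers_le.2 ?_)) (Subgroup.zpowers_le.2 ?_)
              · exact Subgroup.mem_centralizer_singleton_iff.2 ((Subgroup.mem_center_iff.1 hz) a).symm
              · rw [Subgroup.mem_sup_of_normal_left] at hm
                obtain ⟨z, hz, w, hw, hzw⟩ := hm
                obtain ⟨i, rfl⟩ := Subgroup.mem_zpowers_iff.1 hw
                have hbi : Commute (b ^ i) a := by
                  have h' : b ^ i = z⁻¹ * (a⁻¹ * g) := by rw [← hzw, inv_mul_cancel_left]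
                  rw [h']
                  exact (Commute.inv_left ((Subgroup.mem_center_iff.1 hz) a).symm).mul_left hcm
                rcases Int.even_or_odd' i with ⟨d, rfl | rfl⟩
                · exfalso
                  refine hmZ (hzw ▸ mul_mem hz ?_)
                  rw [zpow_mul, show (2 : ℤ) = ((2 : ℕ) : ℤ) from rfl, zpow_natCast, hb2]
                  exact Subgroup.zpow_mem _ h.central d
                · refine Subgroup.mem_centralizer_singleton_iff.2 ?_
                  have : b = (b ^ (2 * d)) ⁻¹ * b ^ (2 * d + 1) := by rw [zpow_add_one, inv_mul_cancel_left]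
                  rw [this]
                  refine (Commute.mul_left (Commute.inv_left ?_) hbi).eq
                  have hbd : b ^ (2 * d) ∈ Subgroup.center H := by
                    rw [zpow_mul, show (2 : ℤ) = ((2 : ℕ) : ℤ) from rfl, zpow_natCast, hb2]
                    exact Subgroup.zpow_mem _ h.central d
                  exact ((Subgroup.mem_center_iff.1 hbd) a).symm
              · exact Subgroup.mem_centralizer_singleton_iff.2 rfl
            have htop : M ⊔ Subgroup.zpowers a = ⊤ := by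
              have hlt : M < M ⊔ Subgroup.zpowers a := lt_of_le_of_ne le_sup_left fun e' =>
                haM (e' ▸ Subgroup.mem_sup_right (Subgroup.mem_zpowers a))
              have := Subgroup.relIndex_mul_index (le_of_lt hlt)
              rw [hMidx] at this
              rcases (Nat.prime_two.eq_one_or_self_of_dvd _ ⟨_, (mul_comm _ _).trans this |>.symm⟩) with h' | h'
              · exact Subgroup.index_eq_one.1 h'
              · rw [h'] at this
                exact absurd (Subgroup.relIndex_eq_one.1 (by omega : M.relIndex (M ⊔ Subgroup.zpowers a) = 1)) hlt.not_ge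
            exact Subgroup.mem_centralizer_singleton_iff.1 (hle (htop ▸ Subgroup.mem_top u))
          rw [hk, show (2 : ℕ).choose 2 = 1 from rfl, pow_one, ← sq, h.comm_pow]
  refine .inr (h.flag_of_index hidx hDZ M ?_ le_sup_left hMidx)
  refine Subgroup.characteristic_iff_map_le.2 fun φ => ?_
  rintro _ ⟨g, hg, rfl⟩
  rw [hMmem]
  rcases (hMmem g).1 hg with hg' | hg'
  · exact .inl ((Subgroup.characteristic_iff_map_le.1
      (inferInstance : (Subgroup.center H).Characteristic) φ) ⟨g, hg', rfl⟩)
  · right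
    show (φ g) ^ 2 ≠ 1
    rw [← map_pow]
    exact fun e => hg' (φ.injective (e.trans (map_one φ).symm))

omit [Fact p.Prime] [Finite H] in
theorem quat_center : ∀ q : QuaternionGroup 2, (∀ r, q * r = r * q) →
    q = QuaternionGroup.a 0 ∨ q = QuaternionGroup.a 2 := by decide

omit [Fact p.Prime] in
/-- Two elements with the relations of the quaternion group. -/
theorem exists_quat_hom {x y : H} (hx : orderOf x = 4) (hy2 : y ^ 2 = x ^ 2)
    (hyx : y * x * y⁻¹ = x⁻¹) :
    ∃ f : QuaternionGroup 2 →* H, Function.Injective f ∧ f (QuaternionGroup.a 2) = x ^ 2 := by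
  let P : ZMod (2 * 2) → H := fun i => x ^ i.val
  have hx4 : x ^ 4 = 1 := orderOf_dvd_iff_pow_eq_one.1 (dvd_of_eq hx)
  have hPmod : ∀ n : ℕ, P (n : ZMod (2 * 2)) = x ^ n := fun n => by
    show x ^ (ZMod.val (n : ZMod 4)) = x ^ n
    rw [ZMod.val_natCast, pow_eq_pow_mod n hx4]
  have hPadd : ∀ i j, P (i + j) = P i * P j := by
    intro i j
    rw [← ZMod.natCast_zmod_val i, ← ZMod.natCast_zmod_val j, ← Nat.cast_add, hPmod, hPmod, hPmod,
      pow_add]
  have hP0 : P 0 = 1 := by
    show x ^ ((0 : ZMod 4)).val = 1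
    simp
  have hPneg : ∀ i, P (-i) = (P i)⁻¹ := fun i => eq_inv_of_mul_eq_one_left (by
    rw [← hPadd, neg_add_cancel, hP0])
  have hconj : ∀ i, P i * y = y * P (-i) := by
    intro i
    rw [hPneg]
    show x ^ i.val * y = y * (x ^ i.val)⁻¹
    have h1 : y * x⁻¹ * y⁻¹ = x := by
      calc y * x⁻¹ * y⁻¹ = (y * x * y⁻¹)⁻¹ := by group
        _ = x := by rw [hyx, inv_inv]
    have h2 : y * (x⁻¹) ^ i.val * y⁻¹ = x ^ i.val := by rw [← conj_pow, h1]
    rw [inv_pow] at h2
    conv_lhs => rw [← h2]
    group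
  let f : QuaternionGroup 2 → H := fun g =>
    match g with
    | QuaternionGroup.a i => P i
    | QuaternionGroup.xa i => y * P i
  have hmul : ∀ g h, f (g * h) = f g * f h := by
    rintro (i | i) (j | j)
    · exact hPadd i j
    · show y * P (j - i) = P i * (y * P j)
      rw [← mul_assoc, hconj, mul_assoc, ← hPadd, sub_eq_neg_add]
    · show y * P (i + j) = y * P i * P j
      rw [hPadd, mul_assoc]
    · show P ((2 : ℕ) + j - i) = y * P i * (y * P j)
      rw [show y * P i * (y * P j) = y * (P i * y) * P j by group, hconj,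
        show y * (y * P (-i)) * P j = y ^ 2 * (P (-i) * P j) by rw [sq]; group, hy2, ← hPadd, ← hPmod,
        ← hPadd]
      congr 1
      push_cast
      abel
  refine ⟨MonoidHom.mk' f hmul, ?_, hPmod 2⟩
  rw [injective_iff_map_eq_one]
  rintro (i | i) hi
  · have hi' : x ^ i.val = 1 := hi
    have := orderOf_dvd_of_pow_eq_one hi'
    rw [hx] at this
    have hlt := ZMod.val_lt i
    have h0 : i.val = 0 := Nat.eq_zero_of_dvd_of_lt this hlt
    rw [(ZMod.val_eq_zero i).1 h0]
    rfl
  · exfalso
    have hi' : y * x ^ i.val = 1 := hi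
    rw [mul_eq_one_iff_eq_inv] at hi'
    rw [hi'] at hyx
    have hxx : x = x⁻¹ := by
      refine Eq.trans ?_ hyx
      group
    have hdvd : orderOf x ∣ 2 := orderOf_dvd_of_pow_eq_one (by
      rw [sq]
      nth_rewrite 1 [hxx]
      exact inv_mul_cancel x)
    rw [hx] at hdvd
    norm_num at hdvd

omit [Fact p.Prime] in
theorem quat_data {x y : H} (h : Gens 2 x y)
    (hsq : ∀ a, a ∉ Subgroup.center H → a ^ 2 = ⁅x, y⁆) :
    ∃ f : QuaternionGroup 2 →* H, Function.Injective f ∧ f (QuaternionGroup.a 2) = ⁅x, y⁆ := by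
  have hxZ : x ∉ Subgroup.center H := fun hx => h.comm_ne
    (commutatorElement_eq_one_iff_mul_comm.2 ((Subgroup.mem_center_iff.1 hx) y).symm)
  have hyZ : y ∉ Subgroup.center H := fun hy => h.comm_ne
    (commutatorElement_eq_one_iff_mul_comm.2 ((Subgroup.mem_center_iff.1 hy) x))
  have hx2 := hsq x hxZ
  have hx : orderOf x = 4 := by
    refine orderOf_eq_prime_pow (p := 2) (n := 1) ?_ ?_
    · rw [pow_one, hx2]; exact h.comm_ne
    · rw [show 2 ^ (1 + 1) = 2 * 2 from rfl, pow_mul, hx2, h.comm_pow]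
  obtain ⟨f, hf, hf2⟩ := exists_quat_hom (y := y) hx (by rw [hsq y hyZ, hx2]) (by
    have hc : y * x * y⁻¹ * x⁻¹ = ⁅x, y⁆⁻¹ := by rw [commutatorElement_inv, commutatorElement_def]
    have hcinv : (⁅x, y⁆)⁻¹ = x ^ 2 := by
      rw [hx2]
      exact inv_eq_of_mul_eq_one_right (by rw [← sq, h.comm_pow])
    rw [hcinv, mul_inv_eq_iff_eq_mul] at hc
    rw [hc, eq_inv_iff_mul_eq_one, sq]
    have h4 : x ^ 4 = 1 := orderOf_dvd_iff_pow_eq_one.1 (dvd_of_eq hx)
    rw [← h4]
    simp [pow_succ, mul_assoc])
  exact ⟨f, hf, hf2.trans hx2⟩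

omit [Finite H] in
/-- A non-abelian group of order `p ^ 3` and exponent `p` is extraspecial. -/
theorem isExtraspecial_of_exp {E : Type*} [Group E] [Finite E] (hE : Nat.card E = p ^ 3)
    (hna : ¬ ∀ a b : E, a * b = b * a) (hexp : ∀ a : E, a ^ p = 1) : Cfsg.IsExtraspecial p E := by
  have hp := (Fact.out : p.Prime)
  have hEp : IsPGroup p E := IsPGroup.of_card hE
  haveI : Nontrivial E := Finite.one_lt_card_iff_nontrivial.1 (by
    rw [hE]; exact Nat.one_lt_pow (by norm_num) hp.one_lt)
  haveI := hEp.center_nontrivial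
  obtain ⟨i, hi3, hi⟩ := (Nat.dvd_prime_pow hp).1 (hE ▸ (Subgroup.center E).card_subgroup_dvd_card)
  have hmul := (Subgroup.center E).card_mul_index
  rw [hi, hE] at hmul
  have hi0 : i ≠ 0 := fun h => by
    have := Finite.one_lt_card (α := Subgroup.center E)
    rw [hi, h, pow_zero] at this
    exact lt_irrefl 1 this
  have hi1 : i = 1 := by
    by_contra h1
    apply hna
    obtain ⟨d, rfl⟩ : ∃ d, i = 2 + d := ⟨i - 2, by omega⟩
    have hidx : (Subgroup.center E).index = p ^ (1 - d) := by
      refine Nat.eq_of_mul_eq_mul_left (pow_pos hp.pos (2 + d)) (hmul.trans ?_)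
      rw [← pow_add]; congr 1; omega
    have hcard : Nat.card (E ⧸ Subgroup.center E) ∣ p := by
      rw [← Subgroup.index_eq_card, hidx]
      exact (Nat.pow_dvd_pow p (by omega : 1 - d ≤ 1)).trans (pow_one p).dvd
    haveI : IsCyclic (E ⧸ Subgroup.center E) := by
      rcases hp.eq_one_or_self_of_dvd _ hcard with h | h
      · haveI : Subsingleton (E ⧸ Subgroup.center E) := (Nat.card_eq_one_iff_unique.1 h).1
        exact isCyclic_of_subsingleton
      · exact isCyclic_of_prime_card h
    exact fun a b => commutative_of_cyclic_center_quotient (QuotientGroup.mk' (Subgroup.center E))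
      (by rw [QuotientGroup.ker_mk']) a b
  subst hi1
  have hidx : (Subgroup.center E).index = p ^ 2 := by
    refine Nat.eq_of_mul_eq_mul_left (pow_pos hp.pos 1) (hmul.trans ?_)
    rw [← pow_add]
  obtain ⟨x, y, h⟩ := exists_gens hEp hidx
  have hZ : Subgroup.center E = Subgroup.zpowers ⁅x, y⁆ := by
    refine (Subgroup.eq_of_le_of_card_ge h.le_center ?_).symm
    rw [hi, pow_one, h.card_zpowers]
  have hcomm : commutator E = Subgroup.center E := by rw [h.commutator_eq, hZ]
  refine ⟨⟨hEp, le_antisymm (CfsgLib.Critical.frattini_le_of_elementary (p := p) _ hcomm.le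
    fun a => by rw [hexp a]; exact one_mem _) ?_, hcomm⟩, by rw [hi, pow_one]⟩
  rw [← hcomm]
  exact (CfsgLib.PSolvable.commutator_le_frattini hEp).1

end CfsgLib.Fusion.SmallNonabelian
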