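import Mathlib
import Cfsg.Agent.Lib.Fusion.SmallNonabelian

/-!
The shapes of essential subgroups of order `p ^ 3` and `p ^ 4`.
-/

set_option autoImplicit false
set_option linter.style.haveILetI false

namespace CfsgLib.Fusion.EssentialShapes

open scoped commutatorElement
open Cfsg CfsgLib.Fusion.EssentialFlag CfsgLib.Fusion.SmallNonabelian

universe u

variable {p : ℕ} [Fact p.Prime]

theorem center_bound {H : Type*} [Group H] [Finite H] (hna : ¬ ∀ a b : H, a * b = b * a) {n : ℕ}
    (hn : Nat.card H = p ^ n) :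
    ∃ i, 1 ≤ i ∧ i + 2 ≤ n ∧ Nat.card (Subgroup.center H) = p ^ i ∧
      (Subgroup.center H).index = p ^ (n - i) := by
  have hp := (Fact.out : p.Prime)
  have hHp : IsPGroup p H := IsPGroup.of_card hn
  haveI : Nontrivial H := by
    rcases subsingleton_or_nontrivial H with h | h
    · exact absurd (fun a b => Subsingleton.elim _ _) hna
    · exact h
  haveI := hHp.center_nontrivial
  obtain ⟨i, hin, hi⟩ := (Nat.dvd_prime_pow hp).1 (hn ▸ (Subgroup.center H).card_subgroup_dvd_card)
  have hmul := (Subgroup.center H).card_mul_index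
  rw [hi, hn] at hmul
  have hidx : (Subgroup.center H).index = p ^ (n - i) := by
    refine Nat.eq_of_mul_eq_mul_left (pow_pos hp.pos i) (hmul.trans ?_)
    rw [← pow_add]; congr 1; omega
  refine ⟨i, ?_, ?_, hi, hidx⟩
  · by_contra h
    have := Finite.one_lt_card (α := Subgroup.center H)
    rw [hi, show i = 0 by omega, pow_zero] at this
    exact lt_irrefl 1 this
  · by_contra h
    apply hna
    haveI : IsCyclic (H ⧸ Subgroup.center H) := by
      have hcard : Nat.card (H ⧸ Subgroup.center H) ∣ p := by
        rw [← Subgroup.index_eq_card, hidx]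
        exact (Nat.pow_dvd_pow p (by omega : n - i ≤ 1)).trans (pow_one p).dvd
      rcases hp.eq_one_or_self_of_dvd _ hcard with h | h
      · haveI : Subsingleton (H ⧸ Subgroup.center H) := (Nat.card_eq_one_iff_unique.1 h).1
        exact isCyclic_of_subsingleton
      · exact isCyclic_of_prime_card h
    exact fun a b => commutative_of_cyclic_center_quotient (QuotientGroup.mk' (Subgroup.center H))
      (by rw [QuotientGroup.ker_mk']) a b

/-- A group of order `p ^ 4` with centre of order `p` has a flag. -/
theorem flag_of_small_center {H : Type u} [Group H] [Finite H] (hn : Nat.card H = p ^ 4)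
    (hz : Nat.card (Subgroup.center H) = p) : HasFlag p H := by
  have hp := (Fact.out : p.Prime)
  set Z := Subgroup.center H
  set q := QuotientGroup.mk' Z
  have hq1 : ∀ a, q a = 1 ↔ a ∈ Z := fun a => QuotientGroup.eq_one_iff a
  have hZidx : Z.index = p ^ 3 := by
    refine Nat.eq_of_mul_eq_mul_left hp.pos ?_
    rw [← pow_succ', ← hn, ← Z.card_mul_index, hz]
  have hQ : Nat.card (H ⧸ Z) = p ^ 3 := by rw [← Subgroup.index_eq_card, hZidx]
  -- centralisers of elements with central commutators
  have hcw : ∀ w : H, (∀ g : H, ⁅g, w⁆ ∈ Z) → (Subgroup.centralizer {w}).index ∣ p := by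
    intro w hw
    let f : H →* H := MonoidHom.mk' (fun g => ⁅g, w⁆) fun a b => by
      calc ⁅a * b, w⁆ = a * ⁅b, w⁆ * a⁻¹ * ⁅a, w⁆ := by
            simp only [commutatorElement_def]; group
        _ = ⁅b, w⁆ * ⁅a, w⁆ := by rw [(Subgroup.mem_center_iff.1 (hw b)) a, mul_inv_cancel_right]
        _ = ⁅a, w⁆ * ⁅b, w⁆ := (Subgroup.mem_center_iff.1 (hw a)) _
    have hker : f.ker = Subgroup.centralizer {w} := by
      ext g
      rw [MonoidHom.mem_ker, Subgroup.mem_centralizer_singleton_iff]
      exact commutatorElement_eq_one_iff_mul_comm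
    rw [← hker, Subgroup.index_ker]
    refine (Subgroup.card_dvd_of_le (K := Z) ?_).trans hz.dvd
    rintro _ ⟨g, rfl⟩
    exact hw g
  by_cases hQc : ∀ a b : H ⧸ Z, a * b = b * a
  · exfalso
    have hcen : ∀ a b : H, ⁅a, b⁆ ∈ Z := fun a b => by
      rw [← hq1, map_commutatorElement, commutatorElement_eq_one_iff_mul_comm]
      exact hQc _ _
    obtain ⟨x, y, hxy⟩ : ∃ x y : H, x * y ≠ y * x := by
      by_contra h
      push Not at h
      have : Z = ⊤ := eq_top_iff.2 fun a _ => Subgroup.mem_center_iff.2 fun b => h b a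
      rw [this, Subgroup.card_top, hn] at hz
      exact (Nat.pow_lt_pow_right hp.one_lt (by norm_num : 1 < 4)).ne (by rw [pow_one]; exact hz.symm)
    set W := Subgroup.centralizer {x} ⊓ Subgroup.centralizer {y}
    have hW : ¬ W ≤ Z := by
      intro h
      have h1 : p ^ 3 ≤ W.index := by
        rw [← hZidx]
        exact Nat.le_of_dvd (Nat.pos_of_ne_zero Subgroup.index_ne_zero_of_finite) (Subgroup.index_dvd_of_le h)
      have h2 := Subgroup.index_inf_le (H := Subgroup.centralizer {x}) (K := Subgroup.centralizer {y})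
      have h3 := Nat.le_of_dvd hp.pos (hcw x fun g => hcen g x)
      have h4 := Nat.le_of_dvd hp.pos (hcw y fun g => hcen g y)
      have h5 : p ^ 2 < p ^ 3 := Nat.pow_lt_pow_right hp.one_lt (by norm_num)
      have h6 : W.index ≤ p * p := h2.trans (Nat.mul_le_mul h3 h4)
      rw [← sq] at h6
      omega
    obtain ⟨w, hw, hwZ⟩ := SetLike.not_le_iff_exists.1 hW
    have hxC : x ∈ Subgroup.centralizer {w} :=
      Subgroup.mem_centralizer_singleton_iff.2 (Subgroup.mem_centralizer_singleton_iff.1 hw.1).symm
    have hyC : y ∈ Subgroup.centralizer {w} :=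
      Subgroup.mem_centralizer_singleton_iff.2 (Subgroup.mem_centralizer_singleton_iff.1 hw.2).symm
    rcases hp.eq_one_or_self_of_dvd _ (hcw w fun g => hcen g w) with h | h
    · rw [Subgroup.index_eq_one] at h
      exact hwZ (Subgroup.mem_center_iff.2 fun g => Subgroup.mem_centralizer_singleton_iff.1 (h ▸ Subgroup.mem_top g))
    · set K := Subgroup.centralizer {w}
      have hK : Nat.card K = p ^ 3 := by
        refine Nat.eq_of_mul_eq_mul_right hp.pos ?_
        conv_lhs => rw [← h, K.card_mul_index]
        rw [hn, ← pow_succ]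
      obtain ⟨i, hi1, hi3, hi, -⟩ := center_bound (p := p) (H := K)
        (fun hc => hxy (congrArg Subtype.val (hc ⟨x, hxC⟩ ⟨y, hyC⟩))) hK
      obtain rfl : i = 1 := by omega
      have hle : Z.subgroupOf K ≤ Subgroup.center K := fun z hz =>
        Subgroup.mem_center_iff.2 fun g => Subtype.ext ((Subgroup.mem_center_iff.1 hz) g)
      have hZK : Z ≤ K := fun z hz =>
        Subgroup.mem_centralizer_singleton_iff.2 ((Subgroup.mem_center_iff.1 hz) w).symm
      have heq := Subgroup.eq_of_le_of_card_ge hle (by
        rw [hi, pow_one, Nat.card_congr (Subgroup.subgroupOfEquivOfLe hZK).toEquiv, hz])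
      have hwK : w ∈ K := Subgroup.mem_centralizer_singleton_iff.2 rfl
      have : (⟨w, hwK⟩ : K) ∈ Subgroup.center K := Subgroup.mem_center_iff.2 fun g =>
        Subtype.ext (Subgroup.mem_centralizer_singleton_iff.1 g.2)
      rw [← heq] at this
      exact hwZ this
  · obtain ⟨i, hi1, hi3, hi, hii⟩ := center_bound (p := p) hQc hQ
    obtain rfl : i = 1 := by omega
    rw [pow_one] at hi
    set Z2 := (Subgroup.center (H ⧸ Z)).comap q with hZ2
    have hZle : Z ≤ Z2 := fun z hz => by
      rw [hZ2, Subgroup.mem_comap, (hq1 z).2 hz]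
      exact one_mem _
    have hcomm : ∀ w ∈ Z2, ∀ g : H, ⁅g, w⁆ ∈ Z := fun w hw g => by
      rw [← hq1, map_commutatorElement, commutatorElement_eq_one_iff_mul_comm]
      exact (Subgroup.mem_center_iff.1 hw) _
    have hZ2idx : Z2.index = p ^ 2 := by
      rw [hZ2, Subgroup.index_comap_of_surjective _ (QuotientGroup.mk'_surjective _), hii]
    have hrel : Z.relIndex Z2 = p := by
      have := Subgroup.relIndex_mul_index hZle
      rw [hZ2idx, hZidx, pow_succ' p 2] at this
      exact Nat.eq_of_mul_eq_mul_right (pow_pos hp.pos 2) this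
    haveI : Z.Characteristic := (inferInstance : (Subgroup.center H).Characteristic)
    have hZ2c : Z2.Characteristic := by
      refine Subgroup.characteristic_iff_map_le.2 fun φ => ?_
      rintro _ ⟨w, hw, rfl⟩
      refine Subgroup.mem_comap.2 (Subgroup.mem_center_iff.2 fun u => ?_)
      obtain ⟨g, rfl⟩ := QuotientGroup.mk'_surjective Z u
      rw [← commutatorElement_eq_one_iff_mul_comm, ← map_commutatorElement, hq1]
      have := (Subgroup.characteristic_iff_map_le.1 (inferInstance : Z.Characteristic) φ)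
        ⟨_, hcomm w hw (φ.symm g), rfl⟩
      simpa [map_commutatorElement] using this
    set C := Subgroup.centralizer (Z2 : Set H)
    have hCc : C.Characteristic := by
      refine Subgroup.characteristic_iff_map_le.2 fun φ => ?_
      rintro _ ⟨g, hg, rfl⟩ w hw
      have hw' : φ.symm w ∈ Z2 :=
        (Subgroup.characteristic_iff_map_le.1 hZ2c φ.symm) ⟨w, hw, rfl⟩
      have := congrArg φ (hg _ hw')
      simpa using this
    obtain ⟨w, hw, hwZ, hgen⟩ : ∃ w ∈ Z2, w ∉ Z ∧ Z2 ≤ Z ⊔ Subgroup.zpowers w := by
      obtain ⟨w, hw, -, hgen⟩ := smallStep_of_relIndex hp hZle hrel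
      refine ⟨w, hw, fun hwZ => ?_, hgen⟩
      have : Z2 ≤ Z := hgen.trans (sup_le le_rfl (Subgroup.zpowers_le.2 hwZ))
      rw [Subgroup.relIndex_eq_one.2 this] at hrel
      exact hp.one_lt.ne hrel
    have hCw : C = Subgroup.centralizer {w} := by
      refine le_antisymm (fun g hg => Subgroup.mem_centralizer_singleton_iff.2 (hg w hw).symm) fun g hg v hv => ?_
      have hle : Z ⊔ Subgroup.zpowers w ≤ Subgroup.centralizer {g} := sup_le
        (fun z hz => Subgroup.mem_centralizer_singleton_iff.2 ((Subgroup.mem_center_iff.1 hz) g).symm)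
        (Subgroup.zpowers_le.2 (Subgroup.mem_centralizer_singleton_iff.2
          (Subgroup.mem_centralizer_singleton_iff.1 hg).symm))
      exact Subgroup.mem_centralizer_singleton_iff.1 (hle (hgen hv))
    have hCidx : C.index = p := by
      rw [hCw]
      refine (hp.eq_one_or_self_of_dvd _ (hcw w (hcomm w hw))).resolve_left fun h => hwZ ?_
      rw [Subgroup.index_eq_one] at h
      exact Subgroup.mem_center_iff.2 fun g => Subgroup.mem_centralizer_singleton_iff.1 (h ▸ Subgroup.mem_top g)
    have hZ2C : Z2 ≤ C := by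
      rw [hCw]
      refine hgen.trans (sup_le ?_ (Subgroup.zpowers_le.2 (Subgroup.mem_centralizer_singleton_iff.2 rfl)))
      exact fun z hz => Subgroup.mem_centralizer_singleton_iff.2 ((Subgroup.mem_center_iff.1 hz) w).symm
    let L : ℕ → Subgroup H := fun i =>
      match i with
      | 0 => ⊥
      | 1 => Z
      | 2 => Z2
      | 3 => C
      | _ => ⊤
    refine ⟨4, L, rfl, rfl, fun i => ?_, fun i hi => ?_⟩
    · match i with
      | 0 => exact (inferInstance : (⊥ : Subgroup H).Characteristic)
      | 1 => exact (inferInstance : Z.Characteristic)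
      | 2 => exact hZ2c
      | 3 => exact hCc
      | i + 4 => exact (inferInstance : (⊤ : Subgroup H).Characteristic)
    · interval_cases i
      · show SmallStep p (⊥ : Subgroup H) Z
        exact smallStep_of_relIndex hp bot_le (by rw [Subgroup.relIndex_bot_left]; exact hz)
      · show SmallStep p Z Z2
        exact smallStep_of_relIndex hp hZle hrel
      · show SmallStep p Z2 C
        haveI := hZ2c
        refine smallStep_of_relIndex hp hZ2C ?_
        have := Subgroup.relIndex_mul_index hZ2C
        rw [hCidx, hZ2idx, sq] at this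
        exact Nat.eq_of_mul_eq_mul_right hp.pos this
      · show SmallStep p C (⊤ : Subgroup H)
        haveI := hCc
        exact smallStep_of_relIndex hp le_top (by rw [Subgroup.relIndex_top_right, hCidx])

/-- The shapes of a non-abelian group of order `p ^ 3` without flag. -/
theorem shape_three {H : Type u} [Group H] [Finite H] (hn : Nat.card H = p ^ 3)
    (hna : ¬ ∀ a b : H, a * b = b * a) (hflag : ¬ HasFlag p H) :
    (Odd p ∧ Cfsg.IsExtraspecial p H ∧ ∀ a : H, a ^ p = 1) ∨
      (p = 2 ∧ Nonempty (H ≃* QuaternionGroup 2)) := by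
  have hp := (Fact.out : p.Prime)
  obtain ⟨i, hi1, hi3, hi, hidx⟩ := center_bound (p := p) hna hn
  obtain rfl : i = 1 := by omega
  rw [pow_one] at hi
  rw [show 3 - 1 = 2 from rfl] at hidx
  obtain ⟨x, y, h⟩ := exists_gens (IsPGroup.of_card hn) hidx
  have hDZ : (Subgroup.zpowers ⁅x, y⁆).relIndex (Subgroup.center H) ∣ p := by
    have h1 := Subgroup.relIndex_mul_relIndex ⊥ _ _ bot_le h.le_center
    rw [Subgroup.relIndex_bot_left, Subgroup.relIndex_bot_left, h.card_zpowers, hi] at h1
    rw [Nat.eq_of_mul_eq_mul_left hp.pos (h1.trans (mul_one p).symm)]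
    exact one_dvd p
  have hZp : ∀ z ∈ Subgroup.center H, z ^ p = 1 := fun z hz => by
    have := pow_card_eq_one' (x := (⟨z, hz⟩ : Subgroup.center H))
    rw [hi] at this
    exact congrArg Subtype.val this
  rcases hp.eq_two_or_odd' with rfl | hodd
  · right
    obtain ⟨f, hf, -⟩ := quat_data h ((h.square_or_flag hidx hDZ hZp).resolve_right hflag)
    refine ⟨rfl, ⟨(MulEquiv.ofBijective f ((Nat.bijective_iff_injective_and_card f).2 ⟨hf, ?_⟩)).symm⟩⟩
    rw [Nat.card_eq_fintype_card, QuaternionGroup.card, hn]
    norm_num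
  · left
    have hexp := (h.exp_or_flag hidx hDZ (fun e => by subst e; exact absurd hodd (by decide)) hZp).resolve_right hflag
    exact ⟨hodd, isExtraspecial_of_exp hn hna hexp, hexp⟩

/-- The shapes of a non-abelian group of order `p ^ 4` without flag. -/
theorem shape_four {H : Type u} [Group H] [Finite H] (hn : Nat.card H = p ^ 4)
    (hna : ¬ ∀ a b : H, a * b = b * a) (hflag : ¬ HasFlag p H) :
    (Odd p ∧ ∃ (E : Type) (_ : Group E) (_ : Finite E), Cfsg.IsExtraspecial p E ∧ Nat.card E = p ^ 3 ∧
        (∀ x : E, x ^ p = 1) ∧ Nonempty (H ≃* E × Multiplicative (ZMod p))) ∨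
      (p = 2 ∧ Nonempty (H ≃* QuaternionGroup 2 × Multiplicative (ZMod 2))) ∨
      ((∀ x : H, x ^ (p ^ 2) = 1) ∧ IsCyclic ↥(Subgroup.center H) ∧
        Nat.card (Subgroup.center H) = p ^ 2) := by
  have hp := (Fact.out : p.Prime)
  obtain ⟨i, hi1, hi4, hi, hidx⟩ := center_bound (p := p) hna hn
  rcases (show i = 1 ∨ i = 2 by omega) with rfl | rfl
  · exact absurd (flag_of_small_center hn (by rw [hi, pow_one])) hflag
  rw [show 4 - 2 = 2 from rfl] at hidx
  obtain ⟨x, y, h⟩ := exists_gens (IsPGroup.of_card hn) hidx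
  set c := ⁅x, y⁆ with hc
  set Z := Subgroup.center H
  have hr : (Subgroup.zpowers c).relIndex Z = p := by
    have h1 := Subgroup.relIndex_mul_relIndex ⊥ _ _ bot_le h.le_center
    rw [Subgroup.relIndex_bot_left, Subgroup.relIndex_bot_left, h.card_zpowers, hi, sq] at h1
    exact Nat.eq_of_mul_eq_mul_left hp.pos h1
  have hDZ : (Subgroup.zpowers c).relIndex Z ∣ p := hr.dvd
  have hZp2 : ∀ z ∈ Z, z ^ p ^ 2 = 1 := fun z hz => by
    have := pow_card_eq_one' (x := (⟨z, hz⟩ : Z))
    rw [hi] at this
    exact congrArg Subtype.val this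
  by_cases hcyc : IsCyclic Z
  · refine .inr (.inr ⟨?_, hcyc, hi⟩)
    have hZpD : ∀ z ∈ Z, z ^ p ∈ Subgroup.zpowers c := fun z hz => by
      obtain ⟨k, hk⟩ := Subgroup.mem_zpowers_iff.1 (AbelianLayers.mem_zpowers_of_pow (p := p)
        (x := (⟨c, h.central⟩ : Z)) (y := (⟨z ^ p, Z.pow_mem hz p⟩ : Z)) (Subtype.ext h.comm_pow)
        (fun e => h.comm_ne (congrArg Subtype.val e))
        (Subtype.ext (by show (z ^ p) ^ p = 1; rw [← pow_mul, ← sq, hZp2 z hz])))
      exact ⟨k, congrArg Subtype.val hk⟩
    intro a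
    obtain ⟨k, hk⟩ := Subgroup.mem_zpowers_iff.1 ((h.pow_mem_comm_or_flag hidx hDZ hZpD).resolve_right hflag a)
    rw [sq, pow_mul, ← hk, ← zpow_natCast, ← zpow_mul, mul_comm, zpow_mul, zpow_natCast, h.comm_pow,
      one_zpow]
  have hZp : ∀ z ∈ Z, z ^ p = 1 := fun z hz => by
    by_contra hne
    apply hcyc
    refine isCyclic_of_orderOf_eq_card (⟨z, hz⟩ : Z) ?_
    rw [hi]
    exact orderOf_eq_prime_pow (fun e => hne (by simpa using congrArg Subtype.val e))
      (Subtype.ext (hZp2 z hz))
  obtain ⟨z, hz, hzD⟩ : ∃ z ∈ Z, z ∉ Subgroup.zpowers c := by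
    by_contra hcon
    push Not at hcon
    rw [Subgroup.relIndex_eq_one.2 hcon] at hr
    exact hp.one_lt.ne hr
  let zh : Multiplicative (ZMod p) →* H := MonoidHom.mk' (fun k => z ^ (Multiplicative.toAdd k).val)
    fun k l => by
      rw [toAdd_mul, ZMod.val_add, ← pow_eq_pow_mod _ (hZp z hz), pow_add]
  have hzinj : ∀ k, zh k ∈ Subgroup.zpowers c → k = 1 := by
    intro k hk
    by_contra hne
    have hv : (Multiplicative.toAdd k).val ≠ 0 := fun e =>
      hne (Multiplicative.toAdd.injective ((ZMod.val_eq_zero _).1 e))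
    have hcop : (Multiplicative.toAdd k).val.Coprime (orderOf z) := by
      rw [orderOf_eq_prime (hZp z hz) (fun e => hzD (e ▸ one_mem _))]
      exact (hp.coprime_iff_not_dvd.2 fun hd => absurd (Nat.le_of_dvd (Nat.pos_of_ne_zero hv) hd)
        (not_le.2 (ZMod.val_lt _))).symm
    obtain ⟨m, hm⟩ := exists_pow_eq_self_of_coprime hcop
    exact hzD (hm ▸ Subgroup.pow_mem _ hk m)
  have hzcomm : ∀ (k : Multiplicative (ZMod p)) (g : H), Commute g (zh k) := fun k g =>
    (Subgroup.mem_center_iff.1 (Z.pow_mem hz _)) g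
  rcases hp.eq_two_or_odd' with rfl | hodd
  · refine .inr (.inl ⟨rfl, ?_⟩)
    obtain ⟨f, hf, hf2⟩ := quat_data h ((h.square_or_flag hidx hDZ hZp).resolve_right hflag)
    let F : QuaternionGroup 2 × Multiplicative (ZMod 2) →* H :=
      MonoidHom.noncommCoprod f zh fun g k => hzcomm k (f g)
    have hF : Function.Injective F := by
      rw [injective_iff_map_eq_one]
      rintro ⟨g, k⟩ hgk
      simp only [F, MonoidHom.noncommCoprod_apply] at hgk
      have hg : f g = (zh k)⁻¹ := eq_inv_of_mul_eq_one_left hgk
      have hcen : ∀ r, g * r = r * g := fun r => hf (by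
        rw [map_mul, map_mul, hg]
        exact ((hzcomm k (f r)).inv_right.eq).symm)
      have hk : zh k ∈ Subgroup.zpowers c := by
        rw [← inv_inv (zh k), ← hg]
        refine Subgroup.inv_mem _ ?_
        rcases quat_center g hcen with e | e
        · rw [e, show (QuaternionGroup.a 0 : QuaternionGroup 2) = 1 from rfl, map_one]; exact one_mem _
        · rw [e, hf2]; exact Subgroup.mem_zpowers c
      rw [hzinj k hk] at hgk ⊢
      rw [map_one, mul_one, ← map_one f] at hgk
      rw [hf hgk]; rfl
    refine ⟨(MulEquiv.ofBijective F ((Nat.bijective_iff_injective_and_card F).2 ⟨hF, ?_⟩)).symm⟩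
    rw [Nat.card_prod, Nat.card_congr Multiplicative.toAdd, Nat.card_zmod, Nat.card_eq_fintype_card,
      QuaternionGroup.card, hn]
    norm_num
  · have hexp := (h.exp_or_flag hidx hDZ (fun e => by subst e; exact absurd hodd (by decide)) hZp).resolve_right hflag
    set E := Subgroup.closure {x, y}
    have hDE : Subgroup.zpowers c ≤ E := Subgroup.zpowers_le.2 (by
      rw [hc, commutatorElement_def]
      exact E.mul_mem (E.mul_mem (E.mul_mem (Subgroup.subset_closure (by simp)) (Subgroup.subset_closure (by simp)))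
        (E.inv_mem (Subgroup.subset_closure (by simp)))) (E.inv_mem (Subgroup.subset_closure (by simp))))
    haveI : E.Normal := ⟨fun n hn g => by
      have := hDE (h.comm_mem g n)
      have h2 := E.mul_mem this hn
      rwa [commutatorElement_def, inv_mul_cancel_right] at h2⟩
    have hzE : z ∉ E := by
      -- else `E` would be everything, and `H` two generated of exponent `p` and class two
      intro hzE
      have hEtop : E = ⊤ := by
        rw [eq_top_iff, ← h.gen]
        refine sup_le le_rfl ?_
        intro w hw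
        have hZgen : Z ≤ Subgroup.zpowers c ⊔ Subgroup.zpowers z := by
          have hM : Subgroup.zpowers c ⊔ Subgroup.zpowers z ≤ Z :=
            sup_le h.le_center (Subgroup.zpowers_le.2 hz)
          have hm := Subgroup.relIndex_mul_relIndex (Subgroup.zpowers c) _ _ le_sup_left hM
          rw [hr] at hm
          rcases hp.eq_one_or_self_of_dvd _ ⟨_, hm.symm⟩ with h2 | h2
          · exact absurd (Subgroup.relIndex_eq_one.1 h2 (Subgroup.mem_sup_right (Subgroup.mem_zpowers z))) hzD
          · rw [h2] at hm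
            exact Subgroup.relIndex_eq_one.1 ((mul_eq_left₀ hp.ne_zero).1 hm)
        exact (hZgen.trans (sup_le hDE (Subgroup.zpowers_le.2 hzE))) hw
      haveI := h.char
      set r := QuotientGroup.mk' (Subgroup.zpowers c)
      have hr1 : ∀ a, r a = 1 ↔ a ∈ Subgroup.zpowers c := fun a => QuotientGroup.eq_one_iff a
      have hpw : ∀ a : H, r a ^ p = 1 := fun a => by rw [← map_pow, hexp a, map_one]
      have hxy : Commute (r x) (r y) := by
        rw [← commutatorElement_eq_one_iff_commute, ← map_commutatorElement, hr1]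
        exact Subgroup.mem_zpowers c
      let P : Multiplicative (ZMod p) × Multiplicative (ZMod p) → H ⧸ Subgroup.zpowers c := fun v =>
        r x ^ (Multiplicative.toAdd v.1).val * r y ^ (Multiplicative.toAdd v.2).val
      let Pm : Multiplicative (ZMod p) × Multiplicative (ZMod p) →* H ⧸ Subgroup.zpowers c :=
        MonoidHom.mk' P fun u v => by
          simp only [P, Prod.fst_mul, Prod.snd_mul, toAdd_mul, ZMod.val_add]
          rw [← pow_eq_pow_mod _ (hpw x), ← pow_eq_pow_mod _ (hpw y), pow_add, pow_add]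
          exact (hxy.pow_pow (Multiplicative.toAdd v.1).val (Multiplicative.toAdd u.2).val).mul_mul_mul_comm _ _
      have hval : ∀ g : H, g ∈ ({x, y} : Set H) → r g ∈ Pm.range := by
        haveI : Fact (1 < p) := ⟨hp.one_lt⟩
        rintro g (rfl | rfl)
        · exact ⟨(Multiplicative.ofAdd 1, 1), by simp [Pm, P, ZMod.val_one]⟩
        · exact ⟨(1, Multiplicative.ofAdd 1), by simp [Pm, P, ZMod.val_one]⟩
      have hsurj : Function.Surjective Pm := by
        intro w
        obtain ⟨a, rfl⟩ := QuotientGroup.mk'_surjective _ w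
        have : E ≤ Pm.range.comap r := (Subgroup.closure_le _).2 hval
        exact this (hEtop ▸ Subgroup.mem_top a)
      have hle := Nat.card_le_card_of_surjective Pm hsurj
      rw [Nat.card_prod, Nat.card_congr Multiplicative.toAdd, Nat.card_zmod, ← Subgroup.index_eq_card] at hle
      have hm := (Subgroup.zpowers c).card_mul_index
      rw [h.card_zpowers, hn] at hm
      have h5 : p * (p * p) < p ^ 4 := by
        rw [show p * (p * p) = p ^ 3 by ring]
        exact Nat.pow_lt_pow_right hp.one_lt (by norm_num)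
      have h6 := Nat.mul_le_mul_left p hle
      omega
    have hEZ : E ⊓ Z = Subgroup.zpowers c := by
      refine (le_antisymm (le_inf hDE h.le_center) ?_).symm
      have hm := Subgroup.relIndex_mul_relIndex (Subgroup.zpowers c) _ _ (le_inf hDE h.le_center)
        (inf_le_right : E ⊓ Z ≤ Z)
      rw [hr] at hm
      rcases hp.eq_one_or_self_of_dvd _ ⟨_, hm.symm⟩ with h2 | h2
      · exact Subgroup.relIndex_eq_one.1 h2
      · rw [h2] at hm
        have : Z ≤ E ⊓ Z := Subgroup.relIndex_eq_one.1 ((mul_eq_left₀ hp.ne_zero).1 hm)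
        exact absurd (this hz).1 hzE
    have hEcard : Nat.card E = p ^ 3 := by
      have h1 : E.index = p := by
        rw [← Subgroup.relIndex_top_right, ← h.gen, Subgroup.relIndex_sup_left,
          ← Subgroup.inf_relIndex_right, hEZ, hr]
      refine Nat.eq_of_mul_eq_mul_right hp.pos ?_
      conv_lhs => rw [← h1, E.card_mul_index]
      rw [hn, ← pow_succ]
    have hEna : ¬ ∀ a b : E, a * b = b * a := fun hall => h.comm_ne
      (commutatorElement_eq_one_iff_mul_comm.2
        (congrArg Subtype.val (hall ⟨x, Subgroup.subset_closure (by simp)⟩ ⟨y, Subgroup.subset_closure (by simp)⟩)))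
    obtain ⟨n, ⟨en0⟩⟩ := Finite.exists_equiv_fin E
    let en : E ≃ {_i : Fin n // True} := en0.trans (Equiv.subtypeUnivEquiv fun _ => trivial).symm
    letI := en.symm.group
    let e : {_i : Fin n // True} ≃* E := en.symm.mulEquiv
    have hEexp : ∀ v : {_i : Fin n // True}, v ^ p = 1 := fun v => e.injective (Subtype.ext (by
      rw [map_pow, Subgroup.coe_pow, hexp, map_one, Subgroup.coe_one]))
    have hcardF : Nat.card ({_i : Fin n // True}) = p ^ 3 := by rw [Nat.card_congr en.symm, hEcard]
    refine .inl ⟨hodd, {_i : Fin n // True}, inferInstance, inferInstance, isExtraspecial_of_exp hcardF (fun hall => hEna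
      fun a b => e.symm.injective (by rw [map_mul, map_mul]; exact hall _ _)) hEexp, hcardF, hEexp, ?_⟩
    let F : {_i : Fin n // True} × Multiplicative (ZMod p) →* H :=
      MonoidHom.noncommCoprod (E.subtype.comp e.toMonoidHom) zh fun v k => hzcomm k _
    have hF : Function.Injective F := by
      rw [injective_iff_map_eq_one]
      rintro ⟨v, k⟩ hvk
      simp only [F, MonoidHom.noncommCoprod_apply] at hvk
      have hk : zh k ∈ Subgroup.zpowers c := by
        rw [← hEZ]
        refine ⟨?_, Z.pow_mem hz _⟩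
        rw [show zh k = ((e v : E) : H)⁻¹ from eq_inv_of_mul_eq_one_right hvk]
        exact E.inv_mem (e v).2
      rw [hzinj k hk] at hvk ⊢
      rw [map_one, mul_one] at hvk
      rw [e.injective ((Subtype.ext hvk).trans (map_one e).symm)]
      rfl
    refine ⟨(MulEquiv.ofBijective F ((Nat.bijective_iff_injective_and_card F).2 ⟨hF, ?_⟩)).symm⟩
    rw [Nat.card_prod, Nat.card_congr Multiplicative.toAdd, Nat.card_zmod, hcardF, hn, ← pow_succ]

end CfsgLib.Fusion.EssentialShapes
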