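import Mathlib
import Cfsg.Agent.Lib.Fusion.FunctorControl
import Cfsg.Agent.Lib.Fusion.Ext
import Cfsg.Agent.Lib.Fusion.TransportGroup
import Cfsg.Agent.Lib.PSolvable.Constrained

/-!
Saturated systems free of a section are constrained when a functor is normal in the constrained
groups free of the section.
-/

set_option autoImplicit false

set_option linter.style.haveILetI false

namespace CfsgLib.Fusion

open Cfsg Cfsg.FusionSystem

universe u v

section Pieces

variable {Ω : Type u} [Group Ω] {S : Subgroup Ω} [Finite S] {F : FusionSystem S} {p : ℕ}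
  [Fact p.Prime] {H : Type v} [Group H]

/-- A subgroup with normal image in a realizing group is normal in the system. -/
theorem isNormal_of_realized {G : Type u} [Group G] {ι : S →* G} (h : F.IsRealizedBy ι)
    {X : Subgroup Ω} (hXS : X ≤ S) (hn : ((X.subgroupOf S).map ι).Normal) : F.IsNormal X := by
  have hinj := h.1
  refine isNormal_iff.2 ⟨hXS, fun P f hf => ?_⟩
  obtain ⟨γ, hγ⟩ := exists_conj_of_isMap h hf
  have hmem : ∀ x, ∀ hx : x ∈ X, ∃ w : S, (w : Ω) ∈ X ∧ ι w = γ * ι ⟨x, hXS hx⟩ * γ⁻¹ :=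
    fun x hx => by
      obtain ⟨w, hw, e⟩ := hn.conj_mem _
        (⟨⟨x, hXS hx⟩, hx, rfl⟩ : ι ⟨x, hXS hx⟩ ∈ (X.subgroupOf S).map ι) γ
      exact ⟨w, hw, e⟩
  let D : Subgroup S := ((ι.range).comap (MulAut.conj γ).toMonoidHom).comap ι
  have hle : (P ⊔ X).subgroupOf S ≤ D := by
    rw [Subgroup.subgroupOf_sup hf.le hXS]
    refine sup_le (fun x hx => ?_) fun x hx => ?_
    · refine ⟨⟨f x, hf.mem hx⟩, ?_⟩
      have := hγ (x : Ω) hx
      rw [homExt_apply ι (show f (x : Ω) ∈ S from hf.mem hx), homExt_apply ι x.2] at this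
      exact this
    · obtain ⟨w, -, hw⟩ := hmem x hx
      exact ⟨w, hw⟩
  choose! w hw using fun (x : Ω) (hx : x ∈ P ⊔ X) =>
    hle (show (⟨x, sup_le hf.le hXS hx⟩ : S) ∈ _ from hx)
  have hg : IsMap F (P ⊔ X) (fun x => (w x : Ω)) :=
    isMap_of_conj h (sup_le hf.le hXS) (fun x _ => (w x).2) fun x hx => by
      rw [homExt_apply ι (w x).2, homExt_apply ι (sup_le hf.le hXS hx)]; exact hw x hx
  refine ⟨_, hg, fun x hx => ?_, image_eq_of_mem hXS hg le_sup_right fun x hx => ?_⟩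
  · refine homExt_inj hinj (w x).2 (hf.mem hx) ?_
    rw [hγ x hx, homExt_apply ι (w x).2, homExt_apply ι (hf.le hx)]
    exact hw x (Subgroup.mem_sup_left hx)
  · obtain ⟨v, hv, hve⟩ := hmem x hx
    rw [show w x = v from hinj ((hw x (Subgroup.mem_sup_right hx)).trans hve.symm)]
    exact hv

end Pieces

variable (W : ∀ (Q : Type u) [Group Q], Subgroup Q) {p : ℕ} [Fact p.Prime]
variable {H : Type v} [Group H]
variable (hW1 : ∀ (Q : Type u) [Group Q] [Finite Q], IsPGroup p Q → Nontrivial Q → W Q ≠ ⊥)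
variable (hW2 : ∀ (Q R : Type u) [Group Q] [Group R] [Finite Q], IsPGroup p Q → ∀ φ : Q ≃* R,
  (W Q).map φ.toMonoidHom = W R)
variable (hW3 : ∀ (L : Type u) [Group L] [Finite L] (P : Sylow p L),
  Subgroup.centralizer ((Cfsg.pCore p L : Subgroup L) : Set L) ≤ Cfsg.pCore p L →
  ¬ Cfsg.Involves H L →
  ((W ↥(P : Subgroup L)).map (P : Subgroup L).subtype).Normal)

include hW2 hW3 in
/-- The relative functor of a Sylow subgroup of a normal subgroup is normal. -/
theorem relW_normal_of_normal {L : Type u} [Group L] [Finite L] (T₀ : Sylow p L)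
    (hc : Subgroup.centralizer ((Cfsg.pCore p L : Subgroup L) : Set L) ≤ Cfsg.pCore p L)
    (hfree : ¬ Cfsg.Involves H L) {U M : Subgroup L} [hU : U.Normal] [hM : M.Normal]
    (hUp : IsPGroup p U) (hUM : U ≤ M)
    (haut : ∀ g ∈ M, (orderOf g).Coprime p → ∀ u ∈ U, g * u * g⁻¹ = u) :
    (relW W U ((T₀ : Subgroup L) ⊓ M)).Normal := by
  set T := (T₀ : Subgroup L) ⊓ M with hTdef
  have hTp : IsPGroup p T := T₀.isPGroup'.to_le inf_le_left
  obtain ⟨P, hP⟩ := (exists_sylow_eq_iff hTp (inf_le_right : T ≤ M)).2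
    fun V hV hVp => card_le_inf_of_normal T₀ M hV hVp
  have hUT : U ≤ T := le_inf (fun u hu => le_sylow_of_normal_pGroup T₀ hU hUp hu) hUM
  have hnM := relW_normal_of_model W hW2 hW3 P
    (CfsgLib.PSolvable.centralizer_pCore_le_of_normal hc M)
    (fun h => hfree (CfsgLib.Offender.involves_of_injective M.subtype M.subtype_injective h))
    (U := U.subgroupOf M) inferInstance (hUp.comap_of_injective _ M.subtype_injective)
    fun g hg u hu => Subtype.ext (by
      rw [Subgroup.coe_mul, Subgroup.coe_mul, Subgroup.coe_inv]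
      exact haut g g.2 (by rwa [Subgroup.orderOf_coe]) u hu)
  let e : ↥(P : Subgroup M) ≃* T :=
    (MulEquiv.subgroupCongr hP).trans (Subgroup.subgroupOfEquivOfLe inf_le_right)
  have he : ∀ x, ((e x : T) : L) = ((x : M) : L) := fun x => rfl
  have hUe : ((U.subgroupOf M).subgroupOf (P : Subgroup M)).map e.toMonoidHom =
      U.subgroupOf T := by
    ext y
    constructor
    · rintro ⟨x, hx, rfl⟩; exact hx
    · intro hy
      refine ⟨e.symm y, ?_, e.apply_symm_apply y⟩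
      show (((e.symm y : ↥(P : Subgroup M)) : M) : L) ∈ U
      rw [← he, e.apply_symm_apply]
      exact hy
  have hX := relW_map W hW2 P.isPGroup' e hUe
  refine ⟨fun x hx g => ?_⟩
  obtain ⟨m, hm, hn⟩ := exists_mul_of_normal T₀ M g
  have hxT : x ∈ T := relW_le W U T hx
  have h1 : (⟨x, hxT.2⟩ : M) ∈ relW W (U.subgroupOf M) (P : Subgroup M) := by
    have := (hX (e.symm ⟨x, hxT⟩)).1 (by rwa [e.apply_symm_apply])
    rwa [show ((e.symm ⟨x, hxT⟩ : ↥(P : Subgroup M)) : M) = ⟨x, hxT.2⟩ from Subtype.ext (by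
      rw [← he, e.apply_symm_apply])] at this
  have h2 := hnM.conj_mem _ h1 ⟨m, hm⟩
  have h3 : m * x * m⁻¹ ∈ relW W U T := (hX ⟨_, relW_le W _ _ h2⟩).2 h2
  have h4 : g * m⁻¹ ∈ Subgroup.normalizer (relW W U T : Set L) :=
    normalizer_le_relW W hW2 (le_refl T) hTp hn
      (Subgroup.le_normalizer_of_normal (Subgroup.mem_top _))
  have h5 := conj_mem_of_mem_normalizer h4 h3
  rwa [show g * m⁻¹ * (m * x * m⁻¹) * (g * m⁻¹)⁻¹ = g * x * g⁻¹ by group] at h5

include hW1 hW2 hW3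

/-- The functor forces constrainedness, by induction on the number of maps. -/
theorem isConstrained_of_functor_aux : ∀ (n : ℕ) {Ω : Type u} [Group Ω] (S : Subgroup Ω)
    [Finite S] (F : FusionSystem S), (mapGraphs F).ncard = n → IsPGroup p S → F.IsSaturated p →
    F.IsSectionFree p H → F.IsConstrained p := by
  intro n
  induction n using Nat.strong_induction_on with
  | _ n ihn =>
  intro Ω _ S _ F hn hS hF hfree
  set R := F.core with hRdef
  have hR : F.IsNormal R := isNormal_core F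
  have hRS := hR.1
  have hRn := le_normalizer_of_isNormal hR
  have := finite_of_le hRS
  by_cases hC : centralizerIn S R ≤ R
  · exact ⟨hF, R, hR, isCentric_of_fullyCentralized hS hF
      (isFullyCentralized_of_isFullyNormalized hS hF (isFullyNormalized_of_isNormal hR)) hC⟩
  exfalso
  have hmax : ∀ Y, F.IsNormal Y → Y ≤ R := fun Y hY => le_sSup hY
  by_cases hp₂ : IsPGroup p (F.autGroup R)
  · refine relW_ne W hW1 hS hRS hRn (fun h => hC (h ▸ inf_le_left)) ?_
    exact le_antisymm (hmax _ (isNormal_relW W hW1 hW2 hW3 _ S F rfl hS hF hfree R hR hp₂))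
      (le_relW W hRS)
  set EK := kSystem F R hRS (autInducedBy S R) (conj_adm hR)
  have hlt : (mapGraphs EK).ncard < n := by
    rw [← hn]
    refine ncard_mapGraphs_lt (fun P f h => isMap_of_kSystem h) ?_
    by_contra hc
    push Not at hc
    refine hp₂ ((isPGroup_autInducedBy hS R).to_le fun a ha => ?_)
    obtain ⟨-, g, hg, hag, k, hk, hkv⟩ := isMap_kSystem_iff.1
      (hc R _ ((mem_autGroup_iff hRS a).1 ha).isMap)
    rwa [show a = k from MulEquiv.ext fun x => Subtype.ext (by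
      rw [← autFun_coe a x, ← hag x x.2, hkv x x.2, autFun_coe])]
  have hEKsat := isSaturated_kSystem hS hF hR
  have hEKfree := isSectionFree_kSystem hS hF hR hfree
  have hcon := ihn _ hlt S EK rfl hS hEKsat hEKfree
  obtain ⟨L, _, ι, hG⟩ := exists_model hS hcon
  have : Finite L := hG.1
  obtain ⟨T₀, hT₀⟩ := hG.2.2.1
  have hinj := hG.2.1.1
  have hfreeL := not_involves_of_model hS hcon hEKfree hG
  have hEKR : EK.IsNormal R := by
    refine isNormal_iff.2 ⟨hRS, fun P f hm => ?_⟩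
    obtain ⟨-, g₁, hg₁, hgf, hK⟩ := isMap_kSystem_iff.1 hm
    refine ⟨g₁, isMap_kSystem_iff.2 ⟨hg₁, g₁, ?_, fun _ _ => rfl, hK⟩, hgf, hK.image_eq⟩
    rwa [sup_eq_left.2 (le_sup_right : R ≤ P ⊔ R)]
  set Rb : Subgroup L := (R.subgroupOf S).map ι with hRbdef
  haveI hRb : Rb.Normal := normal_map_of_isModel hG hEKR
  have hRbp : IsPGroup p Rb := (hS.to_subgroup _).map _
  have hRbval : ∀ y ∈ Rb, ∃ x : S, (x : Ω) ∈ R ∧ ι x = y := fun y ⟨x, hx, h⟩ => ⟨x, hx, h⟩
  haveI : (Subgroup.centralizer (Rb : Set L)).Normal := inferInstance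
  set M : Subgroup L := Rb ⊔ Subgroup.centralizer (Rb : Set L)
  have hM : M.Normal := inferInstance
  have haut : ∀ g ∈ M, (orderOf g).Coprime p → ∀ u ∈ Rb, g * u * g⁻¹ = u := by
    intro g hg hord u hu
    let χ : M →* MulAut Rb := (MulAut.conjNormal (H := Rb)).comp M.subtype
    have hχ : χ.range ≤ (MulAut.conj : Rb →* MulAut Rb).range := by
      rintro _ ⟨⟨m, hm⟩, rfl⟩
      obtain ⟨a, ha, c, hc, rfl⟩ := Subgroup.mem_sup_of_normal_left.1 hm
      refine ⟨⟨a, ha⟩, MulEquiv.ext fun y => Subtype.ext ?_⟩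
      show a * (y : L) * a⁻¹ = a * c * (y : L) * (a * c)⁻¹
      rw [mul_assoc a c, show c * (y : L) = y * c from (hc _ y.2).symm]
      group
    have hχp : IsPGroup p χ.range :=
      (hRbp.of_surjective _ (MulAut.conj : Rb →* MulAut Rb).rangeRestrict_surjective).to_le hχ
    obtain ⟨k, hk⟩ := hχp ⟨χ ⟨g, hg⟩, ⟨g, hg⟩, rfl⟩
    have h1 : χ ⟨g, hg⟩ = 1 := orderOf_eq_one_iff.1 (Nat.eq_one_of_dvd_coprimes
      (hord.pow_right k) ((orderOf_map_dvd χ _).trans (by rw [← Subgroup.orderOf_coe]))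
      (orderOf_dvd_of_pow_eq_one (congrArg Subtype.val hk)))
    exact congrArg Subtype.val (MulEquiv.congr_fun h1 ⟨u, hu⟩)
  set R₀ := R ⊔ centralizerIn S R with hR₀def
  have hR₀S : R₀ ≤ S := sup_le hRS inf_le_left
  have := finite_of_le hR₀S
  have hR₀T : ∀ x : S, ι x ∈ (T₀ : Subgroup L) ⊓ M ↔ (x : Ω) ∈ R₀ := by
    intro x
    constructor
    · rintro ⟨-, hx⟩
      obtain ⟨a, ha, c, hc, hac⟩ := Subgroup.mem_sup_of_normal_left.1 hx
      obtain ⟨a', ha', rfl⟩ := hRbval a ha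
      have hce : ι (a'⁻¹ * x) = c := by rw [map_mul, map_inv, ← hac, inv_mul_cancel_left]
      have hc' : ((a'⁻¹ * x : S) : Ω) ∈ centralizerIn S R := by
        refine ⟨SetLike.coe_mem _, mem_centralizer_of_conj_eq fun r hr => ?_⟩
        have h1 : ι ⟨r, hRS hr⟩ * c = c * ι ⟨r, hRS hr⟩ := hc _ ⟨_, hr, rfl⟩
        rw [← hce, ← map_mul, ← map_mul] at h1
        rw [mul_inv_eq_iff_eq_mul]
        exact (congrArg Subtype.val (hinj h1)).symm
      have := R₀.mul_mem (Subgroup.mem_sup_left ha') (Subgroup.mem_sup_right hc')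
      rwa [Subgroup.coe_mul, Subgroup.coe_inv, mul_inv_cancel_left] at this
    · intro hx
      refine ⟨hT₀.ge ⟨x, rfl⟩, ?_⟩
      have hle : R₀.subgroupOf S ≤ M.comap ι := by
        have hcS : centralizerIn S R ≤ S := inf_le_left
        rw [hR₀def, Subgroup.subgroupOf_sup hRS hcS]
        refine sup_le (fun y hy => Subgroup.mem_sup_left ⟨y, hy, rfl⟩)
          fun y hy => Subgroup.mem_sup_right fun z hz => ?_
        obtain ⟨r, hr, rfl⟩ := hRbval z hz
        rw [← map_mul, ← map_mul]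
        exact congrArg ι (Subtype.ext (hy.2 _ hr))
      exact hle hx
  set T := (T₀ : Subgroup L) ⊓ M
  let e₀ : R₀ →* T :=
    (ι.comp (Subgroup.inclusion hR₀S)).codRestrict T fun x => (hR₀T _).2 x.2
  have he₀ : Function.Bijective e₀ := by
    constructor
    · intro a b h
      exact Subgroup.inclusion_injective hR₀S (hinj (congrArg Subtype.val h))
    · rintro ⟨y, hy⟩
      obtain ⟨x, rfl⟩ := hT₀.le hy.1
      exact ⟨⟨x, (hR₀T x).1 hy⟩, rfl⟩
  let e : R₀ ≃* T := MulEquiv.ofBijective e₀ he₀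
  have hUe : (R.subgroupOf R₀).map e.toMonoidHom = Rb.subgroupOf T := by
    ext y
    constructor
    · rintro ⟨x, hx, rfl⟩; exact ⟨⟨x, hR₀S x.2⟩, hx, rfl⟩
    · intro hy
      obtain ⟨x, hx, hxy⟩ := hRbval _ hy
      exact ⟨⟨x, Subgroup.mem_sup_left hx⟩, hx, Subtype.ext hxy⟩
  set Y := relW W R R₀ with hYdef
  have hYR₀ : Y ≤ R₀ := relW_le W R R₀
  have hYS : Y ≤ S := hYR₀.trans hR₀S
  have hR₀p : IsPGroup p R₀ := hS.to_le hR₀S
  have hXb := relW_map W hW2 hR₀p e hUe
  have hnX := relW_normal_of_normal W hW2 hW3 T₀ hG.2.2.2 hfreeL hRbp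
    (le_sup_left : Rb ≤ M) haut
  have hYeq : (Y.subgroupOf S).map ι = relW W Rb T := by
    ext y
    constructor
    · rintro ⟨x, hx, rfl⟩
      exact (hXb ⟨x, hYR₀ hx⟩).2 hx
    · intro hy
      obtain ⟨x, hx⟩ := e.surjective ⟨y, relW_le W Rb T hy⟩
      have hy' : ((e x : T) : L) ∈ relW W Rb T := by rw [hx]; exact hy
      exact ⟨⟨x, hR₀S x.2⟩, (hXb x).1 hy', congrArg Subtype.val hx⟩
  have hYK : EK.IsNormal Y := isNormal_of_realized hG.2.1 hYS (hYeq ▸ hnX)
  -- `Y` is normal in the whole system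
  have hYn : F.IsNormal Y := by
    refine isNormal_iff.2 ⟨hYS, fun P f hf => ?_⟩
    obtain ⟨g, hg, hgf, hgU⟩ := (isNormal_iff.1 hR).2 P f hf
    have hPS : P ⊔ R ≤ S := sup_le hf.le hRS
    have hiso : IsIso F R R g := ⟨hg.mono le_sup_right, hgU⟩
    obtain ⟨g₀, hg₀, hg₀v⟩ := (isReceptive_iff.1 (isReceptive_of_isFullyNormalized hS hF
      (isFullyNormalized_of_isNormal hR))).2 R g hiso
    set D := nPhi S R g
    have hPD : P ⊔ R ≤ D := fun x hx => ⟨hPS hx, hRn (hPS hx), g x, hg.mem hx,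
      fun y hy => hg.map_conj hx (Subgroup.mem_sup_right hy)⟩
    have hRD : R ≤ D := le_nPhi hiso.isMap
    have hR₀D : R₀ ≤ D := sup_le hRD (centralizerIn_le_nPhi R g)
    have hg₀U : IsIso F R R g₀ := hiso.congr fun x hx => (hg₀v x hx).symm
    have hg₀R : g₀ '' (R₀ : Set Ω) = R₀ := image_eq_of_mem hR₀S hg₀ hR₀D
      (mem_of_mem_sup hg₀ hRD (centralizerIn_le_nPhi R g)
        (fun x hx => Subgroup.mem_sup_left (hg₀U.mem hx))
        fun x hx => Subgroup.mem_sup_right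
          (hg₀.mem_centralizerIn hRD hg₀U (centralizerIn_le_nPhi R g hx) hx.2))
    have hg₀Y : g₀ '' (Y : Set Ω) = Y := image_relW W hW2 hS hR₀S le_sup_left
      ⟨hg₀.mono hR₀D, hg₀R⟩ hg₀U.image_eq
    obtain ⟨I, hI⟩ := (hg₀.mono hPD).exists_iso
    obtain ⟨g₀', hg₀', hg₀'1, -⟩ := hI.exists_symm
    have hRI : R ≤ I := fun z hz => by
      obtain ⟨x, hx, rfl⟩ := hg₀U.surj hz
      exact hI.mem (Subgroup.mem_sup_right hx)
    have hh : IsMap F I (g ∘ g₀') := hg₀'.isMap.comp hg fun z hz => hg₀'.mem hz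
    have hhK : IsMap EK I (g ∘ g₀') := by
      refine isMap_kSystem_iff.2 ⟨hh, g ∘ g₀', by rwa [sup_eq_left.2 hRI], fun _ _ => rfl, 1,
        Subgroup.one_mem _, fun z hz => ?_⟩
      obtain ⟨x, hx, rfl⟩ := hg₀U.surj hz
      show g (g₀' (g₀ x)) = _
      rw [hg₀'1 x (Subgroup.mem_sup_right hx), autFun_apply _ (hg₀U.mem hx)]
      exact (hg₀v x hx).symm
    obtain ⟨h₁, hh₁, hh₁v, hh₁Y⟩ := (isNormal_iff.1 hYK).2 I _ hhK
    have hPY : P ⊔ Y ≤ D := sup_le (le_sup_left.trans hPD) (hYR₀.trans hR₀D)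
    refine ⟨h₁ ∘ g₀, (hg₀.mono hPY).comp (isMap_of_kSystem hh₁) (mem_of_mem_sup
      (hg₀.mono hPY) le_sup_left le_sup_right
      (fun x hx => Subgroup.mem_sup_left (hI.mem (Subgroup.mem_sup_left hx)))
      fun x hx => Subgroup.mem_sup_right (hg₀Y.subset ⟨x, hx, rfl⟩)), fun x hx => ?_, ?_⟩
    · show h₁ (g₀ x) = f x
      rw [hh₁v _ (hI.mem (Subgroup.mem_sup_left hx))]
      show g (g₀' (g₀ x)) = f x
      rw [hg₀'1 x (Subgroup.mem_sup_left hx), hgf x hx]
    · rw [Set.image_comp, hg₀Y, hh₁Y]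
  refine relW_ne W hW1 hR₀p le_sup_left
    (fun x hx => hRn (hR₀S hx)) (fun h => hC (le_sup_right.trans h.ge)) ?_
  exact le_antisymm (hmax _ hYn) (le_relW W le_sup_left)

/-- A saturated system free of the section is constrained. -/
theorem isConstrained_of_sectionFree {Ω : Type u} [Group Ω] {S : Subgroup Ω} [Finite S]
    {F : FusionSystem S} (hS : IsPGroup p S) (hF : F.IsSaturated p)
    (hfree : F.IsSectionFree p H) : F.IsConstrained p :=
  isConstrained_of_functor_aux W hW1 hW2 hW3 _ S F rfl hS hF hfree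

end CfsgLib.Fusion
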