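import Mathlib
import Cfsg.Prelude.Def_FusionComponents
import Cfsg.Agent.Lib.Fusion.FreeConstrained
import Cfsg.Agent.Lib.Fusion.GroupModel
import Cfsg.Agent.Lib.Fusion.FactorSystem
import Cfsg.Agent.Lib.Fusion.Model

/-!
Systems realized by groups free of a section are solvable.
-/

set_option autoImplicit false
set_option linter.style.haveILetI false

namespace CfsgLib.Fusion

open Cfsg Cfsg.FusionSystem

universe u v w

namespace Transport

variable {Ω : Type u} {Ω' : Type w} [Group Ω] [Group Ω'] {S : Subgroup Ω} {S' : Subgroup Ω'}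
variable {F : FusionSystem S} {F' : FusionSystem S'} {j : Ω → Ω'} {k : Ω' → Ω}
  (h : Transport F F' j k)

include h

/-- An isomorphism of systems carries normal subgroups to normal subgroups. -/
theorem isNormal_img {X : Subgroup Ω} (hX : F.IsNormal X) : F'.IsNormal (h.img X) := by
  refine isNormal_iff.2 ⟨h.img_le X, fun P' f' hf' => ?_⟩
  have hP' := hf'.le
  obtain ⟨g, hg, hgf, hgX⟩ := (isNormal_iff.1 hX).2 _ _ (h.symm.isMap hf')
  have hle : P' ⊔ h.img X ≤ h.img (h.symm.img P' ⊔ X) :=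
    sup_le ((h.img_symm_img hP').ge.trans (h.img_mono le_sup_left)) (h.img_mono le_sup_right)
  refine ⟨_, (h.isMap hg).mono hle, fun y hy => ?_, ?_⟩
  · show j (g (k y)) = f' y
    rw [hgf _ (h.symm.mem_img hP' hy)]
    show j (k (f' (j (k y)))) = f' y
    rw [h.jk y (hP' hy), h.jk _ (hf'.mem hy)]
  · rw [h.coe_img hX.1, Set.image_image]
    conv_rhs => rw [← hgX, Set.image_image]
    exact Set.image_congr fun x hx => by rw [h.kj x (hX.1 hx)]

end Transport

variable (W : ∀ (Q : Type u) [Group Q], Subgroup Q) {p : ℕ} [Fact p.Prime]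
variable {H : Type v} [Group H]
variable (hW1 : ∀ (Q : Type u) [Group Q] [Finite Q], IsPGroup p Q → Nontrivial Q → W Q ≠ ⊥)
variable (hW2 : ∀ (Q R : Type u) [Group Q] [Group R] [Finite Q], IsPGroup p Q → ∀ φ : Q ≃* R,
  (W Q).map φ.toMonoidHom = W R)
variable (hW3 : ∀ (L : Type u) [Group L] [Finite L] (P : Sylow p L),
  Subgroup.centralizer ((Cfsg.pCore p L : Subgroup L) : Set L) ≤ Cfsg.pCore p L →
  ¬ Cfsg.Involves H L →
  ((W ↥(P : Subgroup L)).map (P : Subgroup L).subtype).Normal)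

include hW1 hW2 hW3

/-- A system realized by a group free of the section is solvable. -/
theorem isSolvableSystem_of_free_group {Ω : Type u} [Group Ω] {S : Subgroup Ω} [Finite S]
    {F : FusionSystem S} {G : Type u} [Group G] [Finite G] {ι : S →* G}
    (hι : F.IsRealizedBy ι) (T₀ : Sylow p G) (hT₀ : (T₀ : Subgroup G) = ι.range)
    (hfree : ¬ Cfsg.Involves H G) : F.IsSolvableSystem := by
  intro R hR hRne hRn E hE hcore
  obtain ⟨hinj, hiff⟩ := hι
  have hRS := hR.1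
  set θ : S →* S ⧸ R.subgroupOf S := QuotientGroup.mk' (R.subgroupOf S) with hθ
  set Rb : Subgroup G := (R.subgroupOf S).map ι with hRb
  set Hn : Subgroup G := Subgroup.normalizer (Rb : Set G)
  have hιn : ∀ s : S, ι s ∈ Hn := fun s => Subgroup.mem_normalizer_fintype fun y hy => by
    obtain ⟨r, hr, rfl⟩ := hy
    exact ⟨s * r * s⁻¹, hRn.conj_mem r hr s, by simp⟩
  set Qb : Subgroup Hn := Rb.subgroupOf Hn
  haveI hQb : Qb.Normal :=
    (Subgroup.normal_subgroupOf_iff_le_normalizer Subgroup.le_normalizer).2 le_rfl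
  let π : Hn →* Hn ⧸ Qb := QuotientGroup.mk' Qb
  have hπ : Function.Surjective π := QuotientGroup.mk'_surjective Qb
  let ι₁ : S →* Hn := ι.codRestrict Hn hιn
  have hker : ∀ s : S, π (ι₁ s) = 1 ↔ s ∈ R.subgroupOf S := fun s => by
    show ((ι₁ s : Hn) : Hn ⧸ Qb) = 1 ↔ _
    rw [QuotientGroup.eq_one_iff]
    exact ⟨fun ⟨r, hr, hre⟩ => hinj hre ▸ hr, fun hs => ⟨s, hs, rfl⟩⟩
  let κ₀ : S ⧸ R.subgroupOf S →* Hn ⧸ Qb :=
    QuotientGroup.lift _ (π.comp ι₁) fun s hs => (hker s).2 hs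
  have hκθ : ∀ s : S, κ₀ (θ s) = π (ι₁ s) := fun s => rfl
  have hκinj : Function.Injective κ₀ := by
    rw [← MonoidHom.ker_eq_bot_iff, Subgroup.eq_bot_iff_forall]
    intro q hq
    obtain ⟨s, rfl⟩ := QuotientGroup.mk_surjective q
    exact (QuotientGroup.eq_one_iff _).2 ((hker s).1 hq)
  let κ : ↥(⊤ : Subgroup (S ⧸ R.subgroupOf S)) →* Hn ⧸ Qb := κ₀.comp (Subgroup.subtype _)
  -- the factor system is realized by the quotient
  have hreal : E.IsRealizedBy κ := by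
    refine ⟨hκinj.comp Subtype.val_injective, fun P' hP' φ' hφ' => ?_⟩
    rw [hE.2.2.2]
    constructor
    · rintro ⟨-, φ, hφ, hPS, hφS, hxP, hind⟩
      obtain ⟨g, hg⟩ := (hiff _ hPS φ hφS).1 hφ
      have hgH : g ∈ Hn := Subgroup.mem_normalizer_fintype fun y hy => by
        obtain ⟨r, hr, rfl⟩ := hy
        have hrP : (r : Ω) ∈ preimageAlong θ P' := ⟨r, by
          show θ r ∈ P'
          rw [show θ r = 1 from (QuotientGroup.eq_one_iff _).2 hr]
          exact P'.one_mem, rfl⟩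
        have hm := isMap_mem_of_stronglyClosed hR (isMap_homFun hφ) hrP hr
        rw [homFun_apply φ hrP] at hm
        exact ⟨⟨φ ⟨r, hrP⟩, hφS _⟩, hm, hg ⟨r, hrP⟩⟩
      refine ⟨π ⟨g, hgH⟩, fun x => ?_⟩
      obtain ⟨s, hs⟩ := QuotientGroup.mk'_surjective (R.subgroupOf S) (x : S ⧸ R.subgroupOf S)
      have hsP : (s : Ω) ∈ preimageAlong θ P' := ⟨s, by
        show θ s ∈ P'
        show QuotientGroup.mk' (R.subgroupOf S) s ∈ P'
        rw [hs]; exact x.2, rfl⟩
      have hx : (x : S ⧸ R.subgroupOf S) = θ ⟨(⟨s, hsP⟩ : ↥(preimageAlong θ P')), s.2⟩ :=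
        hs.symm
      show κ₀ (φ' x) = π ⟨g, hgH⟩ * κ₀ x * (π ⟨g, hgH⟩)⁻¹
      rw [show φ' x = θ ⟨φ ⟨s, hsP⟩, hφS _⟩ from by
        rw [← hind ⟨s, hsP⟩]; exact congrArg φ' (Subtype.ext hx), hx, hκθ, hκθ, ← map_mul,
        ← map_inv, ← map_mul]
      exact congrArg π (Subtype.ext (hg ⟨s, hsP⟩))
    · rintro ⟨g, hg⟩
      obtain ⟨m, rfl⟩ := hπ g
      have hex : ∀ x : ↥(preimageAlong θ P'), ∃ (hx : θ ⟨x, preimageAlong_le θ P' x.2⟩ ∈ P')
          (w : S), θ w = φ' ⟨_, hx⟩ ∧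
            ι w = m * ι ⟨x, preimageAlong_le θ P' x.2⟩ * (m : G)⁻¹ := by
        intro x
        have hx : θ ⟨x, preimageAlong_le θ P' x.2⟩ ∈ P' := by
          have := ((mem_preimageAlong θ P').1 x.2).2
          rwa [homExt_apply θ (preimageAlong_le θ P' x.2)] at this
        set s : S := ⟨x, preimageAlong_le θ P' x.2⟩
        obtain ⟨t, ht⟩ := QuotientGroup.mk'_surjective (R.subgroupOf S) (φ' ⟨_, hx⟩)
        have h1 : π (ι₁ t) = π (m * ι₁ s * m⁻¹) := by
          rw [← hκθ, show θ t = φ' ⟨_, hx⟩ from ht, map_mul, map_mul, map_inv, ← hκθ]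
          exact hg ⟨_, hx⟩
        obtain ⟨r, hr, hre⟩ : ((ι₁ t)⁻¹ * (m * ι₁ s * m⁻¹) : Hn) ∈ Qb :=
          QuotientGroup.eq.1 (show ((ι₁ t : Hn) : Hn ⧸ Qb) = ((m * ι₁ s * m⁻¹ : Hn) : Hn ⧸ Qb)
            from h1)
        refine ⟨hx, t * r, ?_, ?_⟩
        · rw [map_mul, show θ r = 1 from (QuotientGroup.eq_one_iff _).2 hr, mul_one]
          exact ht
        · rw [map_mul, hre]
          show ι t * ((ι t)⁻¹ * (m * ι s * (m : G)⁻¹)) = _
          group
      choose hxP w hwθ hw using hex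
      let φ : ↥(preimageAlong θ P') →* Ω := MonoidHom.mk' (fun x => (w x : Ω)) fun a b => by
        rw [← Subgroup.coe_mul]
        congr 1
        refine hinj ?_
        rw [map_mul, hw, hw, hw, show (⟨((a * b : ↥(preimageAlong θ P')) : Ω),
          preimageAlong_le θ P' (a * b).2⟩ : S) = ⟨a, preimageAlong_le θ P' a.2⟩ *
          ⟨b, preimageAlong_le θ P' b.2⟩ from rfl, map_mul]
        group
      refine ⟨hP', φ, (hiff _ (preimageAlong_le θ P') φ fun x => (w x).2).2 ⟨m, hw⟩,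
        preimageAlong_le θ P', fun x => (w x).2, hxP, fun x => ?_⟩
      exact (hwθ x).symm
  -- the normal subgroup
  have hle : (T₀ : Subgroup G) ≤ Hn := by
    rw [hT₀]; rintro _ ⟨s, rfl⟩; exact hιn s
  set T₁ : Sylow p (Hn ⧸ Qb) := (T₀.subtype hle).mapSurjective hπ
  have hT₁ : (T₁ : Subgroup (Hn ⧸ Qb)) = κ.range := by
    apply le_antisymm
    · rintro _ ⟨y, hy, rfl⟩
      obtain ⟨s, hs⟩ := hT₀.le (show (y : G) ∈ (T₀ : Subgroup G) from hy)
      exact ⟨⟨θ s, trivial⟩, (hκθ s).trans (congrArg π (Subtype.ext hs))⟩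
    · rintro _ ⟨⟨q, -⟩, rfl⟩
      obtain ⟨s, rfl⟩ := QuotientGroup.mk_surjective q
      exact ⟨ι₁ s, hT₀.ge ⟨s, rfl⟩, rfl⟩
  have hfree₁ : ¬ Cfsg.Involves H (Hn ⧸ Qb) := fun h1 => hfree
    (CfsgLib.Offender.involves_of_injective Hn.subtype Hn.subtype_injective
      (CfsgLib.Offender.involves_of_surjective π hπ h1))
  set X := functorOf W (T₁ : Subgroup (Hn ⧸ Qb))
  have hXn : (groupFusionSystem (T₁ : Subgroup (Hn ⧸ Qb))).IsNormal X :=
    isNormal_functorOf_of_sectionFree W hW1 hW2 hW3 T₁.isPGroup' (isSaturated_group T₁)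
      (isSectionFree_group T₁ hfree₁)
  have hnt : Nontrivial ↥(T₁ : Subgroup (Hn ⧸ Qb)) := by
    obtain ⟨s, hs, hsR⟩ := SetLike.exists_of_lt (lt_of_le_of_ne hRS hRne)
    refine ⟨⟨⟨π (ι₁ ⟨s, hs⟩), ?_⟩, 1, fun e => hsR ((hker ⟨s, hs⟩).1 (congrArg Subtype.val e))⟩⟩
    rw [hT₁]; exact ⟨⟨θ ⟨s, hs⟩, trivial⟩, rfl⟩
  have hXne : X ≠ ⊥ := by
    intro hbot
    refine hW1 _ T₁.isPGroup' hnt ?_
    exact (Subgroup.map_eq_bot_iff_of_injective _ (Subgroup.subtype_injective _)).1 hbot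
  obtain ⟨k, hk⟩ := exists_transport_of_realized κ hreal
  have hk' : ∀ (T : Subgroup (Hn ⧸ Qb)), T = κ.range → (groupFusionSystem T).IsNormal X →
      False := by
    rintro T rfl hn
    have hn' := hk.symm.isNormal_img hn
    have hb : hk.symm.img X = ⊥ := le_bot_iff.1 (hcore ▸ le_sSup hn')
    refine hXne ?_
    rw [← hk.img_symm_img hn.1, hb, eq_bot_iff]
    intro y hy
    obtain ⟨x, hx, -, rfl⟩ := hk.mem_img_iff'.1 hy
    rw [Subgroup.mem_bot.1 hx, hk.j_one]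
    exact Subgroup.one_mem _
  exact hk' _ hT₁ hXn

end CfsgLib.Fusion
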