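import Mathlib
import Cfsg.Agent.Lib.Fusion.FunctorControl
import Cfsg.Agent.Lib.Fusion.CenterFunctor
import Cfsg.Agent.Lib.Fusion.Tate
import Cfsg.Agent.Lib.Fusion.SmallMaps
import Cfsg.Agent.Lib.Conjugacy.KInfTransfer

/-!
A functor that controls transfer in finite groups controls transfer in saturated fusion systems.
-/

set_option autoImplicit false

namespace CfsgLib.Fusion

open Cfsg Cfsg.FusionSystem
open scoped commutatorElement

universe u

/-- The maps of a system that move every element inside a fixed subgroup. -/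
def movesSystem {Ω : Type*} [Group Ω] {S : Subgroup Ω} (F : FusionSystem S) (M : Subgroup Ω)
    (hder : ∀ x ∈ S, ∀ s ∈ S, x⁻¹ * (s * x * s⁻¹) ∈ M) : FusionSystem S where
  Hom P := {φ | φ ∈ F.Hom P ∧ ∀ x : P, (x : Ω)⁻¹ * φ x ∈ M}
  le_of_mem h := F.le_of_mem h.1
  injective_of_mem h := F.injective_of_mem h.1
  conj_mem := fun {P g} hP hg => ⟨F.conj_mem hP hg, fun x => hder x (hP x.2) g hg⟩
  comp_mem := by
    rintro P Q φ ψ ⟨hφ, h⟩ ⟨hψ, k⟩ hh
    refine ⟨F.comp_mem hφ hψ hh, fun x => ?_⟩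
    have := M.mul_mem (h x) (k ⟨φ x, hh x⟩)
    show (x : Ω)⁻¹ * ψ ⟨φ x, hh x⟩ ∈ M
    simpa [mul_assoc] using this
  inv_mem := by
    rintro P φ ⟨hφ, h⟩
    obtain ⟨ψ, hψ, hv⟩ := F.inv_mem hφ
    refine ⟨ψ, ⟨hψ, ?_⟩, hv⟩
    rintro ⟨_, x, rfl⟩
    rw [hv]
    simpa using M.inv_mem (h x)

theorem isMap_movesSystem_iff {Ω : Type*} [Group Ω] {S : Subgroup Ω} {F : FusionSystem S}
    {M : Subgroup Ω} {hder : ∀ x ∈ S, ∀ s ∈ S, x⁻¹ * (s * x * s⁻¹) ∈ M} {P : Subgroup Ω}
    {f : Ω → Ω} : IsMap (movesSystem F M hder) P f ↔ IsMap F P f ∧ ∀ x ∈ P, x⁻¹ * f x ∈ M := by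
  constructor
  · rintro ⟨φ, ⟨hφ, h⟩, hv⟩
    exact ⟨⟨φ, hφ, hv⟩, fun x hx => by rw [← hv ⟨x, hx⟩]; exact h ⟨x, hx⟩⟩
  · rintro ⟨⟨φ, hφ, hv⟩, h⟩
    exact ⟨φ, ⟨hφ, fun x => by rw [hv]; exact h x x.2⟩, hv⟩

variable {p : ℕ} [Fact p.Prime]
variable (W : ∀ (Q : Type u) [Group Q], Subgroup Q)
  (hW1 : ∀ (Q : Type u) [Group Q] [Finite Q], IsPGroup p Q → Nontrivial Q → W Q ≠ ⊥)
  (hW2 : ∀ (Q R : Type u) [Group Q] [Group R] [Finite Q], IsPGroup p Q → ∀ φ : Q ≃* R,
    (W Q).map φ.toMonoidHom = W R)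
  (hOk : ∀ (G : Type u) [Group G] [Finite G], CfsgLib.Conjugacy.Ok p {W} G)

include hW2 hOk

/-- The group-theoretic input: a system with a model. -/
theorem moves_of_model {Ω : Type u} [Group Ω] {S : Subgroup Ω} [Finite S] {F : FusionSystem S}
    (hS : IsPGroup p S) {G : Type u} [Group G] [Finite G] {ι : S →* G} (hG : F.IsModel p G ι)
    {U : Subgroup Ω} (hU : F.IsNormal U) {M : Subgroup Ω} (hUM : U ≤ M)
    (hfix : ∀ P f, IsMap F P f → relW W U S ≤ P →
      f '' (relW W U S : Set Ω) = relW W U S → ∀ x ∈ P, x⁻¹ * f x ∈ M)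
    (P : Subgroup Ω) (f : Ω → Ω) (hf : IsMap F P f) (x : Ω) (hx : x ∈ P) : x⁻¹ * f x ∈ M := by
  obtain ⟨hinj, hiff⟩ := hG.2.1
  obtain ⟨T, hTι⟩ := hG.2.2.1
  have hUS : U ≤ S := hU.1
  let Ub : Subgroup G := (U.subgroupOf S).map ι
  haveI hUbn : Ub.Normal := normal_map_of_isModel hG hU
  have hUbp : IsPGroup p Ub := (hS.to_subgroup _).map _
  have hUT : Ub ≤ (T : Subgroup G) := le_sylow_of_normal_pGroup T hUbn hUbp
  let e : S ≃* ↥(T : Subgroup G) :=
    (MonoidHom.ofInjective hinj).trans (MulEquiv.subgroupCongr hTι.symm)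
  have hUe : (U.subgroupOf S).map e.toMonoidHom = Ub.subgroupOf (T : Subgroup G) := by
    ext y
    constructor
    · rintro ⟨z, hz, rfl⟩; exact ⟨z, hz, rfl⟩
    · rintro ⟨z, hz, hze⟩
      exact ⟨z, hz, Subtype.ext hze⟩
  set X := relW W U S with hX
  have hXS : X ≤ S := relW_le W U S
  set V := relW W Ub (T : Subgroup G) with hV
  have hXb : ∀ z : S, ι z ∈ V ↔ (z : Ω) ∈ X := relW_map W hW2 hS e hUe
  set N := Subgroup.normalizer ((V : Subgroup G) : Set G) with hN
  have hTN : (T : Subgroup G) ≤ N := fun t ht =>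
    normalizer_le_relW W hW2 (S := (T : Subgroup G)) le_rfl T.isPGroup'
      (Subgroup.le_normalizer ht) (Subgroup.normalizer_eq_top_iff.2 hUbn ▸ Subgroup.mem_top t)
  let M' : Subgroup G := (M.subgroupOf S).map ι
  have hfoc : ((T.subtype hTN : Sylow p N) : Subgroup N).focalSubgroup.map N.subtype ≤ M' := by
    rw [Subgroup.map_le_iff_le_comap, Subgroup.focalSubgroup_def, Subgroup.closure_le]
    rintro g ⟨hg, y, hy, u, rfl⟩
    have hy' : (y : G) ∈ ι.range := hTι ▸ (show (y : G) ∈ (T : Subgroup G) from hy)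
    have hg' : ((⁅y, u⁆ : N) : G) ∈ ι.range :=
      hTι ▸ (show ((⁅y, u⁆ : N) : G) ∈ (T : Subgroup G) from hg)
    obtain ⟨v, hv⟩ := hy'
    obtain ⟨v', hv'⟩ : (u : G) * (y : G)⁻¹ * (u : G)⁻¹ ∈ ι.range := by
      have := ι.range.mul_mem (ι.range.inv_mem ⟨v, hv⟩) hg'
      convert this using 1
      simp only [commutatorElement_def, Subgroup.coe_mul, Subgroup.coe_inv]
      group
    set A := X ⊔ Subgroup.zpowers ((v⁻¹ : S) : Ω) with hA
    have hAS : A ≤ S := sup_le hXS (Subgroup.zpowers_le.2 (v⁻¹).2)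
    have hconjW : ∀ z : S, (z : Ω) ∈ X →
        ∃ w : S, (w : Ω) ∈ X ∧ ι w = (u : G) * ι z * (u : G)⁻¹ := by
      intro z hz
      have h2 := (Subgroup.mem_normalizer_iff.1 u.2 _).1 ((hXb z).2 hz)
      have h3 : (u : G) * ι z * (u : G)⁻¹ ∈ (T : Subgroup G) := relW_le W _ _ h2
      rw [hTι] at h3
      obtain ⟨w, hw⟩ := h3
      exact ⟨w, (hXb w).1 (hw ▸ h2), hw⟩
    have hmem : ∀ z : A, ∃ w : S, ι w = (u : G) * ι ⟨z, hAS z.2⟩ * (u : G)⁻¹ := by
      intro z
      have hle : A.subgroupOf S ≤ ι.range.comap ((MulAut.conj (u : G)).toMonoidHom.comp ι) := by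
        rw [hA, Subgroup.subgroupOf_sup hXS (Subgroup.zpowers_le.2 (v⁻¹).2)]
        refine sup_le (fun w hw => ?_) fun w hw => ?_
        · obtain ⟨w', -, hw'⟩ := hconjW w hw
          exact ⟨w', hw'⟩
        · obtain ⟨i, hi⟩ := Subgroup.mem_zpowers_iff.1 (show (w : Ω) ∈ _ from hw)
          refine ⟨v' ^ i, ?_⟩
          show ι (v' ^ i) = (u : G) * ι w * (u : G)⁻¹
          rw [show w = v⁻¹ ^ i from Subtype.ext (by rw [← hi]; simp), map_zpow, map_zpow, map_inv,
            hv, hv', conj_zpow]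
      exact hle (show (⟨z, hAS z.2⟩ : S) ∈ A.subgroupOf S from z.2)
    choose w hw using hmem
    let φ : A →* Ω := MonoidHom.mk' (fun z => (w z : Ω)) fun a b => by
      rw [← Subgroup.coe_mul]
      congr 1
      refine hinj ?_
      rw [map_mul, hw, hw, hw,
        show (⟨((a * b : A) : Ω), hAS (a * b).2⟩ : S) = ⟨a, hAS a.2⟩ * ⟨b, hAS b.2⟩ from rfl,
        map_mul]
      group
    have hφ : φ ∈ F.Hom _ := (hiff _ hAS φ fun z => (w z).2).2 ⟨u, hw⟩
    have himg : homFun φ '' (X : Set Ω) = X := by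
      refine image_eq_of_mem hXS (isMap_homFun hφ) le_sup_left fun z hz => ?_
      rw [homFun_apply φ (Subgroup.mem_sup_left hz)]
      obtain ⟨z', hz', hze⟩ := hconjW ⟨z, hXS hz⟩ hz
      show (w _ : Ω) ∈ X
      rw [hinj ((hw _).trans hze.symm)]
      exact hz'
    have hvA : ((v⁻¹ : S) : Ω) ∈ A := Subgroup.mem_sup_right (Subgroup.mem_zpowers _)
    have e1 := hfix _ _ (isMap_homFun hφ) le_sup_left himg _ hvA
    rw [homFun_apply φ hvA] at e1
    show ((⁅y, u⁆ : N) : G) ∈ M'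
    refine ⟨v * w ⟨_, hvA⟩, ?_, ?_⟩
    · rw [SetLike.mem_coe, Subgroup.mem_subgroupOf]
      show (v : Ω) * (w ⟨_, hvA⟩ : Ω) ∈ M
      convert e1 using 2
      · simp
      · rfl
    · rw [map_mul, hw, show (⟨((v⁻¹ : S) : Ω), hAS hvA⟩ : S) = v⁻¹ from rfl, map_inv, hv]
      simp only [commutatorElement_def, Subgroup.coe_mul, Subgroup.coe_inv]
      group
  -- the element of the derived subgroup
  let a : S := ⟨x, hf.le hx⟩
  let b : S := ⟨f x, hf.mem hx⟩
  obtain ⟨γ, hγ⟩ := exists_conj_of_isMap hG.2.1 hf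
  have hab : ι b = γ * ι a * γ⁻¹ := by
    have := hγ x hx
    rw [homExt_apply ι (hf.mem hx), homExt_apply ι (hf.le hx)] at this
    exact this
  let π : G →* G ⧸ Ub := QuotientGroup.mk' Ub
  have hπ : Function.Surjective π := QuotientGroup.mk'_surjective Ub
  let T₁ : Sylow p (G ⧸ Ub) := T.mapSurjective hπ
  set W₁ := Cfsg.inducedFunctor W (T₁ : Subgroup (G ⧸ Ub)) with hW₁
  have hcom : ι (a⁻¹ * b) = ⁅(ι a)⁻¹, γ⁆ := by
    rw [map_mul, map_inv, hab, commutatorElement_def]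
    group
  have hmem : π (ι (a⁻¹ * b)) ∈ (T₁ : Subgroup (G ⧸ Ub)) ⊓ commutator (G ⧸ Ub) := by
    refine ⟨⟨_, hTι.ge ⟨_, rfl⟩, rfl⟩, ?_⟩
    rw [hcom, map_commutatorElement]
    exact Subgroup.commutator_mem_commutator (Subgroup.mem_top _) (Subgroup.mem_top _)
  rw [CfsgLib.Conjugacy.inf_commutator_eq_of_ok (hOk _) T₁] at hmem
  have hNN : N.map π = Subgroup.normalizer ((W₁ : Subgroup (G ⧸ Ub)) : Set (G ⧸ Ub)) := by
    rw [hN, hV, relW_eq_comap W hW2 T hUbp,
      ← Subgroup.comap_normalizer_eq_of_surjective _ hπ,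
      Subgroup.map_comap_eq_self_of_surjective hπ]
    rfl
  have h2 : π (ι (a⁻¹ * b)) ∈ ⁅N, N⁆.map π := by
    rw [Subgroup.map_commutator, hNN]
    exact hmem.2
  obtain ⟨c, hc, hce⟩ := h2
  have hu : c⁻¹ * ι (a⁻¹ * b) ∈ Ub := QuotientGroup.eq.1 hce
  have hcN : c ∈ N := Subgroup.commutator_le_self _ hc
  have hcT : c ∈ (T : Subgroup G) := by
    have h3 := (T : Subgroup G).mul_mem (hTι.ge ⟨_, rfl⟩ : ι (a⁻¹ * b) ∈ _)
      ((T : Subgroup G).inv_mem (hUT hu))
    convert h3 using 1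
    group
  have hcfoc : (⟨c, hcN⟩ : N) ∈ ((T.subtype hTN : Sylow p N) : Subgroup N).focalSubgroup := by
    rw [← Subgroup.commutator_inf_eq_focalSubgroup]
    refine ⟨?_, hcT⟩
    rw [← Subgroup.map_subtype_commutator] at hc
    obtain ⟨c', hc', rfl⟩ := hc
    exact hc'
  have hUM' : Ub ≤ M' := Subgroup.map_mono (Subgroup.comap_mono hUM)
  have h4 := M'.mul_mem (hfoc ⟨_, hcfoc, rfl⟩) (hUM' hu)
  rw [show N.subtype (⟨c, hcN⟩ : N) * (c⁻¹ * ι (a⁻¹ * b)) = ι (a⁻¹ * b) from
    mul_inv_cancel_left c _] at h4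
  obtain ⟨m, hm, hme⟩ := h4
  rw [hinj hme] at hm
  exact hm

include hW1

/-- What the maps stabilising the relative functor move, all maps move. -/
theorem moves_of_functor : ∀ (n : ℕ) (Ω : Type u) [Group Ω] (S : Subgroup Ω) [Finite S]
    (F : FusionSystem S) (U : Subgroup Ω), (mapGraphs F).ncard + (Nat.card S - Nat.card U) = n →
    IsPGroup p S → F.IsSaturated p → F.IsCentral U → ∀ M : Subgroup Ω, U ≤ M →
    (∀ P f, IsMap F P f → relW W U S ≤ P →
      f '' (relW W U S : Set Ω) = relW W U S → ∀ x ∈ P, x⁻¹ * f x ∈ M) →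
    ∀ (P : Subgroup Ω) (f : Ω → Ω), IsMap F P f → ∀ x ∈ P, x⁻¹ * f x ∈ M := by
  intro n
  induction n using Nat.strong_induction_on with
  | _ n ihn =>
  intro Ω _ S _ F U hn hS hF hU M hUM hfix
  have hUc := isCentral_iff.1 hU
  have hUS : U ≤ S := hUc.1
  have hUfix : ∀ {A : Subgroup Ω} {g : Ω → Ω}, IsMap F A g → ∀ y ∈ U, y ∈ A → g y = y := by
    intro A g hg y hy hyA
    obtain ⟨k, -, hag, hk⟩ := hUc.2 A g hg
    rw [← hag y hyA, hk y hy]
  have hUn : F.IsNormal U := isNormal_iff.2 ⟨hUS, fun A g hg => by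
    obtain ⟨k, hkm, hag, hk⟩ := hUc.2 A g hg
    exact ⟨k, hkm, hag, by rw [Set.image_congr hk, Set.image_id']⟩⟩
  by_cases hcon : F.IsConstrained p
  · obtain ⟨G, _, ι, hG⟩ := exists_model hS hcon
    have : Finite G := hG.1
    exact moves_of_model W hW2 hOk hS hG hUn hUM hfix
  have hnc : ∀ R : Subgroup Ω, F.IsNormal R → ¬ centralizerIn S R ≤ R := fun R hR hCR =>
    hcon ⟨hF, R, hR, isCentric_of_fullyCentralized hS hF
      (isFullyCentralized_of_isFullyNormalized hS hF ⟨hR.1, fun R' _ => by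
        rw [show normalizerIn S R = S from inf_eq_left.2 (le_normalizer_of_isNormal hR)]
        exact Subgroup.card_le_of_le inf_le_left⟩) hCR⟩
  set X := relW W U S with hX
  have hXS : X ≤ S := relW_le W U S
  have hXn : S ≤ Subgroup.normalizer (X : Set Ω) := fun s hs =>
    normalizer_le_relW W hW2 (S := S) le_rfl hS (Subgroup.le_normalizer hs)
      (le_normalizer_of_isNormal hUn hs)
  have hder : ∀ x ∈ S, ∀ s ∈ S, x⁻¹ * (s * x * s⁻¹) ∈ M := fun x hx s hs =>
    hfix S _ (isMap_conj (F := F) le_rfl hs) hXS (image_eq_of_mem hXS (isMap_conj (F := F) le_rfl hs) hXS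
      fun y hy => conj_mem_of_mem_normalizer (hXn hs) hy) x hx
  have hderS : ⁅S, S⁆ ≤ M := Subgroup.commutator_le.2 fun a ha b hb => by
    have := hder a⁻¹ (S.inv_mem ha) b hb
    rw [commutatorElement_def]
    simpa [mul_assoc] using this
  -- normalizer systems of non-normal subgroups
  have hnorm : ∀ V : Subgroup Ω, F.IsFullyNormalized V → ¬ F.IsNormal V → U ≤ normalizerIn S V →
      (∀ B b, IsMap F B b → B ≤ normalizerIn S V → (∀ y ∈ B, b y ∈ normalizerIn S V) →
        relW W U (normalizerIn S V) ≤ B →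
        b '' (relW W U (normalizerIn S V) : Set Ω) = relW W U (normalizerIn S V) →
          ∀ x ∈ B, x⁻¹ * b x ∈ M) →
      ∀ A g, IsMap F A g → V ≤ A → A ≤ normalizerIn S V → g '' (V : Set Ω) = V →
        ∀ x ∈ A, x⁻¹ * g x ∈ M := by
    intro V hV hVn hUV hh A g hg hVA hA hgV
    have := finite_of_le (S := S) (P := normalizerIn S V) inf_le_left
    obtain ⟨E, hE⟩ : ∃ E, F.IsNormalizerSystem V E := ⟨normalizerSystem F V hV.1, fun _ => rfl⟩
    have hsub : ∀ P f, IsMap E P f → IsMap F P f := fun P f hm => by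
      obtain ⟨-, -, g, hg, hgf, -⟩ := (isMap_normalizerSystem_iff hE).1 hm
      exact (hg.mono le_sup_left).congr hgf
    have hlt : (mapGraphs E).ncard < (mapGraphs F).ncard := by
      refine ncard_mapGraphs_lt hsub ?_
      by_contra hc
      push Not at hc
      refine hVn (isNormal_iff.2 ⟨hV.1, fun P f hm => ?_⟩)
      obtain ⟨-, -, g, hg, hgf, hgU⟩ := (isMap_normalizerSystem_iff hE).1 (hc P f hm)
      exact ⟨g, hg, hgf, hgU⟩
    have hEU : E.IsCentral U := by
      refine isCentral_iff.2 ⟨hUV, fun P f hm => ?_⟩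
      obtain ⟨hP, hfT, g₁, hg₁, hgf, hgV'⟩ := (isMap_normalizerSystem_iff hE).1 hm
      obtain ⟨g₂, hg₂, hg21, hgU⟩ := hUc.2 _ g₁ hg₁
      have hgV2 : g₂ '' (V : Set Ω) = V := by
        rw [Set.image_congr fun x hx => hg21 x (Subgroup.mem_sup_right hx)]; exact hgV'
      have hle : P ⊔ U ≤ P ⊔ V ⊔ U := sup_le_sup_right le_sup_left _
      refine ⟨g₂, (isMap_normalizerSystem_iff hE).2 ⟨sup_le hP hUV, fun x hx => ?_, g₂,
        hg₂.mono (sup_le hle (le_sup_right.trans le_sup_left)), fun _ _ => rfl, hgV2⟩,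
        fun x hx => by rw [hg21 x (Subgroup.mem_sup_left hx), hgf x hx], hgU⟩
      exact hg₂.mem_normalizerIn (le_sup_right.trans le_sup_left)
        ⟨hg₂.mono (le_sup_right.trans le_sup_left), hgV2⟩ (hle hx)
        ((sup_le hP hUV : P ⊔ U ≤ _) hx).2
    have hcard : Nat.card (normalizerIn S V) ≤ Nat.card S := Subgroup.card_le_of_le inf_le_left
    refine ihn _ (by omega) Ω _ E U rfl (hS.to_le inf_le_left)
      (isSaturated_normalizerSystem hS hF hV hE) hEU M hUM
      (fun B b hm hle him => hh B b (hsub _ _ hm) hm.le (fun y hy => hm.mem hy) hle him) A g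
      ((isMap_normalizerSystem_iff hE).2 ⟨hA, fun x hx => ?_, g, ?_, fun _ _ => rfl, hgV⟩)
    · exact hg.mem_normalizerIn hVA ⟨hg.mono hVA, hgV⟩ hx (hA hx).2
    · rwa [sup_eq_left.2 hVA]
  have hnormS : ∀ V : Subgroup Ω, F.IsFullyNormalized V → ¬ F.IsNormal V →
      normalizerIn S V = S →
      ∀ A g, IsMap F A g → V ≤ A → g '' (V : Set Ω) = V → ∀ x ∈ A, x⁻¹ * g x ∈ M := by
    intro V hV hVn hVS A g hg hVA hgV
    refine hnorm V hV hVn (hVS.symm ▸ hUS) (fun B b hb _ _ hle him => ?_) A g hg hVA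
      (hVS.symm ▸ hg.le) hgV
    rw [hVS] at hle him
    exact hfix B b hb hle him
  set Q := F.core with hQ
  have hQn : F.IsNormal Q := isNormal_core F
  have hQS : Q ≤ S := hQn.1
  have hUQ : U ≤ Q := le_sSup hUn
  let E₀ := movesSystem F M hder
  suffices hall : ∀ P f, IsMap F P f → IsMap E₀ P f from
    fun P f hf => (isMap_movesSystem_iff.1 (hall P f hf)).2
  refine le_of_autGroup_le_step hS hF fun R hR hbig α hα => ?_
  have hRS : R ≤ S := by
    rcases hR with rfl | h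
    exacts [le_rfl, h.1.1]
  have hαi := (mem_autGroup_iff hRS α).1 hα
  have hbigM : ∀ (A : Subgroup Ω) (g : Ω → Ω), Nat.card R < Nat.card A → IsMap F A g → ∀ x ∈ A, x⁻¹ * g x ∈ M :=
    fun A g h hg => (isMap_movesSystem_iff.1 (hbig A g h hg)).2
  suffices hmv : ∀ x ∈ R, x⁻¹ * autFun α x ∈ M from
    (mem_autGroup_iff hRS α).2 ⟨isMap_movesSystem_iff.2 ⟨hαi.isMap, hmv⟩, hαi.image_eq⟩
  by_cases hReq : R = S
  · subst hReq
    exact hfix R _ hαi.isMap hXS (image_relW W hW2 hS le_rfl hUS hαi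
      (by rw [Set.image_congr fun y hy => hUfix hαi.isMap y hy (hUS hy), Set.image_id']))
  have hess : F.IsEssential p R := hR.resolve_left hReq
  have hRc := hess.1
  have hQR : Q ≤ R := le_of_isNormal hS hQn hRc (isRadical_of_isEssential hS hess)
  have hRfn := hess.2.1
  rcases eq_or_ne Q U with hQU | hQU
  · -- no normal subgroup above `U`: climb through fully normalized subgroups
    have hnn : ∀ V : Subgroup Ω, U ≤ V → V ≠ U → ¬ F.IsNormal V := fun V hUV hne hVn =>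
      hne (le_antisymm ((le_sSup hVn : V ≤ Q).trans hQU.le) hUV)
    have hclimb : ∀ (k : ℕ) (V : Subgroup Ω), Nat.card S - Nat.card (normalizerIn S V) = k →
        F.IsFullyNormalized V → U ≤ V → ¬ F.IsNormal V →
        Nat.card R < Nat.card (normalizerIn S V) →
        ∀ A g, IsMap F A g → V ≤ A → A ≤ normalizerIn S V → g '' (V : Set Ω) = V →
          ∀ x ∈ A, x⁻¹ * g x ∈ M := by
      intro k
      induction k using Nat.strong_induction_on with
      | _ k ihk =>
      intro V hk hV hUV hVn hlt A g hg hVA hA hgV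
      have hUT : U ≤ normalizerIn S V := hUV.trans (le_normalizerIn hV.1)
      set T := normalizerIn S V with hT
      rcases eq_or_ne T S with hTS | hTS
      · exact hnormS V hV hVn hTS A g hg hVA hgV
      refine hnorm V hV hVn hUT ?_ A g hg hVA hA hgV
      intro B b hb hBT hbT hle him x hx
      have hTle : T ≤ S := inf_le_left
      have hTp : IsPGroup p T := hS.to_le hTle
      have := finite_of_le hTle
      set X₁ := relW W U T with hX₁
      have hX₁S : X₁ ≤ S := (relW_le W U T).trans hTle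
      have hUX₁ : U ≤ X₁ := le_relW W hUT
      have hUneT : U ≠ T := fun h => hVn <| by
        rw [show V = U from le_antisymm ((le_normalizerIn hV.1).trans h.ge) hUV]
        exact hUn
      have hX₁n : ¬ F.IsNormal X₁ := hnn X₁ hUX₁ (relW_ne W hW1 hTp hUT
        (fun s hs => le_normalizer_of_isNormal hUn (hTle hs)) hUneT)
      have hTN : T ≤ normalizerIn S X₁ := fun s hs => ⟨hTle hs,
        normalizer_le_relW W hW2 hTle hTp (Subgroup.le_normalizer hs)
          (le_normalizer_of_isNormal hUn (hTle hs))⟩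
      have hlt2 : Nat.card T < Nat.card (normalizerIn S X₁) := by
        have h2 : normalizerIn S T ≤ normalizerIn S X₁ := fun s hs => ⟨hs.1,
          normalizer_le_relW W hW2 hTle hTp hs.2 (le_normalizer_of_isNormal hUn hs.1)⟩
        have := finite_of_le (S := S) (P := normalizerIn S X₁) inf_le_left
        exact Set.Finite.card_lt_card (Set.toFinite _) (SetLike.coe_ssubset_coe.2
          ((lt_normalizerIn hS hTle hTS).trans_le h2))
      have := finite_of_le hX₁S
      obtain ⟨V₂, hconjV, hV₂⟩ := exists_isFullyNormalized (F := F) hX₁S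
      obtain ⟨c, hc, hci, hcN, -⟩ := exists_map_normalizerIn hS
        (isFullyAutomized_of_isFullyNormalized hS hF hV₂)
        (isReceptive_of_isFullyNormalized hS hF hV₂) hconjV
      have hUV₂ : U ≤ V₂ := fun y hy => by
        rw [← hUfix hci.isMap y hy (hUX₁ hy)]
        exact hci.mem (hUX₁ hy)
      have hV₂n : ¬ F.IsNormal V₂ := by
        refine hnn V₂ hUV₂ fun h => hX₁n ?_
        rw [show X₁ = U from (Subgroup.eq_of_le_of_card_ge hUX₁ (by
          rw [← hci.card_eq, h])).symm]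
        exact hUn
      obtain ⟨B₂, hB₂⟩ := (hc.mono (hBT.trans hTN)).exists_iso
      obtain ⟨c', hc', hc'1, -⟩ := hB₂.exists_symm
      have hcb : IsMap F B₂ (c ∘ b ∘ c') :=
        ((hc'.isMap.comp hb fun y hy => hc'.mem hy).comp hc fun y hy => hTN (hbT _ (hc'.mem hy)))
      have himg : (c ∘ b ∘ c') '' (V₂ : Set Ω) = V₂ := by
        rw [← hci.image_eq, Set.image_image]
        have : (fun y => (c ∘ b ∘ c') (c y)) '' (X₁ : Set Ω) = c '' (b '' (X₁ : Set Ω)) := by
          rw [Set.image_image]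
          exact Set.image_congr fun y hy => by
            show c (b (c' (c y))) = c (b y)
            rw [hc'1 y (hle hy)]
        rw [this, him]
      have hB₂N : B₂ ≤ normalizerIn S V₂ := fun y hy => by
        obtain ⟨z, hz, rfl⟩ := hB₂.surj hy
        exact hcN z (hTN (hBT hz))
      have hV₂B : V₂ ≤ B₂ := fun y hy => by
        obtain ⟨z, hz, rfl⟩ := hci.surj hy
        exact hB₂.mem (hle hz)
      have hcard : Nat.card (normalizerIn S X₁) ≤ Nat.card (normalizerIn S V₂) :=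
        hV₂.2 X₁ (isConj_symm hconjV)
      have hcle : Nat.card (normalizerIn S V₂) ≤ Nat.card S := Subgroup.card_le_of_le inf_le_left
      have h1 := ihk _ (by omega) V₂ rfl hV₂ hUV₂ hV₂n (by omega) B₂ _ hcb hV₂B hB₂N himg
        (c x) (hB₂.mem hx)
      have h1' : (c x)⁻¹ * c (b x) ∈ M := by
        have e : (c ∘ b ∘ c') (c x) = c (b x) := by
          show c (b (c' (c x))) = c (b x)
          rw [hc'1 x hx]
        rwa [e] at h1
      have h2 := hbigM _ c (by omega) hc x (hTN (hBT hx))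
      have h3 := hbigM _ c (by omega) hc (b x) (hTN (hbT x hx))
      simpa [mul_assoc] using M.mul_mem (M.mul_mem h2 h1') (M.inv_mem h3)
    intro x hx
    have hUR : U ≤ R := hUQ.trans hQR
    have hRn : ¬ F.IsNormal R := fun h => hcon ⟨hF, R, h, hRc⟩
    have hlt : Nat.card R < Nat.card (normalizerIn S R) := by
      have := finite_of_le (S := S) (P := normalizerIn S R) inf_le_left
      exact Set.Finite.card_lt_card (Set.toFinite _) (SetLike.coe_ssubset_coe.2
        (lt_normalizerIn hS hRS hReq))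
    exact hclimb _ R rfl hRfn hUR hRn hlt R _ hαi.isMap le_rfl (le_normalizerIn hRS)
      hαi.image_eq x hx
  -- a normal subgroup `Q` above `U`
  set C := centralizerIn S Q with hC
  have hCS : C ≤ S := inf_le_left
  have hCn : S ≤ Subgroup.normalizer (C : Set Ω) := fun s hs => by
    refine mem_normalizer_of_conj_mem hCS fun y hy => ⟨S.mul_mem (S.mul_mem hs hy.1)
      (S.inv_mem hs), mem_centralizer_of_conj_eq fun w hw => ?_⟩
    have hw' := conj_mem_of_mem_normalizer (le_normalizer_of_isNormal hQn (S.inv_mem hs)) hw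
    have e := conj_eq_self_of_mem_centralizer hy.2 hw'
    calc s * y * s⁻¹ * w * (s * y * s⁻¹)⁻¹ = s * (y * (s⁻¹ * w * s⁻¹⁻¹) * y⁻¹) * s⁻¹ := by group
      _ = w := by rw [e]; group
  have hQnor := le_normalizer_of_isNormal hQn
  -- maps stabilising `Q C_S(Q)`
  set R₀ := Q ⊔ C with hR₀
  have hR₀S : R₀ ≤ S := sup_le hQS hCS
  have hsupn : ∀ Y : Subgroup Ω, Y ≤ S → S ≤ Subgroup.normalizer (Y : Set Ω) →
      normalizerIn S (Q ⊔ Y) = S := fun Y hY hYn => inf_eq_left.2 fun s hs => by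
    refine mem_normalizer_of_conj_mem (sup_le hQS hY) fun y hy => ?_
    have hle : (Q ⊔ Y).map (MulAut.conj s).toMonoidHom ≤ Q ⊔ Y := by
      rw [Subgroup.map_sup]
      refine sup_le_sup ?_ ?_
      · rintro _ ⟨z, hz, rfl⟩; exact conj_mem_of_mem_normalizer (hQnor hs) hz
      · rintro _ ⟨z, hz, rfl⟩; exact conj_mem_of_mem_normalizer (hYn hs) hz
    exact hle ⟨y, hy, rfl⟩
  have hfnS : ∀ Y : Subgroup Ω, Y ≤ S → normalizerIn S Y = S → F.IsFullyNormalized Y :=
    fun Y hY h => ⟨hY, fun R' _ => by rw [h]; exact Subgroup.card_le_of_le inf_le_left⟩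
  have hnotnormal : ∀ Y : Subgroup Ω, ¬ Y ≤ Q → ¬ F.IsNormal (Q ⊔ Y) := fun Y hY h =>
    hY (le_sup_right.trans (le_sSup h : Q ⊔ Y ≤ Q))
  have hCQ : ¬ C ≤ Q := hnc Q hQn
  have hR₀maps : ∀ (A : Subgroup Ω) (g : Ω → Ω), IsMap F A g → R₀ ≤ A → g '' (R₀ : Set Ω) = R₀ →
      ∀ x ∈ A, x⁻¹ * g x ∈ M :=
    hnormS R₀ (hfnS R₀ hR₀S (hsupn C hCS hCn)) (hnotnormal C hCQ) (hsupn C hCS hCn)
  -- maps fixing `Q`
  have hCmaps : ∀ (A : Subgroup Ω) (g : Ω → Ω), IsMap F (A ⊔ Q) g → A ≤ C → (∀ y ∈ A, g y ∈ C) →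
      (∀ y ∈ Q, g y = y) → ∀ x ∈ A, x⁻¹ * g x ∈ M := by
    have hQfc : F.IsFullyCentralized Q :=
      isFullyCentralized_of_isFullyNormalized hS hF (hfnS Q hQS (inf_eq_left.2 hQnor))
    obtain ⟨E, hE⟩ : ∃ E, F.IsCentralizerSystem Q E :=
      ⟨centralizerSystem F Q hQS, fun _ => rfl⟩
    have := finite_of_le hCS
    have hCp : IsPGroup p C := hS.to_le hCS
    have hEs : E.IsSaturated p := isSaturated_centralizerSystem hS hF hQfc hE
    have hsub : ∀ P f, IsMap E P f → IsMap F P f := fun P f hm => by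
      obtain ⟨-, -, g, hg, hgf, -⟩ := (isMap_centralizerSystem_iff hE).1 hm
      exact (hg.mono le_sup_left).congr hgf
    set Z := Q ⊓ C with hZ
    have hEZ : E.IsCentral Z := by
      refine isCentral_iff.2 ⟨inf_le_right, fun P f hm => ?_⟩
      obtain ⟨hP, hfC, g, hg, hgf, hgQ⟩ := (isMap_centralizerSystem_iff hE).1 hm
      refine ⟨g, (isMap_centralizerSystem_iff hE).2 ⟨sup_le hP inf_le_right, fun y hy => ?_, g,
        hg.mono (sup_le (sup_le le_sup_left (inf_le_left.trans le_sup_right)) le_sup_right),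
        fun _ _ => rfl, hgQ⟩, hgf, fun y hy => hgQ y hy.1⟩
      exact hg.mem_centralizerIn le_sup_right
        ⟨hg.mono le_sup_right, by rw [Set.image_congr hgQ, Set.image_id']⟩
        ((sup_le_sup_left (inf_le_left : Z ≤ Q) P) hy)
        ((sup_le hP inf_le_right : P ⊔ Z ≤ C) hy).2
    have hUC : U ≤ C := fun y hy => ⟨hUS hy, mem_centralizer_of_conj_eq fun w hw => by
      have h1 := hUfix (isMap_conj (F := F) le_rfl (hQS hw)) y hy (hUS hy)
      rw [mul_inv_eq_iff_eq_mul] at h1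
      rw [← h1, mul_inv_cancel_right]⟩
    have hUZ : U ≤ Z := le_inf hUQ hUC
    set MC := (M ⊓ E.focalSubgroup) ⊔ Z with hMC
    set XC := relW W Z C with hXC
    have hXCC : XC ≤ C := relW_le W Z C
    have hZn : S ≤ Subgroup.normalizer (Z : Set Ω) := fun s hs =>
      mem_normalizer_of_conj_mem (inf_le_left.trans hQS) fun y hy =>
        ⟨conj_mem_of_mem_normalizer (hQnor hs) hy.1, conj_mem_of_mem_normalizer (hCn hs) hy.2⟩
    have hZC : Z ≠ C := fun h => hCQ (h.ge.trans inf_le_left)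
    have hXCQ : ¬ XC ≤ Q := fun h =>
      relW_ne W hW1 hCp (inf_le_right : Z ≤ C) (fun s hs => hZn (hCS hs)) hZC
        (le_antisymm (le_inf h hXCC) (le_relW W inf_le_right))
    have hXCn : S ≤ Subgroup.normalizer (XC : Set Ω) := fun s hs =>
      normalizer_le_relW W hW2 (S := S) hCS hCp (hCn hs) (hZn hs)
    have hlt : (mapGraphs E).ncard + (Nat.card C - Nat.card Z) < n := by
      have h1 : (mapGraphs E).ncard ≤ (mapGraphs F).ncard := by
        refine Set.ncard_le_ncard ?_ (finite_mapGraphs F)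
        rintro _ ⟨P, φ, hφ, rfl⟩
        obtain ⟨ψ, hψ, hv⟩ := hsub P _ (isMap_homFun hφ)
        refine ⟨P, ψ, hψ, ?_⟩
        congr 1
        funext x
        rw [hv, homFun_coe]
      have h2 : Nat.card U ≤ Nat.card Z := by
        have := finite_of_le (inf_le_left.trans hQS : Z ≤ S)
        exact Subgroup.card_le_of_le hUZ
      have h3 : Nat.card C ≤ Nat.card S := Subgroup.card_le_of_le hCS
      have h4 : Nat.card Z < Nat.card C :=
        Set.Finite.card_lt_card (Set.toFinite _) (SetLike.coe_ssubset_coe.2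
          (lt_of_le_of_ne inf_le_right hZC))
      rcases lt_or_eq_of_le h3 with h | h
      · omega
      · have hCe : C = S := Subgroup.eq_of_le_of_card_ge hCS h.ge
        have : Nat.card U < Nat.card Z := by
          have hZQ : Z = Q := inf_eq_left.2 (hQS.trans hCe.ge)
          rw [hZQ]
          have := finite_of_le hQS
          exact Set.Finite.card_lt_card (Set.toFinite _) (SetLike.coe_ssubset_coe.2
            (lt_of_le_of_ne hUQ (Ne.symm hQU)))
        omega
    have hfC : ∀ P f, IsMap E P f → XC ≤ P → f '' (XC : Set Ω) = XC →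
        ∀ y ∈ P, y⁻¹ * f y ∈ MC := by
      intro P f hm hle him y hy
      refine Subgroup.mem_sup_left ⟨?_, inv_mul_mem_focal hm hy⟩
      obtain ⟨hP, -, g, hg, hgf, hgQ⟩ := (isMap_centralizerSystem_iff hE).1 hm
      rw [← hgf y hy]
      refine hnormS (Q ⊔ XC) (hfnS _ (sup_le hQS (hXCC.trans hCS))
        (hsupn XC (hXCC.trans hCS) hXCn)) (hnotnormal XC hXCQ)
        (hsupn XC (hXCC.trans hCS) hXCn) (P ⊔ Q) g hg
        (sup_le le_sup_right (hle.trans le_sup_left)) ?_ y (Subgroup.mem_sup_left hy)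
      refine image_eq_of_mem (sup_le hQS (hXCC.trans hCS)) hg
        (sup_le le_sup_right (hle.trans le_sup_left)) fun z hz => ?_
      obtain ⟨φ, -, hv⟩ := id hg
      have hle' : ((Q ⊔ XC).subgroupOf (P ⊔ Q)).map φ ≤ Q ⊔ XC := by
        rw [Subgroup.subgroupOf_sup le_sup_right (hle.trans le_sup_left), Subgroup.map_sup]
        refine sup_le ?_ ?_
        · rintro _ ⟨w, hw, rfl⟩
          rw [hv, hgQ (w : Ω) hw]
          exact Subgroup.mem_sup_left hw
        · rintro _ ⟨w, hw, rfl⟩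
          rw [hv, hgf (w : Ω) (hle hw)]
          exact Subgroup.mem_sup_right (him.le ⟨_, hw, rfl⟩)
      have := hle' ⟨⟨z, (sup_le le_sup_right (hle.trans le_sup_left) : Q ⊔ XC ≤ P ⊔ Q) hz⟩,
        hz, rfl⟩
      rwa [hv] at this
    have hEall := ihn _ hlt Ω C E Z rfl hCp hEs hEZ MC le_sup_right hfC
    intro A g hg hAC hgC hgQ x hx
    have hgE : IsMap E A g := (isMap_centralizerSystem_iff hE).2
      ⟨hAC, hgC, g, hg, fun _ _ => rfl, hgQ⟩
    have h1 := hEall A g hgE x hx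
    have hZc : (M ⊓ E.focalSubgroup : Subgroup Ω) ≤ Subgroup.normalizer (Z : Set Ω) :=
      fun s hs => hZn (hCS (focal_le hs.2))
    rw [← SetLike.mem_coe, hMC, Subgroup.coe_mul_of_left_le_normalizer_right _ _ hZc] at h1
    obtain ⟨m, hm, z, hz, hmz⟩ := h1
    rw [← hmz]
    refine M.mul_mem hm.1 (hderS ?_)
    refine Subgroup.commutator_mono hCS hCS
      (mem_commutator_of_fixed_mem_focal hCp hEs hz.2 (fun w hw R' f' hf' hwR => ?_) ?_)
    · have hwZ : w ∈ Z := Subgroup.zpowers_le.2 hz hw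
      obtain ⟨k, -, hag, hk⟩ := (isCentral_iff.1 hEZ).2 R' f' hf'
      rw [← hag w hwR, hk w hwZ]
    · have h5 := E.focalSubgroup.mul_mem (E.focalSubgroup.inv_mem hm.2)
        (inv_mul_mem_focal hgE hx)
      rwa [← hmz, inv_mul_cancel_left] at h5
  -- the automizer of `R`
  have hRfin := finite_of_le hRS
  have := finite_mulAut R
  set A := F.autGroup R with hA
  let Mv : Subgroup A :=
    { carrier := {β | ∀ u : R, (u : Ω)⁻¹ * ((β : MulAut R) u : Ω) ∈ M}
      one_mem' := fun u => by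
        show (u : Ω)⁻¹ * (u : Ω) ∈ M
        rw [inv_mul_cancel]; exact M.one_mem
      mul_mem' := fun {β γ} hβ hγ u => by
        have := M.mul_mem (hγ u) (hβ ((γ : MulAut R) u))
        show (u : Ω)⁻¹ * ((β : MulAut R) ((γ : MulAut R) u) : Ω) ∈ M
        simpa [mul_assoc] using this
      inv_mem' := fun {β} hβ u => by
        have := M.inv_mem (hβ ((β : MulAut R)⁻¹ u))
        rw [MulAut.apply_inv_self] at this
        show (u : Ω)⁻¹ * ((β : MulAut R)⁻¹ u : Ω) ∈ M
        simpa [mul_inv_rev] using this }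
  suffices htop : Mv = ⊤ by
    intro x hx
    have := (htop.ge (Subgroup.mem_top (⟨α, hα⟩ : A))) ⟨x, hx⟩
    rw [autFun_apply α hx]
    exact this
  let K : Subgroup A :=
    { carrier := {β | ∀ q : R, (q : Ω) ∈ Q → (β : MulAut R) q = q}
      one_mem' := fun q _ => rfl
      mul_mem' := fun {β γ} hβ hγ q hq => by
        show (β : MulAut R) ((γ : MulAut R) q) = q
        rw [hγ q hq, hβ q hq]
      inv_mem' := fun {β} hβ q hq => by
        show (β : MulAut R)⁻¹ q = q
        conv_lhs => rw [← hβ q hq]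
        exact MulAut.inv_apply_self _ _ _ }
  haveI hKn : K.Normal := ⟨fun β hβ δ q hq => by
    have h1 : (((δ : MulAut R)⁻¹ q : R) : Ω) ∈ Q := by
      rw [← autFun_coe (δ : MulAut R)⁻¹]
      exact isMap_mem_of_stronglyClosed (stronglyClosed_of_isNormal hQn)
        ((mem_autGroup_iff hRS _).1 (A.inv_mem δ.2)).isMap q.2 hq
    show (δ : MulAut R) ((β : MulAut R) ((δ : MulAut R)⁻¹ q)) = q
    rw [hβ _ h1, MulAut.apply_inv_self]⟩
  obtain ⟨T, hT⟩ := (isFullyAutomized_of_isFullyNormalized hS hF hRfn).2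
  have hTmem : ∀ β : A, β ∈ (T : Subgroup A) ↔
      ∃ s ∈ S, ∀ u : R, ((β : MulAut R) u : Ω) = s * u * s⁻¹ := fun β => by
    rw [hT]
    exact mem_autInducedBy_iff S R _
  -- the Sylow subgroup `T ⊓ K` of `K`
  obtain ⟨P₀, hP₀⟩ : ∃ P₀ : Sylow p K, (T : Subgroup A).subgroupOf K ≤ (P₀ : Subgroup K) :=
    (T.isPGroup'.comap_of_injective K.subtype K.subtype_injective).exists_le_sylow
  have hPT : (P₀ : Subgroup K).map K.subtype = (T : Subgroup A) ⊓ K := by
    have hle : (T : Subgroup A) ⊓ K ≤ (P₀ : Subgroup K).map K.subtype := fun y hy =>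
      ⟨⟨y, hy.2⟩, hP₀ hy.1, rfl⟩
    refine (Subgroup.eq_of_le_of_card_ge hle ?_).symm
    obtain ⟨T', hT'⟩ := (P₀.isPGroup'.map K.subtype).exists_le_sylow
    obtain ⟨δ, hδ⟩ := MulAction.exists_smul_eq A T' T
    refine Nat.card_le_card_of_injective
      (fun y => (⟨δ * y.1 * δ⁻¹, ?_, hKn.conj_mem _ ?_ δ⟩ : ↥((T : Subgroup A) ⊓ K)))
      fun y z e => Subtype.ext (by
        have := congrArg (fun w : ↥((T : Subgroup A) ⊓ K) => (w : A)) e
        simpa using this)
    · show δ * y.1 * δ⁻¹ ∈ (T : Subgroup A)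
      rw [← hδ, Sylow.coe_subgroup_smul]
      exact ⟨y.1, hT' y.2, rfl⟩
    · obtain ⟨k, -, hk⟩ := y.2
      exact hk ▸ k.2
  have hsplit : ∀ β ∈ K, β ∈ Mv := by
    intro β hβ
    haveI := CfsgLib.Transfer.pResidual_normal p K
    have hres : Cfsg.pResidual p K ≤ Mv.subgroupOf K := by
      refine (Subgroup.closure_le _).2 fun γ hγ u => ?_
      let g := ((γ : A) : MulAut R)
      have hgi := (mem_autGroup_iff hRS g).1 (γ : A).2
      have hgC : ∀ v : R, (v : Ω)⁻¹ * (g v : Ω) ∈ C := by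
        intro v
        refine ⟨S.mul_mem (S.inv_mem (hRS v.2)) (hRS (g v).2),
          mem_centralizer_of_conj_eq fun q hq => ?_⟩
        have hvq : (v : Ω) * q * (v : Ω)⁻¹ ∈ Q := conj_mem_of_mem_normalizer (hQnor (hRS v.2)) hq
        have h1 := γ.2 (v * ⟨q, hQR hq⟩ * v⁻¹) hvq
        rw [map_mul, map_mul, map_inv, γ.2 ⟨q, hQR hq⟩ hq] at h1
        have h2 : (g v : Ω) * q * (g v : Ω)⁻¹ = (v : Ω) * q * (v : Ω)⁻¹ :=
          congrArg (fun w : R => (w : Ω)) h1
        calc (v : Ω)⁻¹ * (g v : Ω) * q * ((v : Ω)⁻¹ * (g v : Ω))⁻¹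
            = (v : Ω)⁻¹ * ((g v : Ω) * q * (g v : Ω)⁻¹) * v := by group
          _ = q := by rw [h2]; group
      have hgCmem : ∀ y ∈ R ⊓ C, autFun g y ∈ C := by
        intro y hy
        rw [autFun_apply g hy.1]
        have := C.mul_mem hy.2 (hgC ⟨y, hy.1⟩)
        rwa [mul_inv_cancel_left] at this
      have hmoveC : ∀ y ∈ R ⊓ C, y⁻¹ * autFun g y ∈ M :=
        hCmaps (R ⊓ C) (autFun g) (hgi.isMap.mono (sup_le inf_le_left hQR)) inf_le_right hgCmem
          fun y hy => by rw [autFun_apply g (hQR hy), γ.2 ⟨y, hQR hy⟩ hy]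
      haveI hMn : (M.subgroupOf S).Normal := ⟨fun m hm s => by
        have h1 : (s : Ω) * m * (s : Ω)⁻¹ ∈ M := by
          have := M.mul_mem (show (m : Ω) ∈ M from hm) (hder m m.2 s s.2)
          rwa [mul_inv_cancel_left] at this
        exact h1⟩
      let ρ : R →* S ⧸ M.subgroupOf S := (QuotientGroup.mk' _).comp (Subgroup.inclusion hRS)
      have hρ : ∀ v v' : R, (v : Ω)⁻¹ * (v' : Ω) ∈ M → ρ v = ρ v' := fun v v' h =>
        QuotientGroup.eq.2 h
      have hfixρ : ∀ v : R, ρ (g (v⁻¹ * g v)) = ρ (v⁻¹ * g v) := fun v => by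
        refine (hρ _ _ ?_).symm
        have hmem : ((v⁻¹ * g v : R) : Ω) ∈ R ⊓ C := ⟨SetLike.coe_mem _, hgC v⟩
        have h1 := hmoveC _ hmem
        rwa [autFun_coe] at h1
      have hit : ∀ k : ℕ, ρ ((g ^ k) u) = ρ u * ρ (u⁻¹ * g u) ^ k := by
        intro k
        induction k with
        | zero => simp
        | succ k ih =>
          have hc : ρ (((g ^ k) u)⁻¹ * g ((g ^ k) u)) = ρ (u⁻¹ * g u) := by
            clear ih
            induction k with
            | zero => simp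
            | succ k ih' =>
              rw [← ih', ← hfixρ ((g ^ k) u), map_mul g, map_inv g, pow_succ', MulAut.mul_apply]
          have e : ρ ((g ^ (k + 1)) u) = ρ ((g ^ k) u) * ρ (((g ^ k) u)⁻¹ * g ((g ^ k) u)) := by
            rw [← map_mul, mul_inv_cancel_left, pow_succ', MulAut.mul_apply]
          rw [e, hc, ih, pow_succ, mul_assoc]
      have hord : g ^ orderOf γ = 1 := by
        show ((γ : A) : MulAut R) ^ orderOf γ = 1
        rw [← Subgroup.coe_pow, ← Subgroup.coe_pow, pow_orderOf_eq_one]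
        rfl
      have h1 := hit (orderOf γ)
      rw [hord, MulAut.one_apply, left_eq_mul] at h1
      obtain ⟨b, hb⟩ := (hS.to_quotient (M.subgroupOf S)) (ρ (u⁻¹ * g u))
      have h2 : ρ (u⁻¹ * g u) = 1 := by
        rw [← pow_one (ρ (u⁻¹ * g u)), ← (Nat.Coprime.pow_right b hγ).gcd_eq_one]
        exact pow_gcd_eq_one.2 ⟨h1, hb⟩
      have h3 : Subgroup.inclusion hRS (u⁻¹ * g u) ∈ M.subgroupOf S :=
        (QuotientGroup.eq_one_iff _).1 h2
      exact h3
    have htop : (⟨β, hβ⟩ : K) ∈ (P₀ : Subgroup K) ⊔ Cfsg.pResidual p K := by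
      rw [CfsgLib.Transfer.sylow_sup_pResidual]; exact Subgroup.mem_top _
    refine (show (P₀ : Subgroup K) ⊔ Cfsg.pResidual p K ≤ Mv.subgroupOf K from
      sup_le (fun y hy u => ?_) hres) htop
    obtain ⟨s, hs, hsv⟩ := (hTmem _).1 (hPT.le ⟨y, hy, rfl⟩).1
    show (u : Ω)⁻¹ * (((y : A) : MulAut R) u : Ω) ∈ M
    rw [show (((y : A) : MulAut R) u : Ω) = s * u * s⁻¹ from hsv u]
    exact hder _ (hRS u.2) s hs
  rw [eq_top_iff, ← Sylow.normalizer_sup_eq_top P₀]
  refine sup_le (fun ν hν u => ?_) hsplit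
  rw [hPT] at hν
  have hν' := (mem_autGroup_iff hRS (ν : MulAut R)).1 ν.2
  by_cases hCR : C ≤ R
  · have hR₀R : R₀ ≤ R := sup_le hQR hCR
    have himg : autFun (ν : MulAut R) '' (R₀ : Set Ω) = R₀ := by
      refine image_eq_of_mem hR₀S hν'.isMap hR₀R fun y hy => ?_
      obtain ⟨φ, -, hv⟩ := id hν'.isMap
      have hQim : IsIso F Q Q (autFun (ν : MulAut R)) :=
        ⟨hν'.isMap.mono hQR, image_eq_of_mem hQS hν'.isMap hQR fun z hz =>
          isMap_mem_of_stronglyClosed (stronglyClosed_of_isNormal hQn) hν'.isMap (hQR hz) hz⟩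
      have hle : ((Q ⊔ C).subgroupOf R).map φ ≤ R₀ := by
        rw [Subgroup.subgroupOf_sup hQR hCR, Subgroup.map_sup]
        refine sup_le_sup ?_ ?_
        · rintro _ ⟨w, hw, rfl⟩
          rw [hv]
          exact hQim.mem hw
        · rintro _ ⟨w, hw, rfl⟩
          rw [hv]
          exact hν'.isMap.mem_centralizerIn hQR hQim w.2 hw.2
      have := hle ⟨⟨y, hR₀R hy⟩, hy, rfl⟩
      rwa [hv] at this
    have h1 := hR₀maps R _ hν'.isMap hR₀R himg u u.2
    rwa [autFun_coe] at h1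
  · obtain ⟨s, hsC, hsN, hsR⟩ : ∃ s, s ∈ C ∧ s ∈ Subgroup.normalizer (R : Set Ω) ∧ s ∉ R := by
      by_contra h
      push Not at h
      exact hCR (le_of_normalizer_inf_le hS hRS hCS (fun y hy => hCn (hRS hy)) h)
    obtain ⟨e, he, hev⟩ := (isReceptive_iff.1
      (isReceptive_of_isFullyNormalized hS hF hRfn)).2 R _ hν'
    have hsmem : s ∈ nPhi S R (autFun (ν : MulAut R)) := by
      let c : A := ⟨conjAut R hsN, autInducedBy_le_autGroup hRS
        (conjAut_mem_autInducedBy hsN hsC.1)⟩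
      have hc : c ∈ (T : Subgroup A) ⊓ K := by
        refine ⟨(hTmem c).2 ⟨s, hsC.1, fun _ => rfl⟩, fun q hq => Subtype.ext ?_⟩
        exact conj_eq_self_of_mem_centralizer hsC.2 hq
      obtain ⟨t, ht, htv⟩ := (hTmem _).1 ((Subgroup.mem_normalizer_iff.1 hν c).1 hc).1
      refine ⟨hsC.1, hsN, t, ht, fun y hy => ?_⟩
      have h1 : ((((ν : MulAut R) * (c : MulAut R) * (ν : MulAut R)⁻¹)
          ((ν : MulAut R) ⟨y, hy⟩) : R) : Ω) =
          t * ((ν : MulAut R) ⟨y, hy⟩ : Ω) * t⁻¹ := htv _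
      rw [MulAut.mul_apply, MulAut.inv_apply_self, MulAut.mul_apply] at h1
      rw [autFun_apply _ hy, ← h1, autFun_apply _ (conj_mem_of_mem_normalizer hsN hy)]
      rfl
    have hlt : Nat.card R < Nat.card (nPhi S R (autFun (ν : MulAut R))) := by
      have := finite_of_le (nPhi_le_self (S := S) R (autFun (ν : MulAut R)))
      exact Set.Finite.card_lt_card (Set.toFinite _) (SetLike.coe_ssubset_coe.2
        (lt_of_le_of_ne (le_nPhi hν'.isMap) fun h => hsR (h.symm ▸ hsmem)))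
    have h1 := hbigM _ e hlt he u (le_nPhi hν'.isMap u.2)
    rwa [hev _ u.2, autFun_coe] at h1

end CfsgLib.Fusion
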