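import Mathlib
import Cfsg.Agent.Lib.Fusion.NormalSeries
import Cfsg.Agent.Lib.Fusion.SplitExtraspecial
import Cfsg.Agent.Lib.Fusion.Group
import Cfsg.Agent.Lib.OddOmega.Basic
import Cfsg.Agent.Lib.Signalizer.KBalance

/-!
Strongly closed generalized extraspecial subgroups are normal, apart from `D₈ × A` and
`p₊^{1+2} × A`.
-/

set_option autoImplicit false
set_option linter.style.haveILetI false

open scoped commutatorElement

namespace CfsgLib.Fusion

open Cfsg Cfsg.FusionSystem

universe u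

/-- Copy of a finite group in `Type`. -/
theorem exists_small_copy (E : Type u) [Group E] [Finite E] :
    ∃ (E' : Type) (_ : Group E'), Nonempty (E ≃* E') := by
  let f : E →* Equiv.Perm (Fin (Nat.card E)) :=
    ((Finite.equivFin E).permCongrHom.toMonoidHom).comp (MulAction.toPermHom E E)
  have hf : Function.Injective f := (Finite.equivFin E).permCongrHom.injective.comp
    MulAction.toPerm_injective
  exact ⟨f.range, inferInstance, ⟨MonoidHom.ofInjective hf⟩⟩

theorem isExtraspecial_of_equiv {p : ℕ} {E : Type u} [Group E] {E' : Type} [Group E'] (e : E ≃* E')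
    (h : Cfsg.IsExtraspecial p E) : Cfsg.IsExtraspecial p E' := by
  obtain ⟨⟨hp, hf, hc⟩, hcard⟩ := h
  have hcen : (Subgroup.center E).map e.toMonoidHom = Subgroup.center E' := by
    ext y
    constructor
    · rintro ⟨a, ha, rfl⟩
      exact Subgroup.mem_center_iff.2 fun g => by
        obtain ⟨g, rfl⟩ := e.surjective g
        show e g * e a = e a * e g
        rw [← map_mul, ← map_mul, Subgroup.mem_center_iff.1 ha g]
    · intro hy
      refine ⟨e.symm y, Subgroup.mem_center_iff.2 fun g => e.injective ?_, e.apply_symm_apply y⟩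
      rw [map_mul, map_mul, e.apply_symm_apply, Subgroup.mem_center_iff.1 hy (e g)]
  have hfr : (frattini E).map e.toMonoidHom = frattini E' := by
    refine le_antisymm (Subgroup.map_le_iff_le_comap.2
      (frattini_le_comap_frattini_of_surjective e.surjective)) fun y hy => ?_
    exact ⟨e.symm y, frattini_le_comap_frattini_of_surjective (φ := e.symm.toMonoidHom)
      e.symm.surjective hy, e.apply_symm_apply y⟩
  have hcm : (commutator E).map e.toMonoidHom = commutator E' := by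
    rw [commutator_def, commutator_def, Subgroup.map_commutator,
      Subgroup.map_top_of_surjective _ e.surjective]
  refine ⟨⟨hp.of_equiv e, ?_, ?_⟩, ?_⟩
  · rw [← hfr, ← hcen, hf]
  · rw [← hcm, ← hcen, hc]
  · rw [← hcen, Subgroup.card_map_of_injective e.injective, hcard]

variable {Ω : Type u} [Group Ω] {S : Subgroup Ω} [Finite S] {p : ℕ} [Fact p.Prime]
  {F : FusionSystem S}

/-- A subgroup normalized by `S` is receptive. -/
theorem isReceptive_of_le_normalizer (hS : IsPGroup p S) (hF : F.IsSaturated p) {X : Subgroup Ω}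
    (hX : X ≤ S) (hXn : S ≤ Subgroup.normalizer (X : Set Ω)) : F.IsReceptive X :=
  isReceptive_of_isFullyNormalized hS hF ⟨hX, fun Q' _ => by
    rw [show normalizerIn S X = S from inf_eq_left.2 hXn]
    exact Subgroup.card_le_of_le inf_le_left⟩

theorem IsMap.map_commutatorElement {P : Subgroup Ω} {f : Ω → Ω} (h : IsMap F P f) {a b : Ω}
    (ha : a ∈ P) (hb : b ∈ P) : f ⁅a, b⁆ = ⁅f a, f b⁆ := by
  rw [commutatorElement_def, commutatorElement_def,
    h.map_mul (P.mul_mem (P.mul_mem ha hb) (P.inv_mem ha)) (P.inv_mem hb),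
    h.map_mul (P.mul_mem ha hb) (P.inv_mem ha), h.map_mul ha hb, h.map_inv ha, h.map_inv hb]

variable (hS : IsPGroup p S) (hF : F.IsSaturated p) {P : Subgroup Ω} (hP : F.StronglyClosed P)
  (hfr : frattini ↥P = commutator ↥P) (hcard : Nat.card ↥(commutator ↥P) = p)
  (h2 : p = 2 → ¬ ∃ (A : Type) (_ : CommGroup A), (∀ a : A, a ^ 2 = 1) ∧
    Nonempty (↥P ≃* DihedralGroup 4 × A))
  (hodd : p ≠ 2 → ¬ ∃ (E : Type) (_ : Group E) (A : Type) (_ : CommGroup A),
    Cfsg.IsExtraspecial p E ∧ Nat.card E = p ^ 3 ∧ Monoid.exponent E = p ∧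
      (∀ a : A, a ^ p = 1) ∧ Nonempty (↥P ≃* E × A))

include hS hF hP hfr hcard h2 hodd

theorem isNormal_of_generalized_extraspecial : F.IsNormal P := by
  classical
  have hpp : p.Prime := Fact.out
  have hPS : P ≤ S := hP.1
  have := finite_of_le hPS
  have hPp : IsPGroup p P := hS.to_le hPS
  haveI : Group.IsNilpotent ↥P := hPp.isNilpotent
  have hPn : S ≤ Subgroup.normalizer (P : Set Ω) := fun s hs => mem_normalizer_of_conj_mem hPS
    fun x hx => isMap_mem_of_stronglyClosed hP (isMap_conj (F := F) hPS hs) hx hx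
  set Z : Subgroup Ω := (commutator ↥P).map P.subtype with hZdef
  have hZP : Z ≤ P := Subgroup.map_subtype_le _
  have hZS : Z ≤ S := hZP.trans hPS
  have hZcard : Nat.card Z = p := by
    rw [hZdef, Subgroup.card_map_of_injective P.subtype_injective, hcard]
  haveI : Fact (Nat.card Z).Prime := ⟨hZcard ▸ hpp⟩
  have hZcomm : ∀ a ∈ P, ∀ b ∈ P, ⁅a, b⁆ ∈ Z := fun a ha b hb =>
    ⟨⁅(⟨a, ha⟩ : P), ⟨b, hb⟩⁆, Subgroup.commutator_mem_commutator (Subgroup.mem_top _)
      (Subgroup.mem_top _), rfl⟩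
  have hZpow : ∀ a ∈ P, a ^ p ∈ Z := fun a ha =>
    ⟨(⟨a, ha⟩ : P) ^ p, hfr ▸ (CfsgLib.PSolvable.commutator_le_frattini hPp).2 _, rfl⟩
  have hZc : ∀ w ∈ Z, ∀ a ∈ P, a * w = w * a := by
    rintro _ ⟨w, hw, rfl⟩ a ha
    have hne : commutator ↥P ≠ ⊥ := fun h => hpp.ne_one (by rw [← hcard, h, Subgroup.card_bot])
    have h1 := CfsgLib.Critical.inf_center_ne_bot (commutator ↥P) hne
    haveI : Fact (Nat.card (commutator ↥P)).Prime := ⟨hcard ▸ hpp⟩
    rcases ((Subgroup.center ↥P).subgroupOf (commutator ↥P)).eq_bot_or_eq_top_of_prime_card with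
      h | h
    · refine absurd ((Subgroup.eq_bot_iff_forall _).2 fun z hz => ?_) h1
      have : (⟨z, hz.1⟩ : commutator ↥P) ∈ (Subgroup.center ↥P).subgroupOf (commutator ↥P) := hz.2
      rw [h, Subgroup.mem_bot] at this
      exact congrArg Subtype.val this
    · exact congrArg Subtype.val
        (Subgroup.mem_center_iff.1 (Subgroup.subgroupOf_eq_top.1 h hw) ⟨a, ha⟩)
  have hZp : ∀ w ∈ Z, w ^ p = 1 := fun w hw => by
    have := pow_card_eq_one' (x := (⟨w, hw⟩ : Z))
    rw [hZcard] at this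
    exact congrArg Subtype.val this
  have hZgen : ∀ w ∈ Z, w ≠ 1 → Subgroup.zpowers w = Z := by
    intro w hw hw1
    refine le_antisymm (Subgroup.zpowers_le.2 hw) ?_
    rcases ((Subgroup.zpowers w).subgroupOf Z).eq_bot_or_eq_top_of_prime_card with h | h
    · have : (⟨w, hw⟩ : Z) ∈ (Subgroup.zpowers w).subgroupOf Z := Subgroup.mem_zpowers w
      rw [h, Subgroup.mem_bot] at this
      exact absurd (congrArg Subtype.val this) hw1
    · exact Subgroup.subgroupOf_eq_top.1 h
  have hZn : S ≤ Subgroup.normalizer (Z : Set Ω) := fun s hs => by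
    refine mem_normalizer_of_conj_mem hZS fun w hw => ?_
    have hle : Z ≤ Z.comap (MulAut.conj s).toMonoidHom := by
      refine Subgroup.map_le_iff_le_comap.2 ?_
      rw [commutator_eq_closure, Subgroup.closure_le]
      rintro _ ⟨a, b, rfl⟩
      show s * ((⁅a, b⁆ : P) : Ω) * s⁻¹ ∈ Z
      rw [show s * ((⁅a, b⁆ : P) : Ω) * s⁻¹ = ⁅s * a * s⁻¹, s * b * s⁻¹⁆ from
        map_commutatorElement (MulAut.conj s).toMonoidHom (a : Ω) b]
      exact hZcomm _ (conj_mem_of_mem_normalizer (hPn hs) a.2) _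
        (conj_mem_of_mem_normalizer (hPn hs) b.2)
    exact hle hw
  -- `Z` is strongly closed
  have hZclosed : F.StronglyClosed Z := by
    refine stronglyClosed_iff.2 ⟨hZS, fun Q f hf x hx hxZ => ?_⟩
    by_contra hyZ
    set y := f x with hy
    have hyP : y ∈ P := isMap_mem_of_stronglyClosed hP hf hx (hZP hxZ)
    have hx1 : x ≠ 1 := fun h => hyZ (by rw [hy, h, hf.map_one]; exact Z.one_mem)
    have hxz : Subgroup.zpowers x = Z := hZgen x hxZ hx1
    have hxQ : Z ≤ Q := hxz ▸ Subgroup.zpowers_le.2 hx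
    obtain ⟨Y, hY⟩ := (hf.mono hxQ).exists_iso
    obtain ⟨g, hg, hg1, -⟩ := hY.exists_symm
    have hyY : y ∈ Y := hY.mem hxZ
    have hyp : y ^ p = 1 := by
      have h1 := (hf.mono hxQ).map_zpow hxZ (p : ℤ)
      rw [zpow_natCast, zpow_natCast, hZp x hxZ, hf.map_one] at h1
      exact h1.symm
    have hy1 : y ≠ 1 := fun h => hyZ (h ▸ Z.one_mem)
    obtain ⟨φ, hφ, hφv⟩ := (isReceptive_iff.1 (isReceptive_of_le_normalizer hS hF hZS hZn)).2 Y g hg
    have hYz : ∀ z ∈ Y, ∃ k : ℤ, z = y ^ k := by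
      intro z hz
      obtain ⟨a, ha, rfl⟩ := hY.surj hz
      obtain ⟨k, rfl⟩ := Subgroup.mem_zpowers_iff.1 (hxz.ge ha)
      exact ⟨k, (hf.mono hxQ).map_zpow hxZ k⟩
    -- `C_P(y)`
    set C : Subgroup Ω := P ⊓ Subgroup.centralizer {y} with hCdef
    have hCP : C ≤ P := inf_le_left
    have hCy : ∀ c ∈ C, y * c = c * y := fun c hc =>
      Subgroup.mem_centralizer_iff.1 hc.2 y rfl
    have hCD : C ≤ nPhi S Y g := fun c hc => centralizerIn_le_nPhi Y g
      ⟨hPS (hCP hc), mem_centralizer_of_conj_eq fun z hz => by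
        obtain ⟨k, rfl⟩ := hYz z hz
        rw [mul_inv_eq_iff_eq_mul]
        exact ((Commute.zpow_left (hCy c hc) k).eq).symm⟩
    have hφC : IsMap F C φ := hφ.mono hCD
    have hyC : y ∈ C := ⟨hyP, Subgroup.mem_centralizer_iff.2 fun z hz => by
      rw [Set.mem_singleton_iff.1 hz]⟩
    have hφy : φ y = x := by rw [hφv y hyY, hg1 x hxZ]
    have hφP : ∀ c ∈ C, φ c ∈ P := fun c hc => isMap_mem_of_stronglyClosed hP hφC hc (hCP hc)
    have key : ∀ w ∈ C, w ∈ Z → φ w ∈ Z → w = 1 := by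
      intro w hwC hwZ hφw
      by_contra hw1
      obtain ⟨k, hk⟩ := Subgroup.mem_zpowers_iff.1 ((hZgen w hwZ hw1).ge hxZ)
      have hxC : x ∈ C := hk ▸ C.zpow_mem hwC k
      have h1 : φ x ∈ Z := by rw [← hk, hφC.map_zpow hwC k]; exact Z.zpow_mem hφw k
      obtain ⟨j, hj⟩ := Subgroup.mem_zpowers_iff.1 (hxz.ge h1)
      have h2 : y ^ j = x := hφC.injOn (C.zpow_mem hyC j) hxC
        (by rw [hφC.map_zpow hyC j, hφy, hj])
      have hord : orderOf y = p := orderOf_eq_prime hyp hy1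
      haveI : Fact (Nat.card (Subgroup.zpowers y)).Prime := ⟨by
        rw [Nat.card_zpowers, hord]; exact hpp⟩
      rcases (Z.subgroupOf (Subgroup.zpowers y)).eq_bot_or_eq_top_of_prime_card with h | h
      · have : (⟨x, ⟨j, h2⟩⟩ : Subgroup.zpowers y) ∈ Z.subgroupOf (Subgroup.zpowers y) := hxZ
        rw [h, Subgroup.mem_bot] at this
        exact hx1 (congrArg Subtype.val this)
      · exact hyZ (Subgroup.subgroupOf_eq_top.1 h (Subgroup.mem_zpowers y))
    have hCc : ∀ a ∈ C, ∀ b ∈ C, a * b = b * a := fun a ha b hb =>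
      commutatorElement_eq_one_iff_mul_comm.1 (key _
        (by rw [commutatorElement_def]
            exact C.mul_mem (C.mul_mem (C.mul_mem ha hb) (C.inv_mem ha)) (C.inv_mem hb))
        (hZcomm a (hCP ha) b (hCP hb))
        (by rw [hφC.map_commutatorElement ha hb]; exact hZcomm _ (hφP a ha) _ (hφP b hb)))
    have hCp : ∀ a ∈ C, a ^ p = 1 := fun a ha =>
      key _ (C.pow_mem ha p) (hZpow a (hCP ha))
        (by rw [← zpow_natCast, hφC.map_zpow ha, zpow_natCast]; exact hZpow _ (hφP a ha))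
    -- the ambient group `P`
    have hcQ : ∀ a b g : P, Commute ⁅a, b⁆ g := fun a b g =>
      Subtype.ext (hZc _ (hZcomm a a.2 b b.2) g g.2).symm
    let χ := fun b : P => Split.commHom hcQ b
    let Y' : P := ⟨y, hyP⟩
    obtain ⟨x₀, hx₀P, hx₀C⟩ : ∃ a ∈ P, a ∉ C := by
      by_contra hall
      push Not at hall
      have hbot : commutator ↥P = ⊥ := by
        rw [commutator_eq_bot_iff_center_eq_top, eq_top_iff]
        exact fun a _ => Subgroup.mem_center_iff.2 fun b =>
          Subtype.ext (hCc _ (hall b b.2) _ (hall a a.2))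
      exact hpp.ne_one (by rw [← hcard, hbot, Subgroup.card_bot])
    let X₀ : P := ⟨x₀, hx₀P⟩
    have hmemC : ∀ a : P, (a : Ω) ∈ C ↔ ⁅a, Y'⁆ = 1 := fun a => by
      rw [commutatorElement_eq_one_iff_mul_comm]
      constructor
      · exact fun h => Subtype.ext (hCy _ h).symm
      · intro h
        exact ⟨a.2, Subgroup.mem_centralizer_iff.2 fun z hz => by
          rw [Set.mem_singleton_iff.1 hz]; exact (congrArg Subtype.val h).symm⟩
    set w : P := ⁅X₀, Y'⁆ with hwdef
    have hw1 : w ≠ 1 := fun h => hx₀C ((hmemC X₀).2 h)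
    have hwZ : (w : Ω) ∈ Z := hZcomm x₀ hx₀P y hyP
    have hwz : Subgroup.zpowers (w : Ω) = Z :=
      hZgen _ hwZ fun h => hw1 (Subtype.ext h)
    have hwp : w ^ p = 1 := Subtype.ext (hZp _ hwZ)
    have hZw : ∀ a : P, (a : Ω) ∈ Z → a ∈ Subgroup.zpowers w := fun a ha => by
      obtain ⟨k, hk⟩ := Subgroup.mem_zpowers_iff.1 (hwz.ge ha)
      exact ⟨k, Subtype.ext hk⟩
    have hdecX : ∀ a : P, ∃ i : ℤ, ((X₀ ^ (-i) * a : P) : Ω) ∈ C := fun a => by
      obtain ⟨i, hi⟩ := Subgroup.mem_zpowers_iff.1 (hZw ⁅a, Y'⁆ (hZcomm a a.2 y hyP))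
      refine ⟨i, (hmemC _).2 ?_⟩
      show Split.commHom hcQ Y' (X₀ ^ (-i) * a) = 1
      rw [map_mul, map_zpow, Split.commHom_apply, Split.commHom_apply, ← hwdef, ← hi, ← zpow_add,
        neg_add_cancel, zpow_zero]
    have hdecY : ∀ a : P, (a : Ω) ∈ C → ∃ j : ℤ, Y' ^ (-j) * a ∈ Subgroup.center ↥P := by
      intro a ha
      obtain ⟨j, hj⟩ := Subgroup.mem_zpowers_iff.1 (hZw ⁅X₀, a⁆ (hZcomm x₀ hx₀P a a.2))
      refine ⟨j, ?_⟩
      set c := Y' ^ (-j) * a with hc
      have hcC : (c : Ω) ∈ C := by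
        rw [hc, Subgroup.coe_mul, Subgroup.coe_zpow]
        exact C.mul_mem (C.zpow_mem hyC _) ha
      have h1 : ⁅c, X₀⁆ = 1 := by
        show Split.commHom hcQ X₀ c = 1
        rw [hc, map_mul, map_zpow, Split.commHom_apply, Split.commHom_apply,
          ← commutatorElement_inv X₀ Y', ← commutatorElement_inv X₀ a, ← hwdef, ← hj, inv_zpow,
          zpow_neg, inv_inv, mul_inv_cancel]
      refine Subgroup.mem_center_iff.2 fun g => ?_
      obtain ⟨i, hi⟩ := hdecX g
      have e1 : Commute c (X₀ ^ (-i) * g) := Subtype.ext (hCc _ hcC _ hi)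
      have e2 : Commute c (X₀ ^ i) := Commute.zpow_right (commutatorElement_eq_one_iff_commute.1 h1) i
      have e3 := e2.mul_right e1
      rw [← mul_assoc, ← zpow_add, add_neg_cancel, zpow_zero, one_mul] at e3
      exact e3.eq.symm
    have hgen : ∀ X : P, (∃ c : P, (c : Ω) ∈ C ∧ X = X₀ * c) → ∀ a : P,
        ∃ i j : ℤ, ∃ c ∈ Subgroup.center ↥P, a = X ^ i * Y' ^ j * c := by
      rintro X ⟨c₀, hc₀, rfl⟩ a
      obtain ⟨i, hi⟩ := Subgroup.mem_zpowers_iff.1 (hZw ⁅a, Y'⁆ (hZcomm a a.2 y hyP))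
      have hC' : (((X₀ * c₀) ^ (-i) * a : P) : Ω) ∈ C := by
        refine (hmemC _).2 ?_
        show Split.commHom hcQ Y' _ = 1
        rw [map_mul, map_zpow, map_mul, Split.commHom_apply, Split.commHom_apply,
          Split.commHom_apply, ← hwdef, (hmemC c₀).1 hc₀, mul_one, ← hi, ← zpow_add, neg_add_cancel,
          zpow_zero]
      obtain ⟨j, hj⟩ := hdecY _ hC'
      exact ⟨i, j, _, hj, by group⟩
    have hQp : ∀ a : P, a ^ p ∈ Subgroup.zpowers w := fun a => hZw _ (hZpow a a.2)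
    have hQc : ∀ a b : P, ⁅a, b⁆ ∈ Subgroup.zpowers w := fun a b => hZw _ (hZcomm a a.2 b b.2)
    have hCz : ∀ c : P, c ∈ Subgroup.center ↥P → (c : Ω) ∈ C := fun c hc =>
      ⟨c.2, Subgroup.mem_centralizer_iff.2 fun z hz => by
        rw [Set.mem_singleton_iff.1 hz]
        exact congrArg Subtype.val (Subgroup.mem_center_iff.1 hc Y')⟩
    have hcenElem : Cfsg.IsElementaryAbelian p (Subgroup.center ↥P) :=
      ⟨inferInstance, fun c hc => Subtype.ext (hCp _ (hCz c hc))⟩
    have hwcen : w ∈ Subgroup.center ↥P := Subgroup.mem_center_iff.2 fun g => (hcQ X₀ Y' g).eq.symm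
    obtain ⟨A, hA, hAi, hAw⟩ := CfsgLib.Signalizer.KBalance.exists_complement (p := p) hcenElem
      (Subgroup.zpowers_le.2 hwcen)
    have hApow : ∀ a : A, a ^ p = 1 := fun a => Subtype.ext (hcenElem.2 a (hA a.2))
    have hyp' : Y' ^ p = 1 := Subtype.ext hyp
    have hsplit : ∀ X : P, (∃ c : P, (c : Ω) ∈ C ∧ X = X₀ * c) → X ^ p = 1 →
        ∃ E : Subgroup P, Cfsg.IsExtraspecial p E ∧ Nat.card E = p ^ 3 ∧ X ∈ E ∧ Y' ∈ E ∧
          E = Subgroup.closure {X, Y'} ∧ Nonempty (P ≃* E × A) := by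
      intro X hX hXp
      obtain ⟨c₀, hc₀, rfl⟩ := hX
      refine Split.exists_split (w := w) hPp hcQ ?_ hXp hyp' hwp hw1 rfl hA hAw hAi hQp hQc
        (hgen _ ⟨c₀, hc₀, rfl⟩)
      rw [Split.comm_mul hcQ, (hmemC c₀).1 hc₀, mul_one]
    obtain ⟨A', iA', ⟨eA⟩⟩ := exists_small_copy A
    letI : CommGroup A' := { iA' with
      mul_comm := fun a b => by
        obtain ⟨a, rfl⟩ := eA.surjective a
        obtain ⟨b, rfl⟩ := eA.surjective b
        rw [← map_mul, ← map_mul]
        exact congrArg eA (Subtype.ext (Subgroup.mem_center_iff.1 (hA b.2) a)) }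
    have hA'pow : ∀ a : A', a ^ p = 1 := fun a => by
      obtain ⟨a, rfl⟩ := eA.surjective a
      rw [← map_pow, hApow, map_one]
    rcases eq_or_ne p 2 with hp2 | hp2
    · -- `p = 2`
      obtain ⟨X, hX, hX2⟩ : ∃ X : P, (∃ c : P, (c : Ω) ∈ C ∧ X = X₀ * c) ∧ X ^ p = 1 := by
        rcases eq_or_ne (X₀ ^ p) 1 with h | h
        · exact ⟨X₀, ⟨1, C.one_mem, (mul_one _).symm⟩, h⟩
        refine ⟨X₀ * Y', ⟨Y', hyC, rfl⟩, ?_⟩
        subst hp2
        obtain ⟨k, hk⟩ := Subgroup.mem_zpowers_iff.1 (hQp X₀)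
        have hk' : w ^ k = w := by
          rcases Int.emod_two_eq_zero_or_one k with hk2 | hk2
          · refine absurd ?_ h
            rw [← hk, ← Int.emod_add_mul_ediv k 2, hk2, zero_add, zpow_mul,
              show w ^ (2 : ℤ) = 1 by rw [zpow_two, ← pow_two]; exact hwp, one_zpow]
          · rw [← Int.emod_add_mul_ediv k 2, hk2, zpow_add, zpow_mul,
              show w ^ (2 : ℤ) = 1 by rw [zpow_two, ← pow_two]; exact hwp, one_zpow, mul_one, zpow_one]
        have hinv : Y'⁻¹ = Y' := inv_eq_of_mul_eq_one_right (by rw [← pow_two]; exact hyp')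
        have hswap : Y' * X₀ = w⁻¹ * (X₀ * Y') := by
          rw [hwdef, commutatorElement_def]; group
        calc (X₀ * Y') ^ 2 = X₀ * (Y' * X₀) * Y' := by rw [pow_two]; simp only [mul_assoc]
          _ = w⁻¹ * (X₀ ^ 2) * Y' ^ 2 := by
            rw [hswap, pow_two, pow_two]
            simp only [← mul_assoc]
            rw [((hcQ X₀ Y' X₀).inv_left.eq : w⁻¹ * X₀ = X₀ * w⁻¹)]
          _ = 1 := by rw [← hk, hk', hyp', mul_one, inv_mul_cancel]
      obtain ⟨E, hE, hEc, hXE, hYE, hEeq, ⟨e⟩⟩ := hsplit X hX hX2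
      subst hp2
      refine h2 rfl ⟨A', inferInstance, hA'pow, ?_⟩
      obtain ⟨d⟩ := Split.exists_dihedral_equiv (E := E) (by rw [hEc]; norm_num)
        (x := ⟨X, hXE⟩) (y := ⟨Y', hYE⟩)
        (Subtype.ext (by rw [Subgroup.coe_mul, ← pow_two]; exact hX2))
        (Subtype.ext (by rw [Subgroup.coe_mul, ← pow_two]; exact hyp'))
        (by
          apply Subgroup.map_injective E.subtype_injective
          rw [MonoidHom.map_closure, ← MonoidHom.range_eq_map, Subgroup.range_subtype,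
            Set.image_insert_eq, Set.image_singleton]
          exact hEeq.symm)
        (Subtype.ext (by
          obtain ⟨k, hk⟩ := Subgroup.mem_zpowers_iff.1 (hQp (X * Y'))
          show (X * Y') ^ 4 = 1
          rw [show (4 : ℕ) = 2 * 2 from rfl, pow_mul, ← hk, ← zpow_natCast, ← zpow_mul, mul_comm,
            zpow_mul, zpow_natCast, hwp, one_zpow]))
      exact ⟨e.trans (d.prodCongr eA)⟩
    -- `p` odd
    have hchoose : p ∣ p.choose 2 := hpp.dvd_choose_self (by norm_num)
      (lt_of_le_of_ne hpp.two_le (Ne.symm hp2))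
    have hpowmul : ∀ a b : P, (a * b) ^ p = a ^ p * b ^ p := fun a b => by
      have hyx : b * a = ⁅b, a⁆ * (a * b) := by rw [commutatorElement_def]; group
      rw [CfsgLib.OddOmega.mul_pow_of_central a b _
        (Subgroup.mem_center_iff.2 fun g => (hcQ b a g).eq.symm) hyx]
      obtain ⟨m, hm⟩ := hchoose
      obtain ⟨k, hk⟩ := Subgroup.mem_zpowers_iff.1 (hQc b a)
      rw [hm, pow_mul, ← hk, show (w ^ k) ^ p = 1 by
        rw [← zpow_natCast, ← zpow_mul, mul_comm, zpow_mul, zpow_natCast, hwp, one_zpow],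
        one_pow, one_mul]
    by_cases hX0 : X₀ ^ p = 1
    · -- exponent `p`
      obtain ⟨E, hE, hEc, hXE, hYE, -, ⟨e⟩⟩ := hsplit X₀ ⟨1, C.one_mem, (mul_one _).symm⟩ hX0
      obtain ⟨E', iE', ⟨eE⟩⟩ := exists_small_copy E
      have hall : ∀ a : P, a ^ p = 1 := fun a => by
        obtain ⟨i, hi⟩ := hdecX a
        have h1 : (X₀ ^ (-i) * a) ^ p = 1 := Subtype.ext (hCp _ hi)
        rw [hpowmul, ← zpow_natCast (X₀ ^ (-i)), ← zpow_mul, mul_comm, zpow_mul, zpow_natCast,
          hX0, one_zpow, one_mul] at h1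
        exact h1
      refine hodd hp2 ⟨E', iE', A', inferInstance, isExtraspecial_of_equiv eE hE,
        by rw [← Nat.card_congr eE.toEquiv, hEc], ?_, hA'pow, ⟨e.trans (eE.prodCongr eA)⟩⟩
      rw [← Monoid.exponent_eq_of_mulEquiv eE]
      refine ((Nat.dvd_prime hpp).1 (Monoid.exponent_dvd_of_forall_pow_eq_one fun a =>
        Subtype.ext (by rw [Subgroup.coe_pow, Subgroup.coe_one]; exact hall a))).resolve_left fun h1 => ?_
      have h2 := Monoid.pow_exponent_eq_one (⟨Y', hYE⟩ : E)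
      rw [h1, pow_one] at h2
      exact hy1 (congrArg Subtype.val (congrArg Subtype.val h2))
    -- exponent `p ^ 2`
    have hCiff : ∀ a : P, (a : Ω) ∈ C ↔ a ^ p = 1 := by
      refine fun a => ⟨fun h => Subtype.ext (hCp _ h), fun h => ?_⟩
      obtain ⟨i, hi⟩ := hdecX a
      have h1 : (X₀ ^ (-i) * a) ^ p = 1 := Subtype.ext (hCp _ hi)
      rw [hpowmul, h, mul_one, ← zpow_natCast, ← zpow_mul, mul_comm, zpow_mul, zpow_natCast] at h1
      obtain ⟨k, hk⟩ := Subgroup.mem_zpowers_iff.1 (hQp X₀)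
      obtain ⟨l, hl⟩ : (p : ℤ) ∣ i := by
        rw [← dvd_neg]
        refine Split.dvd_of_zpow_eq_one ?_ hX0 h1
        rw [← hk, ← zpow_natCast, ← zpow_mul, mul_comm, zpow_mul, zpow_natCast, hwp, one_zpow]
      have hXi : ((X₀ ^ i : P) : Ω) ∈ C := by
        rw [hl, zpow_mul, zpow_natCast, Subgroup.coe_zpow]
        refine C.zpow_mem (hCz _ ?_) l
        rw [← hk]; exact Subgroup.zpow_mem _ hwcen k
      have := C.mul_mem hXi hi
      rwa [← Subgroup.coe_mul, ← mul_assoc, ← zpow_add, add_neg_cancel, zpow_zero, one_mul] at this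
    have hCS : C ≤ S := hCP.trans hPS
    have hCn : S ≤ Subgroup.normalizer (C : Set Ω) := fun s hs => mem_normalizer_of_conj_mem hCS
      fun c hc => by
        have hcP := conj_mem_of_mem_normalizer (hPn hs) (hCP hc)
        refine (hCiff ⟨_, hcP⟩).2 (Subtype.ext ?_)
        show (s * c * s⁻¹) ^ p = 1
        rw [conj_pow, hCp c hc, mul_one, mul_inv_cancel]
    have hrecC := isReceptive_of_le_normalizer hS hF hCS hCn
    have hcentC : ∀ a : P, (∀ c ∈ C, (a : Ω) * c * (a : Ω)⁻¹ = c) → (a : Ω) ∈ C := fun a ha =>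
      ⟨a.2, Subgroup.mem_centralizer_iff.2 fun z hz => by
        rw [Set.mem_singleton_iff.1 hz]; exact (mul_inv_eq_iff_eq_mul.1 (ha y hyC)).symm⟩
    have hmapC : ∀ f : Ω → Ω, IsMap F C f → IsIso F C C f := fun f hf => by
      have := finite_of_le hCS
      refine hf.isIso_of_card_le (fun c hc => ?_) le_rfl
      have hcP := isMap_mem_of_stronglyClosed hP hf hc (hCP hc)
      refine (hCiff ⟨_, hcP⟩).2 (Subtype.ext ?_)
      show f c ^ p = 1
      rw [← zpow_natCast, ← hf.map_zpow hc, zpow_natCast, hCp c hc, hf.map_one]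
    have := finite_of_le hCS
    have := finite_mulAut C
    obtain ⟨a₁, ha₁, ha₁v⟩ := exists_mem_autGroup (hmapC φ hφC)
    have hxC : x ∈ C := (hCiff ⟨x, hZP hxZ⟩).2 (Subtype.ext (hZp x hxZ))
    set f₁ : MulAut C := a₁⁻¹ with hf₁
    have hf₁F : f₁ ∈ F.autGroup C := (F.autGroup C).inv_mem ha₁
    have hf₁x : f₁ ⟨x, hxC⟩ = ⟨y, hyC⟩ := by
      rw [hf₁, show (⟨x, hxC⟩ : C) = a₁ ⟨y, hyC⟩ from Subtype.ext ((ha₁v _).trans hφy).symm]
      exact a₁.symm_apply_apply _
    -- the transvection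
    let t : MulAut C := conjAut C (hCn (hPS hx₀P))
    have ht : ∀ c : C, (t c : Ω) = x₀ * c * x₀⁻¹ := fun c => conjAut_apply C _ c
    have htF : t ∈ F.autGroup C := mem_autGroup_of_isMap (isMap_conj hCS (hPS hx₀P)) t ht
    have htc : ∀ c : C, ∃ k : ℤ, t c = ⟨x, hxC⟩ ^ k * c := fun c => by
      obtain ⟨k, hk⟩ := Subgroup.mem_zpowers_iff.1 (hxz.ge (hZcomm x₀ hx₀P c (hCP c.2)))
      refine ⟨k, Subtype.ext ?_⟩
      rw [ht, Subgroup.coe_mul, Subgroup.coe_zpow, hk, commutatorElement_def]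
      group
    have htx : t ⟨x, hxC⟩ = ⟨x, hxC⟩ := Subtype.ext <| by
      rw [ht, show ((⟨x, hxC⟩ : C) : Ω) = x from rfl, hZc x hxZ x₀ hx₀P, mul_inv_cancel_right]
    have hty : t ⟨y, hyC⟩ = ⟨(w : Ω), hCz w hwcen⟩ * ⟨y, hyC⟩ := Subtype.ext <| by
      rw [ht, Subgroup.coe_mul]
      show x₀ * y * x₀⁻¹ = ⁅x₀, y⁆ * y
      rw [commutatorElement_def]; group
    let u : MulAut C := f₁ * t * f₁⁻¹
    have huF : u ∈ F.autGroup C := (F.autGroup C).mul_mem
      ((F.autGroup C).mul_mem hf₁F htF) ((F.autGroup C).inv_mem hf₁F)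
    have huy : u ⟨y, hyC⟩ = ⟨y, hyC⟩ := by
      show f₁ (t (f₁⁻¹ ⟨y, hyC⟩)) = _
      rw [show f₁⁻¹ ⟨y, hyC⟩ = ⟨x, hxC⟩ by
        rw [← hf₁x]; exact f₁.symm_apply_apply _, htx, hf₁x]
    have huc : ∀ c : C, ∃ k : ℤ, u c = ⟨y, hyC⟩ ^ k * c := fun c => by
      obtain ⟨k, hk⟩ := htc (f₁⁻¹ c)
      refine ⟨k, ?_⟩
      show f₁ (t (f₁⁻¹ c)) = _
      rw [hk, map_mul, map_zpow, hf₁x]
      exact congrArg (_ * ·) (f₁.apply_symm_apply c)
    -- conjugations from `S` by conjugates of `t`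
    have hTcomm : ∀ d ∈ F.autGroup C, d * t * d⁻¹ ∈ autInducedBy S C →
        d * t * d⁻¹ ∈ autInducedBy P C := by
      intro d hd hds
      obtain ⟨s, hs, hsv⟩ := (mem_autInducedBy_iff _ _ _).1 hds
      obtain ⟨ψ, hψ, hψv⟩ := (isReceptive_iff.1 hrecC).2 C (autFun d)
        ((mem_autGroup_iff hCS d).1 hd)
      have hx₀D : x₀ ∈ nPhi S C (autFun d) := ⟨hPS hx₀P, hCn (hPS hx₀P), s, hs, fun c hc => by
        rw [autFun_apply _ (conj_mem_of_mem_normalizer (hCn (hPS hx₀P)) hc), autFun_apply _ hc,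
          ← hsv]
        show (d _ : Ω) = (d (t (d⁻¹ (d ⟨c, hc⟩))) : Ω)
        rw [show d⁻¹ (d ⟨c, hc⟩) = ⟨c, hc⟩ from d.symm_apply_apply _]
        exact congrArg (fun v : C => (d v : Ω)) (Subtype.ext (ht ⟨c, hc⟩).symm)⟩
      have hψP := isMap_mem_of_stronglyClosed hP hψ hx₀D hx₀P
      refine (mem_autInducedBy_iff _ _ _).2 ⟨ψ x₀, hψP, fun c => ?_⟩
      obtain ⟨c, rfl⟩ := d.surjective c
      show (d (t (d⁻¹ (d c))) : Ω) = _
      rw [show d⁻¹ (d c) = c from d.symm_apply_apply c]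
      have hCD : C ≤ nPhi S C (autFun d) := le_nPhi ((mem_autGroup_iff hCS d).1 hd).isMap
      have e := hψ.map_conj hx₀D (hCD c.2)
      rw [hψv _ c.2, hψv _ (conj_mem_of_mem_normalizer (hCn (hPS hx₀P)) c.2),
        autFun_apply _ (conj_mem_of_mem_normalizer (hCn (hPS hx₀P)) c.2),
        autFun_apply _ c.2] at e
      rw [← e]
      exact congrArg (fun v : C => (d v : Ω)) (Subtype.ext (ht c))
    have hPaut : ∀ d ∈ autInducedBy P C, ∃ i : ℤ, d = t ^ i := by
      intro d hd
      obtain ⟨a, ha, hav⟩ := (mem_autInducedBy_iff _ _ _).1 hd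
      obtain ⟨i, hi⟩ := hdecX ⟨a, ha⟩
      refine ⟨i, MulEquiv.ext fun c => Subtype.ext ?_⟩
      have hti : ∀ i : ℤ, ∀ c : C, ((t ^ i) c : Ω) = x₀ ^ i * c * (x₀ ^ i)⁻¹ := fun i c => by
        have h1 : t ^ i = conjAut C ((Subgroup.normalizer (C : Set Ω)).zpow_mem
            (hCn (hPS hx₀P)) i) := by
          induction i with
          | zero =>
            refine MulEquiv.ext fun c => Subtype.ext ?_
            rw [zpow_zero, conjAut_apply, zpow_zero]; simp
          | succ n ih =>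
            refine MulEquiv.ext fun c => Subtype.ext ?_
            rw [zpow_add_one, MulAut.mul_apply, ih, conjAut_apply, ht, conjAut_apply, zpow_add_one]
            group
          | pred n ih =>
            refine MulEquiv.ext fun c => Subtype.ext ?_
            have hinv : ((t⁻¹ c : C) : Ω) = x₀⁻¹ * c * x₀ := by
              have := ht (t⁻¹ c)
              rw [show t (t⁻¹ c) = c from t.apply_symm_apply c] at this
              rw [this]; group
            rw [zpow_sub_one, MulAut.mul_apply, ih, conjAut_apply, hinv, conjAut_apply,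
              zpow_sub_one]
            group
        rw [h1, conjAut_apply]
      rw [hav, hti]
      have e := hCc _ hi _ c.2
      simp only [Subgroup.coe_mul, Subgroup.coe_zpow] at e
      calc a * (c : Ω) * a⁻¹ = x₀ ^ i * ((x₀ ^ (-i) * a) * c) * a⁻¹ := by group
        _ = x₀ ^ i * (c * (x₀ ^ (-i) * a)) * a⁻¹ := by rw [e]
        _ = x₀ ^ i * c * (x₀ ^ i)⁻¹ := by group
    -- `x` is moved by `u`
    have hux : u ⟨x, hxC⟩ ≠ ⟨x, hxC⟩ := by
      intro hux
      set G := F.autGroup C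
      obtain ⟨T, hT⟩ := (isFullyAutomized_of_isFullyNormalized hS hF
        (P := C) ⟨hCS, fun Q' _ => by
          rw [show normalizerIn S C = S from inf_eq_left.2 hCn]
          exact Subgroup.card_le_of_le inf_le_left⟩).2
      let t' : G := ⟨t, htF⟩
      let u' : G := ⟨u, huF⟩
      set H := Subgroup.closure ({t', u'} : Set G)
      -- a common subgroup of unipotent maps
      let x' : C := ⟨x, hxC⟩
      let y' : C := ⟨y, hyC⟩
      set W : Subgroup C := Subgroup.closure {x', y'}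
      have hW : ∀ h ∈ H, ((h : MulAut C) x' = x') ∧
          (∃ k : ℤ, (h : MulAut C) y' = x' ^ k * y') ∧
          ∀ c : C, ∃ k l : ℤ, (h : MulAut C) c = x' ^ k * y' ^ l * c := by
        intro h hh
        have hcomC : ∀ a b : C, a * b = b * a := fun a b => Subtype.ext (hCc _ a.2 _ b.2)
        induction hh using Subgroup.closure_induction with
        | mem h hh =>
          rcases hh with rfl | hh
          · refine ⟨htx, ?_, fun c => ?_⟩
            · obtain ⟨k, hk⟩ := htc y'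
              exact ⟨k, hk⟩
            · obtain ⟨k, hk⟩ := htc c
              exact ⟨k, 0, by rw [zpow_zero, mul_one]; exact hk⟩
          · rw [Set.mem_singleton_iff.1 hh]
            refine ⟨hux, ⟨0, by rw [zpow_zero, one_mul]; exact huy⟩, fun c => ?_⟩
            obtain ⟨k, hk⟩ := huc c
            exact ⟨0, k, by rw [zpow_zero, one_mul]; exact hk⟩
        | one => exact ⟨rfl, ⟨0, by simp⟩, fun c => ⟨0, 0, by simp⟩⟩
        | mul a b _ _ iha ihb =>
          obtain ⟨hax, ⟨ka, hay⟩, hac⟩ := iha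
          obtain ⟨hbx, ⟨kb, hby⟩, hbc⟩ := ihb
          refine ⟨?_, ⟨kb + ka, ?_⟩, fun c => ?_⟩
          · show (a : MulAut C) ((b : MulAut C) x') = x'
            rw [hbx, hax]
          · show (a : MulAut C) ((b : MulAut C) y') = _
            rw [hby, map_mul, map_zpow, hax, hay, ← mul_assoc, ← zpow_add]
          · obtain ⟨k, l, hk⟩ := hbc c
            obtain ⟨k', l', hk'⟩ := hac c
            refine ⟨k + ka * l + k', l + l', ?_⟩
            show (a : MulAut C) ((b : MulAut C) c) = _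
            rw [hk, map_mul, map_mul, map_zpow, map_zpow, hax, hay, hk', Commute.mul_zpow
              (hcomC _ _), ← zpow_mul, zpow_add, zpow_add, zpow_add]
            simp only [mul_assoc]
            rw [← mul_assoc (y' ^ l) (x' ^ k'), hcomC (y' ^ l) (x' ^ k'), mul_assoc]
        | inv a _ iha =>
          obtain ⟨hax, ⟨ka, hay⟩, hac⟩ := iha
          have hsx : (a : MulAut C)⁻¹ x' = x' := by
            conv_lhs => rw [← hax]
            exact (a : MulAut C).symm_apply_apply x'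
          have hsy : (a : MulAut C)⁻¹ y' = x' ^ (-ka) * y' := by
            apply (a : MulAut C).injective
            rw [show (a : MulAut C) ((a : MulAut C)⁻¹ y') = y' from
              (a : MulAut C).apply_symm_apply y', map_mul, map_zpow, hax, hay, ← mul_assoc,
              ← zpow_add, neg_add_cancel, zpow_zero, one_mul]
          refine ⟨hsx, ⟨-ka, hsy⟩, fun c => ?_⟩
          obtain ⟨k, l, hk⟩ := hac ((a : MulAut C)⁻¹ c)
          rw [show (a : MulAut C) ((a : MulAut C)⁻¹ c) = c from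
            (a : MulAut C).apply_symm_apply c] at hk
          refine ⟨-k, -l, ?_⟩
          show (a : MulAut C)⁻¹ c = _
          conv_rhs => rw [hk]
          rw [← mul_assoc, mul_assoc (x' ^ (-k)), ← mul_assoc (y' ^ (-l)),
            hcomC (y' ^ (-l)) (x' ^ k), mul_assoc (x' ^ k), ← zpow_add, neg_add_cancel, zpow_zero,
            mul_one, ← zpow_add, neg_add_cancel, zpow_zero, one_mul]
      have hyp'' : y' ^ p = 1 := Subtype.ext hyp
      have hxp'' : x' ^ p = 1 := Subtype.ext (hZp x hxZ)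
      have hHp : IsPGroup p H := by
        intro h
        refine ⟨2, ?_⟩
        obtain ⟨hhx, ⟨ky, hhy⟩, hhc⟩ := hW h h.2
        set a : MulAut C := ((h : G) : MulAut C)
        have hx_n : ∀ n : ℕ, (a ^ n) x' = x' := fun n => by
          induction n with
          | zero => rfl
          | succ n ih => rw [pow_succ, MulAut.mul_apply, hhx, ih]
        have hy_n : ∀ n : ℕ, (a ^ n) y' = x' ^ (ky * (n : ℤ)) * y' := fun n => by
          induction n with
          | zero => simp
          | succ n ih =>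
            rw [pow_succ', MulAut.mul_apply, ih, map_mul, map_zpow, hhx, hhy, ← mul_assoc,
              ← zpow_add]
            congr 2; push_cast; ring
        have hy_p : (a ^ p) y' = y' := by
          rw [hy_n, mul_comm ky, zpow_mul, zpow_natCast, hxp'', one_zpow, one_mul]
        have hfin : a ^ p ^ 2 = 1 := by
          refine MulEquiv.ext fun c => ?_
          have hc_n : ∀ n : ℕ, ∃ k l : ℤ, (a ^ n) c = x' ^ k * y' ^ l * c := fun n => by
            have hmem : (h : G) ^ n ∈ H := H.pow_mem h.2 n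
            obtain ⟨-, -, hc⟩ := hW _ hmem
            exact hc c
          obtain ⟨k, l, hk⟩ := hc_n p
          have hiter : ∀ m : ℕ, ((a ^ p) ^ m) c = (x' ^ k * y' ^ l) ^ m * c := fun m => by
            induction m with
            | zero => simp
            | succ m ih =>
              rw [pow_succ' (a ^ p), MulAut.mul_apply, ih, map_mul, map_pow, map_mul, map_zpow,
                map_zpow, hx_n, hy_p, hk, ← mul_assoc, ← pow_succ]
          rw [pow_two, pow_mul, hiter, Commute.mul_pow (Subtype.ext (hCc _ (SetLike.coe_mem _) _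
            (SetLike.coe_mem _))), ← zpow_natCast, ← zpow_natCast, ← zpow_mul, ← zpow_mul,
            mul_comm k, mul_comm l, zpow_mul, zpow_mul, zpow_natCast, zpow_natCast, hxp'', hyp'',
            one_zpow, one_zpow, one_mul, one_mul]
          rfl
        exact Subtype.ext (Subtype.ext hfin)
      obtain ⟨d, hd⟩ := exists_conj_le_sylow T hHp
      have hdt := hd ⟨t', Subgroup.subset_closure (Set.mem_insert _ _), rfl⟩
      have hdu := hd ⟨u', Subgroup.subset_closure (Set.mem_insert_of_mem _ rfl), rfl⟩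
      rw [hT] at hdt hdu
      obtain ⟨i, hi⟩ := hPaut _ (hTcomm (d : MulAut C) d.2 hdt)
      have hdu' : (d : MulAut C) * f₁ * t * ((d : MulAut C) * f₁)⁻¹ ∈ autInducedBy P C :=
        hTcomm _ (G.mul_mem d.2 hf₁F) (by
          rw [show (d : MulAut C) * f₁ * t * ((d : MulAut C) * f₁)⁻¹ =
            (d : MulAut C) * (f₁ * t * f₁⁻¹) * (d : MulAut C)⁻¹ by group]
          exact hdu)
      obtain ⟨j, hj⟩ := hPaut _ hdu'
      -- both generate the same group, so `u` fixes `x` and `t` fixes `y`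
      have hij : u ^ i = t ^ j := by
        have e1 : (d : MulAut C) * u * (d : MulAut C)⁻¹ = t ^ j := by
          show (d : MulAut C) * (f₁ * t * f₁⁻¹) * (d : MulAut C)⁻¹ = t ^ j
          rw [← hj]; group
        have e2 : (d : MulAut C) * t * (d : MulAut C)⁻¹ = t ^ i := hi
        have e3 : (d : MulAut C) * u ^ i * (d : MulAut C)⁻¹ = (d : MulAut C) * t ^ j * (d : MulAut C)⁻¹ := by
          rw [← conj_zpow, ← conj_zpow, e1, e2, ← zpow_mul, ← zpow_mul, mul_comm]
        exact mul_left_cancel (mul_right_cancel e3)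
      -- evaluate at `y`
      have h1 : (t ^ j) y' = y' := by
        rw [← hij]
        have : ∀ m : ℤ, (u ^ m) y' = y' := fun m => by
          induction m with
          | zero => rfl
          | succ m ih => rw [zpow_add_one, MulAut.mul_apply, huy, ih]
          | pred m ih =>
            rw [zpow_sub_one, MulAut.mul_apply]
            rw [show u⁻¹ y' = y' from (MulEquiv.symm_apply_eq u).2 huy.symm]
            exact ih
        exact this i
      have hj0 : (p : ℤ) ∣ j := by
        have hpow : ∀ m : ℤ, (t ^ m) y' = ⟨(w : Ω), hCz w hwcen⟩ ^ m * y' := fun m => by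
          have htw : t ⟨(w : Ω), hCz w hwcen⟩ = ⟨(w : Ω), hCz w hwcen⟩ := Subtype.ext <| by
            rw [ht]
            show x₀ * (w : Ω) * x₀⁻¹ = w
            rw [hZc _ hwZ x₀ hx₀P, mul_inv_cancel_right]
          have htw' : ∀ m : ℤ, t (⟨(w : Ω), hCz w hwcen⟩ ^ m) = ⟨(w : Ω), hCz w hwcen⟩ ^ m :=
            fun m => by rw [map_zpow, htw]
          induction m with
          | zero => simp
          | succ m ih =>
            rw [add_comm, zpow_one_add, MulAut.mul_apply, ih, map_mul, htw', hty, zpow_one_add,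
              ← mul_assoc, (Commute.zpow_self _ _).eq]
          | pred m ih =>
            apply t.injective
            rw [← MulAut.mul_apply, ← zpow_one_add, add_sub_cancel, ih, map_mul, htw', hty,
              ← mul_assoc, ← zpow_add_one, sub_add_cancel]
        rw [hpow] at h1
        refine Split.dvd_of_zpow_eq_one hwp hw1 (Subtype.ext ?_)
        have h2 := congrArg Subtype.val (mul_eq_right.1 h1)
        simpa using h2
      -- then `d t d⁻¹` would be a power with exponent divisible by `p`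
      have htp : t ^ (p : ℤ) = 1 := by
        refine MulEquiv.ext fun c => ?_
        obtain ⟨k, hk⟩ := htc c
        have hiter : ∀ m : ℕ, (t ^ m) c = ⟨x, hxC⟩ ^ (k * (m : ℤ)) * c := fun m => by
          induction m with
          | zero => simp
          | succ m ih =>
            rw [pow_succ', MulAut.mul_apply, ih, map_mul, map_zpow, htx, hk, ← mul_assoc,
              ← zpow_add]
            congr 2; push_cast; ring
        rw [zpow_natCast, hiter, mul_comm k, zpow_mul, zpow_natCast,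
          show (⟨x, hxC⟩ : C) ^ p = 1 from Subtype.ext (hZp x hxZ), one_zpow, one_mul]
        rfl
      obtain ⟨j', rfl⟩ := hj0
      rw [zpow_mul, htp, one_zpow, conj_eq_one_iff] at hj
      have h3 := DFunLike.congr_fun hj y'
      rw [hty, MulAut.one_apply, mul_eq_right] at h3
      exact hw1 (Subtype.ext (congrArg Subtype.val h3 : (w : Ω) = 1))
    -- a coordinate system: `C = ⟨x⟩ ⟨y⟩ D`
    let x' : C := ⟨x, hxC⟩
    let y' : C := ⟨y, hyC⟩
    have hx'p : x' ^ p = 1 := Subtype.ext (hZp x hxZ)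
    have hy'p : y' ^ p = 1 := Subtype.ext hyp
    have hcomC : ∀ a b : C, a * b = b * a := fun a b => Subtype.ext (hCc _ a.2 _ b.2)
    have hsolve : ∀ {z : C}, z ^ p = 1 → ∀ {k : ℤ}, z ^ k ≠ 1 → ∀ l : ℤ,
        ∃ m : ℤ, z ^ (k * m) = z ^ l := by
      intro z hz k hk l
      have hnd : ¬ (p : ℤ) ∣ k := by
        rintro ⟨a, rfl⟩
        exact hk (by rw [zpow_mul, zpow_natCast, hz, one_zpow])
      obtain ⟨a, b, hab⟩ := ((Nat.prime_iff_prime_int.1 hpp).coprime_iff_not_dvd.2 hnd).symm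
      refine ⟨a * l, ?_⟩
      rw [show k * (a * l) = l + (p : ℤ) * (-(b * l)) by linear_combination l * hab, zpow_add,
        zpow_mul z (p : ℤ), zpow_natCast, hz, one_zpow, mul_one]
    -- the two generators
    obtain ⟨kt, hkt⟩ := htc y'
    have hkt1 : x' ^ kt ≠ 1 := by
      intro h
      rw [h, one_mul, hty, mul_eq_right] at hkt
      exact hw1 (Subtype.ext (congrArg Subtype.val hkt : (w : Ω) = 1))
    obtain ⟨ku, hku⟩ := huc x'
    have hku1 : y' ^ ku ≠ 1 := fun h => hux (hku.trans (by rw [h, one_mul]))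
    obtain ⟨it, hit⟩ := hsolve hx'p hkt1 1
    obtain ⟨iu, hiu⟩ := hsolve hy'p hku1 (-1)
    rw [zpow_one] at hit
    rw [zpow_neg_one] at hiu
    set a : MulAut C := t ^ it with hadef
    set b : MulAut C := u ^ iu with hbdef
    have hzp : ∀ (g : MulAut C) (z c : C) (k : ℤ), g z = z → g c = z ^ k * c →
        ∀ m : ℤ, (g ^ m) c = z ^ (k * m) * c := by
      intro g z c k hgz hgc m
      induction m with
      | zero => simp
      | succ m ih =>
        rw [add_comm, zpow_one_add, MulAut.mul_apply, ih, map_mul, map_zpow, hgz, hgc,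
          ← mul_assoc, ← zpow_add]
        congr 2; ring
      | pred m ih =>
        apply g.injective
        rw [← MulAut.mul_apply, ← zpow_one_add, add_sub_cancel, ih, map_mul, map_zpow, hgz, hgc,
          ← mul_assoc, ← zpow_add]
        congr 2; ring
    have hax : a x' = x' := by
      rw [hadef, hzp t x' x' 0 htx (by rw [zpow_zero, one_mul]; exact htx), zero_mul, zpow_zero,
        one_mul]
    have hay : a y' = x' * y' := by rw [hadef, hzp t x' y' kt htx hkt, hit]
    have hby : b y' = y' := by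
      rw [hbdef, hzp u y' y' 0 huy (by rw [zpow_zero, one_mul]; exact huy), zero_mul, zpow_zero,
        one_mul]
    have hbx : b x' = y'⁻¹ * x' := by rw [hbdef, hzp u y' x' ku huy hku, hiu]
    set h : MulAut C := (a * b * a) * (a * b * a) with hhdef
    have hw1x : (a * b * a) x' = y'⁻¹ := by
      rw [MulAut.mul_apply, MulAut.mul_apply, hax, hbx, map_mul, map_inv, hay, hax,
        mul_inv_rev, mul_assoc, inv_mul_cancel, mul_one]
    have hw1y : (a * b * a) y' = x' := by
      rw [MulAut.mul_apply, MulAut.mul_apply, hay, map_mul, hbx, hby, map_mul, map_mul, map_inv,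
        hay, hax]
      have e5 : ∀ A B : C, (A * B)⁻¹ * A * (A * B) = A := fun A B => by
        rw [hcomC (A * B)⁻¹ A, mul_assoc, inv_mul_cancel, mul_one]
      simpa [mul_assoc] using e5 x' y'
    have hhx : h x' = x'⁻¹ := by rw [hhdef, MulAut.mul_apply, hw1x, map_inv, hw1y]
    have hhy : h y' = y'⁻¹ := by rw [hhdef, MulAut.mul_apply, hw1y, hw1x]
    have hhF : h ∈ F.autGroup C := by
      have haF := (F.autGroup C).zpow_mem htF it
      have hbF := (F.autGroup C).zpow_mem huF iu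
      have := (F.autGroup C).mul_mem ((F.autGroup C).mul_mem haF hbF) haF
      exact (F.autGroup C).mul_mem this this
    -- `h` commutes with `t`
    have hcommt : ∀ c : C, h (t c) = t (h c) := by
      intro c
      obtain ⟨k, hk⟩ := htc c
      obtain ⟨l, hl⟩ := hsolve hx'p hkt1 k
      -- `c₁` is fixed by `t`
      set c₁ := y' ^ (-l) * c with hc₁
      have htyl : t (y' ^ (-l)) = x' ^ (kt * (-l)) * y' ^ (-l) := by
        rw [map_zpow, hkt, Commute.mul_zpow (hcomC _ _), ← zpow_mul]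
      have htc₁ : t c₁ = c₁ := by
        rw [hc₁, map_mul, htyl, hk, hcomC (x' ^ (kt * -l)), mul_assoc, ← mul_assoc (x' ^ (kt * -l)),
          show x' ^ (kt * -l) * x' ^ k = 1 by
            rw [mul_neg, zpow_neg, hl, inv_mul_cancel], one_mul]
      obtain ⟨k', hk'⟩ := huc c₁
      obtain ⟨m, hm⟩ := hsolve hy'p hku1 k'
      set c₂ := x' ^ (-m) * c₁ with hc₂
      have htc₂ : t c₂ = c₂ := by rw [hc₂, map_mul, map_zpow, htx, htc₁]
      have huc₂ : u c₂ = c₂ := by
        rw [hc₂, map_mul, map_zpow, hku, hk', Commute.mul_zpow (hcomC _ _), ← zpow_mul,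
          hcomC (y' ^ (ku * -m)), mul_assoc, ← mul_assoc (y' ^ (ku * -m)),
          show y' ^ (ku * -m) * y' ^ k' = 1 by rw [mul_neg, zpow_neg, hm, inv_mul_cancel], one_mul]
      have hfix : ∀ (g : MulAut C), g c₂ = c₂ → ∀ n : ℤ, (g ^ n) c₂ = c₂ := fun g hg n => by
        rw [hzp g c₂ c₂ 0 hg (by rw [zpow_zero, one_mul]; exact hg), zero_mul, zpow_zero, one_mul]
      have hhc₂ : h c₂ = c₂ := by
        simp only [hhdef, hadef, hbdef, MulAut.mul_apply]
        rw [hfix t htc₂, hfix u huc₂, hfix t htc₂, hfix t htc₂, hfix u huc₂, hfix t htc₂]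
      have hc : c = y' ^ l * (x' ^ m * c₂) := by rw [hc₂, hc₁]; group
      rw [hc]
      simp only [map_mul, map_zpow, (hhx : h ⟨x, hxC⟩ = x'⁻¹), hhx, hhy, htx, (htx : t x' = x'), htc₂, hhc₂, hkt, map_inv]
      congr 1
      · rw [show h ⟨x, hxC⟩ = (⟨x, hxC⟩ : C)⁻¹ from hhx, inv_zpow, mul_inv_rev, hcomC]
      · rw [show t x' = x' from htx, hhx]
    -- extend `h` to `x₀`
    obtain ⟨ψ, hψ, hψv⟩ := (isReceptive_iff.1 hrecC).2 C (autFun h) ((mem_autGroup_iff hCS h).1 hhF)
    have hconjC : ∀ c ∈ C, x₀ * c * x₀⁻¹ ∈ C := fun c hc =>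
      conj_mem_of_mem_normalizer (hCn (hPS hx₀P)) hc
    have hhconj : ∀ c ∈ C, autFun h (x₀ * c * x₀⁻¹) = x₀ * autFun h c * x₀⁻¹ := fun c hc => by
      rw [autFun_apply _ (hconjC c hc), autFun_apply _ hc,
        show (⟨x₀ * c * x₀⁻¹, hconjC c hc⟩ : C) = t ⟨c, hc⟩ from Subtype.ext (ht ⟨c, hc⟩).symm,
        hcommt, ht]
    have hx₀D : x₀ ∈ nPhi S C (autFun h) :=
      ⟨hPS hx₀P, hCn (hPS hx₀P), x₀, hPS hx₀P, hhconj⟩
    have hCD' : C ≤ nPhi S C (autFun h) := le_nPhi ((mem_autGroup_iff hCS h).1 hhF).isMap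
    have hψP := isMap_mem_of_stronglyClosed hP hψ hx₀D hx₀P
    let V : P := X₀⁻¹ * ⟨ψ x₀, hψP⟩
    have hVC : (V : Ω) ∈ C := hcentC V fun c hc => by
      obtain ⟨c, rfl⟩ : ∃ c₁ : C, autFun h c₁ = c := ⟨h⁻¹ ⟨c, hc⟩, by
        rw [autFun_coe, show h (h⁻¹ ⟨c, hc⟩) = ⟨c, hc⟩ from h.apply_symm_apply _]⟩
      have e := hψ.map_conj hx₀D (hCD' c.2)
      rw [hψv _ c.2, hψv _ (hconjC _ c.2), hhconj _ c.2] at e
      show x₀⁻¹ * ψ x₀ * autFun h c * (x₀⁻¹ * ψ x₀)⁻¹ = autFun h c
      calc x₀⁻¹ * ψ x₀ * autFun h c * (x₀⁻¹ * ψ x₀)⁻¹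
          = x₀⁻¹ * (ψ x₀ * autFun h c * (ψ x₀)⁻¹) * x₀ := by group
        _ = autFun h c := by rw [← e]; group
    have hψp : (ψ x₀) ^ p = x₀ ^ p := by
      have e := hpowmul X₀ V
      rw [show X₀ * V = ⟨ψ x₀, hψP⟩ from mul_inv_cancel_left _ _, (hCiff V).1 hVC, mul_one] at e
      exact congrArg Subtype.val e
    have hxpZ : x₀ ^ p ∈ Z := hZpow x₀ hx₀P
    obtain ⟨k, hk⟩ := Subgroup.mem_zpowers_iff.1 (hxz.ge hxpZ)
    rw [← zpow_natCast, ← hψ.map_zpow hx₀D, zpow_natCast, ← hk, hψv _ (C.zpow_mem hxC k),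
      autFun_apply _ (C.zpow_mem hxC k)] at hψp
    have e : (h (x' ^ k) : C) = x' ^ k := Subtype.ext hψp
    rw [map_zpow, hhx, inv_zpow] at e
    refine hX0 (Subtype.ext ?_)
    show x₀ ^ p = 1
    rw [← hk]
    have hpk : (p : ℤ) ∣ k * 2 := by
      refine Split.dvd_of_zpow_eq_one hx'p (fun h0 => hx1 (congrArg Subtype.val h0)) ?_
      rw [zpow_mul, zpow_two]
      nth_rewrite 1 [← e]
      exact inv_mul_cancel _
    rcases (Nat.prime_iff_prime_int.1 hpp).dvd_or_dvd hpk with ⟨k', rfl⟩ | h2'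
    · rw [zpow_mul, zpow_natCast, hZp x hxZ, one_zpow]
    · exact absurd ((Nat.prime_dvd_prime_iff_eq hpp Nat.prime_two).1 (by exact_mod_cast h2')) hp2
  -- the series
  refine (isNormal_iff_series hS hF).2 ⟨2, ![⊥, Z, P], rfl, rfl, ?_, ?_⟩
  · rw [Fin.monotone_iff_le_succ]
    intro i
    fin_cases i
    · exact bot_le
    · exact hZP
  · intro i
    fin_cases i
    · refine ⟨hZclosed, ?_⟩
      show ⁅P, Z⁆ ≤ ⊥
      exact Subgroup.commutator_le.2 fun a ha b hb => Subgroup.mem_bot.2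
        (commutatorElement_eq_one_iff_mul_comm.2 (hZc b hb a ha))
    · refine ⟨hP, ?_⟩
      show ⁅P, P⁆ ≤ Z
      exact Subgroup.commutator_le.2 hZcomm

end CfsgLib.Fusion
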