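import Cfsg.Agent.Lib.Fusion.SaturationExtend
import Cfsg.Agent.Lib.Fusion.ModelNormalBase
import Cfsg.Agent.Lib.Fusion.PPrimeIndex

/-!
Automizers of fully normalised subgroups in a system generated by a class of automorphisms on a
family of subgroups closed upwards.
-/

set_option autoImplicit false
set_option linter.unusedSectionVars false
set_option linter.style.haveILetI false

namespace CfsgLib.Fusion.GenAutomizer

open Cfsg Cfsg.FusionSystem

variable {Ω : Type*} [Group Ω] {T : Subgroup Ω}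

/-- `W` is generated by the automorphisms in `G`, which live on the family `H`. -/
structure Data (W : FusionSystem T) (p : ℕ) (H : Subgroup Ω → Prop)
    (G : ∀ P : Subgroup Ω, MulAut P → Prop) : Prop where
  pgroup : IsPGroup p T
  le : ∀ {P}, H P → P ≤ T
  conj : ∀ {P Q}, H P → W.IsConj P Q → H Q
  mono : ∀ {P Q}, H P → P ≤ Q → Q ≤ T → H Q
  gen_fam : ∀ {P α}, G P α → H P
  mem : ∀ {P α}, G P α → α ∈ W.autGroup P
  minimal : ∀ {D : FusionSystem T}, (∀ P α, G P α → α ∈ D.autGroup P) → W.IsSubsystemOf D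
  transport : ∀ {P Q} {f : Ω → Ω} (hf : IsIso W P Q f) {α : MulAut P}, G P α →
    G Q (MulAut.congr hf.equiv α)
  coprime : ∀ {P α}, H P → α ∈ W.autGroup P → (orderOf α).Coprime p → G P α

variable {W : FusionSystem T} {p : ℕ} [Fact p.Prime] [Finite T] {H : Subgroup Ω → Prop}
variable {G : ∀ P : Subgroup Ω, MulAut P → Prop}

/-- The expected automizer. -/
def genGroup (G : ∀ P : Subgroup Ω, MulAut P → Prop) (T P : Subgroup Ω) : Subgroup (MulAut P) :=
  Subgroup.closure ((autInducedBy T P : Set (MulAut P)) ∪ {α | G P α})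

variable (h : Data W p H G)
include h

variable {P₀ : Subgroup Ω}

/-- The restrictions of stabilising automorphisms of a receptive subgroup, transported. -/
theorem eta_mem_genH (hP₀ : H P₀) {Rs X' : Subgroup Ω}
    (hRs : Rs ≤ T) (hpl : SatExtend.Placed W p Rs X') {ω : Ω → Ω}
    (hω : IsIso W X' P₀ ω)
    (hy : ∀ y ∈ normalizerIn (T) Rs, y ∈ Subgroup.normalizer (X' : Set Ω) →
      ∃ z ∈ T, ∀ x ∈ X', ω (y * x * y⁻¹) = z * ω x * z⁻¹)
    {η : MulAut Rs} (hη : η ∈ SatExtend.stabF W Rs X') :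
    MulAut.congr hω.equiv (resHom hpl.1 ⟨η, hη.2⟩) ∈ genGroup G T P₀ := by
  have := finite_of_le hRs
  have := finite_mulAut Rs
  have hT := h.pgroup
  set c : sclStabAut Rs X' →* MulAut P₀ :=
    (MulAut.congr hω.equiv).toMonoidHom.comp (resHom hpl.1)
  obtain ⟨D, hD⟩ := SatExtend.exists_placed_sylow hT hRs hpl
  have hX' : H X' := by
    obtain ⟨r, hr, -, -⟩ := hω.exists_symm
    exact h.conj hP₀ hr.isConj
  suffices hle : SatExtend.stabF W Rs X' ≤
      ((genGroup G T P₀).comap c).map (sclStabAut Rs X').subtype by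
    obtain ⟨b, hb, hbe⟩ := hle hη
    have hb' : b = (⟨η, hη.2⟩ : sclStabAut Rs X') := Subtype.ext hbe
    exact hb' ▸ hb
  refine ModelNormal.le_of_sylow_coprime D (fun x hx => ⟨⟨_, x.2.2⟩, ?_, rfl⟩) fun x hx hxo => ?_
  · rw [hD, Subgroup.mem_subgroupOf] at hx
    obtain ⟨y, hyT, hyv⟩ := (mem_autInducedBy_iff _ Rs _).1 hx.1
    have hyn : y ∈ normalizerIn (T) Rs :=
      ⟨hyT, mem_normalizer_of_conj_mem hRs fun z hz => hyv ⟨z, hz⟩ ▸ SetLike.coe_mem _⟩
    have hyX : y ∈ Subgroup.normalizer (X' : Set Ω) :=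
      mem_normalizer_of_conj_mem (hpl.1.trans hRs) fun z hz => by
        rw [← hyv ⟨z, hpl.1 hz⟩]
        exact (x.2.2 ⟨z, hpl.1 hz⟩).2 hz
    obtain ⟨z, hz, hzv⟩ := hy y hyn hyX
    refine Subgroup.subset_closure (Or.inl ((mem_autInducedBy_iff _ P₀ _).2 ⟨z, hz, fun w => ?_⟩))
    obtain ⟨v, rfl⟩ := hω.equiv.surjective w
    show (MulAut.congr hω.equiv (resHom hpl.1 ⟨_, x.2.2⟩) (hω.equiv v) : Ω) = z * ω v * z⁻¹
    rw [hω.congr_apply, resHom_apply]
    show ω ((x : MulAut Rs) ⟨v, hpl.1 v.2⟩) = _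
    rw [hyv]
    exact hzv v v.2
  · refine ⟨⟨x, hx.2⟩, Subgroup.subset_closure (Or.inr ?_), rfl⟩
    have hres := resHom_mem_autGroup hpl.1 hRs ⟨x, hx.2⟩ hx.1
    refine h.transport hω (h.coprime hX' hres ?_)
    refine Nat.Coprime.coprime_dvd_left (orderOf_map_dvd (resHom hpl.1) ⟨x, hx.2⟩) ?_
    rwa [← Subgroup.orderOf_coe]

/-- Automorphisms extending to larger subgroups are generated. -/
theorem ext_mem_genH (hs : SatExtend.Setup W p P₀) (hP₀ : H P₀)
    (hgood : ∀ {P}, W.IsConj P₀ P → SatExtend.Good W P₀ P) :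
    ∀ (d : ℕ) (B : Subgroup Ω) (f : Ω → Ω) (α : MulAut P₀),
      Nat.card (T) - Nat.card B = d → P₀ < B →
      B ≤ normalizerIn (T) P₀ → IsMap W B f →
      (∀ x : P₀, (α x : Ω) = f x) → α ∈ genGroup G T P₀ := by
  intro d
  induction d using Nat.strong_induction_on with
  | _ d ih =>
  intro B f α hd hPB hBN hf hv
  set N₀ := normalizerIn T P₀ with hN₀
  have hN₀T : N₀ ≤ T := inf_le_left
  have hBT : B ≤ T := hBN.trans hN₀T
  have := finite_of_le hBT
  have := finite_of_le hN₀T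
  have hfP : IsIso W P₀ P₀ f :=
    ((mem_autGroup_iff hs.le α).1 (mem_autGroup_of_isMap (hf.mono hPB.le) α hv)).congr
      fun x hx => by rw [autFun_apply α hx, hv]
  obtain ⟨B₁, hB₁⟩ := hf.exists_iso
  obtain ⟨f₁, hf₁, hf₁1, -⟩ := hB₁.exists_symm
  have hP₀B₁ : P₀ ≤ B₁ := fun y hy => by
    obtain ⟨x, hx, rfl⟩ := hfP.surj hy
    exact hB₁.mem (hPB.le hx)
  have hB₁N : B₁ ≤ N₀ := fun y hy => by
    obtain ⟨x, hx, rfl⟩ := hB₁.surj hy
    exact hf.mem_normalizerIn hPB.le hfP hx (hBN hx).2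
  have hf₁P : IsIso W P₀ P₀ f₁ := by
    refine ⟨hf₁.isMap.mono hP₀B₁, ?_⟩
    conv_lhs => rw [← hfP.image_eq]
    rw [Set.image_image]
    exact (Set.image_congr fun x hx => hf₁1 x (hPB.le hx)).trans (Set.image_id _)
  obtain ⟨Rs, hRs, hRa, hRr⟩ := hs.sat P₀ B (isConj_refl hs.le) hPB hBT
  obtain ⟨k, hk⟩ := isConj_iff.1 hRs
  obtain ⟨X, hX⟩ := (hk.isMap.mono hPB.le).exists_iso
  obtain ⟨δ, hδ, X', hX', hpl⟩ := SatExtend.exists_placed hs.pgroup hRa (X := X) fun y hy => by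
    obtain ⟨x, hx, rfl⟩ := hX.surj hy
    exact hk.mem (hPB.le hx)
  have hu : IsIso W B Rs (autFun δ ∘ k) := hk.comp ((mem_autGroup_iff hRa.1 δ).1 hδ)
  have huP : IsIso W P₀ X' (autFun δ ∘ k) :=
    ⟨hu.isMap.mono hPB.le, by rw [Set.image_comp, hX.image_eq, hX']⟩
  have hRsT := hRa.1
  have := finite_of_le hRsT
  have hX'Rs : X' ≤ Rs := hpl.1
  have hXsurj : ∀ {u : Ω → Ω}, IsIso W P₀ X' u → ∀ x : X', ∃ y : P₀, u y = x :=
    fun {u} hu x => by
      obtain ⟨y, hy, hye⟩ := hu.surj x.2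
      exact ⟨⟨y, hy⟩, hye⟩
  rcases eq_or_ne B N₀ with hBe | hBne
  · -- the whole normaliser
    set u := autFun δ ∘ k
    obtain ⟨r, hr, hr1, -⟩ := hu.exists_symm
    obtain ⟨η, hη, hηv⟩ := exists_mem_autGroup
      ((hr.comp (hf.isIso_of_card_le (fun x hx => hBe ▸ hB₁N (hB₁.mem hx)) le_rfl)).comp hu)
    have hrP : IsIso W X' P₀ r := by
      refine ⟨hr.isMap.mono hX'Rs, ?_⟩
      rw [← huP.image_eq, Set.image_image]
      exact (Set.image_congr fun x hx => hr1 x (hPB.le hx)).trans (Set.image_id _)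
    have hηs : η ∈ sclStabAut Rs X' := SatExtend.stab_iff hX'Rs fun z hz => by
      obtain ⟨x, hx, hxe⟩ := huP.surj hz
      rw [hηv]
      show u (f (r z)) ∈ X'
      rw [← hxe, hr1 x (hPB.le hx)]
      exact huP.mem (hfP.mem hx)
    have hRsN : Rs ≤ normalizerIn T X' := fun y hy => by
      obtain ⟨x, hx, rfl⟩ := hu.surj hy
      exact hu.isMap.mem_normalizerIn hPB.le huP hx (hBN hx).2
    have := finite_of_le (S := T) (P := normalizerIn T X') inf_le_left
    have hNX : normalizerIn T X' = Rs := (Subgroup.eq_of_le_of_card_ge hRsN (by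
      rw [hu.card_eq, hBe]
      exact hs.fn.2 X' huP.isConj)).symm
    have hmem := eta_mem_genH h hP₀ hRsT hpl hrP (fun y hy hyX => by
      have hyR : y ∈ Rs := hNX ▸ ⟨hy.1, hyX⟩
      exact ⟨r y, hr.isMap.mem hyR, fun x hx => hr.isMap.map_conj hyR (hX'Rs hx)⟩)
      (η := η) ⟨hη, hηs⟩
    convert hmem using 1
    refine MulEquiv.ext fun w => Subtype.ext ?_
    obtain ⟨v, rfl⟩ := hrP.equiv.surjective w
    rw [hrP.congr_apply, resHom_apply, hv]
    show f (r v) = r (η ⟨v, hX'Rs v.2⟩ : Ω)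
    rw [hηv]
    show f (r v) = r (u (f (r v)))
    rw [hr1 _ (hBe ▸ hB₁N (hB₁.mem (hr.mem (hX'Rs v.2))))]
  · -- a proper subgroup of the normaliser
    have hB₁ne : B₁ ≠ N₀ := fun e => hBne (Subgroup.eq_of_le_of_card_ge hBN
      (by rw [← e, hB₁.card_eq]))
    set Bp := normalizerIn N₀ B
    set B₁p := normalizerIn N₀ B₁
    have hlt : B < Bp := lt_normalizerIn (hs.pgroup.to_le hN₀T) hBN hBne
    have hlt₁ : B₁ < B₁p := lt_normalizerIn (hs.pgroup.to_le hN₀T) hB₁N hB₁ne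
    obtain ⟨u', hu', hu'B, hu'P⟩ := SatExtend.exists_ext hs.pgroup hRr hpl hu hPB.le huP
      (M := Bp) (fun x hx => ⟨hN₀T hx.1, hx.2⟩) inf_le_left
    obtain ⟨v', hv', hv'B, hv'P⟩ := SatExtend.exists_ext hs.pgroup hRr hpl (hf₁.comp hu) hP₀B₁
      (hf₁P.comp huP) (M := B₁p) (fun x hx => ⟨hN₀T hx.1, hx.2⟩) inf_le_left
    obtain ⟨r, hr, hr1, -⟩ := hu'B.exists_symm
    obtain ⟨η, hη, hηv⟩ := exists_mem_autGroup ((hr.comp hB₁).comp hv'B)
    have hηs : η ∈ sclStabAut Rs X' := SatExtend.stab_iff hX'Rs fun z hz => by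
      obtain ⟨x, hx, hxe⟩ := hu'P.surj hz
      rw [hηv]
      show v' (f (r z)) ∈ X'
      rw [← hxe, hr1 x (hPB.le hx)]
      exact hv'P.mem (hfP.mem hx)
    obtain ⟨φ, hφ, hφP⟩ := hgood hu'P.isConj
    have hmem := eta_mem_genH h hP₀ hRsT hpl hφP (fun y hy hyX =>
      have hyN : y ∈ normalizerIn T X' := ⟨hy.1, hyX⟩
      ⟨φ y, hφ.mem hyN, fun x hx => hφ.map_conj hyN (le_normalizerIn hφP.le_left hx)⟩)
      (η := η) ⟨hη, hηs⟩
    have hP₀p : P₀ < Bp := hPB.trans hlt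
    have hP₀p₁ : P₀ < B₁p := lt_of_le_of_lt hP₀B₁ hlt₁
    have ha₂ : IsMap W Bp (φ ∘ u') := hu'.comp hφ fun x hx =>
      hu'.mem_normalizerIn hP₀p.le hu'P hx (hx.1).2
    have ha₁ : IsMap W B₁p (φ ∘ v') := hv'.comp hφ fun x hx =>
      hv'.mem_normalizerIn hP₀p₁.le hv'P hx (hx.1).2
    obtain ⟨a₂, ha₂m, ha₂v⟩ := exists_mem_autGroup (hu'P.comp hφP)
    obtain ⟨a₁, ha₁m, ha₁v⟩ := exists_mem_autGroup (hv'P.comp hφP)
    have hBpT : Bp ≤ T := inf_le_left.trans hN₀T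
    have hB₁pT : B₁p ≤ T := inf_le_left.trans hN₀T
    have hc2 : Nat.card B < Nat.card Bp := SatExtend.card_lt_card hBpT hlt
    have hc1 : Nat.card B < Nat.card B₁p := hB₁.card_eq ▸ SatExtend.card_lt_card hB₁pT hlt₁
    have hc3 : Nat.card Bp ≤ Nat.card T := Subgroup.card_le_of_le hBpT
    have hc4 : Nat.card B₁p ≤ Nat.card T := Subgroup.card_le_of_le hB₁pT
    have hTe : Nat.card T = Nat.card (T) := rfl
    have h2 := ih _ (by omega) Bp _ a₂ rfl hP₀p inf_le_left ha₂ ha₂v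
    have h1 := ih _ (by omega) B₁p _ a₁ rfl hP₀p₁ inf_le_left ha₁ ha₁v
    have h3 := (genGroup G T P₀).mul_mem ((genGroup G T P₀).mul_mem ((genGroup G T P₀).inv_mem h1) hmem) h2
    convert h3 using 1
    refine MulEquiv.ext fun x => ?_
    apply a₁.injective
    rw [MulAut.mul_apply, MulAut.mul_apply, MulAut.apply_inv_self]
    refine Subtype.ext ?_
    obtain ⟨w, hw⟩ := hφP.equiv.surjective (a₂ x)
    rw [← hw, hφP.congr_apply, resHom_apply]
    have hwe : (w : Ω) = u' x := hφP.isMap.injOn w.2 (hu'P.mem x.2) (by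
      have := congrArg (Subtype.val : P₀ → Ω) hw
      rwa [ha₂v] at this)
    have hη' : ((η ⟨(w : Ω), hX'Rs w.2⟩ : Rs) : Ω) = v' (f x) := by
      rw [hηv]
      show v' (f (r w)) = _
      rw [hwe, hr1 x (hPB.le x.2)]
    rw [ha₁v]
    show φ (v' (α x : Ω)) = φ ((η ⟨(w : Ω), hX'Rs w.2⟩ : Rs) : Ω)
    rw [hη', hv]

/-- The automorphism group of a fully normalised good subgroup. -/
theorem autGroup_le_genH (hP₀ : H P₀) (hfn : W.IsFullyNormalized P₀)
    (hsat : ∀ R : Subgroup Ω, H R → Nat.card P₀ < Nat.card R →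
      ∃ Q, W.IsConj R Q ∧ W.IsFullyAutomized p Q ∧ W.IsReceptive Q) :
    W.autGroup P₀ ≤ genGroup G T P₀ := by
  have hPT := h.le hP₀
  have := finite_of_le hPT
  rcases eq_or_ne P₀ T with he | hne
  · -- the whole of `T`
    set M : Subgroup Ω → (Ω → Ω) → Prop := fun P f =>
      IsMap W P f ∧ (P = P₀ → ∃ α ∈ genGroup G T P₀, ∀ x : P₀, (α x : Ω) = f x)
    have hM : PPrime.IsSubPred W M := {
      isMap := fun hf => hf.1
      congr := fun {P f g} hf hfg => ⟨hf.1.congr hfg, fun e => by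
        obtain ⟨α, hα, hv⟩ := hf.2 e
        exact ⟨α, hα, fun x => (hv x).trans (hfg x (e ▸ x.2))⟩⟩
      conj := fun {P g} hP hg => ⟨isMap_conj hP hg, fun e => by
        have hgn : g ∈ Subgroup.normalizer (P₀ : Set Ω) :=
          Subgroup.le_normalizer (he ▸ hg)
        exact ⟨conjAut P₀ hgn, Subgroup.subset_closure (Or.inl (conjAut_mem_autInducedBy hgn hg)),
          fun x => conjAut_apply P₀ hgn x⟩⟩
      comp := fun {P Q f g} hf hg hm => ⟨hf.1.comp hg.1 hm, fun e => by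
        obtain ⟨α, hα, hv⟩ := hf.2 e
        have hQ : Q = P₀ := le_antisymm (he ▸ hg.1.le) fun y hy => by
          have hy' : ((α⁻¹ ⟨y, hy⟩ : P₀) : Ω) ∈ P := by rw [e]; exact SetLike.coe_mem _
          have h1 := hm _ hy'
          rwa [← hv, MulAut.apply_inv_self] at h1
        obtain ⟨β, hβ, hw⟩ := hg.2 hQ
        refine ⟨β * α, (genGroup G T P₀).mul_mem hβ hα, fun x => ?_⟩
        rw [MulAut.mul_apply, hw, hv]
        rfl⟩
      inv := fun {P Q f r} hf hi hr h1 => ⟨hr.isMap, fun e => by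
        have hPe : P = P₀ := Subgroup.eq_of_le_of_card_ge (he ▸ hi.le_left)
          (by rw [← hi.card_eq, e])
        obtain ⟨α, hα, hv⟩ := hf.2 hPe
        refine ⟨α⁻¹, (genGroup G T P₀).inv_mem hα, fun x => ?_⟩
        have hy' : ((α⁻¹ x : P₀) : Ω) ∈ P := by rw [hPe]; exact SetLike.coe_mem _
        have h2 := h1 _ hy'
        rw [← hv, MulAut.apply_inv_self] at h2
        exact h2.symm⟩ }
    intro a ha
    have hm : IsMap (PPrime.ofPred W M hM) P₀ (autFun a) := by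
      refine isMap_of_subsystem (h.minimal fun P β hβ => ?_)
        ((mem_autGroup_iff hPT a).1 ha).isMap
      have hβm := ((mem_autGroup_iff (h.le (h.gen_fam hβ)) β).1 (h.mem hβ)).isMap
      refine mem_autGroup_of_isMap ((PPrime.isMap_ofPred hM).2 ⟨hβm, fun e => ?_⟩) β
        fun x => (autFun_coe β x).symm
      subst e
      exact ⟨β, Subgroup.subset_closure (Or.inr hβ), fun x => (autFun_coe β x).symm⟩
    obtain ⟨α, hα, hv⟩ := ((PPrime.isMap_ofPred hM).1 hm).2 rfl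
    have e : a = α := MulEquiv.ext fun x => Subtype.ext (by rw [hv, autFun_coe])
    exact e ▸ hα
  have hs : SatExtend.Setup W p P₀ := by
    refine ⟨h.pgroup, hPT, hne, hfn, fun P R hc hPR hR => ?_⟩
    refine hsat R (h.mono (h.conj hP₀ hc) hPR.le hR) ?_
    obtain ⟨g, hg⟩ := isConj_iff.1 hc
    exact hg.card_eq ▸ SatExtend.card_lt_card hR hPR
  let G' : ∀ P : Subgroup Ω, Set (MulAut P) := fun P => {α | G P α}
  have hG : ∀ P, G' P ⊆ (W.autGroup P : Set _) := fun P α hα => h.mem hα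
  have hgen : SatExtend.GeneratedMod W P₀ G' := by
    intro D h₁ h₂
    refine h.minimal fun P α hα => ?_
    by_cases hc : W.IsConj P₀ P
    · exact mem_autGroup_of_isMap (h₂ P hc α hα) α fun x => (autFun_coe α x).symm
    · obtain ⟨φ, hφ, hv⟩ := ((mem_autGroup_iff (h.le (h.gen_fam hα)) α).1 (h.mem hα)).isMap
      exact mem_autGroup_of_isMap ⟨φ, h₁ P hc hφ, hv⟩ α fun x => (autFun_coe α x).symm
  intro a ha
  have hgood : ∀ {P}, W.IsConj P₀ P → SatExtend.Good W P₀ P :=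
    fun hP => SatExtend.all_good' hs hgen hG hP
  refine (Subgroup.closure_le _).2 ?_
    (SatExtend.autGroup_le_closure' hs hgen hG (fun hf _ α hα => h.transport hf hα) ha)
  rintro α (⟨R, hPR, f, hf, hv⟩ | hα)
  · have := finite_of_le hf.le
    have hlt : P₀ < normalizerIn R P₀ :=
      lt_normalizerIn ((h.pgroup).to_le hf.le) hPR.le hPR.ne
    exact ext_mem_genH h hs hP₀ hgood _ _ f α rfl hlt (inf_le_inf_right _ hf.le)
      (hf.mono inf_le_left) hv
  · exact Subgroup.subset_closure (Or.inr hα)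

end CfsgLib.Fusion.GenAutomizer
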