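import Mathlib
import Cfsg.Agent.Lib.Fusion.CenterThompson
import Cfsg.Agent.Lib.Transfer.ThompsonBasics

/-!
A saturated system is generated by the centralizer of `℧¹(Z(S))` and the normalizer of `J(S)`.
-/

set_option autoImplicit false

namespace CfsgLib.Fusion

open Cfsg
open Cfsg.FusionSystem hiding inv_mem

universe u

variable {p : ℕ} [Fact p.Prime]

/-- The factorization `G = C_G(℧¹ Z(P)) N_G(W(P))` for functors with a quadratic element. -/
theorem factor_of_quadratic (W : ∀ (Q : Type u) [Group Q], Subgroup Q)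
    (hW2 : ∀ (Q R : Type u) [Group Q] [Group R] [Finite Q], IsPGroup p Q → ∀ φ : Q ≃* R,
      (W Q).map φ.toMonoidHom = W R)
    (hq : ∀ (G : Type u) [Group G] [Finite G] (P : Sylow p G),
      Subgroup.centralizer ((Cfsg.pCore p G : Subgroup G) : Set G) ≤ Cfsg.pCore p G →
      ¬ (((W ↥(P : Subgroup G)).map (P : Subgroup G).subtype : Subgroup G)).Normal →
      ∃ g : G, g ∈ (P : Subgroup G) ∧ g ∉ Cfsg.pCore p G ∧
        ⁅⁅Subgroup.center ↥(Cfsg.pCore p G) |>.map (Cfsg.pCore p G).subtype, Subgroup.zpowers g⁆,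
          Subgroup.zpowers g⁆ = ⊥) :
    ∀ (n : ℕ) (G : Type u) [Group G] [Finite G], Nat.card G = n → ∀ (P : Sylow p G),
      Subgroup.centralizer ((Cfsg.pCore p G : Subgroup G) : Set G) ≤ Cfsg.pCore p G →
      ∀ g : G, ∃ c k : G, g = c * k ∧
        (∀ w ∈ (P : Subgroup G), w ∈ Subgroup.centralizer ((P : Subgroup G) : Set G) →
          c * w ^ p * c⁻¹ = w ^ p) ∧
        k ∈ Subgroup.normalizer
          (((W ↥(P : Subgroup G)).map (P : Subgroup G).subtype : Subgroup G) : Set G) := by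
  intro n
  induction n using Nat.strong_induction_on with
  | _ n IH =>
  intro G _ _ hn P hc g
  set WP := (W ↥(P : Subgroup G)).map (P : Subgroup G).subtype with hWP
  by_cases hWn : WP.Normal
  · exact ⟨1, g, (one_mul g).symm, fun w _ _ => by group,
      by rw [Subgroup.normalizer_eq_top_iff.2 hWn]; exact Subgroup.mem_top g⟩
  obtain ⟨K, hKn, hKw, x, hxP, hxQ, hxK⟩ := exists_normal_centralizing_powers W hq P hc hWn
  set Q := Cfsg.pCore p G with hQ
  have hQn : Q.Normal := CfsgLib.Fitting.pCore_normal p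
  have hQP : Q ≤ (P : Subgroup G) := fun y hy =>
    le_sylow_of_normal_pGroup P hQn (CfsgLib.Fitting.pCore_isPGroup p) hy
  set X := (P : Subgroup G) ⊓ K with hX
  set M := Subgroup.normalizer (X : Set G) with hM
  have hMt : M ≠ ⊤ := fun h => hxQ (CfsgLib.Fitting.le_pCore
    (Subgroup.normalizer_eq_top_iff.1 h) (P.isPGroup'.to_le inf_le_left) ⟨hxP, hxK⟩)
  have hPM : (P : Subgroup G) ≤ M := fun y hy =>
    mem_normalizer_of_conj_mem (S := (P : Subgroup G)) inf_le_left fun z hz =>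
      ⟨(P : Subgroup G).mul_mem ((P : Subgroup G).mul_mem hy hz.1) ((P : Subgroup G).inv_mem hy),
        hKn.conj_mem z hz.2 y⟩
  let R : Sylow p K := (P.isPGroup'.comap_of_injective K.subtype K.subtype_injective).toSylow
    (CfsgLib.CharCore.not_dvd_relIndex_of_isSubnormal hKn.isSubnormal P)
  have htop := Sylow.normalizer_sup_eq_top R
  have hRX : (R : Subgroup K).map K.subtype = X := by
    show ((P : Subgroup G).comap K.subtype).map K.subtype = X
    rw [Subgroup.map_comap_eq, Subgroup.range_subtype, hX, inf_comm]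
  rw [hRX, ← hM, sup_comm] at htop
  obtain ⟨y, hy, m, hm, rfl⟩ := Subgroup.mem_sup_of_normal_left.1
    (htop ▸ Subgroup.mem_top g : g ∈ K ⊔ M)
  let P' : Sylow p M := P.subtype hPM
  have hQM : Q.subgroupOf M ≤ Cfsg.pCore p M :=
    CfsgLib.Fitting.le_pCore (hQn.subgroupOf M)
      ((CfsgLib.Fitting.pCore_isPGroup p).comap_of_injective M.subtype M.subtype_injective)
  have hc' : Subgroup.centralizer ((Cfsg.pCore p M : Subgroup M) : Set M) ≤ Cfsg.pCore p M :=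
    fun z hz => hQM (hc fun q hq =>
      congrArg Subtype.val (hz ⟨q, (hQP.trans hPM) hq⟩ (hQM hq)))
  let e : (P : Subgroup G) ≃* (P' : Subgroup M) := (Subgroup.subgroupOfEquivOfLe hPM).symm
  have hW' : ∀ z : M, z ∈ (W ↥(P' : Subgroup M)).map (P' : Subgroup M).subtype ↔ (z : G) ∈ WP := by
    intro z
    rw [← hW2 _ _ P.isPGroup' e]
    constructor
    · rintro ⟨_, ⟨w, hw, rfl⟩, rfl⟩
      exact ⟨w, hw, rfl⟩
    · rintro ⟨w, hw, hwe⟩
      exact ⟨e w, ⟨w, hw, rfl⟩, Subtype.ext hwe⟩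
  have hlt : Nat.card M < n := by
    rw [← hn]
    exact lt_of_le_of_ne (Subgroup.card_le_card_group M) fun h =>
      hMt (Subgroup.eq_top_of_card_eq M h)
  obtain ⟨c, k, hck, hcw, hk⟩ := IH _ hlt M rfl P' hc' ⟨m, hm⟩
  refine ⟨y * c, k, ?_, fun w hwP hw => ?_, mem_normalizer_of_conj_mem (S := (P : Subgroup G))
    (Subgroup.map_subtype_le _) fun z hz => ?_⟩
  · rw [mul_assoc]
    exact congrArg (y * ·) (congrArg Subtype.val hck)
  · have h1 := congrArg Subtype.val (hcw ⟨w, hPM hwP⟩ (show w ∈ (P : Subgroup G) from hwP)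
      (fun z hz => Subtype.ext (hw z hz)))
    calc y * c * w ^ p * (y * c)⁻¹ = y * ((c : G) * w ^ p * (c : G)⁻¹) * y⁻¹ := by group
      _ = y * w ^ p * y⁻¹ := by rw [show (c : G) * w ^ p * (c : G)⁻¹ = w ^ p from h1]
      _ = w ^ p := hKw w hwP hw y hy
  · exact (hW' _).1 ((Subgroup.mem_normalizer_iff.1 hk ⟨z, hPM (Subgroup.map_subtype_le _ hz)⟩).1
      ((hW' _).2 hz))

omit [Fact p.Prime] in
/-- Isomorphisms of a system carry a functor along. -/
theorem image_functorOf {W : ∀ (Q : Type u) [Group Q], Subgroup Q}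
    (hW2 : ∀ (Q R : Type u) [Group Q] [Group R] [Finite Q], IsPGroup p Q → ∀ φ : Q ≃* R,
      (W Q).map φ.toMonoidHom = W R) {Ω : Type u} [Group Ω] {S : Subgroup Ω} [Finite S]
    {F : FusionSystem S} (hS : IsPGroup p S) {P Q : Subgroup Ω} {f : Ω → Ω}
    (h : IsIso F P Q f) : f '' (functorOf W P : Set Ω) = functorOf W Q := by
  obtain ⟨φ, hφ, hv⟩ := h.isMap
  have := finite_of_le h.le_left
  have hr : φ.range = Q := by
    ext y
    constructor
    · rintro ⟨x, rfl⟩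
      rw [hv]; exact h.mem x.2
    · intro hy
      obtain ⟨x, hx, rfl⟩ := h.surj hy
      exact ⟨⟨x, hx⟩, hv _⟩
  let e : P ≃* Q := (MonoidHom.ofInjective (F.injective_of_mem hφ)).trans (MulEquiv.subgroupCongr hr)
  ext y
  constructor
  · rintro ⟨_, ⟨x, hx, rfl⟩, rfl⟩
    refine ⟨e x, ?_, (hv x).symm.symm⟩
    rw [← hW2 P Q (hS.to_le h.le_left) e]
    exact ⟨x, hx, rfl⟩
  · rintro ⟨_, hw, rfl⟩
    rw [← hW2 P Q (hS.to_le h.le_left) e] at hw
    obtain ⟨x, hx, rfl⟩ := hw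
    exact ⟨x, ⟨x, hx, rfl⟩, (hv x).symm⟩

theorem functorOf_jFunctor_eq {G : Type u} [Group G] (T : Subgroup G) :
    functorOf jFunctor T = CfsgLib.Transfer.thompsonJ 0 T := by
  rw [functorOf_jFunctor, CfsgLib.Transfer.thompsonSubgroupAOf_eq]

omit [Fact p.Prime] in
/-- Elements of a finite subgroup that centralize its Thompson subgroup lie in it. -/
theorem mem_functorOf_jFunctor_of_commute {G : Type u} [Group G] (T : Subgroup G) [Finite T]
    {z : G} (hzT : z ∈ T) (hz : z ∈ Subgroup.centralizer (functorOf jFunctor T : Set G)) :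
    z ∈ functorOf jFunctor T := by
  have hz' : ∀ a ∈ jFunctor T, a * (⟨z, hzT⟩ : T) = ⟨z, hzT⟩ * a := fun a ha =>
    Subtype.ext (hz _ ⟨a, ha, rfl⟩)
  obtain ⟨A, hA⟩ := CfsgLib.Transfer.thompsonJ_nonempty 0 (⊤ : Subgroup T)
  refine ⟨⟨z, hzT⟩, le_sSup hA ?_, rfl⟩
  exact ZJ.mem_of_commute hA (Subgroup.mem_top _) (pow_zero _)
    fun a ha => hz' a (le_sSup hA ha)

variable {Ω : Type u} [Group Ω] {S : Subgroup Ω} [Finite S] {F E : FusionSystem S}

/-- One step: automorphisms of a centric configuration lie in `E`, or `J` is small. -/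
theorem isMap_or_thompson_le (hS : IsPGroup p S) (hF : F.IsSaturated p)
    (hC : ∀ P f, IsMap F P f →
      (∀ w ∈ S, w ∈ Subgroup.centralizer (S : Set Ω) → w ^ p ∈ P ∧ f (w ^ p) = w ^ p) →
      IsMap E P f)
    {V : Subgroup Ω} (hVn : F.IsFullyNormalized V) (hVc : F.IsCentric V) {D : Subgroup Ω}
    (hVD : V ≤ D) (hD : D ≤ normalizerIn S V)
    (hbig : ∀ (A : Subgroup Ω) (g : Ω → Ω), Nat.card D < Nat.card A → IsMap F A g → IsMap E A g)
    {α : Ω → Ω} (hα : IsIso F D D α) (hαV : α '' (V : Set Ω) = V) :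
    IsMap E D α ∨ functorOf jFunctor (normalizerIn S V) ≤ D := by
  refine or_iff_not_imp_right.2 fun hJD => ?_
  set T := normalizerIn S V with hT
  have hTS : T ≤ S := inf_le_left
  have := finite_of_le hTS
  obtain ⟨N, hN⟩ : ∃ N, F.IsNormalizerSystem V N := ⟨normalizerSystem F V hVn.1, fun _ => rfl⟩
  have hCN := centricNormal_normalizerSystem hS hF hVn hVc hN
  obtain ⟨L, _, ι, hL⟩ := exists_model (hS.to_le hTS) (⟨hCN.hF, V, hCN.hn, hCN.hc⟩ : N.IsConstrained p)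
  have : Finite L := hL.1
  obtain ⟨hinj, hiff⟩ := hL.2.1
  obtain ⟨T₁, hT₁⟩ := hL.2.2.1
  have hαN : IsMap N D α := (isMap_normalizerSystem_iff hN).2
    ⟨hD, fun x hx => hD (hα.mem hx), α, by rw [sup_eq_left.2 hVD]; exact hα.isMap, fun _ _ => rfl,
      hαV⟩
  obtain ⟨g, hg⟩ := exists_conj_of_isMap hL.2.1 hαN
  obtain ⟨c, k, hgck, hcw, hk⟩ := factor_of_quadratic jFunctor jFunctor_map
    (fun H _ _ R _ hRn => exists_quadratic_element R hRn) _ L rfl T₁ hL.2.2.2 g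
  -- move the intermediate subgroup into `T`
  set J₁ := (jFunctor ↥(T₁ : Subgroup L)).map (T₁ : Subgroup L).subtype with hJ₁
  let Z : Set L := {y | ∃ w, w ∈ (T₁ : Subgroup L) ∧
    w ∈ Subgroup.centralizer ((T₁ : Subgroup L) : Set L) ∧ y = w ^ p}
  set M := Subgroup.normalizer (J₁ : Set L) ⊓ Subgroup.centralizer Z with hM
  have hT₁M : (T₁ : Subgroup L) ≤ M := by
    refine le_inf (Subgroup.le_normalizer.trans fun y hy => ?_) fun y hy => ?_
    · exact normalizer_le_functorOf jFunctor (jFunctor_map (p := p)) (S := (T₁ : Subgroup L)) le_rfl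
        T₁.isPGroup' hy
    · rintro _ ⟨w, hwT, hwc, rfl⟩
      exact (Subgroup.pow_mem _ hwc p y hy).symm
  let Dk : Subgroup L := ((D.subgroupOf T).map ι).map (MulAut.conj k).toMonoidHom
  have hDkM : Dk ≤ M := by
    rintro _ ⟨_, ⟨d, hd, rfl⟩, rfl⟩
    show k * ι d * k⁻¹ ∈ M
    have hdT : ι d ∈ (T₁ : Subgroup L) := hT₁ ▸ ⟨d, rfl⟩
    have hd : (d : Ω) ∈ D := hd
    refine ⟨Subgroup.mul_mem _ (Subgroup.mul_mem _ hk (hT₁M hdT).1) (Subgroup.inv_mem _ hk), ?_⟩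
    have h1 := hg (d : Ω) hd
    rw [homExt_apply ι (hD hd), homExt_apply ι (hD (hα.mem hd))] at h1
    have h2 : k * ι d * k⁻¹ = c⁻¹ * ι ⟨α d, hD (hα.mem hd)⟩ * c := by
      rw [h1, hgck]
      show k * ι ⟨((d : T) : Ω), hD hd⟩ * k⁻¹ = _
      group
    have h3 : ι ⟨α d, hD (hα.mem hd)⟩ ∈ Subgroup.centralizer Z :=
      (hT₁M (hT₁ ▸ ⟨_, rfl⟩)).2
    have hcZ : c ∈ Subgroup.centralizer Z := by
      rintro _ ⟨w, hwT, hwc, rfl⟩
      exact (mul_inv_eq_iff_eq_mul.1 (hcw w hwT hwc)).symm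
    rw [h2]
    exact Subgroup.mul_mem _ (Subgroup.mul_mem _ (Subgroup.inv_mem _ hcZ) h3) hcZ
  have hDkp : IsPGroup p (Dk.subgroupOf M) :=
    ((((hS.to_le hTS).to_subgroup _).map ι).map _).comap_of_injective _ M.subtype_injective
  obtain ⟨R₁, hR₁⟩ := hDkp.exists_le_sylow
  obtain ⟨m, hm⟩ := MulAction.exists_smul_eq M R₁ (T₁.subtype hT₁M)
  have hmk : ∀ d : Ω, ∀ hd : d ∈ D, ∃ t : T, ι t = ((m : L) * k) * ι ⟨d, hD hd⟩ * ((m : L) * k)⁻¹ := by
    intro d hd
    have h1 : (⟨k * ι ⟨d, hD hd⟩ * k⁻¹, hDkM ⟨_, ⟨⟨d, hD hd⟩, hd, rfl⟩, rfl⟩⟩ : M) ∈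
        (R₁ : Subgroup M) := hR₁ ⟨_, ⟨⟨d, hD hd⟩, hd, rfl⟩, rfl⟩
    have h2 : m * (⟨k * ι ⟨d, hD hd⟩ * k⁻¹, hDkM ⟨_, ⟨⟨d, hD hd⟩, hd, rfl⟩, rfl⟩⟩ : M) * m⁻¹ ∈
        (T₁.subtype hT₁M : Subgroup M) := by
      rw [← hm, Sylow.coe_subgroup_smul, Subgroup.mem_pointwise_smul_iff_inv_smul_mem]
      simpa [mul_assoc] using h1
    have h3 : (m : L) * (k * ι ⟨d, hD hd⟩ * k⁻¹) * (m : L)⁻¹ ∈ ι.range := hT₁ ▸ h2
    obtain ⟨t, ht⟩ := h3
    exact ⟨t, by rw [ht]; group⟩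
  set c' := c * (m : L)⁻¹ with hc'
  set k' := (m : L) * k with hk'
  have hk'N : k' ∈ Subgroup.normalizer (J₁ : Set L) := mul_mem m.2.1 hk
  -- the part in the normalizer of `J`
  set J := functorOf jFunctor T with hJ
  have hJT : J ≤ T := functorOf_le _ _
  let e : T ≃* ↥(T₁ : Subgroup L) :=
    (MonoidHom.ofInjective hinj).trans (MulEquiv.subgroupCongr hT₁.symm)
  have hJmem : ∀ t : T, ι t ∈ J₁ ↔ (t : Ω) ∈ J := by
    intro t
    rw [hJ₁, ← jFunctor_map (p := p) _ _ (hS.to_le hTS) e]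
    constructor
    · rintro ⟨_, ⟨w, hw, rfl⟩, hwe⟩
      exact ⟨w, hw, congrArg Subtype.val (hinj hwe)⟩
    · rintro ⟨w, hw, hwt⟩
      exact ⟨e w, ⟨w, hw, rfl⟩, congrArg ι (Subtype.ext hwt)⟩
  have hDJ : D ⊔ J ≤ T := sup_le hD hJT
  have hext : ∀ x : ↥(D ⊔ J), ∃ t : T, ι t = k' * ι ⟨x, hDJ x.2⟩ * k'⁻¹ := by
    intro x
    have hle : (D ⊔ J).subgroupOf T ≤ ι.range.comap ((MulAut.conj k').toMonoidHom.comp ι) := by
      rw [Subgroup.subgroupOf_sup hD hJT]
      refine sup_le (fun w hw => ?_) fun w hw => ?_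
      · exact hmk w hw
      · have h1 := (Subgroup.mem_normalizer_iff.1 hk'N _).1 ((hJmem w).2 hw)
        exact hT₁.le (Subgroup.map_subtype_le _ h1)
    exact hle (show (⟨x, hDJ x.2⟩ : T) ∈ (D ⊔ J).subgroupOf T from x.2)
  choose t ht using hext
  let φ : ↥(D ⊔ J) →* Ω := MonoidHom.mk' (fun x => (t x : Ω)) fun a b => by
    rw [← Subgroup.coe_mul]
    congr 1
    refine hinj ?_
    rw [map_mul, ht, ht, ht,
      show (⟨((a * b : ↥(D ⊔ J)) : Ω), hDJ (a * b).2⟩ : T) = ⟨a, hDJ a.2⟩ * ⟨b, hDJ b.2⟩ from rfl,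
      map_mul]
    group
  have hφN : φ ∈ N.Hom _ := (hiff _ hDJ φ fun x => (t x).2).2 ⟨k', ht⟩
  have hsub : ∀ P f, IsMap N P f → IsMap F P f := fun P f hm => by
    obtain ⟨-, -, g, hg, hgf, -⟩ := (isMap_normalizerSystem_iff hN).1 hm
    exact (hg.mono le_sup_left).congr hgf
  set f₁ := homFun φ with hf₁
  have hf₁E : IsMap E D f₁ := by
    refine (hbig _ f₁ ?_ (hsub _ _ (isMap_homFun hφN))).mono le_sup_left
    have := finite_of_le (hDJ.trans hTS)
    refine lt_of_le_of_ne (Subgroup.card_le_of_le le_sup_left) fun h => hJD ?_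
    rw [Subgroup.eq_of_le_of_card_ge le_sup_left h.ge]
    exact le_sup_right
  obtain ⟨D', hD'⟩ := ((hsub _ _ (isMap_homFun hφN)).mono (le_sup_left : D ≤ D ⊔ J)).exists_iso
  have hf₁v : ∀ d, ∀ hd : d ∈ D, ∃ hh : f₁ d ∈ T, ι ⟨f₁ d, hh⟩ = k' * ι ⟨d, hD hd⟩ * k'⁻¹ := by
    intro d hd
    have hd' : d ∈ D ⊔ J := Subgroup.mem_sup_left hd
    rw [hf₁, homFun_apply φ hd']
    exact ⟨(t ⟨d, hd'⟩).2, ht ⟨d, hd'⟩⟩
  -- the part fixing the `p`-th powers
  obtain ⟨f₁', hf₁', hf₁'1, hf₁'2⟩ := hD'.exists_symm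
  have hf₂ : IsMap F D' (α ∘ f₁') := (hf₁'.comp hα).isMap
  have hw : ∀ w ∈ S, w ∈ Subgroup.centralizer (S : Set Ω) →
      w ^ p ∈ D' ∧ α (f₁' (w ^ p)) = w ^ p := by
    intro w hwS hw
    have hwV : w ∈ V := mem_of_central_of_centric hVc hwS hw
    have hwT : w ∈ T := (le_normalizerIn hVn.1) hwV
    have hwc : ι ⟨w, hwT⟩ ∈ Subgroup.centralizer ((T₁ : Subgroup L) : Set L) := by
      rintro _ hy
      obtain ⟨y, rfl⟩ := hT₁.le hy
      rw [← map_mul, ← map_mul]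
      exact congrArg ι (Subtype.ext (hw y (hTS y.2)))
    have hpT : ι ⟨w, hwT⟩ ^ p ∈ Z := ⟨_, hT₁.ge ⟨_, rfl⟩, hwc, rfl⟩
    have hfixc : c' * ι ⟨w, hwT⟩ ^ p * c'⁻¹ = ι ⟨w, hwT⟩ ^ p := by
      have h1 := hcw _ (hT₁.ge ⟨⟨w, hwT⟩, rfl⟩) hwc
      have h2 : (m : L) * ι ⟨w, hwT⟩ ^ p * (m : L)⁻¹ = ι ⟨w, hwT⟩ ^ p := by
        rw [← m.2.2 _ hpT, mul_inv_cancel_right]
      calc c' * ι ⟨w, hwT⟩ ^ p * c'⁻¹ = c * ((m : L)⁻¹ * ((m : L) * ι ⟨w, hwT⟩ ^ p * (m : L)⁻¹) *
            (m : L)) * c⁻¹ := by rw [h2, hc']; group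
        _ = c * ι ⟨w, hwT⟩ ^ p * c⁻¹ := by group
        _ = _ := h1
    -- `V` is carried to itself
    obtain ⟨d, hd, hde⟩ : ∃ d, d ∈ D ∧ f₁ d = w ^ p := by
      have hVb := normal_map_of_isModel hL hCN.hn
      obtain ⟨v, hv, hve⟩ := hVb.conj_mem' _ ⟨⟨w, hwT⟩ ^ p, Subgroup.pow_mem _ (show (⟨w, hwT⟩ : T) ∈
        V.subgroupOf T from hwV) p, rfl⟩ k'
      refine ⟨v, hVD hv, ?_⟩
      obtain ⟨hh, he⟩ := hf₁v (v : Ω) (hVD hv)
      have h3 : ι ⟨f₁ v, hh⟩ = ι (⟨w, hwT⟩ ^ p) := by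
        rw [he, show (⟨(v : Ω), hD (hVD hv)⟩ : T) = v from rfl, hve]
        group
      exact congrArg Subtype.val (hinj h3)
    refine ⟨hde ▸ hD'.mem hd, ?_⟩
    rw [← hde, hf₁'1 d hd]
    obtain ⟨hh, he⟩ := hf₁v d hd
    have h4 := hg d hd
    rw [homExt_apply ι (hD (hα.mem hd)), homExt_apply ι (hD hd), hgck,
      show c * k = c' * k' by rw [hc', hk']; group] at h4
    have h5 : ι ⟨α d, hD (hα.mem hd)⟩ = ι ⟨f₁ d, hh⟩ := by
      have hpow : (⟨f₁ d, hh⟩ : T) = ⟨w, hwT⟩ ^ p := Subtype.ext hde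
      rw [h4, show c' * k' * ι ⟨d, hD hd⟩ * (c' * k')⁻¹ = c' * (k' * ι ⟨d, hD hd⟩ * k'⁻¹) * c'⁻¹ by
        group, ← he, hpow, map_pow, hfixc]
    exact congrArg Subtype.val (hinj h5)
  exact ((hf₁E.comp (hC D' _ hf₂ hw) fun x hx => hD'.mem hx)).congr fun x hx => by
    show α (f₁' (f₁ x)) = α x
    rw [hf₁'1 x hx]

/-- `F` is generated by `C_F(℧¹ Z(S))` and `N_F(J(S))`. -/
theorem le_of_agemo_center_thompson (hS : IsPGroup p S) (hF : F.IsSaturated p)
    (hC : ∀ P f, IsMap F P f →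
      (∀ w ∈ S, w ∈ Subgroup.centralizer (S : Set Ω) → w ^ p ∈ P ∧ f (w ^ p) = w ^ p) →
      IsMap E P f)
    (hN : ∀ P f, IsMap F P f → functorOf jFunctor S ≤ P →
      f '' (functorOf jFunctor S : Set Ω) = functorOf jFunctor S → IsMap E P f) :
    ∀ P f, IsMap F P f → IsMap E P f := by
  refine le_of_autGroup_le_step hS hF fun R hR hbig α hα => ?_
  have hRS : R ≤ S := by
    rcases hR with rfl | h
    exacts [le_rfl, h.1.1]
  have hαi := (mem_autGroup_iff hRS α).1 hα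
  refine (mem_autGroup_iff hRS α).2 ⟨?_, hαi.image_eq⟩
  have hjm := jFunctor_map (p := p)
  by_cases hRS' : R = S
  · subst hRS'
    exact hN R _ hαi.isMap (functorOf_le _ _) (image_functorOf hjm hS hαi)
  have hess := hR.resolve_left hRS'
  have hRn : F.IsFullyNormalized R := hess.2.1
  set T := normalizerIn S R with hT
  have hTS : T ≤ S := inf_le_left
  have hRT : R ≤ T := le_normalizerIn hRS
  rcases isMap_or_thompson_le hS hF hC hRn hess.1 le_rfl hRT hbig hαi hαi.image_eq with h | hJR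
  · exact h
  have := finite_of_le hTS
  have := finite_of_le hRS
  set V₀ := functorOf jFunctor T with hV₀
  have hV₀R : functorOf jFunctor R = V₀ := by
    have h1 : CfsgLib.Transfer.thompsonJ 0 (⊤ : Subgroup T) ≤ R.subgroupOf T := fun x hx =>
      hJR ⟨x, hx, rfl⟩
    have h2 := CfsgLib.Transfer.thompsonJ_eq_of_le h1 le_top
    rw [hV₀, functorOf_jFunctor_eq, functorOf_jFunctor_eq]
    have h3 := congrArg (Subgroup.map T.subtype) h2
    rw [CfsgLib.Transfer.map_thompsonJ 0 _ T.subtype_injective.injOn,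
      Subgroup.map_subgroupOf_eq_of_le hRT,
      CfsgLib.Transfer.map_thompsonJ 0 _ T.subtype_injective.injOn,
      ← MonoidHom.range_eq_map, Subgroup.range_subtype] at h3
    exact h3
  have hV₀S : V₀ ≤ S := (functorOf_le _ _).trans hTS
  have hTV₀ : T ≤ normalizerIn S V₀ := fun x hx =>
    ⟨hTS hx, normalizer_le_functorOf jFunctor hjm hTS (hS.to_le hTS) (Subgroup.le_normalizer hx)⟩
  have hltT : Nat.card R < Nat.card T := by
    have h1 := lt_normalizerIn hS hRS hRS'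
    refine lt_of_le_of_ne (Subgroup.card_le_of_le h1.le) fun h => ?_
    exact h1.ne (Subgroup.eq_of_le_of_card_ge h1.le h.ge)
  have := finite_of_le (S := S) (P := normalizerIn S V₀) inf_le_left
  obtain ⟨V, hV₀V, hV⟩ := exists_isFullyNormalized (F := F) hV₀S
  obtain ⟨c, hc, hci, hcN, -⟩ := exists_map_normalizerIn hS
    (isFullyAutomized_of_isFullyNormalized hS hF hV)
    (isReceptive_of_isFullyNormalized hS hF hV) hV₀V
  have hcE : IsMap E (normalizerIn S V₀) c :=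
    hbig _ c (lt_of_lt_of_le hltT (Subgroup.card_le_of_le hTV₀)) hc
  obtain ⟨R', hR'⟩ := (hc.mono (hRT.trans hTV₀)).exists_iso
  have := finite_of_le hR'.le_right
  have hcard : Nat.card R' = Nat.card R := hR'.card_eq
  have hR'T : R' ≤ normalizerIn S V := fun y hy => by
    obtain ⟨x, hx, rfl⟩ := hR'.surj hy
    exact hcN x (hTV₀ (hRT hx))
  have hVR' : functorOf jFunctor R' = V := by
    refine SetLike.coe_injective ((image_functorOf hjm hS hR').symm.trans ?_)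
    rw [hV₀R]; exact hci.image_eq
  -- `R'` is again fully normalized
  have := finite_of_le (S := S) (P := normalizerIn S R') inf_le_left
  obtain ⟨T', hT'⟩ := (hc.mono hTV₀).exists_iso
  have hT'le : T' ≤ normalizerIn S R' := fun y hy => by
    obtain ⟨x, hx, rfl⟩ := hT'.surj hy
    exact (hc.mono hTV₀).mem_normalizerIn hRT hR' hx hx.2
  have hT'eq : T' = normalizerIn S R' := by
    refine Subgroup.eq_of_le_of_card_ge hT'le ?_
    rw [hT'.card_eq]
    exact hRn.2 R' hR'.isConj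
  have hR'c : F.IsCentric R' := isCentric_of_isConj hess.1 hR'.isConj
  have hCV : centralizerIn S V ≤ R' := by
    refine le_of_normalizer_inf_le hS hR'.le_right inf_le_left (fun y hy => ?_) fun y hy hyn => ?_
    · have hyN := (hR'T hy).2
      refine mem_normalizer_of_conj_mem inf_le_left fun z hz => ⟨S.mul_mem (S.mul_mem (hR'.le_right hy)
        hz.1) (S.inv_mem (hR'.le_right hy)), mem_centralizer_of_conj_eq fun w hw => ?_⟩
      have hw' := conj_mem_of_mem_normalizer (inv_mem hyN) hw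
      have e := conj_eq_self_of_mem_centralizer hz.2 hw'
      calc y * z * y⁻¹ * w * (y * z * y⁻¹)⁻¹ = y * (z * (y⁻¹ * w * y⁻¹⁻¹) * z⁻¹) * y⁻¹ := by group
        _ = w := by rw [e]; group
    · have hyT : y ∈ T' := hT'eq ▸ ⟨hy.1, hyn⟩
      obtain ⟨x, hx, rfl⟩ := hT'.surj hyT
      refine hR'.mem ((hV₀R ▸ functorOf_le jFunctor R : V₀ ≤ R)
        (mem_functorOf_jFunctor_of_commute T hx ?_))
      intro v hv
      have h1 : c v * c x = c x * c v := hy.2 _ (hci.mem hv)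
      have hvT : v ∈ T := functorOf_le _ _ hv
      rw [← hc.map_mul (hTV₀ hvT) (hTV₀ hx), ← hc.map_mul (hTV₀ hx) (hTV₀ hvT)] at h1
      exact hc.injOn ((normalizerIn S V₀).mul_mem (hTV₀ hvT) (hTV₀ hx))
        ((normalizerIn S V₀).mul_mem (hTV₀ hx) (hTV₀ hvT)) h1
  have hCVV : centralizerIn S V ≤ V := fun y hy => by
    rw [← hVR']
    exact mem_functorOf_jFunctor_of_commute R' (hCV hy) (by rw [hVR']; exact hy.2)
  have hVc : F.IsCentric V := isCentric_of_fullyCentralized hS hF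
    (isFullyCentralized_of_isFullyNormalized hS hF hV) hCVV
  -- the conjugated automorphism
  obtain ⟨c', hc', hc'1, hc'2⟩ := hR'.exists_symm
  have hβ := (hc'.comp hαi).comp hR'
  have hβV : (c ∘ autFun α ∘ c') '' (V : Set Ω) = V := by
    rw [← hVR']
    exact image_functorOf hjm hS hβ
  have hVR : V ≤ R' := hVR' ▸ functorOf_le _ _
  have hβE : IsMap E R' (c ∘ autFun α ∘ c') := by
    rcases isMap_or_thompson_le hS hF hC hV hVc hVR hR'T
      (fun (A : Subgroup Ω) (g : Ω → Ω) hA hg => hbig A g (hcard ▸ hA) hg) hβ hβV with h | hJR'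
    · exact h
    have hTV : normalizerIn S V ≤ S := inf_le_left
    have := finite_of_le hTV
    have hJeq : functorOf jFunctor (normalizerIn S V) = V := by
      have h1 : CfsgLib.Transfer.thompsonJ 0 (⊤ : Subgroup (normalizerIn S V)) ≤
          R'.subgroupOf (normalizerIn S V) := fun x hx => hJR' ⟨x, hx, rfl⟩
      have h2 := CfsgLib.Transfer.thompsonJ_eq_of_le h1 le_top
      have h3 := congrArg (Subgroup.map (normalizerIn S V).subtype) h2
      rw [CfsgLib.Transfer.map_thompsonJ 0 _ (normalizerIn S V).subtype_injective.injOn,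
        Subgroup.map_subgroupOf_eq_of_le hR'T,
        CfsgLib.Transfer.map_thompsonJ 0 _ (normalizerIn S V).subtype_injective.injOn,
        ← MonoidHom.range_eq_map, Subgroup.range_subtype] at h3
      rw [functorOf_jFunctor_eq, ← h3, ← functorOf_jFunctor_eq]
      exact hVR'
    have hTVS : normalizerIn S V = S := by
      by_contra h
      refine (lt_normalizerIn hS hTV h).not_ge fun x hx => ⟨hx.1, ?_⟩
      have h4 := normalizer_le_functorOf jFunctor hjm hTV (hS.to_le hTV) hx.2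
      rwa [hJeq] at h4
    rw [hTVS] at hJeq
    exact hN R' _ hβ.isMap (hJeq.symm ▸ hVR) (hJeq.symm ▸ hβV)
  -- transport back
  have hRE : IsIso E R R' c := ⟨hcE.mono (hRT.trans hTV₀), hR'.image_eq⟩
  obtain ⟨d, hd, hd1, -⟩ := hRE.exists_symm
  refine ((hRE.comp ⟨hβE, hβ.image_eq⟩).comp hd).isMap.congr fun x hx => ?_
  show d (c (autFun α (c' (c x)))) = autFun α x
  rw [hc'1 x hx, hd1 _ (hαi.mem hx)]

end CfsgLib.Fusion
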