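import Mathlib

/-!
# Virtually free groups from a graph with a group acting on it

`W` acts on the graph with vertices `W ⧸ S₀` and an edge from `gS₀` to `g t_i S₀` for every
coset `g P_i`.  The pairs (reduced path from the base vertex, element of `W`) with matching end point
form a group with a free normal subgroup, every finite subgroup of which fixes a vertex of the tree
of reduced paths.
-/

namespace Cfsg.Agent.GraphExt

universe u

open scoped Classical

variable {W : Type*} [Group W]

/-- The data of the graph. -/
structure Data (W : Type*) [Group W] (I : Type*) where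
  base : Subgroup W
  sub : I → Subgroup W
  step : I → W
  sub_le : ∀ i, sub i ≤ base
  conj_le : ∀ i, ∀ x ∈ sub i, (step i)⁻¹ * x * step i ∈ base

variable {I : Type*} (D : Data W I)

/-- The edges. -/
abbrev Edge := (i : I) × (W ⧸ D.sub i)

noncomputable instance (priority := 10000) edgeDecEq : DecidableEq (Edge D) := Classical.decEq _

/-- The vertices. -/
abbrev Vert := W ⧸ D.base

/-- The action on edges. -/
noncomputable def edgePerm : W →* Equiv.Perm (Edge D) where
  toFun g := Equiv.sigmaCongrRight fun i => MulAction.toPerm g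
  map_one' := by
    ext ⟨i, q⟩
    · rfl
    · exact heq_of_eq (one_smul W q)
  map_mul' g h := by
    ext ⟨i, q⟩
    · rfl
    · exact heq_of_eq (mul_smul g h q)

/-- The source of an edge. -/
noncomputable def src : Edge D → Vert D
  | ⟨i, q⟩ => Quotient.liftOn' q (fun g => (g : Vert D)) (by
      intro a b h
      rw [QuotientGroup.leftRel_apply] at h
      exact QuotientGroup.eq.2 (D.sub_le i h))

/-- The target of an edge. -/
noncomputable def tgt : Edge D → Vert D
  | ⟨i, q⟩ => Quotient.liftOn' q (fun g => ((g * D.step i : W) : Vert D)) (by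
      intro a b h
      rw [QuotientGroup.leftRel_apply] at h
      refine QuotientGroup.eq.2 ?_
      have := D.conj_le i _ h
      simpa [mul_assoc, mul_inv_rev] using this)

theorem src_mk (i : I) (g : W) : src D ⟨i, (g : W ⧸ D.sub i)⟩ = (g : Vert D) := rfl

theorem tgt_mk (i : I) (g : W) :
    tgt D ⟨i, (g : W ⧸ D.sub i)⟩ = ((g * D.step i : W) : Vert D) := rfl

theorem src_smul (g : W) (e : Edge D) : src D (edgePerm D g e) = g • src D e := by
  obtain ⟨i, q⟩ := e
  induction q using QuotientGroup.induction_on with
  | H a => exact rfl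

theorem tgt_smul (g : W) (e : Edge D) : tgt D (edgePerm D g e) = g • tgt D e := by
  obtain ⟨i, q⟩ := e
  induction q using QuotientGroup.induction_on with
  | H a =>
    show ((g * a * D.step i : W) : Vert D) = ((g * (a * D.step i) : W) : Vert D)
    rw [mul_assoc]

/-- The initial vertex of an oriented edge. -/
noncomputable def letterSrc (a : Edge D × Bool) : Vert D := cond a.2 (src D a.1) (tgt D a.1)

/-- The final vertex of an oriented edge. -/
noncomputable def letterTgt (a : Edge D × Bool) : Vert D := cond a.2 (tgt D a.1) (src D a.1)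

/-- `IsPath v L v'`: the word `L` is a path from `v` to `v'`. -/
def IsPath : Vert D → List (Edge D × Bool) → Vert D → Prop
  | v, [], v' => v = v'
  | v, a :: L, v' => letterSrc D a = v ∧ IsPath (letterTgt D a) L v'

variable {D}

theorem isPath_append : ∀ {L M : List (Edge D × Bool)} {u w : Vert D},
    IsPath D u (L ++ M) w ↔ ∃ v, IsPath D u L v ∧ IsPath D v M w
  | [], M, u, w => by simp [IsPath]
  | a :: L, M, u, w => by
    rw [List.cons_append, IsPath, isPath_append]
    constructor
    · rintro ⟨h1, v, h2, h3⟩
      exact ⟨v, ⟨h1, h2⟩, h3⟩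
    · rintro ⟨v, ⟨h1, h2⟩, h3⟩
      exact ⟨h1, v, h2, h3⟩

theorem isPath_red {L M : List (Edge D × Bool)} (h : FreeGroup.Red L M) {u w : Vert D}
    (hp : IsPath D u L w) : IsPath D u M w := by
  induction h with
  | refl => exact hp
  | tail _ hstep ih =>
    cases hstep with
    | @not L₁ L₂ x b =>
      obtain ⟨v, h1, h2⟩ := isPath_append.1 ih
      obtain ⟨h3, h4, h5⟩ := h2
      refine isPath_append.2 ⟨v, h1, ?_⟩
      have : letterTgt D (x, !b) = v := by
        rw [← h3]; cases b <;> rfl
      rwa [this] at h5

theorem isPath_reduce {L : List (Edge D × Bool)} {u w : Vert D} (hp : IsPath D u L w) :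
    IsPath D u (FreeGroup.reduce L) w :=
  isPath_red FreeGroup.reduce.red hp

theorem isPath_invRev : ∀ {L : List (Edge D × Bool)} {u w : Vert D}, IsPath D u L w →
    IsPath D w (FreeGroup.invRev L) u
  | [], u, w, h => by simpa [IsPath, FreeGroup.invRev] using h.symm
  | a :: L, u, w, h => by
    have h' := isPath_invRev h.2
    have e : FreeGroup.invRev (a :: L) = FreeGroup.invRev L ++ [(a.1, !a.2)] := by
      simp [FreeGroup.invRev]
    rw [e]
    refine isPath_append.2 ⟨_, h', ?_, ?_⟩
    · obtain ⟨x, b⟩ := a
      cases b <;> rfl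
    · show letterTgt D (a.1, !a.2) = u
      rw [← h.1]
      obtain ⟨x, b⟩ := a
      cases b <;> rfl

theorem isPath_smul (g : W) : ∀ {L : List (Edge D × Bool)} {u w : Vert D}, IsPath D u L w →
    IsPath D (g • u) (L.map fun a => (edgePerm D g a.1, a.2)) (g • w)
  | [], u, w, h => by
    show g • u = g • w
    rw [show u = w from h]
  | a :: L, u, w, h => by
    have e1 : letterSrc D (edgePerm D g a.1, a.2) = g • letterSrc D a := by
      obtain ⟨x, b⟩ := a
      cases b
      · exact tgt_smul D g x
      · exact src_smul D g x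
    have e2 : letterTgt D (edgePerm D g a.1, a.2) = g • letterTgt D a := by
      obtain ⟨x, b⟩ := a
      cases b
      · exact src_smul D g x
      · exact tgt_smul D g x
    refine ⟨by rw [e1, h.1], ?_⟩
    rw [e2]
    exact isPath_smul g h.2

variable (D)

/-- The action on the free group on the edges. -/
noncomputable def act : W →* MulAut (FreeGroup (Edge D)) where
  toFun g := FreeGroup.freeGroupCongr (edgePerm D g)
  map_one' := by
    ext x
    show FreeGroup.map (edgePerm D 1) x = x
    rw [map_one]
    exact FreeGroup.map.id x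
  map_mul' g h := by
    ext x
    show FreeGroup.map (edgePerm D (g * h)) x =
      FreeGroup.map (edgePerm D g) (FreeGroup.map (edgePerm D h) x)
    rw [map_mul, FreeGroup.map.comp]
    rfl

theorem toWord_act (g : W) (w : FreeGroup (Edge D)) :
    (act D g w).toWord = w.toWord.map fun a => (edgePerm D g a.1, a.2) := by
  have e : act D g w = FreeGroup.mk (w.toWord.map fun a => (edgePerm D g a.1, a.2)) := by
    show FreeGroup.map (edgePerm D g) w = _
    conv_lhs => rw [← FreeGroup.mk_toWord (x := w)]
    rw [FreeGroup.map.mk]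
  rw [e, FreeGroup.toWord_mk, FreeGroup.isReduced_iff_reduce_eq.1]
  have h := FreeGroup.isReduced_toWord (x := w)
  unfold FreeGroup.IsReduced at h ⊢
  rw [List.isChain_map]
  exact h.imp fun a b hab hb => hab ((edgePerm D g).injective hb)

theorem norm_act (g : W) (w : FreeGroup (Edge D)) : (act D g w).norm = w.norm := by
  simp [FreeGroup.norm, toWord_act]

/-- The big semidirect product. -/
abbrev Big := FreeGroup (Edge D) ⋊[act D] W

/-- The base vertex. -/
noncomputable abbrev v0 : Vert D := ((1 : W) : Vert D)

theorem smul_v0 (g : W) : g • v0 D = (g : Vert D) := by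
  show ((g * 1 : W) : Vert D) = _
  rw [mul_one]

/-- The virtually free group. -/
noncomputable def fund : Subgroup (Big D) where
  carrier := {x | IsPath D (v0 D) x.left.toWord (x.right • v0 D)}
  one_mem' := by
    show IsPath D (v0 D) (1 : FreeGroup (Edge D)).toWord ((1 : W) • v0 D)
    rw [FreeGroup.toWord_one, one_smul]
    rfl
  mul_mem' := by
    intro x y hx hy
    show IsPath D (v0 D) (x * y).left.toWord ((x * y).right • v0 D)
    rw [SemidirectProduct.mul_left, FreeGroup.toWord_mul, SemidirectProduct.mul_right, mul_smul]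
    refine isPath_reduce (isPath_append.2 ⟨_, hx, ?_⟩)
    rw [toWord_act]
    exact isPath_smul x.right hy
  inv_mem' := by
    intro x hx
    show IsPath D (v0 D) x⁻¹.left.toWord (x⁻¹.right • v0 D)
    rw [SemidirectProduct.inv_left, toWord_act, FreeGroup.toWord_inv, SemidirectProduct.inv_right]
    have h := isPath_smul x.right⁻¹ (isPath_invRev (hx : IsPath D _ _ _))
    rwa [inv_smul_smul] at h

theorem mem_fund {x : Big D} :
    x ∈ fund D ↔ IsPath D (v0 D) x.left.toWord (x.right • v0 D) := Iff.rfl

theorem inr_mem_fund (g : W) :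
    (SemidirectProduct.inr g : Big D) ∈ fund D ↔ g ∈ D.base := by
  rw [mem_fund]
  show IsPath D (v0 D) (1 : FreeGroup (Edge D)).toWord (g • v0 D) ↔ _
  rw [FreeGroup.toWord_one, smul_v0]
  show ((1 : W) : Vert D) = (g : Vert D) ↔ _
  rw [QuotientGroup.eq, inv_one, one_mul]

/-- The elements of the group corresponding to the edges. -/
theorem stable_mem_fund (i : I) :
    (⟨FreeGroup.of ⟨i, ((1 : W) : W ⧸ D.sub i)⟩, D.step i⟩ : Big D) ∈ fund D := by
  rw [mem_fund]
  show IsPath D (v0 D) (FreeGroup.of _).toWord (D.step i • v0 D)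
  rw [FreeGroup.toWord_of, smul_v0]
  refine ⟨rfl, ?_⟩
  show ((1 * D.step i : W) : Vert D) = _
  rw [one_mul]

/-- The projection to `W`. -/
noncomputable def proj : fund D →* W := SemidirectProduct.rightHom.comp (fund D).subtype

theorem ker_proj_isFree {W I : Type u} [Group W] (D : Data W I) : IsFreeGroup ↥(proj D).ker := by
  let f : ↥(proj D).ker →* FreeGroup (Edge D) :=
    { toFun := fun n => (n : fund D).1.left
      map_one' := rfl
      map_mul' := by
        intro a b
        show ((a : fund D).1 * (b : fund D).1).left = _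
        rw [SemidirectProduct.mul_left]
        have ha : (a : fund D).1.right = 1 := a.2
        rw [ha, map_one]
        rfl }
  have hf : Function.Injective f := by
    intro a b h
    apply Subtype.ext; apply Subtype.ext
    refine SemidirectProduct.ext h ?_
    have ha : (a : fund D).1.right = 1 := a.2
    have hb : (b : fund D).1.right = 1 := b.2
    rw [ha, hb]
  exact IsFreeGroup.ofMulEquiv (MonoidHom.ofInjective hf).symm

theorem index_ker_dvd [Finite W] : (proj D).ker.index ∣ Nat.card W := by
  rw [Subgroup.index_ker]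
  exact Subgroup.card_subgroup_dvd_card _

/-! ### Fixed points of finite subgroups -/

theorem tree_median {α : Type*} [DecidableEq α] (u z : FreeGroup α) (a : α × Bool) (rest : List (α × Bool))
    (hu : u.toWord = a :: rest) (hne : rest ≠ []) :
    ((FreeGroup.mk [a])⁻¹ * z).norm < max z.norm (u⁻¹ * z).norm := by
  have hinv : (FreeGroup.mk [a] : FreeGroup α)⁻¹ = FreeGroup.mk [(a.1, !a.2)] := by
    rw [FreeGroup.inv_mk]; rfl
  by_cases hz : ∃ zr, z.toWord = a :: zr
  · obtain ⟨zr, hzr⟩ := hz
    refine lt_max_of_lt_left ?_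
    have e : z = FreeGroup.mk [a] * FreeGroup.mk zr := by
      rw [FreeGroup.mul_mk, List.singleton_append, ← hzr, FreeGroup.mk_toWord]
    calc ((FreeGroup.mk [a])⁻¹ * z).norm = (FreeGroup.mk zr).norm := by
          rw [e, inv_mul_cancel_left]
      _ ≤ zr.length := FreeGroup.norm_mk_le
      _ < z.norm := by simp [FreeGroup.norm, hzr]
  · refine lt_max_of_lt_right ?_
    have hred : FreeGroup.IsReduced (FreeGroup.invRev u.toWord ++ z.toWord) := by
      have h1 : FreeGroup.IsReduced (FreeGroup.invRev u.toWord) := by
        rw [← FreeGroup.toWord_inv]; exact FreeGroup.isReduced_toWord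
      have h2 : FreeGroup.IsReduced z.toWord := FreeGroup.isReduced_toWord
      unfold FreeGroup.IsReduced at h1 h2 ⊢
      refine List.isChain_append.2 ⟨h1, h2, ?_⟩
      intro x hx y hy hxy
      have hx' : x = (a.1, !a.2) := by
        rw [hu] at hx
        simp [FreeGroup.invRev] at hx
        exact hx.symm
      cases hzw : z.toWord with
      | nil => rw [hzw] at hy; simp at hy
      | cons c zr =>
        rw [hzw] at hy
        simp at hy
        subst hy
        subst hx'
        by_contra hne'
        refine hz ⟨zr, ?_⟩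
        rw [hzw]
        obtain ⟨c1, c2⟩ := c
        obtain ⟨a1, a2⟩ := a
        simp only at hxy hne'
        subst hxy
        cases a2 <;> cases c2 <;> simp_all
    have h1 : (u⁻¹ * z).norm = u.toWord.length + z.toWord.length := by
      rw [FreeGroup.norm, FreeGroup.toWord_mul, FreeGroup.toWord_inv,
        FreeGroup.isReduced_iff_reduce_eq.1 hred, List.length_append, FreeGroup.invRev_length]
    have h2 := FreeGroup.norm_mul_le (FreeGroup.mk [a])⁻¹ z
    have h3 : (FreeGroup.mk [a] : FreeGroup α)⁻¹.norm ≤ 1 := by
      rw [hinv]; exact FreeGroup.norm_mk_le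
    have h4 : 2 ≤ u.toWord.length := by
      rw [hu]
      cases rest with
      | nil => exact absurd rfl hne
      | cons => simp
    have h5 : z.norm = z.toWord.length := rfl
    omega

/-- Vertices of the tree: reduced paths from the base vertex. -/
def IsVertex (c : FreeGroup (Edge D)) : Prop := ∃ v, IsPath D (v0 D) c.toWord v

theorem exists_fixed_vertex (H : Subgroup ↥(fund D)) [Finite H] :
    ∃ c, IsVertex D c ∧ ∀ h ∈ H, h.1.left * act D h.1.right c = c := by
  have : Fintype H := Fintype.ofFinite H
  set mv : H → FreeGroup (Edge D) → FreeGroup (Edge D) :=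
    fun h c => h.1.1.left * act D h.1.1.right c with hmv
  set r : FreeGroup (Edge D) → ℕ :=
    fun c => Finset.univ.sup fun h : H => (c⁻¹ * h.1.1.left).norm with hr
  have hne : ∃ n, ∃ c, IsVertex D c ∧ r c = n := ⟨_, 1, ⟨v0 D, by
    rw [FreeGroup.toWord_one]; rfl⟩, rfl⟩
  obtain ⟨c, hcv, hcr⟩ := Nat.find_spec hne
  have hmin : ∀ d, IsVertex D d → r c ≤ r d := fun d hd => by
    rw [hcr]; exact Nat.find_le ⟨d, hd, rfl⟩
  have hclose : ∀ d, IsVertex D d → r d = r c → (c⁻¹ * d).norm ≤ 1 := by
    intro d hdv hdr
    by_contra hnorm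
    cases hw : (c⁻¹ * d).toWord with
    | nil => simp [FreeGroup.norm, hw] at hnorm
    | cons a rest =>
      have hrest : rest ≠ [] := by
        rintro rfl
        simp [FreeGroup.norm, hw] at hnorm
      obtain ⟨vc, hvc⟩ := hcv
      obtain ⟨vd, hvd⟩ := hdv
      have hpath : IsPath D vc (c⁻¹ * d).toWord vd := by
        rw [FreeGroup.toWord_mul, FreeGroup.toWord_inv]
        exact isPath_reduce (isPath_append.2 ⟨_, isPath_invRev hvc, hvd⟩)
      rw [hw] at hpath
      have hm : IsVertex D (c * FreeGroup.mk [a]) := by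
        refine ⟨letterTgt D a, ?_⟩
        rw [FreeGroup.toWord_mul, FreeGroup.toWord_mk,
          FreeGroup.isReduced_iff_reduce_eq.1 FreeGroup.IsReduced.singleton]
        exact isPath_reduce (isPath_append.2 ⟨vc, hvc, hpath.1, rfl⟩)
      have hlt : ∀ h : H, ((c * FreeGroup.mk [a])⁻¹ * h.1.1.left).norm < r c := by
        intro h
        have hmax : max (c⁻¹ * h.1.1.left).norm
            ((c⁻¹ * d)⁻¹ * (c⁻¹ * h.1.1.left)).norm ≤ r c := by
          refine max_le ?_ ?_
          · exact Finset.le_sup (f := fun h : H => (c⁻¹ * h.1.1.left).norm) (Finset.mem_univ h)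
          · rw [← hdr]
            have : (c⁻¹ * d)⁻¹ * (c⁻¹ * h.1.1.left) = d⁻¹ * h.1.1.left := by group
            rw [this]
            exact Finset.le_sup (f := fun h : H => (d⁻¹ * h.1.1.left).norm) (Finset.mem_univ h)
        refine lt_of_lt_of_le ?_ hmax
        have := tree_median (c⁻¹ * d) (c⁻¹ * h.1.1.left) a rest hw hrest
        have e : (c * FreeGroup.mk [a])⁻¹ * h.1.1.left =
            (FreeGroup.mk [a])⁻¹ * (c⁻¹ * h.1.1.left) := by group
        rw [e]
        exact this
      have hpos : 0 < r c := (Nat.zero_le _).trans_lt (hlt 1)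
      exact absurd (hmin _ hm) (not_le.2 ((Finset.sup_lt_iff hpos).2 fun h _ => hlt h))
  have hmove : ∀ h : H, IsVertex D (mv h c) ∧ r (mv h c) = r c := by
    intro h
    obtain ⟨vc, hvc⟩ := hcv
    refine ⟨⟨h.1.1.right • vc, ?_⟩, ?_⟩
    · show IsPath D _ (h.1.1.left * act D h.1.1.right c).toWord _
      rw [FreeGroup.toWord_mul, toWord_act]
      exact isPath_reduce (isPath_append.2 ⟨_, h.1.2, isPath_smul _ hvc⟩)
    · have key : ∀ k : H, ((mv h c)⁻¹ * (h * k).1.1.left).norm = (c⁻¹ * k.1.1.left).norm := by
        intro k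
        have e : (h * k).1.1.left = h.1.1.left * act D h.1.1.right k.1.1.left := rfl
        rw [e]
        show ((h.1.1.left * act D h.1.1.right c)⁻¹ * _).norm = _
        rw [mul_inv_rev, mul_assoc, inv_mul_cancel_left, ← map_inv, ← map_mul, norm_act]
      refine le_antisymm (Finset.sup_le fun k _ => ?_) (Finset.sup_le fun k _ => ?_)
      · have := key (h⁻¹ * k)
        rw [mul_inv_cancel_left] at this
        rw [this]
        exact Finset.le_sup (f := fun h : H => (c⁻¹ * h.1.1.left).norm) (Finset.mem_univ _)
      · rw [← key k]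
        exact Finset.le_sup (f := fun j : H => ((mv h c)⁻¹ * j.1.1.left).norm) (Finset.mem_univ _)
  refine ⟨c, hcv, fun h hh => ?_⟩
  set x : H := ⟨h, hh⟩
  have h1 := hclose _ (hmove x).1 (hmove x).2
  have h2 := hclose _ (hmove (x * x)).1 (hmove (x * x)).2
  show mv x c = c
  have hu : mv x c = c * (c⁻¹ * mv x c) := by group
  set u := c⁻¹ * mv x c with hudef
  have e : c⁻¹ * mv (x * x) c = u * act D h.1.right u := by
    show c⁻¹ * ((h.1 * h.1).left * act D (h.1 * h.1).right c) = _
    rw [hudef]
    show c⁻¹ * ((h.1.left * act D h.1.right h.1.left) * act D (h.1.right * h.1.right) c) =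
      c⁻¹ * (h.1.left * act D h.1.right c) *
        act D h.1.right (c⁻¹ * (h.1.left * act D h.1.right c))
    rw [map_mul (act D), MulAut.mul_apply, map_mul, map_inv, map_mul]
    group
  rw [e] at h2
  cases hw : u.toWord with
  | nil =>
    rw [FreeGroup.toWord_eq_nil_iff] at hw
    rw [hu, hw, mul_one]
  | cons a rest =>
    have hrest : rest = [] := by
      simp [FreeGroup.norm, hw] at h1
      exact h1
    subst hrest
    exfalso
    have hred : FreeGroup.IsReduced ([a] ++ [(edgePerm D h.1.right a.1, a.2)]) := by
      simp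
    rw [FreeGroup.norm, FreeGroup.toWord_mul, toWord_act, hw, List.map_singleton,
      FreeGroup.isReduced_iff_reduce_eq.1 hred] at h2
    simp at h2

/-- Every finite subgroup is conjugate into the base group. -/
theorem finite_conj (H : Subgroup ↥(fund D)) [Finite H] :
    ∃ g : fund D, ∀ h ∈ H, ∃ s ∈ D.base, (g * h * g⁻¹ : fund D).1 = SemidirectProduct.inr s := by
  obtain ⟨c, ⟨v, hv⟩, hc⟩ := exists_fixed_vertex D H
  obtain ⟨k, rfl⟩ := QuotientGroup.mk_surjective v
  let g : fund D := ⟨⟨c, k⟩, by
    rw [mem_fund]; show IsPath D _ c.toWord (k • v0 D); rw [smul_v0]; exact hv⟩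
  refine ⟨g⁻¹, fun h hh => ?_⟩
  have e1 : h * g = g * (g⁻¹ * h * g) := by group
  set d := g⁻¹ * h * g with hd
  have e2 : (h * g).1.left = (g * d).1.left := by rw [e1]
  have e3 : h.1.left * act D h.1.right c = c * act D k d.1.left := e2
  rw [hc h hh] at e3
  have e4 : act D k d.1.left = 1 := by
    have := congrArg (fun w => c⁻¹ * w) e3
    simpa using this.symm
  have e5 : d.1.left = 1 := (act D k).injective (by rw [e4, map_one])
  have e6 : d.1 = SemidirectProduct.inr d.1.right := SemidirectProduct.ext e5 rfl
  refine ⟨d.1.right, (inr_mem_fund D _).1 (e6 ▸ d.2), ?_⟩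
  rw [inv_inv]
  exact e6

end Cfsg.Agent.GraphExt
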