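import Mathlib
import Cfsg.Agent.Lib.Fusion.GroupModel
import Cfsg.Agent.Lib.Qd.Local

/-!
A finite group involving `Qd(p)` has a local model involving `Qd(p)`.
-/

set_option autoImplicit false

namespace CfsgLib.Fusion

open Cfsg Cfsg.FusionSystem CfsgLib.Qd
open scoped MatrixGroups

universe u v

variable {p : ℕ} [Fact p.Prime]

/-- Elements of `N` act on the vector quotient of `A` as all of `SL(2, p)`. -/
def SL2Act {H : Type v} [Group H] (A N : Subgroup H) : Prop :=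
  ∃ f : A →* Multiplicative (Fin 2 → ZMod p), Function.Surjective f ∧
    ∀ M : SL(2, ZMod p), ∃ x ∈ N, x ∈ Subgroup.normalizer (A : Set H) ∧
      ∀ a b : A, (b : H) = x * a * x⁻¹ → (f b).toAdd = M.1.mulVec (f a).toAdd

/-- `Qd(p)` is involved as soon as a `p`-subgroup carries the natural action. -/
theorem involves_qd_of_act {H : Type v} [Group H] [Finite H] (hp2 : p ≠ 2) {A N : Subgroup H}
    (hA : IsPGroup p A) (h : SL2Act (p := p) A N) : Cfsg.Involves ↥(Cfsg.qd p) H := by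
  obtain ⟨f, hf, hM⟩ := h
  let rel : H → SL(2, ZMod p) → Prop := fun x M =>
    ∀ a b : A, (b : H) = x * a * x⁻¹ → (f b).toAdd = M.1.mulVec (f a).toAdd
  have huniq : ∀ {x : H}, x ∈ Subgroup.normalizer (A : Set H) → ∀ {M M' : SL(2, ZMod p)},
      rel x M → rel x M' → M = M' := by
    intro x hx M M' h1 h2
    refine Subtype.ext (Matrix.ext fun i j => ?_)
    obtain ⟨a, ha⟩ := hf (Multiplicative.ofAdd (Pi.single j 1))
    have e1 := h1 a ⟨_, conj_mem_of_mem_normalizer hx a.2⟩ rfl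
    have e2 := h2 a ⟨_, conj_mem_of_mem_normalizer hx a.2⟩ rfl
    rw [e2, ha, toAdd_ofAdd, Matrix.mulVec_single_one, Matrix.mulVec_single_one] at e1
    exact (congrFun e1 i).symm
  let X : Subgroup H :=
    { carrier := {x | x ∈ Subgroup.normalizer (A : Set H) ∧ ∃ M, rel x M}
      one_mem' := ⟨Subgroup.one_mem _, 1, fun a b h => by
        rw [show b = a from Subtype.ext (by rw [h, one_mul, inv_one, mul_one]),
          Matrix.SpecialLinearGroup.coe_one, Matrix.one_mulVec]⟩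
      mul_mem' := by
        rintro x y ⟨hx, Mx, h1⟩ ⟨hy, My, h2⟩
        refine ⟨Subgroup.mul_mem _ hx hy, Mx * My, fun a b h => ?_⟩
        rw [h1 ⟨_, conj_mem_of_mem_normalizer hy a.2⟩ b (by rw [h]; group), h2 a _ rfl,
          Matrix.mulVec_mulVec, Matrix.SpecialLinearGroup.coe_mul]
      inv_mem' := by
        rintro x ⟨hx, M, h1⟩
        refine ⟨Subgroup.inv_mem _ hx, M⁻¹, fun a b h => ?_⟩
        rw [h1 b a (by rw [h]; group), Matrix.mulVec_mulVec, ← Matrix.SpecialLinearGroup.coe_mul,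
          inv_mul_cancel, Matrix.SpecialLinearGroup.coe_one, Matrix.one_mulVec] }
  choose σ₀ hσ₀ using fun x : X => x.2.2
  let σ : X →* SL(2, ZMod p) := MonoidHom.mk' σ₀ fun x y => huniq (x * y).2.1 (hσ₀ (x * y))
    fun a b h => by
      rw [hσ₀ x ⟨_, conj_mem_of_mem_normalizer y.2.1 a.2⟩ b (by rw [h, Subgroup.coe_mul]; group),
        hσ₀ y a _ rfl, Matrix.mulVec_mulVec, Matrix.SpecialLinearGroup.coe_mul]
  refine involves_qd_of_natural hp2 A X hA (fun x hx => hx.1) σ (fun M => ?_) f hf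
    fun x u h => hσ₀ x u ⟨_, h⟩ rfl
  obtain ⟨x, -, hx, hr⟩ := hM M
  exact ⟨⟨x, hx, M, hr⟩, huniq hx (hσ₀ ⟨x, hx, M, hr⟩) hr⟩

/-- The action survives homomorphisms that are injective on `A`. -/
theorem SL2Act.map {H : Type v} [Group H] {H' : Type u} [Group H'] {A N : Subgroup H}
    (h : SL2Act (p := p) A N) (φ : H →* H') (hφ : Set.InjOn φ A) :
    SL2Act (p := p) (A.map φ) (N.map φ) := by
  obtain ⟨f, hf, hM⟩ := h
  choose sec hsec₁ hsec₂ using fun y : ↥(A.map φ) => y.2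
  let g : ↥(A.map φ) →* A := MonoidHom.mk' (fun y => ⟨sec y, hsec₁ y⟩) fun y z =>
    Subtype.ext (hφ (hsec₁ _) (A.mul_mem (hsec₁ y) (hsec₁ z)) (show _ = φ (sec y * sec z) by
      rw [hsec₂, map_mul, hsec₂, hsec₂, Subgroup.coe_mul]))
  have hg : ∀ (a : A) (ha : φ a ∈ A.map φ), g ⟨φ a, ha⟩ = a := fun a ha =>
    Subtype.ext (hφ (hsec₁ _) a.2 (hsec₂ _))
  refine ⟨f.comp g, fun v => ?_, fun M => ?_⟩
  · obtain ⟨a, rfl⟩ := hf v
    exact ⟨⟨φ a, a, a.2, rfl⟩, congrArg f (hg a _)⟩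
  · obtain ⟨x, hxN, hx, hr⟩ := hM M
    refine ⟨φ x, ⟨x, hxN, rfl⟩, Subgroup.le_normalizer_map φ ⟨x, hx, rfl⟩, fun a b h => ?_⟩
    refine hr (g a) (g b) (hφ (hsec₁ b) (conj_mem_of_mem_normalizer hx (g a).2) ?_)
    rw [hsec₂, h, map_mul, map_mul, map_inv]
    show _ = φ x * φ (sec a) * (φ x)⁻¹
    rw [hsec₂]

/-- A `p`-subgroup with the natural action, from a `Qd(p)` section. -/
theorem exists_act_of_involves_qd {G : Type u} [Group G] [Finite G]
    (h : Cfsg.Involves ↥(Cfsg.qd p) G) :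
    ∃ A : Subgroup G, IsPGroup p A ∧ SL2Act (p := p) A ⊤ := by
  obtain ⟨K, ψ, hψ⟩ := CfsgLib.Offender.exists_hom_of_involves h
  haveI hVn : (transl p).Normal := by rw [transl]; infer_instance
  set U := (transl p).comap ψ with hU
  haveI : U.Normal := hVn.comap ψ
  obtain ⟨T⟩ : Nonempty (Sylow p U) := inferInstance
  set T' := (T : Subgroup U).map U.subtype with hT'
  let ψU : U →* transl p := ψ.subgroupComap (transl p)
  have hψU : Function.Surjective ψU := ψ.subgroupComap_surjective_of_surjective _ hψ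
  have htop : (T : Subgroup U).map ψU = ⊤ := by
    have h1 := (T.mapSurjective hψU).3 (isPGroup_transl.to_subgroup ⊤) le_top
    rw [Sylow.coe_mapSurjective] at h1
    exact h1.symm
  have himg : T'.map ψ = transl p := by
    rw [hT', Subgroup.map_map, show ψ.comp U.subtype = (transl p).subtype.comp ψU from rfl,
      ← Subgroup.map_map, htop, ← MonoidHom.range_eq_map, Subgroup.range_subtype]
  set M := Subgroup.normalizer (T' : Set K) with hM
  have hMtop : M.map ψ = ⊤ := by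
    have h1 := congrArg (Subgroup.map ψ) (Sylow.normalizer_sup_eq_top T)
    rw [Subgroup.map_sup, Subgroup.map_top_of_surjective _ hψ, ← hT', ← hM] at h1
    refine eq_top_iff.mpr (h1.ge.trans (sup_le le_rfl ?_))
    refine (Subgroup.map_comap_le ψ _).trans ?_
    rw [← himg]
    exact Subgroup.map_mono Subgroup.le_normalizer
  choose vec hvec using fun x : T' => mem_transl.1 (himg ▸ ⟨x, x.2, rfl⟩ : ψ x ∈ transl p)
  let f : T' →* Multiplicative (Fin 2 → ZMod p) :=
    MonoidHom.mk' (fun x => Multiplicative.ofAdd (vec x)) fun x y => by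
      rw [← ofAdd_add]
      refine congrArg Multiplicative.ofAdd (el_inj (g := (1 : SL(2, ZMod p))) (h := 1) ?_).2
      rw [hvec, ← el_one_add, hvec, hvec, Subgroup.coe_mul, map_mul]
  have hact : SL2Act (p := p) T' ⊤ := by
    refine ⟨f, fun v => ?_, fun g => ?_⟩
    · obtain ⟨x, hx, hxe⟩ := himg.ge (mem_transl.2 ⟨v.toAdd, rfl⟩)
      refine ⟨⟨x, hx⟩, ?_⟩
      show Multiplicative.ofAdd (vec ⟨x, hx⟩) = v
      rw [(el_inj ((hvec ⟨x, hx⟩).trans hxe)).2, ofAdd_toAdd]
    · obtain ⟨x, hx, hxe⟩ := hMtop.ge (Subgroup.mem_top (el g 0))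
      refine ⟨x, Subgroup.mem_top _, hx, fun a b h => ?_⟩
      show vec b = g.1.mulVec (vec a)
      refine (el_inj (g := (1 : SL(2, ZMod p))) (h := 1) ?_).2
      rw [hvec, h, map_mul, map_mul, map_inv, hxe, ← hvec a, conj_el_one]
  refine ⟨T'.map K.subtype, (T.2.map _).map _, ?_⟩
  obtain ⟨f', hf', hM'⟩ := hact.map K.subtype K.subtype_injective.injOn
  exact ⟨f', hf', fun g => by
    obtain ⟨x, -, hx, hr⟩ := hM' g
    exact ⟨x, Subgroup.mem_top _, hx, hr⟩⟩

/-- A section-free fusion system forces the group to be free of `Qd(p)`. -/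
theorem not_involves_qd_of_isSectionFree {G : Type u} [Group G] [Finite G] (hp2 : p ≠ 2)
    (S : Sylow p G)
    (hfree : (groupFusionSystem (S : Subgroup G)).IsSectionFree p ↥(Cfsg.qd p)) :
    ¬ Cfsg.Involves ↥(Cfsg.qd p) G := by
  intro hinv
  obtain ⟨A, hA, f, hf, hM⟩ := exists_act_of_involves_qd hinv
  let C := Subgroup.centralizer (A : Set G)
  obtain ⟨R⟩ : Nonempty (Sylow p C) := inferInstance
  let D : Subgroup G := (R : Subgroup C).map C.subtype
  have hDC : D ≤ C := Subgroup.map_subtype_le _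
  have hDp : IsPGroup p D := R.isPGroup'.map _
  have hDmax : ∀ T : Subgroup G, T ≤ C → IsPGroup p T → Nat.card T ≤ Nat.card D :=
    (exists_sylow_eq_iff hDp hDC).1 ⟨R, (Subgroup.comap_map_eq_self_of_injective
      C.subtype_injective _).symm⟩
  let Q : Subgroup G := A ⊔ D
  have hQp : IsPGroup p Q := by
    show IsPGroup p ↥(A ⊔ D)
    rw [sup_comm]
    exact hDp.to_sup_of_normal_right' hA (hDC.trans (Subgroup.centralizer_le_normalizer _))
  -- elements acting as all of `SL(2, p)` can be chosen to normalize `Q`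
  have hact : SL2Act (p := p) A (Subgroup.normalizer (Q : Set G)) := by
    refine ⟨f, hf, fun M => ?_⟩
    obtain ⟨x, -, hx, hr⟩ := hM M
    have hxC : ∀ d ∈ D, x * d * x⁻¹ ∈ C := fun d hd a ha => by
      have h1 := hDC hd _ (conj_mem_of_mem_normalizer (Subgroup.inv_mem _ hx) ha)
      calc a * (x * d * x⁻¹) = x * ((x⁻¹ * a * x⁻¹⁻¹) * d) * x⁻¹ := by group
        _ = x * (d * (x⁻¹ * a * x⁻¹⁻¹)) * x⁻¹ := by rw [h1]
        _ = x * d * x⁻¹ * a := by group
    have hD₁ : IsPGroup p ((D.map (MulAut.conj x).toMonoidHom).subgroupOf C) :=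
      (hDp.map _).comap_of_injective _ C.subtype_injective
    obtain ⟨c, hc⟩ := exists_conj_le_sylow R hD₁
    have hnD : (c : G) * x ∈ Subgroup.normalizer (D : Set G) := by
      have : ∀ d ∈ D, (c : G) * x * d * ((c : G) * x)⁻¹ ∈ D := fun d hd => by
        refine ⟨_, hc ⟨⟨x * d * x⁻¹, hxC d hd⟩, ⟨d, hd, rfl⟩, rfl⟩, ?_⟩
        show (c : G) * (x * d * x⁻¹) * (c : G)⁻¹ = _
        group
      exact mem_normalizer_of_conj_mem (S := (⊤ : Subgroup G)) le_top this
    have hca : ∀ a ∈ A, (c : G) * a * (c : G)⁻¹ = a := fun a ha => by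
      rw [mul_inv_eq_iff_eq_mul]; exact (c.2 a ha).symm
    have hnA : (c : G) * x ∈ Subgroup.normalizer (A : Set G) :=
      Subgroup.mul_mem _ ((Subgroup.centralizer_le_normalizer _) c.2) hx
    refine ⟨(c : G) * x, ?_, hnA, fun a b h => hr a b ?_⟩
    · refine mem_normalizer_of_conj_mem (S := (⊤ : Subgroup G)) le_top fun q hq => ?_
      have hle : Q ≤ Q.comap (MulAut.conj ((c : G) * x)).toMonoidHom := sup_le
        (fun a ha => Subgroup.mem_sup_left (conj_mem_of_mem_normalizer hnA ha))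
        (fun d hd => Subgroup.mem_sup_right (conj_mem_of_mem_normalizer hnD hd))
      exact hle hq
    · rw [h, ← hca (x * a * x⁻¹) (conj_mem_of_mem_normalizer hx a.2)]
      group
  -- `p`-elements centralizing `Q` lie in it
  have hQc : ∀ x ∈ Subgroup.centralizer (Q : Set G), (∃ k : ℕ, x ^ p ^ k = 1) → x ∈ Q :=
    fun x hx hxp => Subgroup.mem_sup_right (mem_of_commute_of_card_max hDC hDp hDmax
      (Subgroup.centralizer_le (show (A : Set G) ⊆ Q from fun _ h => Subgroup.mem_sup_left h) hx) hxp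
      ((Subgroup.centralizer_le_normalizer _) (Subgroup.centralizer_le
        (show (D : Set G) ⊆ Q from fun _ h => Subgroup.mem_sup_right h) hx)))
  -- move `Q` to a fully normalized subgroup
  obtain ⟨g₀, hg₀⟩ := exists_conj_le_sylow S hQp
  obtain ⟨Q', hQQ', hQ'n⟩ := exists_isFullyNormalized
    (F := groupFusionSystem (S : Subgroup G)) hg₀
  obtain ⟨-, -, g₁, hg₁⟩ := isConj_group_iff.1 hQQ'
  have hQ' : Q' = Q.map (MulAut.conj (g₁ * g₀)).toMonoidHom := by
    rw [← hg₁, Subgroup.map_map]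
    congr 1
    ext z
    simp [mul_assoc]
  have hQ'c : (groupFusionSystem (S : Subgroup G)).IsCentric Q' := by
    refine ⟨hQ'n.1, fun R' hR' => ?_⟩
    obtain ⟨-, -, g, rfl⟩ := isConj_group_iff.1 hR'
    rintro y ⟨hyS, hyc⟩
    set e := g * (g₁ * g₀) with he
    have hmem : ∀ z ∈ Q, e * z * e⁻¹ ∈ Q'.map (MulAut.conj g).toMonoidHom := fun z hz =>
      ⟨g₁ * g₀ * z * (g₁ * g₀)⁻¹, hQ' ▸ ⟨z, hz, rfl⟩, by
        show g * (g₁ * g₀ * z * (g₁ * g₀)⁻¹) * g⁻¹ = e * z * e⁻¹
        rw [he]; group⟩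
    have h1 : e⁻¹ * y * e ∈ Q := by
      refine hQc _ (fun z hz => ?_) ?_
      · calc z * (e⁻¹ * y * e) = e⁻¹ * ((e * z * e⁻¹) * y) * e := by group
          _ = e⁻¹ * (y * (e * z * e⁻¹)) * e := by rw [hyc _ (hmem z hz)]
          _ = e⁻¹ * y * e * z := by group
      · obtain ⟨k, hk⟩ := S.isPGroup' ⟨y, hyS⟩
        refine ⟨k, ?_⟩
        have := congrArg (MulAut.conj e⁻¹).toMonoidHom (congrArg Subtype.val hk)
        rw [Subgroup.coe_pow, map_pow, Subgroup.coe_one, map_one] at this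
        simpa using this
    have h2 := hmem _ h1
    rwa [show e * (e⁻¹ * y * e) * e⁻¹ = y by group] at h2
  -- the action inside the model
  let cj : G →* G := (MulAut.conj (g₁ * g₀)).toMonoidHom
  have hact₁ : SL2Act (p := p) (A.map cj) (Subgroup.normalizer (Q' : Set G)) := by
    obtain ⟨f', hf', hM'⟩ := hact.map cj (MulAut.conj (g₁ * g₀)).injective.injOn
    refine ⟨f', hf', fun M => ?_⟩
    obtain ⟨x, hxN, hx, hr⟩ := hM' M
    exact ⟨x, hQ' ▸ Subgroup.le_normalizer_map _ hxN, hx, hr⟩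
  have hAQ : A.map cj ≤ Subgroup.normalizer (Q' : Set G) :=
    (hQ' ▸ Subgroup.map_mono le_sup_left : A.map cj ≤ Q').trans Subgroup.le_normalizer
  set NQ := Subgroup.normalizer (Q' : Set G) with hNQ
  let A₀ : Subgroup NQ := (A.map cj).subgroupOf NQ
  have hact₀ : SL2Act (p := p) A₀ ⊤ := by
    obtain ⟨f', hf', hM'⟩ := hact₁
    let e := Subgroup.subgroupOfEquivOfLe hAQ
    refine ⟨f'.comp e.toMonoidHom, hf'.comp e.surjective, fun M => ?_⟩
    obtain ⟨x, hxN, hx, hr⟩ := hM' M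
    refine ⟨⟨x, hxN⟩, Subgroup.mem_top _, ?_, fun a b h => hr (e a) (e b) (congrArg Subtype.val h)⟩
    refine mem_normalizer_of_conj_mem (S := (⊤ : Subgroup NQ)) le_top fun a ha => ?_
    show x * (a : G) * x⁻¹ ∈ A.map cj
    exact conj_mem_of_mem_normalizer hx ha
  obtain ⟨N, hN⟩ : ∃ N, (groupFusionSystem (S : Subgroup G)).IsNormalizerSystem Q' N :=
    ⟨normalizerSystem _ Q' hQ'n.1, fun _ => rfl⟩
  obtain ⟨O, hO, ι, hι, hOp⟩ := exists_group_model S hQ'n hQ'c hN
  have hA₀ : IsPGroup p A₀ := (hA.map cj).comap_of_injective _ NQ.subtype_injective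
  have hinjA : Set.InjOn (QuotientGroup.mk' O) (A₀ : Set NQ) := by
    intro a ha b hb h
    have h1 : a⁻¹ * b ∈ O := QuotientGroup.eq.1 h
    obtain ⟨k, hk⟩ := hA₀ ⟨a⁻¹ * b, A₀.mul_mem (A₀.inv_mem ha) hb⟩
    exact inv_mul_eq_one.1 (orderOf_eq_one_iff.1 (Nat.eq_one_of_dvd_coprimes
      ((hOp _ h1).2.pow_right k) dvd_rfl (orderOf_dvd_of_pow_eq_one (congrArg Subtype.val hk))))
  exact hfree Q' hQ'n hQ'c N hN _ ι hι
    (involves_qd_of_act hp2 (hA₀.map _) (hact₀.map _ hinjA))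

end CfsgLib.Fusion
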