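import Cfsg.Agent.Lib.Fusion.Normal
import Cfsg.Agent.Lib.Fusion.Ext
import Cfsg.Agent.Lib.Fusion.ModelExists
import Cfsg.Agent.Lib.SL2Module.StrongMain

/-!
Saturated fusion systems over a group shaped like a Sylow `p`-subgroup of `SL_3(q)`: a nontrivial
normal subgroup forces the system to be constrained.
-/

set_option autoImplicit false
set_option linter.style.haveILetI false
set_option linter.unusedSectionVars false

namespace CfsgLib.Fusion.HeisCore

open Cfsg Cfsg.FusionSystem CfsgLib.Fusion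
open CfsgLib.SL2Module.Offender (fixS mem_fixS)

variable {Ω : Type*} [Group Ω]

/-- The commutation properties of a Sylow `p`-subgroup of `SL_3(q)`. -/
structure Shape (p q : ℕ) (S Z : Subgroup Ω) : Prop where
  le : Z ≤ S
  central : ∀ z ∈ Z, ∀ s ∈ S, z * s = s * z
  mem : ∀ x ∈ S, (∀ s ∈ S, x * s = s * x) → x ∈ Z
  gt : 1 < q
  cardS : Nat.card S = q ^ 3
  cardZ : Nat.card Z = q
  comm : ∀ a ∈ S, ∀ b ∈ S, a * b * a⁻¹ * b⁻¹ ∈ Z
  cardC : ∀ x ∈ S, x ∉ Z → Nat.card ↥(S ⊓ Subgroup.centralizer ({x} : Set Ω)) = q ^ 2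
  commC : ∀ x ∈ S, x ∉ Z → ∀ y ∈ S, y * x = x * y → ∀ w ∈ S, w * x = x * w → y * w = w * y
  expZ : ∀ z ∈ Z, z ^ p = 1
  expC : ∀ x ∈ S, x ∉ Z → x ^ p = 1 → ∀ y ∈ S, y * x = x * y → y ^ p = 1

variable {S : Subgroup Ω} [Finite S] {F : FusionSystem S} {p q : ℕ} [hp : Fact p.Prime]
  {Z : Subgroup Ω} {E : Subgroup Ω}

theorem isPGroup_zpowers_pow {G : Type*} [Group G] {x : G} {n : ℕ} (hx : x ^ p ^ n = 1) :
    IsPGroup p (Subgroup.zpowers x) := by
  rintro ⟨_, k, rfl⟩
  refine ⟨n, Subtype.ext ?_⟩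
  show (x ^ k) ^ p ^ n = 1
  rw [← zpow_natCast, ← zpow_mul, mul_comm, zpow_mul, zpow_natCast, hx, one_zpow]

/-- The automorphisms of `E` stabilising `1 ≤ Z ≤ E`. -/
def stab (Z E : Subgroup Ω) : Subgroup (MulAut E) where
  carrier := {α | (∀ x : E, (x : Ω)⁻¹ * (α x : Ω) ∈ Z) ∧ ∀ x : E, (x : Ω) ∈ Z → α x = x}
  one_mem' := ⟨fun x => by simp, fun x _ => rfl⟩
  mul_mem' := fun {α β} hα hβ => ⟨fun x => by
      have e : (x : Ω)⁻¹ * ((α * β) x : Ω) =
          ((x : Ω)⁻¹ * (β x : Ω)) * (((β x : E) : Ω)⁻¹ * (α (β x) : Ω)) := by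
        rw [MulAut.mul_apply]; group
      rw [e]
      exact Z.mul_mem (hβ.1 x) (hα.1 _),
    fun x hx => by rw [MulAut.mul_apply, hβ.2 x hx, hα.2 x hx]⟩
  inv_mem' := fun {α} hα => ⟨fun x => by
      have h := hα.1 (α⁻¹ x)
      rw [MulAut.apply_inv_self] at h
      have := Z.inv_mem h
      rwa [mul_inv_rev, inv_inv] at this,
    fun x hx => by
      conv_lhs => rw [← hα.2 x hx]
      exact MulAut.inv_apply_self _ α x⟩

theorem Z_le (h : Shape p q S Z) (hc : F.IsCentric E) : Z ≤ E := fun z hz =>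
  hc.2 E (isConj_refl hc.1)
    ⟨h.le hz, Subgroup.mem_centralizer_iff.2 fun x hx => (h.central z hz x (hc.1 hx)).symm⟩

theorem conj_mem (h : Shape p q S Z) (hc : F.IsCentric E) {g x : Ω} (hg : g ∈ S) (hx : x ∈ E) :
    g * x * g⁻¹ ∈ E := by
  have := E.mul_mem (Z_le h hc (h.comm g hg x (hc.1 hx))) hx
  rwa [inv_mul_cancel_right] at this

theorem mem_normalizer (h : Shape p q S Z) (hc : F.IsCentric E) {g : Ω} (hg : g ∈ S) :
    g ∈ Subgroup.normalizer (E : Set Ω) :=
  mem_normalizer_of_conj_mem hc.1 fun _ hx => conj_mem h hc hg hx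

/-- `Z` is moved by the automorphisms of an essential subgroup. -/
theorem not_invariant (h : Shape p q S Z) (hS : IsPGroup p S) (hF : F.IsSaturated p)
    (hE : F.IsEssential p E)
    (hinv : ∀ α ∈ F.autGroup E, ∀ x : E, (x : Ω) ∈ Z → (α x : Ω) ∈ Z) : False := by
  classical
  have hc := hE.1
  have hr := isRadical_of_isEssential hS hE
  have := finite_of_le hc.1
  have := finite_mulAut E
  apply ne_of_isEssential hS hF hE
  refine le_antisymm hc.1 fun g hg => ?_
  have hgn := mem_normalizer h hc hg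
  have hn : ((stab Z E).subgroupOf (F.autGroup E)).Normal := by
    refine ⟨fun a ha b => ?_⟩
    obtain ⟨h1, h2⟩ : (a : MulAut E) ∈ stab Z E := ha
    refine ⟨fun x => ?_, fun x hx => ?_⟩
    · show (x : Ω)⁻¹ * (((b : MulAut E) * (a : MulAut E) * (b : MulAut E)⁻¹) x : Ω) ∈ Z
      rw [MulAut.mul_apply, MulAut.mul_apply]
      obtain ⟨y, rfl⟩ := (b : MulAut E).surjective x
      rw [MulAut.inv_apply_self]
      have := hinv _ b.2 (y⁻¹ * (a : MulAut E) y) (by simpa using h1 y)
      simpa using this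
    · show ((b : MulAut E) * (a : MulAut E) * (b : MulAut E)⁻¹) x = x
      rw [MulAut.mul_apply, MulAut.mul_apply, h2 _ (hinv _ ((F.autGroup E).inv_mem b.2) x hx),
        MulAut.apply_inv_self]
  have hp' : IsPGroup p (stab Z E) := by
    refine isPGroup_of_stabilizes_series (hS.to_le hc.1)
      (fun i => if i = 0 then ⊥ else if i = 1 then Z.subgroupOf E else ⊤) 2 rfl rfl _ ?_
    intro α hα i hi x hx
    obtain rfl | rfl : i = 0 ∨ i = 1 := by omega
    · simp only [zero_add, one_ne_zero, if_false, if_true] at hx ⊢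
      rw [Subgroup.mem_bot, inv_mul_eq_one]
      exact (hα.2 x hx).symm
    · simp only [one_ne_zero, if_false, if_true]
      exact hα.1 x
  have hmem : conjAut E hgn ∈ stab Z E := by
    refine ⟨fun x => ?_, fun x hx => Subtype.ext ?_⟩
    · rw [conjAut_apply]
      have := h.comm _ (S.inv_mem (hc.1 x.2)) g hg
      rwa [inv_inv, mul_assoc _ (g : Ω), mul_assoc _ _ g⁻¹] at this
    · rw [conjAut_apply, ← h.central _ hx g hg, mul_inv_cancel_right]
  exact mem_of_mem_pCore hc hr ⟨hg, hgn⟩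
    (α := ⟨conjAut E hgn, autInducedBy_le_autGroup hc.1 (conjAut_mem_autInducedBy hgn hg)⟩)
    (conjAut_apply E hgn)
    (CfsgLib.Fitting.le_pCore hn
      (hp'.of_injective (MonoidHom.mk' (fun a : (stab Z E).subgroupOf (F.autGroup E) =>
        (⟨(a : F.autGroup E), a.2⟩ : stab Z E)) fun _ _ => rfl)
        fun a b e => Subtype.ext (Subtype.ext (congrArg (fun c : stab Z E => (c : MulAut E)) e)))
      hmem)

/-- An essential subgroup is abelian. -/
theorem comm_of_essential (h : Shape p q S Z) (hS : IsPGroup p S) (hF : F.IsSaturated p)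
    (hE : F.IsEssential p E) : ∀ a ∈ E, ∀ b ∈ E, a * b = b * a := by
  by_contra hcon
  push Not at hcon
  obtain ⟨a, ha, b, hb, hab⟩ := hcon
  have hES := hE.1.1
  refine not_invariant h hS hF hE fun α _ x hx => ?_
  by_contra hxZ
  have hcx : ∀ y ∈ E, y * (α x : Ω) = (α x : Ω) * y := by
    intro y hy
    obtain ⟨y', hy'⟩ := α.surjective ⟨y, hy⟩
    rw [show y = (α y' : Ω) by rw [hy'], ← Subgroup.coe_mul, ← Subgroup.coe_mul, ← map_mul,
      ← map_mul]
    congr 2
    exact Subtype.ext (h.central x hx y' (hES y'.2)).symm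
  exact hab (h.commC _ (hES (α x).2) hxZ a (hES ha) (hcx a ha) b (hES hb) (hcx b hb))

/-- An essential subgroup has exponent `p`. -/
theorem exp_of_essential (h : Shape p q S Z) (hS : IsPGroup p S) (hF : F.IsSaturated p)
    (hE : F.IsEssential p E) : ∀ a ∈ E, a ^ p = 1 := by
  by_contra hcon
  push Not at hcon
  obtain ⟨a, ha, hap⟩ := hcon
  have hES := hE.1.1
  refine not_invariant h hS hF hE fun α _ x hx => ?_
  by_contra hxZ
  have hpow : (α x : Ω) ^ p = 1 := by
    rw [← SubmonoidClass.coe_pow, ← map_pow,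
      show x ^ p = 1 from Subtype.ext (by rw [SubmonoidClass.coe_pow, h.expZ _ hx]; rfl), map_one]
    rfl
  exact hap (h.expC _ (hES (α x).2) hxZ hpow a (hES ha)
    (comm_of_essential h hS hF hE a ha _ (α x).2))

/-- An essential subgroup contains the centraliser of each of its noncentral elements. -/
theorem mem_of_commute (h : Shape p q S Z) (hS : IsPGroup p S) (hF : F.IsSaturated p)
    (hE : F.IsEssential p E) {x y : Ω} (hx : x ∈ E) (hxZ : x ∉ Z) (hy : y ∈ S)
    (hyx : y * x = x * y) : y ∈ E :=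
  hE.1.2 E (isConj_refl hE.1.1) ⟨hy, Subgroup.mem_centralizer_iff.2 fun w hw =>
    (h.commC x (hE.1.1 hx) hxZ y hy hyx w (hE.1.1 hw)
      (comm_of_essential h hS hF hE w hw x hx)).symm⟩

theorem exists_notMem (h : Shape p q S Z) (hE : F.IsCentric E) : ∃ x ∈ E, x ∉ Z := by
  by_contra hcon
  push Not at hcon
  have hSE : S ≤ E := fun g hg => hE.2 E (isConj_refl hE.1)
    ⟨hg, Subgroup.mem_centralizer_iff.2 fun w hw => h.central w (hcon w hw) g hg⟩
  have := finite_of_le h.le
  have h1 := Subgroup.card_le_of_le (hSE.trans hcon : S ≤ Z)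
  rw [h.cardS, h.cardZ] at h1
  have h2 := Nat.pow_lt_pow_right h.gt (show 1 < 3 by norm_num)
  rw [pow_one] at h2
  omega

theorem card_essential (h : Shape p q S Z) (hS : IsPGroup p S) (hF : F.IsSaturated p)
    (hE : F.IsEssential p E) : Nat.card E = q ^ 2 := by
  obtain ⟨x, hx, hxZ⟩ := exists_notMem h hE.1
  have hES := hE.1.1
  rw [← h.cardC x (hES hx) hxZ]
  have : Finite ↥(S ⊓ Subgroup.centralizer ({x} : Set Ω)) := finite_of_le inf_le_left
  refine le_antisymm (Subgroup.card_le_of_le ?_) ?_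
  · exact fun y hy => ⟨hES hy, Subgroup.mem_centralizer_singleton_iff.2
      (comm_of_essential h hS hF hE y hy x hx)⟩
  · have := finite_of_le hES
    exact Subgroup.card_le_of_le fun y hy => mem_of_commute h hS hF hE hx hxZ hy.1
      (Subgroup.mem_centralizer_singleton_iff.1 hy.2)

/-- A subgroup of `Z` invariant under the automorphisms of an essential subgroup is trivial. -/
theorem eq_one_of_invariant (h : Shape p q S Z) (hS : IsPGroup p S) (hF : F.IsSaturated p)
    (hE : F.IsEssential p E) {Q : Subgroup Ω} (hQZ : Q ≤ Z)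
    (hinv : ∀ α ∈ F.autGroup E, ∀ x ∈ Q, autFun α x ∈ Q) : Q = ⊥ := by
  classical
  have hc := hE.1
  have := finite_of_le hc.1
  have := finite_mulAut E
  have hab := comm_of_essential h hS hF hE
  letI : CommGroup E :=
    { (inferInstance : Group E) with mul_comm := fun a b => Subtype.ext (hab a a.2 b b.2) }
  let P := F.autGroup E
  let φ : P →* AddMonoid.End (Additive E) :=
    { toFun := fun α => MonoidHom.toAdditive ((α : MulAut E).toMonoidHom)
      map_one' := rfl
      map_mul' := fun _ _ => rfl }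
  have hφ : ∀ (α : P) (x : E), φ α (Additive.ofMul x) = Additive.ofMul ((α : MulAut E) x) :=
    fun α x => rfl
  obtain ⟨-, R, hR⟩ := isFullyAutomized_of_isFullyNormalized hS hF hE.2.1
  set A : Subgroup P := (autInducedBy S E).subgroupOf (F.autGroup E) with hA
  obtain ⟨X, hXdef⟩ : ∃ X : Subgroup P,
      X = (Subgroup.closure (extSet F E)).subgroupOf (F.autGroup E) := ⟨_, rfl⟩
  have hrec := isReceptive_of_isFullyNormalized hS hF hE.2.1
  have hXne : X ≠ ⊤ := fun e => closure_extSet_ne_of_isEssential hS hF hE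
    (le_antisymm (closure_extSet_le E) (Subgroup.subgroupOf_eq_top.1 (hXdef ▸ e)))
  have hRA : (R : Subgroup P) = A := hR
  have hXN : ∀ U : Subgroup P, U ≤ (R : Subgroup P) → U ≠ ⊥ →
      Subgroup.normalizer (U : Set P) ≤ X := by
    intro U hU hne n hn
    obtain ⟨u, hu, hu1⟩ := (Subgroup.bot_or_exists_ne_one U).resolve_left hne
    have huA : u ∈ A := by rw [← hRA]; exact hU hu
    obtain ⟨g, hg, hgv⟩ := (mem_autInducedBy_iff S E _).1 huA
    have hgE : g ∉ E := fun hgE => hu1 (Subtype.ext (MulEquiv.ext fun x => Subtype.ext (by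
      exact (hgv x).trans (by rw [hab g hgE x x.2, mul_inv_cancel_right]; rfl))))
    have hcA : n * u * n⁻¹ ∈ A := by
      rw [← hRA]; exact hU ((Subgroup.mem_normalizer_iff.1 hn u).1 hu)
    obtain ⟨g', hg', hgv'⟩ := (mem_autInducedBy_iff S E _).1 hcA
    rw [hXdef, Subgroup.mem_subgroupOf]
    refine Subgroup.subset_closure (mem_extSet_of_lt hrec n.2 ?_)
    refine lt_nPhi_of_mem ((mem_autGroup_iff hc.1 _).1 n.2).isMap
      ⟨hg, mem_normalizer h hc hg, g', hg', fun x hx => ?_⟩ hgE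
    have := hgv' ((n : MulAut E) ⟨x, hx⟩)
    rw [autFun_apply _ (conj_mem h hc hg hx), autFun_apply _ hx]
    refine Eq.trans ?_ this
    show _ = ((((n : MulAut E) * (u : MulAut E) * (n : MulAut E)⁻¹) ((n : MulAut E) ⟨x, hx⟩)) : Ω)
    rw [MulAut.mul_apply, MulAut.mul_apply, MulAut.inv_apply_self]
    congr 2
    exact Subtype.ext (hgv ⟨x, hx⟩).symm
  obtain ⟨g₀, hg₀, hg₀E⟩ := SetLike.exists_of_lt
    (lt_of_le_of_ne hc.1 (ne_of_isEssential hS hF hE))
  have hne : A ≠ ⊥ := fun e => by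
    have hm : (⟨conjAut E (mem_normalizer h hc hg₀), autInducedBy_le_autGroup hc.1
        (conjAut_mem_autInducedBy _ hg₀)⟩ : P) ∈ A := conjAut_mem_autInducedBy _ hg₀
    rw [e, Subgroup.mem_bot, Subtype.ext_iff] at hm
    exact hg₀E (hc.2 E (isConj_refl hc.1) ⟨hg₀, mem_centralizer_of_conj_eq fun x hx => by
      have := congrArg (fun f : MulAut E => ((f ⟨x, hx⟩ : E) : Ω)) hm
      simpa using this⟩)
  have hAX : A ≤ X := by
    refine Subgroup.le_normalizer.trans (hXN A (hRA.ge) hne)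
  have hti : ∀ a t : P, t ≠ 1 → (∃ n, t ^ p ^ n = 1) → t ∈ X → a * t * a⁻¹ ∈ X → a ∈ X := by
    intro a t ht ⟨n, hn⟩ htX hatX
    have hRX : (R : Subgroup P) ≤ X := hRA ▸ hAX
    have hsyl : ∀ s : P, s ^ p ^ n = 1 → s ∈ X → ∃ y ∈ X, y * s * y⁻¹ ∈ (R : Subgroup P) := by
      intro s hs hsX
      obtain ⟨T, hT⟩ := (isPGroup_zpowers_pow (p := p) (x := (⟨s, hsX⟩ : X)) (n := n)
        (Subtype.ext (by rw [SubmonoidClass.coe_pow, hs]; rfl))).exists_le_sylow
      obtain ⟨y, hy⟩ := MulAction.exists_smul_eq X T (R.subtype hRX)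
      refine ⟨y, y.2, ?_⟩
      have hm : y * ⟨s, hsX⟩ * y⁻¹ ∈ ((R.subtype hRX : Sylow p X) : Subgroup X) := by
        rw [← hy, Sylow.coe_subgroup_smul, Subgroup.mem_pointwise_smul_iff_inv_smul_mem]
        simpa [mul_assoc] using hT (Subgroup.mem_zpowers _)
      exact hm
    obtain ⟨x, hx, hxt⟩ := hsyl t hn htX
    obtain ⟨y, hy, hyt⟩ := hsyl (a * t * a⁻¹) (by rw [conj_pow, hn, mul_one, mul_inv_cancel]) hatX
    have hz : y * a * x⁻¹ ∈ X := by
      refine mem_of_conj_le hXN _ (Subgroup.zpowers (x * t * x⁻¹)) rfl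
        (Subgroup.zpowers_le.2 hxt) (Subgroup.zpowers_ne_bot.2 ?_) _ ?_
      · rwa [ne_eq, mul_inv_eq_one, mul_eq_left]
      · rintro u ⟨k, rfl⟩
        rw [← conj_zpow]
        refine Subgroup.zpow_mem _ ?_ k
        simpa [mul_assoc] using hyt
    have := X.mul_mem (X.mul_mem (X.inv_mem hy) hz) hx
    simpa [mul_assoc] using this
  have hmemfix : ∀ x : E, Additive.ofMul x ∈ fixS φ A ↔ (x : Ω) ∈ Z := by
    intro x
    constructor
    · intro hx
      refine h.mem _ (hc.1 x.2) fun s hs => ?_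
      have hm : (⟨conjAut E (mem_normalizer h hc hs), autInducedBy_le_autGroup hc.1
          (conjAut_mem_autInducedBy _ hs)⟩ : P) ∈ A := conjAut_mem_autInducedBy _ hs
      have := congrArg (fun v : Additive E => ((Additive.toMul v : E) : Ω)) (hx _ hm)
      simp only [hφ, toMul_ofMul, conjAut_apply] at this
      exact (mul_inv_eq_iff_eq_mul.1 this).symm
    · intro hx a ha
      obtain ⟨g, hg, hgv⟩ := (mem_autInducedBy_iff S E _).1 ha
      rw [hφ]
      congr 1
      exact Subtype.ext ((hgv x).trans (by rw [← h.central _ hx g hg, mul_inv_cancel_right]))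
  have hcardfix : Nat.card (fixS φ A) = q := by
    rw [← h.cardZ]
    exact Nat.card_congr
      { toFun := fun v => ⟨(Additive.toMul (v : Additive E) : E), (hmemfix _).1 v.2⟩
        invFun := fun z => ⟨Additive.ofMul ⟨z, Z_le h hc z.2⟩, (hmemfix _).2 z.2⟩
        left_inv := fun v => rfl
        right_inv := fun z => rfl }
  have hcardV : Nat.card (Additive E) = q ^ 2 := by
    rw [Nat.card_congr Additive.toMul, card_essential h hS hF hE]
  have hcardA : q ≤ Nat.card A := by
    let θ : S →* P := MonoidHom.mk'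
      (fun g => ⟨conjAut E (mem_normalizer h hc g.2), autInducedBy_le_autGroup hc.1
        (conjAut_mem_autInducedBy _ g.2)⟩)
      fun g g' => Subtype.ext (MulEquiv.ext fun x => Subtype.ext (by simp [mul_assoc]))
    have hker : θ.ker ≤ E.subgroupOf S := fun g hg => by
      rw [MonoidHom.mem_ker, Subtype.ext_iff] at hg
      exact hc.2 E (isConj_refl hc.1) ⟨g.2, mem_centralizer_of_conj_eq fun x hx => by
        have := congrArg (fun f : MulAut E => ((f ⟨x, hx⟩ : E) : Ω)) hg
        simpa [θ] using this⟩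
    have hran : θ.range ≤ A := by
      rintro _ ⟨g, rfl⟩
      exact conjAut_mem_autInducedBy _ g.2
    have h1 := Subgroup.card_eq_card_quotient_mul_card_subgroup θ.ker
    rw [Nat.card_congr (QuotientGroup.quotientKerEquivRange θ).toEquiv, h.cardS] at h1
    have h2 := Subgroup.card_le_of_le hran
    have h3 : Nat.card θ.ker ≤ q ^ 2 := by
      rw [← card_essential h hS hF hE,
        ← Nat.card_congr (Subgroup.subgroupOfEquivOfLe hc.1).toEquiv]
      exact Subgroup.card_le_of_le hker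
    have h4 : q ^ 3 ≤ Nat.card A * q ^ 2 := h1 ▸ Nat.mul_le_mul h2 h3
    rw [show q ^ 3 = q * q ^ 2 by ring] at h4
    exact Nat.le_of_mul_le_mul_right h4 (pow_pos (zero_lt_one.trans h.gt) 2)
  have d : CfsgLib.SL2Module.Strong.Data p φ X A :=
    { prime := hp.out
      nsmul := fun v => by
        show Additive.ofMul ((Additive.toMul v) ^ p) = 0
        rw [show (Additive.toMul v : E) ^ p = 1 from Subtype.ext (by
          rw [SubmonoidClass.coe_pow]; exact exp_of_essential h hS hF hE _ (Additive.toMul v : E).2)]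
        rfl
      inj := fun a b e => Subtype.ext (MulEquiv.ext fun x => by
        simpa [hφ] using DFunLike.congr_fun e (Additive.ofMul x))
      le := hAX
      ne := hne
      fix := fun a ha b hb v => by
        obtain ⟨g, hg, hgv⟩ := (mem_autInducedBy_iff S E _).1 ha
        refine (hmemfix (Additive.toMul (φ a v - v))).2 ?_ b hb
        show (((a : MulAut E) (Additive.toMul v) / Additive.toMul v : E) : Ω) ∈ Z
        rw [div_eq_mul_inv, Subgroup.coe_mul, Subgroup.coe_inv]
        refine (congrArg (fun w => w * ((Additive.toMul v : E) : Ω)⁻¹ ∈ Z)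
          (hgv (Additive.toMul v))).mpr ?_
        exact h.comm g hg _ (hc.1 (Additive.toMul v : E).2)
      big := by
        rw [hcardV, hcardfix, pow_two]
        exact Nat.mul_le_mul hcardA le_rfl
      ti := hti }
  let K : Subgroup P := Subgroup.closure {t | ∃ n, t ^ p ^ n = 1}
  have hAK : A ≤ K := fun a ha => Subgroup.subset_closure
    ⟨1, by rw [pow_one]; exact CfsgLib.SL2Module.Strong.pow_eq_one d ha⟩
  have hpK : CfsgLib.SL2Module.Strong.PGen p K :=
    Subgroup.closure_mono fun t ht => ⟨Subgroup.subset_closure ht, ht⟩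
  obtain ⟨g, hg, hgX⟩ : ∃ g ∈ K, g ∉ X := by
    by_contra hcon
    push Not at hcon
    obtain ⟨a, ha, ha1⟩ := (Subgroup.bot_or_exists_ne_one A).resolve_left hne
    have hp1 : a ^ p ^ 1 = 1 := by rw [pow_one]; exact CfsgLib.SL2Module.Strong.pow_eq_one d ha
    refine hXne (eq_top_iff.2 fun b _ => hti b a ha1 ⟨1, hp1⟩ (hAX ha) ?_)
    exact hcon _ (Subgroup.subset_closure ⟨1, by rw [conj_pow, hp1, mul_one, mul_inv_cancel]⟩)
  have hm := CfsgLib.SL2Module.Strong.meet_all d K hAK hpK fun hle => hgX (hle hg)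
  obtain ⟨-, hcC, hcV, -⟩ := CfsgLib.SL2Module.Strong.basic d hAK hpK hm hg hgX
  rw [hcardV, hcardfix, pow_two] at hcV
  rw [hcardfix, ← Nat.eq_of_mul_eq_mul_right (zero_lt_one.trans h.gt) hcV] at hcC
  have hK1 : fixS φ K = ⊥ := by
    refine AddSubgroup.eq_bot_of_card_eq _ ?_
    exact Nat.eq_of_mul_eq_mul_left (zero_lt_one.trans h.gt) (by rw [← hcC, mul_one])
  rw [Subgroup.eq_bot_iff_forall]
  intro x hx
  have hxE : x ∈ E := Z_le h hc (hQZ hx)
  have h1 : Additive.ofMul (⟨x, hxE⟩ : E) ∈ fixS φ A := (hmemfix _).2 (hQZ hx)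
  have h2 : φ g (Additive.ofMul (⟨x, hxE⟩ : E)) ∈ fixS φ A := by
    rw [hφ, hmemfix, ← autFun_apply _ hxE]
    exact hQZ (hinv _ g.2 x hx)
  have h3 := hm g hg hgX _ h1 h2
  rw [hK1, AddSubgroup.mem_bot, hφ, ← ofMul_one, Additive.ofMul.apply_eq_iff_eq,
    MulEquiv.map_eq_one_iff] at h3
  exact congrArg Subtype.val h3

/-- A system with a nontrivial normal subgroup is constrained. -/
theorem isConstrained (h : Shape p q S Z) (hS : IsPGroup p S) (hF : F.IsSaturated p)
    (hne : F.core ≠ ⊥) : F.IsConstrained p := by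
  have hQn := isNormal_core F
  have hgen := ((isNormal_iff_generators hS hF).1 hQn).2
  by_cases hex : ∃ E, F.IsEssential p E
  · obtain ⟨E, hE⟩ := hex
    obtain ⟨hQE, hQinv⟩ := hgen E (Or.inr hE)
    obtain ⟨x, hxQ, hxZ⟩ : ∃ x ∈ F.core, x ∉ Z := by
      by_contra hcon
      push Not at hcon
      exact hne (eq_one_of_invariant h hS hF hE hcon hQinv)
    refine ⟨hF, E, isNormal_of_generators hS hF hE.1.1 fun P hP => ?_, hE.1⟩
    rcases hP with rfl | hP
    · refine ⟨hE.1.1, fun α hα y hy => ?_⟩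
      have hα' := (mem_autGroup_iff le_rfl α).1 hα
      obtain ⟨-, hQinv'⟩ := hgen P (Or.inl rfl)
      have hxS : x ∈ P := hQn.1 hxQ
      have hx' : autFun α⁻¹ x ∈ F.core := hQinv' _ ((F.autGroup P).inv_mem hα) x hxQ
      have e : autFun α (autFun α⁻¹ x) = x := by
        rw [autFun_apply α⁻¹ hxS, autFun_coe, MulAut.apply_inv_self]
      refine mem_of_commute h hS hF hE (hQE hxQ) hxZ (hα'.isMap.mem (hE.1.1 hy)) ?_
      rw [← e, ← hα'.isMap.map_mul (hE.1.1 hy) (hQn.1 hx'),
        ← hα'.isMap.map_mul (hQn.1 hx') (hE.1.1 hy),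
        comm_of_essential h hS hF hE y hy _ (hQE hx')]
    · have hxP : x ∈ P := (hgen P (Or.inr hP)).1 hxQ
      have hPE : P = E := le_antisymm
        (fun y hy => mem_of_commute h hS hF hE (hQE hxQ) hxZ (hP.1.1 hy)
          (comm_of_essential h hS hF hP y hy x hxP))
        (fun y hy => mem_of_commute h hS hF hP hxP hxZ (hE.1.1 hy)
          (comm_of_essential h hS hF hE y hy x (hQE hxQ)))
      subst hPE
      exact ⟨le_rfl, fun α _ y hy => autFun_mem α hy⟩
  · push Not at hex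
    refine ⟨hF, S, isNormal_of_generators hS hF le_rfl fun P hP => ?_, le_rfl, fun Q hQ => ?_⟩
    · obtain rfl := hP.resolve_right (hex P)
      exact ⟨le_rfl, fun α _ y hy => autFun_mem α hy⟩
    · obtain ⟨f, hf⟩ := isConj_iff.1 hQ
      have hQS : Q = S := Subgroup.eq_of_le_of_card_ge hf.le_right hf.card_eq.ge
      exact hQS ▸ inf_le_left

/-- An exotic system has trivial core. -/
theorem core_eq_bot (h : Shape p q S Z) (hS : IsPGroup p S) (hex : F.IsExotic p) :
    F.core = ⊥ := by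
  by_contra hne
  obtain ⟨G, iG, ι, hfin, hreal, hsyl, -⟩ := exists_model hS (isConstrained h hS hex.1 hne)
  exact hex.2 ⟨G, iG, hfin, ι, hreal, hsyl⟩

end CfsgLib.Fusion.HeisCore
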