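import Cfsg.Agent.Lib.Fusion.SimpleModel
import Cfsg.Agent.Lib.ClassicalAut.Dense
import Cfsg.Agent.Lib.Classical.Unitriangular

/-!
The fusion system in its own characteristic of a group of isometries of a Hermitian space that
contains all elations: generation by elations, the two maximal parabolics at a flag fixed by a
Sylow subgroup, and simplicity.
-/

set_option autoImplicit false
set_option linter.unusedSectionVars false

namespace CfsgLib.Fusion.HermCharP

open Subgroup CfsgLib.ClassicalAut CfsgLib.Fusion Cfsg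

variable {F : Type*} [Field F] {V : Type*} [AddCommGroup V] [Module F V] {S : Space F V}

/-- `x` is perpendicular to `U`. -/
def Perp (S : Space F V) (U : Submodule F V) (x : V) : Prop := ∀ u ∈ U, S.h x u = 0

/-- `V` splits along `U`. -/
def Dec (S : Space F V) (U : Submodule F V) : Prop := ∀ x, ∃ u ∈ U, Perp S U (x - u)

/-- The perpendicular of a pair. -/
def pperp (S : Space F V) (e f : V) : Submodule F V where
  carrier := {x | S.h x e = 0 ∧ S.h x f = 0}
  add_mem' {x y} hx hy := ⟨by rw [S.add_left, hx.1, hy.1, add_zero],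
    by rw [S.add_left, hx.2, hy.2, add_zero]⟩
  zero_mem' := ⟨S.zero_left _, S.zero_left _⟩
  smul_mem' a x hx := ⟨by rw [S.smul_left, hx.1, mul_zero], by rw [S.smul_left, hx.2, mul_zero]⟩

/-- The part of `U` perpendicular to a pair. -/
def nx (S : Space F V) (U : Submodule F V) (e f : V) : Submodule F V := U ⊓ pperp S e f

theorem dec_top : Dec S ⊤ := fun x =>
  ⟨x, trivial, fun u _ => by rw [sub_self, S.zero_left]⟩

theorem eq_zero_of_perp_top {x : V} (h : Perp S ⊤ x) : x = 0 := S.nondeg' fun u => h u trivial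

theorem dec_nondeg {U : Submodule F V} (hU : Dec S U) {x : V} (hx : x ∈ U)
    (h : ∀ y ∈ U, S.h x y = 0) : x = 0 := by
  refine S.nondeg' fun y => ?_
  obtain ⟨u, hu, hr⟩ := hU y
  rw [show y = u + (y - u) by abel, S.add_right, h u hu, S.eq_zero_symm (hr x hx), add_zero]

/-- The form on a subspace along which `V` splits. -/
def subU {U : Submodule F V} (hU : Dec S U) : Space F U where
  bar := S.bar
  bar_bar := S.bar_bar
  ε := S.ε
  ε_sq := S.ε_sq
  h u v := S.h (u : V) v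
  add_left u v w := S.add_left _ _ _
  smul_left a u v := S.smul_left _ _ _
  swap u v := S.swap _ _
  nondeg v h := Subtype.ext (dec_nondeg hU v.2 fun y hy => S.eq_zero_symm (h ⟨y, hy⟩))
  tr v := S.tr _
  skew_ne := S.skew_ne

section Pair

variable {U : Submodule F V} {e f : V} (heU : e ∈ U) (hfU : f ∈ U) (he : S.h e e = 0)
  (hf : S.h f f = 0) (hef : S.h e f = 1)

include heU hfU he hf hef

theorem proj_mem_nx {u : V} (hu : u ∈ U) : S.proj e f u ∈ nx S U e f := by
  refine ⟨?_, S.proj_left he hef, S.proj_right hf hef⟩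
  rw [S.proj_apply]
  exact sub_mem (sub_mem hu (U.smul_mem _ heU)) (U.smul_mem _ hfU)

theorem dec_nx (hU : Dec S U) : Dec S (nx S U e f) := by
  intro x
  obtain ⟨u, hu, hr⟩ := hU x
  refine ⟨S.proj e f u, proj_mem_nx heU hfU he hf hef hu, fun y hy => ?_⟩
  rw [S.sub_left, S.h_proj hy.2.1 hy.2.2, ← S.sub_left]
  exact hr y hy.1

theorem perp_nx_decomp (hU : Dec S U) {x : V} (hx : Perp S (nx S U e f) x) :
    ∃ (r : V) (a b : F), Perp S U r ∧ x = r + (a • e + b • f) := by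
  obtain ⟨u, hu, hr⟩ := hU x
  have h0 : S.proj e f u = 0 :=
    dec_nondeg (dec_nx heU hfU he hf hef hU) (proj_mem_nx heU hfU he hf hef hu) fun y hy => by
      have h1 := hr y hy.1
      rw [S.sub_left, hx y hy, zero_sub, neg_eq_zero] at h1
      rw [S.h_proj hy.2.1 hy.2.2, h1]
  refine ⟨x - u, S.h u f, S.ε * S.h u e, hr, ?_⟩
  have h2 := S.decomp e f u
  rw [h0, add_zero] at h2
  rw [← h2, sub_add_cancel]

theorem e_notMem_nx : e ∉ nx S U e f := fun h => one_ne_zero (hef.symm.trans h.2.2)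

theorem card_nx_lt [Finite V] : Nat.card (nx S U e f) < Nat.card U := by
  rw [← SetLike.coe_sort_coe, ← SetLike.coe_sort_coe, Nat.card_coe_set_eq, Nat.card_coe_set_eq]
  exact Set.ncard_lt_ncard
    ⟨fun x hx => hx.1, fun h => e_notMem_nx heU hfU he hf hef (h heU)⟩ (Set.toFinite _)

end Pair

/-- The properties of the group that are used. -/
structure Hyp {G : Type*} [Group G] (R : Rep S G) : Prop where
  eps : S.ε = 1
  moved : ∃ c, S.bar c ≠ c
  norm : ∀ x, S.bar x = x → ∃ c, c * S.bar c = x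
  skew : S.SkewSurj
  det1 : ∀ (g : G) (y : V) (c : F),
    (∀ x, R.ρ g x = x + (c * S.h x y) • y) → 1 + c * S.h y y = 1
  det2 : ∀ (g : G) (w f : V) (a b : F), S.h w w = 0 → S.h f f = 0 → S.h w f = 1 →
    (∀ x, R.ρ g x = x + (a * S.h x f) • w + (b * S.h x w) • f) → (1 + a) * (1 + b) = 1
  frame : ∃ e : V, e ≠ 0 ∧ S.h e e = 0
  two : ∀ e f : V, S.h e e = 0 → S.h f f = 0 → S.h e f = 1 →
    ∃ w : V, w ≠ 0 ∧ S.h w w = 0 ∧ S.h w e = 0 ∧ S.h w f = 0

variable {G : Type*} [Group G] (R : Rep S G)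

/-- The elements fixing the perpendicular of `U` pointwise. -/
def Fix (U : Submodule F V) : Subgroup G where
  carrier := {g | ∀ x, Perp S U x → R.ρ g x = x}
  one_mem' x _ := by rw [map_one, Module.End.one_apply]
  mul_mem' {a b} ha hb x hx := by rw [map_mul, Module.End.mul_apply, hb x hx, ha x hx]
  inv_mem' {a} ha x hx := by conv_lhs => rw [← ha x hx, R.ρ_inv_apply]

/-- An elation inside `U`. -/
def IsEl (U : Submodule F V) (g : G) : Prop :=
  ∃ (e u : V) (t : F), e ∈ U ∧ u ∈ U ∧ e ≠ 0 ∧ S.h e e = 0 ∧ S.h u e = 0 ∧ S.Valid u t ∧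
    R.ρ g = S.E e u t

/-- The group generated by the elations inside `U`. -/
def El (U : Submodule F V) : Subgroup G := closure {g | IsEl R U g}

theorem fix_mem {U : Submodule F V} (hU : Dec S U) {g : G} (hg : g ∈ Fix R U) {u : V}
    (hu : u ∈ U) : R.ρ g u ∈ U := by
  obtain ⟨u', hu', hr⟩ := hU (R.ρ g u)
  have h0 : R.ρ g u - u' = 0 := by
    refine S.nondeg' fun z => ?_
    obtain ⟨z', hz', hrz⟩ := hU z
    have h1 : S.h (R.ρ g u) (z - z') = 0 := by
      rw [← hg _ hrz, R.isom]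
      exact S.eq_zero_symm (hrz u hu)
    rw [show z = z' + (z - z') by abel, S.add_right, hr z' hz', S.sub_left, h1,
      S.eq_zero_symm (hrz u' hu'), sub_zero, add_zero]
  rw [sub_eq_zero.1 h0]; exact hu'

theorem isEl_mono {U U' : Submodule F V} (h : U ≤ U') {g : G} (hg : IsEl R U g) : IsEl R U' g := by
  obtain ⟨e, u, t, h1, h2, h3⟩ := hg
  exact ⟨e, u, t, h h1, h h2, h3⟩

theorem El_mono {U U' : Submodule F V} (h : U ≤ U') : El R U ≤ El R U' :=
  closure_mono fun _ hg => isEl_mono R h hg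

theorem isEl_fix {U : Submodule F V} {g : G} {e u : V} {t : F} (he : e ∈ U) (hu : u ∈ U)
    (hρ : R.ρ g = S.E e u t) : g ∈ Fix R U := fun x hx => by
  rw [hρ, S.E_apply_of_perp t (hx e he), hx u hu, mul_zero, zero_smul, sub_zero]

theorem fix_nx {U : Submodule F V} {e f : V} (heU : e ∈ U) (hfU : f ∈ U) (he : S.h e e = 0)
    (hf : S.h f f = 0) (hef : S.h e f = 1) (hU : Dec S U) {g : G} (hg : g ∈ Fix R U)
    (hge : R.ρ g e = e) (hgf : R.ρ g f = f) : g ∈ Fix R (nx S U e f) := by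
  intro x hx
  obtain ⟨r, a, b, hr, rfl⟩ := perp_nx_decomp heU hfU he hf hef hU hx
  rw [map_add, map_add, map_smul, map_smul, hg r hr, hge, hgf]

theorem fix_nx_le {U : Submodule F V} {e f : V} : Fix R (nx S U e f) ≤ Fix R U :=
  fun _ hg x hx => hg x fun u hu => hx u hu.1

theorem fix_nx_left {U : Submodule F V} {e f : V} {g : G} (hg : g ∈ Fix R (nx S U e f)) :
    R.ρ g e = e ∧ R.ρ g f = f :=
  ⟨hg e fun _ hy => S.eq_zero_symm hy.2.1, hg f fun _ hy => S.eq_zero_symm hy.2.2⟩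

variable {R} (hyp : Hyp R)

include hyp

theorem h_swap (x y : V) : S.h y x = S.bar (S.h x y) := by rw [S.swap, hyp.eps, one_mul]

theorem h_swap_one {e f : V} (hef : S.h e f = 1) : S.h f e = 1 := by
  rw [h_swap hyp, hef, map_one]

theorem exists_partner {U : Submodule F V} (hU : Dec S U) {w : V} (hw : w ∈ U) (hw0 : w ≠ 0)
    (hww : S.h w w = 0) : ∃ f ∈ U, S.h f f = 0 ∧ S.h w f = 1 := by
  obtain ⟨f, hf, hwf⟩ := (subU hU).exists_partner (v := ⟨w, hw⟩) hww
    fun h => hw0 (congrArg Subtype.val h)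
  exact ⟨f, f.2, hf, hwf⟩

/-- Elations at `e` are transitive on the isotropic vectors with given product with `e`. -/
theorem move {U : Submodule F V} (hU : Dec S U) {e f r : V} (he : e ∈ U) (hf : f ∈ U) (hr : r ∈ U)
    (hee : S.h e e = 0) (hff : S.h f f = 0) (hrr : S.h r r = 0) (hre : S.h r e = S.h f e)
    (hne : S.h f e ≠ 0) :
    ∃ (g : G) (u : V) (t : F), u ∈ U ∧ S.h u e = 0 ∧ S.Valid u t ∧ R.ρ g = S.E e u t ∧
      R.ρ g f = r := by
  set c := (S.bar (S.h f e))⁻¹ with hc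
  have hc' : S.bar c = (S.h f e)⁻¹ := by rw [hc, map_inv₀, S.bar_bar]
  have hc0 : c ≠ 0 := inv_ne_zero (S.bar_ne_zero hne)
  have h1 : S.h (c • e) (c • e) = 0 := by rw [S.smul_left, S.smul_right, hee, mul_zero, mul_zero]
  have h2 : S.h (c • e) f = 1 := by
    rw [S.smul_left, h_swap hyp f e, hc, inv_mul_cancel₀ (S.bar_ne_zero hne)]
  have h3 : S.h r (c • e) = S.ε := by
    rw [S.smul_right, hre, hc', inv_mul_cancel₀ hne, hyp.eps]
  obtain ⟨u, t, hu, -, ht, hmap⟩ := (subU hU).exists_E_map (v := ⟨c • e, U.smul_mem c he⟩)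
    (f := ⟨f, hf⟩) (r := ⟨r, hr⟩) h1 hff h2 hrr h3
  have hu' : S.h (u : V) (c • e) = 0 := hu
  have ht' : S.Valid (u : V) t := ht
  obtain ⟨g, hg⟩ := R.root (c • e) (u : V) t h1 hu' ht'
  refine ⟨g, S.bar c • (u : V), c * S.bar c * t, U.smul_mem _ u.2, ?_, ?_, ?_, ?_⟩
  · rw [S.smul_right] at hu'
    rw [S.smul_left, hu']
  · unfold Space.Valid at ht' ⊢
    rw [S.smul_left, S.smul_right, S.bar_bar, map_mul, map_mul, S.bar_bar]
    linear_combination (c * S.bar c) * ht'
  · rw [hg, S.E_smul]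
  · rw [hg]
    exact congrArg Subtype.val hmap

theorem fix_inv_of_fix {g : G} {x : V} (h : R.ρ g x = x) : R.ρ g⁻¹ x = x := by
  conv_lhs => rw [← h, R.ρ_inv_apply]

theorem inv_apply_of_eq {g : G} {x y : V} (h : R.ρ g x = y) : R.ρ g⁻¹ y = x := by
  rw [← h, R.ρ_inv_apply]

variable [Finite V] [Finite G]

/-- An element supported on `U` is a product of elations in `U`. -/
theorem mem_El : ∀ (N : ℕ) (U : Submodule F V), Nat.card U = N → Dec S U →
    ∀ g ∈ Fix R U, g ∈ El R U := by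
  intro N
  induction N using Nat.strong_induction_on with
  | _ N ih =>
  intro U hN hU g hg
  by_cases hiso : ∃ w ∈ U, w ≠ 0 ∧ S.h w w = 0
  swap
  · push Not at hiso
    suffices hg1 : g = 1 by rw [hg1]; exact one_mem _
    refine R.inj (LinearMap.ext fun x => ?_)
    rw [map_one, Module.End.one_apply]
    by_cases hy : ∃ y ∈ U, y ≠ 0
    swap
    · push Not at hy
      exact hg x fun u hu => by rw [hy u hu, S.zero_right]
    obtain ⟨y, hy, hy0⟩ := hy
    have ha := hiso y hy hy0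
    have hspan : ∀ z ∈ U, z = (S.h z y / S.h y y) • y := by
      intro z hz
      set z' := z - (S.h z y / S.h y y) • y with hz'
      by_contra hne
      have hz0 : z' ≠ 0 := fun h => hne (sub_eq_zero.1 h)
      have hzy : S.h z' y = 0 := by
        rw [hz', S.sub_left, S.smul_left, div_mul_cancel₀ _ ha, sub_self]
      have hzU : z' ∈ U := sub_mem hz (U.smul_mem _ hy)
      have hb := hiso z' hzU hz0
      obtain ⟨c, hc⟩ := hyp.norm (-(S.h y y) / S.h z' z') (by
        rw [map_div₀, map_neg, ← h_swap hyp y y, ← h_swap hyp z' z'])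
      refine hiso (y + c • z') (add_mem hy (U.smul_mem c hzU)) (fun h => ha ?_) ?_
      · have h1 := congrArg (fun x => S.h x y) h
        simpa [S.add_left, S.smul_left, hzy, S.zero_left] using h1
      · rw [S.add_left, S.add_right, S.add_right, S.smul_left, S.smul_left, S.smul_right,
          S.smul_right, hzy, S.eq_zero_symm hzy]
        have h1 : c * S.bar c * S.h z' z' = -(S.h y y) := by rw [hc, div_mul_cancel₀ _ hb]
        linear_combination h1
    set c := S.h (R.ρ g y) y / S.h y y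
    have hgy : R.ρ g y = c • y := hspan _ (fix_mem R hU hg hy)
    have hform : ∀ x, R.ρ g x = x + ((c - 1) / S.h y y * S.h x y) • y := by
      intro x
      obtain ⟨u, hu, hr⟩ := hU x
      set k := S.h u y / S.h y y with hk
      have hxy : S.h x y = k * S.h y y := by
        rw [hk, div_mul_cancel₀ _ ha]
        have := hr y hy
        rwa [S.sub_left, sub_eq_zero] at this
      have hgu : R.ρ g u = (k * c) • y := by
        conv_lhs => rw [hspan u hu, map_smul, hgy, smul_smul]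
      conv_lhs => rw [show x = (x - u) + u by abel, map_add, hg _ hr, hgu]
      rw [hxy, show (c - 1) / S.h y y * (k * S.h y y) = k * c - k by field_simp,
        sub_smul, ← hspan u hu]
      abel
    have h1 := hyp.det1 g y _ hform
    rw [add_eq_left, div_mul_cancel₀ _ ha] at h1
    rw [hform, h1, zero_div, zero_mul, zero_smul, add_zero]
  obtain ⟨w, hw, hw0, hww⟩ := hiso
  obtain ⟨f, hf, hff, hwf⟩ := exists_partner hyp hU hw hw0 hww
  have hfw := h_swap_one hyp hwf
  -- move the image of `w` back to its line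
  have hgw := fix_mem R hU hg hw
  have hgww : S.h (R.ρ g w) (R.ρ g w) = 0 := by rw [R.isom, hww]
  obtain ⟨⟨r, hr⟩, hrr, hr1, hr2⟩ := (subU hU).exists_common_opposite (v := ⟨R.ρ g w, hgw⟩)
    (w := ⟨w, hw⟩) hgww (fun h => R.ρ_ne_zero g hw0 (congrArg Subtype.val h)) hww
    (fun h => hw0 (congrArg Subtype.val h))
  change S.h r r = 0 at hrr
  change S.h r (R.ρ g w) ≠ 0 at hr1
  change S.h r w ≠ 0 at hr2
  set a := S.h (R.ρ g w) r / S.h w r with ha
  have ha0 : a ≠ 0 := div_ne_zero (S.h_swap_ne hr1) (S.h_swap_ne hr2)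
  obtain ⟨k, uk, tk, huk, huk', htk, hkρ, hk⟩ := move hyp hU hr hgw (U.smul_mem a hw) hrr hgww
    (r := a • w) (by rw [S.smul_left, S.smul_right, hww, mul_zero, mul_zero])
    (by rw [S.smul_left, ha, div_mul_cancel₀ _ (S.h_swap_ne hr2)]) (S.h_swap_ne hr1)
  have hkEl : IsEl R U k := ⟨r, uk, tk, hr, huk, fun h => hr2 (by rw [h, S.zero_left]), hrr, huk',
    htk, hkρ⟩
  set g0 := k * g
  have hg0 : g0 ∈ Fix R U := mul_mem (isEl_fix R hr huk hkρ) hg
  have hg0w : R.ρ g0 w = a • w := by rw [map_mul, Module.End.mul_apply, hk]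
  set f' := R.ρ g0 f
  have hf'w : S.h f' (a • w) = 1 := by rw [← hg0w, R.isom, hfw]
  have hfb : S.bar a ≠ 0 := S.bar_ne_zero ha0
  obtain ⟨q, uq, tq, huq, huq', htq, hqρ, hq⟩ := move hyp hU hw hf
    (U.smul_mem (S.bar a) (fix_mem R hU hg0 hf)) hww hff (r := S.bar a • f')
    (by rw [S.smul_left, S.smul_right, R.isom, hff, mul_zero, mul_zero])
    (by rw [S.smul_left, ← S.smul_right, hf'w, hfw]) (by rw [hfw]; exact one_ne_zero)
  have hqEl : IsEl R U q := ⟨w, uq, tq, hw, huq, hw0, hww, huq', htq, hqρ⟩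
  have hqw : R.ρ q w = w := by rw [hqρ, S.E_apply_self hww huq']
  set g1 := q⁻¹ * g0
  have hg1 : g1 ∈ Fix R U := mul_mem (inv_mem (isEl_fix R hw huq hqρ)) hg0
  have hg1w : R.ρ g1 w = a • w := by
    rw [map_mul, Module.End.mul_apply, hg0w, map_smul, fix_inv_of_fix hyp hqw]
  have hg1f : R.ρ g1 f = (S.bar a)⁻¹ • f := by
    rw [map_mul, Module.End.mul_apply]
    conv_rhs => rw [← inv_apply_of_eq hyp hq, ← map_smul, smul_smul, inv_mul_cancel₀ hfb, one_smul]
  -- an element of `El` scaling `w` by `a`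
  obtain ⟨s, hs0, hs⟩ := S.skew_ne
  rw [hyp.eps, one_mul] at hs
  have hs' : S.bar s ≠ 0 := S.bar_ne_zero hs0
  have hU' := dec_nx hw hf hww hff hwf hU
  obtain ⟨u, huU, huw, huf, hut⟩ : ∃ u ∈ U, S.h u w = 0 ∧ S.h u f = 0 ∧
      S.Valid u ((a - 1) / S.bar s) := by
    set t := (a - 1) / S.bar s
    by_cases hu0 : ∃ u₀ ∈ nx S U w f, S.h u₀ u₀ ≠ 0
    · obtain ⟨u₀, hu₀, hu₀'⟩ := hu0
      obtain ⟨c, hc⟩ := hyp.norm (-(t + S.bar t) / S.h u₀ u₀) (by
        rw [map_div₀, map_neg, map_add, S.bar_bar, add_comm, ← h_swap hyp u₀ u₀])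
      refine ⟨c • u₀, U.smul_mem c hu₀.1, by rw [S.smul_left, hu₀.2.1, mul_zero],
        by rw [S.smul_left, hu₀.2.2, mul_zero], ?_⟩
      unfold Space.Valid
      rw [hyp.eps, S.smul_left, S.smul_right, ← mul_assoc, hc, div_mul_cancel₀ _ hu₀']
      ring
    · push Not at hu0
      have hbot : ∀ x ∈ nx S U w f, x = 0 := fun x hx => dec_nondeg hU' hx fun y hy => by
        obtain ⟨c, hc⟩ := hyp.moved
        have e1 := hu0 (x + y) (add_mem hx hy)
        have e2 := hu0 (x + c • y) (add_mem hx ((nx S U w f).smul_mem c hy))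
        simp only [S.add_left, S.add_right, S.smul_left, S.smul_right, hu0 x hx, hu0 y hy,
          mul_zero, add_zero, zero_add] at e1 e2
        exact (mul_eq_zero.1 (show (S.bar c - c) * S.h x y = 0 by linear_combination e2 - c * e1)).resolve_left
          (sub_ne_zero.2 hc)
      have hform : ∀ x, R.ρ g1 x = x + ((a - 1) * S.h x f) • w +
          (((S.bar a)⁻¹ - 1) * S.h x w) • f := by
        intro x
        obtain ⟨u, hu, hr'⟩ := hU x
        have hu' : u = S.h u f • w + S.h u w • f := by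
          have h2 := S.decomp w f u
          rwa [hbot _ (proj_mem_nx hw hf hww hff hwf hu), add_zero, hyp.eps, one_mul] at h2
        have e1 : S.h x f = S.h u f := by
          have := hr' f hf; rwa [S.sub_left, sub_eq_zero] at this
        have e2 : S.h x w = S.h u w := by
          have := hr' w hw; rwa [S.sub_left, sub_eq_zero] at this
        rw [e1, e2]
        conv_lhs => rw [show x = (x - u) + u by abel, map_add, hg1 _ hr', hu', map_add, map_smul,
          map_smul, hg1w, hg1f]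
        module
      have hdet := hyp.det2 g1 w f _ _ hww hff hwf hform
      rw [add_sub_cancel, add_sub_cancel] at hdet
      have hreal : S.bar a = a := by
        have := mul_inv_eq_one₀ hfb |>.1 hdet
        exact this.symm
      refine ⟨0, zero_mem _, S.zero_left _, S.zero_left _, ?_⟩
      rw [S.valid_zero_iff, hyp.eps, one_mul, map_div₀, map_sub, map_one, S.bar_bar, hreal, show t = (a - 1) / S.bar s from rfl,
        show S.bar s = -s from eq_neg_of_add_eq_zero_right hs, div_neg, neg_add_cancel]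
  set t := (a - 1) / S.bar s with ht
  obtain ⟨j1, hj1⟩ := R.root f u t hff huf hut
  have hj1El : IsEl R U j1 := ⟨f, u, t, hf, huU, fun h => by
    rw [h, S.zero_right] at hwf; exact zero_ne_one hwf, hff, huf, hut, hj1⟩
  set w1 := R.ρ j1 w with hw1
  have hw1U : w1 ∈ U := fix_mem R hU (isEl_fix R hf huU hj1) hw
  have hw1e : w1 = w + u + t • f := by
    rw [hw1, hj1, S.E_apply, hwf, S.eq_zero_symm huw]; module
  set x := f + s • w with hx
  have hxU : x ∈ U := add_mem hf (U.smul_mem s hw)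
  have hxx : S.h x x = 0 := by
    rw [hx, S.add_left, S.add_right, S.add_right, S.smul_left, S.smul_left, S.smul_right,
      S.smul_right, hff, hww, hwf, hfw]
    linear_combination hs
  have hw1x : S.h w1 x = a := by
    rw [hw1e, hx, S.add_right, S.smul_right]
    simp only [S.add_left, S.smul_left, hwf, hww, huw, huf, hff, hfw, ht]
    field_simp
    ring
  obtain ⟨j2, u2, t2, hu2, hu2', ht2, hj2ρ, hj2⟩ := move hyp hU hxU hw1U (U.smul_mem a hw) hxx
    (by rw [hw1, R.isom, hww]) (r := a • w) (by rw [S.smul_left, S.smul_right, hww, mul_zero, mul_zero])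
    (by rw [hw1x, S.smul_left, hx, S.add_right, S.smul_right, hwf, hww, mul_zero, add_zero, mul_one])
    (by rw [hw1x]; exact ha0)
  have hj2El : IsEl R U j2 := ⟨x, u2, t2, hxU, hu2, fun h => ha0 (by
    rw [← hw1x, h, S.zero_right]), hxx, hu2', ht2, hj2ρ⟩
  set j := j2 * j1
  have hjw : R.ρ j w = a • w := by rw [map_mul, Module.End.mul_apply, ← hw1, hj2]
  set g2 := j⁻¹ * g1
  have hg2 : g2 ∈ Fix R U :=
    mul_mem (inv_mem (mul_mem (isEl_fix R hxU hu2 hj2ρ) (isEl_fix R hf huU hj1))) hg1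
  have hg2w : R.ρ g2 w = w := by
    rw [map_mul, Module.End.mul_apply, hg1w, inv_apply_of_eq hyp hjw]
  obtain ⟨q', uq', tq', huq'', huq''', htq', hq'ρ, hq'⟩ := move hyp hU hw hf (fix_mem R hU hg2 hf)
    hww hff (r := R.ρ g2 f) (by rw [R.isom, hff])
    (by conv_lhs => arg 3; rw [← hg2w]
        rw [R.isom]) (by rw [hfw]; exact one_ne_zero)
  have hq'El : IsEl R U q' := ⟨w, uq', tq', hw, huq'', hw0, hww, huq''', htq', hq'ρ⟩
  set g3 := q'⁻¹ * g2
  have hq'w : R.ρ q' w = w := by rw [hq'ρ, S.E_apply_self hww huq''']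
  have hg3 : g3 ∈ El R U := by
    refine El_mono R (show nx S U w f ≤ U from inf_le_left)
      (ih _ (hN ▸ card_nx_lt hw hf hww hff hwf) _ rfl hU' _
        (fix_nx R hw hf hww hff hwf hU (mul_mem (inv_mem (isEl_fix R hw huq'' hq'ρ)) hg2) ?_ ?_))
    · rw [map_mul, Module.End.mul_apply, hg2w, fix_inv_of_fix hyp hq'w]
    · rw [map_mul, Module.End.mul_apply, inv_apply_of_eq hyp hq']
  have e : g = k⁻¹ * q * (j2 * j1) * q' * g3 := by
    simp only [g3, g2, g1, g0, j]; group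
  rw [e]
  exact mul_mem (mul_mem (mul_mem (mul_mem (inv_mem (subset_closure hkEl)) (subset_closure hqEl))
    (mul_mem (subset_closure hj2El) (subset_closure hj1El))) (subset_closure hq'El)) hg3

/-! ### Maximal `p`-subgroups -/

variable (p : ℕ) [Fact p.Prime] [CharP F p]

omit hyp in
/-- A maximal `p`-subgroup of `Fix U`. -/
def MaxIn (R : Rep S G) (U : Submodule F V) (P : Subgroup G) : Prop :=
  P ≤ Fix R U ∧ IsPGroup p P ∧ ∀ P', P ≤ P' → P' ≤ Fix R U → IsPGroup p P' → P' = P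

omit hyp in
/-- The elations at `w` with parameter in `U`. -/
def QU (R : Rep S G) (U : Submodule F V) (w : V) : Subgroup G :=
  closure {g | ∃ u t, u ∈ U ∧ S.h u w = 0 ∧ S.Valid u t ∧ R.ρ g = S.E w u t}

omit hyp in
theorem QU_le_Q (U : Submodule F V) (w : V) : QU R U w ≤ R.Q w :=
  closure_mono fun _ ⟨u, t, _, h⟩ => ⟨u, t, h⟩

omit hyp in
theorem QU_le_Fix {U : Submodule F V} {w : V} (hw : w ∈ U) : QU R U w ≤ Fix R U := by
  refine (closure_le _).2 ?_
  rintro g ⟨u, t, hu, -, -, hρ⟩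
  exact isEl_fix R hw hu hρ

omit hyp in
theorem QU_normalized {U : Submodule F V} (hU : Dec S U) {w : V} {P : Subgroup G}
    (hP : P ≤ Fix R U) (hfix : ∀ g ∈ P, R.ρ g w = w) :
    P ≤ normalizer (QU R U w : Set G) := by
  have key : ∀ g ∈ P, ∀ x ∈ QU R U w, g * x * g⁻¹ ∈ QU R U w := by
    intro g hg x hx
    induction hx using closure_induction with
    | mem x hx =>
      obtain ⟨u, t, hu, huw, ht, hρ⟩ := hx
      refine subset_closure ⟨R.ρ g u, t, fix_mem R hU (hP hg) hu, ?_, ?_, ?_⟩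
      · conv_lhs => arg 3; rw [← hfix g hg]
        rw [R.isom, huw]
      · unfold Space.Valid; rw [R.isom]; exact ht
      · rw [R.conj_eq_E hρ, hfix g hg]
    | one => simpa using one_mem _
    | mul a b _ _ ha hb =>
      rw [show g * (a * b) * g⁻¹ = g * a * g⁻¹ * (g * b * g⁻¹) by group]
      exact mul_mem ha hb
    | inv a _ ha =>
      rw [show g * a⁻¹ * g⁻¹ = (g * a * g⁻¹)⁻¹ by group]
      exact inv_mem ha
  intro g hg
  exact mem_normalizer_fintype fun x hx => key g hg x hx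

theorem absorb {U : Submodule F V} {P B : Subgroup G} (hP : MaxIn p R U P) (hB : B ≤ Fix R U)
    (hBp : IsPGroup p B) (hn : P ≤ normalizer (B : Set G)) : B ≤ P := by
  have h := hP.2.2 (P ⊔ B) le_sup_left (sup_le hP.1 hB) (hP.2.1.to_sup_of_normal_right' hBp hn)
  exact h ▸ le_sup_right

theorem step {U : Submodule F V} (hU : Dec S U) {P : Subgroup G} (hP : MaxIn p R U P) {w f : V}
    (hw : w ∈ U) (hf : f ∈ U) (hww : S.h w w = 0) (hff : S.h f f = 0) (hwf : S.h w f = 1)
    (hfix : ∀ g ∈ P, R.ρ g w = w) :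
    MaxIn p R (nx S U w f) (P ⊓ Fix R (nx S U w f)) ∧ QU R U w ≤ P ∧
      ∀ g ∈ P, ∃ (q : G) (u : V) (t : F), u ∈ U ∧ S.h u w = 0 ∧ S.Valid u t ∧
        R.ρ q = S.E w u t ∧ q ∈ P ∧ q⁻¹ * g ∈ P ⊓ Fix R (nx S U w f) := by
  have hQP : QU R U w ≤ P := absorb hyp p hP (QU_le_Fix hw)
    ((R.isPGroup_Q p hww).to_le (QU_le_Q U w)) (QU_normalized hU hP.1 hfix)
  have hfac : ∀ g ∈ P, ∃ (q : G) (u : V) (t : F), u ∈ U ∧ S.h u w = 0 ∧ S.Valid u t ∧
      R.ρ q = S.E w u t ∧ q ∈ P ∧ q⁻¹ * g ∈ P ⊓ Fix R (nx S U w f) := by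
    intro g hg
    obtain ⟨q, u, t, hu, huw, ht, hρ, hq⟩ := move hyp hU hw hf (fix_mem R hU (hP.1 hg) hf) hww hff
      (by rw [R.isom, hff]) (by conv_lhs => arg 3; rw [← hfix g hg]
                                rw [R.isom])
      (by rw [h_swap_one hyp hwf]; exact one_ne_zero)
    have hqP : q ∈ P := hQP (subset_closure ⟨u, t, hu, huw, ht, hρ⟩)
    refine ⟨q, u, t, hu, huw, ht, hρ, hqP, P.mul_mem (P.inv_mem hqP) hg, ?_⟩
    refine fix_nx R hw hf hww hff hwf hU (mul_mem (inv_mem (hP.1 hqP)) (hP.1 hg)) ?_ ?_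
    · exact hfix _ (mul_mem (inv_mem hqP) hg)
    · rw [map_mul, Module.End.mul_apply, inv_apply_of_eq hyp hq]
  refine ⟨⟨inf_le_right, hP.2.1.to_le inf_le_left, fun P' hle hP'F hP'p => ?_⟩, hQP, hfac⟩
  have hn : P' ≤ normalizer (QU R U w : Set G) :=
    QU_normalized hU (hP'F.trans (fix_nx_le R)) fun g hg => (fix_nx_left R (hP'F hg)).1
  have hle' : P ≤ P' ⊔ QU R U w := by
    intro g hg
    obtain ⟨q, u, t, hu, huw, ht, hρ, -, hg'⟩ := hfac g hg
    rw [show g = q * (q⁻¹ * g) by group]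
    exact mul_mem (mem_sup_right (subset_closure ⟨u, t, hu, huw, ht, hρ⟩)) (mem_sup_left (hle hg'))
  have heq := hP.2.2 _ hle' (sup_le (hP'F.trans (fix_nx_le R)) (QU_le_Fix hw))
    (hP'p.to_sup_of_normal_right' ((R.isPGroup_Q p hww).to_le (QU_le_Q U w)) hn)
  exact le_antisymm (le_inf (le_sup_left.trans heq.le) hP'F) hle

theorem fixed_in {U : Submodule F V} (hU : Dec S U) {P : Subgroup G} (hP : P ≤ Fix R U)
    (hPp : IsPGroup p P) (hne : P ≠ ⊥) :
    ∃ w ∈ U, w ≠ 0 ∧ S.h w w = 0 ∧ ∀ g ∈ P, R.ρ g w = w := by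
  set C : AddSubgroup V :=
    AddSubgroup.closure {x | ∃ g ∈ P, ∃ w, R.ρ g w - w = x} with hC
  have hstab : ∀ g ∈ P, ∀ x ∈ C, R.ρ g x ∈ C := by
    intro g hg x hx
    induction hx using AddSubgroup.closure_induction with
    | mem y hy =>
      obtain ⟨g', hg', w, rfl⟩ := hy
      rw [map_sub, ← Module.End.mul_apply, ← map_mul,
        show R.ρ (g * g') w - R.ρ g w = (R.ρ (g * g') w - w) - (R.ρ g w - w) by abel]
      exact C.sub_mem (AddSubgroup.subset_closure ⟨_, P.mul_mem hg hg', w, rfl⟩)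
        (AddSubgroup.subset_closure ⟨_, hg, w, rfl⟩)
    | zero => simp
    | add y z _ _ hy hz => rw [map_add]; exact C.add_mem hy hz
    | neg y _ hy => rw [map_neg]; exact C.neg_mem hy
  have hCU : ∀ x ∈ C, x ∈ U := by
    intro x hx
    induction hx using AddSubgroup.closure_induction with
    | mem y hy =>
      obtain ⟨g, hg, z, rfl⟩ := hy
      obtain ⟨u, hu, hr⟩ := hU z
      have e1 : R.ρ g z - z = R.ρ g u - u := by
        conv_lhs => rw [show z = (z - u) + u by abel, map_add, hP hg _ hr]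
        abel
      rw [e1]
      exact sub_mem (fix_mem R hU (hP hg) hu) hu
    | zero => exact zero_mem _
    | add y z _ _ hy hz => exact add_mem hy hz
    | neg y _ hy => exact neg_mem hy
  let act : MulAction P C :=
    { smul := fun g x => ⟨R.ρ g x, hstab g g.2 x x.2⟩
      one_smul := fun x => Subtype.ext (by
        change R.ρ (1 : G) x = x
        rw [map_one]; rfl)
      mul_smul := fun g g' x => Subtype.ext (by
        change R.ρ ((g : G) * g') x = R.ρ g (R.ρ g' x)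
        rw [map_mul]; rfl) }
  have hC0 : ∃ x : C, x ≠ 0 := by
    obtain ⟨g, hg, hg1⟩ := P.bot_or_exists_ne_one.resolve_left hne
    have hρ : R.ρ g ≠ 1 := fun h => hg1 (R.inj (by rw [h, map_one]))
    obtain ⟨z, hz⟩ := not_forall.1 fun h => hρ (LinearMap.ext h)
    exact ⟨⟨R.ρ g z - z, AddSubgroup.subset_closure ⟨g, hg, z, rfl⟩⟩,
      fun h => hz (sub_eq_zero.1 (congrArg Subtype.val h))⟩
  have hp : p ∣ Nat.card C := by
    obtain ⟨x, hx⟩ := hC0
    have hord : addOrderOf x = p := addOrderOf_eq_prime (Subtype.ext (by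
      rw [AddSubgroup.coe_nsmul, ← Nat.cast_smul_eq_nsmul F, CharP.cast_eq_zero, zero_smul]
      rfl)) hx
    exact hord ▸ addOrderOf_dvd_natCard x
  obtain ⟨x, hx, hx0⟩ := hPp.exists_fixed_point_of_prime_dvd_card_of_fixed_point C hp (a := 0)
    fun g => Subtype.ext (map_zero _)
  have hfix : ∀ g ∈ P, R.ρ g (x : V) = x := fun g hg => congrArg Subtype.val (hx ⟨g, hg⟩)
  have hperp : ∀ y ∈ C, S.h (x : V) y = 0 := by
    intro y hy
    induction hy using AddSubgroup.closure_induction with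
    | mem y hy =>
      obtain ⟨g, hg, z, rfl⟩ := hy
      have h := R.isom g x z
      rw [hfix g hg] at h
      rw [S.sub_right, h, sub_self]
    | zero => exact S.zero_right _
    | add y z _ _ hy hz => rw [S.add_right, hy, hz, add_zero]
    | neg y _ hy => rw [← zero_sub y, S.sub_right, S.zero_right, hy, sub_zero]
  exact ⟨x, hCU x x.2, fun h => hx0 (Subtype.ext h.symm), hperp x x.2, hfix⟩

/-- A maximal `p`-subgroup is generated by its elations. -/
theorem maxIn_gen : ∀ (N : ℕ) (U : Submodule F V), Nat.card U = N → Dec S U →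
    ∀ P, MaxIn p R U P → P ≤ closure {g | g ∈ P ∧ IsEl R U g} := by
  intro N
  induction N using Nat.strong_induction_on with
  | _ N ih =>
  intro U hN hU P hP
  by_cases hne : P = ⊥
  · rw [hne]; exact bot_le
  obtain ⟨w, hw, hw0, hww, hfix⟩ := fixed_in hyp p hU hP.1 hP.2.1 hne
  obtain ⟨f, hf, hff, hwf⟩ := exists_partner hyp hU hw hw0 hww
  obtain ⟨hP1, -, hfac⟩ := step hyp p hU hP hw hf hww hff hwf hfix
  intro g hg
  obtain ⟨q, u, t, hu, huw, ht, hρ, hqP, hg'⟩ := hfac g hg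
  rw [show g = q * (q⁻¹ * g) by group]
  refine mul_mem (subset_closure ⟨hqP, w, u, t, hw, hu, hw0, hww, huw, ht, hρ⟩) ?_
  refine closure_mono ?_ (ih _ (hN ▸ card_nx_lt hw hf hww hff hwf) _ rfl
    (dec_nx hw hf hww hff hwf hU) _ hP1 hg')
  exact fun x hx => ⟨hx.1.1, isEl_mono R inf_le_left hx.2⟩

/-! ### The flag -/

omit hyp in
/-- The span of two vectors. -/
abbrev Ln (v w : V) : Submodule F V := Submodule.span F {v, w}

omit hyp in
/-- The stabiliser of the span of `v` and `w`. -/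
noncomputable def StabL (R : Rep S G) (v w : V) : Subgroup G :=
  ({ carrier := {g | ∀ x ∈ Ln (F := F) v w, R.ρ g x ∈ Ln (F := F) v w}
     mul_mem' := fun {a b} ha hb x hx => by rw [map_mul, Module.End.mul_apply]; exact ha _ (hb x hx)
     one_mem' := fun x hx => by rw [map_one]; exact hx } : Submonoid G) |>
    Classical.Unitri.toSubgroupFinite

omit hyp in
theorem mem_StabL {v w : V} {g : G} (hv : R.ρ g v ∈ Ln (F := F) v w)
    (hw : R.ρ g w ∈ Ln (F := F) v w) : g ∈ StabL R v w := by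
  intro x hx
  obtain ⟨a, b, rfl⟩ := Submodule.mem_span_pair.1 hx
  rw [map_add, map_smul, map_smul]
  exact add_mem (Submodule.smul_mem _ a hv) (Submodule.smul_mem _ b hw)

omit hyp in
/-- The radical of the stabiliser of the span of `v` and `w`. -/
def R2 (R : Rep S G) (v w : V) : Subgroup G where
  carrier := {g | R.ρ g v = v ∧ R.ρ g w = w ∧
    ∀ x, S.h x v = 0 → S.h x w = 0 → R.ρ g x - x ∈ Ln (F := F) v w}
  one_mem' := ⟨by rw [map_one]; rfl, by rw [map_one]; rfl,
    fun x _ _ => by rw [map_one]; simp⟩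
  mul_mem' {a b} ha hb := ⟨by rw [map_mul, Module.End.mul_apply, hb.1, ha.1],
    by rw [map_mul, Module.End.mul_apply, hb.2.1, ha.2.1], fun x h1 h2 => by
      have hl : ∀ l ∈ Ln (F := F) v w, R.ρ a l = l := fun l hl => by
        obtain ⟨c, d, rfl⟩ := Submodule.mem_span_pair.1 hl
        rw [map_add, map_smul, map_smul, ha.1, ha.2.1]
      have h3 := hl _ (hb.2.2 x h1 h2)
      rw [map_sub] at h3
      rw [map_mul, Module.End.mul_apply,
        show R.ρ a (R.ρ b x) - x = (R.ρ b x - x) + (R.ρ a x - x) by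
          linear_combination (norm := module) h3]
      exact add_mem (hb.2.2 x h1 h2) (ha.2.2 x h1 h2)⟩
  inv_mem' {a} ha := by
    have e1 : R.ρ a⁻¹ v = v := by conv_lhs => rw [← ha.1, R.ρ_inv_apply]
    have e2 : R.ρ a⁻¹ w = w := by conv_lhs => rw [← ha.2.1, R.ρ_inv_apply]
    refine ⟨e1, e2, fun x h1 h2 => ?_⟩
    obtain ⟨c, d, hcd⟩ := Submodule.mem_span_pair.1 (ha.2.2 x h1 h2)
    have h3 : R.ρ a⁻¹ (R.ρ a x - x) = c • v + d • w := by
      rw [← hcd, map_add, map_smul, map_smul, e1, e2]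
    rw [map_sub, R.ρ_inv_apply] at h3
    rw [show R.ρ a⁻¹ x - x = -(c • v + d • w) by rw [← h3]; abel]
    exact neg_mem (Submodule.mem_span_pair.2 ⟨c, d, rfl⟩)

omit hyp in
theorem StabL_normalizes {v w : V} :
    StabL R v w ≤ normalizer (R2 R v w : Set G) := by
  intro g hg
  have hgi : g⁻¹ ∈ StabL R v w := inv_mem hg
  have hL : ∀ h ∈ R2 R v w, ∀ l ∈ Ln (F := F) v w, R.ρ h l = l := fun h hh l hl => by
    obtain ⟨c, d, rfl⟩ := Submodule.mem_span_pair.1 hl
    rw [map_add, map_smul, map_smul, hh.1, hh.2.1]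
  refine mem_normalizer_fintype fun h hh => ⟨?_, ?_, fun x h1 h2 => ?_⟩
  · rw [map_mul, map_mul, Module.End.mul_apply, Module.End.mul_apply,
      hL h hh _ (hgi v (Submodule.subset_span (by simp))), R.ρ_apply_inv]
  · rw [map_mul, map_mul, Module.End.mul_apply, Module.End.mul_apply,
      hL h hh _ (hgi w (Submodule.subset_span (by simp))), R.ρ_apply_inv]
  · have hperp : ∀ l ∈ Ln (F := F) v w, S.h (R.ρ g⁻¹ x) l = 0 := fun l hl => by
      rw [← R.isom g, R.ρ_apply_inv]
      obtain ⟨c, d, hcd⟩ := Submodule.mem_span_pair.1 (hg l hl)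
      rw [← hcd, S.add_right, S.smul_right, S.smul_right, h1, h2, mul_zero, mul_zero, add_zero]
    have h3 := hg _ (hh.2.2 _ (hperp v (Submodule.subset_span (by simp)))
      (hperp w (Submodule.subset_span (by simp))))
    rw [map_sub, R.ρ_apply_inv] at h3
    rw [map_mul, map_mul, Module.End.mul_apply, Module.End.mul_apply]
    exact h3

omit hyp in
theorem orderOf_of_pow {x : G} {k : ℕ} (hk : x ^ p ^ k = 1) : ∃ j : ℕ, orderOf x = p ^ j := by
  obtain ⟨j, -, hj⟩ := (Nat.dvd_prime_pow Fact.out).1 (orderOf_dvd_of_pow_eq_one hk)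
  exact ⟨j, hj⟩

section Flag

variable {v f w g : V} (hv : S.h v v = 0) (hf : S.h f f = 0) (hvf : S.h v f = 1)
  (hww : S.h w w = 0) (hwv : S.h w v = 0) (hwf : S.h w f = 0) (hgg : S.h g g = 0)
  (hwg : S.h w g = 1) (hgv : S.h g v = 0) (hgf : S.h g f = 0)

include hv hf hvf hww hwv hwf hgg hwg hgv hgf

theorem eq_of_perp2 {z : V} (h : ∀ x, S.h x v = 0 → S.h x w = 0 → S.h z x = 0) :
    z ∈ Ln (F := F) v w := by
  have hzv : S.h z v = 0 := h v hv (S.eq_zero_symm hwv)
  have hzw : S.h z w = 0 := h w hwv hww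
  set U1 := nx S ⊤ v f
  have hU1 : Dec S U1 := dec_nx (U := ⊤) trivial trivial hv hf hvf dec_top
  have hwU : w ∈ U1 := ⟨trivial, hwv, hwf⟩
  have hgU : g ∈ U1 := ⟨trivial, hgv, hgf⟩
  set z1 := S.proj v f z with hz1
  have hz1U : z1 ∈ U1 := proj_mem_nx (U := ⊤) trivial trivial hv hf hvf trivial
  have h0 : S.proj w g z1 = 0 := by
    refine dec_nondeg (dec_nx hwU hgU hww hgg hwg hU1) (proj_mem_nx hwU hgU hww hgg hwg hz1U)
      fun y hy => ?_
    rw [S.h_proj hy.2.1 hy.2.2, hz1, S.h_proj hy.1.2.1 hy.1.2.2]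
    exact h y hy.1.2.1 hy.2.1
  have h1 : z1 = S.h z1 g • w + (S.ε * S.h z1 w) • g := by
    conv_lhs => rw [S.decomp w g z1, h0, add_zero]
  have h2 : S.h z1 w = 0 := by rw [hz1, S.h_proj hwv hwf, hzw]
  rw [h2, mul_zero, zero_smul, add_zero] at h1
  rw [S.decomp v f z, hzv, mul_zero, zero_smul, add_zero, ← hz1, h1]
  exact add_mem (Submodule.smul_mem _ _ (Submodule.subset_span (by simp)))
    (Submodule.smul_mem _ _ (Submodule.subset_span (by simp)))

theorem isPGroup_R2 : IsPGroup p (R2 R v w) := by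
  rintro ⟨h, hh⟩
  have hL : ∀ l ∈ Ln (F := F) v w, R.ρ h l = l := fun l hl => by
    obtain ⟨c, d, rfl⟩ := Submodule.mem_span_pair.1 hl
    rw [map_add, map_smul, map_smul, hh.1, hh.2.1]
  have hpow : ∀ (a : G) (x l : V), R.ρ a x = x + l → R.ρ a l = l →
      ∀ k : ℕ, R.ρ (a ^ k) x = x + (k : F) • l := by
    intro a x l hx hl k
    induction k with
    | zero => simp
    | succ k ih =>
      rw [pow_succ', map_mul, Module.End.mul_apply, ih, map_add, map_smul, hx, hl, Nat.cast_succ]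
      module
  refine ⟨2, Subtype.ext (R.inj (LinearMap.ext fun y => ?_))⟩
  rw [SubgroupClass.coe_pow, OneMemClass.coe_one, map_one, Module.End.one_apply, pow_two, pow_mul]
  set a := h ^ p
  have ha : ∀ x, S.h x v = 0 → S.h x w = 0 → R.ρ a x = x := fun x h1 h2 => by
    rw [hpow h x _ (add_sub_cancel x (R.ρ h x)).symm (hL _ (hh.2.2 x h1 h2)) p, CharP.cast_eq_zero,
      zero_smul, add_zero]
  have hz : R.ρ a y - y ∈ Ln (F := F) v w := by
    refine eq_of_perp2 hyp hv hf hvf hww hwv hwf hgg hwg hgv hgf fun x h1 h2 => ?_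
    have h3 := R.isom a y x
    rw [ha x h1 h2] at h3
    rw [S.sub_left, h3, sub_self]
  have hz' : R.ρ a (R.ρ a y - y) = R.ρ a y - y := by
    obtain ⟨c, d, hcd⟩ := Submodule.mem_span_pair.1 hz
    rw [← hcd, map_add, map_smul, map_smul, ha v hv (S.eq_zero_symm hwv), ha w hwv hww]
  rw [hpow a y _ (add_sub_cancel y (R.ρ a y)).symm hz' p, CharP.cast_eq_zero, zero_smul, add_zero]

/-- An element of the `p`-generated part of the stabiliser of the line through `v` and `w` scaling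
`v`. -/
theorem exists_scale {c : F} (hc : c ≠ 0) :
    ∃ h, h ∈ closure {x | x ∈ StabL R v w ∧ ∃ k : ℕ, orderOf x = p ^ k} ∧ R.ρ h v = c • v := by
  have hfv := h_swap_one hyp hvf
  have hgw := h_swap_one hyp hwg
  have hvw := S.eq_zero_symm hwv
  have lower : ∀ d : F, ∃ h, h ∈ closure {x | x ∈ StabL R v w ∧ ∃ k : ℕ, orderOf x = p ^ k} ∧
      R.ρ h v = v + d • w ∧ R.ρ h w = w := by
    intro d
    have hfw : S.h ((-S.bar d) • f) w = 0 := by
      rw [S.smul_left, S.eq_zero_symm hwf, mul_zero]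
    have hval : S.Valid ((-S.bar d) • f) 0 := by
      unfold Space.Valid
      rw [S.smul_left, S.smul_right, hf]; simp
    obtain ⟨h, hh⟩ := R.root w ((-S.bar d) • f) 0 hww hfw hval
    have e1 : R.ρ h v = v + d • w := by
      rw [hh, S.E_apply, hvw, hyp.eps, one_mul, S.smul_right, hvf, map_neg, S.bar_bar]
      module
    have e2 : R.ρ h w = w := by rw [hh, S.E_apply_self hww hfw]
    refine ⟨h, subset_closure ⟨mem_StabL ?_ ?_, ?_⟩, e1, e2⟩
    · rw [e1]
      exact add_mem (Submodule.subset_span (by simp))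
        (Submodule.smul_mem _ _ (Submodule.subset_span (by simp)))
    · rw [e2]; exact Submodule.subset_span (by simp)
    · obtain ⟨k, hk⟩ := R.isPGroup_Q p hww
        ⟨h, subset_closure ⟨(-S.bar d) • f, 0, hfw, hval, hh⟩⟩
      exact orderOf_of_pow p (congrArg Subtype.val hk)
  have upper : ∀ d : F, ∃ h, h ∈ closure {x | x ∈ StabL R v w ∧ ∃ k : ℕ, orderOf x = p ^ k} ∧
      R.ρ h v = v ∧ R.ρ h w = w + d • v := by
    intro d
    have hgv' : S.h ((-S.bar d) • g) v = 0 := by rw [S.smul_left, hgv, mul_zero]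
    have hval : S.Valid ((-S.bar d) • g) 0 := by
      unfold Space.Valid
      rw [S.smul_left, S.smul_right, hgg]; simp
    obtain ⟨h, hh⟩ := R.root v ((-S.bar d) • g) 0 hv hgv' hval
    have e1 : R.ρ h w = w + d • v := by
      rw [hh, S.E_apply, hwv, hyp.eps, one_mul, S.smul_right, hwg, map_neg, S.bar_bar]
      module
    have e2 : R.ρ h v = v := by rw [hh, S.E_apply_self hv hgv']
    refine ⟨h, subset_closure ⟨mem_StabL ?_ ?_, ?_⟩, e2, e1⟩
    · rw [e2]; exact Submodule.subset_span (by simp)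
    · rw [e1]
      exact add_mem (Submodule.subset_span (by simp))
        (Submodule.smul_mem _ _ (Submodule.subset_span (by simp)))
    · obtain ⟨k, hk⟩ := R.isPGroup_Q p hv
        ⟨h, subset_closure ⟨(-S.bar d) • g, 0, hgv', hval, hh⟩⟩
      exact orderOf_of_pow p (congrArg Subtype.val hk)
  obtain ⟨A, hA, hAv, hAw⟩ := lower 1
  obtain ⟨B, hB, hBv, hBw⟩ := upper (c - 1)
  obtain ⟨C, hC, hCv, hCw⟩ := lower (-c⁻¹)
  refine ⟨C * B * A, mul_mem (mul_mem hC hB) hA, ?_⟩
  rw [map_mul, map_mul, Module.End.mul_apply, Module.End.mul_apply, hAv, map_add, map_smul, hBv,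
    hBw, map_add, map_smul, map_add, map_smul, hCv, hCw]
  have : c * c⁻¹ = 1 := mul_inv_cancel₀ hc
  match_scalars <;> first | ring1 | linear_combination this | linear_combination -this

theorem centralizer_R2 {x : G} (hx : ∀ r ∈ R2 R v w, x * r * x⁻¹ = r) :
    ∃ r ∈ R2 R v w, x * r⁻¹ ∈ center G := by
  have hfv := h_swap_one hyp hvf
  have hgw := h_swap_one hyp hwg
  have hvw := S.eq_zero_symm hwv
  have mem : ∀ (e u : V) (t : F) (r : G), S.h e e = 0 → S.h u e = 0 → e ∈ Ln (F := F) v w →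
      S.h u v = 0 → S.h u w = 0 → R.ρ r = S.E e u t → r ∈ R2 R v w := by
    intro e u t r hee hue heL huv huw hρ
    obtain ⟨a, b, hab⟩ := Submodule.mem_span_pair.1 heL
    have hve : S.h v e = 0 := by
      rw [← hab, S.add_right, S.smul_right, S.smul_right, hv, hvw, mul_zero, mul_zero, add_zero]
    have hwe : S.h w e = 0 := by
      rw [← hab, S.add_right, S.smul_right, S.smul_right, hwv, hww, mul_zero, mul_zero, add_zero]
    refine ⟨?_, ?_, fun y h1 h2 => ?_⟩
    · rw [hρ, S.E_apply_of_perp t hve, S.eq_zero_symm huv, mul_zero, zero_smul, sub_zero]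
    · rw [hρ, S.E_apply_of_perp t hwe, S.eq_zero_symm huw, mul_zero, zero_smul, sub_zero]
    · have hye : S.h y e = 0 := by
        rw [← hab, S.add_right, S.smul_right, S.smul_right, h1, h2, mul_zero, mul_zero, add_zero]
      rw [hρ, S.E_apply_of_perp t hye, sub_sub_cancel_left]
      exact neg_mem (Submodule.smul_mem _ _ heL)
  have line : ∀ e, S.h e e = 0 → e ∈ Ln (F := F) v w → ∀ e', S.h e e' = 1 →
      ∃ l : F, R.ρ x e = l • e ∧ l * S.bar l = 1 := by
    intro e hee heL e' hee'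
    obtain ⟨a, b, hab⟩ := Submodule.mem_span_pair.1 heL
    obtain ⟨s, hs0, hs⟩ := S.skew_ne
    have hval : S.Valid 0 s := S.valid_zero_iff.2 hs
    obtain ⟨r, hr⟩ := R.root e 0 s hee (S.zero_left _) hval
    have h1 := R.conj_eq_E (g := x) hr
    rw [hx r (mem e 0 s r hee (S.zero_left _) heL (S.zero_left _) (S.zero_left _) hr), hr,
      map_zero] at h1
    have he' : S.h e' e = 1 := h_swap_one hyp hee'
    have h2 := LinearMap.congr_fun h1 e'
    rw [S.E_zero_apply, S.E_zero_apply, he', mul_one, add_right_inj] at h2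
    have hne : S.h e' (R.ρ x e) ≠ 0 := fun h0 => by
      rw [h0, mul_zero, zero_smul] at h2
      exact hs0 ((smul_eq_zero.1 h2).resolve_right fun he0 => by
        rw [he0, S.zero_left] at hee'; exact zero_ne_one hee')
    set m := S.h e' (R.ρ x e) with hm
    have h3 : R.ρ x e = m⁻¹ • e := by
      refine smul_right_injective V (mul_ne_zero hs0 hne) ?_
      show (s * m) • R.ρ x e = (s * m) • m⁻¹ • e
      rw [← h2, smul_smul, mul_inv_cancel_right₀ hne]
    refine ⟨m⁻¹, h3, ?_⟩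
    have h4 : m = S.bar m⁻¹ := by
      conv_lhs => rw [hm, h3, S.smul_right, he', mul_one]
    have h6 : m * S.bar m = 1 := by
      rw [map_inv₀] at h4
      nth_rewrite 1 [h4]
      exact inv_mul_cancel₀ (S.bar_ne_zero hne)
    rw [map_inv₀, ← mul_inv, h6, inv_one]
  obtain ⟨l, hlv, hl⟩ := line v hv (Submodule.subset_span (by simp)) f hvf
  obtain ⟨l', hlw, -⟩ := line w hww (Submodule.subset_span (by simp)) g hwg
  obtain ⟨l'', hlvw, -⟩ := line (v + w)
    (by rw [S.add_left, S.add_right, S.add_right, hv, hww, hwv, hvw]; simp)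
    (add_mem (Submodule.subset_span (by simp)) (Submodule.subset_span (by simp))) f
    (by rw [S.add_left, hvf, hwf, add_zero])
  have hll : l' = l := by
    rw [map_add, hlv, hlw] at hlvw
    have e1 := congrArg (fun z => S.h z f) hlvw
    have e2 := congrArg (fun z => S.h z g) hlvw
    simp only [S.add_left, S.smul_left, hvf, hwf, S.eq_zero_symm hgv, hwg, mul_one,
      mul_zero, add_zero, zero_add] at e1 e2
    exact e2.trans e1.symm
  subst hll
  have hl0 : l' ≠ 0 := left_ne_zero_of_mul_eq_one hl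
  set U1 := nx S ⊤ v f
  have hU1 : Dec S U1 := dec_nx (U := ⊤) trivial trivial hv hf hvf dec_top
  have hwU : w ∈ U1 := ⟨trivial, hwv, hwf⟩
  have hgU : g ∈ U1 := ⟨trivial, hgv, hgf⟩
  -- the rest
  have hU2 : ∀ u, S.h u v = 0 → S.h u f = 0 → S.h u w = 0 → S.h u g = 0 → R.ρ x u = l' • u := by
    intro u huv huf huw hug
    obtain ⟨t, ht⟩ := S.tr u
    have key : ∀ e e', R.ρ x e = l' • e → S.h e e = 0 → e ∈ Ln (F := F) v w → S.h e e' = 1 →
        S.h u e = 0 → S.h u e' = 0 → ∃ c : F, S.bar l' • R.ρ x u - u = c • e := by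
      intro e e' hxe hee heL hee' hue hue'
      obtain ⟨r, hr⟩ := R.root e u t hee hue ht
      have h1 := R.conj_eq_E (g := x) hr
      rw [hx r (mem e u t r hee hue heL huv huw hr), hr, hxe, S.E_smul, hl, one_mul] at h1
      have h2 := LinearMap.congr_fun h1 e'
      rw [S.E_apply, S.E_apply, h_swap_one hyp hee', S.eq_zero_symm hue', mul_zero,
        zero_smul, sub_zero, hyp.eps, one_mul] at h2
      exact ⟨S.h e' (S.bar l' • R.ρ x u), by linear_combination (norm := module) -h2⟩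
    obtain ⟨c, hc⟩ := key v f hlv hv (Submodule.subset_span (by simp)) hvf huv huf
    obtain ⟨d, hd⟩ := key w g hlw hww (Submodule.subset_span (by simp)) hwg huw hug
    have e1 := congrArg (fun z => S.h z f) (hc.symm.trans hd)
    simp only [S.smul_left, hvf, hwf, mul_one, mul_zero] at e1
    rw [e1, zero_smul, sub_eq_zero] at hc
    conv_rhs => rw [← hc, smul_smul, hl, one_smul]
  -- the image of `f`
  set r0 := S.bar l' • R.ρ x f with hr0
  have hr0v : S.h r0 v = 1 := by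
    have h1 : S.h (R.ρ x f) (l' • v) = 1 := by rw [← hlv, R.isom, hfv]
    rw [hr0, S.smul_left, ← S.smul_right, h1]
  have hr0w : S.h r0 w = 0 := by
    have h1 : S.h (R.ρ x f) (l' • w) = 0 := by rw [← hlw, R.isom, S.eq_zero_symm hwf]
    rw [hr0, S.smul_left, ← S.smul_right, h1]
  obtain ⟨q, u, t, -, huv, ht, hq, hqf⟩ := move hyp (dec_top (S := S)) (e := v) (f := f) (r := r0)
    trivial trivial trivial hv hf
    (by rw [hr0, S.smul_left, S.smul_right, R.isom, hf, mul_zero, mul_zero]) (by rw [hr0v, hfv])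
    (by rw [hfv]; exact one_ne_zero)
  have huw : S.h u w = 0 := by
    have h1 := congrArg (fun z => S.h z w) hqf
    rw [hq, S.E_apply] at h1
    simp only [hfv, hyp.eps, one_mul, mul_one, S.add_left, S.sub_left, S.smul_left,
      S.eq_zero_symm hwf, hvw, hr0w, mul_zero, sub_zero, add_zero, zero_add] at h1
    exact h1
  have hqR : q ∈ R2 R v w := mem v u t q hv huv (Submodule.subset_span (by simp)) huv huw hq
  set z : Module.End F V := R.ρ q⁻¹ * (S.bar l' • R.ρ x) with hz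
  have hzapp : ∀ y, z y = R.ρ q⁻¹ (S.bar l' • R.ρ x y) := fun y => rfl
  have hzv : z v = v := by
    rw [hzapp, hlv, smul_smul, mul_comm, hl, one_smul, fix_inv_of_fix hyp hqR.1]
  have hzw : z w = w := by
    rw [hzapp, hlw, smul_smul, mul_comm, hl, one_smul, fix_inv_of_fix hyp hqR.2.1]
  have hzf : z f = f := by
    rw [hzapp]
    exact inv_apply_of_eq hyp hqf
  have hziso : ∀ a b, S.h (z a) (z b) = S.h a b := fun a b => by
    rw [hzapp, hzapp, R.isom, S.smul_left, S.smul_right, R.isom, S.bar_bar,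
      ← mul_assoc, mul_comm (S.bar l'), hl, one_mul]
  have hzfix : ∀ y, S.h y w = 0 → z y = y := by
    intro y hy
    have hy1 := S.decomp v f y
    set y1 := S.proj v f y with hy1d
    have hy1U : y1 ∈ U1 := proj_mem_nx (U := ⊤) trivial trivial hv hf hvf trivial
    have hy1w : S.h y1 w = 0 := by rw [hy1d, S.h_proj hwv hwf, hy]
    set y2 := S.proj w g y1 with hy2d
    have hy2U := proj_mem_nx hwU hgU hww hgg hwg hy1U
    have hy2 := S.decomp w g y1
    rw [hy1w, mul_zero, zero_smul, add_zero, ← hy2d] at hy2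
    have hzy2 : z y2 = y2 := by
      rw [hzapp, hU2 y2 hy2U.1.2.1 hy2U.1.2.2 hy2U.2.1 hy2U.2.2, smul_smul, mul_comm, hl, one_smul]
      refine fix_inv_of_fix hyp ?_
      rw [hq, S.E_apply_of_perp t hy2U.1.2.1]
      have hu2 : S.h y2 u = 0 := by
        have h1 := hziso y2 f
        have h2 : z y2 = R.ρ q⁻¹ y2 := by
          rw [hzapp, hU2 y2 hy2U.1.2.1 hy2U.1.2.2 hy2U.2.1 hy2U.2.2, smul_smul, mul_comm, hl,
            one_smul]
        have h3 : R.ρ q⁻¹ y2 = y2 + (S.h y2 u) • v := by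
          refine inv_apply_of_eq hyp ?_
          rw [map_add, map_smul, hqR.1, hq, S.E_apply_of_perp t hy2U.1.2.1, hyp.eps, one_mul,
            sub_add_cancel]
        rw [h2, h3, hzf, S.add_left, S.smul_left, hvf, mul_one, hy2U.1.2.2, zero_add] at h1
        exact h1
      rw [hu2, mul_zero, zero_smul, sub_zero]
    rw [hy1, hy2]
    simp only [map_add, map_smul, hzv, hzf, hzw, hzy2]
  have hw0 : w ≠ 0 := fun h => by rw [h, S.zero_left] at hwg; exact zero_ne_one hwg
  obtain ⟨c, hc, hzE⟩ := S.eq_E_of_fixes_perp hww hw0 hziso hzfix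
  obtain ⟨τ, hτ⟩ := R.root w 0 c hww (S.zero_left _) hc
  refine ⟨q * τ, mul_mem hqR (mem w 0 c τ hww (S.zero_left _) (Submodule.subset_span (by simp))
    (S.zero_left _) (S.zero_left _) hτ), (R.center_iff _).2 ⟨l', ?_⟩⟩
  have h1 : R.ρ (q * τ) = S.bar l' • R.ρ x := by
    refine LinearMap.ext fun y => ?_
    rw [map_mul, Module.End.mul_apply, hτ, ← hzE, hzapp, R.ρ_apply_inv]
    rfl
  have h2 : R.ρ x = l' • R.ρ (q * τ) := by rw [h1, smul_smul, hl, one_smul]
  rw [map_mul, h2, smul_mul_assoc, ← map_mul, mul_inv_cancel, map_one]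

end Flag

section Point

variable {v f : V} (hv : S.h v v = 0) (hf : S.h f f = 0) (hvf : S.h v f = 1)

include hv hf hvf

theorem fixed_line {P : Subgroup G} (hQ : R.Q v ≤ P) {x : V} (hx : ∀ g ∈ P, R.ρ g x = x) :
    ∃ c : F, x = c • v := by
  have hv0 : v ≠ 0 := fun h => by rw [h, S.zero_left] at hvf; exact zero_ne_one hvf
  obtain ⟨r, hr, s, hs0, hρ⟩ := R.exists_ne_mem_T hv
  have hxv : S.h x v = 0 := by
    have h1 := hx r (hQ (R.T_le_Q v hr))
    rw [hρ, S.E_zero_apply, add_eq_left, smul_eq_zero] at h1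
    exact (mul_eq_zero.1 (h1.resolve_right hv0)).resolve_left hs0
  set U1 := nx S ⊤ v f
  have hU1 : Dec S U1 := dec_nx (U := ⊤) trivial trivial hv hf hvf dec_top
  have h0 : S.proj v f x = 0 := by
    refine dec_nondeg hU1 (proj_mem_nx (U := ⊤) trivial trivial hv hf hvf trivial) fun u hu => ?_
    rw [S.h_proj hu.2.1 hu.2.2]
    obtain ⟨t, ht⟩ := S.tr u
    obtain ⟨q, hq, hqρ⟩ := R.exists_mem_Q hv hu.2.1 ht
    have h1 := hx q (hQ hq)
    rw [hqρ, S.E_apply_of_perp t hxv, hyp.eps, one_mul, sub_eq_self, smul_eq_zero] at h1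
    exact h1.resolve_right hv0
  refine ⟨S.h x f, ?_⟩
  conv_lhs => rw [S.decomp v f x, h0, hxv, mul_zero, zero_smul, add_zero, add_zero]

theorem centralizer_Q {x : G} (hx : ∀ r ∈ R.Q v, x * r * x⁻¹ = r) :
    ∃ r ∈ R.Q v, x * r⁻¹ ∈ center G := by
  have hfv := h_swap_one hyp hvf
  have hv0 : v ≠ 0 := fun h => by rw [h, S.zero_left] at hvf; exact zero_ne_one hvf
  obtain ⟨r, hr, s, hs0, hρ⟩ := R.exists_ne_mem_T hv
  have h1 := R.conj_eq_E (g := x) hρ
  rw [hx r (R.T_le_Q v hr), hρ, map_zero] at h1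
  have h2 := LinearMap.congr_fun h1 f
  rw [S.E_zero_apply, S.E_zero_apply, hfv, mul_one, add_right_inj] at h2
  set m := S.h f (R.ρ x v) with hm
  have hne : m ≠ 0 := fun h0 => by
    rw [h0, mul_zero, zero_smul] at h2
    exact hs0 ((smul_eq_zero.1 h2).resolve_right hv0)
  have hlv : R.ρ x v = m⁻¹ • v := by
    refine smul_right_injective V (mul_ne_zero hs0 hne) ?_
    show (s * m) • R.ρ x v = (s * m) • m⁻¹ • v
    rw [← h2, smul_smul, mul_inv_cancel_right₀ hne]
  set l := m⁻¹ with hl'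
  have hl : l * S.bar l = 1 := by
    have h4 : m = S.bar l := by
      conv_lhs => rw [hm, hlv, S.smul_right, hfv, mul_one]
    rw [← h4, hl', inv_mul_cancel₀ hne]
  set U1 := nx S ⊤ v f
  set r0 := S.bar l • R.ρ x f with hr0
  have hr0v : S.h r0 v = 1 := by
    have h1 : S.h (R.ρ x f) (l • v) = 1 := by rw [← hlv, R.isom, hfv]
    rw [hr0, S.smul_left, ← S.smul_right, h1]
  obtain ⟨q, u, t, -, huv, ht, hq, hqf⟩ := move hyp (dec_top (S := S)) (e := v) (f := f) (r := r0)
    trivial trivial trivial hv hf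
    (by rw [hr0, S.smul_left, S.smul_right, R.isom, hf, mul_zero, mul_zero]) (by rw [hr0v, hfv])
    (by rw [hfv]; exact one_ne_zero)
  have hqQ : q ∈ R.Q v := subset_closure ⟨u, t, huv, ht, hq⟩
  have hqv : R.ρ q v = v := by rw [hq, S.E_apply_self hv huv]
  set z : Module.End F V := R.ρ q⁻¹ * (S.bar l • R.ρ x) with hz
  have hzapp : ∀ y, z y = R.ρ q⁻¹ (S.bar l • R.ρ x y) := fun y => rfl
  have hzv : z v = v := by
    rw [hzapp, hlv, smul_smul, mul_comm, hl, one_smul, fix_inv_of_fix hyp hqv]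
  have hzf : z f = f := by
    rw [hzapp]
    exact inv_apply_of_eq hyp hqf
  have hziso : ∀ a b, S.h (z a) (z b) = S.h a b := fun a b => by
    rw [hzapp, hzapp, R.isom, S.smul_left, S.smul_right, R.isom, S.bar_bar,
      ← mul_assoc, mul_comm (S.bar l), hl, one_mul]
  have hU1 : ∀ y ∈ U1, z y = y := by
    intro y hy
    obtain ⟨ty, hty⟩ := S.tr y
    obtain ⟨r1, hr1, hr1ρ⟩ := R.exists_mem_Q hv hy.2.1 hty
    have h1 := R.conj_eq_E (g := x) hr1ρ
    rw [hx r1 hr1, hr1ρ, hlv, S.E_smul, hl, one_mul] at h1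
    have h2 := LinearMap.congr_fun h1 f
    rw [S.E_apply, S.E_apply, hfv, S.eq_zero_symm hy.2.2, mul_zero, zero_smul, sub_zero,
      hyp.eps, one_mul] at h2
    set c := S.h f (S.bar l • R.ρ x y)
    have h3 : S.bar l • R.ρ x y = y + c • v := by linear_combination (norm := module) -h2
    have h4 : z y = y + (c + S.h y u) • v := by
      rw [hzapp, h3]
      refine inv_apply_of_eq hyp ?_
      rw [map_add, map_smul, hqv, hq, S.E_apply_of_perp t hy.2.1, hyp.eps, one_mul]
      module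
    have h5 := hziso y f
    rw [h4, hzf, S.add_left, S.smul_left, hvf, mul_one, hy.2.2, zero_add] at h5
    rw [h4, h5, zero_smul, add_zero]
  refine ⟨q, hqQ, (R.center_iff _).2 ⟨l, ?_⟩⟩
  have h1 : R.ρ q = S.bar l • R.ρ x := by
    refine LinearMap.ext fun y => ?_
    have hzy : z y = y := by
      have hy := S.decomp v f y
      rw [hy]
      simp only [map_add, map_smul, hzv, hzf,
        hU1 _ (proj_mem_nx (U := ⊤) trivial trivial hv hf hvf (Submodule.mem_top (x := y)))]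
    rw [hzapp] at hzy
    conv_lhs => rw [← hzy, R.ρ_apply_inv]
    rfl
  have h2 : R.ρ x = l • R.ρ q := by rw [h1, smul_smul, hl, one_smul]
  rw [map_mul, h2, smul_mul_assoc, ← map_mul, mul_inv_cancel, map_one]

theorem conj_Q {x : G} {c : F} (hc : c ≠ 0) (hx : R.ρ x v = c • v) :
    x ∈ normalizer (R.Q v : Set G) := by
  refine mem_normalizer_fintype fun y hy => ?_
  have h := R.conj_mem_Q hv hy x
  rwa [hx, R.Q_smul hc] at h

end Point

/-! ### Strong closure -/

omit hyp in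
/-- The weak closure hypothesis. -/
def Closed (P : Subgroup G) (T : Subgroup (G ⧸ center G)) : Prop :=
  ∀ g x : G, ClassicalAut.Rep.mkQ x ∈ T → x ∈ P → g * x * g⁻¹ ∈ P → ClassicalAut.Rep.mkQ (g * x * g⁻¹) ∈ T

theorem eq_of_closed (P : Sylow p G) (hv : ∃ v : V, v ≠ 0 ∧ S.h v v = 0 ∧ ∀ g ∈ P, R.ρ g v = v)
    {T : Subgroup (G ⧸ center G)} (hT : T ≤ (P : Subgroup G).map ClassicalAut.Rep.mkQ)
    (hsc : ∀ g : G ⧸ center G, ∀ x ∈ T, g * x * g⁻¹ ∈ (P : Subgroup G).map ClassicalAut.Rep.mkQ →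
      g * x * g⁻¹ ∈ T) :
    T = ⊥ ∨ T = (P : Subgroup G).map ClassicalAut.Rep.mkQ := by
  classical
  refine or_iff_not_imp_left.2 fun hne => le_antisymm hT ?_
  have hc : Closed (P : Subgroup G) T := fun a x hx _ h => by
    rw [map_mul, map_mul, map_inv]
    refine hsc _ _ hx ?_
    rw [← map_inv, ← map_mul, ← map_mul]
    exact Subgroup.mem_map_of_mem ClassicalAut.Rep.mkQ h
  obtain ⟨v, hv0, hv, hfix⟩ := hv
  obtain ⟨f, -, hf, hvf⟩ := exists_partner hyp (dec_top (S := S)) (w := v) trivial hv0 hv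
  have hfv := h_swap_one hyp hvf
  have hQP : R.Q v ≤ P := R.Q_le_sylow p hv P hfix
  -- a transvection at `v` over `T`
  obtain ⟨x, hxT, hx1, hxP, hcomm⟩ : ∃ x : G, ClassicalAut.Rep.mkQ x ∈ T ∧ x ≠ 1 ∧ x ∈ P ∧
      ∀ u ∈ (P : Subgroup G), u * x = x * u := by
    set Pb := (P : Subgroup G).map ClassicalAut.Rep.mkQ
    have hV : IsPGroup p Pb := P.isPGroup'.map _
    have : (T.subgroupOf Pb).Normal :=
      ⟨fun x hx y => hsc _ x hx (mul_mem (mul_mem y.2 x.2) (inv_mem y.2))⟩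
    have hnt : T.subgroupOf Pb ≠ ⊥ := by
      rw [ne_eq, Subgroup.subgroupOf_eq_bot, disjoint_iff, inf_eq_left.2 hT]
      exact hne
    have hdvd : p ∣ Nat.card (T.subgroupOf Pb) := by
      have : Nontrivial (T.subgroupOf Pb) := (Subgroup.nontrivial_iff_ne_bot _).2 hnt
      obtain ⟨n, hn0, hn⟩ := (hV.to_subgroup (T.subgroupOf Pb)).nontrivial_iff_card.1 inferInstance
      exact hn ▸ dvd_pow_self p hn0.ne'
    obtain ⟨⟨⟨x, hxV⟩, hxT⟩, hfix', hx1⟩ :=
      (hV.of_equiv ConjAct.toConjAct).exists_fixed_point_of_prime_dvd_card_of_fixed_point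
        (T.subgroupOf Pb) hdvd (a := 1) (fun g => smul_one g)
    obtain ⟨u, hu, rfl⟩ := hxV
    refine ⟨u, hxT, fun h => hx1 ?_, hu, fun z hz => ?_⟩
    · refine Subtype.ext (Subtype.ext ?_)
      show (1 : G ⧸ center G) = ClassicalAut.Rep.mkQ u
      rw [h, map_one]
    · have h := congrArg (fun y : T.subgroupOf Pb => ((y : Pb) : G ⧸ center G))
        (hfix' (ConjAct.toConjAct ⟨ClassicalAut.Rep.mkQ z, z, hz, rfl⟩))
      have h' : ClassicalAut.Rep.mkQ (z * u * z⁻¹) = ClassicalAut.Rep.mkQ u := by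
        rw [map_mul, map_mul, map_inv]
        exact h
      exact mul_inv_eq_iff_eq_mul.1 (R.eq_of_mk_eq' p P.isPGroup' P.isPGroup'
        (mul_mem (mul_mem hz hu) (inv_mem hz)) hu h')
  have hxT' : x ∈ R.T v := by
    rw [← R.cen_sylow p hyp.skew hv hv0 P hfix]
    exact ⟨hxP, fun u hu => hcomm u hu⟩
  obtain ⟨t, ht, hxρ⟩ := (R.mem_T hv).1 hxT'
  have ht0 : t ≠ 0 := fun h => hx1 (R.inj (by rw [map_one, hxρ, h, S.E_zero_zero]))
  -- all transvections at `v`
  have hscale : ∀ c : F, c ≠ 0 → ∃ h : G, R.ρ h v = c • v := by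
    intro c hc'
    obtain ⟨w, hw0, hww, hwv, hwf⟩ := hyp.two v f hv hf hvf
    have hU1 : Dec S (nx S ⊤ v f) := dec_nx (U := ⊤) trivial trivial hv hf hvf dec_top
    obtain ⟨g, hgU, hgg, hwg⟩ := exists_partner hyp hU1 (w := w) ⟨trivial, hwv, hwf⟩ hw0 hww
    obtain ⟨h, -, hh⟩ := exists_scale hyp p hv hf hvf hww hwv hwf hgg hwg hgU.2.1 hgU.2.2 hc'
    exact ⟨h, hh⟩
  have hTv : ∀ y ∈ R.T v, ClassicalAut.Rep.mkQ y ∈ T := by
    intro y hy
    obtain ⟨s, hs, hyρ⟩ := (R.mem_T hv).1 hy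
    by_cases hs0 : s = 0
    · have hy1 : y = 1 := R.inj (by rw [map_one, hyρ, hs0, S.E_zero_zero])
      rw [hy1, map_one]; exact one_mem _
    rw [S.valid_zero_iff, hyp.eps, one_mul] at hs ht
    obtain ⟨c, hc'⟩ := hyp.norm (s / t) (by
      rw [map_div₀, show S.bar s = -s from eq_neg_of_add_eq_zero_right hs,
        show S.bar t = -t from eq_neg_of_add_eq_zero_right ht, neg_div_neg_eq])
    have hc0 : c ≠ 0 := fun h => div_ne_zero hs0 ht0 (by rw [← hc', h, zero_mul])
    obtain ⟨h, hh⟩ := hscale c hc0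
    have hy' : y = h * x * h⁻¹ := R.inj (by
      rw [hyρ, R.conj_eq_E hxρ, hh, map_zero, S.E_smul, smul_zero, hc', div_mul_cancel₀ _ ht0])
    rw [hy']
    exact hc h x hxT hxP (hy' ▸ hQP (R.T_le_Q v hy))
  -- all transvections in the Sylow subgroup
  have hTall : ∀ e : V, e ≠ 0 → S.h e e = 0 → ∀ y ∈ R.T e, y ∈ (P : Subgroup G) →
      ClassicalAut.Rep.mkQ y ∈ T := by
    intro e he0 hee y hy hyP
    obtain ⟨a, b, hb, hab⟩ := R.exists_map hee he0 hv hv0
    have h1 : a * y * a⁻¹ ∈ R.T v := by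
      have := R.conj_mem_T hee hy a
      rwa [hab, R.T_smul hb] at this
    rw [show y = a⁻¹ * (a * y * a⁻¹) * a⁻¹⁻¹ by group] at hyP ⊢
    exact hc _ _ (hTv _ h1) (hQP (R.T_le_Q v h1)) hyP
  -- the parameters at `v`
  set A : Set V := {u | S.h u v = 0 ∧ ∀ (t : F) (z : G), S.Valid u t → R.ρ z = S.E v u t →
    ClassicalAut.Rep.mkQ z ∈ T}
  have hAmk : ∀ (u : V) (t : F) (z : G), S.h u v = 0 → S.Valid u t → R.ρ z = S.E v u t →
      ClassicalAut.Rep.mkQ z ∈ T → u ∈ A := by
    intro u t z hu ht hz hzT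
    refine ⟨hu, fun t' z' ht' hz' => ?_⟩
    have hd : S.Valid 0 (t' - t) := Space.Valid.skew_sub S ht' ht
    obtain ⟨τ, hτ⟩ := R.root v 0 (t' - t) hv (S.zero_left _) hd
    have e1 : z' = τ * z := R.inj (by
      rw [map_mul, hτ, hz, hz', S.E_mul hv (S.zero_left _) hu, zero_add, S.zero_right,
        mul_zero, sub_zero, sub_add_cancel])
    rw [e1, map_mul]
    exact mul_mem (hTv _ (subset_closure ⟨_, hd, hτ⟩)) hzT
  have hA0 : (0 : V) ∈ A := hAmk 0 0 1 (S.zero_left _) S.valid_zero_zero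
    (by rw [map_one, S.E_zero_zero]) (by rw [map_one]; exact one_mem _)
  have hAadd : ∀ a ∈ A, ∀ b ∈ A, a + b ∈ A := by
    intro a ha b hb
    obtain ⟨ta, hta⟩ := S.tr a
    obtain ⟨tb, htb⟩ := S.tr b
    obtain ⟨za, hza⟩ := R.root v a ta hv ha.1 hta
    obtain ⟨zb, hzb⟩ := R.root v b tb hv hb.1 htb
    refine hAmk _ _ (za * zb) (Space.Valid.mul S ha.1 hb.1 hta htb).1
      (Space.Valid.mul S ha.1 hb.1 hta htb).2 (by rw [map_mul, hza, hzb, S.E_mul hv ha.1 hb.1]) ?_
    rw [map_mul]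
    exact mul_mem (ha.2 _ _ hta hza) (hb.2 _ _ htb hzb)
  -- one line of `W`
  set U1 := nx S ⊤ v f with hU1d
  have hU1 : Dec S U1 := dec_nx (U := ⊤) trivial trivial hv hf hvf dec_top
  have hPmax : MaxIn p R ⊤ (P : Subgroup G) :=
    ⟨fun g _ y hy => by rw [eq_zero_of_perp_top hy, map_zero], P.isPGroup',
      fun P' h1 _ h3 => P.is_maximal' h3 h1⟩
  obtain ⟨hP1, -, -⟩ := step hyp p (dec_top (S := S)) hPmax (w := v) (f := f) trivial trivial hv hf
    hvf hfix
  have hne1 : (P : Subgroup G) ⊓ Fix R U1 ≠ ⊥ := by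
    intro hbot
    obtain ⟨w, hw0, hww, hwv, hwf⟩ := hyp.two v f hv hf hvf
    obtain ⟨y, hy, s, hs0, hyρ⟩ := R.exists_ne_mem_T hww
    have hle : R.T w ≤ Fix R U1 := by
      intro z hz
      obtain ⟨s', -, hz'⟩ := (R.mem_T hww).1 hz
      exact isEl_fix R (⟨trivial, hwv, hwf⟩ : w ∈ U1) (zero_mem _) hz'
    have h1 := hP1.2.2 (R.T w) (hbot ▸ bot_le) hle (R.isPGroup_T p hww)
    rw [h1, hbot, Subgroup.mem_bot] at hy
    obtain ⟨g', -, hwg'⟩ := S.exists_partner hww hw0
    rw [hy, map_one, ← S.E_zero_zero w] at hyρ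
    exact hs0 (S.eq_zero_of_E_eq hwg' (S.zero_left _) (S.zero_left _) hyρ).2.symm
  obtain ⟨w, hwU, hw0, hww, hwfix⟩ := fixed_in hyp p hU1 hP1.1 hP1.2.1 hne1
  obtain ⟨g, hgU, hgg, hwg⟩ := exists_partner hyp hU1 hwU hw0 hww
  have hgw := h_swap_one hyp hwg
  have hQU := (step hyp p hU1 hP1 hwU hgU hww hgg hwg hwfix).2.1
  obtain ⟨s, hs0, hs⟩ := S.skew_ne
  obtain ⟨y, hy⟩ := R.root w 0 s hww (S.zero_left _) (S.valid_zero_iff.2 hs)
  have hyP : y ∈ (P : Subgroup G) := (hQU (subset_closure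
    ⟨0, s, zero_mem _, S.zero_left _, S.valid_zero_iff.2 hs, hy⟩)).1
  have hyT := hTall w hw0 hww y (subset_closure ⟨s, S.valid_zero_iff.2 hs, hy⟩) hyP
  have hline : ∀ c : F, c • w ∈ A := by
    intro c
    set u := (c / s) • g with hu
    have huv : S.h u v = 0 := by rw [hu, S.smul_left, hgU.2.1, mul_zero]
    have hval0 : S.Valid u 0 := by
      unfold Space.Valid; rw [hu, S.smul_left, S.smul_right, hgg]; simp
    obtain ⟨q, hqQ, hq⟩ := R.exists_mem_Q hv huv hval0
    have hqP := hQP hqQ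
    have hcom : ClassicalAut.Rep.mkQ (y * q * y⁻¹ * q⁻¹) ∈ T := by
      rw [show y * q * y⁻¹ * q⁻¹ = y * (q * y * q⁻¹)⁻¹ by group, map_mul, map_inv]
      exact mul_mem hyT (inv_mem (hc q y hyT hyP (mul_mem (mul_mem hqP hyP) (inv_mem hqP))))
    have hyu : R.ρ y u = c • w + u := by
      rw [hy, S.E_zero_apply, hu, S.smul_left, hgw, mul_one, mul_div_cancel₀ _ hs0, add_comm]
    have hyv : R.ρ y v = v := by
      rw [hy, S.E_zero_apply, S.eq_zero_symm hwU.2.1, mul_zero, zero_smul, add_zero]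
    have hq' := R.conj_eq_E (g := y) hq
    rw [hyv, hyu] at hq'
    have hcw : S.h (c • w) v = 0 := by rw [S.smul_left, hwU.2.1, mul_zero]
    have hval1 : S.Valid (c • w) 0 := by
      unfold Space.Valid; rw [S.smul_left, S.smul_right, hww]; simp
    have hval2 : S.Valid (c • w + u) 0 := by
      have := hval0
      unfold Space.Valid at this ⊢
      rw [← hyu, R.isom]; exact this
    obtain ⟨z, hz⟩ := R.root v (c • w) 0 hv hcw hval1
    refine hAmk _ _ z hcw hval1 hz ?_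
    have hv2 := (Space.Valid.mul S hcw huv hval1 hval0).2
    have hd : S.Valid 0 (0 - ((0 : F) + 0 - S.ε * S.h u (c • w))) :=
      Space.Valid.skew_sub S hval2 hv2
    obtain ⟨τ, hτ⟩ := R.root v 0 _ hv (S.zero_left _) hd
    have e1 : y * q * y⁻¹ = τ * (z * q) := R.inj (by
      rw [hq', map_mul, map_mul, hτ, hz, hq, S.E_mul hv hcw huv, S.E_mul hv (S.zero_left _)
        (by rw [S.add_left, hcw, huv, add_zero]), zero_add, S.zero_right, mul_zero, sub_zero,
        sub_add_cancel])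
    have e2 : ClassicalAut.Rep.mkQ z = (ClassicalAut.Rep.mkQ τ)⁻¹ * ClassicalAut.Rep.mkQ (y * q * y⁻¹ * q⁻¹) := by
      rw [← map_inv, ← map_mul, e1]; congr 1; group
    rw [e2]
    exact mul_mem (inv_mem (hTv _ (subset_closure ⟨_, hd, hτ⟩))) hcom
  have hiso : ∀ w' ∈ U1, S.h w' w' = 0 → ∀ c : F, c • w' ∈ A := by
    intro w' hw' hw'w' c
    by_cases hw'0 : w' = 0
    · rw [hw'0, smul_zero]; exact hA0
    obtain ⟨⟨r, hr⟩, hrr, hr1, hr2⟩ := (subU hU1).exists_common_opposite (v := ⟨w, hwU⟩)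
      (w := ⟨w', hw'⟩) hww (fun h => hw0 (congrArg Subtype.val h)) hw'w'
      (fun h => hw'0 (congrArg Subtype.val h))
    change S.h r r = 0 at hrr
    change S.h r w ≠ 0 at hr1
    change S.h r w' ≠ 0 at hr2
    set a := S.h w r / S.h w' r with ha
    have ha0 : a ≠ 0 := div_ne_zero (S.h_swap_ne hr1) (S.h_swap_ne hr2)
    obtain ⟨k, uk, tk, huk, -, -, hkρ, hk⟩ := move hyp hU1 hr hwU (U1.smul_mem a hw') hrr hww
      (r := a • w') (by rw [S.smul_left, S.smul_right, hw'w', mul_zero, mul_zero])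
      (by rw [S.smul_left, ha, div_mul_cancel₀ _ (S.h_swap_ne hr2)]) (S.h_swap_ne hr1)
    have hkv : R.ρ k v = v := by
      rw [hkρ, S.E_apply_of_perp tk (S.eq_zero_symm hr.2.1), S.eq_zero_symm huk.2.1, mul_zero,
        zero_smul, sub_zero]
    obtain ⟨hcw, hcwT⟩ := hline (c / a)
    have hval1 : S.Valid ((c / a) • w) 0 := by
      unfold Space.Valid; rw [S.smul_left, S.smul_right, hww]; simp
    obtain ⟨z, hzQ, hz⟩ := R.exists_mem_Q hv hcw hval1
    have hz' := R.conj_eq_E (g := k) hz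
    rw [hkv, map_smul, hk, smul_smul, div_mul_cancel₀ _ ha0] at hz'
    have hcw' : S.h (c • w') v = 0 := by rw [S.smul_left, hw'.2.1, mul_zero]
    have hval2 : S.Valid (c • w') 0 := by
      unfold Space.Valid; rw [S.smul_left, S.smul_right, hw'w']; simp
    refine hAmk _ _ _ hcw' hval2 hz' (hc k z (hcwT _ _ hval1 hz) (hQP hzQ) (hQP ?_))
    exact subset_closure ⟨_, _, hcw', hval2, hz'⟩
  have hAU : ∀ u ∈ U1, u ∈ A := by
    intro u hu
    have hsp := (subU hU1).mem_span_isotropic (w₀ := ⟨w, hwU⟩) hww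
      (fun h => hw0 (congrArg Subtype.val h)) ⟨u, hu⟩
    have key : ∀ c : F, c • (u : V) ∈ A := by
      suffices h : ∀ y, y ∈ Submodule.span F {x : U1 | (subU hU1).h x x = 0} → ∀ c : F, c • ((y : U1) : V) ∈ A from h _ hsp
      intro y hy
      induction hy using Submodule.span_induction with
      | mem r hr => exact hiso r r.2 hr
      | zero => intro c; rw [Submodule.coe_zero, smul_zero]; exact hA0
      | add a b _ _ ha hb => intro c; rw [Submodule.coe_add, smul_add]; exact hAadd _ (ha c) _ (hb c)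
      | smul d a _ ha => intro c; rw [Submodule.coe_smul, smul_smul]; exact ha (c * d)
    simpa using key 1
  have hQT : ∀ (u : V) (t : F) (z : G), S.h u v = 0 → S.Valid u t → R.ρ z = S.E v u t →
      ClassicalAut.Rep.mkQ z ∈ T := by
    intro u t z huv ht hz
    set u1 := S.proj v f u
    have hu1 : u = u1 + S.h u f • v := by
      conv_lhs => rw [S.decomp v f u, huv, mul_zero, zero_smul, add_zero]
      exact add_comm _ _
    rw [hu1, S.E_add_self] at hz
    refine (hAU u1 (proj_mem_nx (U := ⊤) trivial trivial hv hf hvf trivial)).2 _ _ ?_ hz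
    unfold Space.Valid at ht ⊢
    have hu1v : S.h u1 v = 0 := S.proj_left hv hvf
    rw [hu1, S.add_left, S.add_right, S.add_right, S.smul_left, S.smul_left, S.smul_right,
      S.smul_right, hu1v, S.eq_zero_symm hu1v, hv, hyp.eps] at ht
    rw [hyp.eps, map_sub, map_add, map_mul, map_one, S.bar_bar]
    linear_combination ht
  rintro _ ⟨z, hz, rfl⟩
  refine (closure_le (T.comap ClassicalAut.Rep.mkQ)).2 ?_ (maxIn_gen hyp p _ ⊤ rfl dec_top P hPmax hz)
  rintro y ⟨hyP, e, u, t, -, -, he0, hee, hue, ht, hyρ⟩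
  show ClassicalAut.Rep.mkQ y ∈ T
  obtain ⟨a, b, hb, hab⟩ := R.exists_map hee he0 hv hv0
  have hyQ : y ∈ R.Q e := subset_closure ⟨u, t, hue, ht, hyρ⟩
  have h1 : a * y * a⁻¹ ∈ R.Q v := by
    have := R.conj_mem_Q hee hyQ a
    rwa [hab, R.Q_smul hb] at this
  obtain ⟨u', t', hu', ht', hρ'⟩ := (R.mem_Q hv).1 h1
  have h2 := hQT u' t' _ hu' ht' hρ'
  rw [show y = a⁻¹ * (a * y * a⁻¹) * a⁻¹⁻¹ by group] at hyP ⊢
  exact hc _ _ h2 (hQP h1) hyP

/-! ### The normaliser -/

theorem normalizer_le_gen (P : Sylow p G)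
    (hv : ∃ v : V, v ≠ 0 ∧ S.h v v = 0 ∧ ∀ g ∈ P, R.ρ g v = v) :
    normalizer (((P : Subgroup G).map ClassicalAut.Rep.mkQ : Subgroup (G ⧸ center G)) : Set (G ⧸ center G)) ≤
      Subgroup.closure (genSet p ((P : Subgroup G).map ClassicalAut.Rep.mkQ)) := by
  classical
  set Pb := (P : Subgroup G).map ClassicalAut.Rep.mkQ
  obtain ⟨v, hv0, hv, hfix⟩ := hv
  obtain ⟨f, -, hf, hvf⟩ := exists_partner hyp (dec_top (S := S)) (w := v) trivial hv0 hv
  have hfv := h_swap_one hyp hvf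
  have hQP : R.Q v ≤ P := R.Q_le_sylow p hv P hfix
  set U1 := nx S ⊤ v f
  have hU1 : Dec S U1 := dec_nx (U := ⊤) trivial trivial hv hf hvf dec_top
  have hPmax : MaxIn p R ⊤ (P : Subgroup G) :=
    ⟨fun g _ y hy => by rw [eq_zero_of_perp_top hy, map_zero], P.isPGroup',
      fun P' h1 _ h3 => P.is_maximal' h3 h1⟩
  obtain ⟨hP1, -, hfac⟩ := step hyp p (dec_top (S := S)) hPmax (w := v) (f := f) trivial trivial hv
    hf hvf hfix
  have hne1 : (P : Subgroup G) ⊓ Fix R U1 ≠ ⊥ := by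
    intro hbot
    obtain ⟨w, hw0, hww, hwv, hwf⟩ := hyp.two v f hv hf hvf
    obtain ⟨y, hy, s, hs0, hyρ⟩ := R.exists_ne_mem_T hww
    have hle : R.T w ≤ Fix R U1 := by
      intro z hz
      obtain ⟨s', -, hz'⟩ := (R.mem_T hww).1 hz
      exact isEl_fix R (⟨trivial, hwv, hwf⟩ : w ∈ U1) (zero_mem _) hz'
    have h1 := hP1.2.2 (R.T w) (hbot ▸ bot_le) hle (R.isPGroup_T p hww)
    rw [h1, hbot, Subgroup.mem_bot] at hy
    obtain ⟨g', -, hwg'⟩ := S.exists_partner hww hw0
    rw [hy, map_one, ← S.E_zero_zero w] at hyρ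
    exact hs0 (S.eq_zero_of_E_eq hwg' (S.zero_left _) (S.zero_left _) hyρ).2.symm
  obtain ⟨w, hwU, hw0, hww, hwfix⟩ := fixed_in hyp p hU1 hP1.1 hP1.2.1 hne1
  obtain ⟨g, hgU, hgg, hwg⟩ := exists_partner hyp hU1 hwU hw0 hww
  have hwv : S.h w v = 0 := hwU.2.1
  have hwf : S.h w f = 0 := hwU.2.2
  have hgv : S.h g v = 0 := hgU.2.1
  have hgf : S.h g f = 0 := hgU.2.2
  -- `P` preserves the line
  have hPL : (P : Subgroup G) ≤ StabL R v w := by
    intro x hx
    obtain ⟨q, u, t, -, huv, -, hq, -, hx'⟩ := hfac x hx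
    refine mem_StabL ?_ ?_
    · rw [hfix x hx]; exact Submodule.subset_span (by simp)
    · rw [show x = q * (q⁻¹ * x) by group, map_mul, Module.End.mul_apply, hwfix _ hx', hq,
        S.E_apply_of_perp t hwv]
      exact sub_mem (Submodule.subset_span (by simp))
        (Submodule.smul_mem _ _ (Submodule.subset_span (by simp)))
  have hpel : ∀ x ∈ (P : Subgroup G), ∃ k : ℕ, orderOf x = p ^ k := by
    intro x hx
    obtain ⟨k, hk⟩ := P.isPGroup' ⟨x, hx⟩
    exact orderOf_of_pow p (congrArg Subtype.val hk)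
  have hR2P : R2 R v w ≤ (P : Subgroup G) := by
    have hn : (P : Subgroup G) ≤ normalizer (R2 R v w : Set G) := hPL.trans StabL_normalizes
    have h := P.is_maximal' (P.isPGroup'.to_sup_of_normal_right'
      (isPGroup_R2 hyp p hv hf hvf hww hwv hwf hgg hwg hgv hgf) hn) le_sup_left
    exact h ▸ le_sup_right
  have hmapnorm : ∀ {H : Subgroup G} {x : G}, x ∈ normalizer (H : Set G) →
      ClassicalAut.Rep.mkQ x ∈ normalizer ((H.map ClassicalAut.Rep.mkQ : Subgroup (G ⧸ center G)) : Set (G ⧸ center G)) :=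
    fun {H x} hx => le_normalizer_map _ (mem_map_of_mem ClassicalAut.Rep.mkQ hx)
  have hclos : ∀ {H : Subgroup G} {x : G},
      x ∈ closure {y | y ∈ normalizer (H : Set G) ∧ ∃ k : ℕ, orderOf y = p ^ k} →
      ClassicalAut.Rep.mkQ x ∈ closure {y | y ∈ normalizer ((H.map ClassicalAut.Rep.mkQ : Subgroup (G ⧸ center G)) :
        Set (G ⧸ center G)) ∧ ∃ k : ℕ, orderOf y = p ^ k} := by
    intro H x hx
    refine Subgroup.mem_comap.1 ((closure_le _).2 ?_ hx)
    rintro y ⟨hy, k, hk⟩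
    refine subset_closure ⟨hmapnorm hy, orderOf_of_pow p (k := k) ?_⟩
    rw [← map_pow, ← hk, pow_orderOf_eq_one, map_one]
  have hexact : ∀ {H : Subgroup G}, H ≤ (P : Subgroup G) → ∀ {x : G},
      ClassicalAut.Rep.mkQ x ∈ centralizer ((H.map ClassicalAut.Rep.mkQ : Subgroup (G ⧸ center G)) : Set (G ⧸ center G)) →
      ∀ r ∈ H, x * r * x⁻¹ = r := by
    intro H hH x hx r hr
    have h := mem_centralizer_iff.1 hx _ (mem_map_of_mem ClassicalAut.Rep.mkQ hr)
    obtain ⟨k, hk⟩ := P.isPGroup' ⟨r, hH hr⟩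
    have hk' : r ^ p ^ k = 1 := congrArg Subtype.val hk
    refine R.eq_of_mk_eq p (i := k) (j := k) ?_ hk' ?_
    · rw [conj_pow, hk', mul_one, mul_inv_cancel]
    · rw [map_mul, map_mul, map_inv, ← h, mul_inv_cancel_right]
  have hcQ : centralizer (((R.Q v).map ClassicalAut.Rep.mkQ : Subgroup (G ⧸ center G)) : Set (G ⧸ center G)) ≤
      (R.Q v).map ClassicalAut.Rep.mkQ := by
    intro xb hxb
    obtain ⟨x, rfl⟩ := ClassicalAut.Rep.mkQ_surjective xb
    obtain ⟨r, hr, hz⟩ := centralizer_Q hyp hv hf hvf (x := x) (hexact hQP hxb)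
    refine ⟨r, hr, ?_⟩
    rw [show x = x * r⁻¹ * r by group, map_mul (ClassicalAut.Rep.mkQ) (x * r⁻¹) r,
      show ClassicalAut.Rep.mkQ (x * r⁻¹) = 1 from (QuotientGroup.eq_one_iff _).2 hz, one_mul]
  have hcR : centralizer (((R2 R v w).map ClassicalAut.Rep.mkQ : Subgroup (G ⧸ center G)) : Set (G ⧸ center G)) ≤
      (R2 R v w).map ClassicalAut.Rep.mkQ := by
    intro xb hxb
    obtain ⟨x, rfl⟩ := ClassicalAut.Rep.mkQ_surjective xb
    obtain ⟨r, hr, hz⟩ := centralizer_R2 hyp hv hf hvf hww hwv hwf hgg hwg hgv hgf (x := x)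
      (hexact hR2P hxb)
    refine ⟨r, hr, ?_⟩
    rw [show x = x * r⁻¹ * r by group, map_mul (ClassicalAut.Rep.mkQ) (x * r⁻¹) r,
      show ClassicalAut.Rep.mkQ (x * r⁻¹) = 1 from (QuotientGroup.eq_one_iff _).2 hz, one_mul]
  intro xb hxb
  obtain ⟨x, rfl⟩ := ClassicalAut.Rep.mkQ_surjective xb
  have hxn : ∀ y ∈ (P : Subgroup G), x * y * x⁻¹ ∈ (P : Subgroup G) := by
    intro y hy
    obtain ⟨z, hz, hzy⟩ : ClassicalAut.Rep.mkQ (x * y * x⁻¹) ∈ Pb := by
      rw [map_mul, map_mul, map_inv]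
      exact (mem_normalizer_iff.1 hxb _).1 (mem_map_of_mem ClassicalAut.Rep.mkQ hy)
    obtain ⟨k, hk⟩ := P.isPGroup' ⟨y, hy⟩
    obtain ⟨j, hj⟩ := P.isPGroup' ⟨z, hz⟩
    have hk' : y ^ p ^ k = 1 := congrArg Subtype.val hk
    have e := R.eq_of_mk_eq p (i := j) (j := k) (congrArg Subtype.val hj)
      (show (x * y * x⁻¹) ^ p ^ k = 1 by rw [conj_pow, hk', mul_one, mul_inv_cancel]) hzy
    exact e ▸ hz
  have hxN : x ∈ normalizer ((P : Subgroup G) : Set G) := mem_normalizer_fintype hxn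
  obtain ⟨l, hl⟩ := fixed_line hyp hv hf hvf (x := R.ρ x v) hQP fun y hy => by
    have h1 : x⁻¹ * y * x ∈ (P : Subgroup G) := by
      have := (mem_normalizer_iff.1 (inv_mem hxN) y).1 hy
      rwa [inv_inv] at this
    have h2 := hfix _ h1
    rw [show y = x * (x⁻¹ * y * x) * x⁻¹ by group, map_mul, map_mul, Module.End.mul_apply,
      Module.End.mul_apply, R.ρ_inv_apply, h2]
  have hl0 : l ≠ 0 := fun h => R.ρ_ne_zero x hv0 (by rw [hl, h, zero_smul])
  obtain ⟨h0, hh0, hh0v⟩ := exists_scale hyp p hv hf hvf hww hwv hwf hgg hwg hgv hgf hl0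
  set K2 := closure {y | y ∈ StabL R v w ∧ ∃ k : ℕ, orderOf y = p ^ k}
  have hPK : (P : Subgroup G) ≤ K2 := fun y hy => subset_closure ⟨hPL hy, hpel y hy⟩
  set Fv : Subgroup G :=
    { carrier := {y | R.ρ y v = v}
      one_mem' := by simp
      mul_mem' := fun {a b} ha hb => by
        show R.ρ (a * b) v = v
        rw [map_mul, Module.End.mul_apply, hb, ha]
      inv_mem' := fun {a} ha => fix_inv_of_fix hyp ha }
  set X := K2 ⊓ Fv
  have hPX : (P : Subgroup G) ≤ X := le_inf hPK fun y hy => hfix y hy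
  obtain ⟨P', hP'⟩ : ∃ P' : Sylow p G, P' = h0 • P := ⟨_, rfl⟩
  have hP'mem : ∀ y ∈ (P : Subgroup G), h0 * y * h0⁻¹ ∈ (P' : Subgroup G) := fun y hy => by
    rw [hP', Sylow.coe_subgroup_smul]
    exact Subgroup.mem_smul_pointwise_iff_exists _ _ _ |>.2 ⟨y, hy, rfl⟩
  have hP'X : (P' : Subgroup G) ≤ X := by
    intro y hy
    rw [hP'] at hy
    obtain ⟨z, hz, rfl⟩ := Rep.exists_of_mem_smul p hy
    refine ⟨Subgroup.mul_mem _ (Subgroup.mul_mem _ hh0 (hPK hz)) (Subgroup.inv_mem _ hh0), ?_⟩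
    show R.ρ (h0 * z * h0⁻¹) v = v
    have e1 : R.ρ h0⁻¹ v = l⁻¹ • v := by
      conv_rhs => rw [← R.ρ_inv_apply h0 v, hh0v, map_smul, smul_smul, inv_mul_cancel₀ hl0, one_smul]
    rw [map_mul, map_mul, Module.End.mul_apply, Module.End.mul_apply, e1, map_smul, hfix z hz,
      map_smul, hh0v, smul_smul, inv_mul_cancel₀ hl0, one_smul]
  obtain ⟨⟨k, hkK, hkv⟩, hk⟩ := MulAction.exists_smul_eq (↥X) (P'.subtype hP'X) (P.subtype hPX)
  have hkP : ∀ y ∈ (P' : Subgroup G), k * y * k⁻¹ ∈ (P : Subgroup G) := by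
    intro y hy
    have h1 : (⟨k, hkK, hkv⟩ : X) * ⟨y, hP'X hy⟩ * (⟨k, hkK, hkv⟩ : X)⁻¹ ∈
        (((⟨k, hkK, hkv⟩ : X) • P'.subtype hP'X : Sylow p X) : Subgroup X) := by
      rw [Sylow.coe_subgroup_smul]
      exact Subgroup.mem_smul_pointwise_iff_exists _ _ _ |>.2 ⟨⟨y, hP'X hy⟩, hy, rfl⟩
    rw [hk] at h1
    exact h1
  set h := k * h0
  have hhv : R.ρ h v = l • v := by
    rw [map_mul, Module.End.mul_apply, hh0v, map_smul, show R.ρ k v = v from hkv]
  have hhn : h ∈ normalizer ((P : Subgroup G) : Set G) := by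
    refine mem_normalizer_fintype fun y hy => ?_
    rw [show h * y * h⁻¹ = k * (h0 * y * h0⁻¹) * k⁻¹ by simp only [h]; group]
    exact hkP _ (hP'mem y hy)
  have hQn : Pb ≤ normalizer (((R.Q v).map ClassicalAut.Rep.mkQ : Subgroup (G ⧸ center G)) : Set (G ⧸ center G)) := by
    rintro _ ⟨y, hy, rfl⟩
    exact hmapnorm (conj_Q hyp hv hf hvf one_ne_zero (by rw [hfix y hy, one_smul]))
  have hRn : Pb ≤ normalizer (((R2 R v w).map ClassicalAut.Rep.mkQ : Subgroup (G ⧸ center G)) : Set (G ⧸ center G)) := by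
    rintro _ ⟨y, hy, rfl⟩
    exact hmapnorm (StabL_normalizes (hPL hy))
  have hW1 : ClassicalAut.Rep.mkQ h ∈ closure (genSet p Pb) := by
    refine subset_closure ⟨hmapnorm hhn, (R2 R v w).map ClassicalAut.Rep.mkQ, map_mono hR2P, hRn, hcR, hclos (H := R2 R v w) ?_⟩
    refine Subgroup.closure_mono ?_ (Subgroup.mul_mem _ hkK hh0)
    exact fun y hy => ⟨StabL_normalizes hy.1, hy.2⟩
  have hW2 : ClassicalAut.Rep.mkQ (h⁻¹ * x) ∈ closure (genSet p Pb) := by
    set x' := h⁻¹ * x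
    have hx'v : R.ρ x' v = v := by
      rw [map_mul, Module.End.mul_apply, hl]
      exact inv_apply_of_eq hyp hhv
    refine subset_closure ⟨hmapnorm (mul_mem (inv_mem hhn) hxN), (R.Q v).map ClassicalAut.Rep.mkQ, map_mono hQP,
      hQn, hcQ, hclos ?_⟩
    have helem : ∀ (e u : V) (t : F) (r : G), S.h e e = 0 → S.h u e = 0 → S.Valid u t →
        R.ρ r = S.E e u t → R.ρ r v = v →
        r ∈ closure {y | y ∈ normalizer (R.Q v : Set G) ∧ ∃ k : ℕ, orderOf y = p ^ k} := by
      intro e u t r hee hue ht hr hrv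
      obtain ⟨j, hj⟩ := R.isPGroup_Q p hee ⟨r, subset_closure ⟨u, t, hue, ht, hr⟩⟩
      exact subset_closure ⟨conj_Q hyp hv hf hvf one_ne_zero (by rw [hrv, one_smul]),
        orderOf_of_pow p (congrArg Subtype.val hj)⟩
    obtain ⟨q, u, t, -, huv, ht, hq, hqf⟩ := move hyp (dec_top (S := S)) (e := v) (f := f)
      (r := R.ρ x' f) trivial trivial trivial hv hf (by rw [R.isom, hf])
      (by conv_lhs => arg 3; rw [← hx'v]
          rw [R.isom]) (by rw [hfv]; exact one_ne_zero)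
    have hqv : R.ρ q v = v := by rw [hq, S.E_apply_self hv huv]
    have h2 : q⁻¹ * x' ∈ Fix R U1 := by
      refine fix_nx R (U := ⊤) trivial trivial hv hf hvf dec_top
        (fun y hy => by rw [eq_zero_of_perp_top hy, map_zero]) ?_ ?_
      · rw [map_mul, Module.End.mul_apply, hx'v, fix_inv_of_fix hyp hqv]
      · rw [map_mul, Module.End.mul_apply, inv_apply_of_eq hyp hqf]
    rw [show x' = q * (q⁻¹ * x') by group]
    refine mul_mem (helem v u t q hv huv ht hq hqv) ?_
    refine (closure_le _).2 ?_ (mem_El hyp _ U1 rfl hU1 _ h2)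
    rintro r ⟨e, u', t', he, hu', -, hee, hue, ht', hr⟩
    refine helem e u' t' r hee hue ht' hr ?_
    exact (fix_nx_left R (isEl_fix R he hu' hr)).1
  have e : x = h * (h⁻¹ * x) := by group
  rw [e, map_mul]
  exact mul_mem hW1 hW2

/-- The `p`-fusion system of the projective group is simple. -/
theorem isSimple (Sb : Sylow p (G ⧸ center G)) :
    (groupFusionSystem (Sb : Subgroup (G ⧸ center G))).IsSimple p := by
  obtain ⟨e, he0, he⟩ := hyp.frame
  obtain ⟨P₀⟩ : Nonempty (Sylow p G) := inferInstance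
  have hv := R.sylow_fixes p he he0 P₀
  refine isSimple_group_of_model (P₀.mapSurjective ClassicalAut.Rep.mkQ_surjective) ?_ ?_ ?_ Sb
  · rw [Sylow.coe_mapSurjective]
    intro hbot
    obtain ⟨v, hv0, hvv, hfix⟩ := hv
    obtain ⟨y, hy, s, hs0, hyρ⟩ := R.exists_ne_mem_T hvv
    have h1 := mem_map_of_mem ClassicalAut.Rep.mkQ (R.Q_le_sylow p hvv P₀ hfix (R.T_le_Q v hy))
    rw [hbot, Subgroup.mem_bot] at h1
    obtain ⟨j, hj⟩ := R.isPGroup_T p hvv ⟨y, hy⟩
    have h2 : y = 1 := R.eq_of_mk_eq p (i := j) (j := 0) (congrArg Subtype.val hj) (one_pow _)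
      (h1.trans (map_one _).symm)
    obtain ⟨g', -, hvg'⟩ := S.exists_partner hvv hv0
    rw [h2, map_one, ← S.E_zero_zero v] at hyρ
    exact hs0 (S.eq_zero_of_E_eq hvg' (S.zero_left _) (S.zero_left _) hyρ).2.symm
  · rw [Sylow.coe_mapSurjective]
    exact fun T hT hsc => eq_of_closed hyp p P₀ hv hT hsc
  · rw [Sylow.coe_mapSurjective]
    exact (normalizer_le_gen hyp p P₀ hv).trans le_sup_right

end CfsgLib.Fusion.HermCharP
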