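import Cfsg.Agent.Lib.Fusion.HermCharP
import Cfsg.Agent.Lib.Classical.UnitaryTrans

/-!
The hypotheses of `HermCharP` for special unitary groups of degree at least four.
-/

set_option autoImplicit false

namespace CfsgLib.Fusion.HermCharP

open Matrix Cfsg CfsgLib.ClassicalAut

variable {F : Type*} [Field F] [Finite F] {q n : ℕ} (K : Unitary.Conj F q)

theorem exists_ker_ne (k : ℕ) (hk : k < n) (y : Fin k → (Fin n → F)) :
    ∃ x : Fin n → F, x ≠ 0 ∧ ∀ i, (Unitary.space (n := n) K).h x (y i) = 0 := by
  set S := Unitary.space (n := n) K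
  let L : (Fin n → F) →ₗ[F] (Fin k → F) :=
    { toFun := fun x i => S.h x (y i)
      map_add' := fun x z => funext fun i => S.add_left x z (y i)
      map_smul' := fun a x => funext fun i => S.smul_left a x (y i) }
  obtain ⟨v, hv, hv0⟩ := Submodule.exists_mem_ne_zero_of_ne_bot
    (LinearMap.ker_ne_bot_of_finrank_lt (f := L) (by simpa using hk))
  exact ⟨v, hv0, fun i => congrFun (LinearMap.mem_ker.1 hv) i⟩

include K in
theorem det_two (g : SU n F q) (w f : Fin n → F) (a b : F) (hw : hermForm n F q w w = 0)
    (hf : hermForm n F q f f = 0) (hwf : hermForm n F q w f = 1)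
    (h : ∀ x, (g.1 : Matrix (Fin n) (Fin n) F) *ᵥ x =
      x + (a * hermForm n F q x f) • w + (b * hermForm n F q x w) • f) :
    (1 + a) * (1 + b) = 1 := by
  let C : Matrix (Fin n) (Fin 2) F := Matrix.of fun i j => (![a • w, b • f] j) i
  let D : Matrix (Fin 2) (Fin n) F := Matrix.of fun j i => K.bar ((![f, w] j) i)
  have hD : ∀ x, D *ᵥ x = ![hermForm n F q x f, hermForm n F q x w] := fun x => by
    funext j
    fin_cases j <;>
      simp [D, mulVec, dotProduct, Unitary.herm_apply K, mul_comm]
  have hA : (g.1 : Matrix (Fin n) (Fin n) F) = 1 + C * D := by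
    refine Matrix.ext_of_mulVec_single fun i => ?_
    rw [h, add_mulVec, one_mulVec, ← mulVec_mulVec, hD, add_assoc]
    congr 1
    funext j
    simp [C, mulVec, dotProduct, Fin.sum_univ_two]
    ring
  have hfw : hermForm n F q f w = 1 := by
    have := (Unitary.space (n := n) K).swap w f
    change hermForm n F q f w = 1 * K.bar (hermForm n F q w f) at this
    rwa [hwf, map_one, one_mul] at this
  have e : D * C = Matrix.diagonal ![a, b] := by
    refine Matrix.ext_of_mulVec_single fun j => ?_
    have hC : C *ᵥ Pi.single j 1 = ![a • w, b • f] j := by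
      funext i; simp [C]
    rw [← mulVec_mulVec, hC, hD]
    fin_cases j <;> funext i <;> fin_cases i <;>
      simp [(Unitary.space (n := n) K).smul_left, hw, hf, hwf, hfw,
        show ∀ (c : F) (x y : Fin n → F), hermForm n F q (c • x) y = c * hermForm n F q x y from
          (Unitary.space (n := n) K).smul_left]
  have hdet : (g.1 : Matrix (Fin n) (Fin n) F).det = 1 := g.1.2
  rw [hA, det_one_add_mul_comm, e, ← diagonal_one, diagonal_add, det_diagonal,
    Fin.prod_univ_two] at hdet
  simpa using hdet

/-- The hypotheses hold for `SU_n(q)`, `n ≥ 4`. -/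
theorem hyp_unitary (hn : 4 ≤ n) (p : ℕ) [Fact p.Prime] [CharP F p] :
    Hyp (Unitary.rep (n := n) K (by omega) p) where
  eps := rfl
  moved := K.exists_moved
  norm := K.exists_norm
  skew := Unitary.skewSurj K
  det1 g y c h := by
    have hA : (g.1 : Matrix (Fin n) (Fin n) F) = Classical.Herm.quasi K y c :=
      Matrix.ext_of_mulVec_single fun i => (h _).trans (Classical.Herm.quasi_apply K y c _).symm
    have hdet : (g.1 : Matrix (Fin n) (Fin n) F).det = 1 := g.1.2
    rw [hA, Classical.Herm.det_quasi] at hdet
    exact hdet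
  det2 g w f a b hw hf hwf h := det_two K g w f a b hw hf hwf h
  frame := by
    obtain ⟨Φ⟩ := Unitary.exists_frame (n := n) K (by omega)
    exact ⟨Φ.e, fun h => by
      have := Φ.hef
      rw [h, (Unitary.space K).zero_left] at this
      exact zero_ne_one this, Φ.he⟩
  two e f _ _ _ := by
    set S := Unitary.space (n := n) K
    obtain ⟨v, hv0, hv⟩ := exists_ker_ne K 2 (by omega) ![e, f]
    by_cases hvv : S.h v v = 0
    · exact ⟨v, hv0, hvv, hv 0, hv 1⟩
    obtain ⟨u, hu0, hu⟩ := exists_ker_ne K 3 (by omega) ![e, f, v]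
    have hue : S.h u e = 0 := hu 0
    have huf : S.h u f = 0 := hu 1
    have huv : S.h u v = 0 := hu 2
    by_cases huu : S.h u u = 0
    · exact ⟨u, hu0, huu, hue, huf⟩
    have hsym : ∀ x, S.bar (S.h x x) = S.h x x := fun x => by
      have := S.swap x x
      rw [show S.ε = 1 from rfl, one_mul] at this
      exact this.symm
    obtain ⟨c, hc⟩ := K.exists_norm (-(S.h u u) / S.h v v) (by
      show S.bar _ = _
      rw [map_div₀, map_neg, hsym, hsym])
    change c * S.bar c = _ at hc
    have hve : S.h v e = 0 := hv 0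
    have hvf : S.h v f = 0 := hv 1
    refine ⟨u + c • v, fun h0 => huu ?_, ?_, ?_, ?_⟩
    · have := congrArg (fun x => S.h x u) h0
      simpa [S.add_left, S.smul_left, S.zero_left, S.eq_zero_symm huv] using this
    · have e1 : c * S.bar c * S.h v v = -(S.h u u) := by rw [hc, div_mul_cancel₀ _ hvv]
      rw [S.add_left, S.add_right, S.add_right, S.smul_left, S.smul_left, S.smul_right,
        S.smul_right, huv, S.eq_zero_symm huv]
      linear_combination e1
    · rw [S.add_left, S.smul_left, hue, hve, mul_zero, add_zero]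
    · rw [S.add_left, S.smul_left, huf, hvf, mul_zero, add_zero]

end CfsgLib.Fusion.HermCharP
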