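import Cfsg.Agent.Lib.Fusion.SimpleModel

/-!
The automizer of a Sylow subgroup whose normalizer has a centralizing part prime to `p` is inner.
-/

set_option autoImplicit false

namespace CfsgLib.Fusion

open Cfsg Cfsg.FusionSystem

variable {G : Type*} [Group G] [Finite G] {p : ℕ} [Fact p.Prime]

theorem pPrime_centralizes_of_model (S₀ : Sylow p G)
    (hC : ∀ g ∈ Subgroup.normalizer ((S₀ : Subgroup G) : Set G), ¬ p ∣ orderOf g →
      g ∈ Subgroup.centralizer ((S₀ : Subgroup G) : Set G)) (S : Sylow p G) :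
    ∀ g ∈ Subgroup.normalizer ((S : Subgroup G) : Set G), ¬ p ∣ orderOf g →
      g ∈ Subgroup.centralizer ((S : Subgroup G) : Set G) := by
  obtain ⟨c, rfl⟩ := MulAction.exists_smul_eq G S₀ S
  intro g hg hd
  have hmem : ∀ y : G, y ∈ ((c • S₀ : Sylow p G) : Subgroup G) ↔ c⁻¹ * y * c ∈ (S₀ : Subgroup G) := fun y => by
    show y ∈ (S₀ : Subgroup G).map (MulAut.conj c).toMonoidHom ↔ _
    rw [mem_map_conj]
  have e : c⁻¹ * g * c = MulAut.conj c⁻¹ g := by simp [MulAut.conj_apply]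
  have hg0 : c⁻¹ * g * c ∈ Subgroup.normalizer ((S₀ : Subgroup G) : Set G) := by
    rw [Subgroup.mem_normalizer_iff]
    intro y
    have h := Subgroup.mem_normalizer_iff.1 hg (c * y * c⁻¹)
    rw [hmem, hmem] at h
    have e1 : c⁻¹ * (c * y * c⁻¹) * c = y := by group
    have e2 : c⁻¹ * (g * (c * y * c⁻¹) * g⁻¹) * c = c⁻¹ * g * c * y * (c⁻¹ * g * c)⁻¹ := by group
    rw [e1, e2] at h
    exact h
  have hd0 : ¬ p ∣ orderOf (c⁻¹ * g * c) := by rwa [e, MulEquiv.orderOf_eq]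
  have h0 := Subgroup.mem_centralizer_iff.1 (hC _ hg0 hd0)
  refine Subgroup.mem_centralizer_iff.2 fun y hy => ?_
  have h := h0 (c⁻¹ * y * c) ((hmem y).1 hy)
  calc y * g = c * (c⁻¹ * y * c * (c⁻¹ * g * c)) * c⁻¹ := by group
    _ = c * (c⁻¹ * g * c * (c⁻¹ * y * c)) * c⁻¹ := by rw [h]
    _ = g * y := by group

/-- The automizer is the inner automorphism group. -/
theorem autGroup_eq_inn (S : Sylow p G)
    (hC : ∀ g ∈ Subgroup.normalizer ((S : Subgroup G) : Set G), ¬ p ∣ orderOf g →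
      g ∈ Subgroup.centralizer ((S : Subgroup G) : Set G)) :
    (groupFusionSystem (S : Subgroup G)).autGroup (S : Subgroup G) = Cfsg.Inn ↥(S : Subgroup G) := by
  rw [autGroup_groupFusionSystem S le_rfl]
  ext α
  rw [mem_autInducedBy_iff]
  constructor
  · rintro ⟨g, -, hv⟩
    have hgS : g ∈ Subgroup.normalizer ((S : Subgroup G) : Set G) :=
      Subgroup.mem_normalizer_fintype fun x hx => hv ⟨x, hx⟩ ▸ SetLike.coe_mem _
    obtain ⟨a, r, hr, hord⟩ := Nat.exists_eq_pow_mul_and_not_dvd (orderOf_pos g).ne' p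
      (Fact.out : p.Prime).ne_one
    have hr0 : r ≠ 0 := fun e => hr (e ▸ dvd_zero p)
    have hpr : (g ^ r) ^ p ^ a = 1 := by rw [← pow_mul, mul_comm, ← hord, pow_orderOf_eq_one]
    have hk : (g ^ p ^ a) ^ r = 1 := by rw [← pow_mul, ← hord, pow_orderOf_eq_one]
    have hP : IsPGroup p (Subgroup.zpowers (g ^ r)) := by
      obtain ⟨i, -, hi⟩ := (Nat.dvd_prime_pow (Fact.out : p.Prime)).1 (orderOf_dvd_of_pow_eq_one hpr)
      exact IsPGroup.of_card (n := i) (by rw [Nat.card_zpowers, hi])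
    have hS1 : g ^ r ∈ (S : Subgroup G) := by
      have h1 : g ^ r ∈ Subgroup.zpowers (g ^ r) ⊓ Subgroup.normalizer ((S : Subgroup G) : Set G) :=
        ⟨Subgroup.mem_zpowers _, pow_mem hgS r⟩
      exact ((hP.inf_normalizer_sylow S).le h1).2
    have hc : g ^ p ^ a ∈ Subgroup.centralizer ((S : Subgroup G) : Set G) :=
      hC _ (pow_mem hgS _) fun hd => hr (hd.trans (orderOf_dvd_of_pow_eq_one hk))
    have hcop : IsCoprime ((p ^ a : ℕ) : ℤ) (r : ℤ) := by
      rw [Nat.isCoprime_iff_coprime]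
      exact ((Fact.out : p.Prime).coprime_iff_not_dvd.2 hr).pow_left a
    obtain ⟨u, v, huv⟩ := hcop
    have hg : g = (g ^ r) ^ v * (g ^ p ^ a) ^ u := by
      rw [← zpow_natCast g r, ← zpow_natCast g (p ^ a), ← zpow_mul, ← zpow_mul, ← zpow_add]
      conv_lhs => rw [← zpow_one g, ← huv]
      congr 1
      ring
    refine ⟨⟨(g ^ r) ^ v, zpow_mem hS1 v⟩, MulEquiv.ext fun x => Subtype.ext ?_⟩
    rw [hv x]
    show (g ^ r) ^ v * x * ((g ^ r) ^ v)⁻¹ = g * x * g⁻¹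
    have hx := Subgroup.mem_centralizer_iff.1 (zpow_mem hc u) x x.2
    conv_rhs => rw [hg]
    rw [mul_inv_rev, mul_assoc ((g ^ r) ^ v) ((g ^ p ^ a) ^ u), ← hx]
    group
  · rintro ⟨s, rfl⟩
    exact ⟨s, Subgroup.mem_top _, fun x => rfl⟩

end CfsgLib.Fusion
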