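import Cfsg.Agent.Lib.Fusion.StrongInvariance

/-!
The Frattini condition from invariance under `Aut_F(T)` and the conjugates of inner automorphisms of
the self-centralising subgroups.
-/

set_option autoImplicit false

namespace CfsgLib.Fusion.SeedCriterion

open Cfsg Cfsg.FusionSystem

variable {Ω : Type*} [Group Ω] {S T : Subgroup Ω} {F : FusionSystem S} {E : FusionSystem T}

/-- Invariance under `Aut_F(T)`. -/
def AutStable (E : FusionSystem T) (F : FusionSystem S) : Prop :=
  ∀ a ∈ F.autGroup T, ∀ (P : Subgroup Ω) (f : Ω → Ω), IsMap E P f →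
    IsMap E (imageAut a⁻¹ P) (autFun a⁻¹ ∘ f ∘ autFun a)

/-- The conjugates in `Aut_F(R)` of the automorphisms induced by `T` lie in `E`. -/
def Seeds (E : FusionSystem T) (F : FusionSystem S) : Prop :=
  ∀ R, R ≤ T → F.IsFullyNormalized R → centralizerIn T R ≤ R → ∀ g ∈ F.autGroup R,
    ∀ x ∈ autInducedBy T R, g * x * g⁻¹ ∈ E.autGroup R

theorem factors_comp' (hInv : AutStable E F) (hT : T ≤ S) {P Q : Subgroup Ω} {f g : Ω → Ω}
    (hf : Factors E F P f) (hg : Factors E F Q g) (h : ∀ x ∈ P, f x ∈ Q) :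
    Factors E F P (g ∘ f) := by
  obtain ⟨a, ha, f₀, hf₀, hv⟩ := hf
  obtain ⟨b, hb, g₀, hg₀, hw⟩ := hg
  have hback : ∀ u ∈ T, autFun a⁻¹ (autFun a u) = u := fun u hu => by
    rw [← autFun_mul _ _ hu, inv_mul_cancel, autFun_apply _ hu]; rfl
  have hfwd : ∀ u ∈ T, autFun a (autFun a⁻¹ u) = u := fun u hu => by
    rw [← autFun_mul _ _ hu, mul_inv_cancel, autFun_apply _ hu]; rfl
  have hmem : ∀ x ∈ P, f₀ x ∈ imageAut a⁻¹ Q := fun x hx => by
    have h1 := mem_imageAut a⁻¹ (h x hx) (hv x hx ▸ autFun_mem a (hf₀.mem hx))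
    rwa [hv x hx, hback _ (hf₀.mem hx)] at h1
  refine ⟨b * a, (F.autGroup T).mul_mem hb ha, (autFun a⁻¹ ∘ g₀ ∘ autFun a) ∘ f₀,
    hf₀.comp (hInv a ha Q g₀ hg₀) hmem, fun x hx => ?_⟩
  have hm : g₀ (autFun a (f₀ x)) ∈ T := hg₀.mem (hv x hx ▸ h x hx)
  show g (f x) = autFun (b * a) (autFun a⁻¹ (g₀ (autFun a (f₀ x))))
  rw [autFun_mul _ _ (autFun_mem _ hm), hfwd _ hm, ← hv x hx, hw _ (h x hx)]

variable {p : ℕ} [Fact p.Prime] [Finite S]

set_option maxHeartbeats 1000000 in
/-- The Frattini condition. -/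
theorem factors_of_seeds (hS : IsPGroup p S) (hF : F.IsSaturated p)
    (hT : F.StronglyClosed T) (hInv : AutStable E F) (hseed : Seeds E F) :
    ∀ (n : ℕ) (P : Subgroup Ω) (f : Ω → Ω), Nat.card T - Nat.card P = n → P ≤ T →
      IsMap F P f → Factors E F P f := by
  intro n
  induction n using Nat.strong_induction_on with
  | _ n ih =>
  intro P f hn hPT hf
  have := finite_of_le hT.1
  have := finite_of_le hf.le
  obtain ⟨Q, hQ⟩ := hf.exists_iso
  rcases eq_or_ne P T with rfl | hne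
  · obtain ⟨a, ha, hv⟩ := exists_mem_autGroup (hf.isIso_of_card_le
      (fun x hx => isMap_mem_of_stronglyClosed hT hf hx hx) le_rfl)
    exact ⟨a, ha, id, isMap_id le_rfl, fun x hx => by rw [id, autFun_apply a hx, hv]⟩
  obtain ⟨R, hPR, hR⟩ := exists_isFullyNormalized (F := F) hQ.le_left
  have hra := isFullyAutomized_of_isFullyNormalized hS hF hR
  have hrr := isReceptive_of_isFullyNormalized hS hF hR
  have hmemT : ∀ {A : Subgroup Ω} {g : Ω → Ω}, IsIso F P A g → A ≤ T := fun {A g} hg y hy => by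
    obtain ⟨x, hx, rfl⟩ := hg.surj hy
    exact isMap_mem_of_stronglyClosed hT hg.isMap hx (hPT hx)
  have hQT : Q ≤ T := hmemT hQ
  obtain ⟨k0, hk0⟩ := isConj_iff.1 hPR
  have hRT : R ≤ T := hmemT hk0
  have hcard : ∀ {A : Subgroup Ω}, A ≤ T → Nat.card A = Nat.card P →
      Nat.card T - Nat.card (normalizerIn T A) < n := fun {A} hA hc => by
    have := finite_of_le (S := S) (P := normalizerIn T A) (inf_le_left.trans hT.1)
    have hne' : A ≠ T := fun e => hne (Subgroup.eq_of_le_of_card_ge hPT (e ▸ hc).le)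
    have hlt : A < normalizerIn T A := lt_normalizerIn (hS.to_le hT.1) hA hne'
    have := finite_of_le (hA.trans hT.1)
    have h1 : Nat.card A < Nat.card (normalizerIn T A) :=
      lt_of_le_of_ne (Subgroup.card_le_of_le hlt.le)
        fun e => hlt.ne (Subgroup.eq_of_le_of_card_ge hlt.le e.ge)
    have h2 : Nat.card (normalizerIn T A) ≤ Nat.card T := Subgroup.card_le_of_le inf_le_left
    omega
  have hext : ∀ {A : Subgroup Ω} {g : Ω → Ω}, A ≤ T → Nat.card A = Nat.card P →
      IsMap F (normalizerIn T A) g → Factors E F (normalizerIn T A) g :=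
    fun {A g} hA hc hg => ih _ (hcard hA hc) _ g rfl inf_le_left hg
  have hle : ∀ A : Subgroup Ω, normalizerIn T A ≤ normalizerIn S A :=
    fun A => inf_le_inf_right _ hT.1
  -- the maps to `R` and back
  obtain ⟨a, haN, haP, -, -⟩ := exists_map_normalizerIn hS hra hrr hPR
  obtain ⟨b, hbN, hbQ, -, -⟩ :=
    exists_map_normalizerIn hS hra hrr (isConj_trans (isConj_symm hQ.isConj) hPR)
  have hA := (hext hPT rfl (haN.mono (hle P))).mono (le_normalizerIn hPT)
  obtain ⟨B, hB⟩ := (hbN.mono (hle Q)).exists_iso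
  have hBT : B ≤ T := fun y hy => by
    obtain ⟨x, hx, rfl⟩ := hB.surj hy
    exact isMap_mem_of_stronglyClosed hT hB.isMap hx hx.1
  obtain ⟨b', hb', hb'1, -⟩ := hB.exists_symm
  have hRB : R ≤ B := fun y hy => by
    obtain ⟨x, hx, rfl⟩ := hbQ.surj hy
    exact hB.mem (le_normalizerIn hQT hx)
  have hB' : Factors E F R b' := by
    refine (ih _ ?_ B b' rfl hBT hb'.isMap).mono hRB
    rw [hB.card_eq]
    exact hcard hQT hQ.card_eq
  obtain ⟨a', ha', ha'1, -⟩ := haP.exists_symm
  obtain ⟨α, hα, hαv⟩ := exists_mem_autGroup ((ha'.comp hQ).comp hbQ)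
  -- automorphisms of `R`
  have := finite_of_le hR.1
  have := finite_mulAut R
  have hαF : Factors E F R (autFun α) := by
    by_cases hcR : centralizerIn T R ≤ R
    swap
    · obtain ⟨f', hf', hf'v⟩ := (isReceptive_iff.1 hrr).2 R _ ((mem_autGroup_iff hR.1 α).1 hα)
      have hXT : R ⊔ centralizerIn T R ≤ T := sup_le hRT inf_le_left
      have hlt : R < R ⊔ centralizerIn T R :=
        lt_of_le_of_ne le_sup_left fun e => hcR (le_trans le_sup_right e.ge)
      have hXN : R ⊔ centralizerIn T R ≤ nPhi S R (autFun α) :=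
        sup_le (le_nPhi ((mem_autGroup_iff hR.1 α).1 hα).isMap)
          (le_trans (inf_le_inf_right _ hT.1) (centralizerIn_le_nPhi R (autFun α)))
      have := finite_of_le (hXT.trans hT.1)
      have h1 : Nat.card R < Nat.card ↥(R ⊔ centralizerIn T R) :=
        lt_of_le_of_ne (Subgroup.card_le_of_le hlt.le)
          fun e => hlt.ne (Subgroup.eq_of_le_of_card_ge hlt.le e.ge)
      have h2 : Nat.card ↥(R ⊔ centralizerIn T R) ≤ Nat.card T := Subgroup.card_le_of_le hXT
      have h3 := hk0.card_eq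
      exact ((ih _ (by omega) _ f' rfl hXT (hf'.mono hXN)).mono le_sup_left).congr hf'v
    set G := F.autGroup R
    set A : Subgroup G := (autInducedBy T R).subgroupOf G with hAdef
    obtain ⟨-, Syl, hSyl⟩ := hra
    have hAS : A ≤ Syl := by
      rw [hSyl]
      intro x hx
      exact autInducedBy_mono hT.1 R hx
    have hclosed : ∀ g : G, ∀ x ∈ A, g * x * g⁻¹ ∈ (Syl : Subgroup G) → g * x * g⁻¹ ∈ A := by
      intro g x hx hgx
      rw [hSyl] at hgx
      obtain ⟨t, ht, htv⟩ := (mem_autInducedBy_iff T R _).1 hx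
      obtain ⟨s, hs, hsv⟩ := (mem_autInducedBy_iff S R _).1 hgx
      obtain ⟨f', hf', hf'v⟩ := (isReceptive_iff.1 hrr).2 R _ ((mem_autGroup_iff hR.1 _).1 g.2)
      have htn := (mem_normalizerIn_of_induces hR.1 (hT.1 ht) htv).2
      have htN : t ∈ nPhi S R (autFun (g : MulAut R)) := by
        refine ⟨hT.1 ht, htn, s, hs, fun y hy => ?_⟩
        have h1 := hsv ((g : MulAut R) ⟨y, hy⟩)
        have h2 : (⟨t * y * t⁻¹, conj_mem_of_mem_normalizer htn hy⟩ : R) =
            (x : MulAut R) ⟨y, hy⟩ := Subtype.ext (htv ⟨y, hy⟩).symm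
        rw [autFun_apply _ (conj_mem_of_mem_normalizer htn hy), autFun_apply _ hy, h2, ← h1]
        simp
      have hft : f' t ∈ T := isMap_mem_of_stronglyClosed hT hf' htN ht
      refine Subgroup.mem_subgroupOf.2 ((mem_autInducedBy_iff T R _).2 ⟨f' t, hft, fun z => ?_⟩)
      obtain ⟨y, rfl⟩ := (g : MulAut R).surjective z
      show (((g : MulAut R) ((x : MulAut R) ((↑g⁻¹ : MulAut R) ((g : MulAut R) y)))) : Ω) = _
      rw [show (↑g⁻¹ : MulAut R) ((g : MulAut R) y) = y from MulAut.inv_apply_self _ _ _]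
      have hyN : ∀ w : R, (w : Ω) ∈ nPhi S R (autFun (g : MulAut R)) :=
        fun w => le_nPhi ((mem_autGroup_iff hR.1 _).1 g.2).isMap w.2
      rw [← autFun_coe (g : MulAut R) ((x : MulAut R) y), ← autFun_coe (g : MulAut R) y,
        ← hf'v _ (SetLike.coe_mem _), ← hf'v y y.2]
      exact (congrArg f' (htv y)).trans (hf'.map_conj htN (hyN y))
    set K := Subgroup.normalClosure (A : Set G) with hK
    have hKE : ∀ k ∈ K, (k : MulAut R) ∈ E.autGroup R := by
      intro k hk
      induction hk using Subgroup.closure_induction with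
      | mem z hz =>
        obtain ⟨x, hx, hxz⟩ := Group.mem_conjugatesOfSet_iff.1 hz
        obtain ⟨g, rfl⟩ := _root_.isConj_iff.1 hxz
        exact hseed R hRT hR hcR g g.2 x hx
      | one => exact Subgroup.one_mem _
      | mul x y _ _ hx hy => exact Subgroup.mul_mem _ hx hy
      | inv x _ hx => exact Subgroup.inv_mem _ hx
    obtain ⟨m, k, hmn, hkK, hmk⟩ : ∃ m k : G, (∀ x ∈ A, m * x * m⁻¹ ∈ A) ∧ k ∈ K ∧
        (⟨α, hα⟩ : G) = k * m := by
      haveI : K.Normal := Subgroup.normalClosure_normal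
      have hAK : A ≤ K := Subgroup.le_normalClosure
      obtain ⟨SK, hSK⟩ := (Syl.isPGroup'.to_le hAS).of_equiv
        (Subgroup.subgroupOfEquivOfLe hAK).symm |>.exists_le_sylow
      obtain ⟨Q', hQ'⟩ := Sylow.exists_comap_subtype_eq SK
      obtain ⟨c, hc⟩ := MulAction.exists_smul_eq G Syl Q'
      have hmemQ : ∀ x : G, x ∈ Q'.toSubgroup → c⁻¹ * x * c ∈ (Syl : Subgroup G) := fun x hx => by
        rw [← hc, Sylow.coe_subgroup_smul, Subgroup.mem_pointwise_smul_iff_inv_smul_mem] at hx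
        simpa [mul_assoc] using hx
      have hcA : ∀ x ∈ A, c * x * c⁻¹ ∈ A := by
        have hinvA : ∀ x ∈ A, c⁻¹ * x * c ∈ A := fun x hx => by
          have h1 : (⟨x, hAK hx⟩ : K) ∈ (SK : Subgroup K) := hSK (Subgroup.mem_subgroupOf.2 hx)
          rw [← hQ'] at h1
          have h2 := hclosed c⁻¹ x hx (by rw [inv_inv]; exact hmemQ x h1)
          rwa [inv_inv] at h2
        intro x hx
        obtain ⟨⟨y, hy⟩, hye⟩ := (Finite.injective_iff_surjective
          (f := fun z : A => (⟨c⁻¹ * z * c, hinvA z z.2⟩ : A))).1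
          (fun z w e => Subtype.ext (mul_left_cancel (mul_right_cancel (congrArg Subtype.val e))))
          ⟨x, hx⟩
        have hye' : c⁻¹ * y * c = x := congrArg Subtype.val hye
        rwa [← hye', show c * (c⁻¹ * y * c) * c⁻¹ = y by group]
      let Aα : Subgroup G := A.map (MulAut.conj (⟨α, hα⟩ : G)).toMonoidHom
      have hAαK : Aα ≤ K := by
        rintro _ ⟨x, hx, rfl⟩
        exact Subgroup.Normal.conj_mem inferInstance x (hAK hx) _
      obtain ⟨SK', hSK'⟩ := ((Syl.isPGroup'.to_le hAS).map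
        (MulAut.conj (⟨α, hα⟩ : G)).toMonoidHom).of_equiv
        (Subgroup.subgroupOfEquivOfLe hAαK).symm |>.exists_le_sylow
      obtain ⟨l, hl⟩ := MulAction.exists_smul_eq K SK' SK
      refine ⟨(l : G) * ⟨α, hα⟩, (l : G)⁻¹, fun x hx => ?_, K.inv_mem l.2,
        (inv_mul_cancel_left _ _).symm⟩
      set g : G := (l : G) * ⟨α, hα⟩
      have hgK : g * x * g⁻¹ ∈ K := Subgroup.Normal.conj_mem inferInstance x (hAK hx) _
      have h1 : (⟨g * x * g⁻¹, hgK⟩ : K) ∈ (SK : Subgroup K) := by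
        rw [← hl, Sylow.coe_subgroup_smul, Subgroup.mem_pointwise_smul_iff_inv_smul_mem]
        refine hSK' (Subgroup.mem_subgroupOf.2 ⟨x, hx, ?_⟩)
        simp [g, mul_assoc]
      rw [← hQ'] at h1
      have h2 := hclosed (c⁻¹ * g) x hx (by
        rw [show c⁻¹ * g * x * (c⁻¹ * g)⁻¹ = c⁻¹ * (g * x * g⁻¹) * c by group]
        exact hmemQ _ h1)
      have h3 := hcA _ h2
      rwa [show c * (c⁻¹ * g * x * (c⁻¹ * g)⁻¹) * c⁻¹ = g * x * g⁻¹ by group] at h3
    -- the normalizing part extends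
    have hm' := (mem_autGroup_iff hR.1 _).1 m.2
    obtain ⟨f', hf', hf'v⟩ := (isReceptive_iff.1 hrr).2 R _ hm'
    have hNle : normalizerIn T R ≤ nPhi S R (autFun (m : MulAut R)) := fun t ht => by
      have htA : (⟨conjAut R ht.2, autInducedBy_le_autGroup hR.1
          (conjAut_mem_autInducedBy ht.2 (hT.1 ht.1))⟩ : G) ∈ A :=
        Subgroup.mem_subgroupOf.2 (conjAut_mem_autInducedBy ht.2 ht.1)
      obtain ⟨u, hu, huv⟩ := (mem_autInducedBy_iff T R _).1 (Subgroup.mem_subgroupOf.1 (hmn _ htA))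
      refine ⟨hT.1 ht.1, ht.2, u, hT.1 hu, fun y hy => ?_⟩
      have h1 := huv ((m : MulAut R) ⟨y, hy⟩)
      rw [autFun_apply _ (conj_mem_of_mem_normalizer ht.2 hy), autFun_apply _ hy, ← h1]
      simp
      rfl
    have hm : Factors E F R (autFun (m : MulAut R)) :=
      ((hext hRT hk0.card_eq (hf'.mono hNle)).mono (le_normalizerIn hRT)).congr hf'v
    have hk : Factors E F R (autFun (k : MulAut R)) := by
      refine ⟨1, Subgroup.one_mem _, autFun (k : MulAut R),
        ((mem_autGroup_iff hRT _).1 (hKE k hkK)).isMap, fun x hx => ?_⟩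
      rw [autFun_apply (1 : MulAut T) (hRT (autFun_mem _ hx))]
      rfl
    exact (factors_comp' hInv hT.1 hm hk fun x hx => autFun_mem _ hx).congr
      fun x hx => by
        show autFun (k : MulAut R) (autFun (m : MulAut R) x) = _
        rw [autFun_apply (m : MulAut R) hx, autFun_coe, autFun_apply α hx,
          show α = (k : MulAut R) * (m : MulAut R) from congrArg Subtype.val hmk]
        rfl
  refine (factors_comp' hInv hT.1 (factors_comp' hInv hT.1 hA hαF fun x hx => haP.mem hx) hB'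
    fun x hx => autFun_mem α (haP.mem hx)).congr fun x hx => ?_
  show b' (autFun α (a x)) = f x
  rw [autFun_apply α (haP.mem hx), hαv]
  show b' (b (f (a' (a x)))) = f x
  rw [ha'1 x hx, hb'1 _ (le_normalizerIn hQT (hQ.mem hx))]

end CfsgLib.Fusion.SeedCriterion
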