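import Mathlib
import Cfsg.Agent.Lib.Fusion.Tate

/-!
Transfer of involutions in saturated fusion systems: Thompson's lemma.
-/

set_option autoImplicit false

namespace CfsgLib.Fusion

open Cfsg Cfsg.FusionSystem MulAction

theorem eq_ofAdd_one_zmod_two :
    ∀ z : Multiplicative (ZMod 2), z ≠ 1 → z = Multiplicative.ofAdd 1 := by
  decide

theorem ofAdd_one_zmod_two :
    (Multiplicative.ofAdd (1 : ZMod 2)) ^ 2 = 1 ∧ Multiplicative.ofAdd (1 : ZMod 2) ≠ 1 := by
  decide

universe u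

variable {Ω : Type u} [Group Ω] {S : Subgroup Ω} {F : FusionSystem S}

/-- The character with kernel a subgroup of index two. -/
theorem exists_theta {T : Subgroup Ω} (hT : T.relIndex S = 2) :
    ∃ θ : S →* Multiplicative (ZMod 2), ∀ x : S, θ x = 1 ↔ (x : Ω) ∈ T := by
  haveI : Fact (Nat.Prime 2) := ⟨Nat.prime_two⟩
  have hn : (T.subgroupOf S).Normal := Subgroup.normal_of_index_eq_two hT
  have hcard : Nat.card (S ⧸ T.subgroupOf S) = 2 := hT
  have hcard' : Nat.card (Multiplicative (ZMod 2)) = 2 := by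
    rw [Nat.card_eq_of_bijective Multiplicative.toAdd Multiplicative.toAdd.bijective,
      Nat.card_zmod]
  refine ⟨(mulEquivOfPrimeCardEq hcard hcard').toMonoidHom.comp (QuotientGroup.mk' _), fun x => ?_⟩
  rw [MonoidHom.comp_apply, MulEquiv.coe_toMonoidHom, MulEquiv.map_eq_one_iff,
    QuotientGroup.mk'_apply, QuotientGroup.eq_one_iff]
  exact Subgroup.mem_subgroupOf

theorem isConj_zpowers {x : Ω} {f : Ω → Ω} (hf : IsMap F (Subgroup.zpowers x) f) :
    F.IsConj (Subgroup.zpowers x) (Subgroup.zpowers (f x)) := by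
  obtain ⟨φ, hφ, hv⟩ := hf
  refine ⟨φ, hφ, le_antisymm ?_ (Subgroup.zpowers_le.2 ⟨⟨x, Subgroup.mem_zpowers x⟩, hv _⟩)⟩
  rintro _ ⟨⟨_, k, rfl⟩, rfl⟩
  refine ⟨k, ?_⟩
  show f x ^ k = _
  rw [← hv ⟨x, Subgroup.mem_zpowers x⟩, ← map_zpow]
  rfl

theorem centralizes_of_normalizes_involution {w a : Ω} (ha : a ^ 2 = 1) (ha1 : a ≠ 1)
    (hw : w ∈ Subgroup.normalizer ((Subgroup.zpowers a : Subgroup Ω) : Set Ω)) : w * a = a * w := by
  obtain ⟨k, hk⟩ := (Subgroup.mem_normalizer_iff.1 hw a).1 (Subgroup.mem_zpowers _)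
  rcases Int.even_or_odd' k with ⟨m, rfl | rfl⟩
  · exfalso
    simp only [zpow_mul, zpow_ofNat, ha, one_zpow] at hk
    exact ha1 (conj_eq_one_iff.1 hk.symm)
  · simp only [zpow_add, zpow_mul, zpow_ofNat, ha, one_zpow, one_mul, pow_one] at hk
    exact mul_inv_eq_iff_eq_mul.1 hk.symm

variable [Finite S]

/-- An involution all whose fully normalized conjugates lie outside a subgroup of index two is
outside the focal subgroup. -/
theorem notMem_focal_of_involution (hS : IsPGroup 2 S) (hF : F.IsSaturated 2) {T : Subgroup Ω}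
    (hT : T.relIndex S = 2) {i : Ω} (hi : i ∈ S) (hi2 : orderOf i = 2)
    (h : ∀ j : Ω, F.IsConjElt i j → F.IsFullyNormalized (Subgroup.zpowers j) → j ∉ T) :
    i ∉ F.focalSubgroup := by
  classical
  haveI : Fact (Nat.Prime 2) := ⟨Nat.prime_two⟩
  obtain ⟨θ, hθ⟩ := exists_theta hT
  obtain ⟨X, _, _, hfree, hst, hpQ⟩ := exists_biset' hS hF
  have := Fintype.ofFinite (Quotient (rOrb S X))
  let r : Quotient (rOrb S X) → X := fun q => q.out
  have hr : ∀ q, Quotient.mk (rOrb S X) (r q) = q := Quotient.out_eq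
  have hcone : ∀ q, cocyc r (1 : S) q = 1 := fun q => cocyc_eq hfree hr
    (by rw [show ((1, 1) : S × S) = 1 from rfl, one_smul, actQ_one])
  let τ : S →* Multiplicative (ZMod 2) :=
    { toFun := fun u => ∏ q, θ (cocyc r u q)
      map_one' := Finset.prod_eq_one fun q _ => by rw [hcone, map_one]
      map_mul' := fun u v => by
        simp only [cocyc_mul hfree hr, map_mul, Finset.prod_mul_distrib]
        congr 1
        exact Equiv.prod_comp (permQ v) (fun q => θ (cocyc r u q)) }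
  have hker : ∀ (R : Subgroup Ω) (φ : R →* Ω), φ ∈ F.Hom R → ∀ x : R, ∀ (hx : (x : Ω) ∈ S)
      (hy : φ x ∈ S), τ ⟨φ x, hy⟩ = τ ⟨x, hx⟩ := by
    intro R φ hφ x hx hy
    have hR := (F.le_of_mem hφ).1
    let P : Subgroup S := R.subgroupOf S
    have hPR : P.map S.subtype = R := Subgroup.map_subgroupOf_eq_of_le hR
    let ψ : P →* S := MonoidHom.mk'
      (fun y => ⟨φ ⟨(y : S), y.2⟩, (F.le_of_mem hφ).2 _⟩)
      fun a b => Subtype.ext (map_mul φ ⟨((a : S) : Ω), a.2⟩ ⟨((b : S) : Ω), b.2⟩)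
    obtain ⟨e, w, hew⟩ := exists_cocyc_twist hfree hst hr P ψ (f := homFun φ)
      (by rw [hPR]; exact isMap_homFun hφ)
      (fun y => (homFun_apply φ (show ((y : S) : Ω) ∈ R from y.2)).symm)
    show ∏ q, θ (cocyc r ⟨φ x, hy⟩ q) = ∏ q, θ (cocyc r ⟨x, hx⟩ q)
    have hψx : (⟨φ x, hy⟩ : S) = ψ ⟨⟨x, hx⟩, x.2⟩ := rfl
    rw [hψx, ← Equiv.prod_comp e (fun q => θ (cocyc r (ψ ⟨⟨x, hx⟩, x.2⟩) q))]
    simp only [hew, map_mul, map_inv, Finset.prod_mul_distrib, Finset.prod_inv_distrib]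
    rw [show ∏ q, θ (w (actQ (⟨x, hx⟩ : S) q)) = ∏ q, θ (w q) from
      Equiv.prod_comp (permQ (⟨x, hx⟩ : S)) (fun q => θ (w q))]
    rw [mul_comm _ (∏ q, θ (cocyc r (⟨x, hx⟩ : S) q)), inv_mul_cancel_right]
  intro hifoc
  have hτi : τ ⟨i, hi⟩ = 1 := by
    have hfoc : F.focalSubgroup ≤ τ.ker.map S.subtype := by
      refine (Subgroup.closure_le _).2 ?_
      rintro _ ⟨R, φ, x, hφ, rfl⟩
      have hx : (x : Ω) ∈ S := (F.le_of_mem hφ).1 x.2
      have hy : φ x ∈ S := (F.le_of_mem hφ).2 x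
      refine ⟨⟨x, hx⟩⁻¹ * ⟨φ x, hy⟩, ?_, rfl⟩
      rw [SetLike.mem_coe, MonoidHom.mem_ker, map_mul, map_inv, hker R φ hφ x hx hy, inv_mul_cancel]
    obtain ⟨u, hu, e⟩ := hfoc hifoc
    rwa [show (⟨i, hi⟩ : S) = u from Subtype.ext e.symm]
  -- a fully normalized conjugate `g i` of `i`
  obtain ⟨U, hiU, hUn⟩ := exists_isFullyNormalized (F := F) (Subgroup.zpowers_le.2 hi)
  obtain ⟨g, hg⟩ := isConj_iff.1 hiU
  have hU : Subgroup.zpowers (g i) = U := by
    refine SetLike.coe_injective ?_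
    rw [← hg.image_eq]
    ext y
    constructor
    · rintro ⟨k, rfl⟩
      exact ⟨i ^ k, Subgroup.zpow_mem _ (Subgroup.mem_zpowers i) k,
        hg.isMap.map_zpow (Subgroup.mem_zpowers i) k⟩
    · rintro ⟨_, ⟨k, rfl⟩, rfl⟩
      exact ⟨k, (hg.isMap.map_zpow (Subgroup.mem_zpowers i) k).symm⟩
  rw [← hU] at hUn hiU hg
  have hgiS : g i ∈ S := hg.le_right (Subgroup.mem_zpowers _)
  have hi1 : i ≠ 1 := fun e => by rw [e, orderOf_one] at hi2; exact absurd hi2 (by norm_num)
  have hii : i * i = 1 := by rw [← pow_two, ← hi2, pow_orderOf_eq_one]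
  have hgi2 : g i ^ 2 = 1 := by
    rw [pow_two, ← hg.isMap.map_mul (Subgroup.mem_zpowers i) (Subgroup.mem_zpowers i), hii,
      hg.isMap.map_one]
  have hgi1 : g i ≠ 1 := fun e => hi1 (hg.isMap.injOn (Subgroup.mem_zpowers i)
    (Subgroup.one_mem _) (by rw [e, hg.isMap.map_one]))
  let u : S := ⟨g i, hgiS⟩
  have hu2 : u * u = 1 := Subtype.ext ((pow_two _).symm.trans hgi2)
  have hτu : τ u = 1 := by
    obtain ⟨φ, hφ, hv⟩ := hg.isMap
    have hmem : φ ⟨i, Subgroup.mem_zpowers i⟩ ∈ S := by rw [hv]; exact hgiS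
    have h1 := hker _ φ hφ ⟨i, Subgroup.mem_zpowers i⟩ hi hmem
    rw [show (⟨φ ⟨i, Subgroup.mem_zpowers i⟩, hmem⟩ : S) = u from
      Subtype.ext (hv ⟨i, Subgroup.mem_zpowers i⟩), hτi] at h1
    exact h1
  let C : Subgroup S := Subgroup.centralizer {u}
  have hmemC : ∀ v : S, (v : Ω) * g i = g i * v → v ∈ C := fun v hv =>
    Subgroup.mem_centralizer_iff.2 fun x hx => by
      rw [Set.mem_singleton_iff.1 hx]
      exact Subtype.ext hv.symm
  have hCu : u ∈ C := hmemC u rfl
  have hswap : ∀ v ∈ C, v * u = u * v := fun v hv =>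
    (Subgroup.mem_centralizer_iff.1 hv u rfl).symm
  let _ : MulAction S (Quotient (rOrb S X)) :=
    { smul := actQ
      one_smul := actQ_one
      mul_smul := actQ_mul }
  let A : Set (Quotient (rOrb S X)) := {q | u • q = q ∧ θ (cocyc r u q) ≠ 1}
  have hA : ∀ v : C, ∀ q ∈ A, (v : S) • q ∈ A := by
    rintro ⟨v, hv⟩ q ⟨hq, hne⟩
    refine ⟨?_, ?_⟩
    · rw [← mul_smul, ← hswap v hv, mul_smul, hq]
    · have h1 := cocyc_mul hfree hr u v q
      have h2 := cocyc_mul hfree hr v u q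
      rw [hswap v hv, h1, show actQ u q = q from hq] at h2
      have h3 := congrArg θ h2
      rw [map_mul, map_mul, mul_comm (θ (cocyc r v q))] at h3
      show θ (cocyc r u (actQ v q)) ≠ 1
      rwa [mul_right_cancel h3]
  let _ : MulAction C A :=
    { smul := fun v q => ⟨(v : S) • (q : Quotient (rOrb S X)), hA v q q.2⟩
      one_smul := fun q => Subtype.ext (one_smul S (q : Quotient (rOrb S X)))
      mul_smul := fun v w q => Subtype.ext (mul_smul (v : S) (w : S) (q : Quotient (rOrb S X))) }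
  -- points fixed by the whole centralizer
  have hall : ∀ q, (∀ v : C, (v : S) • q = q) → q ∈ A := by
    intro q hq
    refine ⟨hq ⟨u, hCu⟩, fun h1 => ?_⟩
    have hgraph : ∀ v ∈ C, (v, cocyc r v q) ∈ stabilizer (S × S) (r q) := fun v hv => by
      have h2 := cocyc_spec hr v q
      rw [show actQ v q = q from hq ⟨v, hv⟩] at h2
      exact mem_stabilizer_iff.2 h2
    obtain ⟨f, hf, hfv⟩ := hfree (r q)
    have hfs : f (g i) = (cocyc r u q : Ω) := hfv _ (hgraph u hCu)
    have hfm : IsMap F (Subgroup.zpowers (g i)) f :=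
      hf.mono (Subgroup.zpowers_le.2 (mem_srcSub (hgraph u hCu)))
    have hus : F.IsConj (Subgroup.zpowers (g i))
        (Subgroup.zpowers (cocyc r u q : Ω)) := by
      have := isConj_zpowers hfm
      rwa [hfs] at this
    have hjs : F.IsConjElt i (cocyc r u q : Ω) := by
      obtain ⟨φ, hφ, hv⟩ := hg.isMap.comp hfm fun x hx => hg.mem hx
      exact ⟨φ, hφ, (hv _).trans hfs⟩
    refine absurd ((hθ _).1 h1)
      (h _ hjs ⟨Subgroup.zpowers_le.2 (cocyc r u q).2, fun Q hQ => ?_⟩)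
    refine le_trans (hUn.2 Q (isConj_trans hus hQ)) ?_
    -- `C` embeds in the normalizer of the conjugate
    have hN : ∀ w : normalizerIn S (Subgroup.zpowers (g i)), (⟨w, w.2.1⟩ : S) ∈ C := fun w =>
      hmemC _ (centralizes_of_normalizes_involution hgi2 hgi1 w.2.2)
    have hsC : ∀ v ∈ C,
        (cocyc r v q : Ω) ∈ normalizerIn S (Subgroup.zpowers (cocyc r u q : Ω)) := by
      intro v hv
      have hc : cocyc r v q * cocyc r u q = cocyc r u q * cocyc r v q := by
        have h2 := cocyc_mul hfree hr u v q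
        have h3 := cocyc_mul hfree hr v u q
        rw [show actQ v q = q from hq ⟨v, hv⟩] at h2
        rw [show actQ u q = q from hq ⟨u, hCu⟩, hswap v hv, h2] at h3
        exact h3.symm
      refine Subgroup.mem_inf.2 ⟨(cocyc r v q).2, Subgroup.centralizer_le_normalizer _ ?_⟩
      refine Subgroup.mem_centralizer_iff.2 ?_
      rintro _ ⟨k, rfl⟩
      exact ((show Commute (cocyc r v q : Ω) (cocyc r u q : Ω) from
        congrArg Subtype.val hc).zpow_right k).eq.symm
    have := finite_of_le (S := S) (P := normalizerIn S (Subgroup.zpowers (cocyc r u q : Ω))) inf_le_left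
    refine Nat.card_le_card_of_injective (fun w =>
      (⟨_, hsC _ (hN w)⟩ : normalizerIn S (Subgroup.zpowers (cocyc r u q : Ω)))) fun w w' e => ?_
    have h2 : cocyc r ⟨w, w.2.1⟩ q = cocyc r ⟨w', w'.2.1⟩ q := by
      have e' := Subtype.ext_iff.1 e
      exact Subtype.ext e'
    have h3 := (hfree (r q)).eq_one_of_snd
      ((stabilizer (S × S) (r q)).mul_mem ((stabilizer (S × S) (r q)).inv_mem (hgraph _ (hN w)))
        (hgraph _ (hN w'))) (by simp [h2])
    have h4 := congrArg (fun z : S × S => (z.1 : Ω)) h3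
    simp only [Prod.fst_mul, Prod.fst_inv, Subgroup.coe_mul, Subgroup.coe_inv, Prod.fst_one,
      OneMemClass.coe_one] at h4
    exact Subtype.ext (inv_mul_eq_one.1 h4)
  -- parity
  have hodd : ¬ 2 ∣ Nat.card A := by
    intro h2
    have e : fixedPoints C (Quotient (rOrb S X)) ≃ fixedPoints C A :=
      { toFun := fun q => ⟨⟨q.1, hall q.1 fun v => q.2 v⟩, fun v => Subtype.ext (q.2 v)⟩
        invFun := fun q => ⟨q.1.1, fun v => congrArg Subtype.val (q.2 v)⟩
        left_inv := fun _ => rfl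
        right_inv := fun _ => rfl }
    have h3 := (hS.to_subgroup C).card_modEq_card_fixedPoints (Quotient (rOrb S X))
    rw [Nat.card_congr e] at h3
    exact hpQ (Nat.modEq_zero_iff_dvd.1 (h3.trans
      (((hS.to_subgroup C).card_modEq_card_fixedPoints A).symm.trans
        (Nat.modEq_zero_iff_dvd.2 h2))))
  have hprod : τ u = ∏ q ∈ A.toFinset, θ (cocyc r u q) := by
    show ∏ q, θ (cocyc r u q) = _
    rw [← Finset.prod_filter_mul_prod_filter_not Finset.univ (fun q => u • q = q)]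
    rw [show ∏ q ∈ Finset.univ.filter (fun q => ¬ u • q = q), θ (cocyc r u q) = 1 from
      Finset.prod_involution (fun q _ => u • q) (fun q _ => ?_)
        (fun q hq _ => (Finset.mem_filter.1 hq).2) (fun q hq => ?_)
        (fun q _ => by rw [← mul_smul, hu2, one_smul]), mul_one,
      ← Finset.prod_filter_ne_one, Finset.filter_filter]
    · refine Finset.prod_congr ?_ fun _ _ => rfl
      ext q
      simp [A]
    · have h1 := cocyc_mul hfree hr u u q
      rw [hu2, hcone] at h1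
      have h2 := congrArg θ h1
      rw [map_one, map_mul, mul_comm] at h2
      exact h2.symm
    · refine Finset.mem_filter.2 ⟨Finset.mem_univ _, fun e => (Finset.mem_filter.1 hq).2 ?_⟩
      rw [← mul_smul, hu2, one_smul] at e
      exact e.symm
  refine hodd ?_
  rw [hτu] at hprod
  have hval : ∀ q ∈ A.toFinset, θ (cocyc r u q) = Multiplicative.ofAdd (1 : ZMod 2) :=
    fun q hq => eq_ofAdd_one_zmod_two _ (Set.mem_toFinset.1 hq).2
  rw [Finset.prod_congr rfl hval, Finset.prod_const, Set.toFinset_card, eq_comm,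
    ← orderOf_dvd_iff_pow_eq_one,
    orderOf_eq_prime (p := 2) ofAdd_one_zmod_two.1 ofAdd_one_zmod_two.2,
    ← Nat.card_eq_fintype_card] at hprod
  exact hprod

end CfsgLib.Fusion
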