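import Cfsg.Agent.Lib.Fusion.CentralLiftBase
import Cfsg.Agent.Lib.Fusion.ResidualExtension
import Cfsg.Agent.Lib.Fusion.ResidualSeries
import Cfsg.Agent.Lib.Fusion.FactorSaturated
import Cfsg.Agent.Lib.Fusion.Solvable
import Cfsg.Agent.Lib.Fusion.TransportComp

/-!
A quasisimple system is its own least subsystem of index prime to `p`.
-/

set_option autoImplicit false
set_option linter.unusedSectionVars false

namespace CfsgLib.Fusion.Layer

open Cfsg Cfsg.FusionSystem

variable {Ω : Type*} [Group Ω] {S : Subgroup Ω} {C : FusionSystem S} {p : ℕ}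

/-- An exponent which is `1` modulo a power of `p` and kills the part prime to `p`. -/
theorem exists_pPart_exponent [hp : Fact p.Prime] {G : Type*} [Group G] [Finite G] (g : G) (k : ℕ) :
    ∃ m, m ≡ 1 [MOD p ^ k] ∧ ∃ e, (g ^ m) ^ p ^ e = 1 := by
  have hn : orderOf g ≠ 0 := (orderOf_pos g).ne'
  obtain ⟨m, hm1, hm2⟩ := Nat.chineseRemainder
    ((Nat.coprime_ordCompl hp.out hn).pow_left k) 1 0
  refine ⟨m, hm1, (orderOf g).factorization p, ?_⟩
  rw [← pow_mul, ← orderOf_dvd_iff_pow_eq_one]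
  have h2 := Nat.mul_dvd_mul_right (Nat.modEq_zero_iff_dvd.1 hm2) (p ^ (orderOf g).factorization p)
  rwa [mul_comm (orderOf g / p ^ (orderOf g).factorization p),
    Nat.ordProj_mul_ordCompl_eq_self] at h2

variable [Fact p.Prime] [Finite S]

/-- A quasisimple system is contained in its least subsystem of index prime to `p`. -/
theorem le_E0_of_quasisimple (hS : IsPGroup p S) (hq : C.Quasisimple p) :
    C.IsSubsystemOf (PPrime.E0 C p) := by
  obtain ⟨hC, -, hsimple⟩ := hq
  have hZc := isCentral_center C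
  have hZsc := stronglyClosed_of_isCentral hZc
  set Z := C.center
  set θ := QuotientGroup.mk' (Z.subgroupOf S) with hθ
  have hker : ∀ s : S, θ s = 1 ↔ (s : Ω) ∈ Z := fun s => by
    rw [hθ, QuotientGroup.mk'_apply, QuotientGroup.eq_one_iff]; rfl
  have hr : θ.range = ⊤ := MonoidHom.range_eq_top.2 (QuotientGroup.mk'_surjective _)
  obtain ⟨Cb, hCb⟩ := exists_factorSystem (S' := (⊤ : Subgroup (S ⧸ Z.subgroupOf S))) hZsc hker hr
  obtain ⟨hCbs, hne, hmax⟩ := hsimple Cb hCb
  have hT : IsPGroup p (⊤ : Subgroup (S ⧸ Z.subgroupOf S)) :=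
    (hS.to_quotient _).to_subgroup _
  have hEn : (PPrime.E0 Cb p).IsNormalIn Cb p := Residual.isNormalIn_residual hT
    ⟨hCbs, hCbs, ResidualSeries.isInvariantIn_self Cb⟩ (PPrime.isPPrimeResidual_E0 hT hCbs)
  have h : CentralLift.Data C p Z θ Cb (PPrime.E0 Cb p) := ⟨hS, hC, hZc, hCb, hEn⟩
  -- the image of the residual
  set V := PPrime.E0 C p
  obtain ⟨-, hidx, -⟩ := PPrime.isPPrimeResidual_E0 (F := C) hS hC
  have hVC : V.IsSubsystemOf C := PPrime.meet_subsystem
  have hZV : V.StronglyClosed Z := stronglyClosed_iff.2 ⟨hZc.1, fun _ _ hf _ hx hxZ =>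
    isMap_mem_of_stronglyClosed hZsc (isMap_of_subsystem hVC hf) hx hxZ⟩
  obtain ⟨Vb, hVb⟩ := exists_factorSystem (S' := (⊤ : Subgroup (S ⧸ Z.subgroupOf S))) hZV hker hr
  -- automorphisms of `p`-power order lie in the residual
  have hpel : ∀ {P : Subgroup Ω}, P ≤ S → ∀ a ∈ C.autGroup P, ∀ e : ℕ, a ^ p ^ e = 1 →
      a ∈ V.autGroup P := fun {P} hP a ha e he => by
    obtain ⟨j, -, hj⟩ := (Nat.dvd_prime_pow (Fact.out : p.Prime)).1 (orderOf_dvd_of_pow_eq_one he)
    have h1 : a ∈ PPrime.opc C p P := by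
      rw [PPrime.opc_eq]
      exact Subgroup.subset_closure ⟨ha, j, hj⟩
    exact hidx.2 P hP h1
  -- a map inducing the same as a map of the residual lies in it
  have hsame : ∀ {X : Subgroup Ω} {f v : Ω → Ω}, Z ≤ X → IsMap C X f → IsMap V X v →
      (∀ x ∈ X, homExt θ (f x) = homExt θ (v x)) → IsMap V X f := by
    intro X f v hZX hf hv he
    have hvC := isMap_of_subsystem hVC hv
    obtain ⟨Y, hfY⟩ := hf.exists_iso
    have := finite_of_le hfY.le_right
    have hZY : Z ≤ Y := h.Z_le_of_iso hfY hZX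
    have hvY : ∀ x ∈ X, v x ∈ Y := fun x hx => by
      have hd := (h.eq_iff (hf.mem hx) (hvC.mem hx)).1 (he x hx)
      have := Y.mul_mem (hfY.mem hx) (hZY hd)
      rwa [mul_inv_cancel_left] at this
    have hvi : IsIso V X Y v := hv.isIso_of_card_le hvY hfY.card_eq.le
    obtain ⟨r, hr', hr1, -⟩ := hvi.exists_symm
    obtain ⟨k, hk, hkv⟩ := exists_mem_autGroup ((hr'.of_subsystem hVC).comp hfY)
    have hker' : k ∈ CentralLift.kerSub Z Y := CentralLift.mem_kerSub h hfY.le_right hk fun y => by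
      obtain ⟨x, hx, hxy⟩ := hvi.surj y.2
      rw [hkv]
      show homExt θ (f (r y)) = _
      rw [← hxy, hr1 x hx, he x hx]
    obtain ⟨e, he'⟩ := CentralLift.kerSub_pow hS h.ZS hker'
    refine (hvi.isMap.comp ((mem_autGroup_iff hvi.le_right k).1
      (hpel hfY.le_right k hk e he')).isMap fun x hx => hvY x hx).congr fun x hx => ?_
    show autFun k (v x) = f x
    rw [autFun_apply k (hvY x hx), hkv]
    show f (r (v x)) = f x
    rw [hr1 x hx]
  have hclosed : PPrime.Closed Cb p Vb := by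
    refine ⟨fun P' hP' => ?_, fun a ha P' hP' hm => ?_⟩
    · rw [PPrime.opc_eq, Subgroup.closure_le]
      rintro α ⟨hα, k, hk⟩
      set P := preimageAlong θ P' with hPdef
      obtain ⟨β, hβ, hβv⟩ : ∃ β ∈ C.autGroup P, ∀ x : P,
          homExt θ (β x : Ω) = autFun α (homExt θ x) := exists_lift_autGroup hCb hP'.1 hα
      have hP : P ≤ S := preimageAlong_le θ P'
      have := finite_of_le hP
      have := finite_mulAut P
      obtain ⟨m, hm1, e, he⟩ := exists_pPart_exponent (p := p) β k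
      have hV := hpel hP _ ((C.autGroup P).pow_mem hβ m) e he
      refine mem_autGroup_of_isMap ((isMap_factor_iff hVb).2
        ⟨hP'.1, autFun (β ^ m), ((mem_autGroup_iff hP _).1 hV).isMap, fun x hx => ?_⟩) α
        fun y => (autFun_coe α y).symm
      have key : ∀ (i : ℕ), ∀ x ∈ P,
          autFun (α ^ i) (homExt θ x) = homExt θ (autFun (β ^ i) x) := by
        intro i
        induction i with
        | zero =>
          intro x hx
          simp only [pow_zero]
          rw [autFun_apply (1 : MulAut P') ((mem_preimageAlong θ P').1 hx).2,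
            autFun_apply (1 : MulAut P) hx]
          rfl
        | succ i ih =>
          intro x hx
          rw [pow_succ', pow_succ', autFun_mul _ _ ((mem_preimageAlong θ P').1 hx).2,
            autFun_mul _ _ hx, ih x hx, autFun_apply β (autFun_mem _ hx), hβv]
      rw [← key m x hx, Residual.pow_eq_self_of_modEq (g := α) (by rw [hk]; exact hm1)]
    · set P := preimageAlong θ P'
      have hP : P ≤ S := preimageAlong_le θ P'
      have hZP : Z ≤ P := le_preimageAlong hCb P'
      obtain ⟨-, v, hv, hvv⟩ := (isMap_factor_iff hVb).1 hm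
      obtain ⟨-, b, hb, hbv⟩ := (isMap_factor_iff hCb).1 ((mem_autGroup_iff le_rfl a).1 ha).isMap
      have hpre : preimageAlong θ (⊤ : Subgroup (S ⧸ Z.subgroupOf S)) = S :=
        le_antisymm (preimageAlong_le _ _) fun x hx =>
          (mem_preimageAlong θ _).2 ⟨hx, Subgroup.mem_top _⟩
      rw [hpre] at hb hbv
      have hbS : IsIso C S S b := hb.isIso_of_card_le (fun x hx => hb.mem hx) le_rfl
      obtain ⟨bb, hbb, hbbv⟩ := exists_mem_autGroup hbS
      have hbP : IsMap V P (autFun bb) := by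
        refine hsame hZP (((mem_autGroup_iff le_rfl bb).1 hbb).isMap.mono hP) hv fun x hx => ?_
        rw [autFun_apply bb (hP hx), hbbv, ← hbv x (hP hx), hvv x hx]
      have hPc : C.IsCentric P := by
        refine ⟨hP, fun Q hQ c hc => ?_⟩
        obtain ⟨g, hg⟩ := isConj_iff.1 hQ
        obtain ⟨g', hg', -⟩ := h.exists_bar_iso hg
        rw [h.image_preimage hP'.1] at hg'
        have hQS := hg.le_right
        have hc' : homExt θ c ∈ centralizerIn ⊤ (imageAlong θ Q) := by
          refine ⟨Subgroup.mem_top _, mem_centralizer_of_conj_eq fun y hy => ?_⟩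
          obtain ⟨x, hx, rfl⟩ := (mem_imageAlong_iff hQS).1 hy
          rw [← homExt_conj θ hc.1 (hQS hx), conj_eq_self_of_mem_centralizer hc.2 hx]
        have h1 := hP'.2 _ hg'.isConj hc'
        rw [← h.preimage_image hQS (h.Z_le_of_iso hg hZP)]
        exact (mem_preimageAlong θ _).2 ⟨hc.1, h1⟩
      have hbV := PPrime.closed_E0.2 bb hbb P hPc hbP
      refine mem_autGroup_of_isMap ((isMap_factor_iff hVb).2 ⟨le_rfl, autFun bb,
        hpre.symm ▸ ((mem_autGroup_iff le_rfl bb).1 hbV).isMap, fun x hx => ?_⟩) a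
        fun y => (autFun_coe a y).symm
      rw [hpre] at hx
      rw [hbv x hx, autFun_apply bb hx, hbbv]
  have hle : (PPrime.E0 Cb p).IsSubsystemOf Vb := PPrime.meet_le hclosed
  rcases hmax ⊤ _ hEn with h0 | ⟨-, heq⟩
  · exact absurd h0 hne
  intro P φ hφ
  refine (mem_hom_iff φ).2 ?_
  obtain ⟨g, hg, hag, hfix⟩ := (isCentral_iff.1 hZc).2 P _ (isMap_homFun hφ)
  set X := P ⊔ Z
  obtain ⟨f', hf', hf'v⟩ := h.exists_bar hg
  obtain ⟨φ', hφ', hφ'v⟩ := hf'
  rw [← heq] at hφ'
  obtain ⟨-, v, hv, hvv⟩ := (isMap_factor_iff hVb).1 (isMap_of_subsystem hle ⟨φ', hφ', hφ'v⟩)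
  rw [h.preimage_image hg.le le_sup_right] at hv hvv
  exact ((hsame le_sup_right hg hv fun x hx => (hf'v x hx).symm.trans (hvv x hx)).mono
    le_sup_left).congr hag

end CfsgLib.Fusion.Layer
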