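import Cfsg.Agent.Lib.Fusion.MeetSaturated
import Cfsg.Agent.Lib.Fusion.QuasisimpleReduced
import Cfsg.Agent.Lib.Fusion.ComponentTransport

/-!
The normal subsystem generated by the components exists.
-/

set_option autoImplicit false
set_option linter.unusedSectionVars false

namespace CfsgLib.Fusion.Layer

open Cfsg Cfsg.FusionSystem

variable {Ω : Type*} [Group Ω] {S T U : Subgroup Ω} {F : FusionSystem S} {p : ℕ}

/-- The support of a subsystem lies in that of the system. -/
theorem le_of_subsystem {C : FusionSystem T} {E : FusionSystem U} (h : C.IsSubsystemOf E) :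
    T ≤ U := fun _ hx => (isMap_of_subsystem h (isMap_id (F := C) le_rfl)).le hx

variable [hp : Fact p.Prime] [Finite S]

/-- A weakly normal subsystem is weakly normal in the invariant subsystems containing it. -/
theorem isWeaklyNormalIn_of_subsystem (hS : IsPGroup p S) {W : FusionSystem T}
    {D : FusionSystem U} (hW : W.IsWeaklyNormalIn F p) (hD : D.IsWeaklyNormalIn F p)
    (hWD : W.IsSubsystemOf D) : W.IsWeaklyNormalIn D p := by
  have hsub := hD.2.2.1
  have hU := hD.2.2.2.1.1
  have := finite_of_le hU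
  have hT : D.StronglyClosed T := stronglyClosed_iff.2 ⟨le_of_subsystem hWD, fun P f hf x hx hxT =>
    isMap_mem_of_stronglyClosed hW.2.2.2.1 (isMap_of_subsystem hsub hf) hx hxT⟩
  refine ⟨hW.1, hD.1, (isInvariantIn_iff_strongInvariant (hS.to_le hU) hD.1 hWD hT).2 ?_⟩
  intro P Q f g hPQ hQT hf hfQ hg
  exact strongInvariant_of_invariant hW.2.2 P Q f g hPQ hQT hf hfQ (isMap_of_subsystem hsub hg)

/-- The least subsystem of index prime to `p` is its own. -/
theorem E0_le_E0 (hS : IsPGroup p S) (hF : F.IsSaturated p) :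
    (PPrime.E0 F p).IsSubsystemOf (PPrime.E0 (PPrime.E0 F p) p) := by
  have hres := PPrime.isPPrimeResidual_E0 hS hF
  have h2 := PPrime.isPPrimeResidual_E0 hS hres.1
  refine hres.2.2 _ h2.1 ⟨fun P => (h2.2.1.1 P).trans (hres.2.1.1 P), fun P hP => ?_⟩
  rintro _ ⟨a, ha, rfl⟩
  induction ha using Subgroup.closure_induction with
  | mem a ha =>
    obtain ⟨k, hk⟩ := ha
    have haD : (a : MulAut P) ∈ (PPrime.E0 F p).autGroup P :=
      hres.2.1.2 P hP ⟨a, Subgroup.subset_closure ⟨k, hk⟩, rfl⟩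
    refine h2.2.1.2 P hP ⟨⟨a, haD⟩, Subgroup.subset_closure ⟨k, ?_⟩, rfl⟩
    rw [← Subgroup.orderOf_coe] at hk ⊢
    exact hk
  | one => exact Subgroup.one_mem _
  | mul a b _ _ iha ihb => exact Subgroup.mul_mem _ iha ihb
  | inv a _ iha => exact Subgroup.inv_mem _ iha

omit [Finite S] in
theorem E0_le_same {G : FusionSystem U} (hUf : Finite U) (hU : IsPGroup p U) {T' : Subgroup Ω}
    (he : T' = U) (hG : G.IsSaturated p) {D : FusionSystem T'} (hD : D.IsWeaklyNormalIn G p) :
    (PPrime.E0 G p).IsSubsystemOf D := by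
  subst he
  exact Residual.E0_le_of_weaklyNormal hU ⟨hG, hG, ResidualSeries.isInvariantIn_self G⟩ hD

omit [Finite S] in
/-- The residual of a subnormal subsystem lies in every weakly normal subsystem over a support
containing that of the subnormal one. -/
theorem E0_le_of_subnormal {X U : Subgroup Ω} {C : FusionSystem X} {G : FusionSystem U}
    (h : C.IsSubnormalIn G p) : Finite U → IsPGroup p U → G.IsSaturated p →
      ∀ (TD : Subgroup Ω) (D : FusionSystem TD), D.IsWeaklyNormalIn G p → X ≤ TD →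
        (PPrime.E0 C p).IsSubsystemOf D := by
  revert hp
  induction h with
  | refl G p =>
    intro _ hfin hU hG TD D hD hle
    exact E0_le_same hfin hU (le_antisymm hD.2.2.2.1.1 hle) hG hD
  | step hsub hn ih =>
    intro _ hfin hU hG TD D hD hle
    obtain ⟨W, hW, hWD, hWn⟩ := Meet.exists_meet hU hG hD hn
    have hUn := hn.1.2.2.2.1.1
    have h1 := ih (finite_of_le hUn) (hU.to_le hUn) hn.1.1 _ W
      (isWeaklyNormalIn_of_subsystem hU hW hn.1 hWn) (le_inf hle (le_of_isSubnormalIn hsub))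
    exact fun P => (h1 P).trans (hWD P)

/-- The layer exists; it is its own least subsystem of index prime to `p`. -/
theorem exists_layer (hS : IsPGroup p S) (hF : F.IsSaturated p) :
    ∃ (T : Subgroup Ω) (E : FusionSystem T), E.IsLayerOf F p ∧
      E.IsSubsystemOf (PPrime.E0 E p) ∧
      ∀ (R : Subgroup Ω) (D : FusionSystem R), D.IsNormalIn F p →
        (∀ (U : Subgroup Ω) (C : FusionSystem U), C.IsComponentIn F p → U ≤ R) →
          T ≤ R ∧ E.IsSubsystemOf D := by
  set 𝒯 := {T : Subgroup Ω | ∃ D : FusionSystem T, D.IsNormalIn F p ∧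
    ∀ (U : Subgroup Ω) (C : FusionSystem U), C.IsComponentIn F p → U ≤ T}
  have hFn : (PPrime.E0 F p).IsNormalIn F p := Residual.isNormalIn_residual hS
    ⟨hF, hF, ResidualSeries.isInvariantIn_self F⟩ (PPrime.isPPrimeResidual_E0 hS hF)
  obtain ⟨T, ⟨D, hD, hDc⟩, hmin⟩ := Set.exists_min_image 𝒯 (fun T => Nat.card T)
    (finite_subgroups_le _ fun T ⟨D, hD, _⟩ => hD.1.2.2.2.1.1)
    ⟨S, _, hFn, fun U C hC => le_of_isSubnormalIn hC.1⟩
  have hTS := hD.1.2.2.2.1.1
  have := finite_of_le hTS
  have hTp : IsPGroup p T := hS.to_le hTS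
  have hres := PPrime.isPPrimeResidual_E0 hTp hD.1.1
  set E := PPrime.E0 D p
  have hE : E.IsNormalIn F p := Residual.isNormalIn_residual hS hD.1 hres
  have hEE : E.IsSubsystemOf (PPrime.E0 E p) := E0_le_E0 hTp hD.1.1
  have hEsub : E.IsSubnormalIn F p := .step (.refl E p) hE
  have hleast : ∀ (R : Subgroup Ω) (D' : FusionSystem R), D'.IsNormalIn F p →
      (∀ (U : Subgroup Ω) (C : FusionSystem U), C.IsComponentIn F p → U ≤ R) →
        T ≤ R ∧ E.IsSubsystemOf D' := by
    intro R D' hD' hc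
    obtain ⟨W, hW, -, -⟩ := Meet.exists_meet hS hF hE.1 hD'
    have hWp : IsPGroup p ↥(T ⊓ R) := hTp.to_le inf_le_left
    have : Finite ↥(T ⊓ R) := finite_of_le (S := T) inf_le_left
    have hWn := Residual.isNormalIn_residual hS hW (PPrime.isPPrimeResidual_E0 hWp hW.1)
    have hcard : Nat.card T ≤ Nat.card ↥(T ⊓ R) :=
      hmin _ ⟨_, hWn, fun U C hC => le_inf (hDc U C hC) (hc U C hC)⟩
    have hTR : T ≤ R := (Subgroup.eq_of_le_of_card_ge inf_le_left hcard).ge.trans inf_le_right
    exact ⟨hTR, fun P => (hEE P).trans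
      (E0_le_of_subnormal hEsub inferInstance hS hF R D' hD'.1 hTR P)⟩
  refine ⟨T, E, ⟨hE, fun U C hC => ?_, fun R D' hD' hc => (hleast R D' hD'
    fun U C hC => le_of_subsystem (hc U C hC)).2⟩, hEE, hleast⟩
  have hUS := le_of_isSubnormalIn hC.1
  have := finite_of_le hUS
  exact fun P => (le_E0_of_quasisimple (hS.to_le hUS) hC.2 P).trans
    (E0_le_of_subnormal hC.1 inferInstance hS hF T E hE.1 (hDc U C hC) P)

end CfsgLib.Fusion.Layer
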