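import Cfsg.Agent.Lib.Fusion.LayerBalanceBase

/-!
Layer balance: the layer of the normalizer of a fully normalised subgroup lies in the layer.
-/

set_option autoImplicit false
set_option linter.unusedSectionVars false

namespace CfsgLib.Fusion.LayerBalance

open Cfsg Cfsg.FusionSystem
open CfsgLib.Fusion.NormalCentralizer

variable {Ω : Type*} [Group Ω] {S T : Subgroup Ω} {F : FusionSystem S} {E : FusionSystem T}
variable {p : ℕ} [Fact p.Prime] [Finite S]

/-- Conjugation of a normalizer system. -/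
theorem transport_normalizer {X X₂ : Subgroup Ω} {N : FusionSystem (normalizerIn S X)}
    {N₂ : FusionSystem (normalizerIn S X₂)} (hN : F.IsNormalizerSystem X N)
    (hN₂ : F.IsNormalizerSystem X₂ N₂) {j k : Ω → Ω}
    (hj : IsIso F (normalizerIn S X) (normalizerIn S X₂) j)
    (hk : IsIso F (normalizerIn S X₂) (normalizerIn S X) k)
    (hkj : ∀ x ∈ normalizerIn S X, k (j x) = x) (hjk : ∀ y ∈ normalizerIn S X₂, j (k y) = y)
    (hjX : IsIso F X X₂ j) (hkX : IsIso F X₂ X k) : Transport N N₂ j k := by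
  have key : ∀ {X X₂ : Subgroup Ω} {N : FusionSystem (normalizerIn S X)}
      {N₂ : FusionSystem (normalizerIn S X₂)}, F.IsNormalizerSystem X N →
      F.IsNormalizerSystem X₂ N₂ → ∀ {j k : Ω → Ω},
      IsIso F (normalizerIn S X) (normalizerIn S X₂) j →
      IsIso F (normalizerIn S X₂) (normalizerIn S X) k →
      (∀ x ∈ normalizerIn S X, k (j x) = x) → IsIso F X X₂ j → IsIso F X₂ X k →
      ∀ (P : Subgroup Ω) (f : Ω → Ω) (P' : Subgroup Ω), IsMap N P f →
        (P' : Set Ω) = j '' P → IsMap N₂ P' (fun y => j (f (k y))) := by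
    intro X X₂ N N₂ hN hN₂ j k hj hk hkj hjX hkX P f P' hf hP'
    obtain ⟨hP, hv, g, hg, hgv, hgX⟩ := (isMap_normalizerSystem_iff hN).1 hf
    have hP'2 : P' ≤ normalizerIn S X₂ := fun y hy => by
      have hy' : y ∈ (P' : Set Ω) := hy
      rw [hP'] at hy'
      obtain ⟨x, hx, rfl⟩ := hy'
      exact hj.mem (hP hx)
    have hkP : ∀ y ∈ P', k y ∈ P := fun y hy => by
      have hy' : y ∈ (P' : Set Ω) := hy
      rw [hP'] at hy'
      obtain ⟨x, hx, rfl⟩ := hy'
      rwa [hkj x (hP hx)]
    have hXle : X ≤ normalizerIn S X := le_normalizerIn hjX.le_left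
    have hX₂le : X₂ ≤ normalizerIn S X₂ := le_normalizerIn hkX.le_left
    have hkm := hk.isMap.mono (sup_le hP'2 hX₂le)
    have hkd : ∀ y ∈ P' ⊔ X₂, k y ∈ P ⊔ X := mem_of_mem_sup hkm le_sup_left le_sup_right
      (fun y hy => Subgroup.mem_sup_left (hkP y hy))
      fun y hy => Subgroup.mem_sup_right (hkX.mem hy)
    have hgd : ∀ z ∈ P ⊔ X, g z ∈ normalizerIn S X := mem_of_mem_sup hg le_sup_left le_sup_right
      (fun z hz => by rw [hgv z hz]; exact hv z hz)
      fun z hz => hXle (hgX.le ⟨z, hz, rfl⟩)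
    refine (isMap_normalizerSystem_iff hN₂).2 ⟨hP'2, fun y hy => hj.mem (hv _ (hkP y hy)),
      fun y => j (g (k y)), (hkm.comp hg hkd).comp hj.isMap fun y hy => hgd _ (hkd y hy),
      fun y hy => by show j (g (k y)) = _; rw [hgv _ (hkP y hy)], Set.Subset.antisymm ?_ ?_⟩
    · rintro _ ⟨y, hy, rfl⟩
      exact hjX.mem (hgX.le ⟨_, hkX.mem hy, rfl⟩)
    · intro y hy
      obtain ⟨x, hx, rfl⟩ := hjX.surj hy
      obtain ⟨w, hw, rfl⟩ := hgX.ge hx
      obtain ⟨z, hz, rfl⟩ := hkX.surj hw
      exact ⟨z, hz, rfl⟩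
  exact
    { j_mem := fun x hx => hj.mem hx
      k_mem := fun y hy => hk.mem hy
      kj := hkj
      jk := hjk
      j_mul := fun x hx y hy => hj.isMap.map_mul hx hy
      map := key hN hN₂ hj hk hkj hjX hkX
      mapBack := key hN₂ hN hk hj hjk hkX hjX }

variable (hS : IsPGroup p S) (hF : F.IsSaturated p)
include hS hF

/-- A system whose components all lie inside a subgroup centralised by them has none. -/
theorem isConstrained_of_supports {Z : Subgroup Ω}
    (hc : ∀ (Y : Subgroup Ω) (C : FusionSystem Y), C.IsComponentIn F p →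
      Y ≤ Z ∧ Y ≤ Subgroup.centralizer (Z : Set Ω)) : F.IsConstrained p := by
  by_contra hn
  obtain ⟨Y, C, hC⟩ := ComponentExists.exists_component hS hF hn
  obtain ⟨h1, h2⟩ := hc Y C hC
  exact false_of_central hS (le_of_isSubnormalIn hC.1) hC.2 h1 h2

variable (hE : E.IsNormalIn F p)
  (hcomp : ∀ (Y : Subgroup Ω) (C : FusionSystem Y), C.IsComponentIn F p → Y ≤ T)
include hE hcomp

/-- Above the support there are no components. -/
theorem false_of_le {X : Subgroup Ω} (hX : F.IsFullyNormalized X)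
    {N : FusionSystem (normalizerIn S X)} (hN : F.IsNormalizerSystem X N) (hTX : T ≤ X)
    {Y : Subgroup Ω} {C : FusionSystem Y} (hC : C.IsComponentIn N p) : False := by
  have hTS := hE.1.2.2.2.1.1
  set Z := centE E F p hTS
  have hZS : Z ≤ S := (centE_le hTS).trans inf_le_left
  have := finite_of_le hZS
  have hZp : IsPGroup p Z := hS.to_le hZS
  obtain ⟨D, hD, -⟩ := exists_centralizer_system hS hF hE
  have hDc : D.IsConstrained p := by
    by_contra hn
    obtain ⟨Y', C', hC'⟩ := ComponentExists.exists_component hZp hD.1.1 hn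
    have hY'Z := le_of_isSubnormalIn hC'.1
    refine false_of_central hS (hY'Z.trans hZS) hC'.2
      (hcomp Y' C' ⟨.step hC'.1 hD, hC'.2⟩) fun y hy => (centE_le hTS (hY'Z hy)).2
  obtain ⟨hY, hfix⟩ := fixes_normalizer hS hF hX hN
    (isNormal_core F) hC
  have hYS : Y ≤ S := fun y hy => (hY hy).1.1
  have := finite_of_le hYS
  have hTR : T ≤ X ⊔ F.core ⊓ normalizerIn S X := hTX.trans le_sup_left
  have hYT : Y ≤ centralizerIn S T := fun y hy =>
    ⟨hYS hy, Subgroup.centralizer_le hTR (hY hy).2⟩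
  have hYZ : Y ≤ Z := by
    suffices h : C.hyperfocalSubgroup p ≤ Z by rwa [hC.2.2.1] at h
    refine hyperfocal_le_of_coprime fun P α hP hα _ x => ?_
    have hαm := ((mem_autGroup_iff hP α).1 hα).isMap
    obtain ⟨g, hg, hgv, hgR⟩ := hfix P _ hαm
    have hc : IsMap (centralizerSystem F T hTS) P (autFun α) :=
      (isMap_centralizerSystem_iff (fun _ => rfl)).2 ⟨hP.trans hYT,
        fun y hy => hYT (hP (autFun_mem α hy)), g, hg.mono (sup_le_sup le_rfl hTR), hgv,
        fun t ht => hgR t (hTR ht)⟩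
    obtain ⟨φ, hφ, hφv⟩ := hc
    refine focal_le_centE hS hF hE _ (fun _ => rfl)
      (Subgroup.subset_closure ⟨P, φ, x, hφ, ?_⟩)
    rw [hφv x, autFun_coe]
  obtain ⟨-, Q, hQn, hQc⟩ := hDc
  have hQF : Q ≤ F.core :=
    (ComponentExists.le_core hQn).trans (ComponentExists.core_le_core hS hD.1)
  have hYC := le_centralizerIn_of_normal hS hF hX hN (isNormal_core F) hC
  have hYQ : Y ≤ Subgroup.centralizer (Q : Set Ω) :=
    fun y hy => Subgroup.centralizer_le hQF (hYC hy).2
  exact false_of_central hS hYS hC.2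
    (fun y hy => hQc.2 Q (isConj_refl hQn.1) ⟨hYZ hy, hYQ hy⟩) hYQ

set_option maxHeartbeats 1000000 in
/-- The components of normalizers lie over `T`. -/
theorem support_le : ∀ {X : Subgroup Ω}, F.IsFullyNormalized X →
    ∀ {N : FusionSystem (normalizerIn S X)}, F.IsNormalizerSystem X N →
      ∀ {Y : Subgroup Ω} {C : FusionSystem Y}, C.IsComponentIn N p → Y ≤ T := by
  have h : Supplement.Data F p E := ⟨hS, hF, hE⟩
  suffices H : ∀ (n : ℕ) (X : Subgroup Ω), Nat.card S - Nat.card X = n → F.IsFullyNormalized X →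
      ∀ {N : FusionSystem (normalizerIn S X)}, F.IsNormalizerSystem X N →
        ∀ {Y : Subgroup Ω} {C : FusionSystem Y}, C.IsComponentIn N p → Y ≤ T from
    fun {X} hX => H _ X rfl hX
  intro n
  induction n using Nat.strong_induction_on with
  | _ n ih =>
  -- the case of a pair of fully normalised subgroups
  have hpair : ∀ X : Subgroup Ω, Nat.card S - Nat.card X = n → F.IsFullyNormalized X →
      F.IsFullyNormalized (normalizerIn (T ⊔ X) X) →
      ∀ {N : FusionSystem (normalizerIn S X)}, F.IsNormalizerSystem X N →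
        ∀ {Y : Subgroup Ω} {C : FusionSystem Y}, C.IsComponentIn N p → Y ≤ T := by
    intro X hn hX hX' N hN Y C hC
    by_cases hTX : T ≤ X
    · exact (false_of_le hS hF hE hcomp hX hN hTX hC).elim
    set R := T ⊔ X with hR
    set X' := normalizerIn R X with hX'def
    have hRS : R ≤ S := sup_le h.TS hX.1
    have := finite_of_le hRS
    have hX'R : X' ≤ R := inf_le_left
    have hXX' : X ≤ X' := le_normalizerIn le_sup_right
    have hX'N : X' ≤ normalizerIn S X := inf_le_inf_right _ hRS
    have hcard : Nat.card X < Nat.card X' := SatExtend.card_lt_card (S := R) hX'R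
      (lt_normalizerIn (hS.to_le hRS) le_sup_right fun e => hTX (le_sup_left.trans e.ge))
    have hNS : normalizerIn S X ≤ S := inf_le_left
    have := finite_of_le hNS
    have hNp := hS.to_le hNS
    have hNsat := isSaturated_normalizerSystem hS hF hX hN
    -- the normaliser of the larger subgroup is constrained
    set F' := normalizerSystem F X' hX'.1
    have hF' : F.IsNormalizerSystem X' F' := fun _ => rfl
    have hS'S : normalizerIn S X' ≤ S := inf_le_left
    have := finite_of_le hS'S
    have hS'p := hS.to_le hS'S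
    have hF's := isSaturated_normalizerSystem hS hF hX' hF'
    have hF'c : F'.IsConstrained p := by
      refine isConstrained_of_supports (Z := X') hS'p hF's fun Y' C' hC' => ?_
      obtain ⟨h1, -⟩ := fixes_normalizer hS hF hX' hF' (isNormal_core F) hC'
      have hcen : Y' ≤ Subgroup.centralizer (X' : Set Ω) := fun y hy =>
        Subgroup.centralizer_le (le_sup_left : X' ≤ X' ⊔ F.core ⊓ normalizerIn S X') (h1 hy).2
      have hYT : Y' ≤ T := ih _ (by
        have := Subgroup.card_le_of_le hX'.1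
        omega) X' rfl hX' hF' hC'
      refine ⟨fun y hy => ⟨Subgroup.mem_sup_left (hYT hy), ?_⟩, hcen⟩
      exact Subgroup.centralizer_le_normalizer (X : Set Ω)
        (Subgroup.centralizer_le hXX' (hcen hy))
    -- the weakly normal subsystem over `X'`
    obtain ⟨W, hW, hWsys⟩ := exists_weaklyNormal h hX hN
    have hX'fin := finite_of_le hX'N
    have hX'p : IsPGroup p X' := hNp.to_le hX'N
    have hW0 := Residual.isNormalIn_residual hNp hW (PPrime.isPPrimeResidual_E0 hX'p hW.1)
    obtain ⟨TL, L, hL⟩ := CompStructure.exists_least hNp hNsat hC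
    have hYN := le_of_isSubnormalIn hC.1
    have hYS := hYN.trans hNS
    have := finite_of_le hYS
    rcases CompStructure.le_or_le_centE hNp hNsat
      (CompStructure.normalInLeast _ _ inferInstance rfl hNp N hNsat) hC hL hW0 with hle | hcen
    · -- the component lies in the product
      have hCs : C.IsSubsystemOf (h.setting hX.1).sys := fun P φ hφ => hWsys P
        ((Layer.E0_le_of_subnormal hC.1 inferInstance hNp hNsat _ W hW hle) P
          (Layer.le_E0_of_quasisimple (hS.to_le hYS) hC.2 P hφ))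
      rw [← hC.2.2.1]
      exact (PowerIndex.hyperfocal_mono hCs).trans (h.setting hX.1).hyperfocal_le
    -- the component lies in a normaliser in `F'`
    exfalso
    have hN' : normalizerIn S X ≤ normalizerIn S X' := fun s hs => ⟨hs.1,
      mem_normalizer_of_conj_mem (hX'N.trans hNS) fun z hz => ⟨by
        have hm := isMap_conj (F := F) hRS hs.1
        exact mem_of_mem_sup hm le_sup_left le_sup_right
          (fun t ht => Subgroup.mem_sup_left (h.normT hs.1 ht))
          (fun x hx => Subgroup.mem_sup_right (conj_mem_of_mem_normalizer hs.2 hx)) z hz.1,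
        Subgroup.mul_mem _ (Subgroup.mul_mem _ hs.2 hz.2) (Subgroup.inv_mem _ hs.2)⟩⟩
    have he := normalizerIn_nested hN'
    have hF'sub : F'.IsSubsystemOf F := fun P φ hφ => hφ.1
    have hXS' : X ≤ normalizerIn S X' := (le_normalizerIn hX.1).trans hN'
    have hXfn : F'.IsFullyNormalized X := ⟨hXS', fun Q hQ => by
      rw [he]
      have := finite_of_le (S := S) (P := normalizerIn S Q) inf_le_left
      have hconj : F.IsConj X Q := isConj_of_subsystem hF'sub hQ
      have hle : normalizerIn (normalizerIn S X') Q ≤ normalizerIn S Q := inf_le_inf_right _ hS'S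
      exact (Subgroup.card_le_of_le hle).trans (hX.2 Q hconj)⟩
    let M := normalizerSystem F' X hXS'
    have hM : F'.IsNormalizerSystem X M := fun _ => rfl
    have hMs := isSaturated_normalizerSystem hS'p hF's hXfn hM
    have hMN : M.IsSubsystemOf N := fun P φ hφ => by
      obtain ⟨hP, hv, g, hg, hgv, hgX⟩ := (isMap_normalizerSystem_iff hM).1 (isMap_homFun hφ)
      exact (mem_hom_iff φ).2 ((isMap_normalizerSystem_iff hN).2 ⟨hP.trans he.le,
        fun x hx => he.le (hv x hx), g, isMap_of_subsystem hF'sub hg, hgv, hgX⟩)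
    have hX'sc : N.StronglyClosed X' := hW.2.2.2.1
    -- maps of `N` keeping `X'` lie in `M`
    have hinM : ∀ (P : Subgroup Ω) (f g : Ω → Ω), IsMap N P f → IsMap N (P ⊔ X') g →
        (∀ x ∈ P, g x = f x) → IsMap M P f := by
      intro P f g hf hg hgv
      obtain ⟨hP, hg1, g', hg', hg'v, hg'X⟩ := (isMap_normalizerSystem_iff hN).1 hg
      have hgX' : g' '' (X' : Set Ω) = X' := by
        refine Eq.trans (Set.image_congr fun x hx => hg'v x (Subgroup.mem_sup_right hx)) ?_
        exact ((hg.mono le_sup_right).isIso_of_card_le (fun x hx =>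
          isMap_mem_of_stronglyClosed hX'sc hg (Subgroup.mem_sup_right hx) hx) le_rfl).image_eq
      have hdom : P ⊔ X ⊔ X' ≤ P ⊔ X' :=
        sup_le (sup_le le_sup_left (hXX'.trans le_sup_right)) le_sup_right
      have hF'g : IsMap F' (P ⊔ X) g' := (isMap_normalizerSystem_iff hF').2
        ⟨(sup_le (le_sup_left.trans hP) (le_normalizerIn hX.1)).trans hN', fun x hx => by
          rw [hg'v x (hdom (Subgroup.mem_sup_left hx))]
          exact hN' (hg.mem (hdom (Subgroup.mem_sup_left hx))), g',
          hg'.mono (hdom.trans le_sup_left), fun _ _ => rfl, hgX'⟩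
      exact (isMap_normalizerSystem_iff hM).2 ⟨fun x hx => he.ge (hf.le hx),
        fun x hx => he.ge (hf.mem hx), g', hF'g, fun x hx =>
          (hg'v x (Subgroup.mem_sup_left hx)).trans (hgv x hx), hg'X⟩
    have hLT := hL.normal.1.2.2.2.1.1
    have hLM : L.IsSubsystemOf M := fun P φ hφ => by
      obtain ⟨hφN, -, -, ψ, hψ, hag, -⟩ := centralizes_centE hNp hNsat hL.normal P hφ
      refine (mem_hom_iff φ).2 (hinM P _ (homFun ψ) (isMap_homFun hφN)
        ((isMap_homFun hψ).mono (sup_le_sup le_rfl hcen)) fun x hx => ?_)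
      rw [homFun_apply ψ (Subgroup.mem_sup_left hx), homFun_apply φ hx]
      exact hag ⟨x, hx⟩
    have hLn : L.IsNormalIn M p := isNormalIn_restrict he hNp hMs hMN hLM hL.normal fun β hβ => by
      have hdom := sup_centralizerIn_le (S := normalizerIn S X) hLT
      have hβm := ((mem_autGroup_iff hdom β).1 hβ).isMap
      have hX'd : X' ≤ TL ⊔ centralizerIn (normalizerIn S X) TL :=
        (hcen.trans (centE_le hLT)).trans le_sup_right
      exact hinM _ _ _ hβm (hβm.mono (sup_le le_rfl hX'd)) fun _ _ => rfl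
    have hCM : C.IsComponentIn M p :=
      have : Finite ↥(normalizerIn (normalizerIn S X') X) := finite_of_le (inf_le_left.trans hS'S)
      ⟨.step (CompStructure.component_of_normal hNp hC hL.normal hL.le).1 hLn, hC.2⟩
    obtain ⟨-, Q, hQn, hQc⟩ := hF'c
    have hYQ := le_centralizerIn_of_normal hS'p hF's hXfn hM hQn hCM
    exact false_of_central hS hYS hC.2 (fun y hy => hQc.2 Q (isConj_refl hQn.1) (hYQ hy))
      fun y hy => (hYQ hy).2
  intro X hn hX N hN Y C hC
  by_cases hTX : T ≤ X
  · exact (false_of_le hS hF hE hcomp hX hN hTX hC).elim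
  set R := T ⊔ X with hR
  set X' := normalizerIn R X with hX'def
  have hRS : R ≤ S := sup_le h.TS hX.1
  have hX'S : X' ≤ S := inf_le_left.trans hRS
  obtain ⟨X₁, hc, hX₁⟩ := exists_isFullyNormalized (F := F) hX'S
  obtain ⟨f, hf, hfi, -, -⟩ := exists_map_normalizerIn hS
    (isFullyAutomized_of_isFullyNormalized hS hF hX₁)
    (isReceptive_of_isFullyNormalized hS hF hX₁) hc
  have hN' : normalizerIn S X ≤ normalizerIn S X' := fun s hs => ⟨hs.1,
    mem_normalizer_of_conj_mem hX'S fun z hz => ⟨by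
      have hm := isMap_conj (F := F) hRS hs.1
      exact mem_of_mem_sup hm le_sup_left le_sup_right
        (fun t ht => Subgroup.mem_sup_left (h.normT hs.1 ht))
        (fun x hx => Subgroup.mem_sup_right (conj_mem_of_mem_normalizer hs.2 hx)) z hz.1,
      Subgroup.mul_mem _ (Subgroup.mul_mem _ hs.2 hz.2) (Subgroup.inv_mem _ hs.2)⟩⟩
  have hXle := le_normalizerIn hX.1
  obtain ⟨X₂, hX₂⟩ := (hf.mono (hXle.trans hN')).exists_iso
  have hfN := hf.mono hN'
  have hX₂S := hX₂.le_right
  have := finite_of_le (S := S) (P := normalizerIn S X₂) inf_le_left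
  have hm : ∀ s ∈ normalizerIn S X, f s ∈ normalizerIn S X₂ := fun s hs =>
    hfN.mem_normalizerIn hXle hX₂ hs hs.2
  have hX₂fn : F.IsFullyNormalized X₂ :=
    ⟨hX₂S, fun Q hQ => (hX.2 Q (isConj_trans hX₂.isConj hQ)).trans (hfN.card_le hm)⟩
  have hj := hfN.isIso_of_card_le hm (hX.2 X₂ hX₂.isConj)
  obtain ⟨k, hk, hkj, hjk⟩ := hj.exists_symm
  have hkX : IsIso F X₂ X k := ⟨hk.isMap.mono (le_normalizerIn hX₂S), by
    rw [← hX₂.image_eq, Set.image_image]
    exact (Set.image_congr fun x hx => hkj x (hXle hx)).trans (Set.image_id' _)⟩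
  set N₂ := normalizerSystem F X₂ hX₂S
  have hN₂ : F.IsNormalizerSystem X₂ N₂ := fun _ => rfl
  have ht := transport_normalizer hN hN₂ hj hk hkj hjk hX₂ hkX
  have := finite_of_le (S := S) (P := normalizerIn S X) inf_le_left
  obtain ⟨Y₂, C₂, hC₂, hCt⟩ := exists_component_transport ht (hS.to_le inf_le_left) hC
  have hcard : Nat.card S - Nat.card X₂ = n := by rw [hX₂.card_eq]; exact hn
  -- the image of `X'`
  have himg : ∀ {A A₂ : Subgroup Ω} {u : Ω → Ω}, IsMap F (normalizerIn S A) u →
      IsIso F A A₂ u → (∀ s ∈ normalizerIn S A, u s ∈ normalizerIn S A₂) →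
      ∀ y ∈ normalizerIn (T ⊔ A) A, u y ∈ normalizerIn (T ⊔ A₂) A₂ := by
    intro A A₂ u hu hA hn y hy
    have hyN : y ∈ normalizerIn S A := ⟨sup_le h.TS hA.le_left hy.1, hy.2⟩
    have hy' : y ∈ ((T ⊔ A : Subgroup Ω) : Set Ω) := hy.1
    rw [Subgroup.coe_mul_of_right_le_normalizer_left _ _ (fun a ha =>
      mem_normalizer_of_conj_mem h.TS fun t ht => h.normT (hA.le_left ha) ht)] at hy'
    obtain ⟨t, ht, a, ha, rfl⟩ := hy'
    have haN := le_normalizerIn hA.le_left ha
    have htN : t ∈ normalizerIn S A := by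
      have := Subgroup.mul_mem _ hyN (Subgroup.inv_mem _ haN)
      rwa [mul_inv_cancel_right] at this
    refine ⟨?_, (hn _ hyN).2⟩
    rw [hu.map_mul htN haN]
    exact Subgroup.mul_mem_sup (isMap_mem_of_stronglyClosed h.inv.2.1 hu htN ht) (hA.mem ha)
  have he : normalizerIn (T ⊔ X₂) X₂ = X₁ := by
    refine le_antisymm (fun y hy => ?_) fun y hy => ?_
    · have hyN : y ∈ normalizerIn S X₂ := ⟨sup_le h.TS hX₂S hy.1, hy.2⟩
      rw [← hjk y hyN]
      exact hfi.mem (himg hk.isMap hkX (fun s hs => hk.mem hs) y hy)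
    · obtain ⟨x, hx, rfl⟩ := hfi.surj hy
      exact himg hfN hX₂ hm x hx
  have hY₂ := hpair X₂ hcard hX₂fn (he.symm ▸ hX₁) hN₂ hC₂
  intro y hy
  have hyN := le_of_isSubnormalIn hC.1 hy
  rw [← hkj y hyN]
  exact isMap_mem_of_stronglyClosed h.inv.2.1 hk.isMap (hj.mem hyN) (hY₂ (hCt.j_mem y hy))

omit hcomp in
/-- The layer of a normalizer lies in `E`, if the components lie over `T`. -/
theorem layer_le (hcomp : ∀ (Y : Subgroup Ω) (C : FusionSystem Y), C.IsComponentIn F p → Y ≤ T)
    {X : Subgroup Ω} (hX : F.IsFullyNormalized X) {N : FusionSystem (normalizerIn S X)}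
    (hN : F.IsNormalizerSystem X N) {U : Subgroup Ω} {EN : FusionSystem U}
    (hEN : EN.IsLayerOf N p) : EN.IsSubsystemOf E := by
  have h : Supplement.Data F p E := ⟨hS, hF, hE⟩
  set hs := h.setting hX.1
  have hNS : normalizerIn S X ≤ S := inf_le_left
  have := finite_of_le hNS
  have hNp := hS.to_le hNS
  have hNsat := isSaturated_normalizerSystem hS hF hX hN
  obtain ⟨W, hW, hWsys⟩ := exists_weaklyNormal h hX hN
  have hX'N := hW.2.2.2.1.1
  have := finite_of_le hX'N
  have hW0 := Residual.isNormalIn_residual hNp hW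
    (PPrime.isPPrimeResidual_E0 (hNp.to_le hX'N) hW.1)
  have hle : EN.IsSubsystemOf hs.sys := by
    have h1 := hEN.2.2 _ _ hW0 fun Y C hC => by
      have hYN := le_of_isSubnormalIn hC.1
      have := finite_of_le hYN
      have hYX : Y ≤ normalizerIn (T ⊔ X) X := fun y hy =>
        ⟨Subgroup.mem_sup_left (support_le hS hF hE hcomp hX hN hC hy), (hYN hy).2⟩
      exact fun P => (Layer.le_E0_of_quasisimple (hNp.to_le hYN) hC.2 P).trans
        (Layer.E0_le_of_subnormal hC.1 inferInstance hNp hNsat _ _ hW0.1 hYX P)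
    exact fun P φ hφ => hWsys P (PPrime.meet_subsystem P (h1 P hφ))
  -- the support of the layer is its hyperfocal subgroup
  have hUN := hEN.1.1.2.2.2.1.1
  have := finite_of_le hUN
  have hUp : IsPGroup p U := hNp.to_le hUN
  have hUhyp : U ≤ EN.hyperfocalSubgroup p := by
    set H := EN.hyperfocalSubgroup p with hHdef
    have hHU : H ≤ U := hyperfocal_le
    have hEs := hEN.1.1.1
    obtain ⟨E', hE', hE'E, hcov, -⟩ :=
      PowerIndex.exists_subsystem H _ U rfl hUp EN hEs hHU le_rfl
    have hn := PowerIndex.isNormalIn hUp hEs hHU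
      ⟨fun x hx g => conj_mem_hyperfocal g.2 hx⟩ le_rfl hE' hE'E hcov
    have := finite_of_le hHU
    have hHp : IsPGroup p H := hUp.to_le hHU
    have hMn := Residual.isNormalIn_residual hUp hn.1 (PPrime.isPPrimeResidual_E0 hHp hE')
    have hMG := Layer.isNormalIn_of_char hNp hNsat hEN.1 hMn (Layer.E0_le_E0 hHp hE')
      fun a ha x hx => by
        have ht := transport_of_invariant hEN.1.1.2.2 ha
        have h1 := ht.mem_img hHU hx
        rwa [hHdef, ← ht.hyperfocal_eq hUp hEs] at h1
    refine Layer.le_of_subsystem (hEN.2.2 H _ hMG fun Y C hC => ?_)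
    have hYN := le_of_isSubnormalIn hC.1
    have := finite_of_le hYN
    have hYH : Y ≤ H := hC.2.2.1.ge.trans (PowerIndex.hyperfocal_mono (hEN.2.1 Y C hC))
    exact fun P => (Layer.le_E0_of_quasisimple (hNp.to_le hYN) hC.2 P).trans
      (Layer.E0_le_of_subnormal hC.1 inferInstance hNp hNsat H _ hMG.1 hYH P)
  have hUT : U ≤ T := hUhyp.trans ((PowerIndex.hyperfocal_mono hle).trans hs.hyperfocal_le)
  refine PowerIndex.le_of_cov hUp le_rfl hEN.1.1.1 (fun _ => subset_rfl) hUT
    fun P hP α hα hαo => hs.autGroup_E (hP.trans hUT) ?_ hαo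
  exact mem_autGroup_of_isMap (isMap_of_subsystem hle ((mem_autGroup_iff hP α).1 hα).isMap) α
    fun x => (autFun_coe α x).symm

end CfsgLib.Fusion.LayerBalance
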