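import Cfsg.Agent.Lib.Fusion.SupplementInvariant
import Cfsg.Agent.Lib.Fusion.NormalizerSaturated
import Cfsg.Agent.Lib.Fusion.ComponentStructure
import Cfsg.Agent.Lib.Fusion.CharacteristicDichotomy
import Cfsg.Agent.S5148

/-!
Components of the normalizer of a fully normalised subgroup: they centralise the normal subgroups
of the system, and the product with a normal subsystem gives a weakly normal subsystem of the
normalizer.
-/

set_option autoImplicit false
set_option linter.unusedSectionVars false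

namespace CfsgLib.Fusion.LayerBalance

open Cfsg Cfsg.FusionSystem

variable {Ω : Type*} [Group Ω] {S T : Subgroup Ω} {F : FusionSystem S} {E : FusionSystem T}
variable {p : ℕ} [Fact p.Prime] [Finite S]

/-- A quasisimple system is not on a subgroup centralised by an overgroup. -/
theorem false_of_central {A Y : Subgroup Ω} {C : FusionSystem Y} (hS : IsPGroup p S)
    (hYS : Y ≤ S) (hC : C.Quasisimple p) (hYA : Y ≤ A)
    (hcen : Y ≤ Subgroup.centralizer (A : Set Ω)) : False :=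
  have : Finite Y := finite_of_le hYS
  Cfsg.Agent.S5148.result p (hS.to_le hYS) C hC ⟨⟨fun a b => Subtype.ext
    (Subgroup.mem_centralizer_iff.1 (hcen b.2) a (hYA a.2))⟩⟩

theorem normalizerIn_nested {X X' : Subgroup Ω} (h : normalizerIn S X ≤ normalizerIn S X') :
    normalizerIn (normalizerIn S X') X = normalizerIn S X :=
  le_antisymm (fun _ hx => ⟨hx.1.1, hx.2⟩) fun _ hx => ⟨h hx, hx.2⟩

/-- `X` and the part of a normal subgroup normalising it are fixed by the components of the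
normalizer of `X`. -/
theorem fixes_normalizer (hS : IsPGroup p S) (hF : F.IsSaturated p) {X : Subgroup Ω}
    (hX : F.IsFullyNormalized X) {N : FusionSystem (normalizerIn S X)}
    (hN : F.IsNormalizerSystem X N) {Q : Subgroup Ω} (hQ : F.IsNormal Q) {Y : Subgroup Ω}
    {C : FusionSystem Y} (hC : C.IsComponentIn N p) :
    Y ≤ centralizerIn (normalizerIn S X) (X ⊔ Q ⊓ normalizerIn S X) ∧
      ∀ (P : Subgroup Ω) (f : Ω → Ω), IsMap C P f →
        ∃ g, IsMap F (P ⊔ (X ⊔ Q ⊓ normalizerIn S X)) g ∧ (∀ x ∈ P, g x = f x) ∧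
          ∀ r ∈ X ⊔ Q ⊓ normalizerIn S X, g r = r := by
  set R₀ := X ⊔ Q ⊓ normalizerIn S X with hR₀
  have hNS : normalizerIn S X ≤ S := inf_le_left
  have := finite_of_le hNS
  have hXN : X ≤ normalizerIn S X := le_normalizerIn hX.1
  have hR₀N : R₀ ≤ normalizerIn S X := sup_le hXN inf_le_right
  have hR₀n : N.IsNormal R₀ := by
    refine isNormal_iff.2 ⟨hR₀N, fun P f hf => ?_⟩
    obtain ⟨hP, -, g, hg, hgv, hgX⟩ := (isMap_normalizerSystem_iff hN).1 hf
    obtain ⟨g', hg', hg'v, hg'Q⟩ := (isNormal_iff.1 hQ).2 _ g hg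
    have hdom : P ⊔ R₀ ≤ P ⊔ X ⊔ Q := sup_le (le_sup_left.trans le_sup_left)
      (sup_le (le_sup_right.trans le_sup_left) (inf_le_left.trans le_sup_right))
    have hgx : g' '' (X : Set Ω) = X := by
      refine Eq.trans (Set.image_congr fun x hx => ?_) hgX
      exact hg'v x (Subgroup.mem_sup_right hx)
    have hXi : IsIso F X X g' := ⟨hg'.mono (le_sup_right.trans le_sup_left), hgx⟩
    have hQN : ∀ r ∈ Q ⊓ normalizerIn S X, g' r ∈ Q ⊓ normalizerIn S X := fun r hr =>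
      ⟨hg'Q.le ⟨r, hr.1, rfl⟩, hg'.mem_normalizerIn (le_sup_right.trans le_sup_left) hXi
        (Subgroup.mem_sup_right hr.1) hr.2.2⟩
    have hm := hg'.mono hdom
    have hR₀m : ∀ r ∈ R₀, g' r ∈ R₀ := mem_of_mem_sup hm (le_sup_left.trans le_sup_right)
      (le_sup_right.trans le_sup_right) (fun x hx => Subgroup.mem_sup_left (hXi.mem hx))
      fun x hx => Subgroup.mem_sup_right (hQN x hx)
    have hval : ∀ x ∈ P, g' x = f x := fun x hx =>
      (hg'v x (Subgroup.mem_sup_left hx)).trans (hgv x hx)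
    refine ⟨g', (isMap_normalizerSystem_iff hN).2 ⟨sup_le hP hR₀N, mem_of_mem_sup hm le_sup_left
      le_sup_right (fun x hx => by rw [hval x hx]; exact hf.mem hx)
      (fun x hx => hR₀N (hR₀m x hx)), g', hm.mono (sup_le le_rfl
        (le_sup_left.trans le_sup_right)), fun _ _ => rfl, hgx⟩, hval, ?_⟩
    have := finite_of_le hR₀N
    exact ((hm.mono le_sup_right).isIso_of_card_le hR₀m le_rfl).image_eq
  obtain ⟨-, hY, hfix⟩ :=
    ComponentCentral.fixes_of_subnormal hC.1 inferInstance (hS.to_le hNS) hC.2 R₀ hR₀n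
  refine ⟨hY, fun P f hf => ?_⟩
  obtain ⟨-, g, hg, hgv, hgR⟩ := hfix P f hf
  obtain ⟨hP, -, g', hg', hg'v, -⟩ := (isMap_normalizerSystem_iff hN).1 hg
  exact ⟨g', hg'.mono le_sup_left, fun x hx => (hg'v x (Subgroup.mem_sup_left hx)).trans (hgv x hx),
    fun r hr => (hg'v r (Subgroup.mem_sup_right hr)).trans (hgR r hr)⟩

/-- Components of a normalizer centralise the normal subgroups. -/
theorem le_centralizerIn_of_normal (hS : IsPGroup p S) (hF : F.IsSaturated p) {X : Subgroup Ω}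
    (hX : F.IsFullyNormalized X) {N : FusionSystem (normalizerIn S X)}
    (hN : F.IsNormalizerSystem X N) {Q : Subgroup Ω} (hQ : F.IsNormal Q) {Y : Subgroup Ω}
    {C : FusionSystem Y} (hC : C.IsComponentIn N p) : Y ≤ centralizerIn S Q := by
  obtain ⟨hY, hfix⟩ := fixes_normalizer hS hF hX hN hQ hC
  have hYS : Y ≤ S := fun y hy => (hY hy).1.1
  have := finite_of_le hYS
  suffices h : C.hyperfocalSubgroup p ≤ centralizerIn S Q by rwa [hC.2.2.1] at h
  refine hyperfocal_le_of_coprime fun P α hP hα hαo x => ?_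
  have hαm := ((mem_autGroup_iff hP α).1 hα).isMap
  obtain ⟨g, hg, hgv, hgR⟩ := hfix P _ hαm
  obtain ⟨g', hg', hg'v, hg'Q⟩ := (isNormal_iff.1 hQ).2 _ g hg
  set R₀ := X ⊔ Q ⊓ normalizerIn S X
  set W := P ⊔ R₀ ⊔ Q
  have hWS : W ≤ S := hg'.le
  have := finite_of_le hWS
  have := finite_mulAut W
  have hPW : P ≤ W := le_sup_left.trans le_sup_left
  have hgW : ∀ z ∈ W, g' z ∈ W := mem_of_mem_sup hg' le_sup_left le_sup_right
    (fun z hz => by
      refine Subgroup.mem_sup_left ?_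
      rw [hg'v z hz]
      exact mem_of_mem_sup hg le_sup_left le_sup_right
        (fun y hy => Subgroup.mem_sup_left (by rw [hgv y hy]; exact autFun_mem α hy))
        (fun y hy => Subgroup.mem_sup_right (by rw [hgR y hy]; exact hy)) z hz)
    fun z hz => Subgroup.mem_sup_right (hg'Q.le ⟨z, hz, rfl⟩)
  obtain ⟨γ, hγ, hγv⟩ := exists_mem_autGroup (hg'.isIso_of_card_le hgW le_rfl)
  have hγ' : ∀ z ∈ W, autFun γ z = g' z := fun z hz =>
    (autFun_apply γ hz).trans (hγv ⟨z, hz⟩)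
  obtain ⟨m, hm1, hmo⟩ := Residual.exists_pPrime_pow (p := p) γ hαo
  have hP' : ∀ z ∈ P, autFun (γ ^ m) z = autFun α z := fun z hz => by
    rw [NormalCentralizer.autFun_pow_eq hPW (fun y hy => (hγ' y (hPW hy)).trans
      ((hg'v y (Subgroup.mem_sup_left hy)).trans (hgv y hy))) m z hz,
      Residual.pow_eq_self_of_modEq hm1]
  have hpow : ∀ (i : ℕ), (∀ z ∈ R₀, autFun (γ ^ i) z = z) ∧ ∀ z ∈ Q, autFun (γ ^ i) z ∈ Q := by
    intro i
    induction i with
    | zero =>
      refine ⟨fun z hz => ?_, fun z hz => ?_⟩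
      all_goals rw [pow_zero]
      · exact NormalCentralizer.autFun_one (Subgroup.mem_sup_left (Subgroup.mem_sup_right hz))
      · rwa [NormalCentralizer.autFun_one (Subgroup.mem_sup_right hz)]
    | succ i ih =>
      have hR : ∀ z ∈ R₀, autFun γ z = z := fun z hz => by
        rw [hγ' z (Subgroup.mem_sup_left (Subgroup.mem_sup_right hz)),
          hg'v z (Subgroup.mem_sup_right hz), hgR z hz]
      refine ⟨fun z hz => ?_, fun z hz => ?_⟩
      · rw [pow_succ', CfsgLib.Fusion.autFun_mul _ _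
          (Subgroup.mem_sup_left (Subgroup.mem_sup_right hz)), ih.1 z hz, hR z hz]
      · rw [pow_succ', CfsgLib.Fusion.autFun_mul _ _ (Subgroup.mem_sup_right hz),
          hγ' _ (Subgroup.mem_sup_right (ih.2 z hz))]
        exact hg'Q.le ⟨_, ih.2 z hz, rfl⟩
  have hQS := hQ.1
  have hXW : X ≤ W := (le_sup_left.trans le_sup_right).trans le_sup_left
  have hfixQ : ∀ q ∈ Q, autFun (γ ^ m) q = q :=
    ComponentExists.fix_of_fix_centralizer hS hWS le_sup_right hXW
      (fun w hw => mem_normalizer_of_conj_mem hQS fun q hq =>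
        conjMem_of_stronglyClosed (stronglyClosed_of_isNormal hQ) (hWS hw) hq)
      hmo (hpow m).2 (fun u hu => (hpow m).1 u (Subgroup.mem_sup_left hu))
      fun q hq hqc => (hpow m).1 q (Subgroup.mem_sup_right
        ⟨hq, centralizerIn_le_normalizerIn S X ⟨hQS hq, hqc⟩⟩)
  refine ⟨S.mul_mem (S.inv_mem (hYS (hP x.2))) (hYS (hP (SetLike.coe_mem _))),
    mem_centralizer_of_conj_eq fun q hq => ?_⟩
  have hxW := hPW x.2
  have hxq : (x : Ω) * q * (x : Ω)⁻¹ ∈ Q :=
    conjMem_of_stronglyClosed (stronglyClosed_of_isNormal hQ) (hWS hxW) hq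
  have h1 := hfixQ _ hxq
  have hm' := ((mem_autGroup_iff hWS (γ ^ m)).1 (Subgroup.pow_mem _ hγ m)).isMap
  rw [hm'.map_conj hxW (Subgroup.mem_sup_right hq), hP' x x.2, autFun_coe, hfixQ q hq] at h1
  calc (x : Ω)⁻¹ * (α x : P) * q * ((x : Ω)⁻¹ * (α x : P))⁻¹
      = (x : Ω)⁻¹ * (((α x : P) : Ω) * q * ((α x : P) : Ω)⁻¹) * x := by group
    _ = q := by rw [h1]; group

/-- A normal subsystem is normal in an intermediate system on the same group containing the
extensions. -/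
theorem isNormalIn_restrict {S₁ : Subgroup Ω} (he : S₁ = S) (hS : IsPGroup p S)
    {M : FusionSystem S₁} (hM : M.IsSaturated p) (hMF : M.IsSubsystemOf F)
    (hEM : E.IsSubsystemOf M) (hE : E.IsNormalIn F p)
    (hβ : ∀ β ∈ F.autGroup (T ⊔ centralizerIn S T),
      IsMap M (T ⊔ centralizerIn S T) (autFun β)) : E.IsNormalIn M p := by
  subst he
  have hT := hE.1.2.2.2.1
  have hTM : M.StronglyClosed T := stronglyClosed_iff.2 ⟨hT.1, fun P f hf x hx hxT =>
    isMap_mem_of_stronglyClosed hT (isMap_of_subsystem hMF hf) hx hxT⟩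
  refine ⟨⟨hE.1.1, hM, (isInvariantIn_iff_strongInvariant hS hM hEM hTM).2 ?_⟩, fun α hα => ?_⟩
  · intro P Q f g hPQ hQT hf hfQ hg
    exact strongInvariant_of_invariant hE.1.2.2 P Q f g hPQ hQT hf hfQ (isMap_of_subsystem hMF hg)
  · obtain ⟨β, hβm, h1, h2⟩ := hE.2 α hα
    exact ⟨β, mem_autGroup_of_isMap (hβ β hβm) β fun x => (autFun_coe β x).symm, h1, h2⟩

/-- Over `N_R(X)`, where `R = TX`, the product gives a weakly normal subsystem of `N_F(X)`. -/
theorem exists_weaklyNormal (h : Supplement.Data F p E) {X : Subgroup Ω}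
    (hX : F.IsFullyNormalized X) {N : FusionSystem (normalizerIn S X)}
    (hN : F.IsNormalizerSystem X N) :
    ∃ W : FusionSystem (normalizerIn (T ⊔ X) X), W.IsWeaklyNormalIn N p ∧
      W.IsSubsystemOf (h.setting hX.1).sys := by
  set hs := h.setting hX.1
  set R := T ⊔ X with hR
  have hI := h.inv
  have hTS := h.TS
  have hRS : R ≤ S := hs.RS
  have := finite_of_le hRS
  have hXR : X ≤ R := le_sup_right
  have hRp : IsPGroup p R := h.pgroup.to_le hRS
  have hTn : ∀ {W : Subgroup Ω}, W ≤ S → W ≤ Subgroup.normalizer (T : Set Ω) := fun hW w hw =>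
    mem_normalizer_of_conj_mem hTS fun t ht => h.normT (hW hw) ht
  -- `X` is fully normalised in the product
  have hXfn : hs.sys.IsFullyNormalized X := by
    refine ⟨hXR, fun X₁ hc => ?_⟩
    obtain ⟨f, hf⟩ := isConj_iff.1 hc
    obtain ⟨⟨hm, -, -⟩, r, hr, hw⟩ := hs.isMap_sys hf.isMap
    have hr' : r ∈ ((T ⊔ X : Subgroup Ω) : Set Ω) := hr
    rw [Subgroup.coe_mul_of_right_le_normalizer_left _ _ (hTn hX.1)] at hr'
    obtain ⟨t, ht, x₀, hx₀, rfl⟩ := hr'
    have hXX₁ : T ⊔ X ≤ T ⊔ X₁ := by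
      refine sup_le le_sup_left fun y hy => ?_
      set z := x₀⁻¹ * y * x₀
      have hz : z ∈ X := X.mul_mem (X.mul_mem (X.inv_mem hx₀) hy) hx₀
      have h1 := hw.1 z hz
      rw [show t * x₀ * z * (t * x₀)⁻¹ = t * y * t⁻¹ by simp only [z]; group] at h1
      have hfz : f z ∈ T ⊔ X₁ := Subgroup.mem_sup_right (hf.mem hz)
      have h2 : t * y * t⁻¹ ∈ T ⊔ X₁ := by
        have := Subgroup.mul_mem _ hfz (Subgroup.inv_mem _ (Subgroup.mem_sup_left (T := X₁) h1))
        simpa [mul_assoc] using this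
      have h3 := Subgroup.mul_mem _ (Subgroup.mul_mem _ (Subgroup.mem_sup_left (T := X₁)
        (T.inv_mem ht)) h2) (Subgroup.mem_sup_left (T := X₁) ht)
      simpa [mul_assoc] using h3
    obtain ⟨k, hk, hki, hkN, -⟩ := exists_map_normalizerIn h.pgroup
      (isFullyAutomized_of_isFullyNormalized h.pgroup h.sat hX)
      (isReceptive_of_isFullyNormalized h.pgroup h.sat hX)
      (isConj_symm (isConj_of_subsystem hs.sub hc))
    have := finite_of_le (S := R) (P := normalizerIn R X) inf_le_left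
    have hle : normalizerIn R X₁ ≤ normalizerIn S X₁ := inf_le_inf_right _ hRS
    refine (hk.mono hle).card_le fun y hy => ⟨?_, (hkN y (hle hy)).2⟩
    have hyR : y ∈ ((T ⊔ X₁ : Subgroup Ω) : Set Ω) := hXX₁ hy.1
    rw [Subgroup.coe_mul_of_right_le_normalizer_left _ _ (hTn hki.le_left)] at hyR
    obtain ⟨u, hu, x, hx, rfl⟩ := hyR
    have hxN : x ∈ normalizerIn S X₁ := le_normalizerIn hki.le_left hx
    have huN : u ∈ normalizerIn S X₁ := by
      have := Subgroup.mul_mem _ (hle hy) (Subgroup.inv_mem _ hxN)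
      rwa [mul_inv_cancel_right] at this
    rw [hk.map_mul huN hxN]
    exact Subgroup.mul_mem_sup (isMap_mem_of_stronglyClosed hI.2.1 hk huN hu) (hki.mem hx)
  let W := normalizerSystem hs.sys X hXR
  have hW : hs.sys.IsNormalizerSystem X W := fun _ => rfl
  have hWsat : W.IsSaturated p :=
    isSaturated_normalizerSystem hRp hs.isSaturated hXfn hW
  have hle : normalizerIn R X ≤ normalizerIn S X := inf_le_inf_right _ hRS
  have hNS : normalizerIn S X ≤ S := inf_le_left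
  have := finite_of_le hNS
  have hNsat := isSaturated_normalizerSystem h.pgroup h.sat hX hN
  have hWN : W.IsSubsystemOf N := fun P φ hφ => by
    obtain ⟨hP, hv, g, hg, hgv, hgX⟩ := (isMap_normalizerSystem_iff hW).1 (isMap_homFun hφ)
    exact (mem_hom_iff φ).2 ((isMap_normalizerSystem_iff hN).2
      ⟨hP.trans hle, fun x hx => hle (hv x hx), g, isMap_of_subsystem hs.sub hg, hgv, hgX⟩)
  -- maps of `N` keep `R`
  have hkeep : ∀ {A : Subgroup Ω} {g : Ω → Ω}, A ≤ normalizerIn R X → IsMap F (A ⊔ X) g →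
      g '' (X : Set Ω) = X → ∀ y ∈ A ⊔ X, g y ∈ R := by
    intro A g hA hg hgX y hy
    have hAR : A ⊔ X ≤ R := sup_le (hA.trans inf_le_left) hXR
    have hy' : y ∈ ((T ⊔ X : Subgroup Ω) : Set Ω) := hAR hy
    rw [Subgroup.coe_mul_of_right_le_normalizer_left _ _ (hTn hX.1)] at hy'
    obtain ⟨u, hu, x, hx, rfl⟩ := hy'
    have hxA : x ∈ A ⊔ X := Subgroup.mem_sup_right hx
    have huA : u ∈ A ⊔ X := by
      have := Subgroup.mul_mem _ hy (Subgroup.inv_mem _ hxA)
      rwa [mul_inv_cancel_right] at this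
    rw [hg.map_mul huA hxA]
    exact Subgroup.mul_mem_sup (isMap_mem_of_stronglyClosed hI.2.1 hg huA hu)
      (hgX.le ⟨x, hx, rfl⟩)
  have hsc : N.StronglyClosed (normalizerIn R X) := stronglyClosed_iff.2 ⟨hle, fun P f hf x hx hxW => by
    obtain ⟨hP, hv, g, hg, hgv, hgX⟩ := (isMap_normalizerSystem_iff hN).1 hf
    refine ⟨?_, (hv x hx).2⟩
    rw [← hgv x hx]
    exact hkeep inf_le_right (hg.mono (sup_le_sup inf_le_left le_rfl)) hgX x
      (Subgroup.mem_sup_left (⟨hx, hxW⟩ : x ∈ P ⊓ normalizerIn R X))⟩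
  refine ⟨W, ⟨hWsat, hNsat, (isInvariantIn_iff_strongInvariant (h.pgroup.to_le hNS) hNsat hWN
    hsc).2 ?_⟩, fun P φ hφ => hφ.1⟩
  intro P Q f g hPQ hQ hf hfQ hg P' hP'
  obtain ⟨hP, -, f₁, hf₁, hf₁v, hf₁X⟩ := (isMap_normalizerSystem_iff hW).1 hf
  obtain ⟨-, hgv, g₁, hg₁, hg₁v, hg₁X⟩ := (isMap_normalizerSystem_iff hN).1 hg
  obtain ⟨Q₁, hQ₁⟩ := hg₁.exists_iso
  have hXQ₁ : X ≤ Q₁ := fun y hy => by
    obtain ⟨x, hx, rfl⟩ := hg₁X.ge hy
    exact hQ₁.mem (Subgroup.mem_sup_right hx)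
  have hQ₁R : Q₁ ≤ R := fun y hy => by
    obtain ⟨x, hx, rfl⟩ := hQ₁.surj hy
    exact hkeep hQ hg₁ hg₁X x hx
  have hQR : Q ⊔ X ≤ R := sup_le (hQ.trans inf_le_left) hXR
  obtain ⟨P₁, hP₁⟩ := (hg₁.mono (sup_le_sup hPQ le_rfl)).exists_iso
  obtain ⟨f', hf', hf'v⟩ := hs.conj_map (W := Q ⊔ X) (W' := Q₁) hf₁ (sup_le_sup hPQ le_rfl)
    (mem_of_mem_sup (isMap_of_subsystem hs.sub hf₁) le_sup_left le_sup_right
      (fun x hx => by rw [hf₁v x hx]; exact Subgroup.mem_sup_left (hfQ x hx))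
      fun x hx => Subgroup.mem_sup_right (hf₁X.le ⟨x, hx, rfl⟩)) hQ₁
    (le_antisymm (sup_le le_sup_left hQR) (sup_le_sup_left le_sup_right T))
    (le_antisymm (sup_le le_sup_left hQ₁R) (sup_le_sup_left hXQ₁ T)) hP₁.image_eq
  have hPi : ∀ x ∈ P, g₁ x = g x := fun x hx => hg₁v x (hPQ hx)
  have hmap : ∀ x ∈ P, f' (g x) = g (f x) := fun x hx => by
    rw [← hPi x hx, hf'v x (Subgroup.mem_sup_left hx), hf₁v x hx, hg₁v _ (hfQ x hx)]
  have hgP : ∀ y ∈ P', ∃ x ∈ P, g x = y := fun y hy => by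
    have hy' : y ∈ (P' : Set Ω) := hy
    rw [← hP'] at hy'
    exact hy'
  have hP'₁ : P' ≤ P₁ := fun y hy => by
    obtain ⟨x, hx, rfl⟩ := hgP y hy
    rw [← hPi x hx]
    exact hP₁.mem (Subgroup.mem_sup_left hx)
  have hX₁ : X ≤ P₁ := fun y hy => by
    obtain ⟨x, hx, rfl⟩ := hg₁X.ge hy
    exact hP₁.mem (Subgroup.mem_sup_right hx)
  refine ⟨f', (isMap_normalizerSystem_iff hW).2 ⟨fun y hy => ?_, fun y hy => ?_, f',
    hf'.mono (sup_le hP'₁ hX₁), fun _ _ => rfl, Set.Subset.antisymm ?_ ?_⟩, hmap⟩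
  · obtain ⟨x, hx, rfl⟩ := hgP y hy
    exact isMap_mem_of_stronglyClosed hsc hg (hPQ hx) (hQ (hPQ hx))
  · obtain ⟨x, hx, rfl⟩ := hgP y hy
    rw [hmap x hx]
    exact isMap_mem_of_stronglyClosed hsc hg (hfQ x hx) (hQ (hfQ x hx))
  · rintro _ ⟨y, hy, rfl⟩
    obtain ⟨x, hx, rfl⟩ := hg₁X.ge hy
    rw [hf'v x (Subgroup.mem_sup_right hx)]
    exact hg₁X.le ⟨f₁ x, hf₁X.le ⟨x, hx, rfl⟩, rfl⟩
  · intro y hy
    obtain ⟨x, hx, rfl⟩ := hg₁X.ge hy
    obtain ⟨w, hw, rfl⟩ := hf₁X.ge hx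
    exact ⟨g₁ w, hg₁X.le ⟨w, hw, rfl⟩, hf'v w (Subgroup.mem_sup_right hw)⟩

end CfsgLib.Fusion.LayerBalance
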