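import Cfsg.Agent.Lib.Fusion.Basic

/-!
Maps of a fusion system read as functions on the ambient group.  `IsMap F P f` says that `f`,
restricted to `P`, is a map of `F` with source `P`; `IsIso F P Q f` says moreover that its image
is `Q`.  Restriction, composition and change of source then need no coercions between subgroups.
-/

set_option autoImplicit false

namespace CfsgLib.Fusion

open Cfsg Cfsg.FusionSystem

variable {Ω : Type*} [Group Ω] {S : Subgroup Ω}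

/-- `f` restricted to `P` is a map of `F` with source `P`. -/
def IsMap (F : FusionSystem S) (P : Subgroup Ω) (f : Ω → Ω) : Prop :=
  ∃ φ ∈ F.Hom P, ∀ x : P, φ x = f x

/-- `f` restricted to `P` is a map of `F` with source `P` and image `Q`. -/
structure IsIso (F : FusionSystem S) (P Q : Subgroup Ω) (f : Ω → Ω) : Prop where
  isMap : IsMap F P f
  image_eq : f '' (P : Set Ω) = Q

open Classical in
/-- A homomorphism on `P` extended by `1` to a function on the ambient group. -/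
noncomputable def homFun {P : Subgroup Ω} (φ : P →* Ω) : Ω → Ω :=
  fun x => if h : x ∈ P then φ ⟨x, h⟩ else 1

theorem homFun_apply {P : Subgroup Ω} (φ : P →* Ω) {x : Ω} (h : x ∈ P) :
    homFun φ x = φ ⟨x, h⟩ := by
  simp [homFun, h]

@[simp] theorem homFun_coe {P : Subgroup Ω} (φ : P →* Ω) (x : P) : homFun φ x = φ x :=
  homFun_apply φ x.2

/-- An automorphism of `P` as a function on the ambient group. -/
noncomputable def autFun {P : Subgroup Ω} (α : MulAut P) : Ω → Ω :=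
  homFun (P.subtype.comp α.toMonoidHom)

@[simp] theorem autFun_coe {P : Subgroup Ω} (α : MulAut P) (x : P) : autFun α x = (α x : Ω) :=
  homFun_coe _ x

theorem autFun_apply {P : Subgroup Ω} (α : MulAut P) {x : Ω} (h : x ∈ P) :
    autFun α x = (α ⟨x, h⟩ : Ω) :=
  homFun_apply _ h

theorem autFun_mem {P : Subgroup Ω} (α : MulAut P) {x : Ω} (h : x ∈ P) : autFun α x ∈ P := by
  rw [autFun_apply α h]; exact SetLike.coe_mem _

variable {F : FusionSystem S}

theorem isMap_homFun {P : Subgroup Ω} {φ : P →* Ω} (hφ : φ ∈ F.Hom P) :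
    IsMap F P (homFun φ) :=
  ⟨φ, hφ, fun x => (homFun_coe φ x).symm⟩

theorem image_homFun {P : Subgroup Ω} (φ : P →* Ω) :
    homFun φ '' (P : Set Ω) = φ.range := by
  ext y
  constructor
  · rintro ⟨x, hx, rfl⟩
    exact ⟨⟨x, hx⟩, (homFun_apply φ hx).symm⟩
  · rintro ⟨x, rfl⟩
    exact ⟨x, x.2, homFun_coe φ x⟩

theorem isIso_homFun {P : Subgroup Ω} {φ : P →* Ω} (hφ : φ ∈ F.Hom P) :
    IsIso F P φ.range (homFun φ) :=
  ⟨isMap_homFun hφ, image_homFun φ⟩

namespace IsMap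

variable {P Q R : Subgroup Ω} {f g : Ω → Ω}

theorem le (h : IsMap F P f) : P ≤ S := by
  obtain ⟨φ, hφ, -⟩ := h
  exact (F.le_of_mem hφ).1

theorem mem (h : IsMap F P f) {x : Ω} (hx : x ∈ P) : f x ∈ S := by
  obtain ⟨φ, hφ, hv⟩ := h
  exact hv ⟨x, hx⟩ ▸ (F.le_of_mem hφ).2 ⟨x, hx⟩

theorem map_mul (h : IsMap F P f) {x y : Ω} (hx : x ∈ P) (hy : y ∈ P) :
    f (x * y) = f x * f y := by
  obtain ⟨φ, -, hv⟩ := h
  have := _root_.map_mul φ ⟨x, hx⟩ ⟨y, hy⟩
  rw [hv, hv, hv] at this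
  exact this

theorem map_one (h : IsMap F P f) : f 1 = 1 := by
  obtain ⟨φ, -, hv⟩ := h
  have := _root_.map_one φ
  rw [hv] at this
  exact this

theorem map_inv (h : IsMap F P f) {x : Ω} (hx : x ∈ P) : f x⁻¹ = (f x)⁻¹ := by
  obtain ⟨φ, -, hv⟩ := h
  have := _root_.map_inv φ ⟨x, hx⟩
  rw [hv, hv] at this
  exact this

theorem map_conj (h : IsMap F P f) {x y : Ω} (hx : x ∈ P) (hy : y ∈ P) :
    f (x * y * x⁻¹) = f x * f y * (f x)⁻¹ := by
  rw [h.map_mul (P.mul_mem hx hy) (P.inv_mem hx), h.map_mul hx hy, h.map_inv hx]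

theorem map_zpow (h : IsMap F P f) {x : Ω} (hx : x ∈ P) (n : ℤ) : f (x ^ n) = f x ^ n := by
  obtain ⟨φ, -, hv⟩ := h
  have := _root_.map_zpow φ ⟨x, hx⟩ n
  rw [hv, hv] at this
  exact this

theorem injOn (h : IsMap F P f) : Set.InjOn f P := by
  obtain ⟨φ, hφ, hv⟩ := h
  intro x hx y hy hxy
  have : φ ⟨x, hx⟩ = φ ⟨y, hy⟩ := by rw [hv, hv]; exact hxy
  exact congrArg Subtype.val (F.injective_of_mem hφ this)

theorem mono (h : IsMap F P f) (hQP : Q ≤ P) : IsMap F Q f := by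
  obtain ⟨φ, hφ, hv⟩ := h
  exact ⟨φ.comp (Subgroup.inclusion hQP), restrict_mem F hφ hQP, fun x => hv _⟩

theorem congr (h : IsMap F P f) (hfg : ∀ x ∈ P, f x = g x) : IsMap F P g := by
  obtain ⟨φ, hφ, hv⟩ := h
  exact ⟨φ, hφ, fun x => (hv x).trans (hfg x x.2)⟩

theorem comp (hf : IsMap F P f) (hg : IsMap F Q g) (h : ∀ x ∈ P, f x ∈ Q) :
    IsMap F P (g ∘ f) := by
  obtain ⟨φ, hφ, hv⟩ := hf
  obtain ⟨ψ, hψ, hw⟩ := hg
  have hQ : ∀ x : P, φ x ∈ Q := fun x => by rw [hv]; exact h x x.2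
  refine ⟨_, F.comp_mem hφ hψ hQ, fun x => ?_⟩
  show ψ ⟨φ x, hQ x⟩ = g (f x)
  rw [hw, ← hv]

theorem exists_iso (h : IsMap F P f) : ∃ Q, IsIso F P Q f := by
  obtain ⟨φ, hφ, hv⟩ := h
  refine ⟨φ.range, ⟨φ, hφ, hv⟩, ?_⟩
  ext y
  constructor
  · rintro ⟨x, hx, rfl⟩
    exact ⟨⟨x, hx⟩, hv _⟩
  · rintro ⟨x, rfl⟩
    exact ⟨x, x.2, (hv x).symm⟩

theorem exists_hom (h : IsMap F P f) : ∃ φ ∈ F.Hom P, ∀ x : P, φ x = f x := h

end IsMap

theorem isMap_id {P : Subgroup Ω} (hP : P ≤ S) : IsMap F P id :=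
  ⟨P.subtype, subtype_mem F hP, fun _ => rfl⟩

theorem isMap_conj {P : Subgroup Ω} {g : Ω} (hP : P ≤ S) (hg : g ∈ S) :
    IsMap F P (fun x => g * x * g⁻¹) :=
  ⟨conjHom P g, F.conj_mem hP hg, fun _ => rfl⟩

/-- Membership of a homomorphism in `F.Hom P` only depends on its values. -/
theorem mem_hom_iff {P : Subgroup Ω} (φ : P →* Ω) : φ ∈ F.Hom P ↔ IsMap F P (homFun φ) := by
  refine ⟨isMap_homFun, ?_⟩
  rintro ⟨ψ, hψ, hv⟩
  convert hψ using 1
  ext x
  rw [hv, homFun_coe]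

theorem mem_hom_of_isMap {P : Subgroup Ω} {φ : P →* Ω} {f : Ω → Ω} (h : IsMap F P f)
    (hv : ∀ x : P, φ x = f x) : φ ∈ F.Hom P :=
  (mem_hom_iff φ).2 (h.congr fun x hx => by rw [homFun_apply φ hx, hv])

namespace IsIso

variable {P Q R : Subgroup Ω} {f g : Ω → Ω}

theorem le_left (h : IsIso F P Q f) : P ≤ S := h.isMap.le

theorem mem (h : IsIso F P Q f) {x : Ω} (hx : x ∈ P) : f x ∈ Q :=
  h.image_eq.subset ⟨x, hx, rfl⟩

theorem surj (h : IsIso F P Q f) {y : Ω} (hy : y ∈ Q) : ∃ x ∈ P, f x = y :=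
  h.image_eq.symm.subset hy

theorem le_right (h : IsIso F P Q f) : Q ≤ S := fun y hy => by
  obtain ⟨x, hx, rfl⟩ := h.surj hy
  exact h.isMap.mem hx

theorem congr (h : IsIso F P Q f) (hfg : ∀ x ∈ P, f x = g x) : IsIso F P Q g := by
  refine ⟨h.isMap.congr hfg, ?_⟩
  rw [← h.image_eq]
  exact (Set.image_congr hfg).symm

theorem comp (hf : IsIso F P Q f) (hg : IsIso F Q R g) : IsIso F P R (g ∘ f) :=
  ⟨hf.isMap.comp hg.isMap fun _ hx => hf.mem hx,
    by rw [Set.image_comp, hf.image_eq, hg.image_eq]⟩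

theorem exists_symm (h : IsIso F P Q f) :
    ∃ g, IsIso F Q P g ∧ (∀ x ∈ P, g (f x) = x) ∧ ∀ y ∈ Q, f (g y) = y := by
  obtain ⟨φ, hφ, hv⟩ := h.isMap
  obtain ⟨ψ, hψ, hw⟩ := F.inv_mem hφ
  have hr : φ.range = Q := by
    apply SetLike.coe_injective
    rw [← h.image_eq]
    ext y
    constructor
    · rintro ⟨x, rfl⟩
      exact ⟨x, x.2, (hv x).symm⟩
    · rintro ⟨x, hx, rfl⟩
      exact ⟨⟨x, hx⟩, hv _⟩
  have h1 : ∀ x ∈ P, homFun ψ (f x) = x := fun x hx => by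
    have hm : f x ∈ φ.range := ⟨⟨x, hx⟩, hv _⟩
    rw [homFun_apply ψ hm]
    refine Eq.trans ?_ (hw ⟨x, hx⟩)
    congr 1
    exact Subtype.ext (hv ⟨x, hx⟩).symm
  refine ⟨homFun ψ, ⟨(isMap_homFun hψ).mono hr.ge, ?_⟩, h1, fun y hy => ?_⟩
  · ext x
    constructor
    · rintro ⟨y, hy, rfl⟩
      obtain ⟨x, hx, rfl⟩ := h.surj hy
      rw [h1 x hx]
      exact hx
    · intro hx
      exact ⟨f x, h.mem hx, h1 x hx⟩
  · obtain ⟨x, hx, rfl⟩ := h.surj hy
    rw [h1 x hx]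

theorem card_eq (h : IsIso F P Q f) : Nat.card Q = Nat.card P := by
  show Nat.card ((Q : Set Ω) : Type _) = Nat.card ((P : Set Ω) : Type _)
  rw [← h.image_eq]
  exact Nat.card_image_of_injOn h.isMap.injOn

theorem isConj (h : IsIso F P Q f) : F.IsConj P Q := by
  obtain ⟨φ, hφ, hv⟩ := h.isMap
  refine ⟨φ, hφ, SetLike.coe_injective ?_⟩
  rw [← image_homFun φ, ← h.image_eq]
  exact Set.image_congr fun x hx => (homFun_apply φ hx).trans (hv _)

end IsIso

theorem isIso_refl {P : Subgroup Ω} (hP : P ≤ S) : IsIso F P P id :=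
  ⟨isMap_id hP, Set.image_id _⟩

theorem isConj_iff {P Q : Subgroup Ω} : F.IsConj P Q ↔ ∃ f, IsIso F P Q f := by
  refine ⟨?_, fun ⟨f, hf⟩ => hf.isConj⟩
  rintro ⟨φ, hφ, rfl⟩
  exact ⟨_, isIso_homFun hφ⟩

theorem isConj_refl {P : Subgroup Ω} (hP : P ≤ S) : F.IsConj P P := (isIso_refl hP).isConj

theorem isConj_symm {P Q : Subgroup Ω} (h : F.IsConj P Q) : F.IsConj Q P := by
  obtain ⟨f, hf⟩ := isConj_iff.1 h
  obtain ⟨g, hg, -⟩ := hf.exists_symm
  exact hg.isConj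

theorem isConj_trans {P Q R : Subgroup Ω} (h : F.IsConj P Q) (h' : F.IsConj Q R) :
    F.IsConj P R := by
  obtain ⟨f, hf⟩ := isConj_iff.1 h
  obtain ⟨g, hg⟩ := isConj_iff.1 h'
  exact (hf.comp hg).isConj

theorem le_of_isConj {P Q : Subgroup Ω} (h : F.IsConj P Q) : P ≤ S ∧ Q ≤ S := by
  obtain ⟨f, hf⟩ := isConj_iff.1 h
  exact ⟨hf.le_left, hf.le_right⟩

/-! ### Automorphism groups -/

/-- For `P ≤ S` the generating set of `Aut_F(P)` is all of it. -/
theorem mem_autGroup_iff {P : Subgroup Ω} (hP : P ≤ S) (α : MulAut P) :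
    α ∈ F.autGroup P ↔ IsIso F P P (autFun α) := by
  have him : ∀ β : MulAut P, autFun β '' (P : Set Ω) = P := fun β => by
    ext y
    constructor
    · rintro ⟨x, hx, rfl⟩
      exact autFun_mem β hx
    · intro hy
      exact ⟨β.symm ⟨y, hy⟩, SetLike.coe_mem _, by simp⟩
  constructor
  · intro hα
    refine ⟨?_, him α⟩
    induction hα using Subgroup.closure_induction with
    | mem β hβ => exact isMap_homFun hβ
    | one => exact (isMap_id hP).congr fun x hx => by simp [autFun_apply _ hx]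
    | mul β γ _ _ hβ hγ =>
      refine (hγ.comp hβ fun x hx => autFun_mem γ hx).congr fun x hx => ?_
      simp only [Function.comp_apply, autFun_apply γ hx, autFun_coe, autFun_apply (β * γ) hx]
      rfl
    | inv β _ hβ =>
      obtain ⟨g, hg, hg1, -⟩ := IsIso.exists_symm ⟨hβ, him β⟩
      refine hg.isMap.congr fun x hx => ?_
      have := hg1 _ (autFun_mem β⁻¹ hx)
      rw [autFun_apply β⁻¹ hx] at this ⊢
      rw [← this]
      congr 1
      rw [autFun_coe]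
      exact (congrArg Subtype.val (β.apply_symm_apply ⟨x, hx⟩)).symm
  · intro h
    exact Subgroup.subset_closure ((mem_hom_iff _).2 h.isMap)

theorem exists_mem_autGroup {P : Subgroup Ω} {f : Ω → Ω} (h : IsIso F P P f) :
    ∃ α ∈ F.autGroup P, ∀ x : P, (α x : Ω) = f x := by
  obtain ⟨φ, -, hv⟩ := h.isMap
  let e : P →* P :=
    MonoidHom.mk' (fun x => ⟨f x, h.mem x.2⟩) fun x y => Subtype.ext (h.isMap.map_mul x.2 y.2)
  have he : Function.Bijective e := by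
    refine ⟨fun x y hxy => Subtype.ext (h.isMap.injOn x.2 y.2 (congrArg Subtype.val hxy)), ?_⟩
    rintro ⟨y, hy⟩
    obtain ⟨x, hx, hxy⟩ := h.surj hy
    exact ⟨⟨x, hx⟩, Subtype.ext hxy⟩
  refine ⟨MulEquiv.ofBijective e he, (mem_autGroup_iff h.le_left _).2 (h.congr fun x hx => ?_),
    fun x => rfl⟩
  rw [autFun_apply _ hx]
  rfl

theorem mem_autGroup_of_isMap {P : Subgroup Ω} {f : Ω → Ω} (h : IsMap F P f) (α : MulAut P)
    (hv : ∀ x : P, (α x : Ω) = f x) : α ∈ F.autGroup P :=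
  Subgroup.subset_closure (mem_hom_of_isMap h hv)

/-- `Aut_K(P)` consists of the automorphisms induced by single elements of `K`. -/
theorem mem_autInducedBy_iff (K P : Subgroup Ω) (α : MulAut P) :
    α ∈ autInducedBy K P ↔ ∃ g ∈ K, ∀ x : P, (α x : Ω) = g * x * g⁻¹ := by
  refine ⟨fun hα => ?_, fun h => Subgroup.subset_closure h⟩
  induction hα using Subgroup.closure_induction with
  | mem β hβ => exact hβ
  | one => exact ⟨1, K.one_mem, fun x => by simp⟩
  | mul β γ _ _ hβ hγ =>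
    obtain ⟨g, hg, hgv⟩ := hβ
    obtain ⟨k, hk, hkv⟩ := hγ
    exact ⟨g * k, K.mul_mem hg hk, fun x => by
      rw [MulAut.mul_apply, hgv, hkv]; simp [mul_assoc]⟩
  | inv β _ hβ =>
    obtain ⟨g, hg, hgv⟩ := hβ
    refine ⟨g⁻¹, K.inv_mem hg, fun x => ?_⟩
    have := hgv (β⁻¹ x)
    rw [MulAut.apply_inv_self] at this
    rw [this]
    simp [mul_assoc]

theorem autInducedBy_mono {K L : Subgroup Ω} (h : K ≤ L) (P : Subgroup Ω) :
    autInducedBy K P ≤ autInducedBy L P := by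
  intro α hα
  obtain ⟨g, hg, hv⟩ := (mem_autInducedBy_iff K P α).1 hα
  exact (mem_autInducedBy_iff L P α).2 ⟨g, h hg, hv⟩

theorem autInducedBy_le_autGroup {P : Subgroup Ω} (hP : P ≤ S) :
    autInducedBy S P ≤ F.autGroup P := by
  intro α hα
  obtain ⟨g, hg, hv⟩ := (mem_autInducedBy_iff S P α).1 hα
  exact mem_autGroup_of_isMap (isMap_conj hP hg) α hv

end CfsgLib.Fusion
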