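import Cfsg.Agent.Lib.Fusion.TransvectionCube
import Cfsg.Agent.Lib.MaxClassLayers.Signs

/-!
An essential elementary abelian subgroup of order `p ^ 3` does not occur over a group of maximal
class of order at least `p ^ 5`, `p` odd.
-/

set_option autoImplicit false
set_option linter.style.haveILetI false
set_option linter.unusedSectionVars false

namespace CfsgLib.Fusion.MaxClassCube

open Cfsg Cfsg.FusionSystem CfsgLib.Fusion
open scoped commutatorElement
open CfsgLib.UniserialPower (Γ gamma_commutator)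
open CfsgLib.MaxClassLayers

universe u

variable {Ω : Type u} [Group Ω] {S : Subgroup Ω} [Finite S] {F : FusionSystem S} {p : ℕ}
  [hp : Fact p.Prime]

/-- An elementary abelian essential subgroup of order `p ^ 3`. -/
structure Cube (F : FusionSystem S) (p : ℕ) (E : Subgroup Ω) : Prop where
  pgroup : IsPGroup p S
  sat : F.IsSaturated p
  ess : F.IsEssential p E
  card : Nat.card E = p ^ 3
  comm : ∀ a ∈ E, ∀ b ∈ E, a * b = b * a
  exp : ∀ a ∈ E, a ^ p = 1

namespace Cube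

variable {E : Subgroup Ω}

theorem le (h : Cube F p E) : E ≤ S := h.ess.1.1

theorem mem_of_commute (h : Cube F p E) {g : Ω} (hg : g ∈ S) (hc : ∀ x ∈ E, g * x = x * g) :
    g ∈ E :=
  h.ess.1.2 E (isConj_refl h.le)
    (Subgroup.mem_inf.2 ⟨hg, Subgroup.mem_centralizer_iff.2 fun x hx => (hc x hx).symm⟩)

theorem exists_strong (h : Cube F p E) :
    ∃ H : Subgroup (F.autGroup E), Cfsg.IsStronglyPEmbedded p H := by
  haveI := finite_of_le h.le
  haveI := finite_mulAut E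
  obtain ⟨-, -, hn, H, hH⟩ := h.ess
  haveI := hn
  obtain ⟨htop, hpH, hN⟩ := Strong.isStronglyPEmbedded_iff.1 hH
  obtain ⟨q, hq⟩ : ∃ q, q = QuotientGroup.mk' ((Cfsg.Inn E).subgroupOf (F.autGroup E)) := ⟨_, rfl⟩
  have hinj : Function.Injective q := by
    rw [← MonoidHom.ker_eq_bot_iff, hq, QuotientGroup.ker_mk', Subgroup.eq_bot_iff_forall]
    intro α hα
    obtain ⟨u, hu, hv⟩ := (mem_inn_iff _).1 hα
    refine Subtype.ext (MulEquiv.ext fun x => Subtype.ext ?_)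
    refine (hv x).trans ?_
    show u * (x : Ω) * u⁻¹ = (x : Ω)
    rw [h.comm u hu x x.2, mul_inv_cancel_right]
  have hsurj : Function.Surjective q := hq ▸ QuotientGroup.mk'_surjective _
  refine ⟨H.comap q, Strong.isStronglyPEmbedded_iff.2 ⟨fun e => htop ?_, ?_, fun Q hQ hQH hne n hn => ?_⟩⟩
  · rw [← Subgroup.map_comap_eq_self_of_surjective hsurj H, e, Subgroup.map_top_of_surjective _ hsurj]
  · refine hpH.trans (dvd_of_eq ?_)
    conv_lhs => rw [← Subgroup.map_comap_eq_self_of_surjective hsurj H]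
    rw [Subgroup.card_map_of_injective hinj]
  · refine Subgroup.mem_comap.2 (hN (Q.map q) (hQ.map q) (Subgroup.map_le_iff_le_comap.2 hQH)
      (fun e => hne ((Subgroup.map_eq_bot_iff_of_injective Q hinj).1 e)) ?_)
    haveI : Finite (F.autGroup E ⧸ (Cfsg.Inn E).subgroupOf (F.autGroup E)) := inferInstance
    refine Subgroup.mem_normalizer_fintype ?_
    rintro _ ⟨x, hx, rfl⟩
    exact ⟨n * x * n⁻¹, (Subgroup.mem_normalizer_iff.1 hn x).1 hx, by rw [map_mul, map_mul, map_inv]⟩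

end Cube

/-- The information extracted from one transvection induced by `S`. -/
structure Data (F : FusionSystem S) (p : ℕ) (E A c l : Subgroup Ω) (a : Ω) (τ : Ω → Ω) :
    Prop where
  le : A ≤ E
  cardA : Nat.card A = p ^ 2
  cle : c ≤ A
  cardc : Nat.card c = p
  lle : l ≤ A
  cardl : Nat.card l = p
  disj : ∀ x ∈ l, x ∈ c → x = 1
  split : ∀ x ∈ A, ∃ u ∈ l, ∃ v ∈ c, x = u * v
  mema : a ∈ E
  notMema : a ∉ A
  decomp : ∀ x ∈ E, ∃ i : ℤ, ∃ y ∈ A, x = a ^ i * y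
  cardN : Nat.card (normalizerIn S E) = p ^ 4
  fixA : ∀ k ∈ normalizerIn S E, ∀ x ∈ A, k * x = x * k
  disp : ∀ k ∈ normalizerIn S E, ∀ x ∈ E, k * x * k⁻¹ * x⁻¹ ∈ c
  iso : IsIso F E E τ
  fixl : ∀ x ∈ l, τ x = x
  invc : ∀ x ∈ c, τ x = x⁻¹
  inva : τ a = a⁻¹
  equiv : ∀ k ∈ normalizerIn S E, ∀ x ∈ E, τ (k * x * k⁻¹) = k * τ x * k⁻¹

theorem exists_data {E : Subgroup Ω} (h : Cube F p E) {g : Ω} (hg : g ∈ normalizerIn S E)
    (hgE : g ∉ E)
    (hin : (∃ A₀ ≤ E, Nat.card A₀ = p ^ 2 ∧ (∀ x ∈ A₀, g * x = x * g) ∧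
        ∀ x ∈ E, g * x * g⁻¹ * x⁻¹ ∈ A₀) ∨
      (∃ C₀ ≤ E, Nat.card C₀ = p ∧ (∀ x ∈ C₀, g * x = x * g) ∧
        ∀ x ∈ E, g * x * g⁻¹ * x⁻¹ ∈ C₀)) :
    ∃ A c l : Subgroup Ω, ∃ a : Ω, ∃ τ : Ω → Ω, Data F p E A c l a τ ∧
      ∀ x ∈ E, g * x = x * g → x ∈ A := by
  classical
  haveI := finite_of_le h.le
  haveI := finite_mulAut E
  letI : CommGroup E :=
    { (inferInstance : Group E) with mul_comm := fun a b => Subtype.ext (h.comm a a.2 b b.2) }
  have hVp : IsPGroup p E := h.pgroup.to_le h.le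
  have hval : ∀ {k : Ω} (hk : k ∈ normalizerIn S E) (x : E),
      ((x⁻¹ * conjAut E hk.2 x : E) : Ω) = k * x * k⁻¹ * (x : Ω)⁻¹ := fun {k} hk x => by
    rw [mul_comm, Subgroup.coe_mul, conjAut_apply, Subgroup.coe_inv]
  have hfix : ∀ {k : Ω} (hk : k ∈ normalizerIn S E) (x : E),
      conjAut E hk.2 x = x ↔ k * (x : Ω) = (x : Ω) * k := fun {k} hk x => by
    rw [Subtype.ext_iff, conjAut_apply, mul_inv_eq_iff_eq_mul]
  have hne : conjAut E hg.2 ≠ 1 := fun e => hgE (h.mem_of_commute hg.1 fun x hx =>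
    (hfix hg ⟨x, hx⟩).1 (by rw [e]; rfl))
  -- the transvection
  obtain ⟨cV, AV, htr⟩ : ∃ cV AV, TransvectionCube.Tr p (conjAut E hg.2) cV AV := by
    rcases hin with ⟨A₀, hA₀, hA₀c, hA₀g, hA₀d⟩ | ⟨C₀, hC₀, hC₀c, hC₀g, hC₀d⟩
    · obtain ⟨AV, hAV⟩ : ∃ AV, AV = A₀.subgroupOf E := ⟨_, rfl⟩
      have memA : ∀ x : E, x ∈ AV ↔ (x : Ω) ∈ A₀ := fun x => by rw [hAV]; rfl
      have hidx : AV.index = p := by
        have h1 := AV.card_mul_index
        have hc : Nat.card AV = Nat.card A₀ := by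
          rw [hAV]; exact Nat.card_congr (Subgroup.subgroupOfEquivOfLe hA₀).toEquiv
        rw [hc, hA₀c, h.card, pow_succ p 2] at h1
        exact Nat.eq_of_mul_eq_mul_left (pow_pos hp.out.pos 2) h1
      have hf : ∀ x ∈ AV, conjAut E hg.2 x = x := fun x hx =>
        (hfix hg x).2 (hA₀g x ((memA x).1 hx))
      obtain ⟨v, hv⟩ : ∃ v : E, v ∉ AV := by
        by_contra hcon
        push Not at hcon
        exact hne (MulEquiv.ext fun x => hf x (hcon x))
      have hd : ∀ x, x⁻¹ * conjAut E hg.2 x ∈ AV := fun x => by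
        rw [memA, hval hg]; exact hA₀d x x.2
      have hv1 : v⁻¹ * conjAut E hg.2 v ≠ 1 := fun e => hne (MulEquiv.ext fun x => by
        obtain ⟨i, a, ha, rfl⟩ := TransvectionCube.exists_decomp hidx hv x
        rw [map_mul, map_zpow, hf a ha, (inv_mul_eq_one.1 e).symm, MulAut.one_apply])
      have hord : orderOf (v⁻¹ * conjAut E hg.2 v) = p :=
        orderOf_eq_prime (Subtype.ext (by rw [Subgroup.coe_pow, h.exp _ (SetLike.coe_mem _)]; rfl)) hv1
      refine ⟨Subgroup.zpowers (v⁻¹ * conjAut E hg.2 v), AV, Subgroup.zpowers_le.2 (hd v),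
        by rw [Nat.card_zpowers, hord], hidx, fun x => ⟨fun hx => ?_, hf x⟩,
        TransvectionCube.diff_mem hidx hv hf (Subgroup.mem_zpowers _)⟩
      by_contra hxA
      refine hne (MulEquiv.ext fun y => ?_)
      obtain ⟨i, a, ha, rfl⟩ := TransvectionCube.exists_decomp hidx hxA y
      rw [map_mul, map_zpow, hf a ha, hx, MulAut.one_apply]
    · refine ⟨C₀.subgroupOf E, TransvectionCube.exists_tr hne ?_ ?_ ?_⟩
      · rw [Nat.card_congr (Subgroup.subgroupOfEquivOfLe hC₀).toEquiv, hC₀c]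
      · exact fun x hx => (hfix hg x).2 (hC₀g x hx)
      · exact fun x => by rw [Subgroup.mem_subgroupOf, hval hg]; exact hC₀d x x.2
  obtain ⟨hQ, τ, hτ, lV, hlc, hlA, hlc0, hsup, hτl, hτc, aV, haV, hτa⟩ :=
    TransvectionCube.main hVp h.card (F.autGroup E) h.exists_strong htr
      (autInducedBy_le_autGroup h.le (conjAut_mem_autInducedBy hg.2 hg.1))
  have hQ' : ∀ k (hk : k ∈ normalizerIn S E),
      (∀ x ∈ AV, conjAut E hk.2 x = x) ∧ ∀ x, x⁻¹ * conjAut E hk.2 x ∈ cV := fun k hk =>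
    hQ (autInducedBy S E) (autInducedBy_le_autGroup h.le) (isPGroup_autInducedBy h.pgroup E)
      (conjAut_mem_autInducedBy hg.2 hg.1) _ (conjAut_mem_autInducedBy hk.2 hk.1)
  have hmap : ∀ K : Subgroup E, Nat.card (K.map E.subtype) = Nat.card K := fun K =>
    Subgroup.card_map_of_injective E.subtype_injective
  have hmem : ∀ (K : Subgroup E) (x : E), (x : Ω) ∈ K.map E.subtype ↔ x ∈ K := fun K x =>
    Subgroup.mem_map_iff_mem E.subtype_injective
  have hτA : ∀ x ∈ AV, τ x ∈ AV := by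
    intro x hx
    obtain ⟨v, hv, u, hu, rfl⟩ := Subgroup.mem_sup.1 (hsup.ge hx)
    rw [map_mul, hτc v hv, hτl u hu]
    exact mul_mem (htr.le (inv_mem hv)) (hlA hu)
  have hcardA : Nat.card AV = p ^ 2 := by
    have h1 := AV.card_mul_index
    rw [htr.index, h.card, pow_succ p 2] at h1
    exact Nat.eq_of_mul_eq_mul_right hp.out.pos h1
  refine ⟨AV.map E.subtype, cV.map E.subtype, lV.map E.subtype, aV, autFun τ,
    ⟨Subgroup.map_subtype_le AV, by rw [hmap, hcardA], Subgroup.map_mono htr.le,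
      by rw [hmap, htr.cardc], Subgroup.map_mono hlA, by rw [hmap, hlc], ?_, ?_, aV.2,
      fun e => haV ((hmem AV aV).1 e), ?_, ?_, ?_, ?_, ?_, ?_, ?_, ?_, ?_⟩, ?_⟩
  · rintro _ ⟨x, hx, rfl⟩ hxc
    have h1 : x ∈ lV ⊓ cV := ⟨hx, (hmem cV x).1 hxc⟩
    rw [hlc0, Subgroup.mem_bot] at h1
    rw [h1]; rfl
  · rintro _ ⟨x, hx, rfl⟩
    obtain ⟨v, hv, u, hu, rfl⟩ := Subgroup.mem_sup.1 (hsup.ge hx)
    exact ⟨u, ⟨u, hu, rfl⟩, v, ⟨v, hv, rfl⟩, by rw [Subgroup.coe_subtype, Subgroup.coe_mul,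
      h.comm (v : Ω) v.2 u u.2]⟩
  · intro x hx
    obtain ⟨i, y, hy, hxy⟩ := TransvectionCube.exists_decomp htr.index haV ⟨x, hx⟩
    refine ⟨i, y, ⟨y, hy, rfl⟩, ?_⟩
    rw [← Subgroup.coe_zpow, ← Subgroup.coe_mul, ← hxy]
  · -- the normalizer has order `p ^ 4`
    haveI : Finite (normalizerIn S E) := finite_of_le (S := S) inf_le_left
    have hEN : E ≤ normalizerIn S E := le_normalizerIn h.le
    have hcE : Nat.card (E.subgroupOf (normalizerIn S E)) = p ^ 3 := by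
      rw [Nat.card_congr (Subgroup.subgroupOfEquivOfLe hEN).toEquiv, h.card]
    have hle : Nat.card (normalizerIn S E ⧸ E.subgroupOf (normalizerIn S E)) ≤ p := by
      refine le_of_le_of_eq (Nat.card_le_card_of_injective
        (fun q : normalizerIn S E ⧸ E.subgroupOf (normalizerIn S E) =>
          (⟨aV⁻¹ * conjAut E q.out.2.2 aV, (hQ' _ q.out.2).2 aV⟩ : cV)) fun q r e => ?_) htr.cardc
      rw [← q.out_eq', ← r.out_eq', QuotientGroup.eq, Subgroup.mem_subgroupOf]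
      obtain ⟨k, hk, hkdef⟩ : ∃ k, ∃ hk : k ∈ normalizerIn S E, k = ((q.out : Ω))⁻¹ * r.out :=
        ⟨_, (normalizerIn S E).mul_mem ((normalizerIn S E).inv_mem q.out.2) r.out.2, rfl⟩
      show (q.out : Ω)⁻¹ * r.out ∈ E
      rw [← hkdef]
      refine h.mem_of_commute hk.1 fun x hx => (hfix hk ⟨x, hx⟩).1 ?_
      have hka : conjAut E hk.2 aV = aV := by
        have e1 : conjAut E q.out.2.2 aV = conjAut E r.out.2.2 aV :=
          mul_left_cancel (congrArg Subtype.val e)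
        refine Subtype.ext ?_
        have e2 := congrArg Subtype.val e1
        rw [conjAut_apply, conjAut_apply] at e2
        rw [conjAut_apply, hkdef, mul_inv_rev, inv_inv]
        calc (q.out : Ω)⁻¹ * r.out * aV * ((r.out : Ω)⁻¹ * q.out)
            = (q.out : Ω)⁻¹ * ((r.out : Ω) * aV * (r.out : Ω)⁻¹) * q.out := by group
          _ = aV := by rw [← e2]; group
      obtain ⟨i, y, hy, hxy⟩ := TransvectionCube.exists_decomp htr.index haV ⟨x, hx⟩
      rw [hxy, map_mul, map_zpow, hka, (hQ' k hk).1 y hy]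
    have hlt : p ^ 3 < Nat.card (normalizerIn S E) := by
      rw [← h.card]
      refine lt_of_le_of_ne (Subgroup.card_le_of_le hEN) fun e => ?_
      exact (lt_normalizerIn h.pgroup h.le (ne_of_isEssential h.pgroup h.sat h.ess)).ne
        (Subgroup.eq_of_le_of_card_ge hEN e.ge)
    obtain ⟨k, hk⟩ := IsPGroup.iff_card.1
      ((h.pgroup.to_le inf_le_left : IsPGroup p (normalizerIn S E)))
    have h4 : Nat.card (normalizerIn S E) ≤ p ^ 4 := by
      rw [Subgroup.card_eq_card_quotient_mul_card_subgroup (E.subgroupOf (normalizerIn S E)), hcE,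
        pow_succ' p 3]
      exact Nat.mul_le_mul_right _ hle
    rw [hk] at hlt h4 ⊢
    have := (Nat.pow_lt_pow_iff_right hp.out.one_lt).1 hlt
    have := (Nat.pow_le_pow_iff_right hp.out.one_lt).1 h4
    rw [show k = 4 by omega]
  · rintro k hk _ ⟨x, hx, rfl⟩
    exact (hfix hk x).1 ((hQ' k hk).1 x hx)
  · intro k hk x hx
    have := (hQ' k hk).2 ⟨x, hx⟩
    rw [← hmem, hval hk] at this
    exact this
  · exact (mem_autGroup_iff h.le τ).1 hτ
  · rintro _ ⟨x, hx, rfl⟩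
    rw [Subgroup.coe_subtype, autFun_coe, hτl x hx]
  · rintro _ ⟨x, hx, rfl⟩
    rw [Subgroup.coe_subtype, autFun_coe, hτc x hx]; rfl
  · rw [autFun_coe, hτa]; rfl
  · intro k hk x hx
    have key : ∀ y : E, τ (conjAut E hk.2 y) = conjAut E hk.2 (τ y) := by
      intro y
      obtain ⟨i, z, hz, rfl⟩ := TransvectionCube.exists_decomp htr.index haV y
      rw [map_mul, map_mul, map_zpow, map_zpow, map_mul, map_mul, map_zpow, map_zpow,
        (hQ' k hk).1 z hz, (hQ' k hk).1 _ (hτA z hz), hτa, map_inv]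
      congr 2
      conv_lhs => rw [show conjAut E hk.2 aV = aV * (aV⁻¹ * conjAut E hk.2 aV) by
        rw [mul_inv_cancel_left]]
      rw [map_mul τ, hτa, hτc _ ((hQ' k hk).2 aV), mul_inv, inv_inv, inv_mul_cancel_left]
    have e := congrArg Subtype.val (key ⟨x, hx⟩)
    rw [← autFun_coe, conjAut_apply, conjAut_apply, ← autFun_coe] at e
    exact e
  · intro x hx hc
    exact (hmem AV ⟨x, hx⟩).2 ((htr.fix _).1 ((hfix hg ⟨x, hx⟩).2 hc))

/-- An automorphism of a normal abelian subgroup respecting a central series extends to `S`. -/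
theorem extend_to_top (hS : IsPGroup p S) (hF : F.IsSaturated p) {T W Z : Subgroup Ω} (hTS : T ≤ S)
    (hTn : ∀ g ∈ S, ∀ x ∈ T, g * x * g⁻¹ ∈ T) (hTc : ∀ a ∈ T, ∀ b ∈ T, a * b = b * a)
    (hZW : Z ≤ W) (hW : ∀ g ∈ S, ∀ x ∈ T, g * x * g⁻¹ * x⁻¹ ∈ W)
    (hZ : ∀ g ∈ S, ∀ x ∈ W, g * x * g⁻¹ * x⁻¹ ∈ Z) (hZc : ∀ g ∈ S, ∀ x ∈ Z, g * x = x * g)
    {β : MulAut T} (hβ : β ∈ F.autGroup T) (hβW : ∀ x : T, (x : Ω) ∈ W → (β x : Ω) ∈ W)
    (hβZ : ∀ x : T, (x : Ω) ∈ Z → (β x : Ω) ∈ Z) :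
    ∃ σ : MulAut S, ∀ (x : S) (hx : (x : Ω) ∈ T), (σ x : Ω) = β ⟨x, hx⟩ := by
  classical
  haveI := finite_of_le hTS
  haveI := finite_mulAut T
  letI : CommGroup T :=
    { (inferInstance : Group T) with mul_comm := fun a b => Subtype.ext (hTc a a.2 b b.2) }
  have hN : normalizerIn S T = S := le_antisymm inf_le_left fun g hg =>
    ⟨hg, mem_normalizer_of_conj_mem hTS (hTn g hg)⟩
  have hfn : F.IsFullyNormalized T := ⟨hTS, fun Q _ => by
    rw [hN]; exact Subgroup.card_le_of_le inf_le_left⟩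
  obtain ⟨K, hK⟩ : ∃ K : Subgroup (MulAut T), K = F.autGroup T ⊓
      Transvections.seriesStab (Z.subgroupOf T) (W.subgroupOf T) (fun x hx => hZW hx) := ⟨_, rfl⟩
  have hKp : IsPGroup p K := hK ▸
    (Transvections.isPGroup_seriesStab (hS.to_le hTS) _ _ _).to_le inf_le_right
  have hAK : autInducedBy S T ≤ K := by
    intro α hα
    obtain ⟨g, hg, hv⟩ := (mem_autInducedBy_iff S T α).1 hα
    rw [hK]
    refine ⟨autInducedBy_le_autGroup hTS hα, Transvections.mem_seriesStab.2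
      ⟨fun x hx => Subtype.ext ?_, fun x hx => ?_, fun x => ?_⟩⟩
    · rw [hv, hZc g hg x hx, mul_inv_cancel_right]
    · rw [Subgroup.mem_subgroupOf, mul_comm, Subgroup.coe_mul, hv, Subgroup.coe_inv]
      exact hZ g hg x hx
    · rw [Subgroup.mem_subgroupOf, mul_comm, Subgroup.coe_mul, hv, Subgroup.coe_inv]
      exact hW g hg x x.2
  have hKA : K ≤ autInducedBy S T := by
    obtain ⟨γ, -, hγ⟩ := ((isFullyAutomized_iff hS).1
      (isFullyAutomized_of_isFullyNormalized hS hF hfn)).2 K (hK ▸ inf_le_left) hKp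
    have h1 : K.map (MulAut.conj γ).toMonoidHom ≤ autInducedBy S T := by
      rintro _ ⟨k, hk, rfl⟩
      exact hγ k hk
    refine (Subgroup.eq_of_le_of_card_ge hAK ?_).ge
    rw [← Subgroup.card_map_of_injective (f := (MulAut.conj γ).toMonoidHom)
      (MulAut.conj γ).injective (K := K)]
    exact Subgroup.card_le_of_le h1
  -- `β` normalizes `K`
  have hinvsub : ∀ D : Subgroup T, (∀ x ∈ D, β x ∈ D) → ∀ x ∈ D, β⁻¹ x ∈ D := by
    intro D hD x hx
    have h1 : D.map β.toMonoidHom = D := Subgroup.eq_of_le_of_card_ge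
      (by rintro _ ⟨y, hy, rfl⟩; exact hD y hy)
      (Subgroup.card_map_of_injective (MulEquiv.injective β)).ge
    obtain ⟨y, hy, rfl⟩ := h1.ge hx
    show β⁻¹ (β y) ∈ D
    rwa [MulAut.inv_apply_self]
  have hconj : ∀ α ∈ K, β * α * β⁻¹ ∈ K := by
    intro α hα
    rw [hK] at hα ⊢
    obtain ⟨hαG, hαs⟩ := hα
    obtain ⟨h1, h2, h3⟩ := Transvections.mem_seriesStab.1 hαs
    refine ⟨(F.autGroup T).mul_mem ((F.autGroup T).mul_mem hβ hαG) ((F.autGroup T).inv_mem hβ),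
      Transvections.mem_seriesStab.2 ⟨fun x hx => ?_, fun x hx => ?_, fun x => ?_⟩⟩
    · show β (α (β⁻¹ x)) = x
      rw [h1 _ (hinvsub _ (fun y hy => hβZ y hy) x hx), MulAut.apply_inv_self]
    · show x⁻¹ * β (α (β⁻¹ x)) ∈ _
      obtain ⟨y, rfl⟩ := β.surjective x
      rw [MulAut.inv_apply_self, ← map_inv, ← map_mul]
      refine hβZ _ (h2 y ?_)
      simpa using hinvsub (W.subgroupOf T) (fun z hz => hβW z hz) _ hx
    · show x⁻¹ * β (α (β⁻¹ x)) ∈ _
      obtain ⟨y, rfl⟩ := β.surjective x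
      rw [MulAut.inv_apply_self, ← map_inv, ← map_mul]
      exact hβW _ (h3 y)
  have hiso := (mem_autGroup_iff hTS β).1 hβ
  obtain ⟨f, hf, hfv⟩ :=
    (isReceptive_iff.1 (isReceptive_of_isFullyNormalized hS hF hfn)).2 T _ hiso
  have hnPhi : S ≤ nPhi S T (autFun β) := by
    intro g hg
    have hgn : g ∈ Subgroup.normalizer (T : Set Ω) := mem_normalizer_of_conj_mem hTS (hTn g hg)
    obtain ⟨k, hk, hkv⟩ := (mem_autInducedBy_iff S T _).1
      (hKA (hconj _ (hAK (conjAut_mem_autInducedBy hgn hg))))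
    refine ⟨hg, hgn, k, hk, fun x hx => ?_⟩
    have e := hkv (β ⟨x, hx⟩)
    rw [MulAut.mul_apply, MulAut.mul_apply, MulAut.inv_apply_self] at e
    rw [autFun_apply β (conj_mem_of_mem_normalizer hgn hx), autFun_apply β hx]
    exact e
  have hfS : IsIso F S S f := (hf.mono hnPhi).isIso_of_card_le (fun x hx => hf.mem (hnPhi hx)) le_rfl
  refine ⟨hfS.equiv, fun x hx => ?_⟩
  rw [hfS.equiv_apply, hfv _ hx, autFun_apply β hx]

theorem gamma_abelian {X : Type u} [Group X] [Finite X] {n : ℕ} (h : MC X p n) (hn : 5 ≤ n) {a b : X}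
    (ha : a ∈ Γ X (n - 4)) (hb : b ∈ Γ X (n - 4)) : Commute a b := by
  rcases Nat.lt_or_ge 5 n with h5 | h5
  · exact commute_of_high h (by omega) ha hb
  · rw [show n - 4 = 1 by omega] at ha hb
    refine commutatorElement_eq_one_iff_mul_comm.1 (Subgroup.mem_bot.1 ?_)
    rw [← gamma_eq_bot h (show n - 1 ≤ 4 by omega)]
    exact comm_one_one h (by omega) ha hb

/-- The orbit of `E` under the normalizer of `N_S(E)` covers all but the normal member. -/
theorem exists_conj_of_notMem {E P A T : Subgroup Ω} (hS : IsPGroup p S) (hP : P = normalizerIn S E)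
    (hEP : E ≤ P) (hTP : T ≤ P) (hAE : A ≤ E) (hAT : A ≤ T) (hA : Nat.card A = p ^ 2)
    (hE : Nat.card E = p ^ 3) (hT : Nat.card T = p ^ 3) (hPc : Nat.card P = p ^ 4) {g : Ω}
    (hgS : g ∈ S) (hgP : g ∉ P) (hgconj : ∀ x ∈ P, g * x * g⁻¹ ∈ P)
    (hgA : ∀ x ∈ A, g * x * g⁻¹ ∈ A) (hgT : ∀ x ∈ T, g * x * g⁻¹ ∈ T) (hne : E ≠ T)
    {x : Ω} (hxP : x ∈ P) (hxT : x ∉ T) :
    ∃ i : ℕ, (g ^ i)⁻¹ * x * g ^ i ∈ E := by
  classical
  have hPS : P ≤ S := hP ▸ inf_le_left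
  haveI := finite_of_le (hEP.trans hPS)
  haveI := finite_of_le hPS
  haveI := finite_of_le (hTP.trans hPS)
  have hpow : ∀ (D : Subgroup Ω), (∀ y ∈ D, g * y * g⁻¹ ∈ D) → ∀ (i : ℕ), ∀ y ∈ D,
      g ^ i * y * (g ^ i)⁻¹ ∈ D := by
    intro D hD i
    induction i with
    | zero => intro y hy; simpa using hy
    | succ i ih =>
      intro y hy
      rw [pow_succ', mul_inv_rev, show g * g ^ i * y * ((g ^ i)⁻¹ * g⁻¹) =
        g * (g ^ i * y * (g ^ i)⁻¹) * g⁻¹ by group]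
      exact hD _ (ih y hy)
  -- no power `g ^ d`, `0 < d < p`, normalizes `E`
  have hd : ∀ d, 0 < d → d < p → ¬ ∀ y ∈ E, g ^ d * y * (g ^ d)⁻¹ ∈ E := by
    intro d hd0 hdp hall
    have hmem : g ^ d ∈ P := by
      rw [hP]
      exact ⟨S.pow_mem hgS d, mem_normalizer_of_conj_mem (hEP.trans hPS) hall⟩
    obtain ⟨m, hm⟩ := hS ⟨g, hgS⟩
    have hm' : g ^ p ^ m = 1 := congrArg Subtype.val hm
    obtain ⟨j, hj⟩ := exists_pow_eq_self_of_coprime (x := g) (n := d)
      ((Nat.Coprime.pow_right m ((hp.out.coprime_iff_not_dvd.2 fun hd' =>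
        absurd (Nat.le_of_dvd hd0 hd') (by omega)).symm)).coprime_dvd_right
          (orderOf_dvd_of_pow_eq_one hm'))
    exact hgP (hj ▸ P.pow_mem hmem j)
  let D : Set Ω := {y | y ∈ E ∧ y ∉ A}
  let D' : Set Ω := {y | y ∈ P ∧ y ∉ T}
  have hDsub : ∀ {y : Ω}, y ∈ D → ∀ i : ℕ, g ^ i * y * (g ^ i)⁻¹ ∈ D' := by
    rintro y ⟨hyE, hyA⟩ i
    refine ⟨hpow P hgconj i y (hEP hyE), fun hT' => hyA ?_⟩
    -- `E ∩ T = A`
    have hyT : y ∈ T := by
      have h1 : T.map (MulAut.conj (g ^ i)).toMonoidHom = T := Subgroup.eq_of_le_of_card_ge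
        (by rintro _ ⟨z, hz, rfl⟩; exact hpow T hgT i z hz)
        (Subgroup.card_map_of_injective (MulAut.conj (g ^ i)).injective).ge
      obtain ⟨z, hz, hzy⟩ := h1.ge hT'
      rwa [← (MulAut.conj (g ^ i)).injective (show MulAut.conj (g ^ i) z = MulAut.conj (g ^ i) y from hzy)]
    have heq : E ⊓ T = A := by
      haveI : Finite (E ⊓ T : Subgroup Ω) := finite_of_le (S := S) (inf_le_left.trans (hEP.trans hPS))
      refine (Subgroup.eq_of_le_of_card_ge (le_inf hAE hAT) ?_).symm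
      obtain ⟨k, hk⟩ := IsPGroup.iff_card.1 ((hS.to_le (inf_le_left.trans (hEP.trans hPS))) :
        IsPGroup p (E ⊓ T : Subgroup Ω))
      have hlt : Nat.card (E ⊓ T : Subgroup Ω) < Nat.card E :=
        lt_of_le_of_ne (Subgroup.card_le_of_le inf_le_left) fun e => hne
          (Subgroup.eq_of_le_of_card_ge ((Subgroup.eq_of_le_of_card_ge inf_le_left e.ge).ge.trans
            inf_le_right) (by rw [hT, hE]))
      rw [hk, hE] at hlt
      rw [hk, hA]
      exact Nat.pow_le_pow_right hp.out.pos (by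
        have := (Nat.pow_lt_pow_iff_right hp.out.one_lt).1 hlt; omega)
    exact heq ▸ ⟨hyE, hyT⟩
  haveI : Finite D := Set.Finite.to_subtype (Set.Finite.subset (Set.toFinite (E : Set Ω)) fun y hy => hy.1)
  haveI : Finite D' := Set.Finite.to_subtype (Set.Finite.subset (Set.toFinite (P : Set Ω)) fun y hy => hy.1)
  let Φ : Fin p × D → D' := fun q => ⟨g ^ (q.1 : ℕ) * q.2 * (g ^ (q.1 : ℕ))⁻¹, hDsub q.2.2 q.1⟩
  have hinj : Function.Injective Φ := by
    have main : ∀ (i k : Fin p) (y z : D), (i : ℕ) ≤ k → Φ (i, y) = Φ (k, z) → (i, y) = (k, z) := by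
      intro i k y z hik heq
      have e := congrArg Subtype.val heq
      obtain ⟨d, hd'⟩ : ∃ d, (k : ℕ) = i + d := ⟨k - i, by omega⟩
      have e' : (y : Ω) = g ^ d * z * (g ^ d)⁻¹ := by
        have : g ^ (i : ℕ) * y * (g ^ (i : ℕ))⁻¹ =
            g ^ (i : ℕ) * (g ^ d * z * (g ^ d)⁻¹) * (g ^ (i : ℕ))⁻¹ := by
          rw [show g ^ (i : ℕ) * y * (g ^ (i : ℕ))⁻¹ = g ^ (k : ℕ) * z * (g ^ (k : ℕ))⁻¹ from e,
            hd', pow_add]
          group
        exact mul_left_cancel (mul_right_cancel this)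
      rcases Nat.eq_zero_or_pos d with rfl | hdpos
      · rw [pow_zero, one_mul, inv_one, mul_one] at e'
        rw [Fin.ext (by omega : (i : ℕ) = k), Subtype.ext e']
      · exfalso
        -- `E` and its conjugate share more than `A`
        refine hd d hdpos (by have := k.2; omega) ?_
        haveI : Finite (E.map (MulAut.conj (g ^ d)).toMonoidHom : Subgroup Ω) :=
          Nat.finite_of_card_ne_zero (by
            rw [Subgroup.card_map_of_injective (MulAut.conj _).injective, hE]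
            exact pow_ne_zero _ hp.out.ne_zero)
        have hle : A ⊔ Subgroup.zpowers (y : Ω) ≤ E ⊓ E.map (MulAut.conj (g ^ d)).toMonoidHom := by
          refine sup_le (le_inf hAE fun a ha => ?_) (Subgroup.zpowers_le.2 ⟨y.2.1, z, z.2.1, e'.symm⟩)
          have h1 : A.map (MulAut.conj (g ^ d)).toMonoidHom = A := by
            haveI := finite_of_le (hAE.trans (hEP.trans hPS))
            exact Subgroup.eq_of_le_of_card_ge
              (by rintro _ ⟨w, hw, rfl⟩; exact hpow A hgA d w hw)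
              (Subgroup.card_map_of_injective (MulAut.conj (g ^ d)).injective).ge
          exact Subgroup.map_mono hAE (h1.ge ha)
        have hfull : E ⊓ E.map (MulAut.conj (g ^ d)).toMonoidHom = E := by
          refine Subgroup.eq_of_le_of_card_ge inf_le_left ?_
          haveI : Finite (E ⊓ E.map (MulAut.conj (g ^ d)).toMonoidHom : Subgroup Ω) :=
            finite_of_le (S := S) (inf_le_left.trans (hEP.trans hPS))
          obtain ⟨m, hm⟩ := IsPGroup.iff_card.1 ((hS.to_le (inf_le_left.trans (hEP.trans hPS))) :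
            IsPGroup p (E ⊓ E.map (MulAut.conj (g ^ d)).toMonoidHom : Subgroup Ω))
          have hlt : Nat.card A < Nat.card (E ⊓ E.map (MulAut.conj (g ^ d)).toMonoidHom : Subgroup Ω) := by
            refine lt_of_le_of_ne (Subgroup.card_le_of_le (le_sup_left.trans hle)) fun e => y.2.2 ?_
            exact (Subgroup.eq_of_le_of_card_ge (le_sup_left.trans hle) e.ge).ge
              (hle (Subgroup.mem_sup_right (Subgroup.mem_zpowers _)))
          rw [hA, hm] at hlt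
          rw [hE, hm]
          exact Nat.pow_le_pow_right hp.out.pos (by
            have := (Nat.pow_lt_pow_iff_right hp.out.one_lt).1 hlt; omega)
        have hEeq : E = E.map (MulAut.conj (g ^ d)).toMonoidHom :=
          Subgroup.eq_of_le_of_card_ge (hfull.ge.trans inf_le_right)
            (by rw [Subgroup.card_map_of_injective (MulAut.conj _).injective])
        exact fun w hw => hEeq.ge ⟨w, hw, rfl⟩
    rintro ⟨i, y⟩ ⟨k, z⟩ heq
    rcases le_total (i : ℕ) k with hik | hik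
    · exact main i k y z hik heq
    · exact (main k i z y hik heq.symm).symm
  have hcardD : Nat.card D = p ^ 3 - p ^ 2 := by
    rw [Nat.card_coe_set_eq, show D = (E : Set Ω) \ (A : Set Ω) from rfl,
      Set.ncard_sdiff (SetLike.coe_subset_coe.2 hAE) (Set.toFinite (E : Set Ω) |>.subset (SetLike.coe_subset_coe.2 hAE)),
      ← Nat.card_coe_set_eq, ← Nat.card_coe_set_eq]
    exact congrArg₂ _ hE hA
  have hcardD' : Nat.card D' = p ^ 4 - p ^ 3 := by
    rw [Nat.card_coe_set_eq, show D' = (P : Set Ω) \ (T : Set Ω) from rfl,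
      Set.ncard_sdiff (SetLike.coe_subset_coe.2 hTP) (Set.toFinite _),
      ← Nat.card_coe_set_eq, ← Nat.card_coe_set_eq]
    exact congrArg₂ _ hPc hT
  have hsurj : Function.Surjective Φ :=
    ((Nat.bijective_iff_injective_and_card Φ).2 ⟨hinj, by
      rw [Nat.card_prod, Nat.card_fin, hcardD, hcardD', Nat.mul_sub, ← pow_succ', ← pow_succ']⟩).2
  obtain ⟨⟨i, y⟩, hy⟩ := hsurj ⟨x, hxP, hxT⟩
  refine ⟨i, ?_⟩
  rw [← show g ^ (i : ℕ) * (y : Ω) * (g ^ (i : ℕ))⁻¹ = x from congrArg Subtype.val hy]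
  simpa [mul_assoc] using y.2.1

/-- **No elementary abelian essential subgroup of order `p ^ 3`.** -/
theorem false_of_cube {E : Subgroup Ω} (h : Cube F p E) (hp2 : p ≠ 2) {n : ℕ}
    (hM : MC S p n) (hn : 5 ≤ n) : False := by
  classical
  have hS := h.pgroup
  have hF := h.sat
  have hES := h.le
  haveI := finite_of_le hES
  obtain ⟨E', hE'⟩ : ∃ E' : Subgroup S, E' = E.subgroupOf S := ⟨_, rfl⟩
  have memE : ∀ v : S, v ∈ E' ↔ (v : Ω) ∈ E := fun v => by rw [hE']; rfl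
  have hcE : Nat.card E' = p ^ 3 := by
    rw [hE', Nat.card_congr (Subgroup.subgroupOfEquivOfLe hES).toEquiv, h.card]
  have hC : ∀ v : S, (∀ e ∈ E', v * e = e * v) → v ∈ E' := fun v hv => (memE v).2
    (h.mem_of_commute v.2 fun x hx => congrArg Subtype.val (hv ⟨x, hES hx⟩ ((memE _).2 hx)))
  have hcardT : Nat.card (Γ S (n - 4)) = p ^ 3 := by
    rw [card_gamma hM (by omega) (by omega), show n - 1 - (n - 4) = 3 by omega]
  have hcard2 : Nat.card (Γ S (n - 3)) = p ^ 2 := by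
    rw [card_gamma hM (by omega) (by omega), show n - 1 - (n - 3) = 2 by omega]
  have hcard1 : Nat.card (Γ S (n - 2)) = p := by
    rw [card_gamma hM (by omega) (by omega), show n - 1 - (n - 2) = 1 by omega, pow_one]
  have hZcen : ∀ z ∈ Γ S (n - 2), ∀ v : S, Commute v z := fun z hz v =>
    commute_of_high hM (i := 0) (by omega) (Subgroup.mem_top v) hz
  have hZE : Γ S (n - 2) ≤ E' := fun z hz => hC z fun e _ => (hZcen z hz e).symm.eq
  have hTW : ∀ g : S, ∀ x ∈ Γ S (n - 4), ⁅g, x⁆ ∈ Γ S (n - 3) := fun g x hx => by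
    rw [← commutatorElement_inv, show n - 3 = n - 4 + 1 by omega]
    exact inv_mem (gamma_commutator hx)
  have hWZ : ∀ g : S, ∀ x ∈ Γ S (n - 3), ⁅g, x⁆ ∈ Γ S (n - 2) := fun g x hx => by
    rw [← commutatorElement_inv, show n - 2 = n - 3 + 1 by omega]
    exact inv_mem (gamma_commutator hx)
  -- the second centre is inside, or `E` is inside the first two-step centralizer
  have hB := (twoStep_eq hp2 n S hM hn).1
  have hEM : ¬ Γ S (n - 3) ≤ E' → E' ≤ twoStep S 1 := by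
    intro hW
    have hsub : ∀ e ∈ E', e ∈ twoStep S 1 ∨ e ∈ twoStep S (n - 3) := by
      intro e he
      by_contra hcon
      push Not at hcon
      have hu : Uniform S n e := by
        refine ⟨fun e1 => hcon.1 (gamma_one_le_twoStep 1 e1), fun k hk hkn => ?_⟩
        rcases Nat.lt_or_ge (k + 3) n with hlt | hge
        · rw [hB k hk (by omega)]; exact hcon.1
        · rw [show k = n - 3 by omega]; exact hcon.2
      have h1 := Subgroup.card_le_of_le (show E' ≤ Subgroup.centralizer {e} from fun v hv =>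
        Subgroup.mem_centralizer_singleton_iff.2
          (Subtype.ext (h.comm v ((memE v).1 hv) e ((memE e).1 he))))
      rw [hcE, (uniform_facts hM hu).1] at h1
      have := (Nat.pow_le_pow_iff_right hp.out.one_lt).1 h1
      omega
    by_contra hnot
    obtain ⟨e₁, he₁, he₁'⟩ := SetLike.not_le_iff_exists.1 hnot
    have hC' : E' ≤ twoStep S (n - 3) := by
      intro e he
      rcases hsub e he with h1 | h1
      · have he₁C := (hsub e₁ he₁).resolve_left he₁'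
        have h2 := (hsub (e * e₁) (E'.mul_mem he he₁)).resolve_left fun h3 =>
          he₁' (by simpa using mul_mem (inv_mem h1) h3)
        simpa using mul_mem h2 (inv_mem he₁C)
      · exact h1
    refine hW fun z hz => hC z fun e he => ?_
    refine commutatorElement_eq_one_iff_mul_comm.1 (Subgroup.mem_bot.1 ?_)
    rw [← gamma_eq_bot hM (show n - 1 ≤ n - 3 + 2 by omega)]
    exact hC' he z hz
  have hTE : ∀ t ∈ Γ S (n - 4), ∀ e ∈ E', ⁅t, e⁆ ∈ E' := by
    intro t ht e he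
    by_cases hW : Γ S (n - 3) ≤ E'
    · refine hW ?_
      rw [show n - 3 = n - 4 + 1 by omega]
      exact gamma_commutator ht
    · refine hZE ?_
      have h1 := hEM hW he
      rw [← hB (n - 4) (by omega) (by omega)] at h1
      have h2 := h1 t ht
      rwa [show n - 4 + 2 = n - 2 by omega] at h2
  have hTN : ∀ t ∈ Γ S (n - 4), (t : Ω) ∈ normalizerIn S E := fun t ht =>
    ⟨t.2, mem_normalizer_of_conj_mem hES fun x hx => by
      have h1 := (memE _).1 (hTE t ht ⟨x, hES hx⟩ ((memE _).2 hx))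
      have h2 := E.mul_mem h1 hx
      simpa [commutatorElement_def] using h2⟩
  -- images in the ambient group
  obtain ⟨TΩ, hTΩ⟩ : ∃ K, K = (Γ S (n - 4)).map S.subtype := ⟨_, rfl⟩
  obtain ⟨WΩ, hWΩ⟩ : ∃ K, K = (Γ S (n - 3)).map S.subtype := ⟨_, rfl⟩
  obtain ⟨ZΩ, hZΩ⟩ : ∃ K, K = (Γ S (n - 2)).map S.subtype := ⟨_, rfl⟩
  have memT : ∀ v : S, (v : Ω) ∈ TΩ ↔ v ∈ Γ S (n - 4) := fun v => by
    rw [hTΩ]; exact Subgroup.mem_map_iff_mem S.subtype_injective
  have memW : ∀ v : S, (v : Ω) ∈ WΩ ↔ v ∈ Γ S (n - 3) := fun v => by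
    rw [hWΩ]; exact Subgroup.mem_map_iff_mem S.subtype_injective
  have memZ : ∀ v : S, (v : Ω) ∈ ZΩ ↔ v ∈ Γ S (n - 2) := fun v => by
    rw [hZΩ]; exact Subgroup.mem_map_iff_mem S.subtype_injective
  have hTS : TΩ ≤ S := hTΩ ▸ Subgroup.map_subtype_le _
  haveI := finite_of_le hTS
  have hWT : WΩ ≤ TΩ := by rw [hWΩ, hTΩ]; exact Subgroup.map_mono (gamma_anti (by omega))
  have hZW : ZΩ ≤ WΩ := by rw [hZΩ, hWΩ]; exact Subgroup.map_mono (gamma_anti (by omega))
  have hZS : ZΩ ≤ S := hZW.trans (hWT.trans hTS)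
  have hcT : Nat.card TΩ = p ^ 3 := by
    rw [hTΩ, Subgroup.card_map_of_injective S.subtype_injective, hcardT]
  have hcW : Nat.card WΩ = p ^ 2 := by
    rw [hWΩ, Subgroup.card_map_of_injective S.subtype_injective, hcard2]
  have hcZ : Nat.card ZΩ = p := by
    rw [hZΩ, Subgroup.card_map_of_injective S.subtype_injective, hcard1]
  have hTn : ∀ g ∈ S, ∀ x ∈ TΩ, g * x * g⁻¹ ∈ TΩ := fun g hg x hx =>
    (memT ⟨_, S.mul_mem (S.mul_mem hg (hTS hx)) (S.inv_mem hg)⟩).2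
      ((inferInstance : (Γ S (n - 4)).Normal).conj_mem ⟨x, hTS hx⟩ ((memT _).1 hx) ⟨g, hg⟩)
  have hTc : ∀ a ∈ TΩ, ∀ b ∈ TΩ, a * b = b * a := fun a ha b hb =>
    congrArg Subtype.val (gamma_abelian hM hn ((memT ⟨a, hTS ha⟩).1 ha) ((memT ⟨b, hTS hb⟩).1 hb)).eq
  have hWcomm : ∀ g ∈ S, ∀ x ∈ TΩ, g * x * g⁻¹ * x⁻¹ ∈ WΩ := fun g hg x hx =>
    (memW ⁅(⟨g, hg⟩ : S), ⟨x, hTS hx⟩⁆).2 (hTW _ _ ((memT _).1 hx))
  have hZcomm : ∀ g ∈ S, ∀ x ∈ WΩ, g * x * g⁻¹ * x⁻¹ ∈ ZΩ := fun g hg x hx =>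
    (memZ ⁅(⟨g, hg⟩ : S), ⟨x, hTS (hWT hx)⟩⁆).2 (hWZ _ _ ((memW _).1 hx))
  have hZc : ∀ g ∈ S, ∀ x ∈ ZΩ, g * x = x * g := fun g hg x hx =>
    congrArg Subtype.val (hZcen ⟨x, hZS hx⟩ ((memZ _).1 hx) ⟨g, hg⟩).eq
  have hZEΩ : ZΩ ≤ E := fun z hz => (memE ⟨z, hZS hz⟩).1 (hZE ((memZ _).1 hz))
  -- the normal subgroup differs from `E`
  have hTneE : TΩ ≠ E := by
    intro hTE'
    obtain ⟨e, -, he, he', -, -⟩ := exists_pair hM (by omega : 4 ≤ n)
    have hN : normalizerIn S E = S := le_antisymm inf_le_left fun g hg =>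
      ⟨hg, mem_normalizer_of_conj_mem hES (hTE' ▸ hTn g hg)⟩
    have heE : (e : Ω) ∉ E := fun hmem => he' (gamma_anti (by omega)
      ((memT e).1 (hTE' ▸ hmem)))
    have he4 : e ∈ twoStep S (n - 4) := by rw [hB (n - 4) (by omega) (by omega)]; exact he
    obtain ⟨A, c, l, a, τ, hD, -⟩ := exists_data h (hN.symm ▸ e.2 : (e : Ω) ∈ normalizerIn S E) heE
      (Or.inr ⟨ZΩ, hZEΩ, hcZ, fun x hx => hZc e e.2 x hx, fun x hx => by
        refine (memZ ⁅e, ⟨x, hES hx⟩⁆).2 ?_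
        rw [← commutatorElement_inv]
        have h2 := he4 ⟨x, hES hx⟩ ((memT _).1 (hTE'.symm ▸ hx))
        rw [show n - 4 + 2 = n - 2 by omega] at h2
        exact inv_mem h2⟩)
    have h4 := hD.cardN
    rw [hN, hM.card] at h4
    have := Nat.pow_right_injective hp.out.two_le h4
    omega
  obtain ⟨w, hw, hwE⟩ : ∃ w ∈ TΩ, w ∉ E := by
    by_contra hcon
    push Not at hcon
    exact hTneE (Subgroup.eq_of_le_of_card_ge hcon (by rw [h.card, hcT]))
  have hwN : w ∈ normalizerIn S E := hTN ⟨w, hTS hw⟩ ((memT _).1 hw)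
  -- the data, with axis `T ∩ E`
  obtain ⟨A, c, l, a, τ, hD, hAeq⟩ :
      ∃ A c l : Subgroup Ω, ∃ a : Ω, ∃ τ : Ω → Ω, Data F p E A c l a τ ∧ A = TΩ ⊓ E := by
    have hcut : ∀ A : Subgroup Ω, Nat.card A = p ^ 2 → p ^ 2 ≤ Nat.card (TΩ ⊓ E : Subgroup Ω) →
        (∀ x ∈ TΩ ⊓ E, x ∈ A) → A = TΩ ⊓ E := by
      intro A hA hge hsub
      haveI : Finite A := Nat.finite_of_card_ne_zero (hA ▸ pow_ne_zero 2 hp.out.ne_zero)
      exact (Subgroup.eq_of_le_of_card_ge hsub (hA ▸ hge)).symm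
    by_cases hW : Γ S (n - 3) ≤ E'
    · have hWE : WΩ ≤ E := fun x hx => (memE ⟨x, hTS (hWT hx)⟩).1 (hW ((memW _).1 hx))
      obtain ⟨A, c, l, a, τ, hD, hfix⟩ := exists_data h hwN hwE (Or.inl ⟨WΩ, hWE, hcW,
        fun x hx => hTc w hw x (hWT hx),
        fun x hx => (memW ⁅(⟨w, hTS hw⟩ : S), ⟨x, hES hx⟩⁆).2 (by
          rw [show n - 3 = n - 4 + 1 by omega]
          exact gamma_commutator ((memT ⟨w, hTS hw⟩).1 hw))⟩)
      refine ⟨A, c, l, a, τ, hD, hcut A hD.cardA ?_ fun x hx =>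
        hfix x hx.2 (hTc w hw x hx.1)⟩
      rw [← hcW]
      haveI : Finite (TΩ ⊓ E : Subgroup Ω) := finite_of_le (S := S) (inf_le_left.trans hTS)
      exact Subgroup.card_le_of_le (le_inf hWT hWE)
    · obtain ⟨z, hz, hzE⟩ : ∃ z ∈ WΩ, z ∉ E := by
        obtain ⟨z, hz, hzE⟩ := SetLike.not_le_iff_exists.1 hW
        exact ⟨z, (memW z).2 hz, fun e => hzE ((memE z).2 e)⟩
      have hzS : z ∈ S := hTS (hWT hz)
      obtain ⟨A, c, l, a, τ, hD, -⟩ := exists_data h
        (hTN ⟨z, hzS⟩ ((memT _).1 (hWT hz))) hzE (Or.inr ⟨ZΩ, hZEΩ, hcZ,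
          fun x hx => hZc z hzS x hx, fun x hx => (memZ ⁅(⟨z, hzS⟩ : S), ⟨x, hES hx⟩⁆).2 (by
            rw [show n - 2 = n - 3 + 1 by omega]
            exact gamma_commutator ((memW ⟨z, hzS⟩).1 hz))⟩)
      -- `T ∩ E` has order `p ^ 2` as `T E` has order at most `p ^ 4`
      have hge : p ^ 2 ≤ Nat.card (TΩ ⊓ E : Subgroup Ω) := by
        haveI : Finite (normalizerIn S E) := finite_of_le (S := S) inf_le_left
        haveI : Finite (TΩ ⊓ E : Subgroup Ω) := finite_of_le (S := S) (inf_le_left.trans hTS)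
        have hTN' : TΩ ≤ normalizerIn S E := fun x hx => hTN ⟨x, hTS hx⟩ ((memT _).1 hx)
        let ι : TΩ → normalizerIn S E ⧸ E.subgroupOf (normalizerIn S E) :=
          fun x => QuotientGroup.mk ⟨x, hTN' x.2⟩
        have hq : Nat.card (normalizerIn S E ⧸ E.subgroupOf (normalizerIn S E)) = p := by
          have h1 := Subgroup.card_eq_card_quotient_mul_card_subgroup
            (E.subgroupOf (normalizerIn S E))
          rw [hD.cardN, Nat.card_congr (Subgroup.subgroupOfEquivOfLe (le_normalizerIn hES)).toEquiv,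
            h.card, pow_succ' p 3] at h1
          exact (Nat.eq_of_mul_eq_mul_right (pow_pos hp.out.pos 3) h1).symm
        have h1 : Nat.card TΩ ≤
            Nat.card (normalizerIn S E ⧸ E.subgroupOf (normalizerIn S E)) *
              Nat.card (TΩ ⊓ E : Subgroup Ω) := by
          rw [← Nat.card_prod]
          refine Nat.card_le_card_of_injective
            (fun x : TΩ => (ι x, (⟨(Function.invFun ι (ι x) : TΩ)⁻¹ * (x : Ω), ?_⟩ :
              (TΩ ⊓ E : Subgroup Ω)))) ?_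
          · have h2 : ι (Function.invFun ι (ι x)) = ι x := Function.invFun_eq ⟨x, rfl⟩
            exact ⟨TΩ.mul_mem (TΩ.inv_mem (SetLike.coe_mem _)) x.2,
              (QuotientGroup.eq.1 h2 : (⟨(Function.invFun ι (ι x) : TΩ), hTN' (SetLike.coe_mem _)⟩ :
                normalizerIn S E)⁻¹ * ⟨x, hTN' x.2⟩ ∈ E.subgroupOf (normalizerIn S E))⟩
          · intro x y e
            have e1 := congrArg Prod.fst e
            have e2 := congrArg (fun q => ((q.2 : (TΩ ⊓ E : Subgroup Ω)) : Ω)) e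
            simp only at e1 e2
            rw [e1] at e2
            exact Subtype.ext (mul_left_cancel e2)
        rw [hcT, hq, pow_succ' p 2] at h1
        exact Nat.le_of_mul_le_mul_left h1 hp.out.pos
      refine ⟨A, c, l, a, τ, hD, hcut A hD.cardA hge fun x hx => ?_⟩
      obtain ⟨i, y, hy, rfl⟩ := hD.decomp x hx.2
      by_contra hxA
      -- `x` commutes with `w`, hence lies on the axis
      refine hwE (h.mem_of_commute (hTS hw) fun u hu => ?_)
      have hwx : w * (a ^ i * y) = a ^ i * y * w := hTc w hw _ hx.1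
      have hwy : w * y = y * w := hD.fixA w hwN y hy
      have hwa : Commute w (a ^ i) := by
        have : w * a ^ i * y = a ^ i * w * y := by
          rw [mul_assoc, hwx, mul_assoc, ← hwy, mul_assoc]
        exact mul_right_cancel this
      have hai : a ^ i ∉ A := fun e => hxA (A.mul_mem e hy)
      obtain ⟨j, hj⟩ : ∃ j : ℤ, (a ^ i) ^ j = a := by
        have hap : a ^ p = 1 := h.exp a hD.mema
        have ha1 : a ≠ 1 := fun e => hD.notMema (e ▸ A.one_mem)
        have hcard : Nat.card (Subgroup.zpowers a) = p := by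
          rw [Nat.card_zpowers, orderOf_eq_prime hap ha1]
        obtain ⟨j, hj⟩ := Subgroup.mem_zpowers_iff.1 (mem_zpowers_of_prime_card hcard
          (g := (⟨a ^ i, Subgroup.zpow_mem_zpowers a i⟩ : Subgroup.zpowers a))
          (g' := (⟨a, Subgroup.mem_zpowers a⟩ : Subgroup.zpowers a))
          fun e => hai (by rw [show a ^ i = 1 from congrArg Subtype.val e]; exact A.one_mem))
        exact ⟨j, congrArg Subtype.val hj⟩
      obtain ⟨i', y', hy', rfl⟩ := hD.decomp u hu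
      have hwa' : Commute w a := hj ▸ hwa.zpow_right j
      exact ((hwa'.zpow_right i').mul_right (hD.fixA w hwN y' hy')).eq
  obtain ⟨P, hP⟩ : ∃ P, P = normalizerIn S E := ⟨_, rfl⟩
  have hPS : P ≤ S := hP ▸ inf_le_left
  haveI := finite_of_le hPS
  have hEP : E ≤ P := hP ▸ le_normalizerIn hES
  have hTP : TΩ ≤ P := fun x hx => hP ▸ hTN ⟨x, hTS hx⟩ ((memT _).1 hx)
  have hPc : Nat.card P = p ^ 4 := hP ▸ hD.cardN
  have hAT : A ≤ TΩ := hAeq ▸ inf_le_left
  have hwA : w ∉ A := fun e => hwE (hD.le e)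
  have hAc : ∀ x ∈ A, ∀ k ∈ P, k * x = x * k := fun x hx k hk => hD.fixA k (hP ▸ hk) x hx
  -- the extension of `τ` to the normalizer
  obtain ⟨f, hf0, hfv⟩ :=
    (isReceptive_iff.1 (isReceptive_of_isFullyNormalized hS hF h.ess.2.1)).2 E τ hD.iso
  have hf : IsMap F P f := hf0.mono fun k hk => by
    rw [hP] at hk
    exact ⟨hk.1, hk.2, k, hk.1, fun x hx => hD.equiv k hk x hx⟩
  have hfE : IsIso F E E f := hD.iso.congr fun x hx => (hfv x hx).symm
  have hfP : ∀ k ∈ P, f k ∈ P := fun k hk => by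
    rw [hP]
    exact hf.mem_normalizerIn hEP hfE hk (hP ▸ hk : k ∈ normalizerIn S E).2
  have hfk : ∀ k ∈ P, k⁻¹ * f k ∈ E := fun k hk => by
    refine h.mem_of_commute (S.mul_mem (S.inv_mem (hPS hk)) (hPS (hfP k hk))) fun y hy => ?_
    obtain ⟨x, hx, rfl⟩ := hfE.surj hy
    have hk' : k ∈ normalizerIn S E := hP ▸ hk
    have hkx : k * x * k⁻¹ ∈ E := conj_mem_of_mem_normalizer hk'.2 hx
    have e1 : f (k * x * k⁻¹) = k * f x * k⁻¹ := by
      rw [hfv _ hkx, hfv x hx]; exact hD.equiv k hk' x hx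
    rw [hf.map_conj hk (hEP hx)] at e1
    calc k⁻¹ * f k * f x = k⁻¹ * (f k * f x * (f k)⁻¹) * f k := by group
      _ = f x * (k⁻¹ * f k) := by rw [e1]; group
  have hdecT : ∀ d ∈ TΩ, ∃ i : ℤ, ∃ x ∈ A, d = w ^ i * x := by
    letI : CommGroup TΩ :=
      { (inferInstance : Group TΩ) with mul_comm := fun a b => Subtype.ext (hTc a a.2 b b.2) }
    intro d hd
    have hidx : (A.subgroupOf TΩ).index = p := by
      have h1 := (A.subgroupOf TΩ).card_mul_index
      rw [Nat.card_congr (Subgroup.subgroupOfEquivOfLe hAT).toEquiv, hD.cardA, hcT, pow_succ p 2]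
        at h1
      exact Nat.eq_of_mul_eq_mul_left (pow_pos hp.out.pos 2) h1
    obtain ⟨i, x, hx, e⟩ := TransvectionCube.exists_decomp hidx (v := (⟨w, hw⟩ : TΩ))
      (fun e => hwA e) (⟨d, hd⟩ : TΩ)
    refine ⟨i, x, hx, ?_⟩
    have e' := congrArg Subtype.val e
    rwa [Subgroup.coe_mul, Subgroup.coe_zpow] at e'
  have hτA : ∀ x ∈ A, f x ∈ A := fun x hx => by
    obtain ⟨u, hu, v, hv, rfl⟩ := hD.split x hx
    rw [hfv _ (hD.le hx), hD.iso.isMap.map_mul (hD.le (hD.lle hu)) (hD.le (hD.cle hv)),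
      hD.fixl u hu, hD.invc v hv]
    exact A.mul_mem (hD.lle hu) (A.inv_mem (hD.cle hv))
  -- the normal subgroup is invariant
  have hfw : f w ∈ TΩ := by
    by_contra hnot
    have hPne : P ≠ S := fun e => by
      have h1 := hPc
      rw [e, hM.card] at h1
      have := Nat.pow_right_injective hp.out.two_le h1
      omega
    obtain ⟨g, hgN, hgP⟩ := SetLike.exists_of_lt (lt_normalizerIn hS hPS hPne)
    have hgconj : ∀ x ∈ P, g * x * g⁻¹ ∈ P := fun x hx => conj_mem_of_mem_normalizer hgN.2 hx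
    have hgT : ∀ x ∈ TΩ, g * x * g⁻¹ ∈ TΩ := fun x hx => hTn g hgN.1 x hx
    have hgA : ∀ x ∈ A, g * x * g⁻¹ ∈ A := by
      intro x hx
      have hxT := hgT x (hAT hx)
      rw [hAeq]
      refine ⟨hxT, h.mem_of_commute (hTS hxT) fun u hu => ?_⟩
      have hu' : g⁻¹ * u * g ∈ P := by
        have := conj_mem_of_mem_normalizer (Subgroup.inv_mem _ hgN.2) (hEP hu)
        rwa [inv_inv] at this
      calc g * x * g⁻¹ * u = g * (x * (g⁻¹ * u * g)) * g⁻¹ := by group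
        _ = g * ((g⁻¹ * u * g) * x) * g⁻¹ := by rw [hAc x hx _ hu']
        _ = u * (g * x * g⁻¹) := by group
    obtain ⟨i, hi⟩ := exists_conj_of_notMem hS hP hEP hTP hD.le hAT hD.cardA h.card hcT hPc
      hgN.1 hgP hgconj hgA hgT hTneE.symm (hfP w (hTP hw)) hnot
    obtain ⟨R, hR⟩ : ∃ R, R = E.map (MulAut.conj (g ^ i)).toMonoidHom := ⟨_, rfl⟩
    have hRc : Nat.card R = p ^ 3 := by
      rw [hR, Subgroup.card_map_of_injective (MulAut.conj _).injective, h.card]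
    haveI : Finite R := Nat.finite_of_card_ne_zero (hRc ▸ pow_ne_zero 3 hp.out.ne_zero)
    have hAR : A ≤ R := by
      haveI := finite_of_le (hD.le.trans hES)
      have hpow : ∀ x ∈ A, g ^ i * x * (g ^ i)⁻¹ ∈ A := by
        clear hi hR hRc
        induction i with
        | zero => intro x hx; simpa using hx
        | succ i ih =>
          intro x hx
          rw [pow_succ', mul_inv_rev, show g * g ^ i * x * ((g ^ i)⁻¹ * g⁻¹) =
            g * (g ^ i * x * (g ^ i)⁻¹) * g⁻¹ by group]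
          exact hgA _ (ih x hx)
      have h1 : A.map (MulAut.conj (g ^ i)).toMonoidHom = A := Subgroup.eq_of_le_of_card_ge
        (by rintro _ ⟨z, hz, rfl⟩; exact hpow z hz)
        (Subgroup.card_map_of_injective (MulAut.conj (g ^ i)).injective).ge
      rw [hR]
      exact h1.ge.trans (Subgroup.map_mono hD.le)
    have hfwR : f w ∈ R := by
      rw [hR]
      refine ⟨_, hi, ?_⟩
      rw [MulEquiv.coe_toMonoidHom, MulAut.conj_apply]
      group
    have hfT : ∀ d ∈ TΩ, f d ∈ R := fun d hd => by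
      obtain ⟨j, x, hx, rfl⟩ := hdecT d hd
      rw [hf.map_mul (P.zpow_mem (hTP hw) j) (hTP (hAT hx)), hf.map_zpow (hTP hw)]
      exact R.mul_mem (R.zpow_mem hfwR j) (hAR (hτA x hx))
    have hconj1 : F.IsConj TΩ R :=
      ((hf.mono hTP).isIso_of_card_le hfT (by rw [hRc, hcT])).isConj
    have hconj2 : F.IsConj E R :=
      ((isMap_conj (F := F) hES (S.pow_mem hgN.1 i)).isIso_of_card_le (B := R)
        (fun x hx => hR ▸ ⟨x, hx, rfl⟩) (by rw [hRc, h.card])).isConj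
    have h4 := h.ess.2.1.2 TΩ (isConj_trans hconj2 (isConj_symm hconj1))
    have hNT : normalizerIn S TΩ = S := le_antisymm inf_le_left fun g hg =>
      ⟨hg, mem_normalizer_of_conj_mem hTS (hTn g hg)⟩
    rw [hNT, hD.cardN, hM.card] at h4
    have := (Nat.pow_le_pow_iff_right hp.out.one_lt).1 h4
    omega
  -- the `p`th iterate
  have he0 : w⁻¹ * f w ∈ A :=
    hAeq ▸ ⟨TΩ.mul_mem (TΩ.inv_mem hw) hfw, hfk w (hTP hw)⟩
  obtain ⟨u₀, hu₀, v₀, hv₀, he⟩ := hD.split _ he0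
  have hiter : ∀ i : ℕ, IsMap F P (f^[i]) ∧ (∀ k ∈ P, f^[i] k ∈ P) ∧
      (∀ u ∈ l, f^[i] u = u) ∧ (∀ v ∈ c, f^[i] v = if Odd i then v⁻¹ else v) ∧
      f^[i] w = w * u₀ ^ i * (if Odd i then v₀ else 1) := by
    intro i
    induction i with
    | zero =>
      exact ⟨(isMap_id hPS).congr fun _ _ => rfl, fun k hk => hk, fun u _ => rfl,
        fun v _ => by simp, by simp⟩
    | succ i ih =>
      obtain ⟨h1, h2, h3, h4, h5⟩ := ih
      have hfu : ∀ u ∈ l, f u = u := fun u hu => by rw [hfv u (hD.le (hD.lle hu)), hD.fixl u hu]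
      have hfc : ∀ v ∈ c, f v = v⁻¹ := fun v hv => by rw [hfv v (hD.le (hD.cle hv)), hD.invc v hv]
      refine ⟨(h1.comp hf h2).congr fun x _ => (Function.iterate_succ_apply' f i x).symm,
        fun k hk => ?_, fun u hu => ?_, fun v hv => ?_, ?_⟩
      · rw [Function.iterate_succ_apply']; exact hfP _ (h2 k hk)
      · rw [Function.iterate_succ_apply', h3 u hu, hfu u hu]
      · rw [Function.iterate_succ_apply', h4 v hv]
        rcases Nat.even_or_odd i with hev | hod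
        · rw [if_neg (Nat.not_odd_iff_even.2 hev), if_pos hev.add_one, hfc v hv]
        · rw [if_pos hod, if_neg (Nat.not_odd_iff_even.2 hod.add_one), hfc _ (c.inv_mem hv), inv_inv]
      · have hwP := hTP hw
        have huP : u₀ ^ i ∈ P := hEP (hD.le (hD.lle (l.pow_mem hu₀ i)))
        have hfw' : f w = w * u₀ * v₀ := by
          rw [mul_assoc, ← he, mul_inv_cancel_left]
        have hcuv : v₀ * u₀ ^ i = u₀ ^ i * v₀ :=
          h.comm _ (hD.le (hD.cle hv₀)) _ (hD.le (hD.lle (l.pow_mem hu₀ i)))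
        rw [Function.iterate_succ_apply', h5]
        rcases Nat.even_or_odd i with hev | hod
        · rw [if_neg (Nat.not_odd_iff_even.2 hev), if_pos hev.add_one, mul_one,
            hf.map_mul hwP huP, hfu _ (l.pow_mem hu₀ i), hfw', mul_assoc (w * u₀), hcuv, pow_succ']
          group
        · rw [if_pos hod, if_neg (Nat.not_odd_iff_even.2 hod.add_one), mul_one,
            hf.map_mul (P.mul_mem hwP huP) (hEP (hD.le (hD.cle hv₀))),
            hf.map_mul hwP huP, hfu _ (l.pow_mem hu₀ i), hfc v₀ hv₀, hfw', mul_assoc (w * u₀), hcuv,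
            ← mul_assoc, mul_inv_cancel_right, pow_succ', ← mul_assoc]
  obtain ⟨hφ, hφP, hφl, hφc, hφw⟩ := hiter p
  have hpodd : Odd p := hp.out.odd_of_ne_two hp2
  have hu₀p : u₀ ^ p = 1 := h.exp u₀ (hD.le (hD.lle hu₀))
  rw [if_pos hpodd, hu₀p, mul_one] at hφw
  have hφc' : ∀ v ∈ c, f^[p] v = v⁻¹ := fun v hv => by rw [hφc v hv, if_pos hpodd]
  have hφT : ∀ d ∈ TΩ, d⁻¹ * f^[p] d ∈ c := by
    intro d hd
    obtain ⟨j, x, hx, rfl⟩ := hdecT d hd
    obtain ⟨u, hu, v, hv, rfl⟩ := hD.split x hx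
    have hcT' : ∀ z ∈ c, z ∈ TΩ := fun z hz => hAT (hD.cle hz)
    have huT : u ∈ TΩ := hAT (hD.lle hu)
    rw [hφ.map_mul (P.zpow_mem (hTP hw) j) (hTP (TΩ.mul_mem huT (hcT' v hv))),
      hφ.map_zpow (hTP hw), hφ.map_mul (hTP huT) (hTP (hcT' v hv)), hφl u hu, hφc' v hv, hφw,
      (show Commute w v₀ from hTc w hw v₀ (hcT' v₀ hv₀)).mul_zpow]
    rw [show (w ^ j * (u * v))⁻¹ * (w ^ j * v₀ ^ j * (u * v⁻¹)) =
      v⁻¹ * (u⁻¹ * (v₀ ^ j * u)) * v⁻¹ by group,
      hTc (v₀ ^ j) (hcT' _ (c.zpow_mem hv₀ j)) u huT, inv_mul_cancel_left]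
    exact c.mul_mem (c.mul_mem (c.inv_mem hv) (c.zpow_mem hv₀ j)) (c.inv_mem hv)
  have hφTmem : ∀ d ∈ TΩ, f^[p] d ∈ TΩ := fun d hd => by
    have := TΩ.mul_mem hd (hAT (hD.cle (hφT d hd)))
    rwa [mul_inv_cancel_left] at this
  obtain ⟨α, hα, hαv⟩ := exists_mem_autGroup ((hφ.mono hTP).isIso_of_card_le hφTmem le_rfl)
  have hα1 : ∀ x : TΩ, (x : Ω)⁻¹ * α x ∈ c := fun x => by rw [hαv]; exact hφT x x.2
  have hαl : ∀ x : TΩ, (x : Ω) ∈ l → α x = x := fun x hx =>
    Subtype.ext (by rw [hαv, hφl x hx])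
  have hαc : ∀ x : TΩ, (x : Ω) ∈ c → α x = x⁻¹ := fun x hx =>
    Subtype.ext (by rw [hαv, hφc' x hx, Subgroup.coe_inv])
  -- reading the signs on `S`
  have finish : ∀ β : MulAut TΩ, β ∈ F.autGroup TΩ → (∀ x : TΩ, (x : Ω)⁻¹ * β x ∈ WΩ) →
      ∀ εW εZ : ℤ, (∀ x : TΩ, (x : Ω) ∈ WΩ → ((x : Ω) ^ εW)⁻¹ * β x ∈ ZΩ) →
      (∀ x : TΩ, (x : Ω) ∈ ZΩ → (β x : Ω) = (x : Ω) ^ εZ) →
      ∃ σ : MulAut S, Acts σ (n - 4) 1 ∧ Acts σ (n - 3) εW ∧ Acts σ (n - 2) εZ := by
    intro β hβ h1 εW εZ h2 h3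
    obtain ⟨σ, hσ⟩ := extend_to_top hS hF hTS hTn hTc hZW hWcomm hZcomm hZc hβ
      (fun x hx => by
        have := WΩ.mul_mem hx (h1 x)
        rwa [mul_inv_cancel_left] at this)
      (fun x hx => by rw [h3 x hx]; exact ZΩ.zpow_mem hx εZ)
    refine ⟨σ, fun d hd => ?_, fun d hd => ?_, fun d hd => ?_⟩
    · have hdT : (d : Ω) ∈ TΩ := (memT d).2 hd
      rw [zpow_one, show n - 4 + 1 = n - 3 by omega, ← memW, Subgroup.coe_mul, Subgroup.coe_inv,
        hσ d hdT]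
      exact h1 ⟨d, hdT⟩
    · have hdW : (d : Ω) ∈ WΩ := (memW d).2 hd
      rw [show n - 3 + 1 = n - 2 by omega, ← memZ, Subgroup.coe_mul, Subgroup.coe_inv,
        Subgroup.coe_zpow, hσ d (hWT hdW)]
      exact h2 ⟨d, hWT hdW⟩ hdW
    · have hdZ : (d : Ω) ∈ ZΩ := (memZ d).2 hd
      have : (d ^ εZ)⁻¹ * σ d = 1 := Subtype.ext (by
        rw [Subgroup.coe_mul, Subgroup.coe_inv, Subgroup.coe_zpow, hσ d (hWT (hZW hdZ)),
          h3 ⟨d, hWT (hZW hdZ)⟩ hdZ, inv_mul_cancel, Subgroup.coe_one])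
      rw [this]
      exact one_mem _
  by_cases hcZeq : c = ZΩ
  · subst hcZeq
    obtain ⟨σ, h1, h2, h3⟩ := finish α hα (fun x => hZW (hα1 x)) 1 (-1)
      (fun x hx => by rw [zpow_one]; exact hα1 x)
      (fun x hx => by rw [hαc x hx, Subgroup.coe_inv, zpow_neg_one])
    exact false_of_signs hp2 hM hn σ h1 h2 h3
  have hline : ∀ D₁ D₂ : Subgroup Ω, Nat.card D₁ = p → Nat.card D₂ = p →
      ∀ x, x ∈ D₁ → x ∈ D₂ → x ≠ 1 → D₁ = D₂ := by
    intro D₁ D₂ h1 h2 x hx1 hx2 hx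
    have key : ∀ D : Subgroup Ω, Nat.card D = p → x ∈ D → Subgroup.zpowers x = D := by
      intro D hD' hxD
      haveI : Finite D := Nat.finite_of_card_ne_zero (hD' ▸ hp.out.ne_zero)
      refine Subgroup.eq_of_le_of_card_ge (Subgroup.zpowers_le.2 hxD) ?_
      rw [hD', Nat.card_zpowers, orderOf_eq_prime (p := p) ?_ hx]
      have := pow_card_eq_one' (x := (⟨x, hxD⟩ : D))
      rw [hD'] at this
      exact congrArg Subtype.val this
    exact (key D₁ h1 hx1).symm.trans (key D₂ h2 hx2)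
  have hwit : ∃ e ∈ E, w * e * w⁻¹ * e⁻¹ ≠ 1 := by
    by_contra hcon
    push Not at hcon
    exact hwE (h.mem_of_commute (hTS hw) fun x hx =>
      mul_inv_eq_iff_eq_mul.1 (mul_inv_eq_one.1 (hcon x hx)))
  obtain ⟨e₀, he₀, hne₀⟩ := hwit
  have hWE : Γ S (n - 3) ≤ E' := by
    by_contra hW
    refine hcZeq (hline c ZΩ hD.cardc hcZ _ (hD.disp w hwN e₀ he₀) ?_ hne₀)
    have h1 := hEM hW ((memE ⟨e₀, hES he₀⟩).2 he₀)
    rw [← hB (n - 4) (by omega) (by omega)] at h1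
    have h2 := h1 ⟨w, hTS hw⟩ ((memT _).1 hw)
    rw [show n - 4 + 2 = n - 2 by omega] at h2
    exact (memZ _).2 h2
  have hWEΩ : WΩ ≤ E := fun x hx => (memE ⟨x, hTS (hWT hx)⟩).1 (hWE ((memW _).1 hx))
  have hAW : A = WΩ := by
    haveI := finite_of_le (hD.le.trans hES)
    exact (Subgroup.eq_of_le_of_card_ge (hAeq ▸ le_inf hWT hWEΩ) (by rw [hD.cardA, hcW])).symm
  have hexc : twoStep S (n - 3) ≠ twoStep S 1 := by
    intro e
    refine hcZeq (hline c ZΩ hD.cardc hcZ _ (hD.disp w hwN e₀ he₀) ?_ hne₀)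
    have h1 : (⟨e₀, hES he₀⟩ : S) ∈ twoStep S (n - 3) := fun g hg => by
      rw [show ⁅g, (⟨e₀, hES he₀⟩ : S)⁆ = 1 from commutatorElement_eq_one_iff_mul_comm.2
        (Subtype.ext (h.comm g ((memE g).1 (hWE hg)) e₀ he₀))]
      exact one_mem _
    rw [e, ← hB (n - 4) (by omega) (by omega)] at h1
    have h2 := h1 ⟨w, hTS hw⟩ ((memT _).1 hw)
    rw [show n - 4 + 2 = n - 2 by omega] at h2
    exact (memZ _).2 h2
  letI : CommGroup TΩ :=
    { (inferInstance : Group TΩ) with mul_comm := fun a b => Subtype.ext (hTc a a.2 b b.2) }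
  have hαW : ∀ x : TΩ, (x : Ω)⁻¹ * α x ∈ WΩ := fun x => hAW ▸ hD.cle (hα1 x)
  have hαsq : ∀ x : TΩ, (x : Ω) ∈ WΩ → (x : Ω) * α x ∈ l := by
    intro x hx
    obtain ⟨u, hu, v, hv, e⟩ := hD.split x (hAW ▸ hx)
    have hx' : x = (⟨u, hAT (hD.lle hu)⟩ : TΩ) * ⟨v, hAT (hD.cle hv)⟩ := Subtype.ext e
    rw [← Subgroup.coe_mul, hx', map_mul, hαl ⟨u, _⟩ hu, hαc ⟨v, _⟩ hv]
    rw [mul_mul_mul_comm, mul_inv_cancel, mul_one]
    exact l.mul_mem hu hu
  by_cases hlZ : l = ZΩ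
  · subst hlZ
    obtain ⟨σ, h1, h2, h3⟩ := finish α hα hαW (-1) 1
      (fun x hx => by rw [zpow_neg_one, inv_inv]; exact hαsq x hx)
      (fun x hx => by rw [hαl x hx, zpow_one])
    exact false_of_signs_exceptional hp2 hM hn hexc σ h1 h2 h3
  -- conjugate `α` so as to fix the centre
  obtain ⟨y, hy⟩ : ∃ y : S, y ∉ twoStep S (n - 3) := by
    by_contra hcon
    push Not at hcon
    exact twoStep_ne_top hM (show n - 3 + 3 ≤ n by omega) (eq_top_iff.2 fun s _ => hcon s)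
  have hyn : (y : Ω) ∈ Subgroup.normalizer (TΩ : Set Ω) :=
    mem_normalizer_of_conj_mem hTS (hTn y y.2)
  obtain ⟨η, hη⟩ : ∃ η, η = conjAut TΩ hyn := ⟨_, rfl⟩
  have hηG : η ∈ F.autGroup TΩ :=
    hη ▸ autInducedBy_le_autGroup hTS (conjAut_mem_autInducedBy hyn y.2)
  let K : Subgroup (MulAut TΩ) :=
    { carrier := {γ | ∀ x, x⁻¹ * γ x ∈ WΩ.subgroupOf TΩ}
      one_mem' := fun x => by rw [MulAut.one_apply, inv_mul_cancel]; exact one_mem _
      mul_mem' := fun {γ δ} hγ hδ x => by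
        rw [MulAut.mul_apply, show x⁻¹ * γ (δ x) = (x⁻¹ * δ x) * ((δ x)⁻¹ * γ (δ x)) by
          rw [mul_assoc, mul_inv_cancel_left]]
        exact mul_mem (hδ x) (hγ _)
      inv_mem' := fun {γ} hγ x => by
        obtain ⟨z, rfl⟩ := γ.surjective x
        rw [MulAut.inv_apply_self]
        have := inv_mem (hγ z)
        rwa [mul_inv_rev, inv_inv] at this }
  have hαK : α ∈ K := fun x => by
    rw [Subgroup.mem_subgroupOf, Subgroup.coe_mul, Subgroup.coe_inv]; exact hαW x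
  have hηK : η ∈ K := fun x => by
    rw [Subgroup.mem_subgroupOf, mul_comm, Subgroup.coe_mul, Subgroup.coe_inv, hη, conjAut_apply]
    exact hWcomm y y.2 x x.2
  -- a generator of `l` and what `η` does to it
  obtain ⟨x, hxl, hx1⟩ : ∃ x : TΩ, (x : Ω) ∈ l ∧ x ≠ 1 := by
    haveI : Finite l := Nat.finite_of_card_ne_zero (hD.cardl ▸ hp.out.ne_zero)
    haveI : Nontrivial l := Finite.one_lt_card_iff_nontrivial.1 (by rw [hD.cardl]; exact hp.out.one_lt)
    obtain ⟨⟨x, hx⟩, hx1⟩ := exists_ne (1 : l)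
    exact ⟨⟨x, hAT (hD.lle hx)⟩, hx, fun e => hx1 (Subtype.ext (congrArg Subtype.val e :))⟩
  have hx1' : (x : Ω) ≠ 1 := fun e => hx1 (Subtype.ext e)
  have hxW : (x : Ω) ∈ WΩ := hAW ▸ hD.lle hxl
  have hxZ : (x : Ω) ∉ ZΩ := fun e => hlZ (hline l ZΩ hD.cardl hcZ _ hxl e hx1')
  obtain ⟨z, hz⟩ : ∃ z, z = x⁻¹ * η x := ⟨_, rfl⟩
  have hzZ : (z : Ω) ∈ ZΩ := by
    rw [hz, mul_comm, Subgroup.coe_mul, Subgroup.coe_inv, hη, conjAut_apply]
    exact hZcomm y y.2 x hxW
  have hz1 : z ≠ 1 := by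
    intro e
    refine hy (mem_twoStep_of_mem hM (show 1 ≤ n - 3 by omega)
      ((memW ⟨x, hTS x.2⟩).1 hxW) ?_ ?_)
    · rw [show n - 3 + 1 = n - 2 by omega, ← memZ]; exact hxZ
    · have e1 : η x = x := (inv_mul_eq_one.1 (hz ▸ e)).symm
      rw [commutatorElement_eq_one_iff_mul_comm.2 (Subtype.ext ?_)]
      · exact one_mem _
      · have e2 := congrArg Subtype.val e1
        rw [hη, conjAut_apply, mul_inv_eq_iff_eq_mul] at e2
        exact e2.symm
  obtain ⟨ξ, hξ⟩ : ∃ ξ, ξ = α * η * α⁻¹ := ⟨_, rfl⟩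
  have hαx : α⁻¹ x = x := by
    conv_lhs => rw [← hαl x hxl, MulAut.inv_apply_self]
  have hξx : ξ x = x * α z := by
    rw [hξ, MulAut.mul_apply, MulAut.mul_apply, hαx, show η x = x * z by
      rw [hz, mul_inv_cancel_left], map_mul, hαl x hxl]
  have hξz : ξ (α z) = α z := by
    rw [hξ, MulAut.mul_apply, MulAut.mul_apply, MulAut.inv_apply_self]
    congr 1
    refine Subtype.ext ?_
    rw [hη, conjAut_apply, hZc y y.2 z hzZ, mul_inv_cancel_right]
  have hαzW : (α z : Ω) ∈ WΩ := by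
    have := WΩ.mul_mem (hZW hzZ) (hαW z)
    rwa [mul_inv_cancel_left] at this
  have hαzZ : (α z : Ω) ∉ ZΩ := by
    intro hmem
    obtain ⟨u, hu, v, hv, e⟩ := hD.split z (hAW ▸ hZW hzZ)
    have hmul : (z : Ω) * α z = u * u := by
      have hz' : z = (⟨u, hAT (hD.lle hu)⟩ : TΩ) * ⟨v, hAT (hD.cle hv)⟩ := Subtype.ext e
      rw [← Subgroup.coe_mul, hz', map_mul, hαl ⟨u, _⟩ hu, hαc ⟨v, _⟩ hv, mul_mul_mul_comm,
        mul_inv_cancel, mul_one]
      rfl
    have huu : u * u ∈ ZΩ := hmul ▸ ZΩ.mul_mem hzZ hmem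
    by_cases hu1 : u * u = 1
    · have hu' : u = 1 := by
        rw [← orderOf_eq_one_iff]
        exact Nat.eq_one_of_dvd_coprimes ((Nat.coprime_primes hp.out Nat.prime_two).2 hp2)
          (orderOf_dvd_of_pow_eq_one (h.exp u (hD.le (hD.lle hu))))
          (orderOf_dvd_of_pow_eq_one (by rw [pow_two]; exact hu1))
      rw [hu', one_mul] at e
      refine hcZeq (hline c ZΩ hD.cardc hcZ v hv (e ▸ hzZ) fun e' => hz1 (Subtype.ext ?_))
      rw [e, e', Subgroup.coe_one]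
    · exact hlZ (hline l ZΩ hD.cardl hcZ _ (l.mul_mem hu hu) huu hu1)
  -- the power sending `l` to the centre
  obtain ⟨m, hm⟩ : ∃ m : ℕ, ((x * α z ^ m : TΩ) : Ω) ∈ ZΩ := by
    have hord : (α z : TΩ) ^ p = 1 := by
      rw [← map_pow]
      have : z ^ p = 1 := Subtype.ext (by
        rw [Subgroup.coe_pow, h.exp _ (hWEΩ (hZW hzZ)), Subgroup.coe_one])
      rw [this, map_one]
    have hne : α z ≠ 1 := fun e => hz1 (α.injective (e.trans (map_one α).symm))
    obtain ⟨WT, hWT'⟩ : ∃ WT : Subgroup TΩ, WT = WΩ.subgroupOf TΩ := ⟨_, rfl⟩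
    obtain ⟨ZT, hZT'⟩ : ∃ ZT : Subgroup TΩ, ZT = ZΩ.subgroupOf TΩ := ⟨_, rfl⟩
    have hcWT : Nat.card WT = p ^ 2 := by
      rw [hWT', Nat.card_congr (Subgroup.subgroupOfEquivOfLe hWT).toEquiv, hcW]
    have hcZT : Nat.card ZT = p := by
      rw [hZT', Nat.card_congr (Subgroup.subgroupOfEquivOfLe (hZW.trans hWT)).toEquiv, hcZ]
    have hzs : Nat.card (Subgroup.zpowers (α z)) = p := by
      rw [Nat.card_zpowers, orderOf_eq_prime hord hne]
    have hle : Subgroup.zpowers (α z) ⊔ ZT ≤ WT := by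
      rw [hWT', hZT']
      exact sup_le (Subgroup.zpowers_le.2 hαzW) fun v hv => hZW hv
    have heq : Subgroup.zpowers (α z) ⊔ ZT = WT := by
      refine Subgroup.eq_of_le_of_card_ge hle ?_
      obtain ⟨k, hk⟩ := IsPGroup.iff_card.1
        ((hS.to_le hTS).to_subgroup (Subgroup.zpowers (α z) ⊔ ZT))
      have hlt : Nat.card ZT < Nat.card (Subgroup.zpowers (α z) ⊔ ZT : Subgroup TΩ) :=
        lt_of_le_of_ne (Subgroup.card_le_of_le le_sup_right) fun e => hαzZ (by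
          have h1 := (Subgroup.eq_of_le_of_card_ge le_sup_right e.ge).ge
            (Subgroup.mem_sup_left (Subgroup.mem_zpowers (α z)))
          rw [hZT'] at h1
          exact h1)
      rw [hcZT, hk] at hlt
      rw [hcWT, hk]
      exact Nat.pow_le_pow_right hp.out.pos
        ((Nat.pow_lt_pow_iff_right (a := p) (n := 1) hp.out.one_lt).1 (by rwa [pow_one]))
    obtain ⟨a', ha', z', hz', e'⟩ := Subgroup.mem_sup.1 (heq.ge (show x ∈ WT by rw [hWT']; exact hxW))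
    obtain ⟨m, hm⟩ := exists_pow_mul_eq_one hzs (Subgroup.mem_zpowers _) hne ha'
    refine ⟨m, ?_⟩
    rw [← e', mul_right_comm, hm, one_mul]
    rw [hZT'] at hz'
    exact hz'
  obtain ⟨μ, hμ⟩ : ∃ μ, μ = ξ ^ m := ⟨_, rfl⟩
  have hμx : μ x = x * α z ^ m := by
    rw [hμ, pow_apply_of_fixed (by rw [hξx, inv_mul_cancel_left, hξz]), hξx, inv_mul_cancel_left]
  have hμG : μ ∈ F.autGroup TΩ := hμ ▸ (F.autGroup TΩ).pow_mem
    (hξ ▸ (F.autGroup TΩ).mul_mem ((F.autGroup TΩ).mul_mem hα hηG) ((F.autGroup TΩ).inv_mem hα)) m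
  have hμK : μ ∈ K := hμ ▸ K.pow_mem (hξ ▸ K.mul_mem (K.mul_mem hαK hηK) (K.inv_mem hαK)) m
  have hμx1 : μ x ≠ 1 := fun e => hx1 (μ.injective (e.trans (map_one μ).symm))
  have hμl : ∀ v : TΩ, (v : Ω) ∈ l → (μ v : Ω) ∈ ZΩ := by
    intro v hv
    haveI : Finite l := Nat.finite_of_card_ne_zero (hD.cardl ▸ hp.out.ne_zero)
    have h1 : v ∈ Subgroup.zpowers x := by
      obtain ⟨i, hi⟩ := Subgroup.mem_zpowers_iff.1 (mem_zpowers_of_prime_card hD.cardl
        (g := (⟨x, hxl⟩ : l)) (g' := (⟨v, hv⟩ : l)) fun e =>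
          hx1 (Subtype.ext (show (x : Ω) = ((1 : TΩ) : Ω) from (congrArg Subtype.val e).trans rfl)))
      exact ⟨i, Subtype.ext (by simpa using congrArg Subtype.val hi)⟩
    obtain ⟨i, rfl⟩ := Subgroup.mem_zpowers_iff.1 h1
    rw [map_zpow, Subgroup.coe_zpow]
    exact ZΩ.zpow_mem (hμx ▸ hm) i
  obtain ⟨β, hβ⟩ : ∃ β, β = μ * α * μ⁻¹ := ⟨_, rfl⟩
  obtain ⟨σ, h1, h2, h3⟩ := finish β
    (hβ ▸ (F.autGroup TΩ).mul_mem ((F.autGroup TΩ).mul_mem hμG hα) ((F.autGroup TΩ).inv_mem hμG))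
    (fun v => by
      have := (hβ ▸ K.mul_mem (K.mul_mem hμK hαK) (K.inv_mem hμK) : β ∈ K) v
      rwa [Subgroup.mem_subgroupOf, Subgroup.coe_mul, Subgroup.coe_inv] at this)
    (-1) 1
    (fun v hv => by
      have hvW : (μ⁻¹ v : Ω) ∈ WΩ := by
        have h := WΩ.mul_mem hv (show ((v⁻¹ * μ⁻¹ v : TΩ) : Ω) ∈ WΩ from K.inv_mem hμK v)
        rw [← Subgroup.coe_mul, mul_inv_cancel_left] at h
        exact h
      rw [zpow_neg_one, inv_inv, ← Subgroup.coe_mul, hβ, MulAut.mul_apply, MulAut.mul_apply]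
      nth_rewrite 1 [← MulAut.apply_inv_self _ μ v]
      rw [← map_mul]
      exact hμl _ (hαsq (μ⁻¹ v) hvW))
    (fun v hv => by
      rw [zpow_one, hβ, MulAut.mul_apply, MulAut.mul_apply]
      haveI : Finite ZΩ := finite_of_le hZS
      obtain ⟨i, hi⟩ := Subgroup.mem_zpowers_iff.1 (mem_zpowers_of_prime_card hcZ
        (g := (⟨μ x, hμx ▸ hm⟩ : ZΩ)) (g' := (⟨v, hv⟩ : ZΩ)) fun e =>
          hμx1 (Subtype.ext (show (μ x : Ω) = ((1 : TΩ) : Ω) from (congrArg Subtype.val e).trans rfl)))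
      have hv' : v = μ (x ^ i) := by
        rw [map_zpow]
        exact Subtype.ext (by simpa using (congrArg Subtype.val hi).symm)
      rw [hv', MulAut.inv_apply_self, map_zpow α, hαl x hxl])
  exact false_of_signs_exceptional hp2 hM hn hexc σ h1 h2 h3

end CfsgLib.Fusion.MaxClassCube
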