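import Cfsg.Agent.Lib.Fusion.MeetExtension
import Cfsg.Agent.Lib.Fusion.InvariantCriterion
import Cfsg.Agent.Lib.Fusion.CentralLiftBase
import Cfsg.Agent.Lib.Fusion.TransportComp

/-!
The subsystem of the meet of two invariant subsystems generated by automorphisms of order prime to
`p` and by conjugates of inner automorphisms: it is invariant.
-/

set_option autoImplicit false
set_option linter.unusedSectionVars false

namespace CfsgLib.Fusion.Meet

open Cfsg Cfsg.FusionSystem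

variable {Ω : Type*} [Group Ω] {S T₁ T₂ : Subgroup Ω}
variable {F : FusionSystem S} {E₁ : FusionSystem T₁} {E₂ : FusionSystem T₂} {p : ℕ}

/-- The hypotheses. -/
structure Data (F : FusionSystem S) (p : ℕ) (E₁ : FusionSystem T₁) (E₂ : FusionSystem T₂) :
    Prop where
  pgroup : IsPGroup p S
  sat : F.IsSaturated p
  weak : E₁.IsWeaklyNormalIn F p
  normal : E₂.IsNormalIn F p

theorem stronglyClosed_inf {A B : Subgroup Ω} (hA : F.StronglyClosed A)
    (hB : F.StronglyClosed B) : F.StronglyClosed (A ⊓ B) :=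
  stronglyClosed_iff.2 ⟨inf_le_left.trans hA.1, fun _ _ hf _ hx hxT =>
    ⟨isMap_mem_of_stronglyClosed hA hf hx hxT.1, isMap_mem_of_stronglyClosed hB hf hx hxT.2⟩⟩

theorem le_of_isIso {T : Subgroup Ω} (hT : F.StronglyClosed T) {P Q : Subgroup Ω} {f : Ω → Ω}
    (hP : P ≤ T) (hf : IsIso F P Q f) : Q ≤ T := fun y hy => by
  obtain ⟨x, hx, rfl⟩ := hf.surj hy
  exact isMap_mem_of_stronglyClosed hT hf.isMap hx (hP hx)

/-- An automorphism transported by an isomorphism. -/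
theorem congr_autFun {P Q : Subgroup Ω} {f : Ω → Ω} (hf : IsIso F P Q f) (α : MulAut P) {x : Ω}
    (hx : x ∈ P) : f (autFun α x) = autFun (MulAut.congr hf.equiv α) (f x) := by
  rw [autFun_apply α hx, autFun_apply _ (hf.mem hx)]
  exact (hf.congr_apply α ⟨x, hx⟩).symm

/-- Subgroups self-centralising in `T` in all their conjugates. -/
def Good (F : FusionSystem S) (T P : Subgroup Ω) : Prop :=
  P ≤ T ∧ ∀ Q, F.IsConj P Q → centralizerIn T Q ≤ Q

/-- Conjugates of inner automorphisms. -/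
def Tr (F : FusionSystem S) (T P : Subgroup Ω) (α : MulAut P) : Prop :=
  ∃ (P' : Subgroup Ω) (g : Ω → Ω), IsIso F P' P g ∧
    ∃ t ∈ T, t ∈ Subgroup.normalizer (P' : Set Ω) ∧
      ∀ x ∈ P', autFun α (g x) = g (t * x * t⁻¹)

/-- The generators. -/
def Gen (F : FusionSystem S) (E₁ : FusionSystem T₁) (E₂ : FusionSystem T₂) (p : ℕ)
    (P : Subgroup Ω) (α : MulAut P) : Prop :=
  Good F (T₁ ⊓ T₂) P ∧ α ∈ E₁.autGroup P ∧ α ∈ E₂.autGroup P ∧
    ((orderOf α).Coprime p ∨ Tr F (T₁ ⊓ T₂) P α)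

/-- Maps of both systems. -/
def Both (E₁ : FusionSystem T₁) (E₂ : FusionSystem T₂) (P : Subgroup Ω) (f : Ω → Ω) : Prop :=
  P ≤ T₁ ⊓ T₂ ∧ IsMap E₁ P f ∧ IsMap E₂ P f

namespace Data

variable (h : Data F p E₁ E₂)
include h

theorem inv₁ : E₁.IsInvariantIn F := h.weak.2.2
theorem inv₂ : E₂.IsInvariantIn F := h.normal.1.2.2

theorem closed : F.StronglyClosed (T₁ ⊓ T₂) := stronglyClosed_inf h.inv₁.2.1 h.inv₂.2.1

theorem TS : T₁ ⊓ T₂ ≤ S := h.closed.1

theorem isSubPred_both :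
    PPrime.IsSubPred (CentralLift.below F (T₁ ⊓ T₂) h.closed) (Both E₁ E₂) where
  isMap hf := CentralLift.isMap_below.2 ⟨isMap_of_subsystem h.inv₁.1 hf.2.1, hf.1⟩
  congr hf he := ⟨hf.1, hf.2.1.congr he, hf.2.2.congr he⟩
  conj hP hg := ⟨hP, isMap_conj (hP.trans inf_le_left) hg.1,
    isMap_conj (hP.trans inf_le_right) hg.2⟩
  comp hf hg hm := ⟨hf.1, hf.2.1.comp hg.2.1 hm, hf.2.2.comp hg.2.2 hm⟩
  inv := by
    rintro P Q f r ⟨-, hf₁, hf₂⟩ hi hr h1
    obtain ⟨r₁, hr₁, hr₁1, -⟩ := IsIso.exists_symm ⟨hf₁, hi.image_eq⟩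
    obtain ⟨r₂, hr₂, hr₂1, -⟩ := IsIso.exists_symm ⟨hf₂, hi.image_eq⟩
    refine ⟨hi.le_right, hr₁.isMap.congr fun y hy => ?_, hr₂.isMap.congr fun y hy => ?_⟩
    all_goals obtain ⟨x, hx, rfl⟩ := hi.surj hy
    · rw [hr₁1 x hx, h1 x hx]
    · rw [hr₂1 x hx, h1 x hx]

/-- The generated system. -/
def sys : FusionSystem (T₁ ⊓ T₂) :=
  PPrime.meet (PPrime.ofPred _ (Both E₁ E₂) h.isSubPred_both)
    fun D => ∀ P α, Gen F E₁ E₂ p P α → α ∈ D.autGroup P

theorem isMap_sys {P : Subgroup Ω} {f : Ω → Ω} (hf : IsMap h.sys P f) : Both E₁ E₂ P f :=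
  (PPrime.isMap_ofPred h.isSubPred_both).1 (PPrime.isMap_meet.1 hf).1

theorem sub₁ : h.sys.IsSubsystemOf E₁ := fun _ φ hφ =>
  (mem_hom_iff φ).2 (h.isMap_sys (isMap_homFun hφ)).2.1

theorem sub₂ : h.sys.IsSubsystemOf E₂ := fun _ φ hφ =>
  (mem_hom_iff φ).2 (h.isMap_sys (isMap_homFun hφ)).2.2

theorem sub : h.sys.IsSubsystemOf F := fun P _ hφ => h.inv₁.1 P (h.sub₁ P hφ)

theorem sys_le {D : FusionSystem (T₁ ⊓ T₂)}
    (hD : ∀ P α, Gen F E₁ E₂ p P α → α ∈ D.autGroup P) : h.sys.IsSubsystemOf D :=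
  PPrime.meet_le hD

theorem mem_sys {P : Subgroup Ω} {α : MulAut P} (hα : Gen F E₁ E₂ p P α) :
    α ∈ h.sys.autGroup P := by
  have hP := hα.1.1
  refine PPrime.mem_autGroup_meet hP (mem_autGroup_of_isMap
    ((PPrime.isMap_ofPred h.isSubPred_both).2 ⟨hP,
      ((mem_autGroup_iff (hP.trans inf_le_left) α).1 hα.2.1).isMap,
      ((mem_autGroup_iff (hP.trans inf_le_right) α).1 hα.2.2.1).isMap⟩) α
      fun x => (autFun_coe α x).symm) fun _ hD => hD P α hα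

theorem autGroup_le {P : Subgroup Ω} (hP : P ≤ T₁ ⊓ T₂) {α : MulAut P}
    (hα : α ∈ h.sys.autGroup P) : α ∈ E₁.autGroup P ∧ α ∈ E₂.autGroup P := by
  obtain ⟨-, h1, h2⟩ := h.isMap_sys ((mem_autGroup_iff hP α).1 hα).isMap
  exact ⟨mem_autGroup_of_isMap h1 α fun x => (autFun_coe α x).symm,
    mem_autGroup_of_isMap h2 α fun x => (autFun_coe α x).symm⟩

/-! ### Good subgroups -/

theorem good_of_conj {P Q : Subgroup Ω} (hP : Good F (T₁ ⊓ T₂) P) (hc : F.IsConj P Q) :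
    Good F (T₁ ⊓ T₂) Q := by
  obtain ⟨f, hf⟩ := isConj_iff.1 hc
  exact ⟨le_of_isIso h.closed hP.1 hf, fun R hR => hP.2 R (isConj_trans hc hR)⟩

theorem good_of_le {P Q : Subgroup Ω} (hP : Good F (T₁ ⊓ T₂) P) (hPQ : P ≤ Q)
    (hQ : Q ≤ T₁ ⊓ T₂) : Good F (T₁ ⊓ T₂) Q := by
  refine ⟨hQ, fun Q' hQ' => ?_⟩
  obtain ⟨f, hf⟩ := isConj_iff.1 hQ'
  obtain ⟨P', hP'⟩ := (hf.isMap.mono hPQ).exists_iso
  have hle : P' ≤ Q' := fun y hy => by
    obtain ⟨x, hx, rfl⟩ := hP'.surj hy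
    exact hf.mem (hPQ hx)
  exact fun c hc => hle (hP.2 P' hP'.isConj
    ⟨hc.1, Subgroup.centralizer_le (show (P' : Set Ω) ⊆ Q' from hle) hc.2⟩)

theorem good_of_fn [Fact p.Prime] [Finite S] {R : Subgroup Ω} (hR : R ≤ T₁ ⊓ T₂)
    (hfn : F.IsFullyNormalized R) (hc : centralizerIn (T₁ ⊓ T₂) R ≤ R) :
    Good F (T₁ ⊓ T₂) R := by
  refine ⟨hR, fun Q hQ => ?_⟩
  obtain ⟨g, hg⟩ := isConj_iff.1 hQ
  exact MeetExt.centralizerIn_le_of_conj h.closed hR
    (isReceptive_of_isFullyNormalized h.pgroup h.sat hfn) (sup_eq_left.2 hc ▸ hg)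

/-- The generators are permuted by `F`. -/
theorem gen_transport {P Q : Subgroup Ω} {f : Ω → Ω} (hf : IsIso F P Q f) {α : MulAut P}
    (hα : Gen F E₁ E₂ p P α) : Gen F E₁ E₂ p Q (MulAut.congr hf.equiv α) := by
  refine ⟨h.good_of_conj hα.1 hf.isConj,
    Residual.mem_autGroup_transport h.inv₁ (hα.1.1.trans inf_le_left) hf hα.2.1
      fun x hx => congr_autFun hf α hx,
    Residual.mem_autGroup_transport h.inv₂ (hα.1.1.trans inf_le_right) hf hα.2.2.1
      fun x hx => congr_autFun hf α hx, ?_⟩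
  rcases hα.2.2.2 with ho | ⟨P', g, hg, t, ht, htn, hv⟩
  · exact Or.inl (by rwa [MulEquiv.orderOf_eq])
  · refine Or.inr ⟨P', f ∘ g, hg.comp hf, t, ht, htn, fun x hx => ?_⟩
    show autFun _ (f (g x)) = f (g (t * x * t⁻¹))
    rw [← congr_autFun hf α (hg.mem hx), hv x hx]

/-! ### Invariance -/

theorem autStable : SeedCriterion.AutStable h.sys F := by
  intro a ha P f hf
  have hsub : h.sys.IsSubsystemOf
      (PPrime.ofPred h.sys (PPrime.Conjd h.sys h.sys a) (PPrime.isSubPred_conjd a)) := by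
    refine h.sys_le fun P α hα => ?_
    have hm := ((mem_autGroup_iff hα.1.1 α).1 (h.mem_sys hα)).isMap
    refine mem_autGroup_of_isMap ((PPrime.isMap_ofPred _).2 ⟨hm, ?_⟩) α
      fun x => (autFun_coe α x).symm
    set Q := imageAut a⁻¹ P
    have hi : IsIso F P Q (autFun a⁻¹) :=
      ⟨((mem_autGroup_iff h.TS a⁻¹).1 (Subgroup.inv_mem _ ha)).isMap.mono hα.1.1,
        coe_imageAut a⁻¹ hα.1.1⟩
    refine ((mem_autGroup_iff (imageAut_le _ _) _).1
      (h.mem_sys (h.gen_transport hi hα))).isMap.congr fun y hy => ?_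
    obtain ⟨hyT, hyP⟩ := PPrime.mem_imageAut_inv a hy
    conv_lhs => rw [← PPrime.autFun_inv_autFun a hyT]
    exact (congr_autFun hi α hyP).symm
  exact ((PPrime.isMap_ofPred _).1 (isMap_of_subsystem hsub hf)).2

theorem seeds [Fact p.Prime] [Finite S] : SeedCriterion.Seeds h.sys F := by
  intro R hRT hfn hc g hg x hx
  obtain ⟨t, ht, hv⟩ := (mem_autInducedBy_iff _ R x).1 hx
  have htn : t ∈ Subgroup.normalizer (R : Set Ω) := by
    have := finite_of_le hfn.1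
    exact (mem_normalizerIn_of_induces hfn.1 (h.TS ht) hv).2
  have hgi := (mem_autGroup_iff hfn.1 g).1 hg
  have hval : ∀ y ∈ R, autFun g (autFun x y) = autFun (g * x * g⁻¹) (autFun g y) := by
    intro y hy
    rw [autFun_apply g hy, autFun_apply x hy, autFun_coe, autFun_coe, MulAut.mul_apply,
      MulAut.mul_apply, MulAut.inv_apply_self]
  refine h.mem_sys ⟨h.good_of_fn hRT hfn hc, ?_, ?_, Or.inr ⟨R, autFun g, hgi, t, ht, htn,
    fun y hy => ?_⟩⟩
  · exact Residual.mem_autGroup_transport h.inv₁ (hRT.trans inf_le_left) hgi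
      (autInducedBy_le_autGroup (hRT.trans inf_le_left) (autInducedBy_mono inf_le_left R hx)) hval
  · exact Residual.mem_autGroup_transport h.inv₂ (hRT.trans inf_le_right) hgi
      (autInducedBy_le_autGroup (hRT.trans inf_le_right) (autInducedBy_mono inf_le_right R hx)) hval
  · rw [← hval y hy, autFun_apply x hy, hv]

theorem isInvariantIn [Fact p.Prime] [Finite S] : h.sys.IsInvariantIn F := by
  refine ⟨h.sub, h.closed, fun P hPT φ hφ a ha => ?_, fun P hP φ hφ => ?_⟩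
  · have hf := h.autStable a⁻¹ (Subgroup.inv_mem _ ha) P _ (isMap_homFun hφ)
    rw [inv_inv] at hf
    obtain ⟨χ, hχ, hχv⟩ := hf.exists_hom
    refine ⟨χ, hχ, fun x hφx hax => (hχv ⟨_, hax⟩).trans ?_⟩
    show autFun a (homFun φ (autFun a⁻¹ ((a ⟨x, hPT x.2⟩ : _) : Ω))) = _
    rw [← autFun_apply a (hPT x.2), PPrime.autFun_inv_autFun a (hPT x.2), homFun_coe,
      autFun_apply a hφx]
  · obtain ⟨a, ha, f₀, hf₀, hv⟩ := SeedCriterion.factors_of_seeds h.pgroup h.sat h.closed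
      h.autStable h.seeds _ P _ rfl hP (isMap_homFun hφ)
    obtain ⟨φ₀, hφ₀, hφ₀v⟩ := hf₀.exists_hom
    refine ⟨a, ha, φ₀, hφ₀, fun x hx => ?_⟩
    rw [← homFun_coe φ x, hv x x.2, ← hφ₀v x, autFun_apply a hx]

theorem good_of_centric [Fact p.Prime] [Finite S] {P : Subgroup Ω} (hP : h.sys.IsCentric P) :
    Good F (T₁ ⊓ T₂) P := by
  refine ⟨hP.1, fun Q hQ => ?_⟩
  obtain ⟨f, hf⟩ := isConj_iff.1 hQ
  exact (Residual.isCentric_of_iso h.isInvariantIn hP hf).2 Q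
    (isConj_refl (le_of_isIso h.closed hP.1 hf))

end Data

end CfsgLib.Fusion.Meet
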