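import Cfsg.Agent.Lib.Fusion.MeetExtend
import Cfsg.Agent.Lib.Fusion.GeneratedAutomizer

/-!
The meet of a weakly normal and a normal subsystem supports a weakly normal subsystem.
-/

set_option autoImplicit false
set_option linter.unusedSectionVars false
set_option linter.style.haveILetI false

namespace CfsgLib.Fusion.Meet

open Cfsg Cfsg.FusionSystem

variable {Ω : Type*} [Group Ω] {S T₁ T₂ : Subgroup Ω}
variable {F : FusionSystem S} {E₁ : FusionSystem T₁} {E₂ : FusionSystem T₂} {p : ℕ}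
variable [Fact p.Prime] [Finite S]

namespace Data

variable (h : Data F p E₁ E₂)
include h

theorem genData :
    GenAutomizer.Data h.sys p (Good F (T₁ ⊓ T₂)) (Gen F E₁ E₂ p) where
  pgroup := h.pgroup.to_le h.TS
  le hP := hP.1
  conj hP hc := h.good_of_conj hP (isConj_of_subsystem h.sub hc)
  mono := fun hP hPQ hQ => h.good_of_le hP hPQ hQ
  gen_fam hα := hα.1
  mem := h.mem_sys
  minimal := h.sys_le
  transport := fun hf _ hα => h.gen_transport (hf.of_subsystem h.sub) hα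
  coprime := fun hP hα ho =>
    ⟨hP, (h.autGroup_le hP.1 hα).1, (h.autGroup_le hP.1 hα).2, Or.inl ho⟩

variable {R : Subgroup Ω}

theorem isFullyNormalized_sys (hR : R ≤ T₁ ⊓ T₂) (hfn : F.IsFullyNormalized R) :
    h.sys.IsFullyNormalized R := by
  refine ⟨hR, fun Q hQ => ?_⟩
  have hQF := isConj_of_subsystem h.sub hQ
  obtain ⟨k, hk, -, hkn, -⟩ := exists_map_normalizerIn h.pgroup
    (isFullyAutomized_of_isFullyNormalized h.pgroup h.sat hfn)
    (isReceptive_of_isFullyNormalized h.pgroup h.sat hfn) (isConj_symm hQF)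
  have : Finite ↥(normalizerIn (T₁ ⊓ T₂) R) :=
    finite_of_le (S := S) (inf_le_left.trans h.TS)
  have hle : normalizerIn (T₁ ⊓ T₂) Q ≤ normalizerIn S Q := inf_le_inf_right _ h.TS
  exact (hk.mono hle).card_le fun y hy =>
    ⟨isMap_mem_of_stronglyClosed h.closed hk (hle hy) hy.1, (hkn y (hle hy)).2⟩

theorem autGroup_eq (hR : Good F (T₁ ⊓ T₂) R) (hfn : F.IsFullyNormalized R)
    (hsat : ∀ Q : Subgroup Ω, Good F (T₁ ⊓ T₂) Q → Nat.card R < Nat.card Q →
      ∃ Q', h.sys.IsConj Q Q' ∧ h.sys.IsFullyAutomized p Q' ∧ h.sys.IsReceptive Q') :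
    h.sys.autGroup R = jSub E₁ E₂ p R := by
  have : Finite ↥(T₁ ⊓ T₂) := finite_of_le h.TS
  refine le_antisymm ?_ (sup_le (autInducedBy_le_autGroup hR.1)
    ((Subgroup.closure_le _).2 fun a ha => h.mem_sys ⟨hR, ha.1.1, ha.1.2, Or.inl ha.2⟩))
  refine (GenAutomizer.autGroup_le_genH h.genData hR (h.isFullyNormalized_sys hR.1 hfn) hsat).trans
    ((Subgroup.closure_le _).2 ?_)
  rintro a (ha | ha)
  · exact Subgroup.mem_sup_left ha
  · exact h.gen_le_jSub hR.1 hfn ha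

theorem isReceptive_sys (hR : Good F (T₁ ⊓ T₂) R) (hfn : F.IsFullyNormalized R)
    (hsat : ∀ Q : Subgroup Ω, Good F (T₁ ⊓ T₂) Q → Nat.card R < Nat.card Q →
      ∃ Q', h.sys.IsConj Q Q' ∧ h.sys.IsFullyAutomized p Q' ∧ h.sys.IsReceptive Q') :
    h.sys.IsReceptive R := by
  have : Finite ↥(T₁ ⊓ T₂) := finite_of_le h.TS
  have hgd := h.genData
  refine isReceptive_iff.2 ⟨hR.1, fun P f hf => ?_⟩
  rcases eq_or_ne R (T₁ ⊓ T₂) with he | hne
  · have hP : P = T₁ ⊓ T₂ := Subgroup.eq_of_le_of_card_ge hf.le_left (by rw [← he, hf.card_eq])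
    refine ⟨f, hf.isMap.mono fun x hx => ?_, fun _ _ => rfl⟩
    rw [hP]
    exact hx.1
  have hs : SatExtend.Setup h.sys p R := by
    refine ⟨hgd.pgroup, hR.1, hne, h.isFullyNormalized_sys hR.1 hfn, fun P' Q hc hPQ hQ => ?_⟩
    refine hsat Q (hgd.mono (hgd.conj hR hc) hPQ.le hQ) ?_
    obtain ⟨g, hg⟩ := isConj_iff.1 hc
    exact hg.card_eq ▸ SatExtend.card_lt_card hQ hPQ
  let G : ∀ Q : Subgroup Ω, Set (MulAut Q) := fun Q => {α | Gen F E₁ E₂ p Q α}
  have hG : ∀ Q, G Q ⊆ (h.sys.autGroup Q : Set _) := fun Q α hα => h.mem_sys hα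
  have hgen : SatExtend.GeneratedMod h.sys R G := by
    intro D h₁ h₂
    refine h.sys_le fun Q α hα => ?_
    by_cases hc : h.sys.IsConj R Q
    · exact mem_autGroup_of_isMap (h₂ Q hc α hα) α fun x => (autFun_coe α x).symm
    · obtain ⟨φ, hφ, hv⟩ := ((mem_autGroup_iff hα.1.1 α).1 (h.mem_sys hα)).isMap
      exact mem_autGroup_of_isMap ⟨φ, h₁ Q hc hφ, hv⟩ α fun x => (autFun_coe α x).symm
  obtain ⟨ψ, hψ, hψi⟩ := SatExtend.all_good' hs hgen hG (isConj_symm hf.isConj)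
  obtain ⟨r, hr, hr1, -⟩ := hψi.exists_symm
  obtain ⟨α, hα, hαv⟩ := exists_mem_autGroup (hr.comp hf)
  rw [h.autGroup_eq hR hfn hsat] at hα
  set U := autInducedBy (T₁ ⊓ T₂) R with hU
  set Q := U ⊓ U.comap (MulAut.conj α).toMonoidHom with hQ
  have hQI : autInducedBy R R ≤ Q := fun a ha => by
    refine ⟨autInducedBy_mono hR.1 R ha, autInducedBy_mono hR.1 R ?_⟩
    obtain ⟨u, hu, huv⟩ := (mem_autInducedBy_iff R R a).1 ha
    refine (mem_autInducedBy_iff R R _).2 ⟨α ⟨u, hu⟩, SetLike.coe_mem _, fun z => ?_⟩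
    obtain ⟨y, rfl⟩ := α.surjective z
    show ((α * a * α⁻¹) (α y) : Ω) = _
    rw [MulAut.mul_apply, MulAut.mul_apply, MulAut.inv_apply_self,
      show a y = ⟨u, hu⟩ * y * (⟨u, hu⟩ : R)⁻¹ from Subtype.ext (huv y), map_mul, map_mul, map_inv]
    rfl
  obtain ⟨g, hg, hgv⟩ := h.ext_of_jSub hR hfn _ Q α hα hQI inf_le_left
    (cj_le fun a ha => ha.2) rfl
  have hle : nPhi (T₁ ⊓ T₂) P f ≤ normalizerIn (T₁ ⊓ T₂) P := fun x hx => ⟨hx.1, hx.2.1⟩
  have hψf : ∀ z ∈ P, autFun α (ψ z) = f z := fun z hz => by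
    rw [autFun_apply α (hψi.mem hz), hαv]
    show f (r (ψ z)) = f z
    rw [hr1 z hz]
  refine ⟨g ∘ ψ, (hψ.mono hle).comp hg fun x hx => ?_, fun z hz => ?_⟩
  · obtain ⟨hxT, hxn, s, hs', hsv⟩ := hx
    have hxN : x ∈ normalizerIn (T₁ ⊓ T₂) P := ⟨hxT, hxn⟩
    obtain ⟨hψT, hψn⟩ := hψ.mem_normalizerIn (le_normalizerIn hf.le_left) hψi hxN hxn
    refine mem_preInd_of_induces hψT
      ⟨conjAut_mem_autInducedBy hψn hψT, ?_⟩ fun y => conjAut_apply R hψn y
    refine (mem_autInducedBy_iff _ R _).2 ⟨s, hs', fun w => ?_⟩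
    obtain ⟨y, rfl⟩ := α.surjective w
    show ((α * conjAut R hψn * α⁻¹) (α y) : Ω) = _
    rw [MulAut.mul_apply, MulAut.mul_apply, MulAut.inv_apply_self,
      ← autFun_coe α (conjAut R hψn y), ← autFun_coe α y, conjAut_apply]
    obtain ⟨z, hz, hze⟩ := hψi.surj y.2
    rw [← hze, ← hψ.map_conj hxN (le_normalizerIn hf.le_left hz),
      hψf _ (conj_mem_of_mem_normalizer hxn hz), hψf z hz, hsv z hz]
  · show g (ψ z) = f z
    rw [hgv _ (hψi.mem hz), hψf z hz]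

theorem sat_good : ∀ P : Subgroup Ω, Good F (T₁ ⊓ T₂) P →
    ∃ Q, h.sys.IsConj P Q ∧ h.sys.IsFullyAutomized p Q ∧ h.sys.IsReceptive Q := by
  have : Finite ↥(T₁ ⊓ T₂) := finite_of_le h.TS
  have hT : IsPGroup p ↥(T₁ ⊓ T₂) := h.pgroup.to_le h.TS
  suffices H : ∀ (n : ℕ) (P : Subgroup Ω), Nat.card ↥(T₁ ⊓ T₂) - Nat.card P = n →
      Good F (T₁ ⊓ T₂) P →
      ∃ Q, h.sys.IsConj P Q ∧ h.sys.IsFullyAutomized p Q ∧ h.sys.IsReceptive Q from
    fun P hP => H _ P rfl hP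
  intro n
  induction n using Nat.strong_induction_on with
  | _ n ih =>
  intro P hn hP
  obtain ⟨R, hPR, hfn⟩ := exists_isFullyNormalized (F := F) (hP.1.trans h.TS)
  have hR := h.good_of_conj hP hPR
  obtain ⟨f, hf⟩ := isConj_iff.1 hPR
  have hsat : ∀ Q : Subgroup Ω, Good F (T₁ ⊓ T₂) Q → Nat.card R < Nat.card Q →
      ∃ Q', h.sys.IsConj Q Q' ∧ h.sys.IsFullyAutomized p Q' ∧ h.sys.IsReceptive Q' :=
    fun Q hQ hlt => ih _ (by
      have h1 := hf.card_eq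
      have h2 : Nat.card Q ≤ Nat.card ↥(T₁ ⊓ T₂) := Subgroup.card_le_of_le hQ.1
      omega) Q rfl hQ
  have hA : h.sys.IsFullyAutomized p R := by
    refine (isFullyAutomized_iff hT).2 ⟨hR.1, fun A hA hAp => ?_⟩
    rw [h.autGroup_eq hR hfn hsat] at hA ⊢
    exact h.exists_conj_jSub hR.1 hfn hA hAp
  have hRr := h.isReceptive_sys hR hfn hsat
  -- transport to a conjugate in the system
  obtain ⟨a, ha, f₀, hf₀, hv⟩ := exists_frattini h.isInvariantIn hP.1 hf.isMap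
  obtain ⟨Q, hQ⟩ := hf₀.exists_iso
  have ht := transport_of_invariant h.isInvariantIn (Subgroup.inv_mem _ ha)
  have hQimg : ht.img R = Q := SetLike.coe_injective (by
    rw [ht.coe_img hR.1, ← hQ.image_eq, ← hf.image_eq, Set.image_image]
    exact Set.image_congr fun x hx => by
      rw [hv x hx, PPrime.autFun_inv_autFun a (hQ.le_right (hQ.mem hx))])
  exact ⟨Q, hQ.isConj, hQimg ▸ ht.isFullyAutomized hT hT hA, hQimg ▸ ht.isReceptive hRr⟩

theorem isSaturated : h.sys.IsSaturated p := by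
  have : Finite ↥(T₁ ⊓ T₂) := finite_of_le h.TS
  refine SatExtend.isSaturated_of_family (h.pgroup.to_le h.TS) (ℋ := {P | Good F (T₁ ⊓ T₂) P})
    (fun P hP Q hQ => h.genData.conj hP hQ) (fun P hP => h.sat_good P hP)
    (fun D hD => h.sys_le fun P α hα => ?_) fun P hc hPn => absurd (h.good_of_centric hc) hPn
  obtain ⟨φ, hφ, hv⟩ := ((mem_autGroup_iff hα.1.1 α).1 (h.mem_sys hα)).isMap
  exact mem_autGroup_of_isMap ⟨φ, hD P hα.1 hφ, hv⟩ α fun x => (autFun_coe α x).symm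

theorem isWeaklyNormalIn : h.sys.IsWeaklyNormalIn F p :=
  ⟨h.isSaturated, h.sat, h.isInvariantIn⟩

end Data

/-- A weakly normal and a normal subsystem contain a weakly normal subsystem over the intersection
of their supports. -/
theorem exists_meet (hS : IsPGroup p S) (hF : F.IsSaturated p) (h₁ : E₁.IsWeaklyNormalIn F p)
    (h₂ : E₂.IsNormalIn F p) :
    ∃ W : FusionSystem (T₁ ⊓ T₂), W.IsWeaklyNormalIn F p ∧ W.IsSubsystemOf E₁ ∧
      W.IsSubsystemOf E₂ :=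
  have h : Data F p E₁ E₂ := ⟨hS, hF, h₁, h₂⟩
  ⟨h.sys, h.isWeaklyNormalIn, h.sub₁, h.sub₂⟩

end CfsgLib.Fusion.Meet
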