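import Cfsg.Agent.Lib.Fusion.Group
import Cfsg.Agent.Lib.Fusion.Alperin
import Cfsg.Agent.Lib.Fusion.Invariant
import Cfsg.Agent.Lib.Fusion.Normal
import Cfsg.Agent.Lib.Fusion.ModelUnique
import Cfsg.Agent.Lib.Fusion.WeaklyNormalResidual
import Cfsg.Agent.Lib.Fusion.ModelNormalBase

/-!
Normal subsystems of the fusion system of a group `G` with `C_G(O_p(G)) ≤ O_p(G)`: the normal
subgroup `M` of elements acting on `R = T ⊓ O_p(G)` as the subsystem does, and its factorisation.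
-/

set_option autoImplicit false

namespace CfsgLib.Fusion.ModelNormal

open Cfsg Cfsg.FusionSystem

variable {G : Type*} [Group G] {p : ℕ}

/-- `T ⊓ O_p(G)`. -/
def rr (p : ℕ) (T : Subgroup G) : Subgroup G := T ⊓ Cfsg.pCore p G

/-- The centraliser of `T ⊓ O_p(G)`. -/
def cc (p : ℕ) (T : Subgroup G) : Subgroup G := Subgroup.centralizer (rr p T : Set G)

/-- The centre of `T ⊓ O_p(G)`. -/
def zz (p : ℕ) (T : Subgroup G) : Subgroup G := rr p T ⊓ cc p T

/-- The centraliser of `T ⊓ O_p(G)` in `O_p(G)`. -/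
def dd (p : ℕ) (T : Subgroup G) : Subgroup G := Cfsg.pCore p G ⊓ cc p T

theorem rr_le {T : Subgroup G} : rr p T ≤ T := inf_le_left

theorem zz_le {T : Subgroup G} : zz p T ≤ T := inf_le_left.trans rr_le

theorem zz_le_dd {T : Subgroup G} : zz p T ≤ dd p T := inf_le_inf_right _ inf_le_right

theorem zz_fixed {T : Subgroup G} {c z : G} (hc : c ∈ cc p T) (hz : z ∈ zz p T) :
    c * z * c⁻¹ = z :=
  fixed_of_mem_centralizer hc hz.1

theorem cc_pow_conj {T : Subgroup G} {c t z : G} (hc : c ∈ cc p T) (hz : z ∈ zz p T)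
    (h : c * t * c⁻¹ = z * t) (k : ℕ) : c ^ k * t * (c ^ k)⁻¹ = z ^ k * t := by
  induction k with
  | zero => simp
  | succ k ih =>
    rw [pow_succ', show c * c ^ k * t * (c * c ^ k)⁻¹ = c * (c ^ k * t * (c ^ k)⁻¹) * c⁻¹ by group,
      ih, show c * (z ^ k * t) * c⁻¹ = (c * z * c⁻¹) ^ k * (c * t * c⁻¹) by rw [conj_pow]; group,
      zz_fixed hc hz, h, pow_succ, mul_assoc]

variable [Finite G] [Fact p.Prime] {S : Sylow p G} {T : Subgroup G} {E : FusionSystem T}

theorem pCore_le_sylow : Cfsg.pCore p G ≤ (S : Subgroup G) :=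
  le_sylow_of_normal_pGroup S (CfsgLib.Fitting.pCore_normal p)
    (CfsgLib.Fitting.pCore_isPGroup p)

omit [Finite G] [Fact p.Prime] in
theorem closed (hTS : T ≤ S) (hE : E.IsNormalIn (groupFusionSystem (S : Subgroup G)) p)
    {x g : G} (hx : x ∈ T) (h : g * x * g⁻¹ ∈ (S : Subgroup G)) : g * x * g⁻¹ ∈ T := by
  refine isMap_mem_of_stronglyClosed (f := fun y => g * y * g⁻¹) hE.1.2.2.2.1
    (isMap_group_of_conj (P := Subgroup.zpowers x) g
      (Subgroup.zpowers_le.2 (hTS hx)) ?_) (Subgroup.mem_zpowers x) hx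
  rintro _ ⟨n, rfl⟩
  show g * x ^ n * g⁻¹ ∈ (S : Subgroup G)
  rw [← conj_zpow]
  exact Subgroup.zpow_mem _ h n

omit [Finite G] [Fact p.Prime] in
theorem conj_mem_of_sylow (hTS : T ≤ S) (hE : E.IsNormalIn (groupFusionSystem (S : Subgroup G)) p)
    {s x : G} (hs : s ∈ (S : Subgroup G)) (hx : x ∈ T) : s * x * s⁻¹ ∈ T :=
  closed hTS hE hx (Subgroup.mul_mem _ (Subgroup.mul_mem _ hs (hTS hx)) (Subgroup.inv_mem _ hs))

theorem rr_normal (hTS : T ≤ S) (hE : E.IsNormalIn (groupFusionSystem (S : Subgroup G)) p) :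
    (rr p T).Normal := by
  refine ⟨fun x hx g => ?_⟩
  have hQ := (CfsgLib.Fitting.pCore_normal (G := G) p).conj_mem x hx.2 g
  exact ⟨closed hTS hE hx.1 (pCore_le_sylow hQ), hQ⟩

theorem cc_normal (hTS : T ≤ S) (hE : E.IsNormalIn (groupFusionSystem (S : Subgroup G)) p) :
    (cc p T).Normal := by
  have := rr_normal hTS hE
  exact Subgroup.normal_centralizer

theorem zz_normal (hTS : T ≤ S) (hE : E.IsNormalIn (groupFusionSystem (S : Subgroup G)) p) :
    (zz p T).Normal := by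
  have := rr_normal hTS hE
  have := cc_normal hTS hE
  exact Subgroup.normal_inf_normal _ _

theorem dd_normal (hTS : T ≤ S) (hE : E.IsNormalIn (groupFusionSystem (S : Subgroup G)) p) :
    (dd p T).Normal := by
  have := CfsgLib.Fitting.pCore_normal (G := G) p
  have := cc_normal hTS hE
  exact Subgroup.normal_inf_normal _ _

variable (hG : Subgroup.centralizer ((Cfsg.pCore p G : Subgroup G) : Set G) ≤ Cfsg.pCore p G)
include hG

/-- `T` meets the centraliser of `T ⊓ O_p(G)` in its centre. -/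
theorem inf_cc_le (hTS : T ≤ S) (hE : E.IsNormalIn (groupFusionSystem (S : Subgroup G)) p) :
    T ⊓ cc p T ≤ zz p T := by
  have hR := rr_normal hTS hE
  have hQ := CfsgLib.Fitting.pCore_normal (G := G) p
  have hW : ((cc p T) ⊓ commMod hR (Cfsg.pCore p G)).Normal := by
    have := cc_normal hTS hE
    have := commMod_normal hR hQ
    exact Subgroup.normal_inf_normal _ _
  have hle := le_pCore_of_centralizes hG hW fun w hw hwo q hq =>
    conj_eq_of_fixed (CfsgLib.Fitting.pCore_isPGroup p) hwo (hw.2 q hq).2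
      (fixed_of_mem_centralizer hw.1 (hw.2 q hq))
  intro x hx
  refine ⟨⟨hx.1, hle ⟨hx.2, fun q hq => ⟨?_, commutator_mem_of_right hQ x hq⟩⟩⟩, hx.2⟩
  rw [show x * q * x⁻¹ * q⁻¹ = x * (q * x⁻¹ * q⁻¹) by group]
  exact T.mul_mem hx.1 (conj_mem_of_sylow hTS hE (pCore_le_sylow hq) (T.inv_mem hx.1))

theorem le_commMod_dd (hTS : T ≤ S) (hE : E.IsNormalIn (groupFusionSystem (S : Subgroup G)) p) :
    T ≤ commMod (zz_normal hTS hE) (dd p T) := fun t ht d hd =>
  inf_cc_le hG hTS hE ⟨by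
    rw [show t * d * t⁻¹ * d⁻¹ = t * (d * t⁻¹ * d⁻¹) by group]
    exact T.mul_mem ht (conj_mem_of_sylow hTS hE (pCore_le_sylow hd.1) (T.inv_mem ht)),
    commutator_mem_of_right (cc_normal hTS hE) t hd.2⟩

/-- Elements centralising `R` and `D` modulo `Z` lie in `O_p(G)`. -/
theorem ww_le (hTS : T ≤ S) (hE : E.IsNormalIn (groupFusionSystem (S : Subgroup G)) p) :
    cc p T ⊓ commMod (zz_normal hTS hE) (dd p T) ≤ Cfsg.pCore p G := by
  have hC := cc_normal hTS hE
  have hQ := CfsgLib.Fitting.pCore_normal (G := G) p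
  have hW : (cc p T ⊓ commMod (zz_normal hTS hE) (dd p T)).Normal := by
    have := commMod_normal (zz_normal hTS hE) (dd_normal hTS hE)
    exact Subgroup.normal_inf_normal _ _
  refine le_pCore_of_centralizes hG hW fun w hw hwo q hq => ?_
  have hd : ∀ d ∈ dd p T, w * d * w⁻¹ = d := fun d hd =>
    conj_eq_of_fixed (CfsgLib.Fitting.pCore_isPGroup p) hwo (hw.2 d hd).1.2
      (zz_fixed hw.1 (hw.2 d hd))
  exact conj_eq_of_fixed (CfsgLib.Fitting.pCore_isPGroup p) hwo (commutator_mem_of_right hQ w hq)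
    (hd _ ⟨commutator_mem_of_right hQ w hq, commutator_mem_of_left hC hw.1 q⟩)

theorem commutator_cc_mem (hTS : T ≤ S)
    (hE : E.IsNormalIn (groupFusionSystem (S : Subgroup G)) p) {c t : G} (hc : c ∈ cc p T)
    (ht : t ∈ T) : c * t * c⁻¹ * t⁻¹ ∈ zz p T := by
  have hx : c * t * c⁻¹ * t⁻¹ ∈ cc p T ⊓ commMod (zz_normal hTS hE) (dd p T) :=
    ⟨commutator_mem_of_left (cc_normal hTS hE) hc t, Subgroup.mul_mem _
      ((commMod_normal (zz_normal hTS hE) (dd_normal hTS hE)).conj_mem t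
        (le_commMod_dd hG hTS hE ht) c)
      (Subgroup.inv_mem _ (le_commMod_dd hG hTS hE ht))⟩
  have hS := pCore_le_sylow (S := S) (ww_le hG hTS hE hx)
  have h : c * t * c⁻¹ ∈ T := closed hTS hE ht (by
    rw [show c * t * c⁻¹ = c * t * c⁻¹ * t⁻¹ * t by group]
    exact Subgroup.mul_mem _ hS (hTS ht))
  exact inf_cc_le hG hTS hE ⟨T.mul_mem h (T.inv_mem ht), hx.1⟩

theorem conj_cc_mem (hTS : T ≤ S) (hE : E.IsNormalIn (groupFusionSystem (S : Subgroup G)) p)
    {c t : G} (hc : c ∈ cc p T) (ht : t ∈ T) : c * t * c⁻¹ ∈ T := by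
  rw [show c * t * c⁻¹ = c * t * c⁻¹ * t⁻¹ * t by group]
  exact T.mul_mem (zz_le (commutator_cc_mem hG hTS hE hc ht)) ht

/-- `T` centralises `C` modulo `Z`. -/
theorem le_commMod_cc (hTS : T ≤ S) (hE : E.IsNormalIn (groupFusionSystem (S : Subgroup G)) p) :
    T ≤ commMod (zz_normal hTS hE) (cc p T) := fun t ht c hc => by
  have h := (zz p T).inv_mem (commutator_cc_mem hG hTS hE hc ht)
  rwa [show (c * t * c⁻¹ * t⁻¹)⁻¹ = t * c * t⁻¹ * c⁻¹ by group] at h

omit hG

omit [Finite G] [Fact p.Prime] in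
theorem exists_conj (hE : E.IsNormalIn (groupFusionSystem (S : Subgroup G)) p) {P : Subgroup G}
    {f : G → G} (hf : IsMap E P f) : ∃ g : G, ∀ x ∈ P, f x = g * x * g⁻¹ :=
  (isMap_group_iff.1 (isMap_of_subsystem hE.1.2.2.1 hf)).2.2

/-- `M`: the elements acting on `R` as the subsystem does. -/
noncomputable def autPre (E : FusionSystem T) {R : Subgroup G} (hR : R.Normal) : Subgroup G :=
  (E.autGroup R).comap (@MulAut.conjNormal G _ R hR)

omit [Finite G] [Fact p.Prime] in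
theorem mem_autPre_iff {R : Subgroup G} (hR : R.Normal) (hRT : R ≤ T) {g : G} :
    g ∈ autPre E hR ↔ IsMap E R (fun x => g * x * g⁻¹) := by
  constructor
  · intro h
    refine ((mem_autGroup_iff hRT _).1 h).isMap.congr fun x hx => ?_
    rw [autFun_apply _ hx]
    exact @MulAut.conjNormal_apply G _ R hR g ⟨x, hx⟩
  · intro h
    exact mem_autGroup_of_isMap h _ fun x => @MulAut.conjNormal_apply G _ R hR g x

omit [Finite G] [Fact p.Prime] in
theorem isIso_of_normal {R : Subgroup G} (hR : R.Normal) {g : G} {f : G → G} (hf : IsMap E R f)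
    (hv : ∀ x ∈ R, f x = g * x * g⁻¹) : IsIso E R R f := by
  refine ⟨hf, Set.Subset.antisymm ?_ fun y hy => ⟨g⁻¹ * y * g, ?_, ?_⟩⟩
  · rintro _ ⟨x, hx, rfl⟩
    rw [hv x hx]
    exact hR.conj_mem x hx g
  · simpa using hR.conj_mem y hy g⁻¹
  · rw [hv _ (by simpa using hR.conj_mem y hy g⁻¹)]; group

theorem cc_le_autPre (hTS : T ≤ S) (hE : E.IsNormalIn (groupFusionSystem (S : Subgroup G)) p) :
    cc p T ≤ autPre E (rr_normal hTS hE) := fun c hc =>
  (mem_autPre_iff _ rr_le).2 ((isMap_id rr_le).congr fun _ hx =>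
    (fixed_of_mem_centralizer hc hx).symm)

theorem le_autPre (hTS : T ≤ S) (hE : E.IsNormalIn (groupFusionSystem (S : Subgroup G)) p) :
    T ≤ autPre E (rr_normal hTS hE) := fun _ ht =>
  (mem_autPre_iff _ rr_le).2 (isMap_conj rr_le ht)

theorem autPre_normal (hTS : T ≤ S) (hE : E.IsNormalIn (groupFusionSystem (S : Subgroup G)) p) :
    (autPre E (rr_normal hTS hE)).Normal := by
  have hR := rr_normal hTS hE
  refine ⟨fun m hm g => ?_⟩
  obtain ⟨a, ha, f₀, hf₀, hv⟩ := exists_frattini hE.1.2.2 rr_le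
    (isMap_group_of_conj (S := (S : Subgroup G)) g (rr_le.trans hTS)
      fun x hx => hTS (rr_le (hR.conj_mem x hx g)))
  obtain ⟨e, he⟩ := exists_conj hE hf₀
  have ha' := ha
  rw [autGroup_groupFusionSystem S hTS, mem_autInducedBy_iff] at ha'
  obtain ⟨n, -, hn⟩ := ha'
  have hn' : ∀ x ∈ T, autFun a x = n * x * n⁻¹ := fun x hx =>
    (autFun_apply a hx).trans (hn ⟨x, hx⟩)
  have heM : e ∈ autPre E (rr_normal hTS hE) := (mem_autPre_iff _ rr_le).2 (hf₀.congr he)
  have hcC : (n * e)⁻¹ * g ∈ cc p T := mem_centralizer_of_fixed fun x hx => by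
    have h := hv x hx
    rw [hn' _ (hf₀.mem hx), he x hx] at h
    rw [show (n * e)⁻¹ * g * x * ((n * e)⁻¹ * g)⁻¹ = (n * e)⁻¹ * (g * x * g⁻¹) * (n * e) by group,
      h]
    group
  set c := (n * e)⁻¹ * g with hc
  have hcM := cc_le_autPre hTS hE hcC
  set M := autPre E (rr_normal hTS hE)
  have hm' : e * (c * m * c⁻¹) * e⁻¹ ∈ M :=
    M.mul_mem (M.mul_mem heM (M.mul_mem (M.mul_mem hcM hm) (M.inv_mem hcM))) (M.inv_mem heM)
  have him : autFun a '' (rr p T : Set G) = rr p T := by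
    rw [Set.image_congr fun x hx => hn' x (rr_le hx)]
    refine Set.Subset.antisymm ?_ fun y hy => ⟨n⁻¹ * y * n, ?_, by group⟩
    · rintro _ ⟨x, hx, rfl⟩
      exact hR.conj_mem x hx n
    · simpa using hR.conj_mem y hy n⁻¹
  obtain ⟨f', hf', hf'v⟩ := exists_transport hE.1.2.2 ((mem_autPre_iff _ rr_le).1 hm') ha him
  refine (mem_autPre_iff _ rr_le).2 (hf'.congr fun y hy => ?_)
  have hx : n⁻¹ * y * n ∈ rr p T := by simpa using hR.conj_mem y hy n⁻¹
  have h := hf'v _ hx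
  rw [hn' _ (rr_le hx), hn' _ (rr_le (hR.conj_mem _ hx _))] at h
  rw [show n * (n⁻¹ * y * n) * n⁻¹ = y by group] at h
  have hg : g = n * e * c := by rw [hc]; group
  rw [h, hg]
  group

omit [Fact p.Prime] in
/-- Every subgroup of `T` normal in `G` is fully normalised in the subsystem. -/
theorem isFullyNormalized_of_normal (hE : E.IsNormalIn (groupFusionSystem (S : Subgroup G)) p)
    {R : Subgroup G} (hR : R.Normal) (hRT : R ≤ T) : E.IsFullyNormalized R := by
  refine ⟨hRT, fun Q hQ => ?_⟩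
  obtain ⟨f, hf⟩ := isConj_iff.1 hQ
  obtain ⟨g, hg⟩ := exists_conj hE hf.isMap
  have h1 := (isIso_of_normal hR hf.isMap hg).image_eq
  have h2 : Q = R := SetLike.coe_injective (hf.image_eq.symm.trans h1)
  rw [h2]

omit [Fact p.Prime] in
theorem isFullyNormalized_self : E.IsFullyNormalized T := by
  refine ⟨le_rfl, fun Q _ => Subgroup.card_le_of_le ?_⟩
  exact inf_le_left.trans (le_normalizerIn le_rfl)

omit [Finite G] [Fact p.Prime] in
theorem isPGroup_T (hTS : T ≤ S) : IsPGroup p T := S.isPGroup'.to_le hTS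

include hG

theorem isCentric_rr (hTS : T ≤ S) (hE : E.IsNormalIn (groupFusionSystem (S : Subgroup G)) p) :
    E.IsCentric (rr p T) := by
  refine ⟨rr_le, fun Q hQ => ?_⟩
  obtain ⟨f, hf⟩ := isConj_iff.1 hQ
  obtain ⟨g, hg⟩ := exists_conj hE hf.isMap
  have h1 := (isIso_of_normal (rr_normal hTS hE) hf.isMap hg).image_eq
  have h2 : Q = rr p T := SetLike.coe_injective (hf.image_eq.symm.trans h1)
  rw [h2]
  exact (inf_cc_le hG hTS hE).trans inf_le_left

omit hG

/-- `R` lies in every centric radical subgroup of the subsystem. -/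
theorem rr_le_of_centric_radical (hTS : T ≤ S)
    (hE : E.IsNormalIn (groupFusionSystem (S : Subgroup G)) p) {U : Subgroup G}
    (hc : E.IsCentric U) (hr : E.IsRadical p U) : rr p T ≤ U := by
  have hR := rr_normal hTS hE
  refine le_of_normalizer_inf_le (isPGroup_T hTS) hc.1 rr_le (fun x _ => ?_) fun g hgR hgn => ?_
  · rw [Subgroup.normalizer_eq_top]; exact Subgroup.mem_top x
  have hle : autInducedBy (rr p T) U ≤ E.autGroup U :=
    (autInducedBy_mono rr_le U).trans (autInducedBy_le_autGroup hc.1)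
  have hn : ((autInducedBy (rr p T) U).subgroupOf (E.autGroup U)).Normal := by
    refine ⟨fun a ha b => ?_⟩
    obtain ⟨u, hu, huv⟩ := (mem_autInducedBy_iff _ U _).1 ha
    obtain ⟨w, hw⟩ := exists_conj hE ((mem_autGroup_iff hc.1 _).1 b.2).isMap
    refine (mem_autInducedBy_iff _ U _).2 ⟨w * u * w⁻¹, hR.conj_mem u hu w, fun y => ?_⟩
    obtain ⟨x, rfl⟩ := (b : MulAut U).surjective y
    show ((((b : MulAut U) * (a : MulAut U) * (b : MulAut U)⁻¹) ((b : MulAut U) x) : U) : G) = _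
    rw [MulAut.mul_apply, MulAut.mul_apply, MulAut.inv_apply_self,
      ← autFun_coe (b : MulAut U) x, ← autFun_coe (b : MulAut U), hw _ x.2,
      hw _ (SetLike.coe_mem _),
      show (((a : MulAut U) x : U) : G) = u * x * u⁻¹ from huv x]
    group
  exact mem_of_mem_pCore hc hr ⟨rr_le hgR, hgn⟩
    (α := ⟨conjAut U hgn, hle (conjAut_mem_autInducedBy hgn hgR)⟩) (conjAut_apply U hgn)
    (CfsgLib.Fitting.le_pCore hn
      ((isPGroup_autInducedBy ((isPGroup_T hTS).to_le rr_le) U).of_equiv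
        (Subgroup.subgroupOfEquivOfLe hle).symm) (conjAut_mem_autInducedBy hgn hgR))

/-- `M ⊓ S ⊆ T C`. -/
theorem exists_mul_of_mem_autPre (hTS : T ≤ S)
    (hE : E.IsNormalIn (groupFusionSystem (S : Subgroup G)) p) {x : G}
    (hx : x ∈ autPre E (rr_normal hTS hE)) (hxS : x ∈ (S : Subgroup G)) :
    ∃ t ∈ T, t⁻¹ * x ∈ cc p T ∧ t⁻¹ * x ∈ (S : Subgroup G) := by
  have hR := rr_normal hTS hE
  obtain ⟨-, R', hR'⟩ := isFullyAutomized_of_isFullyNormalized (isPGroup_T hTS) hE.1.1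
    (isFullyNormalized_of_normal hE hR rr_le)
  have := finite_mulAut (rr p T)
  set φ : G →* MulAut (rr p T) := @MulAut.conjNormal G _ _ hR
  set A := (((autPre E hR) ⊓ (S : Subgroup G)).map φ).subgroupOf (E.autGroup (rr p T))
  have hAle : ((autPre E hR) ⊓ (S : Subgroup G)).map φ ≤ E.autGroup (rr p T) :=
    Subgroup.map_le_iff_le_comap.2 inf_le_left
  have hAp : IsPGroup p A :=
    ((S.isPGroup'.to_le inf_le_right).map φ).of_equiv (Subgroup.subgroupOfEquivOfLe hAle).symm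
  have hR'A : (R' : Subgroup (E.autGroup (rr p T))) ≤ A := by
    rw [hR']
    intro a ha
    obtain ⟨t, ht, htv⟩ := (mem_autInducedBy_iff _ _ _).1 ha
    refine ⟨t, ⟨le_autPre hTS hE ht, hTS ht⟩, MulEquiv.ext fun y => Subtype.ext ?_⟩
    exact (@MulAut.conjNormal_apply G _ _ hR t y).trans (htv y).symm
  have hAR := R'.is_maximal' hAp hR'A
  have hmem : φ x ∈ autInducedBy T (rr p T) := by
    have h1 : (⟨φ x, hAle ⟨x, ⟨hx, hxS⟩, rfl⟩⟩ : E.autGroup (rr p T)) ∈
        (R' : Subgroup (E.autGroup (rr p T))) := hAR ▸ ⟨x, ⟨hx, hxS⟩, rfl⟩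
    rwa [hR'] at h1
  obtain ⟨t, ht, htv⟩ := (mem_autInducedBy_iff _ _ _).1 hmem
  refine ⟨t, ht, mem_centralizer_of_fixed fun y hy => ?_,
    Subgroup.mul_mem _ (Subgroup.inv_mem _ (hTS ht)) hxS⟩
  have h := (@MulAut.conjNormal_apply G _ _ hR x ⟨y, hy⟩).symm.trans (htv ⟨y, hy⟩)
  rw [show t⁻¹ * x * y * (t⁻¹ * x)⁻¹ = t⁻¹ * (x * y * x⁻¹) * t by group, h]
  group

omit [Finite G] [Fact p.Prime] in
theorem isMap_conj_pow {g : G} (hg : IsMap E T (fun x => g * x * g⁻¹)) :
    ∀ k : ℕ, IsMap E T (fun x => g ^ k * x * (g ^ k)⁻¹) := by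
  intro k
  induction k with
  | zero => exact (isMap_id le_rfl).congr fun x _ => by simp
  | succ k ih =>
    refine (ih.comp hg fun x hx => ih.mem hx).congr fun x _ => ?_
    simp only [Function.comp_apply, pow_succ']
    group

/-- An element of `C` acting on `T` as the subsystem does acts as an element of `Z`. -/
theorem exists_zz_of_isMap (hTS : T ≤ S)
    (hE : E.IsNormalIn (groupFusionSystem (S : Subgroup G)) p)
    (hG : Subgroup.centralizer ((Cfsg.pCore p G : Subgroup G) : Set G) ≤ Cfsg.pCore p G)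
    {c : G} (hc : c ∈ cc p T) (hm : IsMap E T (fun x => c * x * c⁻¹)) :
    ∃ z ∈ zz p T, z⁻¹ * c ∈ Subgroup.centralizer (T : Set G) := by
  have := finite_mulAut T
  obtain ⟨γ, hγ, hγv⟩ :=
    exists_mem_autGroup (hm.isIso_of_card_le (fun x hx => hm.mem hx) le_rfl)
  have hpow : ∀ (k : ℕ) (x : T), (((γ ^ k) x : T) : G) = c ^ k * x * (c ^ k)⁻¹ := by
    intro k
    induction k with
    | zero => simp
    | succ k ih =>
      intro x
      rw [pow_succ', MulAut.mul_apply, hγv, ih, pow_succ']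
      group
  obtain ⟨j, hj⟩ := ((isPGroup_T hTS).to_le zz_le : IsPGroup p (zz p T)).exists_card_eq
  have hγ1 : γ ^ p ^ j = 1 := by
    refine MulEquiv.ext fun x => Subtype.ext ?_
    have hz := commutator_cc_mem hG hTS hE hc x.2
    have hzp : (c * (x : G) * c⁻¹ * (x : G)⁻¹) ^ p ^ j = 1 := by
      have h := pow_card_eq_one' (x := (⟨_, hz⟩ : zz p T))
      rw [hj] at h
      exact congrArg Subtype.val h
    rw [hpow, cc_pow_conj hc hz (by group), hzp, one_mul]
    rfl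
  have hle : Subgroup.zpowers γ ≤ E.autGroup T := Subgroup.zpowers_le.2 hγ
  have hAp : IsPGroup p (Subgroup.zpowers γ) := by
    obtain ⟨i, -, hi⟩ := (Nat.dvd_prime_pow (Fact.out : p.Prime)).1 (orderOf_dvd_of_pow_eq_one hγ1)
    exact CfsgLib.Transfer.isPGroup_zpowers ⟨i, hi⟩
  obtain ⟨β, -, hβ⟩ := ((isFullyAutomized_iff (isPGroup_T hTS)).1
    (isFullyAutomized_of_isFullyNormalized (isPGroup_T hTS) hE.1.1 isFullyNormalized_self)).2
    _ hle hAp
  have hinn : γ ∈ Cfsg.Inn T := by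
    have h := hβ γ (Subgroup.mem_zpowers γ)
    rw [← inn_eq_autInducedBy] at h
    have h' := (Cfsg.innNormal T).conj_mem _ h β⁻¹
    simpa [mul_assoc] using h'
  obtain ⟨z, hz, hzv⟩ := (mem_inn_iff γ).1 hinn
  have hzC : z⁻¹ * c ∈ Subgroup.centralizer (T : Set G) := mem_centralizer_of_fixed fun x hx => by
    have h : c * x * c⁻¹ = z * x * z⁻¹ := (hγv ⟨x, hx⟩).symm.trans (hzv ⟨x, hx⟩)
    rw [show z⁻¹ * c * x * (z⁻¹ * c)⁻¹ = z⁻¹ * (c * x * c⁻¹) * z by group, h]
    group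
  refine ⟨z, inf_cc_le hG hTS hE ⟨hz, ?_⟩, hzC⟩
  have h1 : z⁻¹ * c ∈ cc p T := Subgroup.centralizer_le (show (rr p T : Set G) ⊆ T from rr_le) hzC
  have h2 := (cc p T).mul_mem hc ((cc p T).inv_mem h1)
  rwa [show c * (z⁻¹ * c)⁻¹ = z by group] at h2

include hG

/-- `K`: the elements of `M` centralising `C` modulo `Z`. -/
theorem mem_commMod_cc (hTS : T ≤ S) (hE : E.IsNormalIn (groupFusionSystem (S : Subgroup G)) p)
    {g : G} (hgo : (orderOf g).Coprime p) (hgE : IsMap E T (fun x => g * x * g⁻¹))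
    (hgc : g ∈ commMod (zz_normal hTS hE) (centralizerIn (S : Subgroup G) T)) :
    g ∈ commMod (zz_normal hTS hE) (cc p T) := by
  have hZ := zz_normal hTS hE
  have hD := dd_normal hTS hE
  have hfix : ∀ d ∈ dd p T,
      g * d * g⁻¹ * d⁻¹ ∈ zz p T := by
    intro d hd
    have hdS : d ∈ (S : Subgroup G) := pCore_le_sylow hd.1
    have hdn : d ∈ Subgroup.normalizer (T : Set G) :=
      mem_normalizer_of_conj_mem (S := (S : Subgroup G)) hTS fun x hx =>
        conj_mem_of_sylow hTS hE hdS hx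
    have ha : conjAut T hdn ∈ (groupFusionSystem (S : Subgroup G)).autGroup T :=
      autInducedBy_le_autGroup hTS (conjAut_mem_autInducedBy hdn hdS)
    have hinv : IsMap E T (fun x => g⁻¹ * x * g⁻¹⁻¹) := by
      refine (isMap_conj_pow hgE (orderOf g - 1)).congr fun x _ => ?_
      have he : g ^ (orderOf g - 1) = g⁻¹ := by
        rw [eq_inv_iff_mul_eq_one, ← pow_succ,
          Nat.sub_add_cancel (orderOf_pos g), pow_orderOf_eq_one]
      rw [he]
    obtain ⟨f', hf', hv⟩ := exists_transport hE.1.2.2 hinv ha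
      ((mem_autGroup_iff hTS _).1 ha).image_eq
    have hf'' : IsMap E T (fun x => d * g⁻¹ * d⁻¹ * x * (d * g⁻¹ * d⁻¹)⁻¹) := by
      refine hf'.congr fun u hu => ?_
      have hu' : d⁻¹ * u * d ∈ T := by
        have := conj_mem_of_sylow hTS hE (Subgroup.inv_mem _ hdS) hu
        rwa [inv_inv] at this
      have h := hv _ hu'
      rw [autFun_apply _ hu', autFun_apply _ (hinv.mem hu'), conjAut_apply, conjAut_apply] at h
      simp only [mul_assoc, mul_inv_cancel_left, mul_inv_cancel, mul_one] at h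
      rw [h]
      group
    have hy : IsMap E T (fun x => g * d * g⁻¹ * d⁻¹ * x * (g * d * g⁻¹ * d⁻¹)⁻¹) := by
      refine (hf''.comp hgE fun x hx => hf''.mem hx).congr fun x _ => ?_
      simp only [Function.comp_apply]
      group
    have hyD : g * d * g⁻¹ * d⁻¹ ∈ dd p T := commutator_mem_of_right hD g hd
    obtain ⟨z, hz, hzc⟩ := exists_zz_of_isMap hTS hE hG hyD.2 hy
    set y := g * d * g⁻¹ * d⁻¹
    have hw := hgc (z⁻¹ * y)
      ⟨Subgroup.mul_mem _ (Subgroup.inv_mem _ (hTS (zz_le hz))) (pCore_le_sylow hyD.1), hzc⟩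
    have hgy : g * y * g⁻¹ * y⁻¹ ∈ zz p T := by
      have h := (zz p T).mul_mem ((zz p T).mul_mem (hZ.conj_mem z hz g) hw) ((zz p T).inv_mem hz)
      rwa [show g * z * g⁻¹ * (g * (z⁻¹ * y) * g⁻¹ * (z⁻¹ * y)⁻¹) * z⁻¹ = g * y * g⁻¹ * y⁻¹ by
        group] at h
    obtain ⟨j, hj⟩ := exists_pow_eq_one (CfsgLib.Fitting.pCore_isPGroup p) hyD.1
    exact mem_of_fixed_mod hZ hgo hgy (j := j) (hj ▸ (zz p T).one_mem)
  intro c hc
  have hC := cc_normal hTS hE
  have hyW : g * c * g⁻¹ * c⁻¹ ∈ cc p T ⊓ commMod hZ (dd p T) := by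
    refine ⟨commutator_mem_of_right hC g hc, ?_⟩
    rw [show g * c * g⁻¹ * c⁻¹ = g * (c * g⁻¹ * c⁻¹) by group]
    exact Subgroup.mul_mem _ hfix
      ((commMod_normal hZ hD).conj_mem _ (Subgroup.inv_mem _ (show g ∈ commMod hZ _ from hfix)) c)
  have hyQ := ww_le hG hTS hE hyW
  obtain ⟨j, hj⟩ := exists_pow_eq_one (CfsgLib.Fitting.pCore_isPGroup p) hyQ
  exact mem_of_fixed_mod hZ hgo (hfix _ ⟨hyQ, hyW.1⟩) (j := j) (hj ▸ (zz p T).one_mem)

omit hG

/-- `K`: the elements of `M` centralising `C` modulo `Z`. -/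
noncomputable def kk (hTS : T ≤ S)
    (hE : E.IsNormalIn (groupFusionSystem (S : Subgroup G)) p) : Subgroup G :=
  autPre E (rr_normal hTS hE) ⊓ commMod (zz_normal hTS hE) (cc p T)

theorem kk_normal (hTS : T ≤ S) (hE : E.IsNormalIn (groupFusionSystem (S : Subgroup G)) p) :
    (kk hTS hE).Normal := by
  have := autPre_normal hTS hE
  have := commMod_normal (zz_normal hTS hE) (cc_normal hTS hE)
  exact Subgroup.normal_inf_normal _ _

include hG

theorem le_kk (hTS : T ≤ S) (hE : E.IsNormalIn (groupFusionSystem (S : Subgroup G)) p) :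
    T ≤ kk hTS hE :=
  le_inf (le_autPre hTS hE) (le_commMod_cc hG hTS hE)

/-- `M = K C`. -/
theorem autPre_le_sup (hTS : T ≤ S) (hE : E.IsNormalIn (groupFusionSystem (S : Subgroup G)) p) :
    autPre E (rr_normal hTS hE) ≤ kk hTS hE ⊔ cc p T := by
  have hR := rr_normal hTS hE
  have hZ := zz_normal hTS hE
  have hCn := cc_normal hTS hE
  have hKn := kk_normal hTS hE
  set M := autPre E (rr_normal hTS hE)
  set L := kk hTS hE ⊔ cc p T
  have hLn : L.Normal := Subgroup.sup_normal _ _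
  have hLM : L ≤ M := sup_le inf_le_left (cc_le_autPre hTS hE)
  have hMS : M ⊓ (S : Subgroup G) ≤ L := fun x hx => by
    obtain ⟨t, ht, htc, -⟩ := exists_mul_of_mem_autPre hTS hE hx.1 hx.2
    rw [show x = t * (t⁻¹ * x) by group]
    exact Subgroup.mul_mem_sup (le_kk hG hTS hE ht) htc
  -- elements of `p`-power order
  have hpel : ∀ x ∈ M, (∃ k : ℕ, orderOf x = p ^ k) → x ∈ L := fun x hx hk => by
    obtain ⟨g, hg⟩ := exists_conj_le_sylow S (CfsgLib.Transfer.isPGroup_zpowers hk)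
    have h1 : g * x * g⁻¹ ∈ L :=
      hMS ⟨(autPre_normal hTS hE).conj_mem x hx g, hg ⟨x, Subgroup.mem_zpowers x, rfl⟩⟩
    have h2 := hLn.conj_mem _ h1 g⁻¹
    rwa [show g⁻¹ * (g * x * g⁻¹) * g⁻¹⁻¹ = x by group] at h2
  -- elements of order prime to `p` normalising `T`
  have hpp : ∀ n ∈ M, (∀ t ∈ T, n * t * n⁻¹ ∈ T) → (orderOf n).Coprime p → n ∈ L := by
    intro n hn hnT hno
    have hfi : IsIso E (rr p T) (rr p T) (fun x => n * x * n⁻¹) :=
      isIso_of_normal hR ((mem_autPre_iff _ rr_le).1 hn) fun _ _ => rfl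
    obtain ⟨f', hf', hf'v⟩ := (isReceptive_iff.1 (isReceptive_of_isFullyNormalized
      (isPGroup_T hTS) hE.1.1 (isFullyNormalized_of_normal hE hR rr_le))).2 _ _ hfi
    have hN : nPhi T (rr p T) (fun x => n * x * n⁻¹) = T := by
      refine le_antisymm (nPhi_le_self _ _) fun t ht =>
        ⟨ht, by rw [Subgroup.normalizer_eq_top]; exact Subgroup.mem_top t,
          n * t * n⁻¹, hnT t ht, fun x _ => by group⟩
    rw [hN] at hf'
    obtain ⟨α, hα, hαv⟩ :=
      exists_mem_autGroup (hf'.isIso_of_card_le (fun x hx => hf'.mem hx) le_rfl)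
    obtain ⟨β, hβ, hβT, hβC⟩ := hE.2 α hα
    have hle : T ⊔ centralizerIn (S : Subgroup G) T ≤ S := sup_le hTS inf_le_left
    rw [autGroup_groupFusionSystem S hle, mem_autInducedBy_iff] at hβ
    obtain ⟨g, -, hg⟩ := hβ
    have hgT : ∀ x ∈ T, g * x * g⁻¹ = f' x := fun x hx => by
      have h := hβT ⟨x, hx⟩
      rw [hg, hαv] at h
      exact h
    have hgE : IsMap E T (fun x => g * x * g⁻¹) := hf'.congr fun x hx => (hgT x hx).symm
    have hgc : g ∈ commMod hZ (centralizerIn (S : Subgroup G) T) := by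
      intro c hc
      have h := hβC ⟨c, Subgroup.mem_sup_right hc⟩ hc
      rw [hg] at h
      have h' : c⁻¹ * (g * c * g⁻¹) ∈ zz p T := inf_cc_le hG hTS hE
        ⟨h.1, Subgroup.centralizer_le (show (rr p T : Set G) ⊆ T from rr_le) h.2⟩
      have h2 := hZ.conj_mem _ h' c
      rwa [show c * (c⁻¹ * (g * c * g⁻¹)) * c⁻¹ = g * c * g⁻¹ * c⁻¹ by group] at h2
    have hng : n⁻¹ * g ∈ cc p T := mem_centralizer_of_fixed fun x hx => by
      rw [show n⁻¹ * g * x * (n⁻¹ * g)⁻¹ = n⁻¹ * (g * x * g⁻¹) * n by group, hgT x (rr_le hx),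
        hf'v x hx]
      group
    obtain ⟨m, hm1, hmo⟩ := Residual.exists_pPrime_pow (p := p) g hno
    have hngm : n⁻¹ * g ^ m ∈ cc p T := by
      have h : (n : G ⧸ cc p T) = g := QuotientGroup.eq.2 hng
      rw [← QuotientGroup.eq, QuotientGroup.mk_pow, ← h, ← QuotientGroup.mk_pow,
        Residual.pow_eq_self_of_modEq hm1]
    have hgmM : g ^ m ∈ M := by
      rw [show g ^ m = n * (n⁻¹ * g ^ m) by group]
      exact M.mul_mem hn (cc_le_autPre hTS hE hngm)
    have hgmK : g ^ m ∈ kk hTS hE := ⟨hgmM,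
      mem_commMod_cc hG hTS hE hmo (isMap_conj_pow hgE m) (Subgroup.pow_mem _ hgc m)⟩
    rw [show n = g ^ m * (n⁻¹ * g ^ m)⁻¹ by group]
    exact Subgroup.mul_mem_sup hgmK ((cc p T).inv_mem hngm)
  intro m hm
  let PS := CfsgLib.SylowNumber.infSylow L S
  have hmap : (PS : Subgroup L).map L.subtype = (S : Subgroup G) ⊓ L := by
    rw [CfsgLib.SylowNumber.coe_infSylow, Subgroup.subgroupOf_map_subtype]
  have htop := Sylow.normalizer_sup_eq_top PS
  rw [hmap] at htop
  have hm' : m ∈ ((Subgroup.normalizer (((S : Subgroup G) ⊓ L : Subgroup G) : Set G) ⊔ L :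
      Subgroup G) : Set G) := by rw [htop]; exact Subgroup.mem_top m
  rw [Subgroup.mul_normal] at hm'
  obtain ⟨n, hn, l, hl, rfl⟩ := hm'
  refine L.mul_mem ?_ hl
  have hnM : n ∈ M := (Subgroup.mul_mem_cancel_right M (hLM hl)).1 hm
  have hnT : ∀ t ∈ T, n * t * n⁻¹ ∈ T := fun t ht => closed hTS hE ht
    ((Subgroup.mem_normalizer_iff.1 hn t).1
      ⟨hTS ht, Subgroup.mem_sup_left (le_kk hG hTS hE ht)⟩).1
  have hpow : ∀ k : ℕ, ∀ t ∈ T, n ^ k * t * (n ^ k)⁻¹ ∈ T := by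
    intro k
    induction k with
    | zero => simp
    | succ k ih =>
      intro t ht
      rw [pow_succ', show n * n ^ k * t * (n * n ^ k)⁻¹ = n * (n ^ k * t * (n ^ k)⁻¹) * n⁻¹ by group]
      exact hnT _ (ih t ht)
  obtain ⟨a, r, hr, -, hco, hpa⟩ := CfsgLib.Transfer.exists_pow_coprime_part (p := p) n
  exact mem_of_pow_mem_coprime (((Fact.out : p.Prime).coprime_iff_not_dvd.2 hr).pow_left a)
    (hpp _ (M.pow_mem hnM _) (hpow _) hco) (hpel _ (M.pow_mem hnM r) ⟨a, hpa⟩)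

end CfsgLib.Fusion.ModelNormal
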