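import Cfsg.Agent.Lib.Fusion.ModelNormal
import Cfsg.Agent.Lib.Fusion.HyperfocalGroup

/-!
Normal subsystems of the fusion system of a group with `C_G(O_p(G)) ≤ O_p(G)` correspond to
normal subgroups: the subgroup is `T O^p(K)`, where `K` is the centraliser of `C_G(R)` modulo
`Z(R)` in the subgroup `M` of elements acting on `R = T ⊓ O_p(G)` as the subsystem does.
-/

set_option autoImplicit false

namespace CfsgLib.Fusion.ModelNormal

open Cfsg Cfsg.FusionSystem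

variable {G : Type*} [Group G] [Finite G] {p : ℕ} [Fact p.Prime] {S : Sylow p G} {T : Subgroup G}
  {E : FusionSystem T}

/-- The subgroup generated by the elements of `K` of order prime to `p`. -/
noncomputable def oo (hTS : T ≤ S)
    (hE : E.IsNormalIn (groupFusionSystem (S : Subgroup G)) p) : Subgroup G :=
  Subgroup.closure {g | g ∈ kk hTS hE ∧ (orderOf g).Coprime p}

theorem oo_le (hTS : T ≤ S) (hE : E.IsNormalIn (groupFusionSystem (S : Subgroup G)) p) :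
    oo hTS hE ≤ kk hTS hE :=
  (Subgroup.closure_le _).2 fun _ hg => hg.1

theorem oo_normal (hTS : T ≤ S) (hE : E.IsNormalIn (groupFusionSystem (S : Subgroup G)) p) :
    (oo hTS hE).Normal := by
  refine ⟨fun x hx g => ?_⟩
  have h : (oo hTS hE).map (MulAut.conj g).toMonoidHom ≤ oo hTS hE := by
    rw [oo, MonoidHom.map_closure]
    apply Subgroup.closure_mono
    rintro _ ⟨y, ⟨hy, hyo⟩, rfl⟩
    exact ⟨(kk_normal hTS hE).conj_mem y hy g,
      by rw [MulEquiv.coe_toMonoidHom, MulEquiv.orderOf_eq]; exact hyo⟩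
  exact h ⟨x, hx, rfl⟩

/-- The subgroup realising the subsystem. -/
noncomputable def hh (hTS : T ≤ S)
    (hE : E.IsNormalIn (groupFusionSystem (S : Subgroup G)) p) : Subgroup G :=
  T ⊔ oo hTS hE

variable (hG : Subgroup.centralizer ((Cfsg.pCore p G : Subgroup G) : Set G) ≤ Cfsg.pCore p G)
include hG

theorem oo_inf_le (hTS : T ≤ S) (hE : E.IsNormalIn (groupFusionSystem (S : Subgroup G)) p) :
    oo hTS hE ⊓ (S : Subgroup G) ≤ T := by
  have hK := kk_normal hTS hE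
  have hmap : oo hTS hE ≤ (Cfsg.pResidual p (kk hTS hE)).map (kk hTS hE).subtype := by
    refine (Subgroup.closure_le _).2 fun g hg => ⟨⟨g, hg.1⟩, ?_, rfl⟩
    refine CfsgLib.Transfer.mem_pResidual_of_coprime ?_
    rw [← Subgroup.orderOf_coe]
    exact hg.2
  let SK := CfsgLib.SylowNumber.infSylow (kk hTS hE) S
  have hfoc : (groupFusionSystem (SK : Subgroup (kk hTS hE))).hyperfocalSubgroup p ≤
      T.subgroupOf (kk hTS hE) := by
    refine (Subgroup.closure_le _).2 ?_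
    rintro _ ⟨P, α, u, hP, -, rfl⟩
    obtain ⟨k, -, hk⟩ :=
      (mem_autInducedBy_iff _ _ _).1 ((autGroup_groupFusionSystem SK hP).le α.2)
    have hkG : ((((α : MulAut P) u : P) : kk hTS hE) : G) = k * ((u : kk hTS hE) : G) * (k : G)⁻¹ :=
      congrArg Subtype.val (hk u)
    have huS : ((u : kk hTS hE) : G) ∈ (S : Subgroup G) := hP u.2
    have hkuS : (k : G) * ((u : kk hTS hE) : G) * (k : G)⁻¹ ∈ (S : Subgroup G) :=
      hkG ▸ hP (SetLike.coe_mem _)
    obtain ⟨t, ht, htC, htS⟩ := exists_mul_of_mem_autPre hTS hE (u : kk hTS hE).2.1 huS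
    set a := t⁻¹ * ((u : kk hTS hE) : G) with ha
    have hz := k.2.2 a htC
    have hzT := zz_le hz
    have hzaS : (k : G) * a * (k : G)⁻¹ * a⁻¹ * a ∈ (S : Subgroup G) :=
      Subgroup.mul_mem _ (hTS hzT) htS
    have hkt : (k : G) * t * (k : G)⁻¹ ∈ T := by
      refine closed hTS hE ht ?_
      rw [show (k : G) * t * (k : G)⁻¹ = k * ((u : kk hTS hE) : G) * (k : G)⁻¹ *
        ((k : G) * a * (k : G)⁻¹ * a⁻¹ * a)⁻¹ by rw [ha]; group]
      exact Subgroup.mul_mem _ hkuS (Subgroup.inv_mem _ hzaS)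
    show ((u : kk hTS hE) : G)⁻¹ * ((((α : MulAut P) u : P) : kk hTS hE) : G) ∈ T
    have h := conj_mem_of_sylow hTS hE (Subgroup.inv_mem _ htS)
      (T.mul_mem (T.mul_mem (T.inv_mem ht) hkt) hzT)
    rw [hkG]
    convert h using 1
    rw [ha]
    group
  rintro x ⟨hx, hxS⟩
  obtain ⟨y, hy, rfl⟩ := hmap hx
  exact hfoc (pResidual_inf_le_hyperfocal SK ⟨hxS, hy⟩)

theorem hh_le_kk (hTS : T ≤ S) (hE : E.IsNormalIn (groupFusionSystem (S : Subgroup G)) p) :
    hh hTS hE ≤ kk hTS hE :=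
  sup_le (le_kk hG hTS hE) (oo_le hTS hE)

theorem hh_inf_le (hTS : T ≤ S) (hE : E.IsNormalIn (groupFusionSystem (S : Subgroup G)) p) :
    hh hTS hE ⊓ (S : Subgroup G) ≤ T := by
  have := oo_normal hTS hE
  rintro x ⟨hx, hxS⟩
  have hx' : x ∈ ((T ⊔ oo hTS hE : Subgroup G) : Set G) := hx
  rw [Subgroup.mul_normal] at hx'
  obtain ⟨t, ht, o, ho, rfl⟩ := hx'
  have hoS : o ∈ (S : Subgroup G) := (Subgroup.mul_mem_cancel_left _ (hTS ht)).1 hxS
  exact T.mul_mem ht (oo_inf_le hG hTS hE ⟨ho, hoS⟩)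

theorem hh_normal (hTS : T ≤ S) (hE : E.IsNormalIn (groupFusionSystem (S : Subgroup G)) p) :
    (hh hTS hE).Normal := by
  have hO := oo_normal hTS hE
  have hK := kk_normal hTS hE
  have hn : ∀ n : G, (∀ t ∈ T, n * t * n⁻¹ ∈ T) →
      n ∈ Subgroup.normalizer (hh hTS hE : Set G) := by
    intro n hn
    refine Subgroup.mem_normalizer_fintype fun x hx => ?_
    have h : (hh hTS hE).map (MulAut.conj n).toMonoidHom ≤ hh hTS hE := by
      rw [hh, Subgroup.map_sup]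
      refine sup_le_sup ?_ ?_
      · rintro _ ⟨t, ht, rfl⟩
        exact hn t ht
      · rintro _ ⟨t, ht, rfl⟩
        exact hO.conj_mem t ht n
    exact h ⟨x, hx, rfl⟩
  have hKN : kk hTS hE ≤ Subgroup.normalizer (hh hTS hE : Set G) :=
    le_of_sylow_coprime (CfsgLib.SylowNumber.infSylow (kk hTS hE) S)
      (fun x hx => hn _ fun t ht => conj_mem_of_sylow hTS hE hx ht)
      fun x hx hxo => Subgroup.le_normalizer
        (Subgroup.mem_sup_right (Subgroup.subset_closure ⟨hx, hxo⟩))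
  let PS := CfsgLib.SylowNumber.infSylow (kk hTS hE) S
  have hmap : (PS : Subgroup (kk hTS hE)).map (kk hTS hE).subtype =
      (S : Subgroup G) ⊓ kk hTS hE := by
    rw [CfsgLib.SylowNumber.coe_infSylow, Subgroup.subgroupOf_map_subtype]
  have htop := Sylow.normalizer_sup_eq_top PS
  rw [hmap] at htop
  rw [← Subgroup.normalizer_eq_top_iff, eq_top_iff, ← htop]
  refine sup_le (fun n hn' => hn n fun t ht => closed hTS hE ht ?_) hKN
  exact ((Subgroup.mem_normalizer_iff.1 hn' t).1 ⟨hTS ht, le_kk hG hTS hE ht⟩).1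

/-- A normal subgroup meeting `S` in `T` meets `C` in `Z`. -/
theorem inf_cc_le_zz (hTS : T ≤ S) (hE : E.IsNormalIn (groupFusionSystem (S : Subgroup G)) p)
    {H : Subgroup G} (hH : H.Normal) (hHS : H ⊓ (S : Subgroup G) ≤ T) :
    H ⊓ cc p T ≤ zz p T := by
  have hC := cc_normal hTS hE
  have hQ := CfsgLib.Fitting.pCore_normal (G := G) p
  have hX : (H ⊓ cc p T).Normal := Subgroup.normal_inf_normal _ _
  have hle : H ⊓ cc p T ≤ Cfsg.pCore p G := le_pCore_of_centralizes hG hX fun w hw hwo q hq => by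
    have hy : w * q * w⁻¹ * q⁻¹ ∈ H ⊓ cc p T := commutator_mem_of_left hX hw q
    have hyQ := commutator_mem_of_right hQ w hq
    exact conj_eq_of_fixed (CfsgLib.Fitting.pCore_isPGroup p) hwo hyQ (zz_fixed hw.2
      (inf_cc_le hG hTS hE ⟨hHS ⟨hy.1, pCore_le_sylow hyQ⟩, hy.2⟩))
  exact fun x hx => inf_cc_le hG hTS hE ⟨hHS ⟨hx.1, pCore_le_sylow (hle hx)⟩, hx.2⟩

/-- `M = H C`. -/
theorem autPre_le_hh (hTS : T ≤ S) (hE : E.IsNormalIn (groupFusionSystem (S : Subgroup G)) p) :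
    autPre E (rr_normal hTS hE) ≤ hh hTS hE ⊔ cc p T := by
  have hK := kk_normal hTS hE
  refine (autPre_le_sup hG hTS hE).trans (sup_le ?_ le_sup_right)
  refine le_of_sylow_coprime (CfsgLib.SylowNumber.infSylow (kk hTS hE) S) (fun x hx => ?_)
    fun x hx hxo => Subgroup.mem_sup_left
      (Subgroup.mem_sup_right (Subgroup.subset_closure ⟨hx, hxo⟩))
  obtain ⟨t, ht, htC, -⟩ := exists_mul_of_mem_autPre hTS hE x.2.1 hx
  rw [show (x : G) = t * (t⁻¹ * (x : G)) by group]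
  exact Subgroup.mul_mem_sup (Subgroup.mem_sup_left ht) htC

/-- Every map of the subsystem is conjugation by an element of `H`. -/
theorem exists_hh_conj (hTS : T ≤ S) (hE : E.IsNormalIn (groupFusionSystem (S : Subgroup G)) p)
    {P : Subgroup G} {f : G → G} (hf : IsMap E P f) :
    ∃ h ∈ hh hTS hE, ∀ x ∈ P, f x = h * x * h⁻¹ := by
  have hT : T ≤ hh hTS hE := le_sup_left
  have hTp := isPGroup_T hTS
  suffices key : IsMap (fusionSystemOfSubgroup (hh hTS hE) T hT) P f by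
    obtain ⟨φ, ⟨-, -, h, hmem, hv⟩, hφ⟩ := key
    exact ⟨h, hmem, fun x hx => (hφ ⟨x, hx⟩).symm.trans (hv ⟨x, hx⟩)⟩
  refine le_of_autGroup_le hTp hE.1.1 (fun U hU γ hγ => ?_) P f hf
  have hUfn : E.IsFullyNormalized U := by
    rcases hU with rfl | hU
    · exact isFullyNormalized_self
    · exact hU.2.1
  have hRU : rr p T ≤ U := by
    rcases hU with rfl | hU
    · exact rr_le
    · exact rr_le_of_centric_radical hTS hE hU.1 (isRadical_of_isEssential hTp hU)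
  have hUT : U ≤ T := hUfn.1
  suffices hmem : γ ∈ autInducedBy (hh hTS hE) U by
    obtain ⟨h, hh', hv⟩ := (mem_autInducedBy_iff _ U γ).1 hmem
    refine mem_autGroup_of_isMap (F := fusionSystemOfSubgroup (hh hTS hE) T hT)
      (f := fun x => h * x * h⁻¹)
      ⟨conjHom U h, ⟨hUT, fun x => ?_, h, hh', fun _ => rfl⟩, fun _ => rfl⟩ γ hv
    show h * (x : G) * h⁻¹ ∈ T
    rw [← hv]
    exact hUT (SetLike.coe_mem _)
  have := finite_mulAut U
  obtain ⟨-, R', hR'⟩ := isFullyAutomized_of_isFullyNormalized hTp hE.1.1 hUfn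
  refine le_of_sylow_coprime (A := autInducedBy (hh hTS hE) U) R' (fun a ha => ?_)
    (fun δ hδ hδo => ?_) hγ
  · rw [hR'] at ha
    exact autInducedBy_mono hT U ha
  have hiso := (mem_autGroup_iff hUT δ).1 hδ
  obtain ⟨g, hg⟩ := exists_conj hE hiso.isMap
  have hpow : ∀ (k : ℕ) (x : U), (((δ ^ k) x : U) : G) = g ^ k * x * (g ^ k)⁻¹ := by
    intro k
    induction k with
    | zero => simp
    | succ k ih =>
      intro x
      rw [pow_succ', MulAut.mul_apply, ← autFun_coe δ, hg _ (SetLike.coe_mem _), ih, pow_succ']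
      group
  obtain ⟨m, hm1, hmo⟩ := Residual.exists_pPrime_pow (p := p) g hδo
  have hδv : ∀ x : U, ((δ x : U) : G) = g ^ m * x * (g ^ m)⁻¹ := fun x => by
    rw [← hpow, Residual.pow_eq_self_of_modEq hm1]
  generalize g ^ m = g' at hmo hδv
  have hgM : g' ∈ autPre E (rr_normal hTS hE) :=
    (mem_autPre_iff _ rr_le).2 ((hiso.isMap.mono hRU).congr fun x hx => by
      rw [autFun_apply δ (hRU hx)]; exact hδv ⟨x, hRU hx⟩)
  have hHn := hh_normal hG hTS hE
  have hCn := cc_normal hTS hE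
  have hgmem : g' ∈ ((hh hTS hE ⊔ cc p T : Subgroup G) : Set G) := autPre_le_hh hG hTS hE hgM
  rw [Subgroup.mul_normal] at hgmem
  obtain ⟨h, hh', c, hc, hgc⟩ := hgmem
  obtain ⟨j, hj⟩ := ((hTp.to_le zz_le : IsPGroup p (zz p T))).exists_card_eq
  have hcT : c ^ p ^ j ∈ Subgroup.centralizer (T : Set G) := mem_centralizer_of_fixed fun t ht => by
    have hz := commutator_cc_mem hG hTS hE hc ht
    have hzp : (c * t * c⁻¹ * t⁻¹) ^ p ^ j = 1 := by
      have h := pow_card_eq_one' (x := (⟨_, hz⟩ : zz p T))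
      rw [hj] at h
      exact congrArg Subtype.val h
    rw [cc_pow_conj hc hz (by group), hzp, one_mul]
  have hgpow : g' ^ p ^ j ∈ (cc p T ⊓ Subgroup.centralizer (T : Set G)) ⊔ hh hTS hE := by
    have h1 : (c : G ⧸ hh hTS hE) = g' := by
      rw [← hgc, QuotientGroup.mk_mul, (QuotientGroup.eq_one_iff h).2 hh', one_mul]
    have h2 : (c ^ p ^ j)⁻¹ * g' ^ p ^ j ∈ hh hTS hE := by
      rw [← QuotientGroup.eq, QuotientGroup.mk_pow, QuotientGroup.mk_pow, h1]
    rw [show g' ^ p ^ j = c ^ p ^ j * ((c ^ p ^ j)⁻¹ * g' ^ p ^ j) by group]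
    exact Subgroup.mul_mem_sup ⟨(cc p T).pow_mem hc _, hcT⟩ h2
  obtain ⟨r, hr⟩ := exists_pow_eq_self_of_coprime (hmo.symm.pow_left j)
  have hg0 : g' ∈ (((cc p T ⊓ Subgroup.centralizer (T : Set G)) ⊔ hh hTS hE : Subgroup G) :
      Set G) := hr ▸ Subgroup.pow_mem _ hgpow r
  rw [Subgroup.mul_normal] at hg0
  obtain ⟨c', hc', h', hh'', hgeq⟩ := hg0
  refine (mem_autInducedBy_iff _ U δ).2 ⟨h', hh'', fun x => ?_⟩
  have hy := hδv x
  have hfix := fixed_of_mem_centralizer (Subgroup.inv_mem _ hc'.2) (hUT (δ x).2)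
  rw [← hfix, hy, ← hgeq]
  group

/-- Conjugations by elements of `H` are maps of the subsystem. -/
theorem isMap_of_hh_conj (hTS : T ≤ S) (hE : E.IsNormalIn (groupFusionSystem (S : Subgroup G)) p)
    {P : Subgroup G} {h : G} (hh' : h ∈ hh hTS hE) (hP : P ≤ T)
    (hPv : ∀ x ∈ P, h * x * h⁻¹ ∈ T) : IsMap E P (fun x => h * x * h⁻¹) := by
  have hR := rr_normal hTS hE
  have hfi : IsIso E (rr p T) (rr p T) (fun x => h * x * h⁻¹) :=
    isIso_of_normal hR ((mem_autPre_iff _ rr_le).1 (hh_le_kk hG hTS hE hh').1) fun _ _ => rfl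
  obtain ⟨ψ, hψ, hψR⟩ := (isReceptive_iff.1 (isReceptive_of_isFullyNormalized
    (isPGroup_T hTS) hE.1.1 (isFullyNormalized_of_normal hE hR rr_le))).2 _ _ hfi
  obtain ⟨h₁, hh₁, hψv⟩ := exists_hh_conj hG hTS hE hψ
  have hz : h₁⁻¹ * h ∈ zz p T := inf_cc_le_zz hG hTS hE (hh_normal hG hTS hE)
    (hh_inf_le hG hTS hE) ⟨Subgroup.mul_mem _ (Subgroup.inv_mem _ hh₁) hh',
      mem_centralizer_of_fixed fun x hx => by
        rw [show h₁⁻¹ * h * x * (h₁⁻¹ * h)⁻¹ = h₁⁻¹ * (h * x * h⁻¹) * h₁ by group, ← hψR x hx,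
          hψv x (le_nPhi hfi.isMap hx)]
        group⟩
  set z := h₁⁻¹ * h with hzdef
  have hPN : ∀ x ∈ P, x ∈ nPhi T (rr p T) (fun x => h * x * h⁻¹) := fun x hx =>
    ⟨hP hx, by rw [Subgroup.normalizer_eq_top]; exact Subgroup.mem_top x,
      h * x * h⁻¹, hPv x hx, fun y _ => by group⟩
  have hzN : z ∈ nPhi T (rr p T) (fun x => h * x * h⁻¹) := le_nPhi hfi.isMap hz.1
  have hmemN : ∀ x ∈ P, z * x * z⁻¹ ∈ nPhi T (rr p T) (fun x => h * x * h⁻¹) := fun x hx =>
    Subgroup.mul_mem _ (Subgroup.mul_mem _ hzN (hPN x hx)) (Subgroup.inv_mem _ hzN)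
  refine ((isMap_conj hP (zz_le hz)).comp hψ hmemN).congr fun x hx => ?_
  rw [Function.comp_apply, hψv _ (hmemN x hx), hzdef]
  group

theorem exists_unique_normal (hTS : T ≤ S)
    (hE : E.IsNormalIn (groupFusionSystem (S : Subgroup G)) p) :
    ∃ H : Subgroup G, (∃ hTH : T ≤ H, H.Normal ∧
        (∃ R : Sylow p H, (R : Subgroup H) = T.subgroupOf H) ∧
        ∀ P : Subgroup G, E.Hom P = (fusionSystemOfSubgroup H T hTH).Hom P) ∧
      ∀ H' : Subgroup G, (∃ hTH' : T ≤ H', H'.Normal ∧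
        (∃ R : Sylow p H', (R : Subgroup H') = T.subgroupOf H') ∧
        ∀ P : Subgroup G, E.Hom P = (fusionSystemOfSubgroup H' T hTH').Hom P) → H' = H := by
  have hT : T ≤ hh hTS hE := le_sup_left
  have hHn := hh_normal hG hTS hE
  refine ⟨hh hTS hE, ⟨hT, hHn, ⟨CfsgLib.SylowNumber.infSylow (hh hTS hE) S, ?_⟩, fun P => ?_⟩, ?_⟩
  · rw [CfsgLib.SylowNumber.coe_infSylow]
    ext x
    exact ⟨fun hx => hh_inf_le hG hTS hE ⟨x.2, hx⟩, fun hx => hTS hx⟩
  · refine Set.Subset.antisymm (fun φ hφ => ?_) ?_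
    · obtain ⟨h, hh', hv⟩ := exists_hh_conj hG hTS hE (isMap_homFun hφ)
      exact ⟨(E.le_of_mem hφ).1, (E.le_of_mem hφ).2, h, hh',
        fun x => (homFun_coe φ x).symm.trans (hv x x.2)⟩
    · rintro φ ⟨hP, hv, h, hh', hg⟩
      exact mem_hom_of_isMap
        (isMap_of_hh_conj hG hTS hE hh' hP fun x hx => hg ⟨x, hx⟩ ▸ hv ⟨x, hx⟩) hg
  rintro H' ⟨hTH', hH'n, ⟨R', hR'⟩, hHom⟩
  have hR := rr_normal hTS hE
  have hH'S : H' ⊓ (S : Subgroup G) ≤ T := fun x hx => by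
    have hA : IsPGroup p ((H' ⊓ (S : Subgroup G)).subgroupOf H') :=
      (S.isPGroup'.to_le inf_le_right).comap_of_injective H'.subtype H'.subtype_injective
    have hle : (R' : Subgroup H') ≤ (H' ⊓ (S : Subgroup G)).subgroupOf H' := by
      rw [hR']
      exact Subgroup.comap_mono (le_inf hTH' hTS)
    have h := R'.is_maximal' hA hle
    have hxR : (⟨x, hx.1⟩ : H') ∈ (R' : Subgroup H') := h ▸ hx
    rw [hR'] at hxR
    exact hxR
  have hH'M : H' ≤ autPre E (rr_normal hTS hE) := fun h hh' => by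
    refine (mem_autPre_iff _ rr_le).2 ⟨conjHom (rr p T) h, ?_, fun _ => rfl⟩
    rw [hHom]
    exact ⟨rr_le, fun x => rr_le (hR.conj_mem x x.2 h), h, hh', fun _ => rfl⟩
  have hH'K : H' ≤ kk hTS hE := le_inf hH'M fun x hx c hc =>
    inf_cc_le_zz hG hTS hE hH'n hH'S
      ⟨commutator_mem_of_left hH'n hx c, commutator_mem_of_right (cc_normal hTS hE) x hc⟩
  have hle : H' ≤ hh hTS hE := le_of_sylow_coprime R'
    (fun x hx => hT (by rw [hR'] at hx; exact hx))
    fun x hx hxo => Subgroup.mem_sup_right (Subgroup.subset_closure ⟨hH'K hx, hxo⟩)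
  refine le_antisymm hle fun h hh' => ?_
  obtain ⟨φ, hφ, hv⟩ := (mem_autPre_iff _ rr_le).1 (hh_le_kk hG hTS hE hh').1
  rw [hHom] at hφ
  obtain ⟨-, -, h', hh'', hg⟩ := hφ
  have hc : h'⁻¹ * h ∈ cc p T := mem_centralizer_of_fixed fun x hx => by
    have e : h * x * h⁻¹ = h' * x * h'⁻¹ := (hv ⟨x, hx⟩).symm.trans (hg ⟨x, hx⟩)
    rw [show h'⁻¹ * h * x * (h'⁻¹ * h)⁻¹ = h'⁻¹ * (h * x * h⁻¹) * h' by group, e]
    group
  have hz := hTH' (zz_le (inf_cc_le_zz hG hTS hE hHn (hh_inf_le hG hTS hE)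
    ⟨Subgroup.mul_mem _ (Subgroup.inv_mem _ (hle hh'')) hh', hc⟩))
  rw [show h = h' * (h'⁻¹ * h) by group]
  exact H'.mul_mem hh'' hz

end CfsgLib.Fusion.ModelNormal
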