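import Cfsg.Agent.Lib.Fusion.NormalCentralizer
import Cfsg.Agent.Lib.Fusion.Alperin
import Cfsg.Agent.Lib.SylowNumber.Basic

/-!
`C_S(E)` is strongly closed.  Alperin's theorem reduces this to the automizers of centric radical
subgroups `R`, where `T ⊓ R` is centric in `E`, so that the extension lemma applies.
-/

set_option autoImplicit false

namespace CfsgLib.Fusion.NormalCentralizer

open Cfsg Cfsg.FusionSystem

universe u

variable {Ω : Type u} [Group Ω] {S T : Subgroup Ω} {F : FusionSystem S} {E : FusionSystem T}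
  {p : ℕ} [Fact p.Prime] [Finite S]

/-- Maps defined on `T` preserve `C_S(E)`. -/
theorem mem_centE_of_map (hS : IsPGroup p S) (hF : F.IsSaturated p) (hE : E.IsNormalIn F p)
    {P : Subgroup Ω} {g : Ω → Ω} (hg : IsMap F P g) (hTP : T ≤ P) {y : Ω} (hyP : y ∈ P)
    (hy : y ∈ centE E F p hE.1.2.2.2.1.1) : g y ∈ centE E F p hE.1.2.2.2.1.1 := by
  have hI := hE.1.2.2
  have hTS := hI.2.1.1
  have := finite_of_le hTS
  have hgT : IsIso F T T g := (hg.mono hTP).isIso_of_card_le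
    (fun x hx => isMap_mem_of_stronglyClosed hI.2.1 hg (hTP hx) hx) le_rfl
  have hgy : g y ∈ centralizerIn S T := hg.mem_centralizerIn hTP hgT hyP hy.1.2
  refine ⟨hgy, fun U δ hU hδ => ?_⟩
  obtain ⟨r, hr, hr1, hr2⟩ := hgT.exists_symm
  obtain ⟨U', hU'⟩ := (hr.isMap.mono hU.1).exists_iso
  have hU'T : U' ≤ T := Residual.le_of_iso hI hU.1 hU'
  have hU'c : E.IsCentric U' := Residual.isCentric_of_iso hI hU hU'
  obtain ⟨α, hα, hαv⟩ := hδ.exists_restrict
  set β := MulAut.congr hU'.equiv α with hβdef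
  have hβv : ∀ x ∈ U, r (autFun α x) = autFun β (r x) := fun x hx => by
    rw [autFun_apply β (hU'.mem hx), autFun_apply α hx,
      show (⟨r x, hU'.mem hx⟩ : U') = hU'.equiv ⟨x, hx⟩ from rfl, hU'.congr_apply]
  obtain ⟨δ', hδ', hδ'v⟩ := exists_isExt hS hF hE hU'c
    (Residual.mem_autGroup_transport hI hU.1 hU' hα hβv) (by
      rw [hβdef, MulEquiv.orderOf_eq]
      exact coprime_orderOf_restrict le_sup_left hαv hδ.coprime)
  have hy' : autFun δ' y = y := hy.2 U' δ' hU'c hδ'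
  set P₀ := U' ⊔ Subgroup.zpowers y
  have hP₀P : P₀ ≤ P := sup_le (hU'T.trans hTP) (Subgroup.zpowers_le.2 hyP)
  have hyD' := mem_centralizerIn_of_le hU'T hy.1
  have hP₀V : P₀ ≤ U' ⊔ centralizerIn S U' := sup_le_sup le_rfl (Subgroup.zpowers_le.2 hyD')
  have hm := hδ'.isMap (hU'T.trans hTS)
  have hδP₀ : ∀ z ∈ P₀, autFun δ' z ∈ P₀ := mem_of_mem_sup (hm.mono hP₀V) le_sup_left le_sup_right
    (fun z hz => Subgroup.mem_sup_left (hδ'.map_mem hz)) fun z hz => by
    obtain ⟨n, rfl⟩ := hz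
    show autFun δ' (y ^ n) ∈ P₀
    rw [hm.map_zpow (Subgroup.mem_sup_right hyD'), hy']
    exact Subgroup.mem_sup_right ⟨n, rfl⟩
  obtain ⟨I, hI'⟩ := (hg.mono hP₀P).exists_iso
  obtain ⟨r', hr', hr'1, -⟩ := hI'.exists_symm
  have hcomp : IsMap F I (fun z => g (autFun δ' (r' z))) :=
    (hr'.isMap.comp (hm.mono hP₀V) fun z hz => hr'.mem hz).comp (hg.mono hP₀P)
      fun z hz => hδP₀ _ (hr'.mem hz)
  have hmem : ∀ u ∈ U, u ∈ I ∧ r' u = r u := fun u hu => by
    have hru : r u ∈ U' := hU'.mem hu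
    have e := hr'1 _ (Subgroup.mem_sup_left hru)
    have e2 : g (r u) = u := hr2 u (hU.1 hu)
    rw [e2] at e
    exact ⟨e2 ▸ hI'.mem (Subgroup.mem_sup_left hru), e⟩
  refine fix_of_exists_map hS hF hE hU hδ hcomp (fun u hu => (hmem u hu).1)
    (hI'.mem (Subgroup.mem_sup_right (Subgroup.mem_zpowers y)))
    (mem_centralizerIn_of_le hU.1 hgy) (fun u hu => ?_) ?_
  · rw [(hmem u hu).2, hδ'v _ (hU'.mem hu), ← hβv u hu, hr2 _ (hU.1 (autFun_mem α hu)), hαv u hu]
  · show g (autFun δ' (r' (g y))) = g y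
    rw [hr'1 _ (Subgroup.mem_sup_right (Subgroup.mem_zpowers y)), hy']

theorem conj_mem_centE (hS : IsPGroup p S) (hF : F.IsSaturated p) (hE : E.IsNormalIn F p)
    {s y : Ω} (hs : s ∈ S) (hy : y ∈ centE E F p hE.1.2.2.2.1.1) :
    s * y * s⁻¹ ∈ centE E F p hE.1.2.2.2.1.1 :=
  mem_centE_of_map hS hF hE (g := fun x => s * x * s⁻¹) (isMap_conj le_rfl hs) hE.1.2.2.2.1.1
    hy.1.1 hy

theorem conj_mem_centE_iff (hS : IsPGroup p S) (hF : F.IsSaturated p) (hE : E.IsNormalIn F p)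
    {s : Ω} (hs : s ∈ S) (y : Ω) :
    y ∈ centE E F p hE.1.2.2.2.1.1 ↔ s * y * s⁻¹ ∈ centE E F p hE.1.2.2.2.1.1 := by
  refine ⟨conj_mem_centE hS hF hE hs, fun h => ?_⟩
  have := conj_mem_centE hS hF hE (S.inv_mem hs) h
  rwa [show s⁻¹ * (s * y * s⁻¹) * s⁻¹⁻¹ = y by group] at this

/-- The maps of `F` preserving a subgroup invariant under `S`. -/
def presSystem (F : FusionSystem S) (X : Subgroup Ω)
    (hX : ∀ s ∈ S, ∀ x : Ω, x ∈ X ↔ s * x * s⁻¹ ∈ X) : FusionSystem S where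
  Hom P := {φ | φ ∈ F.Hom P ∧ ∀ x : P, (x : Ω) ∈ X ↔ φ x ∈ X}
  le_of_mem h := F.le_of_mem h.1
  injective_of_mem h := F.injective_of_mem h.1
  conj_mem hP hg := ⟨F.conj_mem hP hg, fun x => hX _ hg x⟩
  comp_mem {_ _ φ _} hφ hψ h :=
    ⟨F.comp_mem hφ.1 hψ.1 h, fun x => (hφ.2 x).trans (hψ.2 ⟨φ x, h x⟩)⟩
  inv_mem := by
    intro P φ hφ
    obtain ⟨ψ, hψ, hψv⟩ := F.inv_mem hφ.1
    refine ⟨ψ, ⟨hψ, ?_⟩, hψv⟩
    rintro ⟨_, x, rfl⟩
    show φ x ∈ X ↔ ψ ⟨φ x, ⟨x, rfl⟩⟩ ∈ X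
    rw [hψv x]
    exact (hφ.2 x).symm

/-- The automorphisms of `R` in `F` trivial on `R₀` and on `R / R₀`. -/
def trivKer (F : FusionSystem S) (R R₀ : Subgroup Ω) : Subgroup (F.autGroup R) where
  carrier := {a | (∀ x : R, (x : Ω) ∈ R₀ → (a : MulAut R) x = x) ∧
    ∀ x : R, ((x⁻¹ * (a : MulAut R) x : R) : Ω) ∈ R₀}
  one_mem' := ⟨fun _ _ => rfl, fun x => by simp⟩
  mul_mem' := by
    rintro a b ⟨ha, ha'⟩ ⟨hb, hb'⟩
    refine ⟨fun x hx => ?_, fun x => ?_⟩
    · rw [Subgroup.coe_mul, MulAut.mul_apply, hb x hx, ha x hx]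
    · show ((x⁻¹ * (a : MulAut R) ((b : MulAut R) x) : R) : Ω) ∈ R₀
      rw [show x⁻¹ * (a : MulAut R) ((b : MulAut R) x) = (x⁻¹ * (b : MulAut R) x) *
        (((b : MulAut R) x)⁻¹ * (a : MulAut R) ((b : MulAut R) x)) by group, Subgroup.coe_mul]
      exact R₀.mul_mem (hb' x) (ha' _)
  inv_mem' := by
    rintro a ⟨ha, ha'⟩
    refine ⟨fun x hx => ?_, fun x => ?_⟩
    · rw [Subgroup.coe_inv]
      conv_lhs => rw [← ha x hx, MulAut.inv_apply_self]
    · have h1 := R₀.inv_mem (ha' ((a : MulAut R)⁻¹ x))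
      rw [MulAut.apply_inv_self] at h1
      rw [Subgroup.coe_inv]
      simpa [mul_inv_rev] using h1

theorem trivKer_le_pCore (hS : IsPGroup p S) {R R₀ : Subgroup Ω} (hRS : R ≤ S)
    (hinv : ∀ a ∈ F.autGroup R, ∀ x ∈ R, x ∈ R₀ → autFun a x ∈ R₀) :
    trivKer F R R₀ ≤ Cfsg.pCore p (F.autGroup R) := by
  have := finite_of_le hRS
  have := finite_mulAut R
  refine CfsgLib.Fitting.le_pCore ⟨fun a ha b => ⟨fun x hx => ?_, fun x => ?_⟩⟩ ?_
  · have h1 := hinv _ (Subgroup.inv_mem _ b.2) _ x.2 hx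
    rw [autFun_coe] at h1
    rw [Subgroup.coe_mul, Subgroup.coe_mul, Subgroup.coe_inv, MulAut.mul_apply, MulAut.mul_apply,
      ha.1 _ h1, MulAut.apply_inv_self]
  · have h1 := hinv _ b.2 _ (SetLike.coe_mem _) (ha.2 ((b : MulAut R)⁻¹ x))
    rw [autFun_coe, map_mul, map_inv, MulAut.apply_inv_self] at h1
    exact h1
  · let L : ℕ → Subgroup R := fun i => if i = 0 then ⊥ else if i = 1 then R₀.subgroupOf R else ⊤
    have h := isPGroup_of_stabilizes_series (hS.to_le hRS) L 2 (if_pos rfl) (by simp [L])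
      ((trivKer F R R₀).map (F.autGroup R).subtype) ?_
    · exact h.of_equiv
        ((trivKer F R R₀).equivMapOfInjective _ (F.autGroup R).subtype_injective).symm
    rintro _ ⟨a, ha, rfl⟩ i hi x hx
    interval_cases i
    · simp only [L, if_neg one_ne_zero, zero_add] at hx
      simp only [L, if_pos rfl, Subgroup.mem_bot]
      rw [show ((F.autGroup R).subtype a) x = x from ha.1 x hx, inv_mul_cancel]
    · simp only [L, if_neg one_ne_zero]
      exact ha.2 x

/-- For a centric radical `R` of `F`, the centraliser in `T` of `T ⊓ R'` lies in `R'`, for every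
conjugate `R'` of `R`. -/
theorem centralizerIn_inf_le (hS : IsPGroup p S) (hI : E.IsInvariantIn F) {R R' : Subgroup Ω}
    (hc : F.IsCentric R) (hr : F.IsRadical p R) {f : Ω → Ω} (hf : IsIso F R R' f) :
    centralizerIn T (T ⊓ R') ≤ R' := by
  have hR'S := hf.le_right
  have hCS : centralizerIn T (T ⊓ R') ≤ S := inf_le_left.trans hI.2.1.1
  refine le_of_normalizer_inf_le hS hR'S hCS (fun s hs => mem_normalizer_of_conj_mem hCS
    fun c hc' => ⟨normalizer_T hI (hR'S hs) hc'.1, mem_centralizer_of_conj_eq fun x hx => ?_⟩)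
    fun g hgC hgn => ?_
  · have hx' : s⁻¹ * x * s⁻¹⁻¹ ∈ T ⊓ R' := ⟨normalizer_T hI (S.inv_mem (hR'S hs)) hx.1,
      R'.mul_mem (R'.mul_mem (R'.inv_mem hs) hx.2) (R'.inv_mem (R'.inv_mem hs))⟩
    have h := conj_eq_self_of_mem_centralizer hc'.2 hx'
    calc s * c * s⁻¹ * x * (s * c * s⁻¹)⁻¹ = s * (c * (s⁻¹ * x * s⁻¹⁻¹) * c⁻¹) * s⁻¹ := by group
      _ = x := by rw [h]; group
  have hgS : g ∈ S := hCS hgC
  obtain ⟨k, hk, hk1, -⟩ := hf.exists_symm
  have hcR' : conjAut R' hgn ∈ F.autGroup R' :=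
    autInducedBy_le_autGroup hR'S (conjAut_mem_autInducedBy hgn hgS)
  set γ := (MulAut.congr hf.equiv).symm (conjAut R' hgn) with hγdef
  have hγv : ∀ x : R, f (γ x : Ω) = g * f (x : Ω) * g⁻¹ := fun x => by
    have h : hf.equiv (γ x) = conjAut R' hgn (hf.equiv x) := by
      rw [hγdef]; simp [MulAut.congr]
    have h' := congrArg Subtype.val h
    rw [hf.equiv_apply, conjAut_apply, hf.equiv_apply] at h'
    exact h'
  have hinv : ∀ a ∈ F.autGroup R, ∀ x ∈ R, x ∈ T ⊓ R → autFun a x ∈ T ⊓ R := fun a ha x hx hxT =>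
    ⟨isMap_mem_of_stronglyClosed hI.2.1 ((mem_autGroup_iff hc.1 a).1 ha).isMap hx hxT.1,
      autFun_mem a hx⟩
  have hker : (⟨γ, hf.congr_symm_mem_autGroup hcR'⟩ : F.autGroup R) ∈ trivKer F R (T ⊓ R) := by
    refine ⟨fun x hx => Subtype.ext (hf.isMap.injOn (SetLike.coe_mem _) x.2 ?_), fun x => ?_⟩
    · show f (γ x : Ω) = f x
      rw [hγv]
      exact conj_eq_self_of_mem_centralizer hgC.2
        ⟨isMap_mem_of_stronglyClosed hI.2.1 hf.isMap x.2 hx.1, hf.mem x.2⟩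
    · refine ⟨?_, SetLike.coe_mem _⟩
      have hw : f ((x : Ω)⁻¹ * (γ x : Ω)) ∈ T := by
        rw [hf.isMap.map_mul (R.inv_mem x.2) (SetLike.coe_mem _), hf.isMap.map_inv x.2, hγv,
          show (f (x : Ω))⁻¹ * (g * f x * g⁻¹) = ((f (x : Ω))⁻¹ * g * f x) * g⁻¹ by group]
        have h := normalizer_T hI (S.inv_mem (hf.isMap.mem x.2)) hgC.1
        rw [inv_inv] at h
        exact T.mul_mem h (T.inv_mem hgC.1)
      have hwR : (x : Ω)⁻¹ * (γ x : Ω) ∈ R := R.mul_mem (R.inv_mem x.2) (SetLike.coe_mem _)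
      have h := isMap_mem_of_stronglyClosed hI.2.1 hk.isMap (hf.mem hwR) hw
      rwa [hk1 _ hwR] at h
  have hinn : γ ∈ Cfsg.Inn R := hr.2.le ⟨_, trivKer_le_pCore hS hc.1 hinv hker, rfl⟩
  obtain ⟨u, hu, huv⟩ := (mem_inn_iff γ).1 hinn
  have hcen : (f u)⁻¹ * g ∈ centralizerIn S R' := by
    refine ⟨S.mul_mem (S.inv_mem (hf.isMap.mem hu)) hgS, mem_centralizer_of_conj_eq fun y hy => ?_⟩
    obtain ⟨x, hx, rfl⟩ := hf.surj hy
    have h := hγv ⟨x, hx⟩
    rw [huv ⟨x, hx⟩, hf.isMap.map_conj hu hx] at h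
    rw [show (f u)⁻¹ * g * f x * ((f u)⁻¹ * g)⁻¹ = (f u)⁻¹ * (g * f x * g⁻¹) * f u by group, ← h]
    group
  have := hc.2 R' hf.isConj hcen
  exact (R'.mul_mem_cancel_left (R'.inv_mem (hf.mem hu))).1 this

/-- The intersection of `T` with a centric radical subgroup of `F` is centric in `E`. -/
theorem isCentric_inf (hS : IsPGroup p S) (hF : F.IsSaturated p) (hI : E.IsInvariantIn F)
    {R : Subgroup Ω} (hc : F.IsCentric R) (hr : F.IsRadical p R) : E.IsCentric (T ⊓ R) := by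
  have hTS := hI.2.1.1
  refine ⟨inf_le_left, fun Q hQ => ?_⟩
  have hR₀S : T ⊓ R ≤ S := inf_le_left.trans hTS
  have hRN : R ≤ normalizerIn S (T ⊓ R) := fun s hs => ⟨hc.1 hs, mem_normalizer_of_conj_mem hR₀S
    fun x hx => ⟨normalizer_T hI (hc.1 hs) hx.1,
      R.mul_mem (R.mul_mem hs hx.2) (R.inv_mem hs)⟩⟩
  obtain ⟨Q₀, hc₀, hQ₀⟩ := exists_isFullyNormalized (F := F) hR₀S
  have ha := isFullyAutomized_of_isFullyNormalized hS hF hQ₀
  have hrc := isReceptive_of_isFullyNormalized hS hF hQ₀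
  obtain ⟨f, hf, hfi, -, -⟩ := exists_map_normalizerIn hS ha hrc hc₀
  obtain ⟨R', hR'⟩ := (hf.mono hRN).exists_iso
  obtain ⟨k, hk, hk1, -⟩ := hR'.exists_symm
  have hle := centralizerIn_inf_le hS hI hc hr hR'
  have hQ₀' : T ⊓ R' ≤ Q₀ := fun y hy => by
    obtain ⟨x, hx, rfl⟩ := hR'.surj hy.2
    have h := isMap_mem_of_stronglyClosed hI.2.1 hk.isMap (hR'.mem hx) hy.1
    rw [hk1 x hx] at h
    exact hfi.mem ⟨h, hx⟩
  have hQ₀'' : Q₀ ≤ T ⊓ R' := fun y hy => by
    obtain ⟨x, hx, rfl⟩ := hfi.surj hy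
    exact ⟨isMap_mem_of_stronglyClosed hI.2.1 hf (hRN hx.2) hx.1, hR'.mem hx.2⟩
  obtain ⟨h, hh, hhi, -, hhC⟩ := exists_map_normalizerIn hS ha hrc
    (isConj_trans (isConj_symm (isConj_of_subsystem hI.1 hQ)) hc₀)
  intro t ht
  have htN : t ∈ centralizerIn S Q := ⟨hTS ht.1, ht.2⟩
  have htT : h t ∈ T :=
    isMap_mem_of_stronglyClosed hI.2.1 hh (centralizerIn_le_normalizerIn S Q htN) ht.1
  have htC : h t ∈ centralizerIn T (T ⊓ R') :=
    ⟨htT, Subgroup.centralizer_le (show ((T ⊓ R' : Subgroup Ω) : Set Ω) ⊆ Q₀ from hQ₀')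
      (hhC t htN).2⟩
  obtain ⟨x, hx, hxe⟩ := hhi.surj (hQ₀' ⟨htT, hle htC⟩)
  exact hh.injOn (le_normalizerIn hhi.le_left hx) (centralizerIn_le_normalizerIn S Q htN) hxe ▸ hx

/-- Generation of the automizer of a centric radical subgroup not containing `T`, relative to
`C_S(E)`: by the automorphisms fixing `R ⊓ C_S(E)` pointwise, by `Aut_S(R)`, and by the
automorphisms extending to larger subgroups. -/
theorem automizer_le (hS : IsPGroup p S) (hF : F.IsSaturated p) (hE : E.IsNormalIn F p)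
    {R : Subgroup Ω} (hc : F.IsCentric R) (hr : F.IsRadical p R) (hRn : F.IsFullyNormalized R)
    (hTR : ¬ T ≤ R) (G₀ : Subgroup (MulAut R))
    (h1 : ∀ α ∈ F.autGroup R,
      (∀ x : R, (x : Ω) ∈ centE E F p hE.1.2.2.2.1.1 → α x = x) → α ∈ G₀)
    (h2 : ∀ α ∈ autInducedBy S R, α ∈ G₀)
    (h3 : ∀ α ∈ F.autGroup R, ∀ (A : Subgroup Ω) (g : Ω → Ω), R ≤ A →
      Nat.card R < Nat.card A → IsMap F A g → (∀ x : R, g x = (α x : Ω)) → α ∈ G₀) :
    F.autGroup R ≤ G₀ := by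
  have hI := hE.1.2.2
  have hTS := hI.2.1.1
  have hRS := hc.1
  set X := centE E F p hE.1.2.2.2.1.1 with hXdef
  set R₀ := T ⊓ R with hR₀def
  have := finite_of_le hRS
  have := finite_mulAut R
  have hR₀c : E.IsCentric R₀ := isCentric_inf hS hF hI hc hr
  have hR₀S : R₀ ≤ S := inf_le_left.trans hTS
  have := finite_of_le hR₀S
  have hm : ∀ a ∈ F.autGroup R, IsMap F R (autFun a) :=
    fun a ha => ((mem_autGroup_iff hRS a).1 ha).isMap
  have hinv : ∀ a ∈ F.autGroup R, ∀ x ∈ R₀, autFun a x ∈ R₀ := fun a ha x hx =>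
    ⟨isMap_mem_of_stronglyClosed hI.2.1 (hm a ha) hx.2 hx.1, autFun_mem a hx.2⟩
  let N : Subgroup (F.autGroup R) :=
    { carrier := {a | (∀ x : R, ((x⁻¹ * (a : MulAut R) x : R) : Ω) ∈ R₀) ∧
        IsMap E R₀ (autFun (a : MulAut R))}
      one_mem' := ⟨fun x => by simp, (isMap_id inf_le_left).congr fun x hx => by
        rw [OneMemClass.coe_one, autFun_one hx.2]; rfl⟩
      mul_mem' := by
        rintro a b ⟨ha, ha'⟩ ⟨hb, hb'⟩
        refine ⟨fun x => ?_, (hb'.comp ha' fun x hx => hinv _ b.2 x hx).congr fun x hx => ?_⟩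
        · show ((x⁻¹ * (a : MulAut R) ((b : MulAut R) x) : R) : Ω) ∈ R₀
          rw [show x⁻¹ * (a : MulAut R) ((b : MulAut R) x) = (x⁻¹ * (b : MulAut R) x) *
            (((b : MulAut R) x)⁻¹ * (a : MulAut R) ((b : MulAut R) x)) by group, Subgroup.coe_mul]
          exact R₀.mul_mem (hb x) (ha _)
        · rw [Subgroup.coe_mul, autFun_mul _ _ hx.2]; rfl
      inv_mem' := by
        rintro a ⟨ha, ha'⟩
        refine ⟨fun x => ?_, ?_⟩
        · have h1 := R₀.inv_mem (ha ((a : MulAut R)⁻¹ x))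
          rw [MulAut.apply_inv_self] at h1
          rw [Subgroup.coe_inv]
          simpa [mul_inv_rev] using h1
        · obtain ⟨r, hr', hr1, -⟩ :=
            (ha'.isIso_of_card_le (fun x hx => hinv _ a.2 x hx) le_rfl).exists_symm
          refine hr'.isMap.congr fun x hx => ?_
          have hy := hinv _ (Subgroup.inv_mem _ a.2) x hx
          have h := hr1 _ hy
          rw [autFun_self_inv _ hx.2] at h
          rw [Subgroup.coe_inv]
          exact h }
  have hNn : N.Normal := by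
    refine ⟨fun a ha b => ⟨fun x => ?_, ?_⟩⟩
    · have h1 := hinv _ b.2 _ (ha.1 ((b : MulAut R)⁻¹ x))
      rw [autFun_coe, map_mul, map_inv, MulAut.apply_inv_self] at h1
      exact h1
    · obtain ⟨f', hf', hf'v⟩ := strongInvariant_of_invariant hI R₀ R₀ (autFun (a : MulAut R))
        (autFun (b : MulAut R)) le_rfl inf_le_left ha.2 (fun x hx => hinv _ a.2 x hx)
        ((hm _ b.2).mono inf_le_right) R₀
        (((hm _ b.2).mono inf_le_right).isIso_of_card_le (fun x hx => hinv _ b.2 x hx)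
          le_rfl).image_eq
      refine hf'.congr fun x hx => ?_
      have hy := hinv _ (Subgroup.inv_mem _ b.2) x hx
      have h := hf'v _ hy
      rw [autFun_self_inv _ hx.2] at h
      rw [Subgroup.coe_mul, Subgroup.coe_mul, Subgroup.coe_inv, autFun_mul _ _ hx.2,
        autFun_mul _ _ (autFun_mem _ hx.2)]
      exact h
  let Pres : Subgroup (F.autGroup R) := G₀.subgroupOf (F.autGroup R)
  obtain ⟨-, RA, hRA⟩ := isFullyAutomized_of_isFullyNormalized hS hF hRn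
  have hfix : ∀ n ∈ N, (orderOf n).Coprime p → ∀ y : R, (y : Ω) ∈ X →
      ((n : MulAut R) y : Ω) = y := by
    intro n hn hno y hy
    have hni : IsIso E R₀ R₀ (autFun (n : MulAut R)) :=
      hn.2.isIso_of_card_le (fun x hx => hinv _ n.2 x hx) le_rfl
    obtain ⟨β, hβ, hβv⟩ := exists_mem_autGroup hni
    have hnβ : ∀ x ∈ R₀, autFun (n : MulAut R) x = autFun β x := fun x hx => by
      rw [autFun_apply β hx]; exact (hβv ⟨x, hx⟩).symm
    have hno' : (orderOf (n : MulAut R)).Coprime p := by rw [Subgroup.orderOf_coe]; exact hno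
    obtain ⟨δ, hδ, hδv⟩ := exists_isExt hS hF hE hR₀c hβ
      (coprime_orderOf_restrict inf_le_right hnβ hno')
    have hδy : autFun δ y = y := hy.2 R₀ δ hR₀c hδ
    have hyD : (y : Ω) ∈ centralizerIn S R₀ := mem_centralizerIn_of_le inf_le_left hy.1
    have hyV : (y : Ω) ∈ R₀ ⊔ centralizerIn S R₀ := Subgroup.mem_sup_right hyD
    set P₀ := R₀ ⊔ Subgroup.zpowers (y : Ω)
    have hP₀R : P₀ ≤ R := sup_le inf_le_right (Subgroup.zpowers_le.2 y.2)
    have hP₀V : P₀ ≤ R₀ ⊔ centralizerIn S R₀ := sup_le_sup le_rfl (Subgroup.zpowers_le.2 hyD)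
    have hmi : IsMap F (R₀ ⊔ centralizerIn S R₀) (autFun δ⁻¹) :=
      ((mem_autGroup_iff (sup_centralizerIn_le hR₀S) _).1 (Subgroup.inv_mem _ hδ.mem)).isMap
    have hδiy : autFun δ⁻¹ (y : Ω) = y := by
      conv_lhs => rw [← hδy]
      exact autFun_inv_self δ hyV
    have hδP₀ : ∀ z ∈ P₀, autFun δ⁻¹ z ∈ P₀ :=
      mem_of_mem_sup (hmi.mono hP₀V) le_sup_left le_sup_right
        (fun z hz => Subgroup.mem_sup_left (hδ.inv_map_mem hz)) fun z hz => by
        obtain ⟨i, rfl⟩ := hz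
        show autFun δ⁻¹ ((y : Ω) ^ i) ∈ P₀
        rw [hmi.map_zpow hyV, hδiy]
        exact Subgroup.mem_sup_right ⟨i, rfl⟩
    have hξ : IsMap F P₀ (autFun (n : MulAut R) ∘ autFun δ⁻¹) :=
      (hmi.mono hP₀V).comp ((hm _ n.2).mono hP₀R) hδP₀
    have hq := fix_quot hS hF hE hR₀c hδ hξ le_sup_left
      (Subgroup.mem_sup_right (Subgroup.mem_zpowers (y : Ω))) hyD fun u hu => by
        show autFun (n : MulAut R) (autFun δ⁻¹ u) = u
        rw [hnβ _ (hδ.inv_map_mem hu), ← hδv _ (hδ.inv_map_mem hu),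
          autFun_self_inv δ (Subgroup.mem_sup_left hu)]
    simp only [Function.comp_apply, hδiy, autFun_coe] at hq
    set z := (y : Ω)⁻¹ * ((n : MulAut R) y : Ω) with hzdef
    have hzR₀ : z ∈ R₀ := hn.1 y
    rw [hδv z hzR₀, ← hnβ z hzR₀] at hq
    have hmn := hm _ n.2
    have hiter : ∀ k : ℕ, autFun ((n : MulAut R) ^ k) y = y * z ^ k := by
      intro k
      induction k with
      | zero => rw [pow_zero, pow_zero, autFun_one y.2, mul_one]
      | succ k ih =>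
        have hpow : autFun (n : MulAut R) (z ^ k) = z ^ k := by
          have := hmn.map_zpow hzR₀.2 (k : ℤ)
          rw [zpow_natCast, zpow_natCast, hq] at this
          exact this
        rw [pow_succ', autFun_mul _ _ y.2, ih, hmn.map_mul y.2 (R.pow_mem hzR₀.2 k), hpow,
          autFun_coe, pow_succ', ← mul_assoc,
          show (y : Ω) * z = ((n : MulAut R) y : Ω) by rw [hzdef]; group]
    have hone := hiter (orderOf (n : MulAut R))
    rw [pow_orderOf_eq_one, autFun_one y.2, left_eq_mul] at hone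
    obtain ⟨j, hj⟩ := ModelNormal.exists_pow_eq_one hS (hR₀S hzR₀)
    have hz1 := eq_one_of_coprime_pow (hno'.pow_right j) hone hj
    rw [hzdef, inv_mul_eq_one] at hz1
    exact hz1.symm
  have hNP : N ≤ Pres := by
    refine ModelNormal.le_of_sylow_coprime (CfsgLib.SylowNumber.infSylow N RA) (fun a ha => ?_)
      fun n hn hno => h1 _ n.2 fun y hy => Subtype.ext (hfix n hn hno y hy)
    have ha' : (a : F.autGroup R) ∈ (RA : Subgroup (F.autGroup R)) := ha
    rw [hRA] at ha'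
    exact h2 _ ha'
  suffices h : (⊤ : Subgroup (F.autGroup R)) ≤ Pres from
    fun α hα => h (Subgroup.mem_top ⟨α, hα⟩)
  rw [← Sylow.normalizer_sup_eq_top (CfsgLib.SylowNumber.infSylow N RA),
    CfsgLib.SylowNumber.coe_infSylow, Subgroup.subgroupOf_map_subtype]
  refine sup_le (fun φ hφ => ?_) hNP
  have hRn' : ∀ t ∈ T, t ∈ Subgroup.normalizer (R : Set Ω) →
      t ∈ nPhi S R (autFun (φ : MulAut R)) := by
    intro t ht htn
    have htmem : (⟨conjAut R htn, autInducedBy_le_autGroup hRS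
        (conjAut_mem_autInducedBy htn (hTS ht))⟩ : F.autGroup R) ∈
          (RA : Subgroup (F.autGroup R)) ⊓ N := by
      refine ⟨hRA ▸ conjAut_mem_autInducedBy htn (hTS ht), fun x => ⟨?_, SetLike.coe_mem _⟩,
        (isMap_conj inf_le_left ht).congr fun x hx => ?_⟩
      · show (x : Ω)⁻¹ * (t * x * t⁻¹) ∈ T
        have h := normalizer_T hI (S.inv_mem (hRS x.2)) ht
        rw [inv_inv] at h
        rw [show (x : Ω)⁻¹ * (t * x * t⁻¹) = ((x : Ω)⁻¹ * t * x) * t⁻¹ by group]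
        exact T.mul_mem h (T.inv_mem ht)
      · show t * x * t⁻¹ = autFun (conjAut R htn) x
        rw [autFun_apply _ hx.2, conjAut_apply]
    have h1 := ((Subgroup.mem_normalizer_iff.1 hφ _).1 htmem).1
    rw [hRA] at h1
    obtain ⟨h', hh, hv⟩ := (mem_autInducedBy_iff S R _).1 h1
    refine ⟨hTS ht, htn, h', hh, fun x hx => ?_⟩
    have h2 := hv ((φ : MulAut R) ⟨x, hx⟩)
    simp only [Subgroup.subtype_apply, Subgroup.coe_mul, Subgroup.coe_inv, MulAut.mul_apply,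
      MulAut.inv_apply_self] at h2
    rw [autFun_apply _ (conj_mem_of_mem_normalizer htn hx), autFun_apply _ hx, ← h2]
    rfl
  obtain ⟨t, ht, htn, htR⟩ : ∃ t ∈ T, t ∈ Subgroup.normalizer (R : Set Ω) ∧ t ∉ R := by
    by_contra h
    push Not at h
    exact hTR (le_of_normalizer_inf_le hS hRS hTS (fun s hs => mem_normalizer_of_conj_mem hTS
      fun x hx => normalizer_T hI (hRS hs) hx) h)
  have hφi := (mem_autGroup_iff hRS _).1 φ.2
  obtain ⟨g, hg, hgv⟩ :=
    (isReceptive_iff.1 (isReceptive_of_isFullyNormalized hS hF hRn)).2 R _ hφi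
  have hlt := lt_nPhi_of_mem hφi.isMap (hRn' t ht htn) htR
  have := finite_of_le (S := S) (P := nPhi S R (autFun (φ : MulAut R))) (nPhi_le_self _ _)
  have hcard : Nat.card R < Nat.card (nPhi S R (autFun (φ : MulAut R))) :=
    lt_of_le_of_ne (Subgroup.card_le_of_le hlt.le)
      fun h => hlt.ne (Subgroup.eq_of_le_of_card_ge hlt.le h.ge)
  exact h3 _ φ.2 _ g hlt.le hcard hg fun x => by rw [hgv x x.2, autFun_coe]; rfl

theorem stronglyClosed_centE (hS : IsPGroup p S) (hF : F.IsSaturated p) (hE : E.IsNormalIn F p) :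
    F.StronglyClosed (centE E F p hE.1.2.2.2.1.1) := by
  have hI := hE.1.2.2
  have hTS := hI.2.1.1
  refine stronglyClosed_iff.2 ⟨(centE_le hTS).trans inf_le_left, fun P f hf x hx hxX => ?_⟩
  set M := presSystem F (centE E F p hE.1.2.2.2.1.1)
    (fun s hs => conj_mem_centE_iff hS hF hE hs) with hMdef
  suffices key : ∀ (P : Subgroup Ω) (f : Ω → Ω), IsMap F P f → IsMap M P f by
    obtain ⟨φ, hφ, hv⟩ := key P f hf
    rw [← hv ⟨x, hx⟩]
    exact (hφ.2 ⟨x, hx⟩).1 hxX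
  refine le_of_autGroup_le_step hS hF fun R hR hbig α hα => ?_
  have hRS : R ≤ S := by
    rcases hR with rfl | hR
    · exact le_rfl
    · exact hR.1.1
  have hαm := ((mem_autGroup_iff hRS α).1 hα).isMap
  obtain ⟨φ, hφ, hv⟩ := hαm
  refine mem_autGroup_of_isMap (F := M) (f := autFun α) ⟨φ, ⟨hφ, fun x => ?_⟩, hv⟩ α
    fun x => (autFun_coe α x).symm
  rw [hv, autFun_coe]
  by_cases hTR : T ≤ R
  · refine ⟨fun h => ?_, fun h => ?_⟩
    · have := mem_centE_of_map hS hF hE ((mem_autGroup_iff hRS α).1 hα).isMap hTR x.2 h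
      rwa [autFun_coe] at this
    · have := mem_centE_of_map hS hF hE
        ((mem_autGroup_iff hRS α⁻¹).1 (Subgroup.inv_mem _ hα)).isMap hTR (SetLike.coe_mem _) h
      rwa [autFun_coe, MulAut.inv_apply_self] at this
  · rcases hR with rfl | hR
    · exact absurd hTS hTR
    · let G₀ : Subgroup (MulAut R) :=
        { carrier := {a | ∀ x : R, (x : Ω) ∈ centE E F p hE.1.2.2.2.1.1 ↔
            (a x : Ω) ∈ centE E F p hE.1.2.2.2.1.1}
          one_mem' := fun x => Iff.rfl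
          mul_mem' := fun {a b} ha hb x => (hb x).trans (ha _)
          inv_mem' := fun {a} ha x => by
            have h := (ha (a⁻¹ x)).symm
            rwa [MulAut.apply_inv_self] at h }
      refine automizer_le hS hF hE hR.1 (isRadical_of_isEssential hS hR) hR.2.1 hTR G₀
        (fun β _ hfix y => ⟨fun hy => by rw [hfix y hy]; exact hy, fun hy => ?_⟩)
        (fun β hβ y => ?_) (fun β _ A g hRA hA hg hgv y => ?_) hα x
      · rw [← β.injective (hfix _ hy)]; exact hy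
      · obtain ⟨s, hs, hsv⟩ := (mem_autInducedBy_iff S R _).1 hβ
        rw [hsv y]
        exact conj_mem_centE_iff hS hF hE hs y
      · obtain ⟨ψ, hψ, hψv⟩ := hbig A g hA hg
        have h := hψ.2 ⟨y, hRA y.2⟩
        rwa [hψv, hgv] at h

end CfsgLib.Fusion.NormalCentralizer
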