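import Cfsg.Agent.Lib.Fusion.SupplementSaturated
import Cfsg.Agent.Lib.Fusion.StrongInvariance
import Cfsg.Agent.Lib.Fusion.GoodRadical
import Cfsg.Agent.Lib.Fusion.PowerIndex

/-!
The product of a normal subsystem `E` with `R` is the only saturated subsystem over `R` containing
`E`, with hyperfocal subgroup in `T`, whose automorphisms of order prime to `p` on `T` lie in `E`.
-/

set_option autoImplicit false
set_option linter.unusedSectionVars false

namespace CfsgLib.Fusion.Supplement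

open Cfsg Cfsg.FusionSystem
open CfsgLib.Fusion.NormalCentralizer

variable {Ω : Type*} [Group Ω] {S T R : Subgroup Ω} {F : FusionSystem S} {E : FusionSystem T}
variable {p : ℕ} [Fact p.Prime] [Finite S]

namespace Setting

variable (h : Setting F p E R)
include h

theorem top_centric : E.IsCentric T := by
  have : Finite T := finite_of_le h.TS
  refine ⟨le_rfl, fun Q hQ => ?_⟩
  obtain ⟨g, hg⟩ := isConj_iff.1 hQ
  rw [Subgroup.eq_of_le_of_card_ge hg.le_right hg.card_eq.ge]
  exact inf_le_left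

/-- `E` lies in the product. -/
theorem sub_E : E.IsSubsystemOf h.sys := by
  have hTp : IsPGroup p T := h.pgroup.to_le h.TS
  have : Finite T := finite_of_le h.TS
  have hI := h.inv
  let M : Subgroup Ω → (Ω → Ω) → Prop := fun P f => IsMap E P f ∧ IsMap h.sys P f
  have hM : PPrime.IsSubPred E M :=
    { isMap := fun h => h.1
      congr := fun h he => ⟨h.1.congr he, h.2.congr he⟩
      conj := fun hP hg => ⟨isMap_conj hP hg, isMap_conj (hP.trans h.TR) (h.TR hg)⟩
      comp := fun h h' hm => ⟨h.1.comp h'.1 hm, h.2.comp h'.2 hm⟩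
      inv := fun {P Q f r} hf hi hr h1 => by
        refine ⟨hr.isMap, ?_⟩
        obtain ⟨r', hr', hr'1, -⟩ := IsIso.exists_symm ⟨hf.2, hi.image_eq⟩
        refine hr'.isMap.congr fun y hy => ?_
        obtain ⟨x, hx, rfl⟩ := hi.surj hy
        rw [hr'1 x hx, h1 x hx] }
  have hle : E ≤ PPrime.ofPred E M hM := by
    refine le_of_autGroup_le' hTp h.normal.1.1 fun U hU => ?_
    obtain ⟨hUfn, hUc⟩ : E.IsFullyNormalized U ∧ E.IsCentric U := by
      rcases hU with rfl | hU
      · refine ⟨⟨le_rfl, fun Q hQ => ?_⟩, h.top_centric⟩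
        obtain ⟨g, hg⟩ := isConj_iff.1 hQ
        rw [Subgroup.eq_of_le_of_card_ge hg.le_right hg.card_eq.ge]
      · exact ⟨hU.2.1, hU.1⟩
    have := finite_of_le hUfn.1
    have := finite_mulAut U
    obtain ⟨-, Sy, hSy⟩ := isFullyAutomized_of_isFullyNormalized hTp h.normal.1.1 hUfn
    refine ModelNormal.le_of_sylow_coprime Sy (fun a ha => ?_) fun a ha hao => ?_
    · rw [hSy] at ha
      exact autInducedBy_le_autGroup hUfn.1 ha
    have hm := ((mem_autGroup_iff hUfn.1 a).1 ha).isMap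
    have hUR : U ≤ R := hUfn.1.trans h.TR
    have hG : Gen F E p R U a := by
      refine ⟨⟨hUR, by rwa [inf_eq_left.2 hUfn.1]⟩, mem_gam hI ((mem_autGroup_iff
        (hUR.trans h.RS) a).2 (((mem_autGroup_iff hUfn.1 a).1 ha).of_subsystem hI.1))
        (fun x hx => T.mul_mem (T.inv_mem (hUfn.1 hx)) (hm.mem hx)) (hm.mono inf_le_left), hao⟩
    exact mem_autGroup_of_isMap ((PPrime.isMap_ofPred hM).2
      ⟨hm, ((mem_autGroup_iff hUR a).1 (h.mem_sys hG)).isMap⟩) a fun x => (autFun_coe a x).symm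
  exact fun P φ hφ => (mem_hom_iff φ).2
    ((PPrime.isMap_ofPred hM).1 (isMap_of_subsystem hle (isMap_homFun hφ))).2

/-- `E` is invariant in the saturated subsystems over `R` containing it. -/
theorem invariant_of_sub {D : FusionSystem R} (hD : D.IsSaturated p) (hDF : D.IsSubsystemOf F)
    (hED : E.IsSubsystemOf D) : E.IsInvariantIn D := by
  have : Finite R := finite_of_le h.RS
  have hI := h.inv
  have hT : D.StronglyClosed T := stronglyClosed_iff.2 ⟨h.TR, fun P f hf x hx hxT =>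
    isMap_mem_of_stronglyClosed hI.2.1 (isMap_of_subsystem hDF hf) hx hxT⟩
  refine (isInvariantIn_iff_strongInvariant (h.pgroup.to_le h.RS) hD hED hT).2 ?_
  intro P Q f g hPQ hQT hf hfQ hg
  exact strongInvariant_of_invariant hI P Q f g hPQ hQT hf hfQ (isMap_of_subsystem hDF hg)

variable {D : FusionSystem R}

theorem le_sys (hD : D.IsSaturated p) (hDF : D.IsSubsystemOf F) (hED : E.IsSubsystemOf D)
    (hyp : D.hyperfocalSubgroup p ≤ T)
    (hc : ∀ P : Subgroup Ω, P ≤ T → ∀ α ∈ D.autGroup P, (orderOf α).Coprime p →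
      α ∈ E.autGroup P) : D ≤ h.sys := by
  have : Finite R := finite_of_le h.RS
  have hRp : IsPGroup p R := h.pgroup.to_le h.RS
  refine le_of_autGroup_le' hRp hD fun P hP => ?_
  obtain ⟨hfn, hc'⟩ : D.IsFullyNormalized P ∧ E.IsCentric (P ⊓ T) := by
    rcases hP with rfl | hP
    · refine ⟨⟨le_rfl, fun Q hQ => ?_⟩, by rw [inf_eq_right.2 h.TR]; exact h.top_centric⟩
      obtain ⟨g, hg⟩ := isConj_iff.1 hQ
      rw [Subgroup.eq_of_le_of_card_ge hg.le_right hg.card_eq.ge]
    · exact ⟨hP.2.1, Character.isCentric_inf_of_isEssential hRp hD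
        (h.invariant_of_sub hD hDF hED) hP⟩
  have hPR := hfn.1
  have hPS := hPR.trans h.RS
  have := finite_of_le hPS
  have := finite_mulAut P
  obtain ⟨-, Sy, hSy⟩ := isFullyAutomized_of_isFullyNormalized hRp hD hfn
  refine ModelNormal.le_of_sylow_coprime Sy (fun a ha => ?_) fun a ha hao => ?_
  · rw [hSy] at ha
    exact autInducedBy_le_autGroup hPR ha
  have hai := (mem_autGroup_iff hPR a).1 ha
  have hUU : ∀ x ∈ P ⊓ T, autFun a x ∈ P ⊓ T := fun x hx => ⟨autFun_mem a hx.1,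
    isMap_mem_of_stronglyClosed h.inv.2.1 (isMap_of_subsystem hDF hai.isMap) hx.1 hx.2⟩
  have := finite_of_le (S := S) (P := P ⊓ T) (inf_le_left.trans hPS)
  obtain ⟨e, he, hev⟩ :=
    exists_mem_autGroup ((hai.isMap.mono (inf_le_left : P ⊓ T ≤ P)).isIso_of_card_le hUU le_rfl)
  have heo : (orderOf e).Coprime p := coprime_orderOf_restrict inf_le_left
    (fun x hx => by rw [autFun_apply e hx, hev]) hao
  have heE := ((mem_autGroup_iff inf_le_right e).1 (hc _ inf_le_right e he heo)).isMap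
  refine h.mem_sys ⟨⟨hPR, hc'⟩, mem_gam h.inv ((mem_autGroup_iff hPS a).2 (hai.of_subsystem hDF))
    (fun x hx => hyp ?_) (heE.congr fun x hx => by rw [autFun_apply e hx, hev]), hao⟩
  have h1 := inv_mul_mem_hyperfocal hPR (α := ⟨a, ha⟩)
    (CfsgLib.Transfer.mem_pResidual_of_coprime (by rw [← Subgroup.orderOf_coe]; exact hao)) ⟨x, hx⟩
  rwa [← autFun_apply a hx] at h1

set_option maxHeartbeats 1000000 in
/-- The generators at subgroups with fully normalised trace. -/
theorem mem_of_fn (hD : D.IsSaturated p) (hDF : D.IsSubsystemOf F) (hED : E.IsSubsystemOf D)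
    (hyp : D.hyperfocalSubgroup p ≤ T) {P : Subgroup Ω} (hPR : P ≤ R)
    (hPc : E.IsCentric (P ⊓ T)) (hPT : TMax F T P) (hU : D.IsFullyNormalized (P ⊓ T))
    {γ : MulAut P} (hγ : γ ∈ Gam F E P) (ho : (orderOf γ).Coprime p) : γ ∈ D.autGroup P := by
  have : Finite R := finite_of_le h.RS
  have hI := h.inv
  have hPS := hPR.trans h.RS
  have := finite_of_le hPS
  have := finite_mulAut P
  set U := P ⊓ T with hUdef
  have := finite_of_le (S := S) (P := U) (inf_le_left.trans hPS)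
  have hγU : ∀ x ∈ U, autFun γ x ∈ U := fun x hx =>
    ⟨autFun_mem γ hx.1, (gam_isMap hγ).mem hx⟩
  have hγi : IsIso D U U (autFun γ) :=
    (isMap_of_subsystem hED (gam_isMap hγ)).isIso_of_card_le hγU le_rfl
  obtain ⟨e, he, hev⟩ := exists_mem_autGroup hγi
  have heγ : ∀ x ∈ U, autFun γ x = autFun e x := fun x hx => by rw [autFun_apply e hx, hev]
  obtain ⟨β, hβ, hβv⟩ := (isReceptive_iff.1
    (isReceptive_of_isFullyNormalized (h.pgroup.to_le h.RS) hD hU)).2 U _ hγi
  set W := P ⊔ centralizerIn R U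
  have hWR : W ≤ R := sup_le hPR inf_le_left
  have := finite_of_le (hWR.trans h.RS)
  have := finite_mulAut W
  have hUW : U ≤ W := inf_le_left.trans le_sup_left
  have hPn : ∀ x ∈ P, x ∈ Subgroup.normalizer (U : Set Ω) := fun x hx =>
    mem_normalizer_of_conj_mem (inf_le_left.trans hPS) fun z hz =>
      ⟨P.mul_mem (P.mul_mem hx hz.1) (P.inv_mem hx), h.normT (hPS hx) hz.2⟩
  have hγm := ((mem_autGroup_iff hPS γ).1 (gam_le P hγ)).isMap
  have hdom : W ≤ nPhi R U (autFun γ) := sup_le (fun x hx => ⟨hPR hx, hPn x hx, autFun γ x,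
    hPR (autFun_mem γ hx), fun z hz => hγm.map_conj hx hz.1⟩) (centralizerIn_le_nPhi U _)
  have hβm := hβ.mono hdom
  -- the maps agreeing with `γ` on `U` differ from it by centralising elements
  have hdiff : ∀ (g : Ω → Ω), IsMap D W g → (∀ z ∈ U, g z = autFun γ z) →
      ∀ x ∈ P, (autFun γ x)⁻¹ * g x ∈ centralizerIn R U := by
    intro g hg hgv x hx
    refine ⟨R.mul_mem (R.inv_mem (hPR (autFun_mem γ hx))) (hg.mem (Subgroup.mem_sup_left hx)),
      mem_centralizer_of_conj_eq fun w hw => ?_⟩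
    obtain ⟨z, hz, rfl⟩ := hγi.surj hw
    have hc := conj_mem_of_mem_normalizer (hPn x hx) hz
    have h1 := hgv _ hc
    rw [hg.map_conj (Subgroup.mem_sup_left hx) (hUW hz), hgv z hz, hγm.map_conj hx hz.1] at h1
    calc (autFun γ x)⁻¹ * g x * autFun γ z * ((autFun γ x)⁻¹ * g x)⁻¹
        = (autFun γ x)⁻¹ * (g x * autFun γ z * (g x)⁻¹) * autFun γ x := by group
      _ = autFun γ z := by rw [h1]; group
  have hβW : ∀ w ∈ W, β w ∈ W := mem_of_mem_sup hβm le_sup_left le_sup_right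
    (fun x hx => by
      have h1 := hdiff β hβm hβv x hx
      rw [show β x = autFun γ x * ((autFun γ x)⁻¹ * β x) by group]
      exact Subgroup.mul_mem_sup (autFun_mem γ hx) h1)
    fun c hc => Subgroup.mem_sup_right ⟨hβm.mem (Subgroup.mem_sup_right hc),
      (hβm.mem_centralizerIn hUW (hγi.congr fun z hz => (hβv z hz).symm)
        (Subgroup.mem_sup_right hc) hc.2).2⟩
  obtain ⟨b₀, hb₀, hb₀v⟩ := exists_mem_autGroup (hβm.isIso_of_card_le hβW le_rfl)
  obtain ⟨m, hm1, hmo⟩ := Residual.exists_pPrime_pow (p := p) b₀ ho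
  set b := b₀ ^ m
  have hbD : b ∈ D.autGroup W := (D.autGroup W).pow_mem hb₀ m
  have heo : orderOf e ∣ orderOf γ := orderOf_dvd_of_pow_eq_one (MulEquiv.ext fun z =>
    Subtype.ext (by
      have h5 := autFun_pow_eq (inf_le_left : U ≤ P) heγ (orderOf γ) z z.2
      rw [pow_orderOf_eq_one, autFun_one z.2.1, autFun_coe] at h5
      exact h5.symm))
  have hbU : ∀ z ∈ U, autFun b z = autFun γ z := fun z hz => by
    rw [autFun_pow_eq hUW (δ := b₀) (α := e) (fun y hy => by
      rw [autFun_apply b₀ (hUW hy), hb₀v, hβv y hy, heγ y hy]) m z hz,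
      Residual.pow_eq_self_of_modEq (hm1.of_dvd heo), heγ z hz]
  have hbm := ((mem_autGroup_iff hWR b).1 hbD).isMap
  have hC : ∀ x ∈ P, (autFun γ x)⁻¹ * autFun b x ∈ U := fun x hx => by
    have h1 := hdiff _ hbm hbU x hx
    refine ⟨?_, ?_⟩
    swap
    · have h2 := inv_mul_mem_hyperfocal hWR (α := ⟨b, hbD⟩)
        (CfsgLib.Transfer.mem_pResidual_of_coprime (by rw [← Subgroup.orderOf_coe]; exact hmo))
        ⟨x, Subgroup.mem_sup_left hx⟩
      rw [← autFun_apply b (Subgroup.mem_sup_left hx)] at h2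
      have := T.mul_mem (T.inv_mem (gam_mod hγ hx)) (hyp h2)
      simpa [mul_assoc] using this
    · refine (hPc.2 U (isConj_refl inf_le_right) ⟨?_, h1.2⟩).1
      have h2 := inv_mul_mem_hyperfocal hWR (α := ⟨b, hbD⟩)
        (CfsgLib.Transfer.mem_pResidual_of_coprime (by rw [← Subgroup.orderOf_coe]; exact hmo))
        ⟨x, Subgroup.mem_sup_left hx⟩
      rw [← autFun_apply b (Subgroup.mem_sup_left hx)] at h2
      have := T.mul_mem (T.inv_mem (gam_mod hγ hx)) (hyp h2)
      simpa [mul_assoc] using this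
  have hbP : ∀ x ∈ P, autFun b x ∈ P := fun x hx => by
    have := P.mul_mem (autFun_mem γ hx) (hC x hx).1
    rwa [mul_inv_cancel_left] at this
  obtain ⟨b', hb', hb'v⟩ :=
    exists_mem_autGroup ((hbm.mono (le_sup_left : P ≤ W)).isIso_of_card_le hbP le_rfl)
  have hb'e : ∀ x ∈ P, autFun b x = autFun b' x := fun x hx => by
    rw [autFun_apply b' hx, hb'v]
  have hb'o : (orderOf b').Coprime p :=
    coprime_orderOf_restrict (le_sup_left : P ≤ W) hb'e hmo
  have hb'F : b' ∈ F.autGroup P :=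
    (mem_autGroup_iff hPS b').2 (((mem_autGroup_iff hPR b').1 hb').of_subsystem hDF)
  have hb'G : b' ∈ Gam F E P := mem_gam hI hb'F (fun x hx => by
    rw [← hb'e x hx]
    have := T.mul_mem (gam_mod hγ hx) (hC x hx).2
    simpa [mul_assoc] using this) ((gam_isMap hγ).congr fun z hz => by
      rw [← hb'e z hz.1, hbU z hz])
  set δ := γ⁻¹ * b'
  have hOc : Oc F E p P ≤ Gam F E P := oc_le P
  have hδO : δ ∈ Oc F E p P := Subgroup.mul_mem _
    (Subgroup.inv_mem _ (Subgroup.subset_closure ⟨hγ, ho⟩))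
    (Subgroup.subset_closure ⟨hb'G, hb'o⟩)
  have hδfix : δ ∈ MeetExt.modSub U P := by
    have hval : ∀ x : P, (δ x : Ω) = autFun γ⁻¹ (autFun b x) := fun x => by
      rw [show δ x = γ⁻¹ (b' x) from rfl, hb'e x x.2, autFun_coe, autFun_coe]
    refine ⟨fun z hz => Subtype.ext ?_, fun x => ?_⟩
    · rw [hval, hbU _ hz, ← CfsgLib.Fusion.autFun_mul _ _ z.2, inv_mul_cancel, autFun_one z.2]
    · rw [hval, show autFun b x = autFun γ x * ((autFun γ x)⁻¹ * autFun b x) by group,
        ((mem_autGroup_iff hPS γ⁻¹).1 ((F.autGroup P).inv_mem (gam_le P hγ))).isMap.map_mul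
          (autFun_mem γ x.2) (hC x x.2).1, ← CfsgLib.Fusion.autFun_mul _ _ x.2, inv_mul_cancel,
        autFun_one x.2, inv_mul_cancel_left]
      exact ⟨autFun_mem _ (hC x x.2).1, (gam_isMap ((Gam F E P).inv_mem hγ)).mem (hC x x.2)⟩
  set A := Oc F E p P ⊓ MeetExt.modSub U P
  have hAn : ∀ g ∈ Oc F E p P, ∀ a ∈ A, g * a * g⁻¹ ∈ A := by
    intro g hg a ha
    have hst : ∀ k ∈ Oc F E p P, ∀ z : P, (z : Ω) ∈ U → (k z : Ω) ∈ U := fun k hk z hz =>
      ⟨(k z).2, by
        rw [← autFun_coe k z]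
        exact (gam_isMap (hOc hk)).mem hz⟩
    refine ⟨Subgroup.mul_mem _ (Subgroup.mul_mem _ hg ha.1) (Subgroup.inv_mem _ hg),
      MeetExt.conj_fixSub (fun z hz => hst _ ((Oc F E p P).inv_mem hg) z hz) ha.2.1, fun z => ?_⟩
    obtain ⟨y, rfl⟩ := g.surjective z
    have e : (g * a * g⁻¹) (g y) = g y * g (y⁻¹ * a y) := by
      rw [MulAut.mul_apply, MulAut.mul_apply, MulAut.inv_apply_self, ← map_mul,
        mul_inv_cancel_left]
    rw [e, Subgroup.coe_mul, inv_mul_cancel_left]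
    exact hst g hg _ (ha.2.2 y)
  obtain ⟨δ₀, hδ₀, hδ₀v⟩ := h.toData.exists_conj_oc hPT hPc (inf_le_left : A ≤ _)
    ((MeetExt.isPGroup_modSub h.pgroup hPS).to_le inf_le_right)
  have hδT : δ ∈ autInducedBy T P := by
    have h1 := hδ₀v (δ₀⁻¹ * δ * δ₀⁻¹⁻¹) (hAn _ ((Oc F E p P).inv_mem hδ₀) _ ⟨hδO, hδfix⟩)
    simpa [mul_assoc] using h1
  rw [show γ = b' * δ⁻¹ by simp only [δ]; group]
  exact Subgroup.mul_mem _ hb' (Subgroup.inv_mem _ (autInducedBy_le_autGroup hPR
    (autInducedBy_mono h.TR P hδT)))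

/-- The product lies in every such system. -/
theorem sys_le_of_sub (hD : D.IsSaturated p) (hDF : D.IsSubsystemOf F) (hED : E.IsSubsystemOf D)
    (hyp : D.hyperfocalSubgroup p ≤ T) : h.sys ≤ D := by
  have : Finite R := finite_of_le h.RS
  have hRp : IsPGroup p R := h.pgroup.to_le h.RS
  have hI := h.inv
  refine le_of_autGroup_le' hRp h.isSaturated fun P hP => ?_
  obtain ⟨hfn, hc⟩ : h.sys.IsFullyNormalized P ∧ E.IsCentric (P ⊓ T) := by
    rcases hP with rfl | hP
    · refine ⟨⟨le_rfl, fun Q hQ => ?_⟩, by rw [inf_eq_right.2 h.TR]; exact h.top_centric⟩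
      obtain ⟨g, hg⟩ := isConj_iff.1 hQ
      rw [Subgroup.eq_of_le_of_card_ge hg.le_right hg.card_eq.ge]
    · exact ⟨hP.2.1, Character.isCentric_inf_of_isEssential hRp h.isSaturated
        (h.invariant_of_sub h.isSaturated h.sub h.sub_E) hP⟩
  have hbig : h.Big P := fun L hL hLc _ => h.sat_fam L hL hLc
  have hPR := hfn.1
  rw [h.autGroup_eq hPR hc hfn hbig]
  refine sup_le (autInducedBy_le_autGroup hPR) ((Subgroup.closure_le _).2 ?_)
  rintro γ ⟨hγ, ho⟩
  have hPS := hPR.trans h.RS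
  have hT := h.tMax hfn hc hbig
  set U := P ⊓ T
  obtain ⟨U', hUU', hU'⟩ := exists_isFullyNormalized (F := D) (inf_le_left.trans hPR : U ≤ R)
  obtain ⟨f, hf, hfi, -, -⟩ := exists_map_normalizerIn hRp
    (isFullyAutomized_of_isFullyNormalized hRp hD hU')
    (isReceptive_of_isFullyNormalized hRp hD hU') hUU'
  have hPN : P ≤ normalizerIn R U := fun x hx =>
    ⟨hPR hx, (normalizerIn_le_normalizerIn_inf (p := p) hI hPS (le_normalizerIn hPS hx)).2⟩
  obtain ⟨P', hP'⟩ := (hf.mono hPN).exists_iso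
  have hP'F := hP'.of_subsystem hDF
  have hU'P : P' ⊓ T = U' := SetLike.coe_injective
    ((iso_inf hI hP'F).image_eq.symm.trans hfi.image_eq)
  have hT' : TMax F T P' := by
    refine ⟨hP'F.le_right, fun Q hQ => (hT.2 Q (isConj_trans hP'F.isConj hQ)).trans ?_⟩
    have := finite_of_le (S := S) (P := normalizerIn T P') (inf_le_left.trans h.TS)
    have hle : normalizerIn T P ≤ normalizerIn R U := fun t ht => ⟨h.TR ht.1,
      (normalizerIn_le_normalizerIn_inf (p := p) hI hPS ⟨h.TS ht.1, ht.2⟩).2⟩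
    exact (isMap_of_subsystem hDF (hf.mono hle)).card_le fun t ht =>
      ⟨isMap_mem_of_stronglyClosed hI.2.1 (isMap_of_subsystem hDF hf) (hle ht) ht.1,
        ((isMap_of_subsystem hDF hf).mem_normalizerIn hPN hP'F (hle ht) ht.2).2⟩
  have hγ' := h.mem_of_fn hD hDF hED hyp hP'.le_right (centric_transport hI hP'F hc) hT'
    (hU'P.symm ▸ hU') (gam_transport hI hP'F hγ) (by rw [MulEquiv.orderOf_eq]; exact ho)
  obtain ⟨r, hr, hr1, -⟩ := hP'.exists_symm
  have e := congr_symm_apply_eq hP'F (hr.of_subsystem hDF) hr1 (MulAut.congr hP'F.equiv γ)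
  rw [MulEquiv.symm_apply_apply] at e
  rw [SetLike.mem_coe, e]
  exact hr.congr_mem_autGroup hγ'

/-- Uniqueness. -/
theorem eq_sys (hD : D.IsSaturated p) (hDF : D.IsSubsystemOf F) (hED : E.IsSubsystemOf D)
    (hyp : D.hyperfocalSubgroup p ≤ T)
    (hc : ∀ P : Subgroup Ω, P ≤ T → ∀ α ∈ D.autGroup P, (orderOf α).Coprime p →
      α ∈ E.autGroup P) (P : Subgroup Ω) : D.Hom P = h.sys.Hom P :=
  Set.Subset.antisymm (h.le_sys hD hDF hED hyp hc P) (h.sys_le_of_sub hD hDF hED hyp P)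

end Setting

end CfsgLib.Fusion.Supplement
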