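import Cfsg.Agent.Lib.Fusion.NormalCentralizerSystem
import Cfsg.Agent.Lib.Fusion.SupplementUnique
import Cfsg.Agent.Lib.Fusion.CenterFactor

/-!
The centraliser of the support of a normal subsystem: commutators lie in `C_S(E)`, and for odd `p`
every element is, up to `T`, central in the product of `E` with `T⟨c⟩`.
-/

set_option autoImplicit false

namespace CfsgLib.Fusion.NormalCentralizerOdd

open Cfsg Cfsg.FusionSystem NormalCentralizer
open scoped commutatorElement

universe u

variable {Ω : Type u} [Group Ω] {S T : Subgroup Ω} {F : FusionSystem S} {E : FusionSystem T}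
  {p : ℕ}

/-- Averaging over the cosets of the stabiliser. -/
theorem exists_fixed_avg {A M : Type*} [Group A] [Finite A] [CommGroup M] (act : A →* MulAut M)
    (I : Subgroup A) (x : M) (hI : ∀ a ∈ I, act a x = x) (N : Subgroup M)
    (hN : ∀ a, x⁻¹ * act a x ∈ N) :
    ∃ v, (∀ a, act a v = v) ∧ (x ^ I.index)⁻¹ * v ∈ N := by
  have := Fintype.ofFinite (A ⧸ I)
  let f : A ⧸ I → M := fun q => Quotient.liftOn' q (fun a => act a x) fun a b hab => by
    have h := hI _ (QuotientGroup.leftRel_apply.1 hab)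
    show act a x = act b x
    conv_rhs => rw [show b = a * (a⁻¹ * b) from (mul_inv_cancel_left a b).symm, map_mul,
      MulAut.mul_apply, h]
  have hf : ∀ a : A, f (QuotientGroup.mk a) = act a x := fun a => rfl
  refine ⟨∏ q, f q, fun a => ?_, ?_⟩
  · rw [map_prod]
    refine Fintype.prod_equiv (MulAction.toPerm a) _ _ fun q => ?_
    induction q using QuotientGroup.induction_on with
    | H b =>
      show act a (f (QuotientGroup.mk b)) = f (QuotientGroup.mk (a * b))
      rw [hf, hf, map_mul, MulAut.mul_apply]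
  · rw [Subgroup.index_eq_card, Nat.card_eq_fintype_card, ← Finset.card_univ, ← Finset.prod_const,
      ← Finset.prod_inv_distrib, ← Finset.prod_mul_distrib]
    refine N.prod_mem fun q _ => ?_
    induction q using QuotientGroup.induction_on with
    | H b =>
      rw [hf]
      exact hN b

/-- `MulAut` acting on the centre. -/
def centerAct (U : Subgroup Ω) (A : Subgroup (MulAut U)) : A →* MulAut (Subgroup.center U) where
  toFun a := Subgroup.centerCongr (a : MulAut U)
  map_one' := MulEquiv.ext fun _ => Subtype.ext rfl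
  map_mul' _ _ := MulEquiv.ext fun _ => Subtype.ext rfl

variable [Fact p.Prime]

/-- In a system with a normal subgroup `U` the average of a central element is central. -/
theorem exists_center_avg {R : Subgroup Ω} [Finite R] (hR : IsPGroup p R) {D : FusionSystem R}
    (hD : D.IsSaturated p) {U : Subgroup Ω} (hU : D.IsNormal U) {c : Ω} (hcU : c ∈ U)
    (hc : c ∈ Subgroup.centralizer (R : Set Ω)) (T : Subgroup Ω)
    (hT : ∀ f, IsMap D U f → c⁻¹ * f c ∈ T) :
    ∃ v ∈ D.center, ∃ m : ℕ, ¬ p ∣ m ∧ (c ^ m)⁻¹ * v ∈ T := by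
  classical
  have hUR : U ≤ R := hU.1
  have := finite_of_le hUR
  have := finite_mulAut U
  have hnor : R ≤ Subgroup.normalizer (U : Set Ω) := le_normalizer_of_isNormal hU
  have hUn : D.IsFullyNormalized U := ⟨hUR, fun Q _ => by
    rw [show normalizerIn R U = R from inf_eq_left.2 hnor]
    exact Subgroup.card_le_of_le inf_le_left⟩
  set A := D.autGroup U with hA
  set I := (autInducedBy R U).subgroupOf A with hI
  obtain ⟨P, hP⟩ : ∃ P : Sylow p A, (P : Subgroup A) = I :=
    (isFullyAutomized_of_isFullyNormalized hR hD hUn).2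
  have hm : ¬ p ∣ I.index := by rw [← hP]; exact P.not_dvd_index
  let _ : CommGroup (Subgroup.center U) :=
    { (Subgroup.center U).toGroup with
      mul_comm := fun a b => Subtype.ext (Subgroup.mem_center_iff.1 b.2 a) }
  let x : Subgroup.center U := ⟨⟨c, hcU⟩, Subgroup.mem_center_iff.2 fun y =>
    Subtype.ext (hc y (hUR y.2))⟩
  have hI' : ∀ a ∈ I, centerAct U A a x = x := by
    intro a ha
    obtain ⟨g, hg, hgv⟩ := (mem_autInducedBy_iff R U _).1 (show (a : MulAut U) ∈ _ from ha)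
    refine Subtype.ext (Subtype.ext ?_)
    show (((a : MulAut U) (x : U) : U) : Ω) = c
    rw [hgv]
    show g * c * g⁻¹ = c
    rw [hc g hg, mul_inv_cancel_right]
  have hN' : ∀ a, x⁻¹ * centerAct U A a x ∈
      T.comap (U.subtype.comp (Subgroup.center U).subtype) := by
    intro a
    show c⁻¹ * (((a : MulAut U) (x : U) : U) : Ω) ∈ T
    rw [← autFun_coe]
    exact hT _ ((mem_autGroup_iff hUR _).1 a.2).isMap
  obtain ⟨v, hv, hvT⟩ := exists_fixed_avg (centerAct U A) I x hI' _ hN'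
  refine ⟨((v : U) : Ω), ?_, I.index, hm, ?_⟩
  · have hyU : ((v : U) : Ω) ∈ U := SetLike.coe_mem _
    refine (le_sSup (show D.IsCentral (Subgroup.zpowers ((v : U) : Ω)) from isCentral_of_fixed hR hD
      (Subgroup.zpowers_le.2 (hUR hyU)) fun P f hf y hy hyv => ?_) :
      Subgroup.zpowers ((v : U) : Ω) ≤ D.center) (Subgroup.mem_zpowers _)
    obtain ⟨g, hg, hag, him⟩ := (isNormal_iff.1 hU).2 P f hf
    obtain ⟨α, hα, hαv⟩ := exists_mem_autGroup
      (⟨hg.mono le_sup_right, him⟩ : IsIso D U U g)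
    obtain ⟨i, rfl⟩ := Subgroup.mem_zpowers_iff.1 hyv
    have hfix : α (v : U) = (v : U) := congrArg Subtype.val (hv ⟨α, hα⟩)
    have hgy : g ((v : U) : Ω) = ((v : U) : Ω) := by rw [← hαv, hfix]
    rw [← hag _ hy, hg.map_zpow (Subgroup.mem_sup_right hyU), hgy]
  · simpa [x] using hvT

variable [Finite S]

omit [Fact p.Prime] [Finite S] in
/-- Commutators of `C_S(T)` lie in `C_S(E)`. -/
theorem commutator_mem_centE (hE : E.IsNormalIn F p) {a b : Ω} (ha : a ∈ centralizerIn S T)
    (hb : b ∈ centralizerIn S T) : ⁅a, b⁆ ∈ centE E F p hE.1.2.2.2.1.1 := by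
  have hTS : T ≤ S := hE.1.2.2.2.1.1
  have hab : ⁅a, b⁆ ∈ centralizerIn S T := by
    rw [commutatorElement_def]
    exact Subgroup.mul_mem _ (Subgroup.mul_mem _ (Subgroup.mul_mem _ ha hb)
      (Subgroup.inv_mem _ ha)) (Subgroup.inv_mem _ hb)
  refine ⟨hab, fun U δ hU hδ => ?_⟩
  have hUT : U ≤ T := hU.1
  have hUS : U ≤ S := hUT.trans hTS
  have hm := hδ.isMap hUS
  have ha' := mem_centralizerIn_of_le hUT ha
  have hb' := mem_centralizerIn_of_le hUT hb
  obtain ⟨u, hu, hau⟩ : ∃ u ∈ U, autFun δ a = a * u := ⟨_, hδ.mod a ha', by group⟩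
  obtain ⟨w, hw, hbw⟩ : ∃ w ∈ U, autFun δ b = b * w := ⟨_, hδ.mod b hb', by group⟩
  -- `u` and `w` are central in `U`, and commute with `a` and `b`
  have huZ : ∀ z ∈ U, z * u = u * z := fun z hz => by
    have h1 := (hδ.mem_centralizerIn hUS ha').2 z hz
    rw [hau, ← mul_assoc, ha'.2 z hz, mul_assoc, mul_assoc] at h1
    exact mul_left_cancel h1
  have c1 : Commute a u := (ha'.2 u hu).symm
  have c2 : Commute a w := (ha'.2 w hw).symm
  have c3 : Commute b u := (hb'.2 u hu).symm
  have c4 : Commute b w := (hb'.2 w hw).symm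
  have c5 : Commute u w := (huZ w hw).symm
  have haV : a ∈ U ⊔ centralizerIn S U := Subgroup.mem_sup_right ha'
  have hbV : b ∈ U ⊔ centralizerIn S U := Subgroup.mem_sup_right hb'
  rw [commutatorElement_def, hm.map_mul (Subgroup.mul_mem _ (Subgroup.mul_mem _ haV hbV)
    (Subgroup.inv_mem _ haV)) (Subgroup.inv_mem _ hbV), hm.map_mul (Subgroup.mul_mem _ haV hbV)
    (Subgroup.inv_mem _ haV), hm.map_mul haV hbV, hm.map_inv haV, hm.map_inv hbV, hau, hbw]
  calc a * u * (b * w) * (a * u)⁻¹ * (b * w)⁻¹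
      = a * (u * b) * w * u⁻¹ * a⁻¹ * w⁻¹ * b⁻¹ := by group
    _ = a * b * (u * w) * u⁻¹ * (a⁻¹ * w⁻¹) * b⁻¹ := by rw [← c3.eq]; group
    _ = a * b * (w * u) * u⁻¹ * (w⁻¹ * a⁻¹) * b⁻¹ := by rw [c5.eq, c2.inv_inv.eq]
    _ = a * b * a⁻¹ * b⁻¹ := by group

/-- For odd `p` every element of `C_S(T)` is, modulo `T` and up to an exponent prime to `p`,
centralised by `E`. -/
theorem exists_centralised (hp : p ≠ 2) (hS : IsPGroup p S) (hF : F.IsSaturated p)
    (hE : E.IsNormalIn F p) {c : Ω} (hc : c ∈ centralizerIn S T) :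
    ∃ v ∈ centralizerIn S T, (∀ P : Subgroup Ω, E.Hom P ⊆
      F.centralizerHom (Subgroup.zpowers v) P) ∧ ∃ m : ℕ, ¬ p ∣ m ∧ (c ^ m)⁻¹ * v ∈ T := by
  have hTS : T ≤ S := hE.1.2.2.2.1.1
  set R := T ⊔ Subgroup.zpowers c with hR
  have hRS : R ≤ S := sup_le hTS (Subgroup.zpowers_le.2 hc.1)
  have hcR : c ∈ R := Subgroup.mem_sup_right (Subgroup.mem_zpowers c)
  have h : Supplement.Setting F p E R := ⟨⟨hS, hF, hE⟩, le_sup_left, hRS⟩
  have := finite_of_le hRS
  have hRp : IsPGroup p R := hS.to_le hRS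
  have hcc : c ∈ Subgroup.centralizer (R : Set Ω) := by
    refine Subgroup.mem_centralizer_iff.2 fun y hy => ?_
    have hle : R ≤ Subgroup.centralizer ({c} : Set Ω) := sup_le (fun t ht =>
      Subgroup.mem_centralizer_singleton_iff.2 (hc.2 t ht))
      (Subgroup.zpowers_le.2 (Subgroup.mem_centralizer_singleton_iff.2 rfl))
    exact Subgroup.mem_centralizer_singleton_iff.1 (hle hy)
  set D := h.sys with hD
  have hDs : D.IsSaturated p := h.isSaturated
  have hW := CfsgLib.Conjugacy.isCharPFunctor_kInfLower (p := p)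
  let W : ∀ (Q : Type u) [Group Q], Subgroup Q := Cfsg.kInfLower
  have hUR : functorOf W R ≤ R := functorOf_le W R
  have hUn : normalizerIn R (functorOf W R) = R := inf_eq_left.2 fun s hs =>
    normalizer_le_functorOf W hW.2 le_rfl hRp (Subgroup.le_normalizer hs)
  let N : FusionSystem (normalizerIn R (functorOf W R)) := normalizerSystem D _ hUR
  have hN : D.IsNormalizerSystem (functorOf W R) N := fun _ => rfl
  have hQn : D.IsFullyNormalized (functorOf W R) := ⟨hUR, fun Q _ => by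
    rw [hUn]; exact Subgroup.card_le_of_le inf_le_left⟩
  have hNs := isSaturated_normalizerSystem hRp hDs hQn hN
  have hNn := isNormal_normalizerSystem hUR hN
  have hcU : c ∈ functorOf W R :=
    CfsgLib.Conjugacy.center_le_inducedFunctor_kInfLower R ⟨hcR, hcc⟩
  have hcN : N.center = D.center := center_eq_of_functor W hW.2
    (fun Q _ _ _ => CfsgLib.Conjugacy.center_le_kInf.1)
    (fun G _ _ P => kInfLower_local_center hp G P) hRp hDs hN
  have hmod : ∀ f, IsMap N (functorOf W R) f → c⁻¹ * f c ∈ T := by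
    intro f hf
    obtain ⟨-, -, g, hg, hgf, -⟩ := (isMap_normalizerSystem_iff hN).1 hf
    obtain ⟨r, hr, hw⟩ := (h.isMap_sys hg).2
    have h1 := hw.1 c (Subgroup.mem_sup_left hcU)
    rwa [Subgroup.mem_centralizer_iff.1 hcc r hr, mul_inv_cancel_right, hgf c hcU] at h1
  have key : ∀ (R' : Subgroup Ω), R' = R → ∀ D' : FusionSystem R', D'.IsSaturated p →
      D'.IsNormal (functorOf W R) → (∀ f, IsMap D' (functorOf W R) f → c⁻¹ * f c ∈ T) →
      ∃ v ∈ D'.center, ∃ m : ℕ, ¬ p ∣ m ∧ (c ^ m)⁻¹ * v ∈ T := by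
    rintro R' rfl D' h1 h2 h3
    exact exists_center_avg hRp h1 h2 hcU hcc T h3
  obtain ⟨v, hv, m, hm, hvT⟩ := key _ hUn N hNs hNn hmod
  rw [hcN] at hv
  have hcen := isCentral_center D
  have hvR : v ∈ R := hcen.1 hv
  have hvc : v ∈ centralizerIn S T := ⟨hRS hvR, Subgroup.centralizer_le
    (show (T : Set Ω) ⊆ R from h.TR) (FusionSystem.center_le_centralizer D hv)⟩
  refine ⟨v, hvc, fun P φ hφ => ?_, m, hm, hvT⟩
  have hle : T ≤ centralizerIn S (Subgroup.zpowers v) := fun t ht => ⟨hTS ht,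
    Subgroup.mem_centralizer_iff.2 fun y hy => by
      have hy' : y ∈ Subgroup.centralizer (T : Set Ω) :=
        (Subgroup.zpowers_le.2 hvc.2 : Subgroup.zpowers v ≤ _) hy
      exact (hy' t ht).symm⟩
  obtain ⟨g, hg, hgf, hgfix⟩ :=
    (isCentral_iff.1 hcen).2 P _ (isMap_homFun (h.sub_E P hφ))
  have hzc : Subgroup.zpowers v ≤ D.center := Subgroup.zpowers_le.2 hv
  have hgF : IsMap F (P ⊔ Subgroup.zpowers v) g :=
    (isMap_of_subsystem h.sub hg).mono (sup_le_sup le_rfl hzc)
  obtain ⟨ψ, hψ, hψv⟩ := hgF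
  refine ⟨hE.1.2.2.1 P hφ, (E.le_of_mem hφ).1.trans hle, fun x => hle ((E.le_of_mem hφ).2 x),
    ψ, hψ, fun x => ?_, fun y => ?_⟩
  · rw [hψv]
    exact (hgf x x.2).trans (homFun_coe φ x)
  · rw [hψv]
    exact hgfix _ (hzc y.2)

end CfsgLib.Fusion.NormalCentralizerOdd
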