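import Mathlib
import Cfsg.Agent.Lib.Fusion.Alperin

/-!
The class of an essential subgroup cannot be omitted from Alperin's generation theorem.
-/

set_option autoImplicit false

namespace CfsgLib.Fusion

open Cfsg Cfsg.FusionSystem

variable {Ω : Type*} [Group Ω] {S : Subgroup Ω} {F : FusionSystem S} {p : ℕ} [Fact p.Prime]

/-- Maps composed of restrictions of maps of strictly larger sources. -/
inductive ExtChain (F : FusionSystem S) : Subgroup Ω → (Ω → Ω) → Prop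
  | step {P A : Subgroup Ω} {f g : Ω → Ω} : IsMap F A f → P < A → (∀ x ∈ P, g x = f x) →
      ExtChain F P g
  | comp {P P' : Subgroup Ω} {f g h : Ω → Ω} : ExtChain F P f → IsIso F P P' f →
      ExtChain F P' g → (∀ x ∈ P, h x = g (f x)) → ExtChain F P h

omit [Fact p.Prime] in
theorem ExtChain.isMap {P : Subgroup Ω} {f : Ω → Ω} (h : ExtChain F P f) : IsMap F P f := by
  induction h with
  | step hf hlt hv => exact (hf.mono hlt.le).congr fun x hx => (hv x hx).symm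
  | comp _ hiso _ hv _ ih => exact (hiso.isMap.comp ih fun x hx => hiso.mem hx).congr fun x hx => (hv x hx).symm

omit [Fact p.Prime] in
theorem ExtChain.symm {P : Subgroup Ω} {f : Ω → Ω} (h : ExtChain F P f) :
    ∀ {P' : Subgroup Ω} {g : Ω → Ω}, IsIso F P P' f → (∀ x ∈ P, g (f x) = x) →
      ExtChain F P' g := by
  induction h with
  | @step P A f g hf hlt hv =>
    intro P' k hiso hk
    obtain ⟨B, hB⟩ := hf.exists_iso
    obtain ⟨u, hu, hu1, -⟩ := hB.exists_symm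
    refine .step hu.isMap (lt_of_le_of_ne (fun y hy => ?_) fun e => hlt.ne ?_) fun y hy => ?_
    · obtain ⟨x, hx, rfl⟩ := hiso.surj hy
      rw [hv x hx]; exact hB.mem (hlt.le hx)
    · refine le_antisymm hlt.le fun x hx => ?_
      have hmem : f x ∈ P' := e ▸ hB.mem hx
      obtain ⟨z, hz, hzv⟩ := hiso.surj hmem
      rw [hv z hz] at hzv
      rwa [← hf.injOn (hlt.le hz) hx hzv]
    · obtain ⟨x, hx, rfl⟩ := hiso.surj hy
      rw [hk x hx, hv x hx, hu1 x (hlt.le hx)]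
  | @comp P P₁ f g h _ hiso hg hv ih₁ ih₂ =>
    intro P' k hiso' hk
    obtain ⟨P₂, hP₂⟩ := hg.isMap.exists_iso
    obtain ⟨u, hu, hu1, -⟩ := hP₂.exists_symm
    obtain ⟨w, -, hw1, -⟩ := hiso.exists_symm
    have e : P' = P₂ := by
      apply SetLike.coe_injective
      rw [← hiso'.image_eq, ← hP₂.image_eq, ← hiso.image_eq, Set.image_image]
      exact Set.image_congr hv
    subst e
    refine .comp (ih₂ hP₂ hu1) hu (ih₁ hiso hw1) fun y hy => ?_
    obtain ⟨x, hx, rfl⟩ := hiso'.surj hy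
    rw [hk x hx, hv x hx, hu1 _ (hiso.mem hx), hw1 x hx]

variable [Finite S]

theorem ExtChain.mem_closure (hS : IsPGroup p S) {Q : Subgroup Ω} (ha : F.IsFullyAutomized p Q)
    (hr : F.IsReceptive Q) {P : Subgroup Ω} {f : Ω → Ω} (h : ExtChain F P f) :
    F.IsConj P Q → ∀ {P' : Subgroup Ω} {a b : Ω → Ω}, IsIso F P P' f →
      IsMap F (normalizerIn S P) a → IsIso F P Q a →
      IsMap F (normalizerIn S P') b → IsIso F P' Q b →
      ∃ β ∈ Subgroup.closure (extSet F Q), ∀ (x : P) (hax : a x ∈ Q),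
        ((β ⟨a x, hax⟩ : Q) : Ω) = b (f x) := by
  induction h with
  | @step P A f g hf hlt hv =>
    intro hPQ P' a b hiso haN haP hbN hbP
    have hAS : A ≤ S := hf.le
    have := finite_of_le hAS
    set A' := normalizerIn A P with hA'
    have hA'A : A' ≤ A := inf_le_left
    have hA'N : A' ≤ normalizerIn S P := inf_le_inf_right _ hAS
    have hPA' : P < A' := lt_normalizerIn (hS.to_le hAS) hlt.le hlt.ne
    obtain ⟨R, hR⟩ := (haN.mono hA'N).exists_iso
    obtain ⟨u, hu, hu1, -⟩ := hR.exists_symm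
    have hQR : Q < R := by
      refine lt_of_le_of_ne (fun y hy => ?_) fun e => hPA'.ne ?_
      · obtain ⟨x, hx, rfl⟩ := haP.surj hy
        exact hR.mem (hPA'.le hx)
      · refine le_antisymm hPA'.le fun x hx => ?_
        have hmem : a x ∈ Q := e ▸ hR.mem hx
        obtain ⟨z, hz, hzv⟩ := haP.surj hmem
        rwa [← hR.isMap.injOn (hPA'.le hz) hx hzv]
    have hfP : IsIso F P P' f := hiso.congr hv
    have hfA : ∀ x ∈ A', f x ∈ normalizerIn S P' := fun x hx =>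
      hf.mem_normalizerIn hlt.le hfP (hA'A hx) hx.2
    have hc : IsMap F R (b ∘ f ∘ u) :=
      (hu.isMap.comp (hf.mono hA'A) fun y hy => hu.mem hy).comp hbN fun y hy => hfA _ (hu.mem hy)
    have hcQ : IsIso F Q Q (b ∘ f ∘ u) := by
      refine ⟨hc.mono hQR.le, ?_⟩
      rw [← haP.image_eq, Set.image_image]
      refine (Set.image_congr fun x hx => ?_).trans ((haP.image_eq.symm ▸ (by
        rw [Set.image_comp]; rw [hfP.image_eq, hbP.image_eq]) :
          (b ∘ f) '' (P : Set Ω) = a '' (P : Set Ω)))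
      show b (f (u (a x))) = b (f x)
      rw [hu1 x (hPA'.le hx)]
    obtain ⟨β, hβ, hβv⟩ := exists_mem_autGroup hcQ
    refine ⟨β, Subgroup.subset_closure ⟨R, hQR, _, hc, hβv⟩, fun x hax => ?_⟩
    rw [hβv]
    show b (f (u (a x))) = b (g x)
    rw [hu1 x (hPA'.le x.2), hv x x.2]
  | @comp P P₁ f g h _ hiso hg hv ih₁ ih₂ =>
    intro hPQ P' a b hiso' haN haP hbN hbP
    have h1Q : F.IsConj P₁ Q := isConj_trans (isConj_symm hiso.isConj) hPQ
    obtain ⟨c, hcN, hcP, -, -⟩ := exists_map_normalizerIn hS ha hr h1Q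
    have hg' : IsIso F P₁ P' g := by
      refine ⟨hg.isMap, ?_⟩
      rw [← hiso.image_eq, Set.image_image, ← hiso'.image_eq]
      exact (Set.image_congr hv).symm
    obtain ⟨β₁, hβ₁, h₁⟩ := ih₁ hPQ hiso haN haP hcN hcP
    obtain ⟨β₂, hβ₂, h₂⟩ := ih₂ h1Q hg' hcN hcP hbN hbP
    refine ⟨β₂ * β₁, Subgroup.mul_mem _ hβ₂ hβ₁, fun x hax => ?_⟩
    rw [MulAut.mul_apply, show β₁ ⟨a x, hax⟩ = ⟨c (f x), hcP.mem (hiso.mem x.2)⟩ from
      Subtype.ext (h₁ x hax), h₂ ⟨f x, hiso.mem x.2⟩, hv x x.2]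

/-- `F` without the class of a proper subgroup `Q`. -/
def omitClass (F : FusionSystem S) (Q : Subgroup Ω) (hQ : ∀ R, F.IsConj R Q → R ≠ S) :
    FusionSystem S where
  Hom P := {φ | φ ∈ F.Hom P ∧ (F.IsConj P Q → ExtChain F P (homFun φ))}
  le_of_mem h := F.le_of_mem h.1
  injective_of_mem h := F.injective_of_mem h.1
  conj_mem := fun {P g} hP hg => ⟨F.conj_mem hP hg, fun hc =>
    .step (isMap_conj le_rfl hg) (lt_of_le_of_ne hP (hQ P hc)) fun x hx => homFun_apply _ hx⟩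
  comp_mem := by
    rintro P P' φ ψ ⟨hφ, hφc⟩ ⟨hψ, hψc⟩ hle
    refine ⟨F.comp_mem hφ hψ hle, fun hc => ?_⟩
    have hiso := isIso_homFun hφ
    have hc' : F.IsConj φ.range Q := isConj_trans (isConj_symm hiso.isConj) hc
    have hle' : φ.range ≤ P' := by rintro _ ⟨x, rfl⟩; exact hle x
    refine .comp (g := homFun ψ) (hφc hc) hiso ?_ fun x hx => ?_
    · rcases eq_or_lt_of_le hle' with h | h
      · rw [h]; exact hψc (h ▸ hc')
      · exact .step (isMap_homFun hψ) h fun _ _ => rfl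
    · rw [homFun_apply _ hx, homFun_apply φ hx, homFun_apply ψ (hle ⟨x, hx⟩)]
      rfl
  inv_mem := by
    rintro P φ ⟨hφ, hφc⟩
    obtain ⟨ψ, hψ, hv⟩ := F.inv_mem hφ
    refine ⟨ψ, ⟨hψ, fun hc => ?_⟩, hv⟩
    have hiso := isIso_homFun hφ
    refine (hφc (isConj_trans hiso.isConj hc)).symm hiso fun x hx => ?_
    rw [homFun_apply φ hx, homFun_apply ψ ⟨⟨x, hx⟩, rfl⟩]
    exact hv ⟨x, hx⟩

theorem exists_omitting (hS : IsPGroup p S) (hF : F.IsSaturated p) {Q : Subgroup Ω}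
    (hQ : F.IsEssential p Q) : ∃ E : FusionSystem S,
      (∀ R : Subgroup Ω, R ≤ S → ¬ F.IsConj Q R → F.autGroup R ≤ E.autGroup R) ∧ ¬ F ≤ E := by
  have hQS : Q ≤ S := hQ.2.1.1
  have hne := ne_of_isEssential hS hF hQ
  have hprop : ∀ R, F.IsConj R Q → R ≠ S := by
    intro R hR e
    obtain ⟨f, hf⟩ := isConj_iff.1 hR
    exact hne (Subgroup.eq_of_le_of_card_ge hQS (by rw [hf.card_eq, e]))
  refine ⟨omitClass F Q hprop, fun R hR hnc α hα => ?_, fun hle => ?_⟩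
  · obtain ⟨φ, hφ, hv⟩ := ((mem_autGroup_iff hR α).1 hα).isMap
    exact mem_autGroup_of_isMap (F := omitClass F Q hprop) (f := autFun α)
      ⟨φ, show φ ∈ F.Hom R ∧ (F.IsConj R Q → ExtChain F R (homFun φ)) from
        ⟨hφ, fun hc => absurd (isConj_symm hc) hnc⟩, hv⟩ α fun x => (autFun_coe α x).symm
  · refine closure_extSet_ne_of_isEssential hS hF hQ (le_antisymm (closure_extSet_le Q) fun α hα => ?_)
    obtain ⟨φ, hφ, hv⟩ := ((mem_autGroup_iff hQS α).1 hα).isMap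
    have hiso : IsIso F Q Q (homFun φ) := ((mem_autGroup_iff hQS α).1 hα).congr fun x hx => by
      rw [homFun_apply φ hx]; exact (hv ⟨x, hx⟩).symm
    have hN : IsMap F (normalizerIn S Q) id := isMap_id inf_le_left
    obtain ⟨β, hβ, hβv⟩ := ((hle Q hφ).2 (isConj_refl hQS)).mem_closure hS
      (isFullyAutomized_of_isFullyNormalized hS hF hQ.2.1)
      (isReceptive_of_isFullyNormalized hS hF hQ.2.1) (isConj_refl hQS) hiso hN (isIso_refl hQS) hN
      (isIso_refl hQS)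
    convert hβ using 1
    refine MulEquiv.ext fun x => Subtype.ext ?_
    have := hβv x x.2
    rw [show (⟨id (x : Ω), x.2⟩ : Q) = x from rfl] at this
    rw [this, ← autFun_coe α x, ← hv x]
    exact (homFun_coe φ x).symm

/-- Generating families closed under conjugation contain the essential subgroups. -/
theorem mem_of_generating (hS : IsPGroup p S) (hF : F.IsSaturated p) {𝒬 : Set (Subgroup Ω)}
    (h : ∀ R ∈ 𝒬, ∀ R' : Subgroup Ω, F.IsConj R R' → R' ∈ 𝒬)
    (hg : ∀ E : FusionSystem S, (∀ R ∈ 𝒬, F.autGroup R ≤ E.autGroup R) → F ≤ E)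
    {Q : Subgroup Ω} (hQ : F.IsEssential p Q) : Q ∈ 𝒬 := by
  by_contra hn
  obtain ⟨E, hE, hnle⟩ := exists_omitting hS hF hQ
  refine hnle (hg E fun R hR => ?_)
  by_cases hRS : R ≤ S
  · exact hE R hRS fun hc => hn (h R hR Q (isConj_symm hc))
  · refine (Subgroup.closure_le _).2 fun α hα => absurd (F.le_of_mem hα).1 hRS

/-- `F` with only inner automorphisms of `S`. -/
def omitTop : FusionSystem S where
  Hom P := {φ | φ ∈ F.Hom P ∧ (P = S → ∃ g ∈ S, ∀ x : P, φ x = g * x * g⁻¹)}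
  le_of_mem h := F.le_of_mem h.1
  injective_of_mem h := F.injective_of_mem h.1
  conj_mem := fun {P g} hP hg => ⟨F.conj_mem hP hg, fun _ => ⟨g, hg, fun x => rfl⟩⟩
  comp_mem := by
    rintro P P' φ ψ ⟨hφ, hφc⟩ ⟨hψ, hψc⟩ hle
    refine ⟨F.comp_mem hφ hψ hle, fun hP => ?_⟩
    obtain ⟨g, hg, hgv⟩ := hφc hP
    have hP' : P' = S := by
      refine le_antisymm (F.le_of_mem hψ).1 fun y hy => ?_
      subst hP
      have := hle ⟨g⁻¹ * y * g, P.mul_mem (P.mul_mem (P.inv_mem hg) hy) hg⟩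
      rw [hgv] at this
      simpa [mul_assoc] using this
    obtain ⟨k, hk, hkv⟩ := hψc hP'
    refine ⟨k * g, S.mul_mem hk hg, fun x => ?_⟩
    show ψ ⟨φ x, hle x⟩ = _
    rw [hkv]
    show k * φ x * k⁻¹ = _
    rw [hgv]
    group
  inv_mem := by
    rintro P φ ⟨hφ, hφc⟩
    obtain ⟨ψ, hψ, hv⟩ := F.inv_mem hφ
    refine ⟨ψ, ⟨hψ, fun hr => ?_⟩, hv⟩
    have hP : P = S := by
      refine Subgroup.eq_of_le_of_card_ge (F.le_of_mem hφ).1 ?_
      rw [← hr, ← (isIso_homFun hφ).card_eq]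
    obtain ⟨g, hg, hgv⟩ := hφc hP
    refine ⟨g⁻¹, S.inv_mem hg, ?_⟩
    rintro ⟨_, x, rfl⟩
    refine (hv x).trans ?_
    show (x : Ω) = g⁻¹ * φ x * g⁻¹⁻¹
    rw [hgv x]
    group

theorem generating_inter (hS : IsPGroup p S) (hF : F.IsSaturated p)
    {𝒬₁ 𝒬₂ : Set (Subgroup Ω)} (h₁ : ∀ R ∈ 𝒬₁, ∀ R' : Subgroup Ω, F.IsConj R R' → R' ∈ 𝒬₁)
    (h₂ : ∀ R ∈ 𝒬₂, ∀ R' : Subgroup Ω, F.IsConj R R' → R' ∈ 𝒬₂)
    (hg₁ : ∀ E : FusionSystem S, (∀ R ∈ 𝒬₁, F.autGroup R ≤ E.autGroup R) → F ≤ E)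
    (hg₂ : ∀ E : FusionSystem S, (∀ R ∈ 𝒬₂, F.autGroup R ≤ E.autGroup R) → F ≤ E)
    {E : FusionSystem S} (hE : ∀ R ∈ 𝒬₁ ∩ 𝒬₂, F.autGroup R ≤ E.autGroup R) : F ≤ E := by
  suffices key : ∀ R, (R = S ∨ F.IsEssential p R) → F.autGroup R ≤ E.autGroup R from
    fun P φ hφ => mem_hom_of_isMap (le_of_autGroup_le hS hF key P _ (isMap_homFun hφ))
      fun x => (homFun_coe φ x).symm
  intro R hR
  rcases hR with hR | hR
  · rw [hR]
    by_cases hin : F.autGroup S ≤ autInducedBy S S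
    · exact hin.trans (autInducedBy_le_autGroup le_rfl)
    · have hmem : ∀ 𝒬 : Set (Subgroup Ω),
          (∀ E : FusionSystem S, (∀ R ∈ 𝒬, F.autGroup R ≤ E.autGroup R) → F ≤ E) → S ∈ 𝒬 := by
        intro 𝒬 hg
        by_contra hn
        refine hin fun α hα => ?_
        have hle : F ≤ omitTop (F := F) := hg _ fun T hT β hβ => by
          by_cases hTS : T ≤ S
          · obtain ⟨φ, hφ, hv⟩ := ((mem_autGroup_iff hTS β).1 hβ).isMap
            exact mem_autGroup_of_isMap (F := omitTop (F := F)) (f := autFun β)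
              ⟨φ, show φ ∈ F.Hom T ∧ (T = S → ∃ g ∈ S, ∀ x : T, φ x = g * x * g⁻¹) from
                ⟨hφ, fun e => absurd (e ▸ hT) hn⟩, hv⟩ β fun x => (autFun_coe β x).symm
          · exact (Subgroup.closure_le ((omitTop (F := F)).autGroup T)).2
              (fun γ hγ => absurd (F.le_of_mem hγ).1 hTS) hβ
        obtain ⟨φ, hφ, hv⟩ := ((mem_autGroup_iff le_rfl α).1 hα).isMap
        obtain ⟨g, hg', hgv⟩ := (hle S hφ).2 rfl
        exact (mem_autInducedBy_iff S S α).2 ⟨g, hg', fun x => by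
          rw [← autFun_coe α x, ← hv x, hgv]⟩
      exact hE S ⟨hmem 𝒬₁ hg₁, hmem 𝒬₂ hg₂⟩
  · exact hE R ⟨mem_of_generating hS hF h₁ hg₁ hR, mem_of_generating hS hF h₂ hg₂ hR⟩

end CfsgLib.Fusion
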