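import Cfsg.Agent.Lib.Fusion.Transvections
import Cfsg.Agent.Lib.Fusion.TransvectionSplit
import Cfsg.Agent.Lib.Fusion.EssentialFlag
import Cfsg.Agent.Lib.Strong.Conj

/-!
Automorphism groups of an elementary abelian group of order `p ^ 3` with a strongly `p`-embedded
subgroup and a transvection: the Sylow subgroups are the full groups of transvections with given
centre and axis, and there is an involution inverting two centres.
-/

set_option autoImplicit false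
set_option linter.style.haveILetI false
set_option linter.unusedSectionVars false

namespace CfsgLib.TransvectionCube

open CfsgLib.Fusion CfsgLib.Fusion.Transvections CfsgLib.Fusion.EssentialFlag

variable {V : Type*} [CommGroup V] [Finite V] {p : ℕ} [hp : Fact p.Prime]

/-- A transvection with centre `c` and axis `A`. -/
structure Tr (p : ℕ) (t : MulAut V) (c A : Subgroup V) : Prop where
  le : c ≤ A
  cardc : Nat.card c = p
  index : A.index = p
  fix : ∀ x, t x = x ↔ x ∈ A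
  diff : ∀ x, x⁻¹ * t x ∈ c

theorem finite_aut : Finite (MulAut V) :=
  Finite.of_injective (fun e : MulAut V => (e : V → V)) fun _ _ h => MulEquiv.ext (congrFun h)

theorem pow_eq_one_of_card {c : Subgroup V} (hc : Nat.card c = p) {x : V} (hx : x ∈ c) :
    x ^ p = 1 := by
  have := pow_card_eq_one' (x := (⟨x, hx⟩ : c))
  rw [hc] at this
  exact congrArg Subtype.val this

theorem zpowers_eq {c : Subgroup V} (hc : Nat.card c = p) {x : V} (hx : x ∈ c) (hx1 : x ≠ 1) :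
    Subgroup.zpowers x = c := by
  refine Subgroup.eq_of_le_of_card_ge (Subgroup.zpowers_le.2 hx) ?_
  rw [hc, Nat.card_zpowers, orderOf_eq_prime (pow_eq_one_of_card hc hx) hx1]

theorem inf_eq_bot {c B : Subgroup V} (hc : Nat.card c = p) (h : ¬ c ≤ B) {x : V} (hxc : x ∈ c)
    (hxB : x ∈ B) : x = 1 := by
  by_contra hx
  exact h ((zpowers_eq hc hxc hx) ▸ Subgroup.zpowers_le.2 hxB)

theorem sup_top {A : Subgroup V} (hA : A.index = p) {v : V} (hv : v ∉ A) :
    Subgroup.zpowers v ⊔ A = ⊤ := by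
  have hle : A ≤ Subgroup.zpowers v ⊔ A := le_sup_right
  rcases (Nat.dvd_prime hp.out).1 (hA ▸ Subgroup.index_dvd_of_le hle) with e | e
  · exact Subgroup.index_eq_one.1 e
  · exfalso
    have h2 := Subgroup.relIndex_mul_index hle
    rw [e, hA] at h2
    exact hv (Subgroup.relIndex_eq_one.1 (Nat.eq_of_mul_eq_mul_right hp.out.pos
      (h2.trans (one_mul p).symm)) (Subgroup.mem_sup_left (Subgroup.mem_zpowers v)))

theorem exists_decomp {A : Subgroup V} (hA : A.index = p) {v : V} (hv : v ∉ A) (x : V) :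
    ∃ i : ℤ, ∃ a ∈ A, x = v ^ i * a := by
  obtain ⟨w, hw, a, ha, rfl⟩ := Subgroup.mem_sup.1 ((sup_top hA hv).ge (Subgroup.mem_top x))
  obtain ⟨i, rfl⟩ := Subgroup.mem_zpowers_iff.1 hw
  exact ⟨i, a, ha, rfl⟩

/-- An automorphism fixing a hyperplane displaces everything into the line of one displacement. -/
theorem diff_mem {A c : Subgroup V} (hA : A.index = p) {v : V} (hv : v ∉ A) {u : MulAut V}
    (hfix : ∀ a ∈ A, u a = a) (hc : v⁻¹ * u v ∈ c) : ∀ x, x⁻¹ * u x ∈ c := by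
  intro x
  obtain ⟨i, a, ha, rfl⟩ := exists_decomp hA hv x
  rw [map_mul, map_zpow, hfix a ha,
    show (v ^ i * a)⁻¹ * (u v ^ i * a) = (v ^ i)⁻¹ * u v ^ i by
      rw [mul_inv_rev, mul_comm a⁻¹, mul_assoc, mul_comm (u v ^ i) a, inv_mul_cancel_left],
    ← inv_zpow, ← mul_zpow]
  exact zpow_mem hc i

namespace Tr

variable {t : MulAut V} {c A : Subgroup V}

theorem ne_top (h : Tr p t c A) : A ≠ ⊤ := fun e => hp.out.ne_one (by
  rw [← h.index, e, Subgroup.index_top])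

theorem ne_one (h : Tr p t c A) : t ≠ 1 := fun e => h.ne_top (eq_top_iff.2 fun x _ =>
  (h.fix x).1 (by rw [e]; rfl))

theorem pow_apply (h : Tr p t c A) (i : ℕ) (x : V) : (t ^ i) x = x * (x⁻¹ * t x) ^ i :=
  pow_apply_of_fixed ((h.fix _).2 (h.le (h.diff x))) i

theorem order (h : Tr p t c A) : orderOf t = p :=
  orderOf_eq_prime (MulEquiv.ext fun x => by
    rw [h.pow_apply, pow_eq_one_of_card h.cardc (h.diff x), mul_one, MulAut.one_apply]) h.ne_one

theorem diff_ne (h : Tr p t c A) {x : V} (hx : x ∉ A) : x⁻¹ * t x ≠ 1 := fun e =>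
  hx ((h.fix x).1 (inv_mul_eq_one.1 e).symm)

theorem map (h : Tr p t c A) (g : MulAut V) :
    Tr p (g * t * g⁻¹) (c.map g.toMonoidHom) (A.map g.toMonoidHom) where
  le := Subgroup.map_mono h.le
  cardc := by rw [Subgroup.card_map_of_injective g.injective]; exact h.cardc
  index := by
    rw [← h.index]
    exact Subgroup.index_map_equiv A g
  fix x := by
    obtain ⟨y, rfl⟩ := g.surjective x
    rw [MulAut.mul_apply, MulAut.mul_apply, MulAut.inv_apply_self, g.injective.eq_iff, h.fix]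
    exact (Subgroup.mem_map_iff_mem g.injective).symm
  diff x := by
    obtain ⟨y, rfl⟩ := g.surjective x
    rw [MulAut.mul_apply, MulAut.mul_apply, MulAut.inv_apply_self, ← map_inv, ← map_mul]
    exact ⟨_, h.diff y, rfl⟩

theorem eq_of (h : Tr p t c A) {c' A' : Subgroup V} (h' : Tr p t c' A') : c = c' ∧ A = A' := by
  have hA : A = A' := Subgroup.ext fun x => (h.fix x).symm.trans (h'.fix x)
  obtain ⟨v, hv⟩ : ∃ v, v ∉ A := by
    by_contra hcon
    push Not at hcon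
    exact h.ne_top (eq_top_iff.2 fun x _ => hcon x)
  exact ⟨(zpowers_eq h.cardc (h.diff v) (h.diff_ne hv)).symm.trans
    (zpowers_eq h'.cardc (h'.diff v) (h.diff_ne hv)), hA⟩

end Tr

/-- A nontrivial automorphism displacing into a line it fixes is a transvection. -/
theorem exists_tr {u : MulAut V} (hu : u ≠ 1) {c : Subgroup V} (hc : Nat.card c = p)
    (hfix : ∀ x ∈ c, u x = x) (hdiff : ∀ x, x⁻¹ * u x ∈ c) : ∃ A, Tr p u c A := by
  let δ : V →* V := MonoidHom.mk' (fun x => x⁻¹ * u x) fun x y => by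
    rw [map_mul, mul_inv, mul_mul_mul_comm]
  have hrange : δ.range = c := by
    refine Subgroup.eq_of_le_of_card_ge (by rintro _ ⟨x, rfl⟩; exact hdiff x) ?_
    obtain ⟨x, hx⟩ : ∃ x, δ x ≠ 1 := by
      by_contra hcon
      push Not at hcon
      exact hu (MulEquiv.ext fun x => (inv_mul_eq_one.1 (hcon x)).symm)
    rw [← zpowers_eq hc (hdiff x) hx]
    exact Subgroup.card_le_of_le (Subgroup.zpowers_le.2 ⟨x, rfl⟩)
  refine ⟨δ.ker, ⟨fun x hx => ?_, hc, ?_, fun x => ?_, hdiff⟩⟩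
  · show x⁻¹ * u x = 1
    rw [hfix x hx, inv_mul_cancel]
  · rw [Subgroup.index_ker, hrange, hc]
  · show u x = x ↔ x⁻¹ * u x = 1
    rw [inv_mul_eq_one, eq_comm]

/-- Two transvections, one centre on the other axis, lie in a `p`-group. -/
theorem pair_pgroup (hV : IsPGroup p V) {G : Subgroup (MulAut V)} {t u : MulAut V}
    {c A d B : Subgroup V} (ht : Tr p t c A) (hu : Tr p u d B) (htG : t ∈ G) (huG : u ∈ G)
    (h : d ≤ A) : ∃ Q : Subgroup (MulAut V), Q ≤ G ∧ IsPGroup p Q ∧ t ∈ Q ∧ u ∈ Q := by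
  refine ⟨G ⊓ seriesStab d A h, inf_le_left,
    (isPGroup_seriesStab hV d A h).to_le inf_le_right, ⟨htG, mem_seriesStab.2 ?_⟩,
    ⟨huG, mem_seriesStab.2 ?_⟩⟩
  · exact ⟨fun x hx => (ht.fix x).2 (h hx), fun x hx => by
      rw [(ht.fix x).2 hx, inv_mul_cancel]; exact one_mem _, fun x => ht.le (ht.diff x)⟩
  · exact ⟨fun x hx => (hu.fix x).2 (hu.le hx), fun x _ => hu.diff x, fun x => h (hu.diff x)⟩

/-- Two transvections in a `p`-group have a centre on the other axis. -/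
theorem le_axis_of_pgroup {t u : MulAut V} {c A d B : Subgroup V} (ht : Tr p t c A)
    (hu : Tr p u d B) {Q : Subgroup (MulAut V)} (hQ : IsPGroup p Q) (htQ : t ∈ Q) (huQ : u ∈ Q)
    (hc : ¬ c ≤ B) (hd : ¬ d ≤ A) : False := by
  classical
  haveI := finite_aut (V := V)
  obtain ⟨Q', hQ'⟩ : ∃ Q' : Subgroup (MulAut V), Q' = Subgroup.closure {t, u} := ⟨_, rfl⟩
  have hQ'p : IsPGroup p Q' := hQ.to_le (by
    rw [hQ', Subgroup.closure_le]
    rintro _ (rfl | rfl) <;> assumption)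
  have hinv : ∀ q ∈ Q', ∀ x ∈ c ⊔ d, q x ∈ c ⊔ d := by
    intro q hq
    rw [hQ'] at hq
    induction hq using Subgroup.closure_induction with
    | mem q hq =>
      intro x hx
      rw [show q x = x * (x⁻¹ * q x) by rw [mul_inv_cancel_left]]
      rcases hq with rfl | rfl
      · exact mul_mem hx (Subgroup.mem_sup_left (ht.diff x))
      · exact mul_mem hx (Subgroup.mem_sup_right (hu.diff x))
    | one => exact fun x hx => hx
    | mul a b _ _ ha hb => exact fun x hx => ha _ (hb x hx)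
    | inv a _ ha =>
      intro x hx
      have h1 : (c ⊔ d).map a.toMonoidHom = c ⊔ d := Subgroup.eq_of_le_of_card_ge
        (by rintro _ ⟨y, hy, rfl⟩; exact ha y hy)
        (Subgroup.card_map_of_injective (MulEquiv.injective a)).ge
      obtain ⟨y, hy, rfl⟩ := h1.ge hx
      show a⁻¹ (a y) ∈ c ⊔ d
      rwa [MulAut.inv_apply_self]
  letI : MulAction Q' ↥(c ⊔ d) :=
    { smul := fun q x => ⟨(q : MulAut V) x, hinv q q.2 x x.2⟩
      one_smul := fun x => Subtype.ext rfl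
      mul_smul := fun q r x => Subtype.ext rfl }
  have hdvd : p ∣ Nat.card ↥(c ⊔ d) :=
    (dvd_of_eq ht.cardc.symm).trans (Subgroup.card_dvd_of_le le_sup_left)
  have h1 : (1 : ↥(c ⊔ d)) ∈ MulAction.fixedPoints Q' ↥(c ⊔ d) := fun q =>
    Subtype.ext (map_one (q : MulAut V))
  obtain ⟨b, hb, hb1⟩ := hQ'p.exists_fixed_point_of_prime_dvd_card_of_fixed_point _ hdvd h1
  have hbt : t b = (b : V) := congrArg Subtype.val
    (hb ⟨t, hQ' ▸ Subgroup.subset_closure (Or.inl rfl)⟩)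
  have hbu : u b = (b : V) := congrArg Subtype.val
    (hb ⟨u, hQ' ▸ Subgroup.subset_closure (Or.inr rfl)⟩)
  obtain ⟨x, hx, y, hy, hxy⟩ := Subgroup.mem_sup.1 b.2
  have hy1 : y = 1 := by
    refine inf_eq_bot hu.cardc hd hy ?_
    have := mul_mem (inv_mem (ht.le hx)) ((ht.fix _).1 hbt)
    rwa [← hxy, inv_mul_cancel_left] at this
  rw [hy1, mul_one] at hxy
  have hx1 : x = 1 := inf_eq_bot ht.cardc hc hx (hxy ▸ (hu.fix _).1 hbu)
  exact hb1 (Subtype.ext (hxy.symm.trans hx1).symm)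

/-- The setting: a transvection `t` in a strongly embedded subgroup `H` of `G`, and `g ∉ H`. -/
structure Ctx (p : ℕ) (G H : Subgroup (MulAut V)) (t g : MulAut V) (c A : Subgroup V) : Prop where
  pgroupV : IsPGroup p V
  cardV : Nat.card V = p ^ 3
  le : H ≤ G
  conj : ∀ γ ∈ G, ∀ x ∈ H, orderOf x = p → γ * x * γ⁻¹ ∈ H → γ ∈ H
  pgrp : ∀ Q : Subgroup (MulAut V), Q ≤ G → IsPGroup p Q →
    ∀ x ∈ Q, x ∈ H → orderOf x = p → Q ≤ H
  tr : Tr p t c A
  memt : t ∈ H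
  memg : g ∈ G
  notMem : g ∉ H

namespace Ctx

variable {G H : Subgroup (MulAut V)} {t g : MulAut V} {c A : Subgroup V}

theorem claim (h : Ctx p G H t g c A) {u : MulAut V} {d B : Subgroup V} (hu : Tr p u d B)
    (huH : u ∈ H) {γ : MulAut V} (hγ : γ ∈ G) (hγH : γ ∉ H) :
    ¬ d ≤ A.map γ.toMonoidHom ∧ ¬ c.map γ.toMonoidHom ≤ B := by
  have htG := G.mul_mem (G.mul_mem hγ (h.le h.memt)) (G.inv_mem hγ)
  have key : ∀ Q : Subgroup (MulAut V), Q ≤ G → IsPGroup p Q → u ∈ Q → γ * t * γ⁻¹ ∈ Q → False :=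
    fun Q hQG hQ huQ htQ =>
      hγH (h.conj γ hγ t h.memt h.tr.order (h.pgrp Q hQG hQ u huQ huH hu.order htQ))
  refine ⟨fun hd => ?_, fun hc => ?_⟩
  · obtain ⟨Q, hQG, hQ, ht, hu'⟩ := pair_pgroup h.pgroupV (h.tr.map γ) hu htG (h.le huH) hd
    exact key Q hQG hQ hu' ht
  · obtain ⟨Q, hQG, hQ, hu', ht⟩ := pair_pgroup h.pgroupV hu (h.tr.map γ) (h.le huH) htG hc
    exact key Q hQG hQ hu' ht

theorem cardA (h : Ctx p G H t g c A) : Nat.card A = p ^ 2 := by
  have h1 := A.card_mul_index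
  rw [h.tr.index, h.cardV, pow_succ p 2] at h1
  exact Nat.eq_of_mul_eq_mul_right hp.out.pos h1

/-- The axis meets a moved axis. -/
theorem exists_meet (h : Ctx p G H t g c A) (γ : MulAut V) :
    ∃ l ∈ A, l ∈ A.map γ.toMonoidHom ∧ l ≠ 1 := by
  by_contra hcon
  push Not at hcon
  have h1 : Nat.card A ≤ Nat.card (V ⧸ A.map γ.toMonoidHom) := by
    refine Nat.card_le_card_of_injective
      (fun a : A => (QuotientGroup.mk (a : V) : V ⧸ A.map γ.toMonoidHom)) fun a b e => ?_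
    exact Subtype.ext (inv_mul_eq_one.1 (hcon _ (A.mul_mem (A.inv_mem a.2) b.2) (QuotientGroup.eq.1 e)))
  rw [← Subgroup.index_eq_card, h.cardA, (h.tr.map γ).index] at h1
  have := hp.out.two_le
  nlinarith

theorem a1 (h : Ctx p G H t g c A) {u : MulAut V} {d : Subgroup V} (hu : Tr p u d A)
    (huH : u ∈ H) : d = c := by
  by_contra hne
  have hdc : ¬ d ≤ c := fun e =>
    hne (Subgroup.eq_of_le_of_card_ge e (by rw [hu.cardc, h.tr.cardc]))
  obtain ⟨v, hv⟩ : ∃ v, v ∉ A := by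
    by_contra hcon
    push Not at hcon
    exact h.tr.ne_top (eq_top_iff.2 fun x _ => hcon x)
  obtain ⟨a, ha⟩ : ∃ a, a = v⁻¹ * t v := ⟨_, rfl⟩
  obtain ⟨b, hb⟩ : ∃ b, b = v⁻¹ * u v := ⟨_, rfl⟩
  have hac : a ∈ c := ha ▸ h.tr.diff v
  have hbd : b ∈ d := hb ▸ hu.diff v
  have hcd : A = c ⊔ d := by
    refine (Subgroup.eq_of_le_of_card_ge (sup_le h.tr.le hu.le) ?_).symm
    obtain ⟨k, hk⟩ := IsPGroup.iff_card.1 (h.pgroupV.to_subgroup (c ⊔ d))
    have h2 : Nat.card c < Nat.card (c ⊔ d : Subgroup V) :=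
      lt_of_le_of_ne (Subgroup.card_le_of_le le_sup_left) fun e =>
        hdc (le_sup_right.trans (Subgroup.eq_of_le_of_card_ge le_sup_left e.ge).ge)
    rw [h.tr.cardc, hk] at h2
    rw [h.cardA, hk]
    exact Nat.pow_le_pow_right hp.out.pos
      ((Nat.pow_lt_pow_iff_right (a := p) (n := 1) hp.out.one_lt).1 (by rwa [pow_one]))
  obtain ⟨l, hlA, hlg, hl1⟩ := h.exists_meet g
  obtain ⟨x, hx, y, hy, rfl⟩ := Subgroup.mem_sup.1 (hcd.le hlA)
  obtain ⟨i, hi⟩ : ∃ i : ℕ, a ^ i = x := by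
    obtain ⟨i, hi⟩ := exists_pow_mul_eq_one h.tr.cardc hac (ha ▸ h.tr.diff_ne hv) (inv_mem hx)
    exact ⟨i, (inv_mul_eq_one.1 hi).symm⟩
  obtain ⟨j, hj⟩ : ∃ j : ℕ, b ^ j = y := by
    obtain ⟨j, hj⟩ := exists_pow_mul_eq_one hu.cardc hbd (hb ▸ hu.diff_ne hv) (inv_mem hy)
    exact ⟨j, (inv_mul_eq_one.1 hj).symm⟩
  have hfix : ∀ z ∈ A, (t ^ i * u ^ j) z = z := fun z hz => by
    rw [MulAut.mul_apply, hu.pow_apply, (hu.fix z).2 hz, inv_mul_cancel, one_pow, mul_one,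
      h.tr.pow_apply, (h.tr.fix z).2 hz, inv_mul_cancel, one_pow, mul_one]
  have hval : v⁻¹ * (t ^ i * u ^ j) v = x * y := by
    rw [MulAut.mul_apply, hu.pow_apply, ← hb, hj, map_mul, h.tr.pow_apply, ← ha, hi,
      h.tr.pow_apply, (h.tr.fix y).2 (hu.le hy), inv_mul_cancel, one_pow, mul_one, mul_assoc,
      inv_mul_cancel_left]
  have hcardl : Nat.card (Subgroup.zpowers (x * y)) = p := by
    rw [Nat.card_zpowers]
    exact orderOf_eq_prime (by rw [mul_pow, pow_eq_one_of_card h.tr.cardc hx,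
      pow_eq_one_of_card hu.cardc hy, mul_one]) hl1
  obtain ⟨B, hw⟩ := exists_tr (u := t ^ i * u ^ j) (fun e => hl1 (by
      rw [← hval, e, MulAut.one_apply, inv_mul_cancel])) hcardl
    (fun z hz => hfix z (Subgroup.zpowers_le.2 hlA hz))
    (diff_mem h.tr.index hv hfix (hval ▸ Subgroup.mem_zpowers _))
  exact (h.claim hw (H.mul_mem (H.pow_mem h.memt i) (H.pow_mem huH j)) h.memg h.notMem).1
    (Subgroup.zpowers_le.2 hlg)

theorem a2 (h : Ctx p G H t g c A) {u : MulAut V} {B : Subgroup V} (hu : Tr p u c B)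
    (huH : u ∈ H) : B = A := by
  have hc' : Nat.card (c.map g.toMonoidHom) = p := (h.tr.map g).cardc
  obtain ⟨a', ha', ha'1⟩ : ∃ a' ∈ c.map g.toMonoidHom, a' ≠ 1 := by
    by_contra hcon
    push Not at hcon
    rw [Subgroup.eq_bot_iff_forall _ |>.2 hcon, Subgroup.card_bot] at hc'
    exact hp.out.ne_one hc'.symm
  have ha'A : a' ∉ A := fun e => (h.claim h.tr h.memt h.memg h.notMem).2
    ((zpowers_eq hc' ha' ha'1) ▸ Subgroup.zpowers_le.2 e)
  obtain ⟨a, ha⟩ : ∃ a, a = a'⁻¹ * t a' := ⟨_, rfl⟩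
  obtain ⟨m, hm⟩ := exists_pow_mul_eq_one h.tr.cardc (ha ▸ h.tr.diff a') (ha ▸ h.tr.diff_ne ha'A)
    (hu.diff a')
  have hwa : (u * t ^ m) a' = a' := by
    rw [MulAut.mul_apply, h.tr.pow_apply, ← ha, map_mul, map_pow,
      (hu.fix a).2 (hu.le (ha ▸ h.tr.diff a')),
      show u a' = a' * (a'⁻¹ * u a') by rw [mul_inv_cancel_left], mul_assoc, hm, mul_one]
  by_cases hw1 : u * t ^ m = 1
  · refine (Subgroup.eq_of_le_of_card_ge (fun x hx => ?_) ?_).symm
    · refine (hu.fix x).1 ?_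
      have e := congrArg (fun f : MulAut V => f x) hw1
      simp only [MulAut.mul_apply, MulAut.one_apply] at e
      rwa [h.tr.pow_apply, (h.tr.fix x).2 hx, inv_mul_cancel, one_pow, mul_one] at e
    · have h1 := B.card_mul_index
      rw [hu.index, h.cardV, pow_succ p 2] at h1
      rw [Nat.eq_of_mul_eq_mul_right hp.out.pos h1, h.cardA]
  · exfalso
    obtain ⟨B', hw⟩ := exists_tr hw1 h.tr.cardc (fun x hx => by
        rw [MulAut.mul_apply, h.tr.pow_apply, (h.tr.fix x).2 (h.tr.le hx), inv_mul_cancel, one_pow,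
          mul_one, (hu.fix x).2 (hu.le hx)])
      fun x => by
        rw [MulAut.mul_apply, show u ((t ^ m) x) = (t ^ m) x * (((t ^ m) x)⁻¹ * u ((t ^ m) x)) by
          rw [mul_inv_cancel_left], h.tr.pow_apply, mul_assoc, inv_mul_cancel_left]
        exact mul_mem (pow_mem (h.tr.diff x) m) (hu.diff _)
    refine (h.claim hw (H.mul_mem huH (H.pow_mem h.memt m)) h.memg h.notMem).2 ?_
    rw [← zpowers_eq hc' ha' ha'1]
    exact Subgroup.zpowers_le.2 ((hw.fix a').1 hwa)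

/-- Two transvections of a common `p`-group have the same centre and axis. -/
theorem same (h : Ctx p G H t g c A) {Q : Subgroup (MulAut V)} (hQG : Q ≤ G) (hQ : IsPGroup p Q)
    (htQ : t ∈ Q) {u : MulAut V} (huQ : u ∈ Q) {d B : Subgroup V} (hu : Tr p u d B) :
    d = c ∧ B = A := by
  have hQH := h.pgrp Q hQG hQ t htQ h.memt h.tr.order
  have huH := hQH huQ
  by_cases hdA : d ≤ A
  · by_cases hcB : c ≤ B
    · have hdc : d = c := by
        by_contra hne
        have hBA : B = A := by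
          have hdc : ¬ d ≤ c := fun e =>
            hne (Subgroup.eq_of_le_of_card_ge e (by rw [hu.cardc, h.tr.cardc]))
          have hle : A ≤ B := by
            have hcd : A = c ⊔ d := by
              refine (Subgroup.eq_of_le_of_card_ge (sup_le h.tr.le hdA) ?_).symm
              obtain ⟨k, hk⟩ := IsPGroup.iff_card.1 (h.pgroupV.to_subgroup (c ⊔ d))
              have h2 : Nat.card c < Nat.card (c ⊔ d : Subgroup V) :=
                lt_of_le_of_ne (Subgroup.card_le_of_le le_sup_left) fun e =>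
                  hdc (le_sup_right.trans (Subgroup.eq_of_le_of_card_ge le_sup_left e.ge).ge)
              rw [h.tr.cardc, hk] at h2
              rw [h.cardA, hk]
              exact Nat.pow_le_pow_right hp.out.pos
                ((Nat.pow_lt_pow_iff_right (a := p) (n := 1) hp.out.one_lt).1 (by rwa [pow_one]))
            rw [hcd]
            exact sup_le hcB hu.le
          refine (Subgroup.eq_of_le_of_card_ge hle ?_).symm
          have h1 := B.card_mul_index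
          rw [hu.index, h.cardV, pow_succ p 2] at h1
          rw [Nat.eq_of_mul_eq_mul_right hp.out.pos h1, h.cardA]
        exact hne (h.a1 (hBA ▸ hu) huH)
      subst hdc
      exact ⟨rfl, h.a2 hu huH⟩
    · exfalso
      -- `t` would preserve the axis of `u`
      have hw := hu.map t
      have hd' : d.map t.toMonoidHom = d := Subgroup.eq_of_le_of_card_ge
        (by rintro _ ⟨x, hx, rfl⟩; show t x ∈ d; rw [(h.tr.fix x).2 (hdA hx)]; exact hx)
        (Subgroup.card_map_of_injective t.injective).ge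
      rw [hd'] at hw
      have hctx : Ctx p G H u g d B :=
        ⟨h.pgroupV, h.cardV, h.le, h.conj, h.pgrp, hu, huH, h.memg, h.notMem⟩
      have hB := hctx.a2 hw (H.mul_mem (H.mul_mem h.memt huH) (H.inv_mem h.memt))
      have hfix : ∀ x ∈ B, t x = x := fun x hx => by
        have h1 : t x ∈ B := hB.le ⟨x, hx, rfl⟩
        exact (inv_mul_eq_one.1 (inf_eq_bot h.tr.cardc hcB (h.tr.diff x)
          (B.mul_mem (B.inv_mem hx) h1))).symm
      have hBA : B = A := Subgroup.eq_of_le_of_card_ge (fun x hx => (h.tr.fix x).1 (hfix x hx)) (by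
        have h1 := B.card_mul_index
        rw [hu.index, h.cardV, pow_succ p 2] at h1
        rw [Nat.eq_of_mul_eq_mul_right hp.out.pos h1, h.cardA])
      exact hcB (hBA ▸ h.tr.le)
  · exfalso
    by_cases hcB : c ≤ B
    · -- symmetrical
      have hw := h.tr.map u
      have hc' : c.map u.toMonoidHom = c := Subgroup.eq_of_le_of_card_ge
        (by rintro _ ⟨x, hx, rfl⟩; show u x ∈ c; rw [(hu.fix x).2 (hcB hx)]; exact hx)
        (Subgroup.card_map_of_injective u.injective).ge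
      rw [hc'] at hw
      have hA := h.a2 hw (H.mul_mem (H.mul_mem huH h.memt) (H.inv_mem huH))
      have hfix : ∀ x ∈ A, u x = x := fun x hx => by
        have h1 : u x ∈ A := hA.le ⟨x, hx, rfl⟩
        exact (inv_mul_eq_one.1 (inf_eq_bot hu.cardc hdA (hu.diff x)
          (A.mul_mem (A.inv_mem hx) h1))).symm
      have hAB : A = B := Subgroup.eq_of_le_of_card_ge (fun x hx => (hu.fix x).1 (hfix x hx)) (by
        have h1 := B.card_mul_index
        rw [hu.index, h.cardV, pow_succ p 2] at h1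
        rw [Nat.eq_of_mul_eq_mul_right hp.out.pos h1, h.cardA])
      exact hdA (hAB.symm ▸ hu.le)
    · exact le_axis_of_pgroup h.tr hu hQ htQ huQ hcB hdA

theorem trivial_step {K T : Subgroup V} (hKT : K ≤ T) (hKTp : K.relIndex T = p) {u : MulAut V}
    (hK : ∀ x ∈ K, u x ∈ K) (hT : ∀ x ∈ T, u x ∈ T) {k : ℕ} (hu : u ^ p ^ k = 1) :
    ∀ y ∈ T, y⁻¹ * u y ∈ K :=
  step_stabilised (smallStep_of_relIndex hp.out hKT hKTp) hK hT hu

/-- A `p`-group containing a transvection consists of transvections of the same centre and axis. -/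
theorem pgroup_le (h : Ctx p G H t g c A) {Q : Subgroup (MulAut V)} (hQG : Q ≤ G)
    (hQ : IsPGroup p Q) (htQ : t ∈ Q) {u : MulAut V} (huQ : u ∈ Q) :
    (∀ x ∈ A, u x = x) ∧ ∀ x, x⁻¹ * u x ∈ c := by
  by_cases hu1 : u = 1
  · subst hu1
    exact ⟨fun x _ => rfl, fun x => by simp⟩
  suffices ∀ x, x⁻¹ * u x ∈ c ∧ (x ∈ c → u x = x) by
    obtain ⟨B, hB⟩ := exists_tr hu1 h.tr.cardc (fun x hx => (this x).2 hx) fun x => (this x).1
    obtain ⟨-, rfl⟩ := h.same hQG hQ htQ huQ hB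
    exact ⟨fun x hx => (hB.fix x).2 hx, fun x => (this x).1⟩
  obtain ⟨huc, huA⟩ := h.same hQG hQ htQ (Q.mul_mem (Q.mul_mem huQ htQ) (Q.inv_mem huQ)) (h.tr.map u)
  have hmemc : ∀ x ∈ c, u x ∈ c := fun x hx => huc.le ⟨x, hx, rfl⟩
  have hmemA : ∀ x ∈ A, u x ∈ A := fun x hx => huA.le ⟨x, hx, rfl⟩
  obtain ⟨k, hk⟩ := hQ ⟨u, huQ⟩
  have hk' : u ^ p ^ k = 1 := congrArg Subtype.val hk
  have hufix : ∀ x ∈ c, u x = x := fun x hx => by
    have := trivial_step (bot_le : (⊥ : Subgroup V) ≤ c)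
      (by rw [Subgroup.relIndex_bot_left, h.tr.cardc])
      (fun y hy => by rw [Subgroup.mem_bot.1 hy, map_one]; exact one_mem _) hmemc hk' x hx
    exact (inv_mul_eq_one.1 (Subgroup.mem_bot.1 this)).symm
  have hA1 : ∀ x ∈ A, x⁻¹ * u x ∈ c := trivial_step h.tr.le (by
    have h1 := Subgroup.relIndex_mul_relIndex ⊥ c A bot_le h.tr.le
    rw [Subgroup.relIndex_bot_left, Subgroup.relIndex_bot_left, h.tr.cardc, h.cardA, pow_two] at h1
    exact Nat.eq_of_mul_eq_mul_left hp.out.pos h1) hmemc hmemA hk'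
  have hV1 : ∀ x, x⁻¹ * u x ∈ A := fun x => trivial_step (le_top : A ≤ ⊤)
    (by rw [Subgroup.relIndex_top_right, h.tr.index]) hmemA (fun _ _ => Subgroup.mem_top _) hk' x
    (Subgroup.mem_top x)
  suffices ∀ x, x⁻¹ * u x ∈ c from fun x => ⟨this x, hufix x⟩
  have hc'card : Nat.card (c.map g.toMonoidHom) = p := (h.tr.map g).cardc
  obtain ⟨a', ha', ha'1⟩ : ∃ a' ∈ c.map g.toMonoidHom, a' ≠ 1 := by
    by_contra hcon
    push Not at hcon
    rw [Subgroup.eq_bot_iff_forall _ |>.2 hcon, Subgroup.card_bot] at hc'card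
    exact hp.out.ne_one hc'card.symm
  have hclaim := h.claim h.tr h.memt h.memg h.notMem
  have ha'A : a' ∉ A := fun e => hclaim.2
    ((zpowers_eq hc'card ha' ha'1) ▸ Subgroup.zpowers_le.2 e)
  have hdec := exists_decomp h.tr.index ha'A
  suffices hs : a'⁻¹ * u a' ∈ c by
    intro x
    obtain ⟨i, a, ha, rfl⟩ := hdec x
    rw [map_mul, map_zpow, mul_inv, ← inv_zpow, mul_mul_mul_comm, ← mul_zpow]
    exact mul_mem (zpow_mem hs i) (hA1 a ha)
  by_contra hs
  -- the line `A ∩ gA`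
  obtain ⟨l, hlA, hlg, hl1⟩ := h.exists_meet g
  have hlc : l ∉ c := fun hl => hl1 (inf_eq_bot h.tr.cardc hclaim.1 hl hlg)
  have hAdec : ∀ a ∈ A, ∃ y ∈ c, ∃ j : ℤ, a = y * l ^ j := by
    intro a ha
    have hle : c ⊔ Subgroup.zpowers l ≤ A := sup_le h.tr.le (Subgroup.zpowers_le.2 hlA)
    have heq : c ⊔ Subgroup.zpowers l = A := by
      refine Subgroup.eq_of_le_of_card_ge hle ?_
      obtain ⟨k, hk⟩ := IsPGroup.iff_card.1 (h.pgroupV.to_subgroup (c ⊔ Subgroup.zpowers l))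
      have h2 : Nat.card c < Nat.card (c ⊔ Subgroup.zpowers l : Subgroup V) :=
        lt_of_le_of_ne (Subgroup.card_le_of_le le_sup_left) fun e => hlc
          ((Subgroup.eq_of_le_of_card_ge le_sup_left e.ge).ge
            (Subgroup.mem_sup_right (Subgroup.mem_zpowers l)))
      rw [h.tr.cardc, hk] at h2
      rw [h.cardA, hk]
      exact Nat.pow_le_pow_right hp.out.pos
        ((Nat.pow_lt_pow_iff_right (a := p) (n := 1) hp.out.one_lt).1 (by rwa [pow_one]))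
    obtain ⟨y, hy, w, hw, rfl⟩ := Subgroup.mem_sup.1 (heq.ge ha)
    obtain ⟨j, rfl⟩ := Subgroup.mem_zpowers_iff.1 hw
    exact ⟨y, hy, j, rfl⟩
  obtain ⟨y, hy, j, hyj⟩ := hAdec _ (hV1 a')
  obtain ⟨L, hL⟩ : ∃ L, L = l ^ j := ⟨_, rfl⟩
  rw [← hL] at hyj
  have hLA : L ∈ A := hL ▸ zpow_mem hlA j
  have hLg : L ∈ A.map g.toMonoidHom := hL ▸ zpow_mem hlg j
  have hLc : L ∉ c := fun e => hs (by rw [hyj]; exact mul_mem hy e)
  obtain ⟨t', ht'⟩ : ∃ t', t' = g * t * g⁻¹ := ⟨_, rfl⟩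
  have htr' : Tr p t' (c.map g.toMonoidHom) (A.map g.toMonoidHom) := ht' ▸ h.tr.map g
  have ht'G : t' ∈ G := ht' ▸ G.mul_mem (G.mul_mem h.memg (h.le h.memt)) (G.inv_mem h.memg)
  -- move `a' y` into `c`
  obtain ⟨κ, hκG, hκfix, hκA⟩ : ∃ κ ∈ G, κ L = L ∧ κ (a' * y) ∈ c := by
    have step : ∀ cc ∈ c.map g.toMonoidHom, ∀ ca ∈ c, ca ≠ 1 →
        ∃ m : ℕ, (t' ^ m) (cc * ca) ∈ c := by
      intro cc hcc ca hca hca1
      have hca' : ca ∉ A.map g.toMonoidHom := fun e => hca1 (inf_eq_bot h.tr.cardc hclaim.1 hca e)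
      have hcc' : cc ∈ A.map g.toMonoidHom := Subgroup.map_mono h.tr.le hcc
      have hd : (cc * ca)⁻¹ * t' (cc * ca) = ca⁻¹ * t' ca := by
        rw [map_mul, (htr'.fix cc).2 hcc', mul_inv, mul_mul_mul_comm, inv_mul_cancel, one_mul]
      obtain ⟨m, hm⟩ := exists_pow_mul_eq_one hc'card (htr'.diff ca) (htr'.diff_ne hca') hcc
      refine ⟨m, ?_⟩
      rw [htr'.pow_apply, hd, mul_right_comm, hm, one_mul]
      exact hca
    by_cases hy1 : y = 1
    · obtain ⟨m, hm⟩ := step a' ha' _ (h.tr.diff a') (h.tr.diff_ne ha'A)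
      refine ⟨t' ^ m * t, G.mul_mem (G.pow_mem ht'G m) (h.le h.memt), ?_, ?_⟩
      · rw [MulAut.mul_apply, (h.tr.fix L).2 hLA, htr'.pow_apply, (htr'.fix L).2 hLg, inv_mul_cancel,
          one_pow, mul_one]
      · rw [hy1, mul_one, MulAut.mul_apply]
        rwa [mul_inv_cancel_left] at hm
    · obtain ⟨m, hm⟩ := step a' ha' y hy hy1
      refine ⟨t' ^ m, G.pow_mem ht'G m, ?_, hm⟩
      rw [htr'.pow_apply, (htr'.fix L).2 hLg, inv_mul_cancel, one_pow, mul_one]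
  obtain ⟨γ, hγ⟩ : ∃ γ, γ = κ * u * g := ⟨_, rfl⟩
  have hγG : γ ∈ G := hγ ▸ G.mul_mem (G.mul_mem hκG (hQG huQ)) h.memg
  obtain ⟨a₀, ha₀, ha₀'⟩ := ha'
  have hz : γ a₀ = κ (a' * y) * L := by
    have h1 : g a₀ = a' := ha₀'
    rw [hγ, MulAut.mul_apply, MulAut.mul_apply, h1,
      show u a' = a' * (a'⁻¹ * u a') by rw [mul_inv_cancel_left], hyj, ← mul_assoc, map_mul, hκfix]
  have hzmem : γ a₀ ∈ c.map γ.toMonoidHom := ⟨a₀, ha₀, rfl⟩
  have hz1 : γ a₀ ≠ 1 := fun e => hLc (by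
    rw [hz] at e
    rw [eq_inv_of_mul_eq_one_right e]
    exact inv_mem hκA)
  have hle : c.map γ.toMonoidHom ≤ A := by
    rw [← zpowers_eq (h.tr.map γ).cardc hzmem hz1, Subgroup.zpowers_le, hz]
    exact mul_mem (h.tr.le hκA) hLA
  obtain ⟨Q', hQ'G, hQ', htQ', ht3⟩ := pair_pgroup h.pgroupV h.tr (h.tr.map γ) (h.le h.memt)
    (G.mul_mem (G.mul_mem hγG (h.le h.memt)) (G.inv_mem hγG)) hle
  obtain ⟨hcen, -⟩ := h.same hQ'G hQ' htQ' ht3 (h.tr.map γ)
  rw [hcen, hz] at hzmem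
  have := mul_mem (inv_mem hκA) hzmem
  rw [inv_mul_cancel_left] at this
  exact hLc this

end Ctx

/-- **The transvection theorem in rank three.** -/
theorem main (hV : IsPGroup p V) (hcard : Nat.card V = p ^ 3) (G : Subgroup (MulAut V))
    (hG : ∃ H : Subgroup G, Cfsg.IsStronglyPEmbedded p H) {t : MulAut V} {c A : Subgroup V}
    (ht : Tr p t c A) (htG : t ∈ G) :
    (∀ Q : Subgroup (MulAut V), Q ≤ G → IsPGroup p Q → t ∈ Q →
      ∀ u ∈ Q, (∀ x ∈ A, u x = x) ∧ ∀ x, x⁻¹ * u x ∈ c) ∧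
    ∃ τ ∈ G, ∃ ℓ : Subgroup V, Nat.card ℓ = p ∧ ℓ ≤ A ∧ ℓ ⊓ c = ⊥ ∧ c ⊔ ℓ = A ∧
      (∀ x ∈ ℓ, τ x = x) ∧ (∀ x ∈ c, τ x = x⁻¹) ∧ ∃ a, a ∉ A ∧ τ a = a⁻¹ := by
  classical
  haveI := finite_aut (V := V)
  obtain ⟨H₀, hH₀⟩ := hG
  obtain ⟨htop, hpH, hN⟩ := Strong.isStronglyPEmbedded_iff.1 hH₀
  -- conjugate `H₀` to contain `t`
  obtain ⟨T, hT⟩ := (CfsgLib.Transfer.isPGroup_zpowers (p := p) (x := (⟨t, htG⟩ : G))
    ⟨1, by rw [pow_one, Subgroup.orderOf_mk, ht.order]⟩).exists_le_sylow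
  obtain ⟨⟨P₀, hP₀, hP₀ne⟩, -⟩ := Strong.exists_sylow_le_and_normalizer_le hH₀
  obtain ⟨γ₀, hγ₀⟩ := MulAction.exists_smul_eq G P₀ T
  obtain ⟨H₁, hH₁⟩ : ∃ H₁ : Subgroup G, H₁ = H₀.map (MulAut.conj γ₀).toMonoidHom := ⟨_, rfl⟩
  have hN₁ : ∀ Q : Subgroup G, IsPGroup p Q → Q ≤ H₁ → Q ≠ ⊥ →
      Subgroup.normalizer (Q : Set G) ≤ H₁ := by
    intro Q hQ hQH hne n hn
    obtain ⟨Q', hQ'⟩ : ∃ Q' : Subgroup G, Q' = Q.map (MulAut.conj γ₀⁻¹).toMonoidHom := ⟨_, rfl⟩
    have h1 : Q' ≤ H₀ := by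
      rw [hQ']
      rintro _ ⟨q, hq, rfl⟩
      obtain ⟨x, hx, rfl⟩ := hH₁ ▸ hQH hq
      simpa [mul_assoc] using hx
    have h2 : γ₀⁻¹ * n * γ₀ ∈ Subgroup.normalizer (Q' : Set G) := by
      refine Subgroup.mem_normalizer_fintype ?_
      rw [hQ']
      rintro _ ⟨q, hq, rfl⟩
      exact ⟨n * q * n⁻¹, (Subgroup.mem_normalizer_iff.1 hn q).1 hq, by simp [mul_assoc]⟩
    have h3 := hN Q' (hQ' ▸ hQ.map _) h1 (fun e => hne ((Subgroup.map_eq_bot_iff_of_injective Q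
      (MulAut.conj γ₀⁻¹).injective).1 (hQ' ▸ e))) h2
    rw [hH₁]
    exact ⟨_, h3, by simp [mul_assoc]⟩
  have htH₁ : (⟨t, htG⟩ : G) ∈ H₁ := by
    have h1 := hT (Subgroup.mem_zpowers _)
    rw [← hγ₀, Sylow.coe_subgroup_smul, Subgroup.mem_pointwise_smul_iff_inv_smul_mem] at h1
    rw [hH₁]
    exact ⟨_, hP₀ h1, by simp [mul_assoc]⟩
  have hH₁top : H₁ ≠ ⊤ := fun e => htop (Subgroup.map_injective
    (f := (MulAut.conj γ₀).toMonoidHom) (MulAut.conj γ₀).injective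
    (by rw [← hH₁, e, Subgroup.map_top_of_surjective _ (MulAut.conj γ₀).surjective]))
  obtain ⟨⟨g, hgG⟩, hg⟩ : ∃ g, g ∉ H₁ := by
    by_contra hcon
    push Not at hcon
    exact hH₁top (eq_top_iff.2 fun g _ => hcon g)
  have hsub : ∀ x : G, orderOf (x : MulAut V) = orderOf x := fun x => Subgroup.orderOf_coe x
  have hctx : Ctx p G (H₁.map G.subtype) t g c A := by
    refine ⟨hV, hcard, Subgroup.map_subtype_le H₁, ?_, ?_, ht, ⟨_, htH₁, rfl⟩, hgG, ?_⟩
    · rintro γ hγ _ ⟨x, hx, rfl⟩ hord hmem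
      obtain ⟨y, hy, hyv⟩ := hmem
      refine ⟨⟨γ, hγ⟩, Strong.mem_of_conj_mem hN₁ ((hsub x).symm.trans hord) hx ?_, rfl⟩
      rw [show (⟨γ, hγ⟩ : G) * x * (⟨γ, hγ⟩ : G)⁻¹ = y from Subtype.ext hyv.symm]
      exact hy
    · rintro Q hQG hQ _ hxQ ⟨x, hx, rfl⟩ hord u hu
      obtain ⟨T', hT'⟩ := (hQ.comap_of_injective G.subtype G.subtype_injective :
        IsPGroup p (Q.comap G.subtype)).exists_le_sylow
      exact ⟨⟨u, hQG hu⟩, Strong.sylow_le_of_normalizer hN₁ T' (hT' hxQ) hx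
        ((hsub x).symm.trans hord) (hT' (show G.subtype ⟨u, hQG hu⟩ ∈ Q from hu)), rfl⟩
    · rintro ⟨x, hx, hxg⟩
      exact hg (by rwa [show (⟨g, hgG⟩ : G) = x from Subtype.ext hxg.symm])
  refine ⟨fun Q hQG hQ htQ u hu => hctx.pgroup_le hQG hQ htQ hu, ?_⟩
  -- the group of transvections with centre `c` and axis `A`
  obtain ⟨U, hU⟩ : ∃ U : Subgroup (MulAut V), U = G ⊓ seriesStab A A le_rfl := ⟨_, rfl⟩
  have hUp : IsPGroup p U := hU ▸ (isPGroup_seriesStab hV A A le_rfl).to_le inf_le_right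
  have htU : t ∈ U := hU ▸ ⟨htG, mem_seriesStab.2 ⟨fun x hx => (ht.fix x).2 hx,
    fun x _ => ht.le (ht.diff x), fun x => ht.le (ht.diff x)⟩⟩
  have hUG : U ≤ G := hU ▸ inf_le_left
  have hUmem : ∀ u ∈ G, (∀ x ∈ A, u x = x) → (∀ x, x⁻¹ * u x ∈ A) → u ∈ U := fun u huG hf hd =>
    hU ▸ ⟨huG, mem_seriesStab.2 ⟨hf, fun x hx => by rw [hf x hx, inv_mul_cancel]; exact one_mem _, hd⟩⟩
  obtain ⟨v, hv⟩ : ∃ v, v ∉ A := by
    by_contra hcon
    push Not at hcon
    exact ht.ne_top (eq_top_iff.2 fun x _ => hcon x)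
  have hclaim := hctx.claim ht hctx.memt hctx.memg hctx.notMem
  have hgA : ¬ ∀ z ∈ A, g z ∈ A := fun hall => hclaim.2 (by
    rintro _ ⟨x, hx, rfl⟩
    exact hall x (ht.le hx))
  obtain ⟨hcp, hdis, hsup, τ, hτ, hτc, hτc', hτX⟩ :=
    CfsgLib.Fusion.Transvections.exists_split (p := p) hV G A c ht.index ht.le hv U hUG
      (fun u hu => (hctx.pgroup_le hUG hUp htU hu).1)
      (fun u hu => (hctx.pgroup_le hUG hUp htU hu).2)
      (fun x hx => by
        obtain ⟨i, hi⟩ := exists_pow_mul_eq_one ht.cardc (ht.diff v) (ht.diff_ne hv) (inv_mem hx)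
        exact ⟨t ^ i, U.pow_mem htU i, by
          rw [ht.pow_apply, inv_mul_cancel_left, inv_mul_eq_one.1 hi]⟩)
      hUmem
      (fun T hTG hTp => by
        obtain ⟨R, hR⟩ := (hTp.comap_of_injective G.subtype G.subtype_injective :
          IsPGroup p (T.comap G.subtype)).exists_le_sylow
        obtain ⟨R₀, hR₀⟩ := (hUp.comap_of_injective G.subtype G.subtype_injective :
          IsPGroup p (U.comap G.subtype)).exists_le_sylow
        obtain ⟨γ, hγ⟩ := MulAction.exists_smul_eq G R R₀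
        refine ⟨γ, γ.2, fun u hu => ?_⟩
        have h1 : γ * ⟨u, hTG hu⟩ * γ⁻¹ ∈ (R₀ : Subgroup G) := by
          rw [← hγ, Sylow.coe_subgroup_smul, Subgroup.mem_pointwise_smul_iff_inv_smul_mem]
          simpa [mul_assoc] using hR (show G.subtype ⟨u, hTG hu⟩ ∈ T from hu)
        have h2 := hctx.pgroup_le (Subgroup.map_subtype_le (R₀ : Subgroup G)) (R₀.2.map _)
          ⟨⟨t, htG⟩, hR₀ (show G.subtype ⟨t, htG⟩ ∈ U from htU), rfl⟩ ⟨_, h1, rfl⟩
        exact hUmem _ (γ * ⟨u, hTG hu⟩ * γ⁻¹ : G).2 h2.1 fun x => ht.le (h2.2 x))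
      hgG hgA (fun e => ht.ne_one (by simpa [e] using htU))
  obtain ⟨a, ha, ha1⟩ : ∃ a ∈ c, a ≠ 1 := ⟨_, ht.diff v, ht.diff_ne hv⟩
  refine ⟨τ, hτ, A ⊓ A.map g.toMonoidHom, ?_, inf_le_left, hdis, hsup, hτX, hτc, g a, ?_, ?_⟩
  · obtain ⟨l, hlA, hlg, hl1⟩ := hctx.exists_meet g
    obtain ⟨k, hk⟩ := IsPGroup.iff_card.1 (hV.to_subgroup (A ⊓ A.map g.toMonoidHom))
    rw [hk]
    have hk0 : k ≠ 0 := fun e => hl1 (by
      have := (Subgroup.eq_bot_of_card_eq _ (by rw [hk, e, pow_zero]) :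
        A ⊓ A.map g.toMonoidHom = ⊥).le ⟨hlA, hlg⟩
      exact Subgroup.mem_bot.1 this)
    have hlt : Nat.card (A ⊓ A.map g.toMonoidHom : Subgroup V) < Nat.card A :=
      lt_of_le_of_ne (Subgroup.card_le_of_le inf_le_left) fun e => hclaim.1
        (ht.le.trans ((Subgroup.eq_of_le_of_card_ge inf_le_left e.ge).ge.trans inf_le_right))
    rw [hk, hctx.cardA] at hlt
    have := (Nat.pow_lt_pow_iff_right hp.out.one_lt).1 hlt
    rw [show k = 1 by omega, pow_one]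
  · exact fun e => hclaim.2 (by
      rw [← zpowers_eq (ht.map g).cardc ⟨a, ha, rfl⟩ (fun e' => ha1 (g.injective (e'.trans (map_one g).symm)))]
      exact Subgroup.zpowers_le.2 e)
  · exact hτc' a ha

end CfsgLib.TransvectionCube
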