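import Mathlib
import Cfsg.Agent.Lib.Fusion.Normal
import Cfsg.Agent.Lib.PGroup.Uniserial
import Cfsg.Agent.Lib.PGroup.UniserialPower
import Cfsg.Agent.S4209

/-!
Pearls: small essential subgroups force maximal class.
-/

set_option autoImplicit false
set_option linter.style.haveILetI false
set_option linter.unusedSectionVars false

open scoped commutatorElement

namespace CfsgLib.Pearls

open CfsgLib

/-! ### Self-centralizing subgroups of order `p ^ 3` -/

variable {X : Type*} [Group X] [Finite X] {p : ℕ} [hp : Fact p.Prime]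

theorem center_le_of_selfCentralizing {E : Subgroup X}
    (hC : Subgroup.centralizer (E : Set X) ≤ E) : Subgroup.center X ≤ E :=
  (Subgroup.center_le_centralizer _).trans hC

theorem card_center_eq (hX : IsPGroup p X) [Nontrivial X] {E : Subgroup X}
    (hC : Subgroup.centralizer (E : Set X) ≤ E) (hE : Nat.card E = p ^ 3)
    (hna : ¬ ∀ a ∈ E, ∀ b ∈ E, a * b = b * a) :
    Nat.card (Subgroup.center X) = p ∧ Subgroup.centralizer (E : Set X) = Subgroup.center X := by
  classical
  set C := Subgroup.centralizer (E : Set X) with hCdef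
  have hle : Subgroup.center X ≤ C := Subgroup.center_le_centralizer _
  -- the centralizer is the centre of `E`
  have hCc : Nat.card C ≤ p := by
    obtain ⟨c, hc⟩ := IsPGroup.iff_card.1 (hX.to_subgroup C)
    rw [hc]
    refine (Nat.pow_le_pow_right hp.out.pos (?_ : c ≤ 1)).trans (pow_one p).le
    by_contra hcon
    refine hna fun a ha b hb => ?_
    by_cases haC : a ∈ C
    · exact (Subgroup.mem_centralizer_iff.1 haC b hb).symm
    -- `C` together with `a` generates `E`
    have hCc' : Subgroup.closure ((C : Set X) ∪ {a}) = E := by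
      refine Subgroup.eq_of_le_of_card_ge ((Subgroup.closure_le _).2 ?_) ?_
      · rintro u (hu | rfl)
        · exact hC hu
        · exact ha
      have hlt : C < Subgroup.closure ((C : Set X) ∪ {a}) :=
        lt_of_le_of_ne (fun u hu => Subgroup.subset_closure (Or.inl hu))
          fun e => haC (e.ge (Subgroup.subset_closure (Or.inr rfl)))
      obtain ⟨d, hd⟩ := IsPGroup.iff_card.1 (hX.to_subgroup (Subgroup.closure ((C : Set X) ∪ {a})))
      rw [hE, hd]
      refine Nat.pow_le_pow_right hp.out.pos ?_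
      have h1 : Nat.card C < Nat.card (Subgroup.closure ((C : Set X) ∪ {a})) :=
        lt_of_le_of_ne (Subgroup.card_le_of_le hlt.le) fun e =>
          hlt.ne (Subgroup.eq_of_le_of_card_ge hlt.le e.ge)
      rw [hc, hd] at h1
      have := (Nat.pow_lt_pow_iff_right hp.out.one_lt).1 h1
      omega
    have h2 : Subgroup.closure ((C : Set X) ∪ {a}) ≤ Subgroup.centralizer ({a} : Set X) := by
      refine (Subgroup.closure_le _).2 ?_
      rintro u (hu | rfl)
      · exact Subgroup.mem_centralizer_singleton_iff.2 (Subgroup.mem_centralizer_iff.1 hu a ha).symm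
      · exact Subgroup.mem_centralizer_singleton_iff.2 rfl
    exact (Subgroup.mem_centralizer_singleton_iff.1 (h2 (hCc'.ge hb))).symm
  have hZp : p ≤ Nat.card (Subgroup.center X) := by
    obtain ⟨c, hc⟩ := IsPGroup.iff_card.1 (hX.to_subgroup (Subgroup.center X))
    have h1 : 1 < Nat.card (Subgroup.center X) := by
      haveI := hX.center_nontrivial
      exact Finite.one_lt_card
    rw [hc] at h1 ⊢
    exact Nat.le_self_pow (by rintro rfl; simp at h1) p
  exact ⟨le_antisymm ((Subgroup.card_le_of_le hle).trans hCc) hZp,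
    (Subgroup.eq_of_le_of_card_ge hle (hCc.trans hZp)).symm⟩

/-- Elements inducing central automorphisms of `E` lie in `E`. -/
theorem mem_of_commutator_center (hX : IsPGroup p X) [Nontrivial X] {E : Subgroup X}
    (hC : Subgroup.centralizer (E : Set X) ≤ E) (hE : Nat.card E = p ^ 3)
    (hna : ¬ ∀ a ∈ E, ∀ b ∈ E, a * b = b * a) {u : X}
    (hu : ∀ e ∈ E, ⁅u, e⁆ ∈ Subgroup.center X) : u ∈ E := by
  classical
  obtain ⟨hZ, hCZ⟩ := card_center_eq hX hC hE hna
  have hZE := center_le_of_selfCentralizing hC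
  set Z := Subgroup.center X with hZdef
  obtain ⟨a, ha, b, hb, hab⟩ : ∃ a ∈ E, ∃ b ∈ E, a * b ≠ b * a := by
    by_contra hcon
    push Not at hcon
    exact hna hcon
  have hgen : E ≤ Subgroup.closure ({a, b} : Set X) ⊔ Z := by
    have hle : Subgroup.closure ({a, b} : Set X) ⊔ Z ≤ E := sup_le (Regular.pair_le ha hb) hZE
    refine (Subgroup.eq_of_le_of_card_ge hle ?_).ge
    obtain ⟨d, hd⟩ := IsPGroup.iff_card.1
      (hX.to_subgroup (Subgroup.closure ({a, b} : Set X) ⊔ Z))
    rw [hE, hd]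
    refine Nat.pow_le_pow_right hp.out.pos ?_
    by_contra hcon
    have h3 : Nat.card (Subgroup.closure ({a, b} : Set X) ⊔ Z : Subgroup X) ≤ p ^ 2 := by
      rw [hd]; exact Nat.pow_le_pow_right hp.out.pos (by omega)
    -- a proper chain `Z < Z ⊔ ⟨a⟩ < Z ⊔ ⟨a, b⟩`
    have hlt1 : Z < Z ⊔ Subgroup.zpowers a := lt_of_le_of_ne le_sup_left fun e => hab
      (Subgroup.mem_center_iff.1 (e.ge (Subgroup.mem_sup_right (Subgroup.mem_zpowers a))) b).symm
    have hlt2 : Z ⊔ Subgroup.zpowers a < Subgroup.closure ({a, b} : Set X) ⊔ Z := by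
      refine lt_of_le_of_ne (sup_le le_sup_right (Subgroup.zpowers_le.2
        (Subgroup.mem_sup_left (Subgroup.subset_closure (by simp))))) fun e => hab ?_
      have hbm : b ∈ Z ⊔ Subgroup.zpowers a :=
        e.ge (Subgroup.mem_sup_left (Subgroup.subset_closure (by simp)))
      have hle' : Z ⊔ Subgroup.zpowers a ≤ Subgroup.centralizer ({a} : Set X) :=
        sup_le (fun z hz => Subgroup.mem_centralizer_singleton_iff.2
          (Subgroup.mem_center_iff.1 hz a).symm)
          (Subgroup.zpowers_le.2 (Subgroup.mem_centralizer_singleton_iff.2 rfl))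
      exact (Subgroup.mem_centralizer_singleton_iff.1 (hle' hbm)).symm
    have h1 : Nat.card Z < Nat.card (Z ⊔ Subgroup.zpowers a : Subgroup X) :=
      lt_of_le_of_ne (Subgroup.card_le_of_le hlt1.le) fun e =>
        hlt1.ne (Subgroup.eq_of_le_of_card_ge hlt1.le e.ge)
    have h2 : Nat.card (Z ⊔ Subgroup.zpowers a : Subgroup X) <
        Nat.card (Subgroup.closure ({a, b} : Set X) ⊔ Z : Subgroup X) :=
      lt_of_le_of_ne (Subgroup.card_le_of_le hlt2.le) fun e =>
        hlt2.ne (Subgroup.eq_of_le_of_card_ge hlt2.le e.ge)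
    obtain ⟨m, hm⟩ := IsPGroup.iff_card.1 (hX.to_subgroup (Z ⊔ Subgroup.zpowers a : Subgroup X))
    rw [hm, hZ, ← pow_one p, ← pow_mul, one_mul] at h1
    rw [hm, hd] at h2
    have e1 := (Nat.pow_lt_pow_iff_right hp.out.one_lt).1 h1
    have e2 := (Nat.pow_lt_pow_iff_right hp.out.one_lt).1 h2
    omega
  -- the subgroup of elements inducing central automorphisms
  set K : Subgroup X := (Subgroup.centralizer ((E.map (QuotientGroup.mk' Z) : Subgroup (X ⧸ Z)) :
    Set (X ⧸ Z))).comap (QuotientGroup.mk' Z) with hK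
  have memK : ∀ g, g ∈ K ↔ ∀ e ∈ E, ⁅g, e⁆ ∈ Z := by
    intro g
    have key : ∀ e, ⁅g, e⁆ ∈ Z ↔ QuotientGroup.mk' Z e * QuotientGroup.mk' Z g =
        QuotientGroup.mk' Z g * QuotientGroup.mk' Z e := fun e => by
      rw [eq_comm, ← commutatorElement_eq_one_iff_mul_comm, ← map_commutatorElement]
      exact (QuotientGroup.eq_one_iff _).symm
    rw [hK, Subgroup.mem_comap, Subgroup.mem_centralizer_iff]
    constructor
    · exact fun h e he => (key e).2 (h _ ⟨e, he, rfl⟩)
    · rintro h _ ⟨e, he, rfl⟩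
      exact (key e).1 (h e he)
  have hEK : E ≤ K := by
    intro g hg
    -- the derived subgroup of a group of order `p ^ 3` is central
    refine (memK g).2 fun e he => ?_
    have hEp : IsPGroup p E := hX.to_subgroup E
    set W := Subgroup.closure ({g, e} : Set X)
    haveI : (Z.subgroupOf E).Normal := ⟨fun z hz w => by
      show ((w : X) * z * (w : X)⁻¹) ∈ Z
      rw [Subgroup.mem_center_iff.1 (show (z : X) ∈ Subgroup.center X from hz) (w : X),
          mul_inv_cancel_right]
      exact hz⟩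
    have hq : Nat.card (E ⧸ Z.subgroupOf E) = p ^ 2 := by
      have h1 := Subgroup.card_eq_card_quotient_mul_card_subgroup (Z.subgroupOf E)
      rw [hE, Nat.card_congr (Subgroup.subgroupOfEquivOfLe hZE).toEquiv, hZ,
        show p ^ 3 = p ^ 2 * p from pow_succ p 2] at h1
      exact (Nat.eq_of_mul_eq_mul_right hp.out.pos h1).symm
    letI := IsPGroup.commGroupOfCardEqPrimeSq hq
    have h2 := mul_comm (QuotientGroup.mk' (Z.subgroupOf E) ⟨g, hg⟩)
      (QuotientGroup.mk' (Z.subgroupOf E) ⟨e, he⟩)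
    rw [← commutatorElement_eq_one_iff_mul_comm, ← map_commutatorElement] at h2
    exact (QuotientGroup.eq_one_iff ⁅(⟨g, hg⟩ : E), (⟨e, he⟩ : E)⁆).1 h2
  -- counting
  have hKc : Nat.card K ≤ Nat.card E := by
    have hker : ∀ g ∈ K, ⁅g, a⁆ = 1 → ⁅g, b⁆ = 1 → g ∈ Z := by
      intro g _ h1 h2
      rw [← hCZ, Subgroup.mem_centralizer_iff]
      intro e he
      have hle : Subgroup.closure ({a, b} : Set X) ⊔ Z ≤ Subgroup.centralizer ({g} : Set X) := by
        refine sup_le ((Subgroup.closure_le _).2 ?_) fun z hz =>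
          Subgroup.mem_centralizer_singleton_iff.2 (Subgroup.mem_center_iff.1 hz g).symm
        rintro v (rfl | rfl)
        · exact Subgroup.mem_centralizer_singleton_iff.2
            (commutatorElement_eq_one_iff_mul_comm.1 h1).symm
        · exact Subgroup.mem_centralizer_singleton_iff.2
            (commutatorElement_eq_one_iff_mul_comm.1 h2).symm
      exact Subgroup.mem_centralizer_singleton_iff.1 (hle (hgen he))
    let θ : K →* Z × Z := MonoidHom.mk'
      (fun g => (⟨⁅(g : X), a⁆, (memK g).1 g.2 a ha⟩, ⟨⁅(g : X), b⁆, (memK g).1 g.2 b hb⟩))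
      fun g k => by
        have step : ∀ e ∈ E, ⁅(g : X) * k, e⁆ = ⁅(g : X), e⁆ * ⁅(k : X), e⁆ := fun e he => by
          rw [show ⁅(g : X) * k, e⁆ = (g : X) * ⁅(k : X), e⁆ * (g : X)⁻¹ * ⁅(g : X), e⁆ by
            simp only [commutatorElement_def]; group,
            Subgroup.mem_center_iff.1 ((memK k).1 k.2 e he) g, mul_inv_cancel_right,
            Subgroup.mem_center_iff.1 ((memK k).1 k.2 e he) ⁅(g : X), e⁆]
        exact Prod.ext (Subtype.ext (step a ha)) (Subtype.ext (step b hb))
    have h1 : Nat.card θ.ker ≤ p := hZ ▸ Nat.card_le_card_of_injective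
      (fun g => (⟨((g : K) : X), hker _ (g : K).2
        (congrArg (fun q : Z × Z => (q.1 : X)) g.2) (congrArg (fun q : Z × Z => (q.2 : X)) g.2)⟩ : Z))
      fun g k e => by
        have e' := Subtype.ext_iff.1 e
        exact Subtype.ext (Subtype.ext e')
    have h2 : Nat.card θ.range ≤ p * p := by
      refine (Subgroup.card_le_card_group _).trans ?_
      rw [Nat.card_prod, hZ]
    rw [Subgroup.card_eq_card_quotient_mul_card_subgroup θ.ker,
      Nat.card_congr (QuotientGroup.quotientKerEquivRange θ).toEquiv, hE, pow_succ, pow_two]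
    exact Nat.mul_le_mul h2 h1
  exact (Subgroup.eq_of_le_of_card_ge hEK hKc).ge ((memK u).2 hu)

/-- Either some element of order `p` has centralizer of order `p ^ 2`, or the elements of order
dividing `p` in `E` form the second centre. -/
theorem exists_element_or (hX : IsPGroup p X) [Nontrivial X] (hp2 : p ≠ 2) {E : Subgroup X}
    (hC : Subgroup.centralizer (E : Set X) ≤ E) (hE : Nat.card E = p ^ 3) (hne : E ≠ ⊤)
    (hna : ¬ ∀ a ∈ E, ∀ b ∈ E, a * b = b * a) :
    (∃ x : X, x ^ p = 1 ∧ Nat.card (Subgroup.centralizer ({x} : Set X)) = p ^ 2) ∨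
      ∃ R : Subgroup X, R < E ∧ Nat.card R = p ^ 2 ∧ Subgroup.center X ≤ R ∧
        (∀ e, e ∈ R ↔ e ∈ E ∧ e ^ p = 1) ∧ ∀ g : X, ∀ r ∈ R, ⁅g, r⁆ ∈ Subgroup.center X := by
  classical
  obtain ⟨hZ, hCZ⟩ := card_center_eq hX hC hE hna
  have hZE := center_le_of_selfCentralizing hC
  haveI : Group.IsNilpotent X := hX.isNilpotent
  obtain ⟨Z2, hZ2⟩ : ∃ Z2 : Subgroup X, Z2 = Subgroup.upperCentralSeries X 2 := ⟨_, rfl⟩
  have mem2 : ∀ v, v ∈ Z2 ↔ ∀ g, ⁅v, g⁆ ∈ Subgroup.center X := fun v => by
    rw [hZ2, Subgroup.mem_upperCentralSeries_succ_iff, Subgroup.upperCentralSeries_one]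
  have mem2' : ∀ v, v ∈ Z2 ↔ ∀ g, ⁅g, v⁆ ∈ Subgroup.center X := fun v => by
    rw [mem2]
    constructor <;>
    · intro h g
      rw [← commutatorElement_inv]
      exact inv_mem (h g)
  have h2E : Z2 ≤ E := fun v hv => mem_of_commutator_center hX hC hE hna fun e _ => (mem2 v).1 hv e
  have hlt2 : Z2 < E := lt_of_le_of_ne h2E fun e => hne (eq_top_iff.2 fun g _ =>
    mem_of_commutator_center hX hC hE hna fun v hv => (mem2' v).1 (e ▸ hv) g)
  -- the second centre is larger than the centre
  have hlt1 : Subgroup.center X < Z2 := by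
    refine lt_of_le_of_ne (fun z hz => (mem2 z).2 fun g => ?_) fun e => hne (eq_top_iff.2 ?_)
    · rw [commutatorElement_eq_one_iff_mul_comm.2 (Subgroup.mem_center_iff.1 hz g).symm]
      exact one_mem _
    · haveI hQ : Nontrivial (X ⧸ Subgroup.center X) := by
        rw [QuotientGroup.nontrivial_iff]
        exact fun e' => hne (eq_top_iff.2 (e' ▸ hZE))
      haveI := (hX.to_quotient (Subgroup.center X)).center_nontrivial
      obtain ⟨⟨q, hq⟩, hq1⟩ := exists_ne (1 : Subgroup.center (X ⧸ Subgroup.center X))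
      obtain ⟨g, rfl⟩ := QuotientGroup.mk_surjective q
      exfalso
      refine hq1 (Subtype.ext ((QuotientGroup.eq_one_iff g).2 (e.ge ((mem2 g).2 fun k => ?_))))
      refine (QuotientGroup.eq_one_iff _).1 ?_
      rw [← QuotientGroup.mk'_apply, map_commutatorElement, commutatorElement_eq_one_iff_mul_comm]
      exact (Subgroup.mem_center_iff.1 hq (QuotientGroup.mk' _ k)).symm
  have h2c : Nat.card Z2 = p ^ 2 := by
    obtain ⟨c, hc⟩ := IsPGroup.iff_card.1 (hX.to_subgroup Z2)
    have h1 : Nat.card (Subgroup.center X) < Nat.card Z2 := lt_of_le_of_ne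
      (Subgroup.card_le_of_le hlt1.le) fun e => hlt1.ne (Subgroup.eq_of_le_of_card_ge hlt1.le e.ge)
    have h2 : Nat.card Z2 < Nat.card E := lt_of_le_of_ne (Subgroup.card_le_of_le hlt2.le) fun e =>
      hlt2.ne (Subgroup.eq_of_le_of_card_ge hlt2.le e.ge)
    rw [hc, hE] at h2
    rw [hc, hZ, ← pow_one p, ← pow_mul, one_mul] at h1
    have e1 := (Nat.pow_lt_pow_iff_right hp.out.one_lt).1 h1
    have e2 := (Nat.pow_lt_pow_iff_right hp.out.one_lt).1 h2
    rw [hc]
    congr 1
    omega
  by_cases hex : ∃ x ∈ E, x ∉ Z2 ∧ x ^ p = 1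
  · obtain ⟨x, hxE, hx2, hxp⟩ := hex
    refine Or.inl ⟨x, hxp, ?_⟩
    set C := Subgroup.centralizer ({x} : Set X) with hCx
    -- `E` is generated by `x` and the second centre
    have hgen : Z2 ⊔ Subgroup.zpowers x = E := by
      refine Subgroup.eq_of_le_of_card_ge (sup_le h2E (Subgroup.zpowers_le.2 hxE)) ?_
      obtain ⟨d, hd⟩ := IsPGroup.iff_card.1 (hX.to_subgroup (Z2 ⊔ Subgroup.zpowers x))
      have hlt : Z2 < Z2 ⊔ Subgroup.zpowers x := lt_of_le_of_ne le_sup_left
        fun e => hx2 (e.ge (Subgroup.mem_sup_right (Subgroup.mem_zpowers x)))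
      have h1 : Nat.card Z2 < Nat.card (Z2 ⊔ Subgroup.zpowers x : Subgroup X) := lt_of_le_of_ne
        (Subgroup.card_le_of_le hlt.le) fun e => hlt.ne (Subgroup.eq_of_le_of_card_ge hlt.le e.ge)
      rw [hd, h2c] at h1
      rw [hE, hd]
      exact Nat.pow_le_pow_right hp.out.pos ((Nat.pow_lt_pow_iff_right hp.out.one_lt).1 h1)
    have hCE : C ≤ E := by
      intro g hg
      refine mem_of_commutator_center hX hC hE hna fun e he => ?_
      haveI : Z2.Normal := hZ2 ▸ inferInstance
      rw [← hgen, ← SetLike.mem_coe, Subgroup.normal_mul] at he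
      obtain ⟨v, hv, w, hw, rfl⟩ := he
      obtain ⟨i, rfl⟩ := Subgroup.mem_zpowers_iff.1 hw
      have hgw : Commute g (x ^ i) :=
        Commute.zpow_right (Subgroup.mem_centralizer_singleton_iff.1 hg) i
      have e : ⁅g, v * x ^ i⁆ = ⁅g, v⁆ := by
        rw [show ⁅g, v * x ^ i⁆ = ⁅g, v⁆ * (v * ⁅g, x ^ i⁆ * v⁻¹) by
          simp only [commutatorElement_def]; group,
          commutatorElement_eq_one_iff_mul_comm.2 hgw.eq, mul_one, mul_inv_cancel, mul_one]
      show ⁅g, v * x ^ i⁆ ∈ _
      rw [e]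
      exact (mem2' v).1 hv g
    obtain ⟨c, hc⟩ := IsPGroup.iff_card.1 (hX.to_subgroup C)
    have hup : Nat.card C < Nat.card E := by
      refine lt_of_le_of_ne (Subgroup.card_le_of_le hCE) fun e => hx2 ?_
      have hCEq := Subgroup.eq_of_le_of_card_ge hCE e.ge
      have : x ∈ Subgroup.centralizer (E : Set X) := Subgroup.mem_centralizer_iff.2 fun v hv =>
        Subgroup.mem_centralizer_singleton_iff.1 (hCEq.ge hv)
      rw [hCZ] at this
      exact hlt1.le this
    have hlow : Nat.card (Subgroup.center X) < Nat.card C := by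
      have hle : Subgroup.center X ≤ C := Subgroup.center_le_centralizer _
      refine lt_of_le_of_ne (Subgroup.card_le_of_le hle) fun e => hx2 ?_
      exact hlt1.le ((Subgroup.eq_of_le_of_card_ge hle e.ge).ge
        (Subgroup.mem_centralizer_singleton_iff.2 rfl))
    rw [hc, hE] at hup
    rw [hc, hZ, ← pow_one p, ← pow_mul, one_mul] at hlow
    have e1 := (Nat.pow_lt_pow_iff_right hp.out.one_lt).1 hup
    have e2 := (Nat.pow_lt_pow_iff_right hp.out.one_lt).1 hlow
    rw [hc]
    congr 1
    omega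
  · push Not at hex
    refine Or.inr ⟨Z2, hlt2, h2c, hlt1.le, ?_, fun g r hr => (mem2' r).1 hr g⟩
    -- the power map of `E` is a homomorphism into the centre
    have hcom : ∀ u ∈ E, ∀ v ∈ E, ⁅u, v⁆ ∈ Subgroup.center X ∧ u ^ p ∈ Subgroup.center X := by
      haveI : ((Subgroup.center X).subgroupOf E).Normal := ⟨fun z hz w => by
        show ((w : X) * z * (w : X)⁻¹) ∈ Subgroup.center X
        rw [Subgroup.mem_center_iff.1 (show (z : X) ∈ Subgroup.center X from hz) (w : X),
          mul_inv_cancel_right]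
        exact hz⟩
      have hq : Nat.card (E ⧸ (Subgroup.center X).subgroupOf E) = p ^ 2 := by
        have h1 := Subgroup.card_eq_card_quotient_mul_card_subgroup ((Subgroup.center X).subgroupOf E)
        rw [hE, Nat.card_congr (Subgroup.subgroupOfEquivOfLe hZE).toEquiv, hZ,
          show p ^ 3 = p ^ 2 * p from pow_succ p 2] at h1
        exact (Nat.eq_of_mul_eq_mul_right hp.out.pos h1).symm
      intro u hu v hv
      letI := IsPGroup.commGroupOfCardEqPrimeSq hq
      refine ⟨?_, ?_⟩
      · have h2 := mul_comm (QuotientGroup.mk' ((Subgroup.center X).subgroupOf E) ⟨u, hu⟩)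
          (QuotientGroup.mk' ((Subgroup.center X).subgroupOf E) ⟨v, hv⟩)
        rw [← commutatorElement_eq_one_iff_mul_comm, ← map_commutatorElement] at h2
        exact (QuotientGroup.eq_one_iff ⁅(⟨u, hu⟩ : E), (⟨v, hv⟩ : E)⁆).1 h2
      · -- a noncyclic group of order `p ^ 2`
        set q := QuotientGroup.mk' ((Subgroup.center X).subgroupOf E) ⟨u, hu⟩ with hqdef
        have : q ^ p = 1 := by
          by_contra hne'
          have hord : orderOf q = p ^ 2 := by
            obtain ⟨k, hk2, hk⟩ := (Nat.dvd_prime_pow hp.out).1 (hq ▸ orderOf_dvd_natCard q)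
            interval_cases k
            · have hq1 : q = 1 := orderOf_eq_one_iff.1 (by rw [hk, pow_zero])
              exact absurd (by rw [hq1, one_pow]) hne'
            · exact absurd (orderOf_dvd_iff_pow_eq_one.1 (by rw [hk, pow_one])) hne'
            · exact hk
          have hcyc : Subgroup.zpowers q = ⊤ :=
            Subgroup.eq_top_of_card_eq _ (by rw [Nat.card_zpowers, hord, hq])
          refine hna fun a ha b hb => ?_
          obtain ⟨i, hi⟩ := Subgroup.mem_zpowers_iff.1
            (hcyc.ge (Subgroup.mem_top (QuotientGroup.mk' _ ⟨a, ha⟩)))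
          obtain ⟨j, hj⟩ := Subgroup.mem_zpowers_iff.1
            (hcyc.ge (Subgroup.mem_top (QuotientGroup.mk' _ ⟨b, hb⟩)))
          rw [hqdef, ← map_zpow, QuotientGroup.mk'_eq_mk'] at hi hj
          obtain ⟨z, hz, hza⟩ := hi
          obtain ⟨z', hz', hzb⟩ := hj
          have ea : a = u ^ i * z := by
            have := congrArg Subtype.val hza.symm; simpa using this
          have eb : b = u ^ j * z' := by
            have := congrArg Subtype.val hzb.symm; simpa using this
          have c1 : Commute (z : X) (u ^ j * z') := (Subgroup.mem_center_iff.1 hz _).symm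
          have c2 : Commute (u ^ i) (z' : X) := Subgroup.mem_center_iff.1 hz' _
          rw [ea, eb]
          exact ((((Commute.refl u).zpow_zpow i j).mul_right c2).mul_left c1).eq
        rw [hqdef, ← map_pow] at this
        exact (QuotientGroup.eq_one_iff ((⟨u, hu⟩ : E) ^ p)).1 this
    have hcl : (⊤ : Subgroup E).lowerCentralSeries (p - 1) = ⊥ := by
      refine le_bot_iff.1 ((Subgroup.lowerCentralSeries_antitone _
        (show 2 ≤ p - 1 by have := hp.out.two_le; omega)).trans ?_)
      rw [Subgroup.lowerCentralSeries_succ, Subgroup.top_lowerCentralSeries_one, commutator_def]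
      refine (Subgroup.commutator_eq_bot_iff_le_centralizer.2 ?_).le
      refine Subgroup.commutator_le.2 fun u _ v _ => Subgroup.mem_centralizer_iff.2 fun w _ => ?_
      exact Subtype.ext (Subgroup.mem_center_iff.1 (hcom u u.2 v v.2).1 (w : X))
    have hreg := Regular.levelReg_of_regular (Cfsg.Agent.S4209.result (hX.to_subgroup E) hcl) 1
    have hhom : ∀ u v : E, (u * v) ^ p = u ^ p * v ^ p := by
      intro u v
      obtain ⟨c, hc, e⟩ := hreg u v
      simp only [pow_one] at e
      rw [Regular.powerClosure_eq_bot (fun z hz => ?_), Subgroup.mem_bot] at hc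
      · rw [e, hc, mul_one]
      · have hzc : (z : X) ∈ Subgroup.center X :=
          (Subgroup.commutator_le.2 (fun a _ b _ => (hcom a a.2 b b.2).1) :
            ⁅Subgroup.closure ({u, v} : Set E), Subgroup.closure ({u, v} : Set E)⁆ ≤
              (Subgroup.center X).comap E.subtype) hz
        have h2 : ((⟨z, hzc⟩ : Subgroup.center X)) ^ p = 1 := hZ ▸ pow_card_eq_one'
        rw [pow_one]
        exact Subtype.ext (congrArg Subtype.val h2 :)
    let P : E →* Subgroup.center X :=
      MonoidHom.mk' (fun u => ⟨(u : X) ^ p, (hcom u u.2 u u.2).2⟩)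
        fun u v => Subtype.ext (show ((u * v : E) : X) ^ p = (u : X) ^ p * (v : X) ^ p from
          congrArg Subtype.val (hhom u v))
    have hker : Nat.card P.ker ≥ p ^ 2 := by
      have h1 := Subgroup.card_eq_card_quotient_mul_card_subgroup P.ker
      rw [Nat.card_congr (QuotientGroup.quotientKerEquivRange P).toEquiv, hE] at h1
      have h2 : Nat.card P.range ≤ p := hZ ▸ Subgroup.card_le_card_group _
      refine Nat.le_of_mul_le_mul_left (?_ : p * _ ≤ p * _) hp.out.pos
      rw [← pow_succ', h1]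
      exact Nat.mul_le_mul_right _ h2
    have hkerle : P.ker.map E.subtype ≤ Z2 := by
      rintro _ ⟨u, hu, rfl⟩
      by_contra h
      exact hex u u.2 h (congrArg Subtype.val hu)
    have heq : P.ker.map E.subtype = Z2 := Subgroup.eq_of_le_of_card_ge hkerle
      (by rw [h2c, Subgroup.card_map_of_injective E.subtype_injective]; exact hker)
    intro e
    constructor
    · intro he
      obtain ⟨u, hu, rfl⟩ := heq.ge he
      exact ⟨u.2, congrArg Subtype.val hu⟩
    · rintro ⟨heE, hep⟩
      exact hkerle ⟨⟨e, heE⟩, Subtype.ext hep, rfl⟩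

/-! ### Fusion systems -/

section Fusion

open Cfsg Cfsg.FusionSystem CfsgLib.Fusion

variable {Ω : Type*} [Group Ω] {S : Subgroup Ω} [Finite S] {F : FusionSystem S}

/-- An essential subgroup is not the group of elements with a stabilized characteristic series of
length three. -/
theorem not_series (hS : IsPGroup p S) (hF : F.IsSaturated p) {E : Subgroup Ω}
    (hE : F.IsEssential p E) (R : Subgroup Ω) (hR : ∀ e, e ∈ R ↔ e ∈ E ∧ e ^ p = 1)
    (hcomm : ∀ g ∈ normalizerIn S E, (∀ e ∈ E, g * e * g⁻¹ * e⁻¹ ∈ R) ∧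
      (∀ r ∈ R, ∀ e ∈ E, g * r * g⁻¹ * r⁻¹ * e = e * (g * r * g⁻¹ * r⁻¹)) ∧
      ∀ v ∈ E, (∀ w ∈ E, v * w = w * v) → g * v * g⁻¹ = v) : False := by
  classical
  have hES : E ≤ S := hE.1.1
  haveI := finite_of_le hES
  haveI := finite_mulAut E
  obtain ⟨Rv, hRv⟩ : ∃ Rv : Subgroup E, Rv = R.subgroupOf E := ⟨_, rfl⟩
  have mR : ∀ v : E, v ∈ Rv ↔ v ^ p = 1 := fun v => by
    rw [hRv, Subgroup.mem_subgroupOf, hR]
    exact ⟨fun h => Subtype.ext h.2, fun h => ⟨v.2, congrArg Subtype.val h⟩⟩
  have hpresR : ∀ α : MulAut E, ∀ v ∈ Rv, α v ∈ Rv := fun α v hv => by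
    rw [mR, ← map_pow, (mR v).1 hv, map_one]
  have hpresZ : ∀ α : MulAut E, ∀ v ∈ Subgroup.center E, α v ∈ Subgroup.center E := fun α v hv =>
    Subgroup.mem_center_iff.2 fun w => by
      obtain ⟨u, rfl⟩ := α.surjective w
      rw [← map_mul, ← map_mul, Subgroup.mem_center_iff.1 hv u]
  let K₀ : Submonoid (MulAut E) :=
    { carrier := {α | α ∈ F.autGroup E ∧ (∀ v ∈ Subgroup.center E ⊓ Rv, α v = v) ∧
        (∀ v ∈ Rv, v⁻¹ * α v ∈ Subgroup.center E ⊓ Rv) ∧ ∀ v, v⁻¹ * α v ∈ Rv}
      one_mem' := ⟨one_mem _, fun v _ => rfl, fun v _ => by simp, fun v => by simp⟩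
      mul_mem' := by
        rintro a b ⟨ha, ha1, ha2, ha3⟩ ⟨hb, hb1, hb2, hb3⟩
        have key : ∀ v, v⁻¹ * (a * b) v = (v⁻¹ * b v) * ((b v)⁻¹ * a (b v)) := fun v => by
          rw [MulAut.mul_apply, mul_assoc, mul_inv_cancel_left]
        refine ⟨mul_mem ha hb, fun v hv => by rw [MulAut.mul_apply, hb1 v hv, ha1 v hv],
          fun v hv => ?_, fun v => ?_⟩
        · rw [key]; exact mul_mem (hb2 v hv) (ha2 _ (hpresR b v hv))
        · rw [key]; exact mul_mem (hb3 v) (ha3 _) }
  let K : Subgroup (MulAut E) :=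
    { K₀ with
      inv_mem' := fun {a} ha => by
        have h : a⁻¹ = a ^ (orderOf a - 1) := by
          refine inv_eq_of_mul_eq_one_right ?_
          rw [← pow_succ', Nat.sub_add_cancel (orderOf_pos a), pow_orderOf_eq_one]
        rw [h]
        exact K₀.pow_mem ha _ }
  have hKle : K ≤ F.autGroup E := fun a ha => ha.1
  have hKn : (K.subgroupOf (F.autGroup E)).Normal := by
    refine ⟨fun a ha b => ⟨(b * a * b⁻¹ : F.autGroup E).2, fun v hv => ?_, fun v hv => ?_, fun v => ?_⟩⟩
    · obtain ⟨u, rfl⟩ := (b : MulAut E).surjective v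
      have hu : u ∈ Subgroup.center E ⊓ Rv := by
        refine Subgroup.mem_inf.2 ⟨?_, ?_⟩
        · simpa using hpresZ (b : MulAut E)⁻¹ _ hv.1
        · simpa using hpresR (b : MulAut E)⁻¹ _ hv.2
      show (b : MulAut E) ((a : MulAut E) ((b : MulAut E)⁻¹ ((b : MulAut E) u))) = _
      rw [MulAut.inv_apply_self, show (a : MulAut E) u = u from ha.2.1 u hu]
    · obtain ⟨u, rfl⟩ := (b : MulAut E).surjective v
      have hu : u ∈ Rv := by simpa using hpresR (b : MulAut E)⁻¹ _ hv
      show ((b : MulAut E) u)⁻¹ * (b : MulAut E) ((a : MulAut E) ((b : MulAut E)⁻¹ ((b : MulAut E) u)))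
        ∈ _
      rw [MulAut.inv_apply_self, ← map_inv, ← map_mul]
      exact Subgroup.mem_inf.2 ⟨hpresZ _ _ (ha.2.2.1 u hu).1, hpresR _ _ (ha.2.2.1 u hu).2⟩
    · obtain ⟨u, rfl⟩ := (b : MulAut E).surjective v
      show ((b : MulAut E) u)⁻¹ * (b : MulAut E) ((a : MulAut E) ((b : MulAut E)⁻¹ ((b : MulAut E) u)))
        ∈ _
      rw [MulAut.inv_apply_self, ← map_inv, ← map_mul]
      exact hpresR _ _ (ha.2.2.2 u)
  let L : ℕ → Subgroup E := fun i =>
    if i = 0 then ⊥ else if i = 1 then Subgroup.center E ⊓ Rv else if i = 2 then Rv else ⊤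
  have hKp : IsPGroup p K := isPGroup_of_stabilizes_series (hS.to_le hES) L 3 rfl rfl K
    fun α hα i hi v hv => by
      match i, hi with
      | 0, _ => exact Subgroup.mem_bot.2 (by rw [hα.2.1 v hv, inv_mul_cancel])
      | 1, _ => exact hα.2.2.1 v hv
      | 2, _ => exact hα.2.2.2 v
  obtain ⟨g, hgN, hgE⟩ := SetLike.exists_of_lt (lt_normalizerIn hS hES (ne_of_isEssential hS hF hE))
  obtain ⟨hg1, hg2, hg3⟩ := hcomm g hgN
  have hgK : conjAut E hgN.2 ∈ K := by
    have hd : ∀ v, v⁻¹ * conjAut E hgN.2 v ∈ Rv := fun v => by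
      rw [hRv, Subgroup.mem_subgroupOf, Subgroup.coe_mul, Subgroup.coe_inv, conjAut_apply]
      have h1 := hg1 v v.2
      rw [hR] at h1 ⊢
      refine ⟨?_, ?_⟩
      · exact E.mul_mem (E.inv_mem v.2) (conj_mem_of_mem_normalizer hgN.2 v.2)
      · rw [show (v : Ω)⁻¹ * (g * v * g⁻¹) = (v : Ω)⁻¹ * (g * v * g⁻¹ * (v : Ω)⁻¹) * ((v : Ω)⁻¹)⁻¹
          by group, conj_pow, h1.2, mul_one, mul_inv_cancel]
    refine ⟨autInducedBy_le_autGroup hES (conjAut_mem_autInducedBy hgN.2 hgN.1), fun v hv => ?_,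
      fun v hv => Subgroup.mem_inf.2 ⟨Subgroup.mem_center_iff.2 fun w => Subtype.ext ?_, hd v⟩, hd⟩
    · refine Subtype.ext ?_
      rw [conjAut_apply]
      -- the centre of `E` is centralised
      exact hg3 v v.2 fun w hw =>
        congrArg Subtype.val (Subgroup.mem_center_iff.1 hv.1 ⟨w, hw⟩).symm
    · show (w : Ω) * ((v : Ω)⁻¹ * conjAut E hgN.2 v) = (v : Ω)⁻¹ * conjAut E hgN.2 v * w
      rw [conjAut_apply]
      have hvR : (v : Ω) ∈ R := by rwa [hRv] at hv
      set c := g * (v : Ω) * g⁻¹ * (v : Ω)⁻¹ with hc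
      have hcv : c * (v : Ω) = v * c := hg2 v hvR v v.2
      have e : (v : Ω)⁻¹ * (g * v * g⁻¹) = c := by
        rw [show g * (v : Ω) * g⁻¹ = c * v by rw [hc, inv_mul_cancel_right], hcv, inv_mul_cancel_left]
      rw [e]
      exact (hg2 v hvR w w.2).symm
  exact hgE (mem_of_mem_pCore hE.1 (isRadical_of_isEssential hS hE) hgN
    (α := ⟨conjAut E hgN.2, hKle hgK⟩) (conjAut_apply E hgN.2)
    (CfsgLib.Fitting.le_pCore hKn (hKp.of_equiv (Subgroup.subgroupOfEquivOfLe hKle).symm) hgK))

/-- A pearl produces an element of order `p` with centralizer of order `p ^ 2`. -/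
theorem exists_setting (hS : IsPGroup p S) (hF : F.IsSaturated p) (hp2 : p ≠ 2) {E : Subgroup Ω}
    (hE : F.IsEssential p E)
    (hpearl : (Nat.card E = p ^ 2 ∧ ∀ x ∈ E, x ^ p = 1 ∧ IsMulCommutative ↥E) ∨
      (Nat.card E = p ^ 3 ∧ ¬ IsMulCommutative ↥E)) :
    ∃ (n : ℕ) (x : S), UniserialPower.Setting S p n x := by
  classical
  have hES : E ≤ S := hE.1.1
  have hneS := ne_of_isEssential hS hF hE
  obtain ⟨n, hn⟩ := IsPGroup.iff_card.1 hS
  obtain ⟨E', hE'⟩ : ∃ E' : Subgroup S, E' = E.subgroupOf S := ⟨_, rfl⟩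
  have memE : ∀ v : S, v ∈ E' ↔ (v : Ω) ∈ E := fun v => by rw [hE']; rfl
  have hc : Nat.card E' = Nat.card E := by
    rw [hE']; exact Nat.card_congr (Subgroup.subgroupOfEquivOfLe hES).toEquiv
  have hne : E' ≠ ⊤ := fun e => hneS (le_antisymm hES fun v hv =>
    (memE ⟨v, hv⟩).1 (e ▸ Subgroup.mem_top _))
  have hC : Subgroup.centralizer (E' : Set S) ≤ E' := fun v hv => (memE v).2
    (hE.1.2 E (isConj_refl hES) (Subgroup.mem_inf.2 ⟨v.2, Subgroup.mem_centralizer_iff.2 fun e he =>
      congrArg Subtype.val (Subgroup.mem_centralizer_iff.1 hv ⟨e, hES he⟩ ((memE ⟨e, hES he⟩).2 he))⟩))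
  have h2 : p ^ 2 ≤ Nat.card E := by
    rcases hpearl with ⟨h, -⟩ | ⟨h, -⟩ <;> rw [h]
    exact Nat.pow_le_pow_right hp.out.pos (by norm_num)
  have hn3 : 3 ≤ n := by
    have h1 : Nat.card E' < Nat.card S := lt_of_le_of_ne (Subgroup.card_le_card_group E') fun e =>
      hne (Subgroup.eq_top_of_card_eq E' e)
    rw [hc, hn] at h1
    have := (Nat.pow_lt_pow_iff_right hp.out.one_lt).1 (h2.trans_lt h1)
    omega
  haveI : Nontrivial S := by
    refine Finite.one_lt_card_iff_nontrivial.1 ?_
    rw [hn]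
    exact Nat.one_lt_pow (by omega) hp.out.one_lt
  suffices ∃ x : S, x ^ p = 1 ∧ Nat.card (Subgroup.centralizer ({x} : Set S)) = p ^ 2 by
    obtain ⟨x, hx1, hx2⟩ := this
    exact ⟨n, x, hn, hn3, hx1, hx2⟩
  rcases hpearl with ⟨hcard, hel⟩ | ⟨hcard, hna⟩
  · -- elementary abelian of order `p ^ 2`
    have hab : ∀ u ∈ E', ∀ v ∈ E', u * v = v * u := fun u hu v hv => by
      haveI := (hel u ((memE u).1 hu)).2
      have e := Subtype.ext_iff.1 (mul_comm' (⟨u, (memE u).1 hu⟩ : E) ⟨v, (memE v).1 hv⟩)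
      exact Subtype.ext e
    obtain ⟨x, hx, hxZ⟩ : ∃ x ∈ E', x ∉ Subgroup.center S := by
      by_contra hcon
      push Not at hcon
      exact hne (top_le_iff.1 (le_trans (fun v _ => Subgroup.mem_centralizer_iff.2 fun e he =>
        (Subgroup.mem_center_iff.1 (hcon e he) v).symm) hC))
    refine ⟨x, Subtype.ext (hel x ((memE x).1 hx)).1, ?_⟩
    suffices Subgroup.centralizer ({x} : Set S) = E' by rw [this, hc, hcard]
    refine le_antisymm (fun v hv => hC (Subgroup.mem_centralizer_iff.2 fun e he => ?_)) fun v hv =>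
      Subgroup.mem_centralizer_singleton_iff.2 (hab v hv x hx)
    -- `E` is generated by `x` and the centre
    have hgen : E' ≤ Subgroup.center S ⊔ Subgroup.zpowers x := by
      have hle : Subgroup.center S ⊔ Subgroup.zpowers x ≤ E' :=
        sup_le (center_le_of_selfCentralizing hC) (Subgroup.zpowers_le.2 hx)
      refine (Subgroup.eq_of_le_of_card_ge hle ?_).ge
      have hlt : Subgroup.center S < Subgroup.center S ⊔ Subgroup.zpowers x :=
        lt_of_le_of_ne le_sup_left fun e =>
          hxZ (e.ge (Subgroup.mem_sup_right (Subgroup.mem_zpowers x)))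
      have h1 : Nat.card (Subgroup.center S) < Nat.card (Subgroup.center S ⊔ Subgroup.zpowers x :
          Subgroup S) := lt_of_le_of_ne (Subgroup.card_le_of_le hlt.le) fun e =>
        hlt.ne (Subgroup.eq_of_le_of_card_ge hlt.le e.ge)
      have h0 : 1 < Nat.card (Subgroup.center S) := by
        haveI := hS.center_nontrivial
        exact Finite.one_lt_card
      obtain ⟨a, ha⟩ := IsPGroup.iff_card.1 (hS.to_subgroup (Subgroup.center S))
      obtain ⟨b, hb⟩ :=
        IsPGroup.iff_card.1 (hS.to_subgroup (Subgroup.center S ⊔ Subgroup.zpowers x : Subgroup S))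
      rw [ha] at h0
      rw [ha, hb] at h1
      have e1 : a ≠ 0 := by rintro rfl; simp at h0
      have e2 := (Nat.pow_lt_pow_iff_right hp.out.one_lt).1 h1
      rw [hc, hcard, hb]
      exact Nat.pow_le_pow_right hp.out.pos (by omega)
    have hle' : Subgroup.center S ⊔ Subgroup.zpowers x ≤ Subgroup.centralizer ({v} : Set S) :=
      sup_le (fun z hz => Subgroup.mem_centralizer_singleton_iff.2
        (Subgroup.mem_center_iff.1 hz v).symm)
        (Subgroup.zpowers_le.2 (Subgroup.mem_centralizer_singleton_iff.2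
          (Subgroup.mem_centralizer_singleton_iff.1 hv).symm))
    exact Subgroup.mem_centralizer_singleton_iff.1 (hle' (hgen he))
  · -- extraspecial of order `p ^ 3`
    have hna' : ¬ ∀ a ∈ E', ∀ b ∈ E', a * b = b * a := fun h => hna ⟨⟨fun a b => by
      have e := Subtype.ext_iff.1 (h ⟨a, hES a.2⟩ ((memE _).2 a.2) ⟨b, hES b.2⟩ ((memE _).2 b.2))
      exact Subtype.ext e⟩⟩
    rcases exists_element_or hS hp2 hC (hc.trans hcard) hne hna' with h | ⟨R, hRlt, hRc, hZR, hRm, hR2⟩
    · exact h
    exfalso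
    refine not_series hS hF hE (R.map S.subtype) (fun e => ?_) fun g hg => ⟨?_, ?_, ?_⟩
    · constructor
      · rintro ⟨u, hu, rfl⟩
        exact ⟨(memE u).1 ((hRm u).1 hu).1, congrArg Subtype.val ((hRm u).1 hu).2⟩
      · rintro ⟨he, hep⟩
        exact ⟨⟨e, hES he⟩, (hRm _).2 ⟨(memE _).2 he, Subtype.ext hep⟩, rfl⟩
    · -- the quotient by `R` is centralised
      intro e he
      set G := Subgroup.normalizer (E' : Set S) with hG
      have hGR : G ≤ Subgroup.normalizer (R : Set S) := fun u _ => Subgroup.mem_normalizer_iff.2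
        fun r => by
          constructor
          · intro hr
            have := R.mul_mem (hZR (hR2 u r hr)) hr
            rwa [show ⁅u, r⁆ * r = u * r * u⁻¹ by simp only [commutatorElement_def]; group] at this
          · intro hr
            have := R.mul_mem (hZR (hR2 u⁻¹ _ hr)) hr
            rwa [show ⁅u⁻¹, u * r * u⁻¹⁆ * (u * r * u⁻¹) = r by
              simp only [commutatorElement_def]; group] at this
      obtain ⟨M, hRM, hMK, hM⟩ := Uniserial.exists_le_commutator_le (hS.to_subgroup G)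
        (hS.to_subgroup E') le_rfl hGR hRlt
      have hMR : M = R := by
        refine (Subgroup.eq_of_le_of_card_ge hRM ?_).symm
        have h1 : Nat.card M < Nat.card E' := lt_of_le_of_ne (Subgroup.card_le_of_le hMK.le)
          fun e => hMK.ne (Subgroup.eq_of_le_of_card_ge hMK.le e.ge)
        obtain ⟨m, hm⟩ := IsPGroup.iff_card.1 (hS.to_subgroup M)
        rw [hm, hc, hcard] at h1
        rw [hm, hRc]
        have := (Nat.pow_lt_pow_iff_right hp.out.one_lt).1 h1
        exact Nat.pow_le_pow_right hp.out.pos (by omega)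
      have hgG : (⟨g, hg.1⟩ : S) ∈ G := Subgroup.mem_normalizer_iff.2 fun v => by
        rw [memE, memE]
        exact Subgroup.mem_normalizer_iff.1 hg.2 v
      have hmem := (hM.trans hMR.le) (Subgroup.commutator_mem_commutator
        ((memE ⟨e, hES he⟩).2 he) hgG)
      exact ⟨⁅(⟨g, hg.1⟩ : S), ⟨e, hES he⟩⁆, by rw [← commutatorElement_inv]; exact inv_mem hmem, rfl⟩
    · rintro _ ⟨r, hr, rfl⟩ e he
      exact (congrArg Subtype.val (Subgroup.mem_center_iff.1 (hR2 ⟨g, hg.1⟩ r hr) ⟨e, hES he⟩)).symm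
    · intro v hv hvc
      have h1 : (⟨v, hES hv⟩ : S) ∈ Subgroup.center S := by
        rw [← (card_center_eq hS hC (hc.trans hcard) hna').2]
        exact Subgroup.mem_centralizer_iff.2 fun w hw => Subtype.ext (hvc w ((memE w).1 hw)).symm
      have h2 := congrArg Subtype.val (Subgroup.mem_center_iff.1 h1 ⟨g, hg.1⟩)
      rw [show g * v = v * g from h2, mul_inv_cancel_right]

end Fusion

end CfsgLib.Pearls
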