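import Mathlib
import Cfsg.Agent.Lib.PGroup.RankTwoShape
import Cfsg.Agent.Lib.PGroup.Blackburn
import Cfsg.Agent.Lib.Fusion.MetacyclicOdd
import Cfsg.Agent.Lib.Fusion.SmallControl
import Cfsg.Agent.Lib.Fusion.Solvable
import Cfsg.Agent.Lib.Fusion.Normal

/-!
`p`-groups of rank two, `p > 3`, other than the extraspecial group of exponent `p`, are resistant.
-/

set_option autoImplicit false
set_option linter.style.haveILetI false

namespace CfsgLib.RankTwoResistant

open Cfsg Cfsg.FusionSystem CfsgLib.Fusion CfsgLib.Fusion.SmallControl CfsgLib.RankTwoShape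

variable {Ω : Type*} [Group Ω] {S : Subgroup Ω} {F : FusionSystem S} {p : ℕ}
variable [Finite S] [hpF : Fact p.Prime]

/-! ### Extending automorphisms which normalize the automizer -/

omit [Finite S] in
theorem nPhi_of_normalizes {M : Subgroup Ω} (α : MulAut M)
    (h : ∀ u ∈ autInducedBy S M, α * u * α⁻¹ ∈ autInducedBy S M) :
    nPhi S M (autFun α) = normalizerIn S M := by
  refine le_antisymm (nPhi_le _ _) fun x hx => ?_
  obtain ⟨k, hk, hv⟩ := (mem_autInducedBy_iff S M _).1 (h _ (conjAut_mem_autInducedBy hx.2 hx.1))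
  refine ⟨hx.1, hx.2, k, hk, fun y hy => ?_⟩
  have := hv (α ⟨y, hy⟩)
  rw [MulAut.mul_apply, MulAut.mul_apply, MulAut.inv_apply_self] at this
  rw [autFun_apply _ hy, autFun_apply _ (conj_mem_of_mem_normalizer hx.2 hy), ← this]
  rfl

/-- An automorphism of a fully normalized subgroup which normalizes the automizer extends to the
normalizer. -/
theorem extend_of_normalizes (hS : IsPGroup p S) (hF : F.IsSaturated p) {M : Subgroup Ω}
    (hfn : F.IsFullyNormalized M) (α : F.autGroup M)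
    (h : ∀ u ∈ autInducedBy S M, (α : MulAut M) * u * (α : MulAut M)⁻¹ ∈ autInducedBy S M) :
    ∃ f, IsMap F (normalizerIn S M) f ∧ ∀ x ∈ M, f x = autFun (α : MulAut M) x := by
  obtain ⟨f, hf, hag⟩ := (isReceptive_iff.1 (isReceptive_of_isFullyNormalized hS hF hfn)).2 M _
    ((mem_autGroup_iff hfn.1 _).1 α.2)
  rw [nPhi_of_normalizes _ h] at hf
  exact ⟨f, hf, hag⟩

/-- An automorphism acting on the quotient like a scalar transformation, extended to the
normalizer. -/
theorem exists_extend_scalar (hS : IsPGroup p S) (hF : F.IsSaturated p) {M : Subgroup Ω}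
    (hfn : F.IsFullyNormalized M) {V : Type*} [Group V] [Finite V]
    (π : F.autGroup M →* MulAut V) (hker : IsPGroup p π.ker)
    (hV : ∃ j ≤ 2, Nat.card V = p ^ j) (hexp : ∀ x : V, x ^ p = 1)
    (a : F.autGroup M) (haS : (a : MulAut M) ∈ autInducedBy S M)
    (ha : a ∉ Cfsg.pCore p (F.autGroup M))
    (hgen : ∀ u : F.autGroup M, (u : MulAut M) ∈ autInducedBy S M → ∃ k : ℤ, π u = π a ^ k)
    {h : ℕ} (hh : 2 * h = p + 1) :
    ∃ (t : F.autGroup M) (f : Ω → Ω) (w : V), π a w ≠ w ∧ π t w = w ^ h ∧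
      IsMap F (normalizerIn S M) f ∧ ∀ x ∈ M, f x = autFun (t : MulAut M) x := by
  have hMS := hfn.1
  haveI := finite_of_le hMS
  haveI := finite_mulAut M
  obtain ⟨n, hn⟩ := isPGroup_autInducedBy hS M ⟨_, haS⟩
  have hn' : π a ^ p ^ n = 1 := by
    have e : a ^ p ^ n = 1 :=
      Subtype.ext (congrArg (Subtype.val : autInducedBy S M → MulAut M) hn)
    rw [← map_pow, e, map_one]
  obtain ⟨v, w, b, hhom, hav, haw, hbw, hbv⟩ := exists_transvection_pair π hker hV hn' ha
  letI : CommGroup V := { (inferInstance : Group V) with mul_comm := comm_of_card_le_sq hV }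
  have hv1 : v ≠ 1 := by
    intro e
    refine ha (CfsgLib.Fitting.le_pCore inferInstance hker (MonoidHom.mem_ker.2
      (MulEquiv.ext fun y => ?_)))
    exact DFunLike.congr_fun (hhom (π a).toMonoidHom (MonoidHom.id V) hav
      (show π a w = w by rw [haw, e, mul_one])) y
  have hai1 : π a⁻¹ v = v := by
    conv_lhs => rw [← hav]
    rw [map_inv, MulAut.inv_apply_self]
  have hai2 : π a⁻¹ w = w * v⁻¹ := by
    have e : π a (w * v⁻¹) = w := by rw [map_mul, map_inv, haw, hav, mul_inv_cancel_right]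
    conv_lhs => rw [← e]
    rw [map_inv π, MulAut.inv_apply_self]
  have hbi2 : π b⁻¹ w = w := by
    conv_lhs => rw [← hbw]
    rw [map_inv, MulAut.inv_apply_self]
  have hbi1 : π b⁻¹ v = v * w := by
    have e : π b (v * w) = v := by rw [map_mul, hbw, hbv, inv_mul_cancel_right]
    conv_lhs => rw [← e]
    rw [map_inv π, MulAut.inv_apply_self]
  have hbm : ∀ m : ℕ, π (b ^ m) w = w ∧ π (b ^ m) v = v * (w⁻¹) ^ m := by
    intro m
    induction m with
    | zero => simp
    | succ m ih =>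
      rw [pow_succ', map_mul, MulAut.mul_apply, MulAut.mul_apply, ih.1, ih.2, map_mul, map_pow,
        map_inv, hbw, hbv, mul_assoc, ← pow_succ']
      exact ⟨rfl, rfl⟩
  have hbh := hbm h
  obtain ⟨t, ht⟩ : ∃ t : F.autGroup M, t = a * a * b ^ h * a * b⁻¹ * a⁻¹ := ⟨_, rfl⟩
  have hvp := hexp v
  have hwp := hexp w
  have e1 : ∀ (x : V) (m : ℕ), x ^ p = 1 → x ^ (p + m) = x ^ m := fun x m hx => by
    rw [pow_add, hx, one_mul]
  have htv : π t v = v ^ 2 := by
    calc π t v = π a (π a (π (b ^ h) (π a (π b⁻¹ (π a⁻¹ v))))) := by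
          rw [ht]; simp only [map_mul, MulAut.mul_apply]
      _ = π a (π a (π (b ^ h) (v * (w * v)))) := by rw [hai1, hbi1, map_mul, hav, haw]
      _ = π a (π a (v * w⁻¹ ^ h * (w * (v * w⁻¹ ^ h)))) := by
          rw [map_mul (π (b ^ h)), map_mul (π (b ^ h)), hbh.1, hbh.2]
      _ = π a (π a (v ^ 2)) := by
          congr 2
          calc v * w⁻¹ ^ h * (w * (v * w⁻¹ ^ h)) = v ^ 2 * ((w ^ (2 * h))⁻¹ * w) := by
                rw [inv_pow, pow_two, pow_mul, pow_two, mul_pow, mul_inv]; ac_rfl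
            _ = v ^ 2 := by rw [hh, e1 w 1 hwp, pow_one, inv_mul_cancel, mul_one]
      _ = v ^ 2 := by rw [map_pow, hav, map_pow, hav]
  have htw : π t w = w ^ h := by
    calc π t w = π a (π a (π (b ^ h) (π a (π b⁻¹ (π a⁻¹ w))))) := by
          rw [ht]; simp only [map_mul, MulAut.mul_apply]
      _ = π a (π a (π (b ^ h) v⁻¹)) := by
          rw [hai2, map_mul, map_inv (π b⁻¹), hbi1, hbi2, mul_inv_rev, mul_inv_cancel_left,
            map_inv (π a), hav]
      _ = π a (π a (v⁻¹ * w ^ h)) := by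
          rw [map_inv (π (b ^ h)), hbh.2, mul_inv, inv_pow, inv_inv]
      _ = v⁻¹ * (w * v * v) ^ h := by
          rw [map_mul, map_inv, hav, map_pow, haw, map_mul, map_inv, hav, map_pow, map_mul, haw,
            hav]
      _ = w ^ h * (v ^ (2 * h) * v⁻¹) := by rw [mul_pow, mul_pow, pow_mul, pow_two, mul_pow]; ac_rfl
      _ = w ^ h := by rw [hh, e1 v 1 hvp, pow_one, mul_inv_cancel, mul_one]
  have ha4 : ∀ m : ℕ, π (a ^ m) v = v ∧ π (a ^ m) w = w * v ^ m := by
    intro m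
    induction m with
    | zero => simp
    | succ m ih =>
      rw [pow_succ', map_mul, MulAut.mul_apply, MulAut.mul_apply, ih.1, ih.2, map_mul, map_pow,
        haw, hav, mul_assoc, ← pow_succ']
      exact ⟨rfl, rfl⟩
  have hta : π (t * a) = π (a ^ 4 * t) := by
    refine MulEquiv.ext fun y => DFunLike.congr_fun
      (hhom (π (t * a)).toMonoidHom (π (a ^ 4 * t)).toMonoidHom ?_ ?_) y
    · show π (t * a) v = π (a ^ 4 * t) v
      rw [map_mul, map_mul, MulAut.mul_apply, MulAut.mul_apply, hav, htv, map_pow (π (a ^ 4)),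
        (ha4 4).1]
    · show π (t * a) w = π (a ^ 4 * t) w
      rw [map_mul, map_mul, MulAut.mul_apply, MulAut.mul_apply, haw, map_mul, htw, htv,
        map_pow (π (a ^ 4)), (ha4 4).2, mul_pow, ← pow_mul]
      congr 1
      rw [show 4 * h = p + (p + 2) by omega, e1 v _ hvp, e1 v _ hvp]
  have hconj : π t * π a * (π t)⁻¹ = π a ^ 4 := by
    rw [map_mul, map_mul, map_pow] at hta
    rw [hta, mul_inv_cancel_right]
  have hfa := isFullyAutomized_of_isFullyNormalized hS hF hfn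
  have hnorm : ∀ u ∈ autInducedBy S M,
      (t : MulAut M) * u * (t : MulAut M)⁻¹ ∈ autInducedBy S M := by
    intro u hu
    let u' : F.autGroup M := ⟨u, autInducedBy_le_autGroup hMS hu⟩
    obtain ⟨k, hk⟩ := hgen u' hu
    have hmem : t * u' * t⁻¹ * ((a ^ (4 : ℕ)) ^ k)⁻¹ ∈ π.ker := by
      rw [MonoidHom.mem_ker, map_mul, map_mul, map_mul, map_inv, map_inv, hk, map_zpow, map_pow,
        ← conj_zpow, hconj, mul_inv_cancel]
    have hU := pgroup_le_autInducedBy hS hfa hker hmem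
    have := Subgroup.mul_mem _ hU (Subgroup.zpow_mem _ (Subgroup.pow_mem _ haS 4) k)
    simpa [u'] using this
  obtain ⟨f, hf, hag⟩ := extend_of_normalizes hS hF hfn t hnorm
  refine ⟨t, f, w, ?_, htw, hf, hag⟩
  rw [haw]
  exact fun e => hv1 (mul_eq_left.1 e)

/-! ### The elements of order `p` -/

omit [Finite S] in
theorem mem_map_iff {R : Subgroup S} {z : S} (h : IsShape p R z) {x : Ω} :
    x ∈ R.map S.subtype ↔ x ∈ S ∧ x ^ p = 1 := by
  constructor
  · rintro ⟨y, hy, rfl⟩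
    exact ⟨y.2, congrArg Subtype.val ((h.mem y).1 hy)⟩
  · rintro ⟨hx, hxp⟩
    exact ⟨⟨x, hx⟩, (h.mem _).2 (Subtype.ext hxp), rfl⟩

variable {R : Subgroup S} {z : S}

/-- An automorphism of a subgroup containing the elements of order `p`, on these elements. -/
noncomputable def resFun {M : Subgroup Ω} (h : IsShape p R z) (hMS : M ≤ S)
    (hRM : R.map S.subtype ≤ M) (α : MulAut M) (y : R) : R :=
  ⟨⟨(α ⟨((y : S) : Ω), hRM ⟨y, y.2, rfl⟩⟩ : M), hMS (SetLike.coe_mem _)⟩, (h.mem _).2 (by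
    have e : (⟨((y : S) : Ω), hRM ⟨y, y.2, rfl⟩⟩ : M) ^ p = 1 :=
      Subtype.ext (show ((y : S) : Ω) ^ p = 1 from congrArg Subtype.val ((h.mem y).1 y.2))
    refine Subtype.ext ?_
    show ((α ⟨((y : S) : Ω), hRM ⟨y, y.2, rfl⟩⟩ : M) : Ω) ^ p = 1
    rw [← SubmonoidClass.coe_pow, ← map_pow, e, map_one, OneMemClass.coe_one])⟩

omit [Finite S] in
theorem resFun_coe {M : Subgroup Ω} (h : IsShape p R z) (hMS : M ≤ S)
    (hRM : R.map S.subtype ≤ M) (α : MulAut M) (y : R) :
    (((resFun h hMS hRM α y : R) : S) : Ω) = α ⟨((y : S) : Ω), hRM ⟨y, y.2, rfl⟩⟩ := rfl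

omit [Finite S] in
theorem resFun_mul {M : Subgroup Ω} (h : IsShape p R z) (hMS : M ≤ S)
    (hRM : R.map S.subtype ≤ M) (α β : MulAut M) (y : R) :
    resFun h hMS hRM (α * β) y = resFun h hMS hRM α (resFun h hMS hRM β y) :=
  Subtype.ext (Subtype.ext rfl)

/-- The restriction homomorphism to the elements of order `p`. -/
noncomputable def resToR {M : Subgroup Ω} (h : IsShape p R z) (hMS : M ≤ S)
    (hRM : R.map S.subtype ≤ M) : MulAut M →* MulAut R :=
  MonoidHom.mk'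
    (fun α =>
      { toFun := resFun h hMS hRM α
        invFun := resFun h hMS hRM α⁻¹
        left_inv := fun y => by
          rw [← resFun_mul, inv_mul_cancel]; exact Subtype.ext (Subtype.ext rfl)
        right_inv := fun y => by
          rw [← resFun_mul, mul_inv_cancel]; exact Subtype.ext (Subtype.ext rfl)
        map_mul' := fun x y => Subtype.ext (Subtype.ext (by
          show ((α ⟨((x : S) : Ω) * ((y : S) : Ω), _⟩ : M) : Ω) = _
          exact congrArg Subtype.val (map_mul α ⟨((x : S) : Ω), hRM ⟨x, x.2, rfl⟩⟩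
            ⟨((y : S) : Ω), hRM ⟨y, y.2, rfl⟩⟩))) })
    fun α β => MulEquiv.ext fun y => resFun_mul h hMS hRM α β y

theorem resToR_coe {M : Subgroup Ω} (h : IsShape p R z) (hMS : M ≤ S)
    (hRM : R.map S.subtype ≤ M) (α : MulAut M) (y : R) :
    (((resToR h hMS hRM α y : R) : S) : Ω) = α ⟨((y : S) : Ω), hRM ⟨y, y.2, rfl⟩⟩ := rfl

theorem isPGroup_ker_resToR (hS : IsPGroup p S) (hp2 : p ≠ 2) {M : Subgroup Ω} (h : IsShape p R z)
    (hMS : M ≤ S) (hRM : R.map S.subtype ≤ M) : IsPGroup p (resToR h hMS hRM).ker := by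
  rintro ⟨α, hα⟩
  haveI := finite_of_le hMS
  haveI := finite_mulAut M
  obtain ⟨a, -, -, -, hcop, -⟩ := CfsgLib.Transfer.exists_pow_coprime_part (p := p) α
  refine ⟨a, Subtype.ext (CfsgLib.OddOmega.eq_one_of_fixes_omega hp2 (hS.to_le hMS) (α ^ p ^ a)
    (hpF.out.coprime_iff_not_dvd.1 hcop.symm) fun x hx => ?_)⟩
  have hxR : (⟨(x : Ω), hMS x.2⟩ : S) ∈ R :=
    (h.mem _).2 (Subtype.ext (show (x : Ω) ^ p = 1 from congrArg Subtype.val hx))
  have h1 : resToR h hMS hRM (α ^ p ^ a) = 1 := by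
    rw [map_pow, MonoidHom.mem_ker.1 hα, one_pow]
  have h2 := DFunLike.congr_fun h1 (⟨_, hxR⟩ : R)
  rw [MulAut.one_apply] at h2
  refine Subtype.ext (Eq.trans ?_ (congrArg (fun t : R => ((t : S) : Ω)) h2))
  rfl

theorem card_frattini_quotient (hX : IsPGroup p S) (h : IsShape p R z) :
    Nat.card (R ⧸ frattini R) = p ^ 2 := by
  have hZ : frattini R = (Subgroup.zpowers z).subgroupOf R := by
    ext y
    rw [h.mem_frattini_iff hX, Subgroup.mem_subgroupOf]
  have hc : Nat.card (frattini R) = p := by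
    rw [hZ, Nat.card_congr (Subgroup.subgroupOfEquivOfLe
      (Subgroup.zpowers_le.2 h.z_mem)).toEquiv, Nat.card_zpowers, h.orderOf_z]
  have h3 := Subgroup.card_eq_card_quotient_mul_card_subgroup (frattini R)
  rw [h.card, hc] at h3
  exact Nat.eq_of_mul_eq_mul_right hpF.out.pos (h3.symm.trans (pow_succ p 2))

omit [Finite S] in
theorem two_mul_half (hp3 : 3 < p) : ∃ h : ℕ, 2 * h = p + 1 ∧ ¬ (p : ℤ) ∣ (h : ℤ) * h - 1 := by
  obtain ⟨k, hk⟩ := hpF.out.odd_of_ne_two (by omega)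
  refine ⟨k + 1, by omega, fun hd => ?_⟩
  have h4 : (p : ℤ) ∣ 3 := by
    obtain ⟨m, hm⟩ := hd
    refine ⟨(p : ℤ) + 2 - 4 * m, ?_⟩
    have : (p : ℤ) = 2 * k + 1 := by exact_mod_cast hk
    push_cast at hm
    rw [this] at hm ⊢
    linear_combination -4 * hm
  have h3 : p ∣ 3 := by exact_mod_cast h4
  have := Nat.le_of_dvd (by norm_num) h3
  omega

theorem normal_of_le {g₀ : S} (h : IsShape p R z) (hg0 : ∀ x : S, ∃ k : ℤ, x * (g₀ ^ k)⁻¹ ∈ R)
    {M : Subgroup Ω} (hMS : M ≤ S) (hRM : R.map S.subtype ≤ M) {g x : Ω} (hg : g ∈ S)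
    (hx : x ∈ M) : g * x * g⁻¹ ∈ M := by
  haveI := h.normal
  let q := QuotientGroup.mk' R
  have hq : ∀ y : S, q y ∈ Subgroup.zpowers (q g₀) := fun y => by
    obtain ⟨k, hk⟩ := hg0 y
    refine ⟨k, ?_⟩
    have := (QuotientGroup.eq_one_iff _).2 hk
    show q g₀ ^ k = q y
    rw [← map_zpow]
    exact (mul_inv_eq_one.1 ((map_mul_inv q y (g₀ ^ k)).symm.trans this)).symm
  obtain ⟨i, hi⟩ := hq ⟨g, hg⟩
  obtain ⟨j, hj⟩ := hq ⟨x, hMS hx⟩
  have hc : (⟨g, hg⟩ : S) * ⟨x, hMS hx⟩ * (⟨g, hg⟩ : S)⁻¹ * (⟨x, hMS hx⟩ : S)⁻¹ ∈ R := by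
    refine (QuotientGroup.eq_one_iff _).1 ?_
    show q _ = 1
    rw [map_mul, map_mul, map_mul, map_inv, map_inv, mul_inv_eq_one, mul_inv_eq_iff_eq_mul,
      show q ⟨g, hg⟩ = q g₀ ^ i from hi.symm, show q ⟨x, hMS hx⟩ = q g₀ ^ j from hj.symm,
      ← zpow_add, ← zpow_add, add_comm]
  have := M.mul_mem (hRM ⟨_, hc, rfl⟩) hx
  simpa using this

/-- The automorphism of `S` obtained from an extension to `S`, and the contradiction. -/
theorem false_of_extension (hp3 : 3 < p) (hS : IsPGroup p S) (hR : IsShape p R z) {g₀ : S}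
    (hg0 : ∀ x : S, ∃ k : ℤ, x * (g₀ ^ k)⁻¹ ∈ R) {f : Ω → Ω} (hf : IsMap F S f) {v : S}
    (hv : v ∈ R) (hmove : g₀ * v * g₀⁻¹ * v⁻¹ ∉ Subgroup.zpowers z) {h : ℕ}
    (hh : ¬ (p : ℤ) ∣ (h : ℤ) * h - 1)
    (hfv : ∀ y : S, (y : Ω) = f v → (v ^ h)⁻¹ * y ∈ Subgroup.zpowers z) : False := by
  obtain ⟨τ, -, hτ⟩ := exists_mem_autGroup (hf.isIso_of_card_le (fun x hx => hf.mem hx) le_rfl)
  exact hR.not_twisted hp3 hS hg0 hv hmove τ (hfv _ (hτ v)) hh

/-- Automorphisms of a fully normalized subgroup containing the elements of order `p`, induced by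
the Sylow group, lie in the core. -/
theorem conj_mem_pCore (hp3 : 3 < p) (hS : IsPGroup p S) (hF : F.IsSaturated p)
    (hR : IsShape p R z) {g₀ : S} (hg0 : ∀ x : S, ∃ k : ℤ, x * (g₀ ^ k)⁻¹ ∈ R)
    {M : Subgroup Ω} (hfn : F.IsFullyNormalized M) (hRM : R.map S.subtype ≤ M)
    (u : F.autGroup M) (hu : (u : MulAut M) ∈ autInducedBy S M) :
    u ∈ Cfsg.pCore p (F.autGroup M) := by
  have hMS := hfn.1
  haveI := finite_of_le hMS
  haveI := finite_mulAut M
  have hN : ∀ g ∈ S, g ∈ Subgroup.normalizer (M : Set Ω) := fun g hg =>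
    mem_normalizer_of_conj_mem hMS fun x hx => normal_of_le hR hg0 hMS hRM hg hx
  let c : S →* F.autGroup M :=
    (M.normalizerMonoidHom.comp (Subgroup.inclusion hN)).codRestrict _ fun s =>
      autInducedBy_le_autGroup hMS (conjAut_mem_autInducedBy (hN _ s.2) s.2)
  have hcS : ∀ s : S, ((c s : F.autGroup M) : MulAut M) ∈ autInducedBy S M := fun s =>
    conjAut_mem_autInducedBy (hN _ s.2) s.2
  let π : F.autGroup M →* MulAut (R ⧸ frattini R) :=
    (frattiniHom R).comp ((resToR hR hMS hRM).comp (F.autGroup M).subtype)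
  have hker : IsPGroup p π.ker := by
    have e : π.ker =
        ((frattiniHom R).ker.comap (resToR hR hMS hRM)).comap (F.autGroup M).subtype := rfl
    rw [e]
    exact ((isPGroup_ker_frattiniHom (hS.to_subgroup R)).comap_of_ker_isPGroup _
      (isPGroup_ker_resToR hS (by omega) hR hMS hRM)).comap_of_injective _ Subtype.val_injective
  have hπc : ∀ (s : S) (y : R), π (c s) (QuotientGroup.mk y) = QuotientGroup.mk
      (⟨s * y * s⁻¹, hR.normal.conj_mem _ y.2 s⟩ : R) := fun _ _ => rfl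
  have hπR : ∀ r ∈ R, π (c r) = 1 := by
    intro r hr
    refine MulEquiv.ext fun y => ?_
    obtain ⟨y, rfl⟩ := QuotientGroup.mk'_surjective (frattini R) y
    rw [QuotientGroup.mk'_apply, hπc, MulAut.one_apply]
    refine (QuotientGroup.eq.2 ((hR.mem_frattini_iff hS _).2 ?_)).symm
    have := hR.comm (y : S)⁻¹ (R.inv_mem y.2) r hr
    rw [inv_inv] at this
    show (y : S)⁻¹ * (r * y * r⁻¹) ∈ Subgroup.zpowers z
    simpa [mul_assoc] using this
  have hπs : ∀ s : S, ∃ k : ℤ, π (c s) = π (c g₀) ^ k := by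
    intro s
    obtain ⟨k, hk⟩ := hg0 s
    refine ⟨k, ?_⟩
    rw [← map_zpow, ← map_zpow]
    conv_lhs => rw [← inv_mul_cancel_right s (g₀ ^ k)]
    rw [map_mul, map_mul, hπR _ hk, one_mul]
  have hgen : ∀ u : F.autGroup M, (u : MulAut M) ∈ autInducedBy S M →
      ∃ k : ℤ, π u = π (c g₀) ^ k := by
    intro u hu
    obtain ⟨s, hs, hv⟩ := (mem_autInducedBy_iff S M _).1 hu
    have e : u = c ⟨s, hs⟩ := Subtype.ext (MulEquiv.ext fun x => Subtype.ext (hv x))
    rw [e]
    exact hπs _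
  have hkc : π.ker ≤ Cfsg.pCore p (F.autGroup M) := CfsgLib.Fitting.le_pCore inferInstance hker
  by_contra hnu
  have ha : c g₀ ∉ Cfsg.pCore p (F.autGroup M) := by
    intro ha
    obtain ⟨k, hk⟩ := hgen u hu
    apply hnu
    have h1 : u * (c g₀ ^ k)⁻¹ ∈ π.ker := by
      rw [MonoidHom.mem_ker, map_mul, map_inv, map_zpow, hk, mul_inv_cancel]
    have := Subgroup.mul_mem _ (hkc h1) (Subgroup.zpow_mem _ ha k)
    rwa [inv_mul_cancel_right] at this
  obtain ⟨h, hh, hh'⟩ := two_mul_half hp3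
  obtain ⟨t, f, w, haw, htw, hf, hag⟩ := exists_extend_scalar hS hF hfn π hker
    ⟨2, le_rfl, card_frattini_quotient hS hR⟩ (fun x => by
      obtain ⟨y, rfl⟩ := QuotientGroup.mk'_surjective (frattini R) x
      rw [← map_pow, show y ^ p = 1 from Subtype.ext ((hR.mem y).1 y.2), map_one])
    (c g₀) (hcS g₀) ha hgen hh
  obtain ⟨w, rfl⟩ := QuotientGroup.mk'_surjective (frattini R) w
  rw [show normalizerIn S M = S from inf_eq_left.2 hN] at hf
  refine false_of_extension hp3 hS hR hg0 hf w.2 (fun hmem => haw ?_) hh' fun y hy => ?_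
  · rw [QuotientGroup.mk'_apply, hπc]
    refine (QuotientGroup.eq.2 ((hR.mem_frattini_iff hS _).2 ?_)).symm
    show (w : S)⁻¹ * (g₀ * w * g₀⁻¹) ∈ Subgroup.zpowers z
    have := (hR.zpowers_commute hmem (w : S)).eq
    rw [show (w : S)⁻¹ * (g₀ * w * g₀⁻¹) = (w : S)⁻¹ * (g₀ * w * g₀⁻¹ * (w : S)⁻¹ * w) by group,
      this, inv_mul_cancel_left]
    exact hmem
  · have hwM : ((w : S) : Ω) ∈ M := hRM ⟨w, w.2, rfl⟩
    rw [hag _ hwM, autFun_apply _ hwM] at hy
    have e : y = (resToR hR hMS hRM (t : MulAut M) w : R) := Subtype.ext hy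
    subst e
    have h1 := (hR.mem_frattini_iff hS _).1 (QuotientGroup.eq.1 (htw.symm :
      (QuotientGroup.mk (w ^ h) : R ⧸ frattini R) =
        QuotientGroup.mk (resToR hR hMS hRM (t : MulAut M) w)))
    exact h1

/-- Essential subgroups contain the elements of order `p`. -/
theorem omega_le_of_isEssential (hp3 : 3 < p) (hS : IsPGroup p S) (hF : F.IsSaturated p)
    (hR : IsShape p R z) {g₀ : S} (hg0 : ∀ x : S, ∃ k : ℤ, x * (g₀ ^ k)⁻¹ ∈ R)
    (hg0R : g₀ ∉ R) {P : Subgroup Ω} (hP : F.IsEssential p P) : R.map S.subtype ≤ P := by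
  classical
  have hpp := hpF.out
  have hPS := hP.2.1.1
  haveI := finite_of_le hPS
  haveI := finite_mulAut P
  have hPp : IsPGroup p P := hS.to_le hPS
  set R' := R.map S.subtype with hR'
  have hR'S : R' ≤ S := Subgroup.map_subtype_le R
  have hR'n : ∀ g ∈ S, ∀ x ∈ R', g * x * g⁻¹ ∈ R' := fun g hg x hx =>
    (mem_map_iff hR).2 ⟨S.mul_mem (S.mul_mem hg (hR'S hx)) (S.inv_mem hg),
      by rw [conj_pow, ((mem_map_iff hR).1 hx).2, mul_one, mul_inv_cancel]⟩
  have hCP : centralizerIn S P ≤ P := hP.1.2 P (isConj_refl hPS)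
  have hzP : (z : Ω) ∈ P := hCP (Subgroup.mem_inf.2 ⟨z.2, fun x hx =>
    (congrArg Subtype.val (hR.z_central ⟨x, hPS hx⟩).eq).symm⟩)
  refine le_of_normalizer_inf_le hS hPS hR'S
    (fun x hx => mem_normalizer_of_conj_mem hR'S (hR'n x (hPS hx))) fun g hgR hgn => ?_
  by_contra hgP
  let a : F.autGroup P := ⟨conjAut P hgn,
    autInducedBy_le_autGroup hPS (conjAut_mem_autInducedBy hgn (hR'S hgR))⟩
  have ha : a ∉ Cfsg.pCore p (F.autGroup P) := fun h => hgP
    (mem_of_mem_pCore hP.1 (isRadical_of_isEssential hS hP) ⟨hR'S hgR, hgn⟩ (α := a)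
      (conjAut_apply P hgn) h)
  have hcommR : ∀ x : P, g * x * g⁻¹ * (x : Ω)⁻¹ ∈ R' := fun x => by
    have h1 := hR'n x (hPS x.2) g⁻¹ (R'.inv_mem hgR)
    have h2 := R'.mul_mem hgR h1
    rwa [show g * ((x : Ω) * g⁻¹ * (x : Ω)⁻¹) = g * x * g⁻¹ * (x : Ω)⁻¹ by group] at h2
  have hexpR : ∀ x : P, (x : Ω) ∈ R' ↔ x ^ p = 1 := fun x =>
    ⟨fun hx => Subtype.ext ((mem_map_iff hR).1 hx).2,
      fun hx => (mem_map_iff hR).2 ⟨hPS x.2, congrArg Subtype.val hx⟩⟩
  haveI : (R'.subgroupOf P).Normal := ⟨fun n hn u => hR'n u (hPS u.2) n hn⟩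
  -- some commutator leaves the Frattini subgroup
  obtain ⟨x, hxR, hxΦ⟩ : ∃ x : P, (x : Ω) ∈ R' ∧ x⁻¹ * conjAut P hgn x ∉ frattini P := by
    by_contra hall
    push Not at hall
    let D := (R'.subgroupOf P).map (QuotientGroup.mk' (frattini P))
    haveI : D.Normal := Subgroup.Normal.map inferInstance _
      (QuotientGroup.mk'_surjective (frattini P))
    let ψ := (frattiniHom P).comp (F.autGroup P).subtype
    have hψker : IsPGroup p ψ.ker :=
      (isPGroup_ker_frattiniHom hPp).comap_of_injective _ Subtype.val_injective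
    have hinv : ∀ β : ψ.range, ∀ y ∈ D, (β : MulAut (P ⧸ frattini P)) y ∈ D := by
      rintro ⟨_, β, rfl⟩ _ ⟨y, hy, rfl⟩
      refine ⟨(β : MulAut P) y, (hexpR _).2 ?_, rfl⟩
      rw [← map_pow, (hexpR y).1 hy, map_one]
    haveI := stab_normal ψ.range D hinv
    haveI : ((stab ψ.range D).comap ψ.rangeRestrict).Normal := Subgroup.Normal.comap inferInstance _
    refine ha (CfsgLib.Fitting.le_pCore inferInstance
      ((stab_pgroup ψ.range (hPp.to_quotient _) D).comap_of_ker_isPGroup _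
        (by rwa [MonoidHom.ker_rangeRestrict])) ?_)
    refine ⟨?_, ?_⟩
    · rintro _ ⟨y, hy, rfl⟩
      show (QuotientGroup.mk (conjAut P hgn y) : P ⧸ frattini P) = QuotientGroup.mk y
      exact (QuotientGroup.eq.2 (hall y hy)).symm
    · intro y
      obtain ⟨y, rfl⟩ := QuotientGroup.mk'_surjective (frattini P) y
      refine ⟨y⁻¹ * conjAut P hgn y, ?_, rfl⟩
      show (y : Ω)⁻¹ * (g * y * g⁻¹) ∈ R'
      have := hR'n (y : Ω)⁻¹ (S.inv_mem (hPS y.2)) _ (hcommR y)
      simpa [mul_assoc] using this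
  -- the commutator is central
  let zP : P := ⟨z, hzP⟩
  obtain ⟨r, hr, hrg⟩ := hgR
  subst hrg
  have hcz : ∀ y : P, (y : Ω) ∈ R' → y⁻¹ * conjAut P hgn y ∈ Subgroup.zpowers zP := by
    intro y hy
    obtain ⟨y', hy', hyy⟩ := hy
    obtain ⟨i, hi⟩ := Subgroup.mem_zpowers_iff.1 (hR.comm y'⁻¹ (R.inv_mem hy') r hr)
    refine ⟨i, Subtype.ext ?_⟩
    have hi' := congrArg Subtype.val hi
    simp only [Subgroup.coe_zpow, Subgroup.coe_mul, InvMemClass.coe_inv, inv_inv] at hi'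
    show (z : Ω) ^ i = (y : Ω)⁻¹ * ((r : Ω) * y * (r : Ω)⁻¹)
    rw [hi', ← hyy]
    simp [mul_assoc]
  have hzp : zP ^ p = 1 := Subtype.ext
    (show (z : Ω) ^ p = 1 from congrArg Subtype.val ((hR.mem z).1 hR.z_mem))
  have hzPo : orderOf zP = p := orderOf_eq_prime hzp fun e =>
    hR.z_ne (Subtype.ext (congrArg Subtype.val e : (z : Ω) = 1))
  have hzΦ : ∀ c ∈ Subgroup.zpowers zP, c ∈ frattini P → c = 1 := by
    intro c hc hcΦ
    by_contra hc1
    have : Subgroup.zpowers c = Subgroup.zpowers zP := by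
      refine Subgroup.eq_of_le_of_card_ge (Subgroup.zpowers_le.2 hc) ?_
      rw [Nat.card_zpowers, Nat.card_zpowers, hzPo]
      rcases (Nat.dvd_prime hpp).1 (hzPo ▸ orderOf_dvd_of_mem_zpowers hc) with e | e
      · exact absurd (orderOf_eq_one_iff.1 e) hc1
      · rw [e]
    exact hxΦ (Subgroup.zpowers_le.2 hcΦ (this.ge (hcz x hxR)))
  have hR0 : Nat.card (R'.subgroupOf P) ≤ p ^ 2 := by
    have e : Nat.card (R'.subgroupOf P) = Nat.card (R' ⊓ P : Subgroup Ω) := by
      rw [← Subgroup.inf_subgroupOf_right,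
        Nat.card_congr (Subgroup.subgroupOfEquivOfLe inf_le_right).toEquiv]
    haveI := finite_of_le hR'S
    have hc : Nat.card R' = p ^ 3 := by
      rw [hR', Nat.card_congr (R.equivMapOfInjective _ S.subtype_injective).toEquiv.symm, hR.card]
    obtain ⟨i, hi, hic⟩ := (Nat.dvd_prime_pow hpp).1
      (hc ▸ Subgroup.card_dvd_of_le (inf_le_left : R' ⊓ P ≤ R'))
    rw [e, hic]
    refine Nat.pow_le_pow_right hpp.pos ?_
    by_contra hi2
    have heq : R' ⊓ P = R' := Subgroup.eq_of_le_of_card_ge inf_le_left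
      (by rw [hc, hic]; exact Nat.pow_le_pow_right hpp.pos (by omega))
    exact hgP ((heq.ge ⟨r, hr, rfl⟩ : (r : Ω) ∈ R' ⊓ P).2)
  have hΦ : frattini P = ⊥ := by
    by_contra hne
    obtain ⟨⟨y, hyΦ⟩, hyo⟩ := exists_prime_orderOf_dvd_card' (G := frattini P) p (by
      obtain ⟨i, hi⟩ := IsPGroup.iff_card.1 (hPp.to_subgroup (frattini P))
      rcases Nat.eq_zero_or_pos i with rfl | hi0
      · exact absurd (Subgroup.eq_bot_of_card_eq _ (hi.trans (pow_zero p))) hne
      · exact hi ▸ dvd_pow_self p hi0.ne')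
    rw [Subgroup.orderOf_mk] at hyo
    have hy1 : y ≠ 1 := fun e => hpp.ne_one (by rw [← hyo, e, orderOf_one])
    have hyR : (y : Ω) ∈ R' := (hexpR y).2 (hyo ▸ pow_orderOf_eq_one y)
    have hyfix : conjAut P hgn y = y := by
      refine (inv_mul_eq_one.1 (hzΦ _ (hcz y hyR) ((frattini P).mul_mem
        ((frattini P).inv_mem hyΦ) ?_))).symm
      have : (frattini P).comap (conjAut P hgn).toMonoidHom = frattini P :=
        Subgroup.characteristic_iff_comap_eq.1 inferInstance _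
      exact this.ge hyΦ
    have hdis : Disjoint (Subgroup.zpowers zP) (Subgroup.zpowers y) := by
      rw [Subgroup.disjoint_def]
      exact fun {c} hc hc' => hzΦ c hc (Subgroup.zpowers_le.2 hyΦ hc')
    have hzR : zP ∈ R'.subgroupOf P := (hexpR zP).2 hzp
    have hinj : Function.Injective
        (fun q : Subgroup.zpowers zP × Subgroup.zpowers y => (⟨(q.1 : P) * q.2,
          (R'.subgroupOf P).mul_mem (Subgroup.zpowers_le.2 hzR q.1.2)
            (Subgroup.zpowers_le.2 (show y ∈ R'.subgroupOf P from hyR) q.2.2)⟩ : R'.subgroupOf P)) := fun q q' e =>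
      Subgroup.mul_injective_of_disjoint hdis (congrArg Subtype.val e)
    have hbij := hinj.bijective_of_nat_card_le (by
      rw [Nat.card_prod, Nat.card_zpowers, Nat.card_zpowers, hzPo, hyo, ← pow_two]; exact hR0)
    obtain ⟨⟨⟨c, hc⟩, ⟨d, hd⟩⟩, hcd⟩ := hbij.2 ⟨x, hxR⟩
    have hcd' : c * d = x := congrArg Subtype.val hcd
    obtain ⟨i, rfl⟩ := Subgroup.mem_zpowers_iff.1 hc
    obtain ⟨j, rfl⟩ := Subgroup.mem_zpowers_iff.1 hd
    have hzfix : conjAut P hgn zP = zP := Subtype.ext (by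
      show (r : Ω) * z * (r : Ω)⁻¹ = z
      have := congrArg Subtype.val (hR.z_central r).eq
      simp only [Subgroup.coe_mul] at this
      rw [← this, mul_inv_cancel_right])
    refine hxΦ ?_
    rw [← hcd', map_mul, map_zpow, map_zpow, hzfix, hyfix, inv_mul_cancel]
    exact one_mem _
  have hexp : ∀ y : P, y ^ p = 1 := fun y => by
    have := CfsgLib.OddOmega.pow_mem_frattini hPp y
    rwa [hΦ, Subgroup.mem_bot] at this
  have hPR : R'.subgroupOf P = ⊤ :=
    (Subgroup.eq_top_iff' _).2 fun y => (hexpR y).2 (hexp y)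
  rw [hPR, Subgroup.card_top] at hR0
  have hV : ∃ j ≤ 2, Nat.card P = p ^ j := exists_pow_card_sq hPp (by rwa [← pow_two])
  have hPsq : Nat.card P = p ^ 2 := by
    obtain ⟨j, hj, hjc⟩ := hV
    rcases (show j ≤ 1 ∨ j = 2 by omega) with hj1 | rfl
    · exfalso
      have hPz : ∀ y : P, y ∈ Subgroup.zpowers zP := by
        intro y
        have : Subgroup.zpowers zP = ⊤ := Subgroup.eq_top_of_le_card _ (by
          rw [Nat.card_zpowers, hzPo, hjc]
          exact (Nat.pow_le_pow_right hpp.pos hj1).trans_eq (pow_one p))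
        exact this ▸ Subgroup.mem_top y
      refine hgP (hCP (Subgroup.mem_inf.2 ⟨r.2, fun y hy => ?_⟩))
      obtain ⟨i, hi⟩ := Subgroup.mem_zpowers_iff.1 (hPz ⟨y, hy⟩)
      have hi' : ((z : Ω)) ^ i = y := by simpa using congrArg Subtype.val hi
      rw [← hi']
      exact (congrArg Subtype.val ((hR.z_central r).zpow_left i).eq).trans rfl |> fun e => by
        simpa using e
    · exact hjc
  have hcommP := comm_of_card_le_sq hV
  -- the automizer is generated by the conjugation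
  have hA : ∀ u : F.autGroup P, (u : MulAut P) ∈ autInducedBy S P →
      ∃ k : ℤ, (u : MulAut P) = (a : MulAut P) ^ k := by
    intro u hu
    have h1 : Subgroup.zpowers (a : MulAut P) = autInducedBy S P := by
      refine Subgroup.eq_of_le_of_card_ge
        (Subgroup.zpowers_le.2 (conjAut_mem_autInducedBy hgn r.2)) ?_
      refine (card_le_prime hPsq (isPGroup_autInducedBy hS P)).trans ?_
      rw [Nat.card_zpowers]
      obtain ⟨k, hk⟩ := IsPGroup.iff_orderOf.1 (isPGroup_autInducedBy hS P)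
        ⟨_, conjAut_mem_autInducedBy hgn r.2⟩
      rw [Subgroup.orderOf_mk] at hk
      rw [hk]
      refine Nat.le_self_pow (fun k0 => ha ?_) p
      rw [k0, pow_zero, orderOf_eq_one_iff] at hk
      rw [show a = 1 from Subtype.ext hk]
      exact one_mem _
    obtain ⟨k, hk⟩ := Subgroup.mem_zpowers_iff.1 (h1.ge hu)
    exact ⟨k, hk.symm⟩
  obtain ⟨h, hh, hh'⟩ := two_mul_half hp3
  obtain ⟨t, f, w, haw, htw, hf, hag⟩ := exists_extend_scalar hS hF hP.2.1
    (F.autGroup P).subtype (by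
      rw [(MonoidHom.ker_eq_bot_iff _).2 Subtype.val_injective]; exact IsPGroup.of_bot)
    hV hexp a (conjAut_mem_autInducedBy hgn r.2) ha hA hh
  have hR'N : R' ≤ normalizerIn S P := by
    intro x hx
    refine ⟨hR'S hx, mem_normalizer_of_conj_mem hPS fun y hy => ?_⟩
    obtain ⟨x', hx', rfl⟩ := hx
    obtain ⟨y', hy', hyy⟩ := (hexpR ⟨y, hy⟩).2 (hexp _)
    obtain ⟨i, hi⟩ := Subgroup.mem_zpowers_iff.1 (hR.comm x' hx' y' hy')
    have hi' := congrArg Subtype.val hi
    simp only [Subgroup.coe_zpow, Subgroup.coe_mul, InvMemClass.coe_inv] at hi'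
    have hyy' : (y' : Ω) = y := hyy
    have := P.mul_mem (P.zpow_mem hzP i) hy
    rw [hi', ← hyy', inv_mul_cancel_right, hyy'] at this
    exact this
  -- the restriction to the elements of order `p`
  have hfR := hf.mono hR'N
  haveI := finite_of_le hR'S
  obtain ⟨ρ, hρ, hρf⟩ := exists_mem_autGroup (hfR.isIso_of_card_le (fun x hx =>
    (mem_map_iff hR).2 ⟨hfR.mem hx, by
      obtain ⟨φ, -, hv⟩ := hfR
      rw [← hv ⟨x, hx⟩, ← map_pow, show (⟨x, hx⟩ : R') ^ p = 1 from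
        Subtype.ext ((mem_map_iff hR).1 hx).2, map_one]⟩) le_rfl)
  have hNR : normalizerIn S R' = S :=
    inf_eq_left.2 fun x hx => mem_normalizer_of_conj_mem hR'S (hR'n x hx)
  have hfnR : F.IsFullyNormalized R' :=
    ⟨hR'S, fun Q _ => by rw [hNR]; exact Subgroup.card_le_of_le inf_le_left⟩
  haveI := finite_mulAut R'
  haveI := CfsgLib.Fitting.pCore_normal (G := F.autGroup R') p
  obtain ⟨f', hf', hag'⟩ := extend_of_normalizes hS hF hfnR ⟨ρ, hρ⟩ fun u hu => by
    have h1 := conj_mem_pCore hp3 hS hF hR hg0 hfnR le_rfl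
      ⟨u, autInducedBy_le_autGroup hR'S hu⟩ hu
    exact pgroup_le_autInducedBy hS (isFullyAutomized_of_isFullyNormalized hS hF hfnR)
      (CfsgLib.Fitting.pCore_isPGroup p)
      ((CfsgLib.Fitting.pCore_normal (G := F.autGroup R') p).conj_mem _ h1 ⟨ρ, hρ⟩)
  rw [hNR] at hf'
  -- the vector
  obtain ⟨w', hw', hww⟩ := (hexpR w).2 (hexp w)
  have hww' : (w' : Ω) = w := hww
  have hwz : w ∉ Subgroup.zpowers zP := by
    intro hwz
    obtain ⟨i, rfl⟩ := Subgroup.mem_zpowers_iff.1 hwz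
    refine haw (Subtype.ext ?_)
    show (r : Ω) * (zP ^ i : P) * (r : Ω)⁻¹ = (zP ^ i : P)
    have := congrArg Subtype.val ((hR.z_central r).zpow_left i).eq
    simp only [Subgroup.coe_mul, Subgroup.coe_zpow] at this
    rw [Subgroup.coe_zpow, ← this, mul_inv_cancel_right]
  have hPgen : Subgroup.closure ({zP, w} : Set P) = ⊤ := by
    have hlt : Subgroup.zpowers zP < Subgroup.closure ({zP, w} : Set P) :=
      lt_of_le_of_ne (Subgroup.zpowers_le.2 (Subgroup.subset_closure (Or.inl rfl)))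
        fun e => hwz (e.ge (Subgroup.subset_closure (Or.inr rfl)))
    obtain ⟨i, hi, hic⟩ := (Nat.dvd_prime_pow hpp).1
      (hPsq ▸ Subgroup.card_subgroup_dvd_card (Subgroup.closure ({zP, w} : Set P)))
    refine Subgroup.eq_top_of_le_card _ ?_
    rw [hPsq, hic]
    refine Nat.pow_le_pow_right hpp.pos ?_
    by_contra hi2
    refine hlt.ne (Subgroup.eq_of_le_of_card_ge hlt.le ?_)
    rw [Nat.card_zpowers, hzPo, hic]
    exact (Nat.pow_le_pow_right hpp.pos (by omega : i ≤ 1)).trans_eq (pow_one p)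
  refine false_of_extension hp3 hS hR hg0 hf' hw' (fun hmem => hg0R ?_) hh' fun y hy => ?_
  · -- the generator would normalize `P`
    have hw1 : (g₀ : Ω) * w * (g₀ : Ω)⁻¹ ∈ P := by
      obtain ⟨i, hi⟩ := Subgroup.mem_zpowers_iff.1 hmem
      have hi' := congrArg Subtype.val hi
      simp only [Subgroup.coe_zpow, Subgroup.coe_mul, InvMemClass.coe_inv, hww'] at hi'
      have := P.mul_mem (P.zpow_mem hzP i) w.2
      rwa [hi', inv_mul_cancel_right] at this
    have hz1 : (g₀ : Ω) * z * (g₀ : Ω)⁻¹ ∈ P := by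
      have := congrArg Subtype.val (hR.z_central g₀).eq
      simp only [Subgroup.coe_mul] at this
      rwa [← this, mul_inv_cancel_right]
    have hle : ⊤ ≤ (P.comap (MulAut.conj (g₀ : Ω)).toMonoidHom).comap P.subtype := by
      rw [← hPgen, Subgroup.closure_le]
      rintro c (rfl | rfl)
      · exact hz1
      · exact hw1
    have hgn0 : (g₀ : Ω) ∈ Subgroup.normalizer (P : Set Ω) :=
      mem_normalizer_of_conj_mem hPS fun c hc => hle (Subgroup.mem_top ⟨c, hc⟩)
    obtain ⟨k, hk⟩ := hA ⟨_, autInducedBy_le_autGroup hPS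
      (conjAut_mem_autInducedBy hgn0 g₀.2)⟩ (conjAut_mem_autInducedBy hgn0 g₀.2)
    have hk' : P.normalizerMonoidHom ⟨g₀, hgn0⟩ = P.normalizerMonoidHom (⟨(r : Ω), hgn⟩ ^ k) := by
      rw [map_zpow]; exact hk
    have hc : ((r : Ω) ^ k)⁻¹ * g₀ ∈ P := by
      refine hCP (Subgroup.mem_inf.2 ⟨S.mul_mem (S.inv_mem (S.zpow_mem r.2 k)) g₀.2, ?_⟩)
      refine mem_centralizer_of_conj_eq fun c hc => ?_
      have h0 := DFunLike.congr_fun hk' (⟨c, hc⟩ : P)
      have h1 : (g₀ : Ω) * c * (g₀ : Ω)⁻¹ = (r : Ω) ^ k * c * ((r : Ω) ^ k)⁻¹ :=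
        Subtype.ext_iff.1 h0
      calc ((r : Ω) ^ k)⁻¹ * g₀ * c * (((r : Ω) ^ k)⁻¹ * g₀)⁻¹
          = ((r : Ω) ^ k)⁻¹ * ((g₀ : Ω) * c * (g₀ : Ω)⁻¹) * (r : Ω) ^ k := by group
        _ = c := by rw [h1]; group
    have hg0' : (g₀ : Ω) ∈ R' := by
      have h1 : ((r : Ω) ^ k)⁻¹ * g₀ ∈ R' := (hexpR ⟨_, hc⟩).2 (hexp _)
      have := R'.mul_mem (R'.zpow_mem (⟨r, hr, rfl⟩ : (r : Ω) ∈ R') k) h1
      rwa [mul_inv_cancel_left] at this
    obtain ⟨x', hx', hxx⟩ := hg0'
    rwa [Subtype.ext hxx] at hx'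
  · have hwR : (w : Ω) ∈ R' := ⟨w', hw', hww⟩
    rw [hww', hag' _ hwR, autFun_apply _ hwR, hρf, hag _ w.2, autFun_coe] at hy
    have e : y = w' ^ h := by
      refine Subtype.ext ?_
      rw [hy, Subgroup.coe_pow, hww']
      exact congrArg Subtype.val htw
    rw [e, inv_mul_cancel]
    exact one_mem _

/-- Rank two groups for `p > 3` other than the extraspecial group of exponent `p` are resistant. -/
theorem isNormal_of_rank_two (hS : IsPGroup p S) (hF : F.IsSaturated p) (hp3 : 3 < p)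
    (hrk : ∀ E : Subgroup Ω, E ≤ S → Cfsg.IsElementaryAbelian p E → Nat.card E ≤ p ^ 2)
    (hnotE : ¬ (Nat.card S = p ^ 3 ∧ Monoid.exponent S = p)) : F.IsNormal S := by
  classical
  have hrk' : ∀ E : Subgroup S, Cfsg.IsElementaryAbelian p E → Nat.card E ≤ p ^ 2 := by
    intro E hE
    rw [Nat.card_congr (E.equivMapOfInjective _ S.subtype_injective).toEquiv]
    refine hrk _ (Subgroup.map_subtype_le E) ⟨⟨⟨?_⟩⟩, ?_⟩
    · rintro ⟨_, a, ha, rfl⟩ ⟨_, b, hb, rfl⟩
      have e := Subtype.ext_iff.1 (hE.1.is_comm.comm ⟨a, ha⟩ ⟨b, hb⟩)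
      exact Subtype.ext (congrArg (Subtype.val : S → Ω) e)
    · rintro _ ⟨a, ha, rfl⟩
      exact congrArg Subtype.val (hE.2 a ha)
  by_cases hbig : Nat.card ↥(Cfsg.omegaOne p (⊤ : Subgroup S)) ≤ p ^ 2
  · exact isNormal_of_metacyclic_odd hS hF (by omega) (stronglyClosed_top F)
      (CfsgLib.Blackburn.isMetacyclic_aux hp3 _ S rfl hS hbig)
  obtain ⟨R, z, hR⟩ := exists_shape hp3 hS hrk' (lt_of_not_ge hbig)
  obtain ⟨g₀, hg0⟩ := hR.cyclic_quotient hp3 hS
  have hg0R : g₀ ∉ R := by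
    intro hg
    have hall : ∀ x : S, x ∈ R := fun x => by
      obtain ⟨k, hk⟩ := hg0 x
      have := R.mul_mem hk (R.zpow_mem hg k)
      rwa [inv_mul_cancel_right] at this
    refine hnotE ⟨?_, ?_⟩
    · rw [← hR.card, (Subgroup.eq_top_iff' R).2 hall, Subgroup.card_top]
    · rcases (Nat.dvd_prime hpF.out).1 (Monoid.exponent_dvd_of_forall_pow_eq_one
        fun x : S => (hR.mem x).1 (hall x)) with e | e
      · haveI := Monoid.exp_eq_one_iff.1 e
        exact absurd (Subsingleton.elim z 1) hR.z_ne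
      · exact e
  refine isNormal_of_generators hS hF le_rfl fun P hP => ?_
  suffices hle : S ≤ P by
    refine ⟨hle, fun α _ x hx => ?_⟩
    have hPS : P ≤ S := by rcases hP with rfl | hess; exacts [le_rfl, hess.2.1.1]
    exact hPS (autFun_mem α (hle hx))
  rcases hP with rfl | hess
  · exact le_rfl
  intro s hs
  have hfn := hess.2.1
  have hRP := omega_le_of_isEssential hp3 hS hF hR hg0 hg0R hess
  have hsn : s ∈ Subgroup.normalizer (P : Set Ω) :=
    mem_normalizer_of_conj_mem hfn.1 fun x hx => normal_of_le hR hg0 hfn.1 hRP hs hx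
  exact mem_of_mem_pCore hess.1 (isRadical_of_isEssential hS hess) ⟨hs, hsn⟩
    (α := ⟨conjAut P hsn, autInducedBy_le_autGroup hfn.1 (conjAut_mem_autInducedBy hsn hs)⟩)
    (conjAut_apply P hsn)
    (conj_mem_pCore hp3 hS hF hR hg0 hfn hRP _ (conjAut_mem_autInducedBy hsn hs))

end CfsgLib.RankTwoResistant
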