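import Mathlib
import Cfsg.Agent.Lib.Fusion.Pearls
import Cfsg.Agent.Lib.Fusion.RankTwoResistant
import Cfsg.Agent.Lib.Fusion.Transvections
import Cfsg.Agent.Lib.Fusion.SmallNonabelian
import Cfsg.Agent.Lib.PGroup.UniserialThree

/-!
Pearls of `3`-groups.
-/

set_option autoImplicit false
set_option linter.style.haveILetI false
set_option linter.unusedSectionVars false

open scoped commutatorElement

namespace CfsgLib.PearlsThree

open Cfsg Cfsg.FusionSystem CfsgLib CfsgLib.Fusion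

variable {Ω : Type*} [Group Ω] {S : Subgroup Ω} [Finite S] {F : FusionSystem S}

/-- A saturated system on a group of order `27` with an essential subgroup of order `9` lives on
the group of exponent three. -/
theorem exponent_of_order_27 [Fact (Nat.Prime 3)] (hS : IsPGroup 3 S) (hF : F.IsSaturated 3)
    (hcard : Nat.card S = 3 ^ 3) (hna : ¬ ∀ a b : S, a * b = b * a) {E : Subgroup Ω}
    (hE : F.IsEssential 3 E) (hE9 : Nat.card E = 3 ^ 2) (hexp : ∀ e ∈ E, e ^ 3 = 1)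
    (hab : ∀ a ∈ E, ∀ b ∈ E, a * b = b * a) : ∀ s : S, s ^ 3 = 1 := by
  classical
  have hES : E ≤ S := hE.1.1
  haveI := finite_of_le hES
  haveI := finite_mulAut E
  haveI : Nontrivial S := Finite.one_lt_card_iff_nontrivial.1 (hcard ▸ by norm_num)
  -- the centre
  set ZS := Subgroup.center S with hZS
  have hZc : Nat.card ZS = 3 := by
    obtain ⟨k, hk⟩ := IsPGroup.iff_card.1 (hS.to_subgroup ZS)
    have h1 : 1 < Nat.card ZS := by
      haveI := hS.center_nontrivial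
      exact Finite.one_lt_card
    have hk2 : k < 2 := by
      by_contra hcon
      refine hna fun a b => ?_
      have hq : Nat.card (S ⧸ ZS) ∣ 3 := by
        have h2 := Subgroup.card_eq_card_quotient_mul_card_subgroup ZS
        rw [hcard, hk] at h2
        refine (Nat.dvd_prime Nat.prime_three).2 ?_
        have hle : Nat.card (S ⧸ ZS) ≤ 3 := by
          refine Nat.le_of_mul_le_mul_right (?_ : _ * 3 ^ 2 ≤ 3 * 3 ^ 2) (by norm_num)
          calc Nat.card (S ⧸ ZS) * 3 ^ 2 ≤ Nat.card (S ⧸ ZS) * 3 ^ k :=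
                Nat.mul_le_mul_left _ (Nat.pow_le_pow_right (by norm_num) (by omega))
            _ = 3 * 3 ^ 2 := by rw [← h2]; norm_num
        obtain ⟨m, hm⟩ := IsPGroup.iff_card.1 (hS.to_quotient ZS)
        rw [hm] at hle ⊢
        have := (Nat.pow_le_pow_iff_right (by norm_num : 1 < 3)).1 (hle.trans (pow_one 3).ge)
        interval_cases m <;> simp
      haveI : IsCyclic (S ⧸ ZS) := by
        rcases (Nat.dvd_prime Nat.prime_three).1 hq with e | e
        · haveI : Subsingleton (S ⧸ ZS) := (Nat.card_eq_one_iff_unique.1 e).1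
          exact isCyclic_of_subsingleton
        · exact isCyclic_of_prime_card (p := 3) e
      obtain ⟨g, hg⟩ := IsCyclic.exists_generator (α := S ⧸ ZS)
      obtain ⟨g, rfl⟩ := QuotientGroup.mk_surjective g
      obtain ⟨i, hi⟩ := Subgroup.mem_zpowers_iff.1 (hg (QuotientGroup.mk a))
      obtain ⟨j, hj⟩ := Subgroup.mem_zpowers_iff.1 (hg (QuotientGroup.mk b))
      rw [← QuotientGroup.mk_zpow, QuotientGroup.eq] at hi hj
      obtain ⟨z, hz, rfl⟩ : ∃ z ∈ ZS, a = g ^ i * z := ⟨_, hi, by rw [mul_inv_cancel_left]⟩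
      obtain ⟨w, hw, rfl⟩ : ∃ w ∈ ZS, b = g ^ j * w := ⟨_, hj, by rw [mul_inv_cancel_left]⟩
      have c1 : Commute z (g ^ j * w) := (Subgroup.mem_center_iff.1 hz _).symm
      have c2 : Commute (g ^ i) w := Subgroup.mem_center_iff.1 hw _
      exact ((((Commute.refl g).zpow_zpow i j).mul_right c2).mul_left c1).eq
    rw [hk] at h1 ⊢
    interval_cases k
    · simp at h1
    · norm_num
  have hcomm : ∀ a b : S, ⁅a, b⁆ ∈ ZS := by
    intro a b
    have hq : Nat.card (S ⧸ ZS) = 3 ^ 2 := by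
      have h2 := Subgroup.card_eq_card_quotient_mul_card_subgroup ZS
      rw [hcard, hZc] at h2
      omega
    letI := IsPGroup.commGroupOfCardEqPrimeSq hq
    have h2 := mul_comm (QuotientGroup.mk' ZS a) (QuotientGroup.mk' ZS b)
    rw [← commutatorElement_eq_one_iff_mul_comm, ← map_commutatorElement] at h2
    exact (QuotientGroup.eq_one_iff _).1 h2
  obtain ⟨E', hE'⟩ : ∃ E' : Subgroup S, E' = E.subgroupOf S := ⟨_, rfl⟩
  have memE : ∀ v : S, v ∈ E' ↔ (v : Ω) ∈ E := fun v => by rw [hE']; rfl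
  have hCE : ∀ v : S, (∀ e ∈ E', e * v = v * e) → v ∈ E' := fun v hv => (memE v).2
    (hE.1.2 E (isConj_refl hES) (Subgroup.mem_inf.2 ⟨v.2, Subgroup.mem_centralizer_iff.2 fun e he =>
      congrArg Subtype.val (hv ⟨e, hES he⟩ ((memE _).2 he))⟩))
  have hZE : ∀ v ∈ ZS, (v : Ω) ∈ E := fun v hv =>
    (memE v).1 (hCE v fun e _ => Subgroup.mem_center_iff.1 hv e)
  have hneS := ne_of_isEssential hS hF hE
  have hnorm : normalizerIn S E = S := le_antisymm inf_le_left fun s hs => by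
    refine Subgroup.mem_inf.2 ⟨hs, mem_normalizer_of_conj_mem hES fun e he => ?_⟩
    have := E.mul_mem (hZE _ (hcomm ⟨s, hs⟩ ⟨e, hES he⟩)) he
    rwa [commutatorElement_def, Subgroup.coe_mul, Subgroup.coe_mul, Subgroup.coe_mul,
      Subgroup.coe_inv, Subgroup.coe_inv,
      show s * e * s⁻¹ * e⁻¹ * e = s * e * s⁻¹ by group] at this
  -- the structure of the automizer
  letI : CommGroup E := { (inferInstance : Group E) with
    mul_comm := fun a b => Subtype.ext (hab a a.2 b b.2) }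
  obtain ⟨ZV, hZV⟩ : ∃ ZV : Subgroup E, ZV = (ZS.map S.subtype).subgroupOf E := ⟨_, rfl⟩
  have mZ : ∀ v : E, v ∈ ZV ↔ (⟨v, hES v.2⟩ : S) ∈ ZS := fun v => by
    rw [hZV, Subgroup.mem_subgroupOf]
    exact ⟨fun ⟨u, hu, e⟩ => by rwa [show (⟨v, hES v.2⟩ : S) = u from Subtype.ext e.symm],
      fun h => ⟨_, h, rfl⟩⟩
  have hZVc : Nat.card ZV = 3 := by
    rw [hZV, Nat.card_congr (Subgroup.subgroupOfEquivOfLe
      (show ZS.map S.subtype ≤ E by rintro _ ⟨u, hu, rfl⟩; exact hZE u hu)).toEquiv,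
      Subgroup.card_map_of_injective S.subtype_injective, hZc]
  have hindex : ZV.index = 3 := by
    have := ZV.card_mul_index
    rw [hZVc, hE9] at this
    omega
  obtain ⟨y₀, hy₀⟩ : ∃ v : E, v ∉ ZV := by
    by_contra hcon
    push Not at hcon
    have htop : ZV = ⊤ := eq_top_iff.2 fun v _ => hcon v
    rw [htop, Subgroup.index_top] at hindex
    omega
  have hUfix : ∀ g ∈ autInducedBy S E, ∀ z ∈ ZV, g z = z := by
    intro g hg z hz
    obtain ⟨s, hs, hsv⟩ := (mem_autInducedBy_iff S E g).1 hg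
    refine Subtype.ext ?_
    rw [hsv z]
    have := congrArg Subtype.val (Subgroup.mem_center_iff.1 ((mZ z).1 hz) ⟨s, hs⟩)
    rw [show s * (z : Ω) = z * s from this, mul_inv_cancel_right]
  have hUdisp : ∀ g ∈ autInducedBy S E, ∀ v, v⁻¹ * g v ∈ ZV := by
    intro g hg v
    obtain ⟨s, hs, hsv⟩ := (mem_autInducedBy_iff S E g).1 hg
    rw [mZ]
    convert hcomm ⟨(v : Ω)⁻¹, S.inv_mem (hES v.2)⟩ ⟨s, hs⟩ using 1
    refine Subtype.ext ?_
    show ((v⁻¹ * g v : E) : Ω) = _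
    rw [Subgroup.coe_mul, Subgroup.coe_inv, hsv v, commutatorElement_def]
    simp [mul_assoc]
  have hfa := (isFullyAutomized_iff hS).1 (isFullyAutomized_of_isFullyNormalized hS hF hE.2.1)
  obtain ⟨T, hT⟩ : ∃ T : Subgroup (MulAut E),
      T = Transvections.seriesStab ZV ZV le_rfl ⊓ F.autGroup E := ⟨_, rfl⟩
  have hTp : IsPGroup 3 T := by
    rw [hT]
    exact (Transvections.isPGroup_seriesStab (hS.to_le hES) ZV ZV le_rfl).to_le inf_le_left
  have hUle := autInducedBy_le_autGroup (F := F) hES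
  have hUT : autInducedBy S E ≤ T := fun g hg => by
    rw [hT]
    exact Subgroup.mem_inf.2 ⟨Transvections.mem_seriesStab.2 ⟨hUfix g hg, fun z _ => hUdisp g hg z,
      hUdisp g hg⟩, hUle hg⟩
  have hTU : T = autInducedBy S E := by
    obtain ⟨β, -, hβ⟩ := hfa.2 T (by rw [hT]; exact inf_le_right) hTp
    refine (Subgroup.eq_of_le_of_card_ge hUT ?_).symm
    refine Nat.card_le_card_of_injective (fun t : T => (⟨β * t * β⁻¹, hβ _ t.2⟩ : autInducedBy S E))
      fun s t e => Subtype.ext ?_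
    exact mul_left_cancel (mul_right_cancel (congrArg Subtype.val e))
  have hUstab : ∀ g ∈ F.autGroup E, (∀ z ∈ ZV, g z = z) → (∀ v, v⁻¹ * g v ∈ ZV) →
      g ∈ autInducedBy S E := by
    intro g hg h1 h2
    rw [← hTU, hT]
    exact Subgroup.mem_inf.2 ⟨Transvections.mem_seriesStab.2 ⟨h1, fun z _ => h2 z, h2⟩, hg⟩
  obtain ⟨g₀, hg₀N, hg₀E⟩ := SetLike.exists_of_lt (lt_normalizerIn hS hES hneS)
  have hu₀ : conjAut E hg₀N.2 ∈ autInducedBy S E := conjAut_mem_autInducedBy hg₀N.2 hg₀N.1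
  have hne₀ : conjAut E hg₀N.2 ≠ 1 := by
    intro e
    refine hg₀E (hE.1.2 E (isConj_refl hES) (Subgroup.mem_inf.2 ⟨hg₀N.1,
      mem_centralizer_of_conj_eq fun x hx => ?_⟩))
    rw [← conjAut_apply E hg₀N.2 ⟨x, hx⟩, e]
    rfl
  have hUL : ∀ l ∈ ZV, ∃ g ∈ autInducedBy S E, y₀⁻¹ * g y₀ = l := by
    intro l hl
    obtain ⟨g, hg⟩ : ∃ g, g = conjAut E hg₀N.2 := ⟨_, rfl⟩
    rw [← hg] at hu₀ hne₀
    obtain ⟨l₁, hl₁⟩ : ∃ l₁, l₁ = y₀⁻¹ * g y₀ := ⟨_, rfl⟩
    have hl1 : l₁ ≠ 1 := by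
      intro e
      refine hne₀ (MulEquiv.ext fun v => ?_)
      rw [e] at hl₁
      have hgy : g y₀ = y₀ := (inv_mul_eq_one.1 hl₁.symm).symm
      have htop : ZV ⊔ Subgroup.zpowers y₀ = ⊤ := by
        have hle : ZV ≤ ZV ⊔ Subgroup.zpowers y₀ := le_sup_left
        rcases (Nat.dvd_prime Nat.prime_three).1 (hindex ▸ Subgroup.index_dvd_of_le hle) with e | e
        · exact Subgroup.index_eq_one.1 e
        · exfalso
          have h1 := Subgroup.relIndex_mul_index hle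
          rw [e, hindex] at h1
          exact hy₀ (Subgroup.relIndex_eq_one.1 (Nat.eq_of_mul_eq_mul_right (by norm_num : 0 < 3) (h1.trans (one_mul 3).symm))
            (Subgroup.mem_sup_right (Subgroup.mem_zpowers y₀)))
      obtain ⟨z, hz, w, hw, rfl⟩ := Subgroup.mem_sup.1 (htop.ge (Subgroup.mem_top v))
      obtain ⟨i, rfl⟩ := Subgroup.mem_zpowers_iff.1 hw
      rw [map_mul, map_zpow, hgy, hUfix g hu₀ z hz, MulAut.one_apply]
    have hl1Z : l₁ ∈ ZV := hl₁ ▸ hUdisp g hu₀ y₀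
    have hpow : ∀ k : ℕ, (g ^ k) y₀ = y₀ * l₁ ^ k := by
      intro k
      induction k with
      | zero => simp
      | succ k ih =>
        have hg' : g y₀ = y₀ * l₁ := by rw [hl₁, mul_inv_cancel_left]
        rw [pow_succ', MulAut.mul_apply, ih, map_mul, hUfix g hu₀ _ (pow_mem hl1Z k), hg', pow_succ',
          mul_assoc]
    have hgen : Subgroup.zpowers l₁ = ZV := by
      refine Subgroup.eq_of_le_of_card_ge (Subgroup.zpowers_le.2 hl1Z) ?_
      rw [hZVc, Nat.card_zpowers,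
        orderOf_eq_prime (Subtype.ext (hexp l₁ l₁.2) : l₁ ^ 3 = 1) hl1]
    obtain ⟨k, hk⟩ : l ∈ Submonoid.powers l₁ := by
      rw [mem_powers_iff_mem_zpowers, hgen]; exact hl
    exact ⟨g ^ k, pow_mem hu₀ k, by rw [hpow k, inv_mul_cancel_left]; exact hk⟩
  have hU1 : autInducedBy S E ≠ ⊥ := fun e => hne₀ (by rwa [e, Subgroup.mem_bot] at hu₀)
  obtain ⟨β, hβ, hβZ⟩ : ∃ β ∈ F.autGroup E, ¬ ∀ z ∈ ZV, β z ∈ ZV := by
    by_contra hcon
    push Not at hcon
    have hn : ((autInducedBy S E).subgroupOf (F.autGroup E)).Normal := by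
      refine ⟨fun a ha b => hUstab _ (SetLike.coe_mem (b * a * b⁻¹)) (fun z hz => ?_) fun v => ?_⟩
      · show (b : MulAut E) ((a : MulAut E) ((b : MulAut E)⁻¹ z)) = z
        rw [show (a : MulAut E) ((b : MulAut E)⁻¹ z) = (b : MulAut E)⁻¹ z from
          hUfix _ ha _ (hcon _ (inv_mem b.2) z hz), MulAut.apply_inv_self]
      · obtain ⟨u, rfl⟩ := (b : MulAut E).surjective v
        show ((b : MulAut E) u)⁻¹ *
          (b : MulAut E) ((a : MulAut E) ((b : MulAut E)⁻¹ ((b : MulAut E) u))) ∈ ZV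
        rw [MulAut.inv_apply_self, ← map_inv, ← map_mul]
        exact hcon _ b.2 _ (hUdisp _ ha u)
    exact hg₀E (mem_of_mem_pCore hE.1 (isRadical_of_isEssential hS hE) hg₀N
      (α := ⟨conjAut E hg₀N.2, hUle hu₀⟩) (conjAut_apply E hg₀N.2)
      (CfsgLib.Fitting.le_pCore hn ((isPGroup_autInducedBy hS E).of_equiv
        (Subgroup.subgroupOfEquivOfLe hUle).symm) hu₀))
  obtain ⟨-, -, -, t, ht, htL, htβ, -⟩ := Transvections.exists_split (hS.to_le hES) (F.autGroup E)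
    ZV ZV hindex le_rfl hy₀ (autInducedBy S E) hUle hUfix hUdisp hUL hUstab hfa.2 hβ hβZ hU1
  -- `t` inverts `E`
  have htinv : ∀ v, t v = v⁻¹ := by
    let D : Subgroup E :=
      { carrier := {v | t v = v⁻¹}
        one_mem' := by simp
        mul_mem' := fun {a b} ha hb => by
          show t (a * b) = (a * b)⁻¹
          rw [map_mul, show t a = a⁻¹ from ha, show t b = b⁻¹ from hb, mul_inv]
        inv_mem' := fun {a} ha => by
          show t a⁻¹ = a⁻¹⁻¹
          rw [map_inv, show t a = a⁻¹ from ha] }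
    have hle : ZV ≤ D := fun z hz => htL z hz
    rcases (Nat.dvd_prime Nat.prime_three).1 (hindex ▸ Subgroup.index_dvd_of_le hle) with e | e
    · exact fun v => (Subgroup.index_eq_one.1 e).ge (Subgroup.mem_top v)
    · exfalso
      have h1 := Subgroup.relIndex_mul_index hle
      rw [e, hindex] at h1
      have h2 : D ≤ ZV := Subgroup.relIndex_eq_one.1 (by omega)
      exact hβZ fun z hz => h2 (htβ z hz)
  obtain ⟨f, hf, hag⟩ := RankTwoResistant.extend_of_normalizes hS hF hE.2.1 ⟨t, ht⟩ fun u hu => by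
    have : t * u * t⁻¹ = u := by
      rw [mul_inv_eq_iff_eq_mul]
      exact MulEquiv.ext fun v => by rw [MulAut.mul_apply, MulAut.mul_apply, htinv, htinv, map_inv]
    show t * u * t⁻¹ ∈ _
    rw [this]; exact hu
  rw [hnorm] at hf
  have hfE : ∀ e ∈ E, f e = e⁻¹ := fun e he => by
    rw [hag e he, autFun_apply _ he]
    show ((t ⟨e, he⟩ : E) : Ω) = e⁻¹
    rw [htinv]; rfl
  -- the contradiction
  intro s
  by_contra hs
  have hsE : (s : Ω) ∉ E := fun h => hs (Subtype.ext (hexp _ h))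
  obtain ⟨φ, hφ, hv⟩ := hf
  let ψ : S →* S := φ.codRestrict S (F.le_of_mem hφ).2
  have hψE : ∀ e : S, e ∈ E' → ψ e = e⁻¹ := fun e he => Subtype.ext (by
    show φ e = (e : Ω)⁻¹
    rw [hv]; exact hfE _ ((memE e).1 he))
  have hE'c : Nat.card E' = 9 := by
    rw [hE', Nat.card_congr (Subgroup.subgroupOfEquivOfLe hES).toEquiv, hE9]; norm_num
  haveI hE'n : E'.Normal := ⟨fun e he u => by
    have := E'.mul_mem ((memE _).2 (hZE _ (hcomm u e))) he
    rwa [show ⁅u, e⁆ * e = u * e * u⁻¹ by simp only [commutatorElement_def]; group] at this⟩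
  have hq : Nat.card (S ⧸ E') = 3 := by
    have := Subgroup.card_eq_card_quotient_mul_card_subgroup E'
    rw [hcard, hE'c] at this
    omega
  have hs3 : s ^ 3 ∈ E' := by
    rw [← QuotientGroup.eq_one_iff, QuotientGroup.mk_pow, ← hq]
    exact pow_card_eq_one'
  have hs9 : orderOf s = 9 := by
    have hdvd : orderOf s ∣ 3 ^ 2 := orderOf_dvd_of_pow_eq_one (by
      rw [show 3 ^ 2 = 3 * 3 by norm_num, pow_mul]
      exact Subtype.ext (by simpa using hexp _ ((memE _).1 hs3)))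
    obtain ⟨k, hk2, hk⟩ := (Nat.dvd_prime_pow Nat.prime_three).1 hdvd
    interval_cases k
    · exact absurd (orderOf_dvd_iff_pow_eq_one.1 (hk ▸ one_dvd 3)) hs
    · exact absurd (orderOf_dvd_iff_pow_eq_one.1 (by rw [hk]; norm_num)) hs
    · rw [hk]; norm_num
  haveI : Fact (Nat.card (S ⧸ E')).Prime := ⟨hq ▸ Nat.prime_three⟩
  have hcyc : Subgroup.zpowers (QuotientGroup.mk s : S ⧸ E') = ⊤ :=
    zpowers_eq_top_of_prime_card rfl fun e => hsE ((memE s).1 ((QuotientGroup.eq_one_iff s).1 e))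
  obtain ⟨i, hi⟩ : (QuotientGroup.mk (ψ s) : S ⧸ E') ∈ Submonoid.powers (QuotientGroup.mk s) := by
    rw [mem_powers_iff_mem_zpowers, hcyc]; trivial
  simp only at hi
  rw [← QuotientGroup.mk_pow, QuotientGroup.eq] at hi
  obtain ⟨e, he, hψs⟩ : ∃ e ∈ E', ψ s = s ^ i * e := ⟨_, hi, by rw [mul_inv_cancel_left]⟩
  have hcube : (s ^ i * e) ^ 3 = s ^ (3 * i) := by
    rw [UniserialThree.cube_mul _ _ (fun g => Subgroup.mem_center_iff.1 (hcomm e (s ^ i)) g) ?_,
      show e ^ 3 = 1 from Subtype.ext (by simpa using hexp _ ((memE e).1 he)), mul_one, ← pow_mul,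
      mul_comm i 3]
    exact Subtype.ext (by simpa using hexp _ (hZE _ (hcomm e (s ^ i))))
  have hi3 : 9 ∣ 3 * i + 3 := by
    rw [← hs9, orderOf_dvd_iff_pow_eq_one, pow_add, ← hcube, ← hψs, ← map_pow, hψE _ hs3,
      inv_mul_cancel]
  obtain ⟨x, hxE', hxs⟩ : ∃ x ∈ E', x * s ≠ s * x := by
    by_contra hcon
    push Not at hcon
    exact hsE ((memE s).1 (hCE s hcon))
  have hx3 : (x : Ω) ^ 3 = 1 := hexp _ ((memE x).1 hxE')
  set c := ⁅x, s⁆ with hc
  have hcZ : c ∈ ZS := hcomm x s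
  have hcE : c ∈ E' := (memE c).2 (hZE c hcZ)
  have hc3 : c ^ 3 = 1 := Subtype.ext (by simpa using hexp _ ((memE c).1 hcE))
  have hcpow : ∀ k : ℕ, ⁅x⁻¹, s ^ k⁆ = (c ^ k)⁻¹ := by
    intro k
    induction k with
    | zero => simp
    | succ k ih =>
      have h1 : ⁅x⁻¹, s⁆ = c⁻¹ := by
        rw [show ⁅x⁻¹, s⁆ = x⁻¹ * c⁻¹ * x by rw [hc, commutatorElement_def, commutatorElement_def]; group,
          Subgroup.mem_center_iff.1 (inv_mem hcZ) x⁻¹, inv_mul_cancel_right]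
      rw [show ⁅x⁻¹, s ^ (k + 1)⁆ = ⁅x⁻¹, s ^ k⁆ * (s ^ k * ⁅x⁻¹, s⁆ * (s ^ k)⁻¹) by
        rw [pow_succ]; simp only [commutatorElement_def]; group, ih, h1,
        Subgroup.mem_center_iff.1 (inv_mem hcZ) (s ^ k), mul_inv_cancel_right, ← mul_inv_rev,
        ← pow_succ']
  have h1 : ψ c = ⁅x⁻¹, s ^ i * e⁆ := by rw [hc, map_commutatorElement, hψE x hxE', hψs]
  have h2 : ⁅x⁻¹, s ^ i * e⁆ = (c ^ i)⁻¹ := by
    rw [← hcpow i]
    have hex : ⁅x⁻¹, e⁆ = 1 := commutatorElement_eq_one_iff_mul_comm.2 (Subtype.ext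
      (hab _ ((memE _).1 (inv_mem hxE')) _ ((memE e).1 he)))
    rw [show ⁅x⁻¹, s ^ i * e⁆ = ⁅x⁻¹, s ^ i⁆ * (s ^ i * ⁅x⁻¹, e⁆ * (s ^ i)⁻¹) by
      simp only [commutatorElement_def]; group, hex, mul_one, mul_inv_cancel, mul_one]
  rw [hψE c hcE, h2, inv_inj] at h1
  have hi2 : i % 3 = 2 := by omega
  rw [pow_eq_pow_mod i hc3, hi2, pow_two, left_eq_mul] at h1
  exact hxs (commutatorElement_eq_one_iff_mul_comm.1 h1)

end CfsgLib.PearlsThree
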