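import Mathlib
import Cfsg.Agent.Lib.Fusion.Saturation
import Cfsg.Prelude.Def_FusionComponents

/-!
Direct products of fusion systems: existence and saturation.
-/

set_option autoImplicit false

namespace CfsgLib.Fusion

open Cfsg Cfsg.FusionSystem

variable {Ω₁ Ω₂ : Type*} [Group Ω₁] [Group Ω₂] {S₁ : Subgroup Ω₁} {S₂ : Subgroup Ω₂}

/-- The pair of two homomorphisms on the projections, as a homomorphism on `P`. -/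
def pairHom (P : Subgroup (Ω₁ × Ω₂)) (φ₁ : P.map (MonoidHom.fst Ω₁ Ω₂) →* Ω₁)
    (φ₂ : P.map (MonoidHom.snd Ω₁ Ω₂) →* Ω₂) : P →* Ω₁ × Ω₂ :=
  (φ₁.comp ((MonoidHom.fst Ω₁ Ω₂).subgroupMap P)).prod (φ₂.comp ((MonoidHom.snd Ω₁ Ω₂).subgroupMap P))

theorem map_fst_le {P : Subgroup (Ω₁ × Ω₂)} (hP : P ≤ S₁.prod S₂) :
    P.map (MonoidHom.fst Ω₁ Ω₂) ≤ S₁ := by
  rintro _ ⟨x, hx, rfl⟩
  exact (hP hx).1

theorem map_snd_le {P : Subgroup (Ω₁ × Ω₂)} (hP : P ≤ S₁.prod S₂) :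
    P.map (MonoidHom.snd Ω₁ Ω₂) ≤ S₂ := by
  rintro _ ⟨x, hx, rfl⟩
  exact (hP hx).2

theorem range_eq_map {Ω Ω' : Type*} [Group Ω] [Group Ω'] (π : Ω →* Ω') {P : Subgroup Ω}
    (φ : P →* Ω) (ψ : P.map π →* Ω') (h : ∀ x : P, ψ ⟨π x, x, x.2, rfl⟩ = π (φ x)) :
    φ.range.map π = ψ.range := by
  ext y
  constructor
  · rintro ⟨_, ⟨x, rfl⟩, rfl⟩
    exact ⟨_, h x⟩
  · rintro ⟨⟨_, x, hx, rfl⟩, rfl⟩
    exact ⟨_, ⟨⟨x, hx⟩, rfl⟩, (h ⟨x, hx⟩).symm⟩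

/-- The direct product of two fusion systems exists. -/
theorem exists_productSystem (F₁ : FusionSystem S₁) (F₂ : FusionSystem S₂) :
    ∃ E : FusionSystem (S₁.prod S₂), IsProductSystem F₁ F₂ E := by
  refine ⟨{
    Hom := fun P => {φ | P ≤ S₁.prod S₂ ∧
      ∃ φ₁ ∈ F₁.Hom (P.map (MonoidHom.fst Ω₁ Ω₂)), ∃ φ₂ ∈ F₂.Hom (P.map (MonoidHom.snd Ω₁ Ω₂)),
        ∀ (x : P) (h₁ : (x : Ω₁ × Ω₂).1 ∈ P.map (MonoidHom.fst Ω₁ Ω₂))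
          (h₂ : (x : Ω₁ × Ω₂).2 ∈ P.map (MonoidHom.snd Ω₁ Ω₂)),
          φ x = (φ₁ ⟨(x : Ω₁ × Ω₂).1, h₁⟩, φ₂ ⟨(x : Ω₁ × Ω₂).2, h₂⟩)}
    le_of_mem := ?_
    injective_of_mem := ?_
    conj_mem := ?_
    comp_mem := ?_
    inv_mem := ?_ }, fun P φ => Iff.rfl⟩
  · rintro P φ ⟨hP, φ₁, hφ₁, φ₂, hφ₂, h⟩
    refine ⟨hP, fun x => ?_⟩
    rw [h x ⟨x, x.2, rfl⟩ ⟨x, x.2, rfl⟩]
    exact ⟨(F₁.le_of_mem hφ₁).2 _, (F₂.le_of_mem hφ₂).2 _⟩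
  · rintro P φ ⟨hP, φ₁, hφ₁, φ₂, hφ₂, h⟩ x y hxy
    rw [h x ⟨x, x.2, rfl⟩ ⟨x, x.2, rfl⟩, h y ⟨y, y.2, rfl⟩ ⟨y, y.2, rfl⟩, Prod.mk.injEq] at hxy
    exact Subtype.ext (Prod.ext (congrArg Subtype.val (F₁.injective_of_mem hφ₁ hxy.1))
      (congrArg Subtype.val (F₂.injective_of_mem hφ₂ hxy.2)))
  · intro P g hP hg
    exact ⟨hP, conjHom _ g.1, F₁.conj_mem (map_fst_le hP) hg.1, conjHom _ g.2,
      F₂.conj_mem (map_snd_le hP) hg.2, fun x _ _ => rfl⟩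
  · rintro P Q φ ψ ⟨hP, φ₁, hφ₁, φ₂, hφ₂, h⟩ ⟨-, ψ₁, hψ₁, ψ₂, hψ₂, h'⟩ hv
    have hv₁ : ∀ y, φ₁ y ∈ Q.map (MonoidHom.fst Ω₁ Ω₂) := by
      rintro ⟨_, x, hx, rfl⟩
      refine ⟨φ ⟨x, hx⟩, hv _, ?_⟩
      show (φ ⟨x, hx⟩).1 = _
      rw [h ⟨x, hx⟩ ⟨x, hx, rfl⟩ ⟨x, hx, rfl⟩]
      rfl
    have hv₂ : ∀ y, φ₂ y ∈ Q.map (MonoidHom.snd Ω₁ Ω₂) := by
      rintro ⟨_, x, hx, rfl⟩
      refine ⟨φ ⟨x, hx⟩, hv _, ?_⟩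
      show (φ ⟨x, hx⟩).2 = _
      rw [h ⟨x, hx⟩ ⟨x, hx, rfl⟩ ⟨x, hx, rfl⟩]
      rfl
    refine ⟨hP, _, F₁.comp_mem hφ₁ hψ₁ hv₁, _, F₂.comp_mem hφ₂ hψ₂ hv₂, fun x h₁ h₂ => ?_⟩
    have he := h x h₁ h₂
    show ψ ⟨φ x, hv x⟩ = _
    rw [h' ⟨φ x, hv x⟩ ⟨φ x, hv x, rfl⟩ ⟨φ x, hv x, rfl⟩]
    refine Prod.ext (congrArg ψ₁ (Subtype.ext ?_)) (congrArg ψ₂ (Subtype.ext ?_))
    · exact congrArg Prod.fst he
    · exact congrArg Prod.snd he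
  · rintro P φ ⟨hP, φ₁, hφ₁, φ₂, hφ₂, h⟩
    have e₁ := range_eq_map (MonoidHom.fst Ω₁ Ω₂) φ φ₁ fun x =>
      (congrArg Prod.fst (h x ⟨x, x.2, rfl⟩ ⟨x, x.2, rfl⟩)).symm
    have e₂ := range_eq_map (MonoidHom.snd Ω₁ Ω₂) φ φ₂ fun x =>
      (congrArg Prod.snd (h x ⟨x, x.2, rfl⟩ ⟨x, x.2, rfl⟩)).symm
    obtain ⟨ψ₁, hψ₁, hψ₁v⟩ := F₁.inv_mem hφ₁
    obtain ⟨ψ₂, hψ₂, hψ₂v⟩ := F₂.inv_mem hφ₂
    refine ⟨pairHom φ.range (ψ₁.comp (Subgroup.inclusion e₁.le))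
      (ψ₂.comp (Subgroup.inclusion e₂.le)), ⟨?_, _, restrict_mem F₁ hψ₁ e₁.le, _,
      restrict_mem F₂ hψ₂ e₂.le, fun x _ _ => rfl⟩, fun x => ?_⟩
    · rintro _ ⟨x, rfl⟩
      rw [h x ⟨x, x.2, rfl⟩ ⟨x, x.2, rfl⟩]
      exact ⟨(F₁.le_of_mem hφ₁).2 _, (F₂.le_of_mem hφ₂).2 _⟩
    · have he := h x ⟨x, x.2, rfl⟩ ⟨x, x.2, rfl⟩
      refine Prod.ext (Eq.trans (congrArg ψ₁ (Subtype.ext ?_)) (hψ₁v ⟨_, x, x.2, rfl⟩))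
        (Eq.trans (congrArg ψ₂ (Subtype.ext ?_)) (hψ₂v ⟨_, x, x.2, rfl⟩))
      · exact congrArg Prod.fst he
      · exact congrArg Prod.snd he

variable {F₁ : FusionSystem S₁} {F₂ : FusionSystem S₂} {E : FusionSystem (S₁.prod S₂)}

theorem isMap_product_iff (hE : IsProductSystem F₁ F₂ E) {P : Subgroup (Ω₁ × Ω₂)}
    {f : Ω₁ × Ω₂ → Ω₁ × Ω₂} :
    IsMap E P f ↔ P ≤ S₁.prod S₂ ∧ ∃ f₁ f₂, IsMap F₁ (P.map (MonoidHom.fst Ω₁ Ω₂)) f₁ ∧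
      IsMap F₂ (P.map (MonoidHom.snd Ω₁ Ω₂)) f₂ ∧ ∀ x ∈ P, f x = (f₁ x.1, f₂ x.2) := by
  constructor
  · rintro ⟨φ, hφ, hv⟩
    obtain ⟨hP, φ₁, hφ₁, φ₂, hφ₂, h⟩ := (hE P φ).1 hφ
    refine ⟨hP, homFun φ₁, homFun φ₂, isMap_homFun hφ₁, isMap_homFun hφ₂, fun x hx => ?_⟩
    have h₁ : x.1 ∈ P.map (MonoidHom.fst Ω₁ Ω₂) := ⟨x, hx, rfl⟩
    have h₂ : x.2 ∈ P.map (MonoidHom.snd Ω₁ Ω₂) := ⟨x, hx, rfl⟩
    rw [homFun_apply φ₁ h₁, homFun_apply φ₂ h₂, ← hv ⟨x, hx⟩]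
    exact h ⟨x, hx⟩ h₁ h₂
  · rintro ⟨hP, f₁, f₂, ⟨φ₁, hφ₁, hv₁⟩, ⟨φ₂, hφ₂, hv₂⟩, hf⟩
    refine ⟨pairHom P φ₁ φ₂, (hE P _).2 ⟨hP, φ₁, hφ₁, φ₂, hφ₂, fun x _ _ => rfl⟩, fun x => ?_⟩
    rw [hf x x.2]
    exact Prod.ext (hv₁ _) (hv₂ _)

section Proj

variable {Ω Ω' : Type*} [Group Ω] [Group Ω'] {S : Subgroup Ω} {S' : Subgroup Ω'}
variable {F : FusionSystem S} {F' : FusionSystem S'} {π : Ω →* Ω'}

/-- A conjugation in a projection making a `p`-group of automorphisms inner there. -/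
theorem exists_proj_conj [Finite S'] {p : ℕ} [Fact p.Prime] (hS' : IsPGroup p S')
    (hproj : ∀ (P : Subgroup Ω) (f : Ω → Ω), IsMap F P f →
      ∃ f', IsMap F' (P.map π) f' ∧ ∀ x ∈ P, f' (π x) = π (f x))
    {P : Subgroup Ω} (hP : P ≤ S) (ha : F'.IsFullyAutomized p (P.map π))
    {R : Subgroup (MulAut P)} (hR : R ≤ F.autGroup P) (hRp : IsPGroup p R) :
    ∃ g, IsIso F' (P.map π) (P.map π) g ∧ ∀ a ∈ R, ∃ h ∈ S', ∀ x ∈ P,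
      g (π (autFun a x)) = h * g (π x) * h⁻¹ := by
  have hP' := ha.1
  have := finite_of_le hP'
  have key : ∀ a : R, ∃ b ∈ F'.autGroup (P.map π), ∀ x : P,
      ((b ⟨π x, x, x.2, rfl⟩ : P.map π) : Ω') = π (((a : MulAut P) x : P) : Ω) := by
    intro a
    obtain ⟨f', hf', hv⟩ := hproj P _ ((mem_autGroup_iff hP _).1 (hR a.2)).isMap
    have hmem : ∀ y ∈ P.map π, f' y ∈ P.map π := by
      rintro _ ⟨x, hx, rfl⟩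
      rw [hv x hx]
      exact ⟨_, autFun_mem _ hx, rfl⟩
    obtain ⟨b, hb, hbv⟩ := exists_mem_autGroup (hf'.isIso_of_card_le hmem le_rfl)
    refine ⟨b, hb, fun x => ?_⟩
    rw [hbv]
    show f' (π x) = _
    rw [hv x x.2, autFun_coe]
  choose b hb hbv using key
  have hext : ∀ u v : MulAut (P.map π),
      (∀ x : P, u ⟨π x, x, x.2, rfl⟩ = v ⟨π x, x, x.2, rfl⟩) → u = v := by
    intro u v huv
    apply MulEquiv.ext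
    rintro ⟨_, x, hx, rfl⟩
    exact huv ⟨x, hx⟩
  let r : R →* MulAut (P.map π) := MonoidHom.mk' b fun a c => hext _ _ fun x => Subtype.ext (by
    rw [hbv, MulAut.mul_apply]
    have : (b c) ⟨π x, x, x.2, rfl⟩ = ⟨π ((c : MulAut P) x : Ω), _, ((c : MulAut P) x).2, rfl⟩ :=
      Subtype.ext (hbv c x)
    rw [this, hbv]
    rfl)
  obtain ⟨β, hβ, hconj⟩ := ((isFullyAutomized_iff hS').1 ha).2 r.range
    (by rintro _ ⟨a, rfl⟩; exact hb a) (hRp.of_surjective r.rangeRestrict r.rangeRestrict_surjective)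
  refine ⟨autFun β, (mem_autGroup_iff hP' β).1 hβ, fun a ha' => ?_⟩
  obtain ⟨h, hh, hhv⟩ := (mem_autInducedBy_iff S' _ _).1 (hconj (b ⟨a, ha'⟩) ⟨⟨a, ha'⟩, rfl⟩)
  refine ⟨h, hh, fun x hx => ?_⟩
  have h1 := hhv (β ⟨π x, x, hx, rfl⟩)
  rw [MulAut.mul_apply, MulAut.mul_apply, MulAut.inv_apply_self] at h1
  rw [← autFun_coe β] at h1
  have h2 := congrArg (autFun β) (hbv ⟨a, ha'⟩ ⟨x, hx⟩)
  rw [autFun_apply a hx, autFun_apply β (show π x ∈ P.map π from ⟨x, hx, rfl⟩)]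
  exact h2.symm.trans h1

end Proj

/-- Products of saturated systems are saturated. -/
theorem isSaturated_product [Finite S₁] [Finite S₂] {p : ℕ} [Fact p.Prime] (h₁ : IsPGroup p S₁)
    (h₂ : IsPGroup p S₂) (hF₁ : F₁.IsSaturated p) (hF₂ : F₂.IsSaturated p)
    (hE : IsProductSystem F₁ F₂ E) : E.IsSaturated p := by
  haveI : Finite (S₁.prod S₂) := Finite.of_equiv _ (Subgroup.prodEquiv S₁ S₂).symm.toEquiv
  have hS : IsPGroup p (S₁.prod S₂) := by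
    intro x
    obtain ⟨a, ha⟩ := h₁ ⟨_, x.2.1⟩
    obtain ⟨b, hb⟩ := h₂ ⟨_, x.2.2⟩
    refine ⟨a + b, Subtype.ext (Prod.ext ?_ ?_)⟩
    · show (x : Ω₁ × Ω₂).1 ^ p ^ (a + b) = 1
      rw [pow_add, pow_mul, show (x : Ω₁ × Ω₂).1 ^ p ^ a = 1 from congrArg Subtype.val ha, one_pow]
    · show (x : Ω₁ × Ω₂).2 ^ p ^ (a + b) = 1
      rw [pow_add, mul_comm, pow_mul, show (x : Ω₁ × Ω₂).2 ^ p ^ b = 1 from congrArg Subtype.val hb,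
        one_pow]
  intro P hP
  -- make both projections fully normalized
  obtain ⟨Q₁, hc₁, hn₁⟩ := exists_isFullyNormalized (F := F₁) (map_fst_le hP)
  obtain ⟨Q₂, hc₂, hn₂⟩ := exists_isFullyNormalized (F := F₂) (map_snd_le hP)
  obtain ⟨u₁, hu₁⟩ := isConj_iff.1 hc₁
  obtain ⟨u₂, hu₂⟩ := isConj_iff.1 hc₂
  have hu : IsMap E P (fun x => (u₁ x.1, u₂ x.2)) :=
    (isMap_product_iff hE).2 ⟨hP, u₁, u₂, hu₁.isMap, hu₂.isMap, fun _ _ => rfl⟩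
  obtain ⟨P', hP'⟩ := hu.exists_iso
  have hPS := hP'.le_right
  have e₁ : P'.map (MonoidHom.fst Ω₁ Ω₂) = Q₁ := by
    refine le_antisymm ?_ fun y hy => ?_
    · rintro _ ⟨y, hy, rfl⟩
      obtain ⟨x, hx, rfl⟩ := hP'.surj hy
      exact hu₁.mem ⟨x, hx, rfl⟩
    · obtain ⟨_, ⟨x, hx, rfl⟩, rfl⟩ := hu₁.surj hy
      exact ⟨_, hP'.mem hx, rfl⟩
  have e₂ : P'.map (MonoidHom.snd Ω₁ Ω₂) = Q₂ := by
    refine le_antisymm ?_ fun y hy => ?_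
    · rintro _ ⟨y, hy, rfl⟩
      obtain ⟨x, hx, rfl⟩ := hP'.surj hy
      exact hu₂.mem ⟨x, hx, rfl⟩
    · obtain ⟨_, ⟨x, hx, rfl⟩, rfl⟩ := hu₂.surj hy
      exact ⟨_, hP'.mem hx, rfl⟩
  -- a Sylow subgroup of the automizer
  have := finite_of_le hPS
  have := finite_mulAut P'
  obtain ⟨R⟩ : Nonempty (Sylow p (E.autGroup P')) := inferInstance
  obtain ⟨g₁, hg₁, hv₁⟩ := exists_proj_conj (F := E) (F' := F₁) (π := MonoidHom.fst Ω₁ Ω₂) h₁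
    (fun A f hf => by
      obtain ⟨-, f₁, f₂, hf₁, -, hf'⟩ := (isMap_product_iff hE).1 hf
      exact ⟨f₁, hf₁, fun x hx => (congrArg Prod.fst (hf' x hx)).symm⟩)
    hPS (e₁.symm ▸ isFullyAutomized_of_isFullyNormalized h₁ hF₁ hn₁)
    (Subgroup.map_subtype_le _) (R.isPGroup'.map (E.autGroup P').subtype)
  obtain ⟨g₂, hg₂, hv₂⟩ := exists_proj_conj (F := E) (F' := F₂) (π := MonoidHom.snd Ω₁ Ω₂) h₂
    (fun A f hf => by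
      obtain ⟨-, f₁, f₂, -, hf₂, hf'⟩ := (isMap_product_iff hE).1 hf
      exact ⟨f₂, hf₂, fun x hx => (congrArg Prod.snd (hf' x hx)).symm⟩)
    hPS (e₂.symm ▸ isFullyAutomized_of_isFullyNormalized h₂ hF₂ hn₂)
    (Subgroup.map_subtype_le _) (R.isPGroup'.map (E.autGroup P').subtype)
  set g : Ω₁ × Ω₂ → Ω₁ × Ω₂ := fun x => (g₁ x.1, g₂ x.2) with hgdef
  have hg : IsMap E P' g :=
    (isMap_product_iff hE).2 ⟨hPS, g₁, g₂, hg₁.isMap, hg₂.isMap, fun _ _ => rfl⟩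
  obtain ⟨Q, hQ⟩ := hg.exists_iso
  have hQS := hQ.le_right
  have f₁ : Q.map (MonoidHom.fst Ω₁ Ω₂) = Q₁ := by
    rw [← e₁]
    refine le_antisymm ?_ fun y hy => ?_
    · rintro _ ⟨y, hy, rfl⟩
      obtain ⟨x, hx, rfl⟩ := hQ.surj hy
      exact hg₁.mem ⟨x, hx, rfl⟩
    · obtain ⟨_, ⟨x, hx, rfl⟩, rfl⟩ := hg₁.surj hy
      exact ⟨_, hQ.mem hx, rfl⟩
  have f₂ : Q.map (MonoidHom.snd Ω₁ Ω₂) = Q₂ := by
    rw [← e₂]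
    refine le_antisymm ?_ fun y hy => ?_
    · rintro _ ⟨y, hy, rfl⟩
      obtain ⟨x, hx, rfl⟩ := hQ.surj hy
      exact hg₂.mem ⟨x, hx, rfl⟩
    · obtain ⟨_, ⟨x, hx, rfl⟩, rfl⟩ := hg₂.surj hy
      exact ⟨_, hQ.mem hx, rfl⟩
  refine ⟨Q, isConj_trans hP'.isConj hQ.isConj, (isFullyAutomized_iff hS).2 ⟨hQS,
    fun A hA hAp => ?_⟩, isReceptive_iff.2 ⟨hQS, fun P₀ f hf => ?_⟩⟩
  · -- fully automized
    set c := MulAut.congr hQ.equiv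
    have hA' : A.map c.symm.toMonoidHom ≤ E.autGroup P' := by
      rintro _ ⟨a, ha, rfl⟩
      exact hQ.congr_symm_mem_autGroup (hA ha)
    obtain ⟨R', hR'⟩ := (((hAp.map c.symm.toMonoidHom)).of_equiv
      (Subgroup.subgroupOfEquivOfLe hA').symm).exists_le_sylow
    obtain ⟨γ, hγ⟩ := MulAction.exists_smul_eq (E.autGroup P') R' R
    refine ⟨c γ, hQ.congr_mem_autGroup γ.2, fun a ha => ?_⟩
    have hm : (γ * ⟨c.symm a, hA' ⟨a, ha, rfl⟩⟩ * γ⁻¹ : E.autGroup P') ∈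
        (R : Subgroup (E.autGroup P')) := by
      rw [← hγ, Sylow.coe_subgroup_smul, Subgroup.mem_pointwise_smul_iff_inv_smul_mem]
      simpa [mul_assoc] using hR' (show (⟨c.symm a, hA' ⟨a, ha, rfl⟩⟩ : E.autGroup P') ∈
        (A.map c.symm.toMonoidHom).subgroupOf _ from ⟨a, ha, rfl⟩)
    set r : MulAut P' := (γ : MulAut P') * c.symm a * (γ : MulAut P')⁻¹
    have hr : r ∈ (R : Subgroup (E.autGroup P')).map (E.autGroup P').subtype := ⟨_, hm, rfl⟩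
    have hcr : c r = c γ * a * (c γ)⁻¹ := by
      rw [map_mul, map_mul, map_inv, MulEquiv.apply_symm_apply]
    rw [← hcr]
    obtain ⟨k₁, hk₁, hkv₁⟩ := hv₁ r hr
    obtain ⟨k₂, hk₂, hkv₂⟩ := hv₂ r hr
    refine (mem_autInducedBy_iff _ _ _).2 ⟨(k₁, k₂), ⟨hk₁, hk₂⟩, fun y => ?_⟩
    obtain ⟨x, rfl⟩ := hQ.equiv.surjective y
    rw [hQ.congr_apply, hQ.equiv_apply, hgdef]
    refine Prod.ext ?_ ?_
    · have := hkv₁ x x.2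
      rw [autFun_coe] at this
      exact this
    · have := hkv₂ x x.2
      rw [autFun_coe] at this
      exact this
  · -- receptive
    obtain ⟨hP₀, φ₁, φ₂, hφ₁, hφ₂, hfv⟩ := (isMap_product_iff hE).1 hf.isMap
    have i₁ : IsIso F₁ (P₀.map (MonoidHom.fst Ω₁ Ω₂)) Q₁ φ₁ := by
      refine ⟨hφ₁, ?_⟩
      rw [← f₁]
      ext y
      constructor
      · rintro ⟨_, ⟨x, hx, rfl⟩, rfl⟩
        exact ⟨f x, hf.mem hx, congrArg Prod.fst (hfv x hx)⟩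
      · rintro ⟨z, hz, rfl⟩
        obtain ⟨x, hx, rfl⟩ := hf.surj hz
        exact ⟨x.1, ⟨x, hx, rfl⟩, (congrArg Prod.fst (hfv x hx)).symm⟩
    have i₂ : IsIso F₂ (P₀.map (MonoidHom.snd Ω₁ Ω₂)) Q₂ φ₂ := by
      refine ⟨hφ₂, ?_⟩
      rw [← f₂]
      ext y
      constructor
      · rintro ⟨_, ⟨x, hx, rfl⟩, rfl⟩
        exact ⟨f x, hf.mem hx, congrArg Prod.snd (hfv x hx)⟩
      · rintro ⟨z, hz, rfl⟩
        obtain ⟨x, hx, rfl⟩ := hf.surj hz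
        exact ⟨x.2, ⟨x, hx, rfl⟩, (congrArg Prod.snd (hfv x hx)).symm⟩
    obtain ⟨ψ₁, hψ₁, hψ₁v⟩ :=
      (isReceptive_iff.1 (isReceptive_of_isFullyNormalized h₁ hF₁ hn₁)).2 _ _ i₁
    obtain ⟨ψ₂, hψ₂, hψ₂v⟩ :=
      (isReceptive_iff.1 (isReceptive_of_isFullyNormalized h₂ hF₂ hn₂)).2 _ _ i₂
    set N := nPhi (S₁.prod S₂) P₀ f
    have n₁ : N.map (MonoidHom.fst Ω₁ Ω₂) ≤ nPhi S₁ (P₀.map (MonoidHom.fst Ω₁ Ω₂)) φ₁ := by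
      rintro _ ⟨n, ⟨hn, hnn, k, hk, hkv⟩, rfl⟩
      refine ⟨hn.1, mem_normalizer_of_conj_mem (map_fst_le hP₀) ?_, k.1, hk.1, ?_⟩
      · rintro _ ⟨x, hx, rfl⟩
        exact ⟨_, conj_mem_of_mem_normalizer hnn hx, rfl⟩
      · rintro _ ⟨x, hx, rfl⟩
        have h := congrArg Prod.fst (hkv x hx)
        rw [hfv _ (conj_mem_of_mem_normalizer hnn hx), hfv x hx] at h
        exact h
    have n₂ : N.map (MonoidHom.snd Ω₁ Ω₂) ≤ nPhi S₂ (P₀.map (MonoidHom.snd Ω₁ Ω₂)) φ₂ := by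
      rintro _ ⟨n, ⟨hn, hnn, k, hk, hkv⟩, rfl⟩
      refine ⟨hn.2, mem_normalizer_of_conj_mem (map_snd_le hP₀) ?_, k.2, hk.2, ?_⟩
      · rintro _ ⟨x, hx, rfl⟩
        exact ⟨_, conj_mem_of_mem_normalizer hnn hx, rfl⟩
      · rintro _ ⟨x, hx, rfl⟩
        have h := congrArg Prod.snd (hkv x hx)
        rw [hfv _ (conj_mem_of_mem_normalizer hnn hx), hfv x hx] at h
        exact h
    refine ⟨fun x => (ψ₁ x.1, ψ₂ x.2), (isMap_product_iff hE).2 ⟨nPhi_le_self _ _, ψ₁, ψ₂,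
      hψ₁.mono n₁, hψ₂.mono n₂, fun _ _ => rfl⟩, fun x hx => ?_⟩
    rw [hfv x hx]
    exact Prod.ext (hψ₁v _ ⟨x, hx, rfl⟩) (hψ₂v _ ⟨x, hx, rfl⟩)

end CfsgLib.Fusion
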