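import Mathlib
import Cfsg.Agent.Lib.Fusion.ZJControl
import Cfsg.Agent.Lib.Qd.Stable
import Cfsg.Agent.Lib.Qd.Local
import Cfsg.Agent.Lib.Fusion.FreeSolvable

/-!
`Z(J)` as a functor normal in constrained `Qd(p)`-free groups, with consequences for fusion systems.
-/

set_option autoImplicit false
set_option linter.style.haveILetI false

namespace CfsgLib.Fusion

open Cfsg Cfsg.FusionSystem

universe u

variable {p : ℕ} [Fact p.Prime]

/-- `Z(J(P))` is normal in a constrained `Qd(p)`-free group, `p` odd. -/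
theorem zjFunctor_normal (hp : p ≠ 2) (L : Type u) [Group L] [Finite L] (P : Sylow p L)
    (hc : Subgroup.centralizer ((Cfsg.pCore p L : Subgroup L) : Set L) ≤ Cfsg.pCore p L)
    (hqd : ¬ Cfsg.Involves ↥(Cfsg.qd p) L) :
    ((zjFunctor ↥(P : Subgroup L)).map (P : Subgroup L).subtype).Normal := by
  have e : (zjFunctor ↥(P : Subgroup L)).map (P : Subgroup L).subtype =
      CfsgLib.ZJ.zJ 0 (P : Subgroup L) := by
    rw [← CfsgLib.ZJ.centerThompsonAOf_eq]; exact functorOf_zjFunctor _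
  rw [e]
  haveI := CfsgLib.ZJ.zJ_characteristic hp (Or.inl rfl) P hc
    (CfsgLib.Qd.stableAt_of_qdFree hp hqd _)
  infer_instance

/-- Saturated `Qd(p)`-free systems are constrained, `p` odd. -/
theorem isConstrained_of_qdFree (hp : p ≠ 2) {Ω : Type u} [Group Ω] {S : Subgroup Ω} [Finite S]
    {F : FusionSystem S} (hS : IsPGroup p S) (hF : F.IsSaturated p)
    (hfree : F.IsSectionFree p ↥(Cfsg.qd p)) : F.IsConstrained p :=
  isConstrained_of_sectionFree zjFunctor zjFunctor_ne_bot
    (fun Q R _ _ _ hQ φ => zjFunctor_map Q R hQ φ) (zjFunctor_normal hp) hS hF hfree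

/-- A characteristic subgroup normal in every saturated `Qd(p)`-free system, `p` odd. -/
theorem isNormal_zjFunctor_of_qdFree (hp : p ≠ 2) {Ω : Type u} [Group Ω] {S : Subgroup Ω}
    [Finite S] {F : FusionSystem S} (hS : IsPGroup p S) (hF : F.IsSaturated p)
    (hfree : F.IsSectionFree p ↥(Cfsg.qd p)) : F.IsNormal (functorOf zjFunctor S) :=
  isNormal_functorOf_of_sectionFree zjFunctor zjFunctor_ne_bot
    (fun Q R _ _ _ hQ φ => zjFunctor_map Q R hQ φ) (zjFunctor_normal hp) hS hF hfree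

/-- The fusion system of a `Qd(p)`-free group is solvable, `p` odd. -/
theorem isSolvableSystem_of_qdFree_group (hp : p ≠ 2) {G : Type u} [Group G] [Finite G]
    (P : Sylow p G) (hqd : ¬ Cfsg.Involves ↥(Cfsg.qd p) G) :
    (groupFusionSystem (P : Subgroup G)).IsSolvableSystem := by
  refine isSolvableSystem_of_free_group zjFunctor zjFunctor_ne_bot
    (fun Q R _ _ _ hQ φ => zjFunctor_map Q R hQ φ) (zjFunctor_normal hp)
    (ι := (P : Subgroup G).subtype) ⟨Subtype.val_injective, fun Q hQ φ hφ => ?_⟩ P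
    (Subgroup.range_subtype _).symm hqd
  exact ⟨fun ⟨_, _, g, hg⟩ => ⟨g, hg⟩, fun ⟨g, hg⟩ => ⟨hQ, hφ, g, hg⟩⟩

end CfsgLib.Fusion
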