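import Mathlib
import Cfsg.Agent.Lib.Fusion.Biset

/-!
A finite set with a group action whose numbers of fixed points are constant on the subgroups of
each order inside a given family, and zero outside it; the biset of an arbitrary fusion system.
-/

set_option autoImplicit false

namespace CfsgLib.Fusion

open MulAction

universe u

variable {G : Type u} [Group G]

/-- A right coset as a set. -/
def rightCosetSet (L : Subgroup G) (g : G) : Set G := {x | x * g⁻¹ ∈ L}

theorem preimage_rightCosetSet (L : Subgroup G) (g h : G) :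
    (fun x => h⁻¹ * x) ⁻¹' rightCosetSet L g =
      rightCosetSet (L.map (MulAut.conj h).toMonoidHom) (h * g) := by
  ext x
  show h⁻¹ * x * g⁻¹ ∈ L ↔ x * (h * g)⁻¹ ∈ L.map (MulAut.conj h).toMonoidHom
  constructor
  · intro hx
    exact ⟨_, hx, by show h * (h⁻¹ * x * g⁻¹) * h⁻¹ = _; group⟩
  · rintro ⟨l, hl, e⟩
    have e' : h * l * h⁻¹ = x * (h * g)⁻¹ := e
    rw [show h⁻¹ * x * g⁻¹ = h⁻¹ * (x * (h * g)⁻¹) * h by group, ← e',
      show h⁻¹ * (h * l * h⁻¹) * h = l by group]
    exact hl

theorem preimage_rightCosetSet_eq_iff (L : Subgroup G) (g h : G) :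
    (fun x => h⁻¹ * x) ⁻¹' rightCosetSet L g = rightCosetSet L g ↔ h ∈ L := by
  constructor
  · intro e
    have h1 : g ∈ (fun x => h⁻¹ * x) ⁻¹' rightCosetSet L g := by
      rw [e]; show g * g⁻¹ ∈ L; rw [mul_inv_cancel]; exact L.one_mem
    have h2 : h⁻¹ * g * g⁻¹ ∈ L := h1
    rwa [mul_inv_cancel_right, inv_mem_iff] at h2
  · intro hh
    ext x
    show h⁻¹ * x * g⁻¹ ∈ L ↔ x * g⁻¹ ∈ L
    rw [mul_assoc]
    exact L.mul_mem_cancel_left (L.inv_mem hh)

theorem eq_of_rightCosetSet_eq {L M : Subgroup G} {g g' : G}
    (e : rightCosetSet L g = rightCosetSet M g') : L = M := by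
  ext h
  rw [← preimage_rightCosetSet_eq_iff L g, ← preimage_rightCosetSet_eq_iff M g', e]

theorem card_range_rightCosetSet (L : Subgroup G) :
    Nat.card (Set.range (rightCosetSet L)) = L.index := by
  rw [← Nat.card_congr (Setoid.quotientKerEquivRange (rightCosetSet L)), Subgroup.index,
    ← Nat.card_congr (QuotientGroup.quotientRightRelEquivQuotientLeftRel L)]
  refine Nat.card_congr (Quotient.congrRight fun a b => ?_)
  rw [Setoid.ker_def, QuotientGroup.rightRel_apply]
  constructor
  · intro e
    have h1 : b ∈ rightCosetSet L b := by show b * b⁻¹ ∈ L; rw [mul_inv_cancel]; exact L.one_mem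
    rw [← e] at h1
    exact h1
  · intro hab
    ext x
    show x * a⁻¹ ∈ L ↔ x * b⁻¹ ∈ L
    rw [show x * a⁻¹ = x * b⁻¹ * (b * a⁻¹) by group]
    exact L.mul_mem_cancel_right hab

/-- A finite set with prescribed stabilizers and constant marks on each order. -/
theorem exists_uniform_marks [Finite G] (K : Subgroup G → Prop)
    (hdown : ∀ L M : Subgroup G, L ≤ M → K M → K L)
    (hconj : ∀ (L : Subgroup G) (g : G), K L → K (L.map (MulAut.conj g).toMonoidHom)) :
    ∃ (X : Type u) (_ : Finite X) (_ : MulAction G X), (∀ x : X, K (stabilizer G x)) ∧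
      ∃ c : ℕ → ℕ, ∀ L : Subgroup G, K L → fixN X L = c (Nat.card L) ∧ 0 < c (Nat.card L) := by
  suffices hmain : ∀ k : ℕ, ∃ (X : Type u) (_ : Finite X) (_ : MulAction G X),
      (∀ x : X, K (stabilizer G x) ∧ Nat.card G < Nat.card (stabilizer G x) + k) ∧
      ∃ c : ℕ → ℕ, ∀ L : Subgroup G, K L → Nat.card G < Nat.card L + k →
        fixN X L = c (Nat.card L) ∧ 0 < c (Nat.card L) by
    obtain ⟨X, hfin, act, hst, c, hc⟩ := hmain (Nat.card G)
    exact ⟨X, hfin, act, fun x => (hst x).1, c,
      fun L hL => hc L hL (by have := Nat.card_pos (α := L); omega)⟩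
  intro k
  induction k with
  | zero =>
    refine ⟨PEmpty, inferInstance,
      { smul := fun _ x => x, one_smul := fun x => x.elim, mul_smul := fun _ _ x => x.elim },
      fun x => x.elim, 0, fun L _ hL => ?_⟩
    have := L.card_le_card_group
    omega
  | succ k ih =>
    obtain ⟨X, hfin, act, hst, c, hc⟩ := ih
    set n := Nat.card G - k with hn
    set C := Nat.card X + 1 with hC
    obtain ⟨M, hM, hM0⟩ : ∃ M : ℕ, (∀ L : Subgroup G, Nat.card L = n → L.index = M) ∧ 0 < M := by
      by_cases h : ∃ L : Subgroup G, Nat.card L = n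
      · obtain ⟨L, hL⟩ := h
        refine ⟨L.index, fun L' hL' => ?_, Nat.pos_of_ne_zero L.index_ne_zero_of_finite⟩
        exact Nat.eq_of_mul_eq_mul_left (hL ▸ Nat.card_pos : 0 < n)
          (((hL' ▸ L'.card_mul_index : n * L'.index = _)).trans
            (hL ▸ L.card_mul_index : n * L.index = _).symm)
      · exact ⟨1, fun L hL => absurd ⟨L, hL⟩ h, one_pos⟩
    let b : Subgroup G → ℕ := fun L => C - fixN X L
    have hb : ∀ (L : Subgroup G) (g : G),
        b (L.map (MulAut.conj g).toMonoidHom) = b L := fun L g => by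
      simp only [b, fixN_map_conj]
    have hcardconj : ∀ (L : Subgroup G) (g : G),
        Nat.card (L.map (MulAut.conj g).toMonoidHom) = Nat.card L := fun L g =>
      (Nat.card_congr (L.equivMapOfInjective _ (MulAut.conj g).injective).toEquiv).symm
    set N := C with hN
    let Y := {z : Fin N × Set G // ∃ (L : Subgroup G) (g : G), K L ∧ Nat.card L = n ∧
      (z.1 : ℕ) < b L ∧ z.2 = rightCosetSet L g}
    have hYact : ∀ (h : G) (z : Y), ∃ (L : Subgroup G) (g : G), K L ∧ Nat.card L = n ∧
        (z.1.1 : ℕ) < b L ∧ (fun x => h⁻¹ * x) ⁻¹' z.1.2 = rightCosetSet L g := by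
      rintro h ⟨z, L, g, hK, hcard, hlt, he⟩
      exact ⟨L.map (MulAut.conj h).toMonoidHom, h * g, hconj L h hK, (hcardconj L h).trans hcard,
        (hb L h).symm ▸ hlt, by rw [he, preimage_rightCosetSet]⟩
    letI actY : MulAction G Y :=
      { smul := fun h z => ⟨(z.1.1, (fun x => h⁻¹ * x) ⁻¹' z.1.2), hYact h z⟩
        one_smul := fun z => Subtype.ext (Prod.ext rfl (by
          show (fun x => (1 : G)⁻¹ * x) ⁻¹' z.1.2 = z.1.2
          simp))
        mul_smul := fun a a' z => Subtype.ext (Prod.ext rfl (by
          show (fun x => (a * a')⁻¹ * x) ⁻¹' z.1.2 =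
            (fun x => a⁻¹ * x) ⁻¹' ((fun x => a'⁻¹ * x) ⁻¹' z.1.2)
          simp [Set.preimage_preimage, mul_assoc])) }
    letI actX : MulAction G (Fin (M) × X) :=
      { smul := fun g z => (z.1, g • z.2)
        one_smul := fun z => Prod.ext rfl (one_smul G z.2)
        mul_smul := fun a a' z => Prod.ext rfl (mul_smul a a' z.2) }
    have hstY : ∀ z : Y, ∃ (L : Subgroup G) (g : G), K L ∧ Nat.card L = n ∧ (z.1.1 : ℕ) < b L ∧
        z.1.2 = rightCosetSet L g ∧ stabilizer G z = L := by
      rintro ⟨z, L, g, hK, hcard, hlt, he⟩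
      refine ⟨L, g, hK, hcard, hlt, he, ?_⟩
      ext h
      rw [mem_stabilizer_iff, ← preimage_rightCosetSet_eq_iff L g h]
      conv_rhs => rw [← he]
      exact ⟨fun e => congrArg (fun w : Y => w.1.2) e, fun e => Subtype.ext (Prod.ext rfl e)⟩
    have hstX : ∀ z : Fin (M) × X, stabilizer G z = stabilizer G z.2 := fun z => by
      ext h
      rw [mem_stabilizer_iff, mem_stabilizer_iff]
      exact ⟨fun e => congrArg Prod.snd e, fun e => Prod.ext rfl e⟩
    letI act' : MulAction G ((Fin (M) × X) ⊕ Y) :=
      { smul := fun g => Sum.map (g • ·) (g • ·)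
        one_smul := by
          rintro (x | y) <;> show Sum.map _ _ _ = _ <;> simp
        mul_smul := by
          rintro a a' (x | y) <;> show Sum.map _ _ _ = Sum.map _ _ (Sum.map _ _ _) <;>
            simp [mul_smul] }
    have hstl : ∀ z : Fin (M) × X,
        stabilizer G (Sum.inl z : (Fin (M) × X) ⊕ Y) = stabilizer G z := fun z => by
      ext h
      rw [mem_stabilizer_iff, mem_stabilizer_iff]
      exact ⟨fun e => Sum.inl.inj e, fun e => congrArg Sum.inl e⟩
    have hstr : ∀ z : Y,
        stabilizer G (Sum.inr z : (Fin (M) × X) ⊕ Y) = stabilizer G z := fun z => by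
      ext h
      rw [mem_stabilizer_iff, mem_stabilizer_iff]
      exact ⟨fun e => Sum.inr.inj e, fun e => congrArg Sum.inr e⟩
    have hfix : ∀ L : Subgroup G, fixN ((Fin (M) × X) ⊕ Y) L =
        M * fixN X L + Nat.card {z : Y // L ≤ stabilizer G z} := by
      intro L
      rw [fixN, Nat.card_congr (Equiv.subtypeSum), Nat.card_sum]
      congr 1
      · let e : {z : Fin M × X // L ≤ stabilizer G (Sum.inl z : (Fin (M) × X) ⊕ Y)} ≃
            Fin M × {x : X // L ≤ stabilizer G x} :=
          { toFun := fun z => (z.1.1, ⟨z.1.2, by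
              have h := z.2
              rwa [hstl, hstX] at h⟩)
            invFun := fun z => ⟨(z.1, z.2.1), by rw [hstl, hstX]; exact z.2.2⟩
            left_inv := fun z => rfl
            right_inv := fun z => rfl }
        rw [Nat.card_congr e, Nat.card_prod, Nat.card_fin]
        rfl
      · exact Nat.card_congr (Equiv.subtypeEquivRight fun z => by rw [hstr])
    refine ⟨(Fin (M) × X) ⊕ Y, inferInstance, act', ?_,
      fun m => if m = n then M * C else M * c m,
      fun L hL hlt => ?_⟩
    · rintro (z | z)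
      · rw [hstl, hstX]
        exact ⟨(hst z.2).1, by have := (hst z.2).2; omega⟩
      · rw [hstr]
        obtain ⟨L, g, hK, hcard, -, -, he⟩ := hstY z
        rw [he]
        refine ⟨hK, ?_⟩
        have := Nat.card_pos (α := L)
        omega
    · dsimp only
      rw [hfix]
      by_cases hLn : Nat.card L = n
      · rw [if_pos hLn]
        have hle : fixN X L ≤ Nat.card X :=
          Nat.card_le_card_of_injective _ Subtype.val_injective
        have hY : Nat.card {z : Y // L ≤ stabilizer G z} = b L * L.index := by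
          let e : {z : Y // L ≤ stabilizer G z} → Fin (b L) × Set.range (rightCosetSet L) := fun z =>
            (⟨z.1.1.1, by
              obtain ⟨M, g, -, hcard, hlt', -, he⟩ := hstY z.1
              have hz := z.2
              rw [he] at hz
              exact (congrArg b (Subgroup.eq_of_le_of_card_ge hz (by omega))).symm ▸ hlt'⟩,
             ⟨z.1.1.2, by
              obtain ⟨M, g, -, hcard, -, hs, he⟩ := hstY z.1
              have hz := z.2
              rw [he] at hz
              rw [hs, ← Subgroup.eq_of_le_of_card_ge hz (by omega)]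
              exact ⟨g, rfl⟩⟩)
          rw [Nat.card_eq_of_bijective e ⟨fun z w h => ?_, fun w => ?_⟩, Nat.card_prod, Nat.card_fin,
            card_range_rightCosetSet]
          · have h1 := congrArg (fun q : Fin (b L) × Set.range (rightCosetSet L) => (q.1 : ℕ)) h
            have h2 := congrArg (fun q : Fin (b L) × Set.range (rightCosetSet L) => (q.2 : Set G)) h
            exact Subtype.ext (Subtype.ext (Prod.ext (Fin.ext h1) h2))
          · obtain ⟨i, s, g, rfl⟩ := w
            have hi : (i : ℕ) < N := lt_of_lt_of_le i.2 (by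
              exact Nat.sub_le _ _)
            refine ⟨⟨⟨(⟨i, hi⟩, rightCosetSet L g), L, g, hL, hLn, i.2, rfl⟩, ?_⟩, ?_⟩
            · intro h hh
              rw [mem_stabilizer_iff]
              exact Subtype.ext (Prod.ext rfl ((preimage_rightCosetSet_eq_iff L g h).2 hh))
            · exact Prod.ext (Fin.ext rfl) (Subtype.ext rfl)
        rw [hY, hM L hLn]
        refine ⟨?_, Nat.mul_pos hM0 (Nat.succ_pos _)⟩
        show M * fixN X L + (C - fixN X L) * M = M * C
        rw [mul_comm (C - fixN X L), ← Nat.mul_add, Nat.add_sub_cancel' (by omega)]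
      · rw [if_neg hLn]
        have hbig : Nat.card G < Nat.card L + k := by
          have := L.card_le_card_group
          omega
        obtain ⟨h1, h2⟩ := hc L hL hbig
        have hnle : n < Nat.card L := by omega
        have hY : Nat.card {z : Y // L ≤ stabilizer G z} = 0 := by
          rw [Nat.card_eq_zero]
          refine Or.inl ⟨fun z => ?_⟩
          obtain ⟨M, g, -, hcard, -, -, he⟩ := hstY z.1
          have hz := z.2
          rw [he] at hz
          have := Subgroup.card_le_of_le hz
          omega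
        rw [hY, h1, add_zero]
        exact ⟨rfl, Nat.mul_pos hM0 h2⟩

end CfsgLib.Fusion
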