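import Mathlib
import Cfsg.Agent.Lib.Fusion.UniformMarks

/-!
Every fusion system over a finite group is realized inside a finite group (Park).
-/

set_option autoImplicit false

namespace CfsgLib.Fusion

open Cfsg Cfsg.FusionSystem MulAction

universe u

variable {Ω : Type u} [Group Ω] {S : Subgroup Ω}

/-- The homomorphism `(x, t) ↦ (u x, t)`. -/
def leftMap {P : Subgroup Ω} (u : P →* S) : P × S →* S × S := MonoidHom.prodMap u (MonoidHom.id S)

theorem leftMap_injective {P : Subgroup Ω} {u : P →* S} (hu : Function.Injective u) :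
    Function.Injective (leftMap u) := fun a b e => by
  have h1 := congrArg Prod.fst e
  have h2 := congrArg Prod.snd e
  exact Prod.ext (hu h1) h2

theorem twDiag_leftMap {F : FusionSystem S} {P : Subgroup Ω} {u v : P →* S} {g : Ω → Ω}
    (hv' : IsMap F (v.range.map S.subtype) g) (hv : ∀ x : P, g (v x : S) = (u x : S))
    {H : Subgroup (P × S)}
    (h : TwDiag F (H.map (leftMap u))) : TwDiag F (H.map (leftMap v)) := by
  obtain ⟨f, hf, hfv⟩ := h
  have hle : srcSub (H.map (leftMap v)) ≤ v.range.map S.subtype := by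
    rintro _ ⟨_, ⟨k, -, rfl⟩, rfl⟩
    exact ⟨v k.1, ⟨k.1, rfl⟩, rfl⟩
  refine ⟨f ∘ g, (hv'.mono hle).comp hf ?_, ?_⟩
  · rintro _ ⟨_, ⟨k, hk, rfl⟩, rfl⟩
    show g (v k.1 : S) ∈ srcSub (H.map (leftMap u))
    rw [hv]
    exact mem_srcSub (k := leftMap u k) ⟨k, hk, rfl⟩
  · rintro _ ⟨k, hk, rfl⟩
    show f (g (v k.1 : S)) = (k.2 : Ω)
    rw [hv]
    exact hfv (leftMap u k) ⟨k, hk, rfl⟩

theorem exists_realization [Finite S] (F : FusionSystem S) :
    ∃ (G : Type u) (_ : Group G) (_ : Finite G) (ι : ↥S →* G), F.IsRealizedBy ι := by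
  classical
  obtain ⟨X, hfin, act, hst, c, hc⟩ := exists_uniform_marks (G := ↥S × ↥S) (TwDiag F)
    (fun L M hLM hM => hM.mono hLM) (fun L g hL => hL.map_conj g)
  have hbot : TwDiag F (⊥ : Subgroup (↥S × ↥S)) :=
    ⟨id, isMap_id (srcSub_le _), fun k hk => by rw [Subgroup.mem_bot.1 hk]; rfl⟩
  have hne : Nonempty X := by
    obtain ⟨h1, h2⟩ := hc ⊥ hbot
    by_contra h
    rw [not_nonempty_iff] at h
    rw [← h1] at h2
    exact h2.ne' Nat.card_of_isEmpty
  let R : Subgroup (Equiv.Perm X) :=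
    { carrier := {e | ∀ (t : S) (x : X), e (((1, t) : ↥S × ↥S) • x) = ((1, t) : ↥S × ↥S) • e x}
      one_mem' := fun _ _ => rfl
      mul_mem' := fun {a b} ha hb t x => by
        rw [Equiv.Perm.mul_apply, hb, ha, Equiv.Perm.mul_apply]
      inv_mem' := fun {a} ha t x => by
        apply a.injective
        show a (a.symm _) = a (((1, t) : ↥S × ↥S) • a.symm x)
        rw [ha, Equiv.apply_symm_apply, Equiv.apply_symm_apply] }
  let ι : ↥S →* R :=
    { toFun := fun s => ⟨MulAction.toPerm ((s, 1) : ↥S × ↥S), fun t x => by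
        show ((s, 1) : ↥S × ↥S) • ((1, t) : ↥S × ↥S) • x = ((1, t) : ↥S × ↥S) • ((s, 1) : ↥S × ↥S) • x
        rw [← mul_smul, ← mul_smul]
        simp⟩
      map_one' := Subtype.ext (Equiv.ext fun x => one_smul (↥S × ↥S) x)
      map_mul' := fun a b => Subtype.ext (Equiv.ext fun x => by
        show ((a * b, 1) : ↥S × ↥S) • x = ((a, 1) : ↥S × ↥S) • ((b, 1) : ↥S × ↥S) • x
        rw [← mul_smul]
        simp) }
  refine ⟨R, inferInstance, inferInstance, ι, ?_, fun P hP φ hφ => ⟨fun hmem => ?_, ?_⟩⟩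
  · rw [injective_iff_map_eq_one]
    intro s hs
    obtain ⟨x⟩ := hne
    have h1 : ((s, 1) : ↥S × ↥S) ∈ stabilizer (↥S × ↥S) x :=
      congrArg (fun e : R => (e : Equiv.Perm X) x) hs
    exact congrArg Prod.fst ((hst x).eq_one_of_snd h1 rfl)
  · set u : P →* S := Subgroup.inclusion hP with hu
    set v : P →* S := φ.codRestrict S hφ with hv
    have hφi : Function.Injective φ := F.injective_of_mem hmem
    obtain ⟨Q, hQ⟩ := (isMap_homFun hmem).exists_iso
    obtain ⟨g, hg, hg1, hg2⟩ := hQ.exists_symm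
    have hur : u.range.map S.subtype = P := by
      rw [MonoidHom.map_range, show S.subtype.comp u = P.subtype from MonoidHom.ext fun x => rfl,
        Subgroup.range_subtype]
    have hvr : v.range.map S.subtype = Q := by
      apply SetLike.coe_injective
      rw [← hQ.image_eq, image_homFun, MonoidHom.map_range]
      exact congrArg _ (congrArg MonoidHom.range (MonoidHom.ext fun x => rfl))
    have hu1 : ∀ x : P, homFun φ (u x : S) = (v x : S) := fun x => homFun_coe φ x
    have hv1 : ∀ x : P, g (v x : S) = (u x : S) := fun x => by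
      rw [← hu1]; exact hg1 _ x.2
    have hval : ∀ H : Subgroup (P × S),
        fixN X (H.map (leftMap u)) = fixN X (H.map (leftMap v)) := by
      intro H
      have hcard : Nat.card (H.map (leftMap u)) = Nat.card (H.map (leftMap v)) := by
        rw [← Nat.card_congr (H.equivMapOfInjective _
            (leftMap_injective (Subgroup.inclusion_injective hP))).toEquiv,
          ← Nat.card_congr (H.equivMapOfInjective _ (leftMap_injective (u := v)
            (fun a b e => hφi (congrArg Subtype.val e)))).toEquiv]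
      by_cases hL : TwDiag F (H.map (leftMap u))
      · have hM := twDiag_leftMap (v := v) (hg.isMap.mono hvr.le) hv1 hL
        rw [(hc _ hL).1, (hc _ hM).1, hcard]
      · rw [fixN_eq_zero hst hL, fixN_eq_zero hst fun hM => hL
          (twDiag_leftMap (v := u) ((isMap_homFun hmem).mono hur.le) hu1 hM)]
    obtain ⟨e, he⟩ : ∃ e : X ≃ X, ∀ (k : ↥P × ↥S) (x : X),
        e (leftMap u k • x) = leftMap v k • e x := by
      letI a1 : MulAction (↥P × ↥S) X := MulAction.compHom X (leftMap u)
      haveI := finite_of_le hP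
      let B := ULift.{u} X
      letI a2 : MulAction (↥P × ↥S) B :=
        { smul := fun k x => ⟨leftMap v k • x.down⟩
          one_smul := fun x => by
            show ULift.up (leftMap v 1 • x.down) = x
            rw [map_one, one_smul]
          mul_smul := fun k l x => by
            show ULift.up (leftMap v (k * l) • x.down) = ULift.up (leftMap v k • leftMap v l • x.down)
            rw [map_mul, mul_smul] }
      obtain ⟨e, he⟩ := exists_equivariant_equiv (G := ↥P × ↥S) (X := X) (Y := B) fun H => by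
        have h1 : fixN (G := ↥P × ↥S) X H = fixN (G := ↥S × ↥S) X (H.map (leftMap u)) :=
          Nat.card_congr (Equiv.subtypeEquivRight fun x => by
            rw [Subgroup.map_le_iff_le_comap]; exact Iff.rfl)
        have h2 : fixN (G := ↥P × ↥S) B H = fixN (G := ↥S × ↥S) X (H.map (leftMap v)) :=
          Nat.card_congr (Equiv.ulift.subtypeEquiv fun x => by
            rw [Subgroup.map_le_iff_le_comap]
            exact ⟨fun h k hk => congrArg ULift.down (h hk), fun h k hk => congrArg ULift.up (h hk)⟩)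
        rw [h1, h2, hval]
      exact ⟨e.trans Equiv.ulift, fun k x => congrArg ULift.down (he k x)⟩
    refine ⟨⟨e, fun t x => ?_⟩, fun x => ?_⟩
    · have := he (1, t) x
      rw [show leftMap u (1, t) = (1, t) from Prod.ext (map_one u) rfl,
        show leftMap v (1, t) = (1, t) from Prod.ext (map_one v) rfl] at this
      exact this
    · rw [eq_mul_inv_iff_mul_eq]
      refine Subtype.ext (Equiv.ext fun z => ?_)
      show (((v x, 1) : ↥S × ↥S) • e z) = e (((u x, 1) : ↥S × ↥S) • z)
      exact (he (x, 1) z).symm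
  · rintro ⟨e, he⟩
    have hee : ∀ (x : P) (z : X), ((⟨φ x, hφ x⟩, 1) : ↥S × ↥S) • (e : Equiv.Perm X) z =
        (e : Equiv.Perm X) (((⟨x, hP x.2⟩, 1) : ↥S × ↥S) • z) := fun x z => by
      have h1 := eq_mul_inv_iff_mul_eq.1 (he x)
      exact congrArg (fun f : R => (f : Equiv.Perm X) z) h1
    set L := (MonoidHom.prod (Subgroup.inclusion hP) (Subgroup.inclusion hP)).range with hL
    have hLt : TwDiag F L := by
      refine ⟨id, isMap_id (srcSub_le _), ?_⟩
      rintro _ ⟨x, rfl⟩
      rfl
    obtain ⟨⟨z, hz⟩⟩ : Nonempty {z : X // L ≤ stabilizer (↥S × ↥S) z} := by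
      obtain ⟨h1, h2⟩ := hc L hLt
      rw [← h1] at h2
      exact (Nat.card_pos_iff.1 h2).1
    obtain ⟨f, hf, hfv⟩ := hst ((e : Equiv.Perm X) z)
    have hstab : ∀ x : P, ((⟨φ x, hφ x⟩, ⟨x, hP x.2⟩) : ↥S × ↥S) ∈
        stabilizer (↥S × ↥S) ((e : Equiv.Perm X) z) := fun x => by
      rw [mem_stabilizer_iff,
        show ((⟨φ x, hφ x⟩, ⟨x, hP x.2⟩) : ↥S × ↥S) =
          ((⟨φ x, hφ x⟩, 1) : ↥S × ↥S) * ((1, ⟨x, hP x.2⟩) : ↥S × ↥S) by simp,
        mul_smul, ← e.2 ⟨x, hP x.2⟩ z, hee, ← mul_smul]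
      congr 1
      exact mem_stabilizer_iff.1 (hz ⟨x, by simp [Subgroup.inclusion]⟩)
    obtain ⟨g, hg, hg1, -⟩ := IsMap.exists_iso hf |>.choose_spec.exists_symm
    refine mem_hom_of_isMap (hg.isMap.mono fun y hy => ?_) fun x => ?_
    · have := hfv _ (hstab ⟨y, hy⟩)
      have hm : (⟨φ ⟨y, hy⟩, hφ _⟩ : S).1 ∈ srcSub (stabilizer (↥S × ↥S) ((e : Equiv.Perm X) z)) :=
        mem_srcSub (hstab ⟨y, hy⟩)
      have h2 := (IsMap.exists_iso hf).choose_spec.mem hm
      rwa [this] at h2
    · have := hfv _ (hstab x)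
      have hm : φ x ∈ srcSub (stabilizer (↥S × ↥S) ((e : Equiv.Perm X) z)) :=
        mem_srcSub (hstab x)
      rw [← hg1 _ hm]
      exact congrArg g this

end CfsgLib.Fusion
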