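import Mathlib
import Cfsg.Agent.Lib.ZJ.Complement
import Cfsg.Agent.Lib.Fusion.TransportGroup

/-!
Families of abelian subgroups with the replacement property: their intersection is normal in
stable constrained groups, and decides `p`-groups.
-/

set_option autoImplicit false
set_option linter.style.haveILetI false

open scoped commutatorElement

namespace CfsgLib.Fusion

open CfsgLib.Transfer

universe u

/-- An invariant family of abelian subgroups of `S` with the replacement property. -/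
structure ReplFam {L : Type u} [Group L] (S : Subgroup L) (𝒜 : Set (Subgroup L)) : Prop where
  le : ∀ A ∈ 𝒜, A ≤ S
  comm : ∀ A ∈ 𝒜, ∀ x ∈ A, ∀ y ∈ A, x * y = y * x
  ne : 𝒜.Nonempty
  inv : ∀ T : Subgroup L, T ≤ S → (∃ A ∈ 𝒜, A ≤ T) → ∀ n ∈ Subgroup.normalizer (T : Set L),
    ∀ x ∈ T, (∀ A ∈ 𝒜, A ≤ T → x ∈ A) → ∀ A ∈ 𝒜, A ≤ T → n * x * n⁻¹ ∈ A
  rep : ∀ B : Subgroup L, B ≤ S → ⁅⁅B, B⁆, B⁆ = ⊥ → (∃ A ∈ 𝒜, ⁅B, B⁆ ≤ A ∧ ¬ B ≤ A) →
    ∃ A ∈ 𝒜, ⁅B, B⁆ ≤ A ∧ ¬ B ≤ A ∧ B ≤ Subgroup.normalizer (A : Set L)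

/-- The intersection of a family. -/
def famInf {L : Type u} [Group L] (𝒜 : Set (Subgroup L)) : Subgroup L := ⨅ A ∈ 𝒜, A

variable {L : Type u} [Group L] {S : Subgroup L} {𝒜 : Set (Subgroup L)}

theorem mem_famInf {x : L} : x ∈ famInf 𝒜 ↔ ∀ A ∈ 𝒜, x ∈ A := by
  simp [famInf, Subgroup.mem_iInf]

theorem ReplFam.famInf_le (h : ReplFam S 𝒜) : famInf 𝒜 ≤ S := by
  obtain ⟨A, hA⟩ := h.ne
  exact fun x hx => h.le A hA (mem_famInf.1 hx A hA)

theorem ReplFam.famInf_comm (h : ReplFam S 𝒜) {x y : L} (hx : x ∈ famInf 𝒜)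
    (hy : y ∈ famInf 𝒜) : x * y = y * x := by
  obtain ⟨A, hA⟩ := h.ne
  exact h.comm A hA x (mem_famInf.1 hx A hA) y (mem_famInf.1 hy A hA)

theorem ReplFam.le_normalizer [Finite L] (h : ReplFam S 𝒜) :
    S ≤ Subgroup.normalizer (famInf 𝒜 : Set L) := by
  intro s hs
  refine Subgroup.mem_normalizer_fintype fun x hx => mem_famInf.2 fun A hA => ?_
  exact h.inv S le_rfl ⟨A, hA, h.le A hA⟩ s (Subgroup.le_normalizer hs) x (h.famInf_le hx)
    (fun A' hA' _ => mem_famInf.1 hx A' hA') A hA (h.le A hA)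

theorem ReplFam.comap {H : Type u} [Group H] (h : ReplFam S 𝒜) (f : H →* L)
    (hf : Function.Injective f) (hS : S ≤ f.range) :
    ReplFam (S.comap f) ((fun A => A.comap f) '' 𝒜) ∧
      (famInf ((fun A => A.comap f) '' 𝒜)) = (famInf 𝒜).comap f := by
  have hmap : ∀ A : Subgroup L, A ≤ S → (A.comap f).map f = A := fun A hA =>
    Subgroup.map_comap_eq_self (hA.trans hS)
  have hle : ∀ {A : Subgroup L} {T : Subgroup H}, A ≤ S →
      (A.comap f ≤ T ↔ A ≤ T.map f) := by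
    intro A T hA
    constructor
    · intro h'
      rw [← hmap A hA]; exact Subgroup.map_mono h'
    · intro h' x hx
      exact (Subgroup.mem_map_iff_mem hf).1 (h' hx)
  refine ⟨⟨?_, ?_, h.ne.image _, ?_, ?_⟩, ?_⟩
  · rintro _ ⟨A, hA, rfl⟩
    exact Subgroup.comap_mono (h.le A hA)
  · rintro _ ⟨A, hA, rfl⟩ x hx y hy
    exact hf (by rw [map_mul, map_mul]; exact h.comm A hA _ hx _ hy)
  · rintro T hT ⟨_, ⟨A₀, hA₀, rfl⟩, hA₀T⟩ n hn x hx hxall _ ⟨A, hA, rfl⟩ hAT
    show f (n * x * n⁻¹) ∈ A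
    rw [map_mul, map_mul, map_inv]
    refine h.inv (T.map f) (Subgroup.map_le_iff_le_comap.2 hT) ⟨A₀, hA₀, (hle (h.le _ hA₀)).1 hA₀T⟩
      _ (Subgroup.le_normalizer_map f ⟨n, hn, rfl⟩) _ ⟨x, hx, rfl⟩ (fun A' hA' hA'T => ?_) A hA
      ((hle (h.le _ hA)).1 hAT)
    exact hxall _ ⟨A', hA', rfl⟩ ((hle (h.le _ hA')).2 hA'T)
  · rintro B hB hcl ⟨_, ⟨A₀, hA₀, rfl⟩, hA₀1, hA₀2⟩
    obtain ⟨A, hA, h1, h2, h3⟩ := h.rep (B.map f) (Subgroup.map_le_iff_le_comap.2 hB)
      (by rw [← Subgroup.map_commutator, ← Subgroup.map_commutator, hcl, Subgroup.map_bot])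
      ⟨A₀, hA₀, by rw [← Subgroup.map_commutator]; exact Subgroup.map_le_iff_le_comap.2 hA₀1,
        fun h' => hA₀2 (Subgroup.map_le_iff_le_comap.1 h')⟩
    refine ⟨_, ⟨A, hA, rfl⟩, ?_, fun h' => h2 (Subgroup.map_le_iff_le_comap.2 h'), ?_⟩
    · rw [← Subgroup.map_commutator] at h1
      exact Subgroup.map_le_iff_le_comap.1 h1
    · intro b hb
      refine Subgroup.mem_normalizer_iff.2 fun x => ?_
      show f x ∈ A ↔ f (b * x * b⁻¹) ∈ A
      rw [map_mul, map_mul, map_inv]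
      exact Subgroup.mem_normalizer_iff.1 (h3 ⟨b, hb, rfl⟩) (f x)
  · ext x
    simp only [mem_famInf, Set.forall_mem_image, Subgroup.mem_comap]

variable [Finite L] {p : ℕ} [Fact p.Prime]

/-- In a stable group the intersection meets every normal `p`-subgroup in a normal subgroup. -/
theorem ReplFam.inf_normal (T₀ : Sylow p L) (h : ReplFam (T₀ : Subgroup L) 𝒜)
    (hst : CfsgLib.ZJ.StableAt p (T₀ : Subgroup L)) :
    ∀ (n : ℕ) (B : Subgroup L), Nat.card B = n → B.Normal → IsPGroup p B →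
      (B ⊓ famInf 𝒜).Normal := by
  intro n
  induction n using Nat.strong_induction_on with
  | _ n ih =>
  intro B hn hBn hBp
  set W := famInf 𝒜
  haveI := hBn
  have hBS : B ≤ (T₀ : Subgroup L) := CfsgLib.ZJ.normal_le_sylow hBp T₀
  let B₀ := Subgroup.normalClosure ((B ⊓ W : Subgroup L) : Set L)
  have hB₀ : B₀ ≤ B := Subgroup.normalClosure_le_normal fun x hx => hx.1
  have hlt : ∀ X : Subgroup L, X ≤ B → X ≠ B → Nat.card X < n := by
    intro X hX hne
    rw [← hn]
    exact lt_of_le_of_ne (Subgroup.card_le_of_le hX) fun he =>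
      hne (Subgroup.eq_of_le_of_card_ge hX he.ge)
  by_cases hB₀B : B₀ = B
  swap
  · have h1 := ih _ (hlt B₀ hB₀ hB₀B) B₀ rfl Subgroup.normalClosure_normal (hBp.to_le hB₀)
    have e : B₀ ⊓ W = B ⊓ W := le_antisymm (inf_le_inf_right _ hB₀)
      (le_inf Subgroup.le_normalClosure inf_le_right)
    rwa [e] at h1
  rcases eq_or_ne B ⊥ with rfl | hB1
  · rw [bot_inf_eq]; infer_instance
  have hB' : ⁅B, B⁆ ≠ B := fun he => hB1 <| by
    haveI := hBp.isNilpotent
    exact eq_bot_of_le_commutator_self he.ge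
  haveI hBBn : (⁅B, B⁆).Normal := inferInstance
  haveI hXn : (⁅B, B⁆ ⊓ W).Normal :=
    ih _ (hlt _ (Subgroup.commutator_le_self B) hB') _ rfl inferInstance
      (hBp.to_le (Subgroup.commutator_le_self B))
  -- the commutator subgroup lies in the intersection
  let π : L →* L ⧸ (⁅B, B⁆ ⊓ W) := QuotientGroup.mk' _
  have hπ1 : ∀ x, π x = 1 ↔ x ∈ ⁅B, B⁆ ⊓ W := fun x => QuotientGroup.eq_one_iff x
  let C := Subgroup.centralizer ((B.map π : Subgroup (L ⧸ (⁅B, B⁆ ⊓ W))) : Set (L ⧸ (⁅B, B⁆ ⊓ W)))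
  haveI : (B.map π).Normal := hBn.map π (QuotientGroup.mk'_surjective _)
  haveI : C.Normal := inferInstanceAs (Subgroup.centralizer _).Normal
  have hBC : B ≤ C.comap π := by
    refine hB₀B.ge.trans ?_
    refine Subgroup.normalClosure_le_normal fun w hw => ?_
    rintro _ ⟨b, hb, rfl⟩
    have h1 : π ⁅b, w⁆ = 1 := (hπ1 _).2 ⟨Subgroup.commutator_mem_commutator hb hw.1, by
      rw [commutatorElement_def]
      exact W.mul_mem ((Subgroup.mem_normalizer_iff.1 (h.le_normalizer (hBS hb)) w).1 hw.2)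
        (W.inv_mem hw.2)⟩
    rw [commutatorElement_def, map_mul, map_mul, map_mul, map_inv, map_inv, mul_inv_eq_one,
      mul_inv_eq_iff_eq_mul] at h1
    exact h1
  have hBW : ⁅B, B⁆ ≤ W := Subgroup.commutator_le.2 fun a ha b hb => by
    have h1 := (hBC hb) _ ⟨a, ha, rfl⟩
    refine ((hπ1 _).1 ?_).2
    rw [map_commutatorElement, commutatorElement_eq_one_iff_mul_comm]
    exact h1
  have hcl : ⁅⁅B, B⁆, B⁆ = ⊥ := by
    rw [Subgroup.commutator_eq_bot_iff_le_centralizer]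
    haveI : (Subgroup.centralizer (B : Set L)).Normal := inferInstance
    haveI : (Subgroup.centralizer ((⁅B, B⁆ : Subgroup L) : Set L)).Normal := inferInstance
    have h1 : B ≤ Subgroup.centralizer ((⁅B, B⁆ : Subgroup L) : Set L) := by
      conv_lhs => rw [← hB₀B]
      exact Subgroup.normalClosure_le_normal fun w hw c hc => h.famInf_comm (hBW hc) hw.2
    exact fun c hc b hb => (h1 hb c hc).symm
  by_cases hex : ∃ A ∈ 𝒜, ⁅B, B⁆ ≤ A ∧ ¬ B ≤ A
  swap
  · push_neg at hex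
    have : B ≤ W := fun x hx => mem_famInf.2 fun A hA =>
      hex A hA (fun c hc => mem_famInf.1 (hBW hc) A hA) hx
    rw [inf_eq_left.2 this]
    exact hBn
  obtain ⟨A, hA, -, hBA, hBNA⟩ := h.rep B hBS hcl hex
  haveI : (CfsgLib.ZJ.opMod p B).Normal := CfsgLib.ZJ.opMod_normal p B
  set D := CfsgLib.ZJ.opMod p B with hDdef
  have hAD : A ≤ D := fun a ha => hst B hBp a (h.le A hA ha)
    (CfsgLib.ZJ.quadratic_of_normalizes (h.comm A hA) hBNA ha)
  exfalso
  refine hBA ?_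
  rw [← hB₀B]
  refine (Subgroup.closure_le _).2 fun y hy => ?_
  obtain ⟨w, hw, hwy⟩ := Group.mem_conjugatesOfSet_iff.1 hy
  obtain ⟨g, rfl⟩ := _root_.isConj_iff.1 hwy
  obtain ⟨d, hd, hn'⟩ := exists_mul_of_normal T₀ D g
  obtain ⟨R, hR⟩ := (exists_sylow_eq_iff (T₀.isPGroup'.to_le inf_le_left)
    (inf_le_right : (T₀ : Subgroup L) ⊓ D ≤ D)).2 fun U hU hUp => card_le_inf_of_normal T₀ D hU hUp
  have hquot : IsPGroup p (↥D ⧸ (Subgroup.centralizer (B : Set L)).subgroupOf D) := by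
    intro q
    obtain ⟨x, rfl⟩ := QuotientGroup.mk_surjective q
    obtain ⟨k, hk⟩ := CfsgLib.ZJ.exists_pow_mem_centralizer B (show (x : L) ∈ D from x.2)
    refine ⟨k, ?_⟩
    rw [← QuotientGroup.mk_pow, QuotientGroup.eq_one_iff, Subgroup.mem_subgroupOf]
    exact hk
  have htop := sylow_sup_eq_top_of_isPGroup_quotient R _ hquot
  obtain ⟨c, hc, s, hs, hcs⟩ := Subgroup.mem_sup_of_normal_left.1
    (show (⟨d, hd⟩ : D) ∈ (Subgroup.centralizer (B : Set L)).subgroupOf D ⊔ (R : Subgroup D) by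
      rw [sup_comm, htop]; exact Subgroup.mem_top _)
  rw [hR] at hs
  have hd' : d = (c : L) * s := (congrArg Subtype.val hcs).symm
  have hsw : (s : L) * w * (s : L)⁻¹ ∈ B ⊓ W :=
    ⟨hBn.conj_mem w hw.1 _, (Subgroup.mem_normalizer_iff.1 (h.le_normalizer hs.1) w).1 hw.2⟩
  have hdw : d * w * d⁻¹ = (s : L) * w * (s : L)⁻¹ := by
    rw [hd', show (c : L) * s * w * ((c : L) * s)⁻¹ = c * ((s : L) * w * (s : L)⁻¹) * (c : L)⁻¹ by
      group, mul_inv_eq_iff_eq_mul]
    exact ((show (c : L) ∈ Subgroup.centralizer (B : Set L) from hc) _ hsw.1).symm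
  have hmem := h.inv ((T₀ : Subgroup L) ⊓ D) inf_le_left ⟨A, hA, le_inf (h.le A hA) hAD⟩
    _ hn' ((s : L) * w * (s : L)⁻¹)
    ⟨hBS hsw.1, CfsgLib.ZJ.le_opMod B B (fun b hb => by
      obtain ⟨k, hk⟩ := hBp ⟨b, hb⟩
      refine ⟨k, ?_⟩
      rw [show b ^ p ^ k = 1 from congrArg Subtype.val hk]
      exact Subgroup.one_mem _) hsw.1⟩
    (fun A' hA' _ => mem_famInf.1 hsw.2 A' hA') A hA (le_inf (h.le A hA) hAD)
  show g * w * g⁻¹ ∈ A
  rwa [← hdw, show g * d⁻¹ * (d * w * d⁻¹) * (g * d⁻¹)⁻¹ = g * w * g⁻¹ by group] at hmem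

/-- A stable group with self-centralizing `O_p` normalizes the intersection. -/
theorem ReplFam.normal_of_stable (T₀ : Sylow p L) (h : ReplFam (T₀ : Subgroup L) 𝒜)
    (hst : CfsgLib.ZJ.StableAt p (T₀ : Subgroup L))
    (hc : Subgroup.centralizer ((Cfsg.pCore p L : Subgroup L) : Set L) ≤ Cfsg.pCore p L) :
    (famInf 𝒜).Normal := by
  haveI := CfsgLib.Fitting.pCore_normal (G := L) p
  set U := Cfsg.pCore p L
  have hUp : IsPGroup p U := CfsgLib.Fitting.pCore_isPGroup p
  have hUS : U ≤ (T₀ : Subgroup L) := CfsgLib.ZJ.normal_le_sylow hUp T₀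
  haveI : (CfsgLib.ZJ.opMod p U).Normal := CfsgLib.ZJ.opMod_normal p U
  have hDU : CfsgLib.ZJ.opMod p U ≤ U := by
    refine CfsgLib.Fitting.le_pCore inferInstance fun d => ?_
    obtain ⟨k, hk⟩ := CfsgLib.ZJ.exists_pow_mem_centralizer U d.2
    obtain ⟨j, hj⟩ := hUp ⟨_, hc hk⟩
    refine ⟨k + j, Subtype.ext ?_⟩
    rw [Subgroup.coe_pow, pow_add, pow_mul]
    exact congrArg Subtype.val hj
  have hWU : famInf 𝒜 ≤ U := fun w hw => hDU (hst U hUp w (h.famInf_le hw)
    (CfsgLib.ZJ.quadratic_of_normalizes (fun x hx y hy => h.famInf_comm hx hy)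
      (hUS.trans h.le_normalizer) hw))
  have := h.inf_normal T₀ hst _ U rfl inferInstance hUp
  rwa [inf_eq_right.2 hWU] at this

/-- A constrained group, `p`-nilpotent modulo a `p`-subgroup, in which the normalizer of the
intersection is a `p`-group, is a `p`-group. -/
theorem isPGroup_of_replFam (hp2 : p ≠ 2) : ∀ (n : ℕ) (L : Type u) [Group L] [Finite L],
    Nat.card L = n → ∀ (T₀ : Sylow p L) (𝒜 : Set (Subgroup L)), ReplFam (T₀ : Subgroup L) 𝒜 →
    ∀ (U : Subgroup L) [U.Normal], IsPGroup p U → Cfsg.HasNormalPComplement p (L ⧸ U) →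
    Subgroup.centralizer (U : Set L) ≤ U →
    IsPGroup p ↥(Subgroup.normalizer (famInf 𝒜 : Set L)) → IsPGroup p L := by
  intro n
  induction n using Nat.strong_induction_on with
  | _ n IH =>
  intro L _ _ hn T₀ 𝒜 h U₁ _ hU₁ hq hc₁ hN
  haveI := CfsgLib.Fitting.pCore_normal (G := L) p
  set U := Cfsg.pCore p L with hUdef
  have hU : IsPGroup p U := CfsgLib.Fitting.pCore_isPGroup p
  have hU₁U : U₁ ≤ U := CfsgLib.Fitting.le_pCore inferInstance hU₁
  have hCU : Subgroup.centralizer (U : Set L) ≤ U :=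
    ((Subgroup.centralizer_le hU₁U).trans hc₁).trans hU₁U
  have hUS : U ≤ (T₀ : Subgroup L) := CfsgLib.ZJ.normal_le_sylow hU T₀
  -- proper subgroups above the Sylow subgroup
  have hsub : ∀ H : Subgroup L, H ≠ ⊤ → (T₀ : Subgroup L) ≤ H → H = (T₀ : Subgroup L) := by
    intro H hH hSH
    obtain ⟨hfam, hfeq⟩ := h.comap H.subtype H.subtype_injective
      (hSH.trans (le_of_eq H.range_subtype.symm))
    have hU₁H : U₁ ≤ H := (hU₁U.trans hUS).trans hSH
    haveI : (U₁.subgroupOf H).Normal := Subgroup.Normal.comap inferInstance H.subtype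
    have hqH : Cfsg.HasNormalPComplement p (↥H ⧸ U₁.subgroupOf H) := by
      refine hasNormalPComplement_of_injective
        (QuotientGroup.map (U₁.subgroupOf H) U₁ H.subtype le_rfl) ?_ hq
      refine (injective_iff_map_eq_one _).2 fun y hy => ?_
      obtain ⟨x, rfl⟩ := QuotientGroup.mk_surjective y
      have hy' : (((x : H) : L) : L ⧸ U₁) = 1 := hy
      exact (QuotientGroup.eq_one_iff x).2 (Subgroup.mem_subgroupOf.2
        ((QuotientGroup.eq_one_iff ((x : H) : L)).1 hy'))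
    have hcH : Subgroup.centralizer ((U₁.subgroupOf H : Subgroup H) : Set H) ≤ U₁.subgroupOf H :=
      fun x hx => hc₁ fun y hy => congrArg Subtype.val (hx ⟨y, hU₁H hy⟩ hy)
    have hNH : IsPGroup p ↥(Subgroup.normalizer
        (famInf ((fun A => A.comap H.subtype) '' 𝒜) : Set H)) := by
      rw [hfeq]
      refine IsPGroup.of_injective hN ((H.subtype.comp (Subgroup.subtype _)).codRestrict _
        fun x => ?_) fun a b hab => ?_
      · have h3 := Subgroup.le_normalizer_map H.subtype ⟨x, x.2, rfl⟩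
        rw [Subgroup.map_comap_eq_self (by rw [H.range_subtype]; exact h.famInf_le.trans hSH)] at h3
        exact h3
      · have e := congrArg Subtype.val hab
        exact Subtype.ext (Subtype.ext e)
    have hHp : IsPGroup p H := IH _ (hn ▸ lt_of_le_of_ne (Subgroup.card_le_card_group H)
      (fun he => hH (Subgroup.eq_top_of_card_eq H he))) H rfl (T₀.subtype hSH) _ hfam
      (U₁.subgroupOf H) (hU₁.comap_of_injective _ H.subtype_injective) hqH hcH hNH
    exact T₀.3 hHp hSH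
  suffices hst : CfsgLib.ZJ.StableAt p (T₀ : Subgroup L) by
    have htop : Subgroup.normalizer (famInf 𝒜 : Set L) = ⊤ :=
      Subgroup.normalizer_eq_top_iff.2 (h.normal_of_stable T₀ hst hCU)
    exact (htop ▸ hN).of_equiv Subgroup.topEquiv
  -- the quotient by `U`
  set π := QuotientGroup.mk' U with hπ
  have hπs : Function.Surjective π := QuotientGroup.mk'_surjective U
  set Sb : Sylow p (L ⧸ U) := T₀.mapSurjective hπs with hSb
  have hquotNPC : Cfsg.HasNormalPComplement p (L ⧸ U) :=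
    hasNormalPComplement_of_surjective (QuotientGroup.map U₁ U (MonoidHom.id L) hU₁U)
      (fun y => by
        obtain ⟨x, rfl⟩ := QuotientGroup.mk_surjective y
        exact ⟨QuotientGroup.mk x, rfl⟩) hq
  set Kb := Cfsg.pResidual p (L ⧸ U) with hKb
  haveI hKn : Kb.Normal := pResidual_normal p _
  have hKc : (Nat.card Kb).Coprime p :=
    ((Fact.out : p.Prime).coprime_iff_not_dvd.mpr
      (hasNormalPComplement_iff_pResidual.mp hquotNPC)).symm
  have hmin : ∀ K' : Subgroup (L ⧸ U), K' ≤ Kb →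
      (Sb : Subgroup (L ⧸ U)) ≤ Subgroup.normalizer (K' : Set (L ⧸ U)) → K' = ⊥ ∨ K' = Kb := by
    intro K' hK' hSK
    have hcop : (Nat.card K').Coprime p := hKc.coprime_dvd_left (Subgroup.card_dvd_of_le hK')
    have hdL : K' ⊓ (Sb : Subgroup (L ⧸ U)) = ⊥ := Coprime.inf_eq_bot_of_coprime_card
      (PSolvable.coprime_card_of_isPGroup Sb.2 hcop).symm
    by_cases htop : K' ⊔ (Sb : Subgroup (L ⧸ U)) = ⊤
    · right
      refine Subgroup.eq_of_le_of_card_ge hK' ?_
      have h1 := Coprime.card_sup_mul_card_inf hSK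
      rw [htop, hdL, Subgroup.card_bot, mul_one, Subgroup.card_top] at h1
      have h2 := Coprime.card_sup_mul_card_inf (K := Kb) (S := (Sb : Subgroup (L ⧸ U)))
        Subgroup.le_normalizer_of_normal
      rw [sup_sylow_eq_top Sb, Subgroup.card_top, Coprime.inf_eq_bot_of_coprime_card
        (PSolvable.coprime_card_of_isPGroup Sb.2 hKc).symm, Subgroup.card_bot, mul_one, h1] at h2
      exact (Nat.eq_of_mul_eq_mul_right Nat.card_pos h2).ge
    · left
      set H := (K' ⊔ (Sb : Subgroup (L ⧸ U))).comap π with hH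
      have hHtop : H ≠ ⊤ := fun h' => htop (by
        rw [← Subgroup.map_comap_eq_self_of_surjective hπs (K' ⊔ _), ← hH, h',
          Subgroup.map_top_of_surjective _ hπs])
      have hSH : (T₀ : Subgroup L) ≤ H := by
        rw [hH, ← Subgroup.map_le_iff_le_comap]
        exact le_trans (le_of_eq (by rw [hSb, Sylow.coe_mapSurjective])) le_sup_right
      have hHS := hsub H hHtop hSH
      have hKp : K' ≤ (Sb : Subgroup (L ⧸ U)) := by
        rw [hSb, Sylow.coe_mapSurjective, ← hHS, hH,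
          Subgroup.map_comap_eq_self_of_surjective hπs]
        exact le_sup_left
      exact eq_bot_iff.2 (hdL ▸ le_inf le_rfl hKp)
  have hKab : ∀ x ∈ Kb, ∀ y ∈ Kb, x * y = y * x := by
    by_cases hK1 : Kb = ⊥
    · intro x hx y hy
      rw [hK1, Subgroup.mem_bot] at hx
      rw [hx, one_mul, mul_one]
    obtain ⟨q, hqp, hKq⟩ : ∃ q, q.Prime ∧ IsPGroup q Kb := by
      obtain ⟨q, hqp, hqd⟩ := Nat.exists_prime_and_dvd (fun h' => hK1 (Subgroup.card_eq_one.mp h'))
      haveI := Fact.mk hqp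
      haveI : Group.IsNilpotent (Sb : Subgroup (L ⧸ U)) := Sb.2.isNilpotent
      obtain ⟨Q, hQ⟩ := Coprime.exists_invariant_sylow (A := (Sb : Subgroup (L ⧸ U))) (K := Kb)
        Subgroup.le_normalizer_of_normal (PSolvable.coprime_card_of_isPGroup Sb.2 hKc)
        (Or.inl inferInstance) q
      refine ⟨q, hqp, ?_⟩
      rcases hmin _ (Subgroup.map_subtype_le _) hQ with h' | h'
      · exact absurd ((Subgroup.map_eq_bot_iff_of_injective _ Kb.subtype_injective).mp h')
          (Q.ne_bot_of_dvd_card hqd)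
      · rw [← h']; exact Q.2.map _
    haveI := Fact.mk hqp
    rcases hmin ⁅Kb, Kb⁆ (Subgroup.commutator_le_self Kb) Subgroup.le_normalizer_of_normal with h' | h'
    · exact fun x hx y hy => Subgroup.commutator_eq_bot_iff_le_centralizer.mp h' hy x hx
    · haveI := hKq.isNilpotent
      exact absurd (eq_bot_of_le_commutator_self h'.ge) hK1
  have hfaith : Subgroup.centralizer (Kb : Set (L ⧸ U)) ≤ Kb := by
    have hCb : (Sb : Subgroup (L ⧸ U)) ⊓ Subgroup.centralizer (Kb : Set (L ⧸ U)) = ⊥ := by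
      set D := (Sb : Subgroup (L ⧸ U)) ⊓ Subgroup.centralizer (Kb : Set (L ⧸ U)) with hD
      have hDn : D.Normal := by
        rw [← Subgroup.normalizer_eq_top_iff, eq_top_iff, ← sup_sylow_eq_top Sb]
        refine sup_le (fun k hk => Subgroup.centralizer_le_normalizer _ fun d hd =>
          (hd.2 k hk).symm) (Coprime.le_normalizer_inf_of_le Subgroup.le_normalizer
          (Coprime.le_normalizer_centralizer Subgroup.le_normalizer_of_normal))
      have hV : IsPGroup p ↥(D.comap π) := (Sb.2.to_le inf_le_left).comap_of_ker_isPGroup π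
        (by rw [hπ, QuotientGroup.ker_mk']; exact hU)
      have hVle : D.comap π ≤ U := CfsgLib.Fitting.le_pCore (hDn.comap π) hV
      rw [← Subgroup.map_comap_eq_self_of_surjective hπs D, Subgroup.map_eq_bot_iff, hπ,
        QuotientGroup.ker_mk']
      exact hVle
    intro c hc
    have hc' : c ∈ Kb ⊔ (Sb : Subgroup (L ⧸ U)) :=
      sup_sylow_eq_top Sb ▸ Subgroup.mem_top c
    obtain ⟨k, hk, s, hs, rfl⟩ := Subgroup.mem_sup_of_normal_left.mp hc'
    have hs' : s ∈ (Sb : Subgroup (L ⧸ U)) ⊓ Subgroup.centralizer (Kb : Set (L ⧸ U)) :=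
      ⟨hs, by
        have : k⁻¹ * (k * s) ∈ Subgroup.centralizer (Kb : Set (L ⧸ U)) :=
          mul_mem (inv_mem fun x hx => hKab x hx k hk) hc
        rwa [inv_mul_cancel_left] at this⟩
    rw [hCb, Subgroup.mem_bot] at hs'
    rw [hs', mul_one]
    exact hk
  exact CfsgLib.ZJ.stableAt_of_abelian_top hp2 hU _ T₀.2 Kb hKc hKab
    isPGroup_quotient_pResidual (fun K' hK' hK'n => hmin K' hK' Subgroup.le_normalizer_of_normal)
    hfaith

end CfsgLib.Fusion
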