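import Mathlib
import Cfsg.Agent.Lib.Fusion.ZJControl
import Cfsg.Agent.Lib.Fusion.FactorFree

/-!
`Z(J(D))` of a strongly closed subgroup `D`, in constrained groups.
-/

set_option autoImplicit false
set_option linter.style.haveILetI false

namespace CfsgLib.Fusion

open Cfsg Cfsg.FusionSystem

universe u

variable {p : ℕ} [Fact p.Prime]

theorem pow_eq_one_of_coprime {G : Type*} [Group G] {x : G} (hx : (orderOf x).Coprime p) {k : ℕ}
    (hk : x ^ p ^ k = 1) : x = 1 :=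
  orderOf_eq_one_iff.1 (Nat.eq_one_of_dvd_coprimes (hx.pow_right k) dvd_rfl
    (orderOf_dvd_of_pow_eq_one hk))

/-- The normal closure of a strongly closed `D` has `D` as a Sylow subgroup, when the group is
`p`-nilpotent modulo a self-centralizing `p`-core; if `N(Z(J(D)))` is a `p`-group, so is the group. -/
theorem isPGroup_of_stronglyClosed_zj (hp : p ≠ 2) {e : ℕ} (he : e = 0 ∨ e = p)
    {L : Type u} [Group L] [Finite L]
    (S : Sylow p L) (D : Subgroup L) (hDS : D ≤ S)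
    (hsc : ∀ (g : L), ∀ d ∈ D, g * d * g⁻¹ ∈ (S : Subgroup L) → g * d * g⁻¹ ∈ D)
    (U : Subgroup L) [hUn : U.Normal] (hUp : IsPGroup p U)
    (hq : Cfsg.HasNormalPComplement p (L ⧸ U))
    (hc : Subgroup.centralizer ((U : Subgroup L) : Set L) ≤ U)
    (hN : IsPGroup p ↥(Subgroup.normalizer (CfsgLib.ZJ.zJ e D : Set L))) :
    IsPGroup p L := by
  have hUS : U ≤ S := fun x hx => le_sylow_of_normal_pGroup S hUn hUp hx
  have hUO : U ≤ Cfsg.pCore p L := CfsgLib.Fitting.le_pCore hUn hUp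
  have hDn : ∀ s ∈ (S : Subgroup L), ∀ d ∈ D, s * d * s⁻¹ ∈ D := fun s hs d hd =>
    hsc s d hd (mul_mem (mul_mem hs (hDS hd)) (inv_mem hs))
  let V := D ⊓ U
  haveI hVn : V.Normal := ⟨fun v hv g =>
    ⟨hsc g v hv.1 (hUS (hUn.conj_mem v hv.2 g)), hUn.conj_mem v hv.2 g⟩⟩
  let π : L →* L ⧸ V := QuotientGroup.mk' V
  have hπ : Function.Surjective π := QuotientGroup.mk'_surjective V
  have hπ1 : ∀ x, π x = 1 ↔ x ∈ V := fun x => QuotientGroup.eq_one_iff x
  let M : Subgroup L := Subgroup.normalClosure (D : Set L)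
  have hMn : M.Normal := Subgroup.normalClosure_normal
  have hDM : D ≤ M := Subgroup.le_normalClosure
  let Ub : Subgroup (L ⧸ V) := U.map π
  haveI hUbn : Ub.Normal := hUn.map π hπ
  let Cb : Subgroup (L ⧸ V) := Subgroup.centralizer (Ub : Set (L ⧸ V))
  haveI hCbn : Cb.Normal := inferInstanceAs (Subgroup.centralizer (Ub : Set (L ⧸ V))).Normal
  have hMC : M ≤ Cb.comap π := by
    haveI : (Cb.comap π).Normal := hCbn.comap π
    refine Subgroup.normalClosure_le_normal fun d hd => ?_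
    rintro _ ⟨u, hu, rfl⟩
    have h1 : π (u * d * u⁻¹ * d⁻¹) = 1 := (hπ1 _).2
      ⟨D.mul_mem (hDn u (hUS hu) d hd) (D.inv_mem hd), by
        rw [show u * d * u⁻¹ * d⁻¹ = u * (d * u⁻¹ * d⁻¹) by group]
        exact mul_mem hu (hUn.conj_mem _ (inv_mem hu) d)⟩
    rw [map_mul, map_mul, map_mul, map_inv, map_inv, mul_inv_eq_one, mul_inv_eq_iff_eq_mul] at h1
    exact h1
  obtain ⟨P₀, K₀, hK₀, hKc⟩ := hq
  haveI := hK₀
  have hK₀c := CfsgLib.Transfer.coprime_card_of_isComplement' hKc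
  let K : Subgroup L := K₀.comap (QuotientGroup.mk' U)
  haveI hKn : K.Normal := hK₀.comap _
  have hKp : ∀ x ∈ K, (∃ k : ℕ, (π x) ^ p ^ k = 1) → x ∈ U := by
    rintro x hx ⟨k, hk⟩
    rw [← map_pow, hπ1] at hk
    refine (QuotientGroup.eq_one_iff x).1 (pow_eq_one_of_coprime
      (CfsgLib.Transfer.coprime_orderOf_of_mem hK₀c hx) (k := k) ?_)
    rw [← QuotientGroup.mk_pow, QuotientGroup.eq_one_iff]
    exact hk.2
  haveI := hMn
  let C : Subgroup (L ⧸ V) := M.map π ⊓ K.map π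
  haveI hCn : C.Normal := Subgroup.normal_inf_normal _ _ (hH := hMn.map π hπ)
    (hK := hKn.map π hπ)
  have hMCb : M.map π ≤ Cb := Subgroup.map_le_iff_le_comap.2 hMC
  have hUbp : IsPGroup p Ub := hUp.map π
  obtain ⟨O₀, hO₀, hdec⟩ := exists_coprime_complement (Ub.subgroupOf C)
    (fun z hz => Subgroup.mem_center_iff.2 fun c => Subtype.ext
      ((hMCb c.2.1) _ hz).symm)
    (hUbp.comap_of_injective _ C.subtype_injective) (by
      rintro ⟨c, hcM, x, hx, rfl⟩ ⟨k, hk⟩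
      exact ⟨x, hKp x hx ⟨k, congrArg Subtype.val hk⟩, rfl⟩)
  let O : Subgroup (L ⧸ V) := O₀.map C.subtype
  have hOmem : ∀ x, x ∈ O ↔ x ∈ C ∧ (orderOf x).Coprime p := by
    intro x
    constructor
    · rintro ⟨y, hy, rfl⟩
      refine ⟨y.2, ?_⟩
      rw [Subgroup.subtype_apply, Subgroup.orderOf_coe]
      exact (hO₀ y).1 hy
    · rintro ⟨hx, ho⟩
      exact ⟨⟨x, hx⟩, (hO₀ _).2 (by rwa [← Subgroup.orderOf_coe]), rfl⟩
  haveI hOn : O.Normal := ⟨fun x hx g => by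
    obtain ⟨hxC, hxo⟩ := (hOmem x).1 hx
    refine (hOmem _).2 ⟨hCn.conj_mem x hxC g, ?_⟩
    rw [show orderOf (g * x * g⁻¹) = orderOf x from (MulAut.conj g).orderOf_eq x]
    exact hxo⟩
  let B : Subgroup (L ⧸ V) := O ⊔ D.map π
  have hOB : O ≤ B := le_sup_left
  -- `M` normalizes `B`
  have hnormB : ∀ {y : L ⧸ V}, (∀ d ∈ D.map π, y * d * y⁻¹ ∈ B) →
      ∀ b ∈ B, y * b * y⁻¹ ∈ B := by
    intro y hy b hb
    have hle : B ≤ B.comap (MulAut.conj y).toMonoidHom :=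
      sup_le (fun o ho => hOB (hOn.conj_mem o ho y)) fun d hd => hy d hd
    exact hle hb
  have hbconj : ∀ s ∈ (S : Subgroup L), ∀ b ∈ B, π s * b * (π s)⁻¹ ∈ B := fun s hs =>
    hnormB fun d hd => by
      obtain ⟨d, hd, rfl⟩ := hd
      exact Subgroup.mem_sup_right ⟨s * d * s⁻¹, hDn s hs d hd, by
        rw [map_mul, map_mul, map_inv]⟩
  -- a Sylow subgroup of `M` inside `S`
  have hPp : IsPGroup p ((S : Subgroup L) ⊓ M : Subgroup L) := S.isPGroup'.to_le inf_le_left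
  obtain ⟨R, hR⟩ := (exists_sylow_eq_iff hPp inf_le_right).2
    fun T hT hTp => card_le_inf_of_normal S M hT hTp
  have hMK : ∀ m ∈ M, ∃ k ∈ M ⊓ K, ∃ s ∈ (S : Subgroup L) ⊓ M, m = k * s := by
    intro m hm
    have hq2 : IsPGroup p (↥M ⧸ (K.subgroupOf M)) := by
      let ψ : ↥M →* (L ⧸ U) ⧸ K₀ :=
        (QuotientGroup.mk' K₀).comp ((QuotientGroup.mk' U).comp M.subtype)
      have hker : ψ.ker = K.subgroupOf M := by
        ext x
        show QuotientGroup.mk' K₀ _ = 1 ↔ _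
        rw [QuotientGroup.mk'_apply, QuotientGroup.eq_one_iff]
        rfl
      have := (CfsgLib.Transfer.isPGroup_quotient_of_isComplement' hKc).to_subgroup ψ.range
      exact (this.of_equiv (QuotientGroup.quotientKerEquivRange ψ).symm).of_equiv
        (QuotientGroup.quotientMulEquivOfEq hker)
    have htop := CfsgLib.Transfer.sylow_sup_eq_top_of_isPGroup_quotient R (K.subgroupOf M) hq2
    obtain ⟨k, hk, s, hs, hks⟩ := Subgroup.mem_sup_of_normal_left.1
      (show (⟨m, hm⟩ : M) ∈ K.subgroupOf M ⊔ (R : Subgroup M) by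
        rw [sup_comm, htop]; exact Subgroup.mem_top _)
    rw [hR] at hs
    exact ⟨k, ⟨k.2, hk⟩, s, hs, (congrArg Subtype.val hks).symm⟩
  have hMnB : ∀ m ∈ M, ∀ b ∈ B, π m * b * (π m)⁻¹ ∈ B := by
    intro m hm b hb
    obtain ⟨k, hk, s, hs, rfl⟩ := hMK m hm
    have hks : π (k * s) * b * (π (k * s))⁻¹ = π k * (π s * b * (π s)⁻¹) * (π k)⁻¹ := by
      rw [map_mul]; group
    rw [hks]
    refine hnormB (fun d hd => ?_) _ (hbconj s hs.1 b hb)
    obtain ⟨z, hz, o, ho, hzo⟩ := hdec ⟨π k, ⟨k, hk.1, rfl⟩, ⟨k, hk.2, rfl⟩⟩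
    have hko : π k = (z : L ⧸ V) * o := congrArg Subtype.val hzo
    have hoO : (o : L ⧸ V) ∈ O := ⟨o, ho, rfl⟩
    have hoB : ∀ b ∈ B, (o : L ⧸ V) * b * (o : L ⧸ V)⁻¹ ∈ B := fun b hb =>
      B.mul_mem (B.mul_mem (hOB hoO) hb) (B.inv_mem (hOB hoO))
    have hzB : ∀ b ∈ B, (z : L ⧸ V) * b * (z : L ⧸ V)⁻¹ ∈ B := hnormB fun d hd => by
      obtain ⟨d', hd', rfl⟩ := hd
      rw [show (z : L ⧸ V) * π d' * (z : L ⧸ V)⁻¹ = π d' from by
        rw [mul_inv_eq_iff_eq_mul]; exact hMC (hDM hd') _ hz]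
      exact Subgroup.mem_sup_right ⟨d', hd', rfl⟩
    rw [hko, show (z : L ⧸ V) * o * d * ((z : L ⧸ V) * o)⁻¹ =
      (z : L ⧸ V) * ((o : L ⧸ V) * d * (o : L ⧸ V)⁻¹) * (z : L ⧸ V)⁻¹ by group]
    exact hzB _ (hoB d (Subgroup.mem_sup_right hd))
  have hMB : M.map π ≤ B := by
    refine Subgroup.map_le_iff_le_comap.2 ((Subgroup.closure_le _).2 fun y hy => ?_)
    obtain ⟨d, hd, hdy⟩ := Group.mem_conjugatesOfSet_iff.1 hy
    obtain ⟨g, rfl⟩ := _root_.isConj_iff.1 hdy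
    obtain ⟨m, hm, n, hn, hmn⟩ : ∃ m ∈ M,
        ∃ n ∈ Subgroup.normalizer (((S : Subgroup L) ⊓ M : Subgroup L) : Set L), g = m * n := by
      obtain ⟨h, hh, hn⟩ := exists_mul_of_normal S M g⁻¹
      exact ⟨h⁻¹, inv_mem hh, h * g, by simpa using inv_mem hn, by group⟩
    have h1 : n * d * n⁻¹ ∈ D :=
      hsc n d hd (conj_mem_of_mem_normalizer hn ⟨hDS hd, hDM hd⟩).1
    show π (g * d * g⁻¹) ∈ B
    rw [hmn, show m * n * d * (m * n)⁻¹ = m * (n * d * n⁻¹) * m⁻¹ by group, map_mul, map_mul,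
      map_inv]
    exact hMnB m hm _ (Subgroup.mem_sup_right ⟨_, h1, rfl⟩)
  have hMSD : (S : Subgroup L) ⊓ M ≤ D := by
    rintro x ⟨hxS, hxM⟩
    obtain ⟨o, ho, _, ⟨d, hd, rfl⟩, hod⟩ := Subgroup.mem_sup_of_normal_left.1 (hMB ⟨x, hxM, rfl⟩)
    have ho' : o = π (x * d⁻¹) := by rw [map_mul, map_inv, ← hod, mul_inv_cancel_right]
    obtain ⟨k, hk⟩ := S.isPGroup' ⟨x * d⁻¹, mul_mem hxS (inv_mem (hDS hd))⟩
    have h2 : o = 1 := pow_eq_one_of_coprime ((hOmem o).1 ho).2 (k := k) (by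
      rw [ho', ← map_pow, show (x * d⁻¹) ^ p ^ k = 1 from congrArg Subtype.val hk, map_one])
    rw [ho', hπ1] at h2
    simpa using mul_mem h2.1 hd
  have hReq : (R : Subgroup M) = D.subgroupOf M := by
    rw [hR, le_antisymm hMSD (le_inf hDS hDM)]
  -- `M` is `p`-nilpotent, so it is `D`
  have hNM : IsPGroup p ↥(Subgroup.normalizer
      (CfsgLib.ZJ.zJ e (R : Subgroup M) : Set M)) := by
    rw [hReq]
    refine IsPGroup.of_injective hN ((M.subtype.comp (Subgroup.subtype _)).codRestrict _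
      fun x => ?_) fun a b h => ?_
    · have h3 := Subgroup.le_normalizer_map M.subtype ⟨x, x.2, rfl⟩
      rw [CfsgLib.ZJ.map_zJ e M.subtype M.subtype_injective.injOn,
        Subgroup.map_subgroupOf_eq_of_le hDM] at h3
      exact h3
    · exact Subtype.ext (Subtype.ext (by simpa [MonoidHom.codRestrict] using congrArg Subtype.val h))
  obtain ⟨R', Kc, hKcn, hKcc⟩ := CfsgLib.ZJ.hasNormalPComplement_of_functor
    (CfsgLib.ZJ.isZJFunctor_zJ hp he) hp he R
    (CfsgLib.Transfer.hasNormalPComplement_of_isPGroup hNM)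
  haveI := hKcn
  have hKcard := CfsgLib.Transfer.coprime_card_of_isComplement' hKcc
  have hKq := CfsgLib.Transfer.isPGroup_quotient_of_isComplement' hKcc
  have hKiff : ∀ x : M, x ∈ Kc ↔ (orderOf x).Coprime p := fun x =>
    ⟨CfsgLib.Transfer.coprime_orderOf_of_mem hKcard, fun h => by
      rw [CfsgLib.Transfer.eq_pResidual hKcard hKq]
      exact CfsgLib.Transfer.mem_pResidual_of_coprime h⟩
  have hKc1 : Kc = ⊥ := by
    refine (Subgroup.eq_bot_iff_forall _).2 fun x hx => ?_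
    have hxc : (x : L) ∈ Subgroup.centralizer (U : Set L) := by
      intro v hv
      let w : M := ⟨v * (x : L) * v⁻¹, hMn.conj_mem _ x.2 v⟩
      have hw : w ∈ Kc := (hKiff w).2 (by
        rw [← Subgroup.orderOf_coe, show orderOf (v * (x : L) * v⁻¹) = orderOf (x : L) from
          (MulAut.conj v).orderOf_eq _, Subgroup.orderOf_coe]
        exact (hKiff x).1 hx)
      have h4 : w * x⁻¹ ∈ Kc := Kc.mul_mem hw (Kc.inv_mem hx)
      have h5 : v * (x : L) * v⁻¹ * (x : L)⁻¹ ∈ U := by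
        rw [show v * (x : L) * v⁻¹ * (x : L)⁻¹ = v * ((x : L) * v⁻¹ * (x : L)⁻¹) by group]
        exact U.mul_mem hv (hUn.conj_mem _ (U.inv_mem hv) _)
      obtain ⟨k, hk⟩ := hUp ⟨_, h5⟩
      have h6 := pow_eq_one_of_coprime ((hKiff _).1 h4) (k := k)
        (Subtype.ext (by
          show (((w * x⁻¹) ^ p ^ k : M) : L) = 1
          rw [Subgroup.coe_pow]
          exact congrArg Subtype.val hk))
      have h7 : v * (x : L) * v⁻¹ * (x : L)⁻¹ = 1 := congrArg Subtype.val h6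
      rw [mul_inv_eq_one, mul_inv_eq_iff_eq_mul] at h7
      exact h7
    obtain ⟨k, hk⟩ := hUp ⟨_, hc hxc⟩
    exact pow_eq_one_of_coprime ((hKiff x).1 hx) (k := k)
      (Subtype.ext (by
        show (((x : M) ^ p ^ k : M) : L) = 1
        rw [Subgroup.coe_pow]
        exact congrArg Subtype.val hk))
  have hMp : IsPGroup p M := by
    refine fun x => ?_
    obtain ⟨k, hk⟩ := hKq (QuotientGroup.mk x)
    rw [← QuotientGroup.mk_pow, QuotientGroup.eq_one_iff, hKc1, Subgroup.mem_bot] at hk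
    exact ⟨k, hk⟩
  have hMeq : M = D := le_antisymm
    ((le_inf (fun x hx => le_sylow_of_normal_pGroup S hMn hMp hx) le_rfl).trans hMSD) hDM
  have htop : Subgroup.normalizer (CfsgLib.ZJ.zJ e D : Set L) = ⊤ :=
    eq_top_iff.2 fun g _ => CfsgLib.ZJ.normalizer_le_normalizer_zJ e D
      ((Subgroup.normalizer_eq_top_iff.2 (hMeq ▸ hMn)).ge (Subgroup.mem_top g))
  exact (htop ▸ hN).of_equiv Subgroup.topEquiv

end CfsgLib.Fusion
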