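import Mathlib
import Cfsg.Agent.Lib.Fusion.StronglyClosedZJ
import Cfsg.Agent.Lib.Fusion.RadicalNormalizer
import Cfsg.Agent.Lib.Fusion.ThompsonControl

/-!
`N_F(Z(J(D)))` for strongly closed `D` detects inner systems.
-/

set_option autoImplicit false
set_option linter.style.haveILetI false

namespace CfsgLib.Fusion

open Cfsg Cfsg.FusionSystem

universe u

variable {p : ℕ} [Fact p.Prime] {Ω : Type u} [Group Ω] {S : Subgroup Ω} [Finite S]
  {F : FusionSystem S}

/-- An automorphism with an extension of `p`-power order has `p`-power order. -/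
theorem eq_one_of_extension {A X : Subgroup Ω} (hAX : A ≤ X) {a : MulAut A}
    (hac : (orderOf a).Coprime p) {b : MulAut X} (hab : ∀ x : A, (b ⟨x, hAX x.2⟩ : Ω) = a x)
    {k : ℕ} (hb : b ^ p ^ k = 1) : a = 1 := by
  have hpow : ∀ (j : ℕ) (x : A), (((a ^ j) x : A) : Ω) = (((b ^ j) ⟨x, hAX x.2⟩ : X) : Ω) := by
    intro j
    induction j with
    | zero => intro x; rfl
    | succ j ih =>
      intro x
      rw [pow_succ, pow_succ, MulAut.mul_apply, MulAut.mul_apply, ih]
      congr 2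
      exact Subtype.ext (hab x).symm
  refine pow_eq_one_of_coprime hac (k := k) (MulEquiv.ext fun x => Subtype.ext ?_)
  rw [hpow, hb]
  rfl

/-- With `p'`-automorphisms absent from the stabiliser of `Y`, a coprime automorphism with an
extension fixing `Y` setwise is trivial. -/
theorem eq_one_of_fix {Y : Subgroup Ω} (hY : FixPGroup F p Y) {A X : Subgroup Ω} (hAX : A ≤ X)
    (hX : X ≤ S) (hYX : Y ≤ X) {g : Ω → Ω} (hg : IsIso F X X g)
    (hgY : g '' (Y : Set Ω) = Y) {a : MulAut A} (hac : (orderOf a).Coprime p)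
    (hag : ∀ x : A, g (x : Ω) = a x) : a = 1 := by
  have := finite_of_le hX
  have := finite_mulAut X
  obtain ⟨b, hb, hbv⟩ := exists_mem_autGroup hg
  obtain ⟨i, m, hpm, hkm⟩ := Nat.exists_eq_pow_mul_and_not_dvd (orderOf_pos b).ne' p
    (Fact.out : p.Prime).ne_one
  have hcop : (orderOf (b ^ p ^ i)).Coprime p := by
    refine Nat.Coprime.coprime_dvd_left (orderOf_dvd_of_pow_eq_one (n := m) ?_)
      ((Fact.out : p.Prime).coprime_iff_not_dvd.2 hpm).symm
    rw [← pow_mul, ← hkm, pow_orderOf_eq_one]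
  have himg : ∀ j : ℕ, ∀ y ∈ Y, ∀ hy : y ∈ X, (((b ^ j) ⟨y, hy⟩ : X) : Ω) ∈ Y := by
    intro j
    induction j with
    | zero => intro y hy hyX; exact hy
    | succ j ih =>
      intro y hy hyX
      rw [pow_succ, MulAut.mul_apply]
      refine ih ((b ⟨y, hyX⟩ : X) : Ω) ?_ (SetLike.coe_mem _)
      rw [hbv]; exact hgY.subset ⟨y, hy, rfl⟩
  have hbi : b ^ p ^ i ∈ F.autGroup X := (F.autGroup X).pow_mem hb _
  have h1 := hY X hX hYX _ hbi (image_eq_of_mem (hYX.trans hX)
    ((mem_autGroup_iff hX _).1 hbi).isMap hYX fun y hy => by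
      rw [autFun_apply _ (hYX hy)]; exact himg _ y hy (hYX hy)) hcop
  exact eq_one_of_extension hAX hac (b := b) (fun x => by rw [hbv]; exact hag x) h1

/-- A subgroup normal in `S` without being normal in the system is avoided by `p'`-automorphisms,
by induction. -/
theorem fixPGroup_of_not_normal {n : ℕ} (hn : (mapGraphs F).ncard = n) {D : Subgroup Ω}
    (hS : IsPGroup p S) (hF : F.IsSaturated p) (hD : F.StronglyClosed D) {W : Subgroup Ω}
    (hW : FixPGroup F p W)
    (ih : ∀ E : FusionSystem S, (mapGraphs E).ncard < n → E.IsSaturated p → E.StronglyClosed D →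
      FixPGroup E p W → AutsPGroup E p)
    {X : Subgroup Ω} (hX : X ≤ S) (hXn : S ≤ Subgroup.normalizer (X : Set Ω))
    (hnot : ¬ F.IsNormal X) : FixPGroup F p X := by
  intro A hA hXA a ha haX hac
  have hXN : normalizerIn S X = S := inf_eq_left.2 hXn
  have hXfn : F.IsFullyNormalized X := ⟨hX, fun Q' _ => by
    rw [hXN]; exact Subgroup.card_le_of_le inf_le_left⟩
  obtain ⟨E, hE⟩ : ∃ E, F.IsNormalizerSystem X E := ⟨normalizerSystem F X hX, fun _ => rfl⟩
  have key : ∀ (T : Subgroup Ω), T = S → ∀ E : FusionSystem T, E.IsSaturated p →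
      (∀ P f, IsMap E P f ↔ P ≤ S ∧ ∃ g, IsMap F (P ⊔ X) g ∧ (∀ x ∈ P, g x = f x) ∧
        g '' (X : Set Ω) = X) → AutsPGroup E p := by
    rintro T rfl E hEsat hEiff
    have hsub : ∀ P f, IsMap E P f → IsMap F P f := fun P f hm => by
      obtain ⟨-, g, hg, hgf, -⟩ := (hEiff P f).1 hm
      exact (hg.mono le_sup_left).congr hgf
    refine ih E ?_ hEsat (stronglyClosed_iff.2 ⟨hD.1, fun P f hf x hx hxD =>
      (stronglyClosed_iff.1 hD).2 P f (hsub P f hf) x hx hxD⟩) ?_
    · rw [← hn]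
      refine ncard_mapGraphs_lt hsub ?_
      by_contra hc
      push_neg at hc
      refine hnot (isNormal_iff.2 ⟨hX, fun P f hm => ?_⟩)
      obtain ⟨-, g, hg, hgf, hgX⟩ := (hEiff P f).1 (hc P f hm)
      exact ⟨g, hg, hgf, hgX⟩
    · intro B hB hWB b hb hbW hbc
      have hbi := (mem_autGroup_iff hB b).1 hb
      exact hW B hB hWB b ((mem_autGroup_iff hB b).2 ⟨hsub _ _ hbi.isMap, hbi.image_eq⟩) hbW hbc
  have hEp := key _ hXN E (isSaturated_normalizerSystem hS hF hXfn hE) fun P f => by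
    rw [isMap_normalizerSystem_iff hE, hXN]
    exact ⟨fun ⟨hP, _, h⟩ => ⟨hP, h⟩, fun ⟨hP, g, hg, hgf, hgX⟩ => ⟨hP, fun x hx =>
      hgf x hx ▸ hg.mem (Subgroup.mem_sup_left hx), g, hg, hgf, hgX⟩⟩
  have hAn : A ≤ normalizerIn S X := hXN.symm ▸ hA
  have hai := (mem_autGroup_iff hA a).1 ha
  exact coprime_pGroup_eq_one (hEp A hAn) ((mem_autGroup_iff hAn a).2
    ⟨(isMap_normalizerSystem_iff hE).2 ⟨hAn, fun x hx => hXN.symm ▸ hai.isMap.mem hx, autFun a,
      by rw [sup_eq_left.2 hXA]; exact hai.isMap, fun _ _ => rfl, haX⟩, hai.image_eq⟩) hac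

/-- `Q ↦ Z(J_e(Q))`. -/
def zjFunctorAt (e : ℕ) (Q : Type u) [Group Q] : Subgroup Q := CfsgLib.ZJ.zJ e (⊤ : Subgroup Q)

theorem functorOf_zjFunctorAt {G : Type u} [Group G] (e : ℕ) (T : Subgroup G) :
    functorOf (zjFunctorAt e) T = CfsgLib.ZJ.zJ e T := by
  show (CfsgLib.ZJ.zJ e (⊤ : Subgroup T)).map T.subtype = _
  rw [CfsgLib.ZJ.map_zJ e T.subtype T.subtype_injective.injOn, ← MonoidHom.range_eq_map,
    Subgroup.range_subtype]

omit [Fact p.Prime] in
theorem zjFunctorAt_map (e : ℕ) (Q R : Type u) [Group Q] [Group R] [Finite Q] (_hQ : IsPGroup p Q)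
    (φ : Q ≃* R) : (zjFunctorAt e Q).map φ.toMonoidHom = zjFunctorAt e R := by
  show (CfsgLib.ZJ.zJ e (⊤ : Subgroup Q)).map φ.toMonoidHom = CfsgLib.ZJ.zJ e (⊤ : Subgroup R)
  rw [CfsgLib.ZJ.map_zJ e φ.toMonoidHom φ.injective.injOn,
    Subgroup.map_top_of_surjective _ φ.surjective]

/-- `Z(J(D))` of a strongly closed subgroup detects inner systems. -/
theorem autsPGroup_of_stronglyClosed_zj (hp : p ≠ 2) {e : ℕ}
    (he : e = 0 ∨ e = p) : ∀ (n : ℕ) (F : FusionSystem S),
    (mapGraphs F).ncard = n → IsPGroup p S → F.IsSaturated p → ∀ D : Subgroup Ω,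
      F.StronglyClosed D → FixPGroup F p (CfsgLib.ZJ.zJ e D) → AutsPGroup F p := by
  intro n
  induction n using Nat.strong_induction_on with
  | _ n ihn =>
  intro F hn hS hF D hD hW
  have hDS : D ≤ S := hD.1
  have := finite_of_le hDS
  set W := CfsgLib.ZJ.zJ e D with hWdef
  have hWD : W ≤ D := CfsgLib.ZJ.zJ_le e D
  have hWf : W = functorOf (zjFunctorAt e) D := (functorOf_zjFunctorAt e D).symm
  have hDp : IsPGroup p D := hS.to_le hDS
  -- the largest normal subgroup
  have hbot : F.IsNormal ⊥ := by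
    refine isNormal_iff.2 ⟨bot_le, fun P f hf => ⟨f, by rwa [sup_bot_eq], fun _ _ => rfl, ?_⟩⟩
    rw [Subgroup.coe_bot, Set.image_singleton, hf.map_one]
  obtain ⟨U, hU, hUmax⟩ := Set.exists_max_image {U : Subgroup Ω | F.IsNormal U}
    (fun U => Nat.card U) (finite_subgroups_le (S := S) _ fun U (hU : F.IsNormal U) => hU.1) ⟨⊥, hbot⟩
  have hU : F.IsNormal U := hU
  have hUS := hU.1
  have := finite_of_le hUS
  have hUn : S ≤ Subgroup.normalizer (U : Set Ω) := le_normalizer_of_isNormal hU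
  by_cases hDU : D ≤ U
  · -- `D` is then normal
    intro A hA
    have := finite_of_le hA
    have := finite_mulAut A
    refine isPGroup_of_coprime_trivial' fun a hac => Subtype.ext ?_
    have hai := (mem_autGroup_iff hA _).1 a.2
    obtain ⟨g, hg, hga, hgU⟩ := (isNormal_iff.1 hU).2 A _ hai.isMap
    have hX : A ⊔ U ≤ S := sup_le hA hUS
    have hgX : g '' ((A ⊔ U : Subgroup Ω) : Set Ω) = (A ⊔ U : Subgroup Ω) :=
      image_eq_of_mem hX hg le_rfl fun x hx => by
        obtain ⟨φ, hφ, hv⟩ := hg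
        have h3 : A ⊔ U ≤ ((A ⊔ U).comap φ).map (A ⊔ U).subtype := sup_le
          (fun y hy => ⟨⟨y, Subgroup.mem_sup_left hy⟩, show φ _ ∈ A ⊔ U by
            rw [hv, hga y hy]; exact Subgroup.mem_sup_left (hai.image_eq.subset ⟨y, hy, rfl⟩), rfl⟩)
          (fun y hy => ⟨⟨y, Subgroup.mem_sup_right hy⟩, show φ _ ∈ A ⊔ U by
            rw [hv]; exact Subgroup.mem_sup_right (hgU.subset ⟨y, hy, rfl⟩), rfl⟩)
        obtain ⟨z, hz, rfl⟩ := h3 hx
        show g (z : Ω) ∈ A ⊔ U
        rw [← hv z]; exact hz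
    have hDle : D ≤ A ⊔ U := hDU.trans le_sup_right
    have hgD : g '' (D : Set Ω) = D := image_eq_of_mem hDS hg hDle fun x hx =>
      isMap_mem_of_stronglyClosed hD hg (hDle hx) hx
    have hgW : g '' (W : Set Ω) = W := by
      obtain ⟨b, hb, hbv⟩ := exists_mem_autGroup
        (⟨hg.mono hDle, hgD⟩ : IsIso F D D g)
      have hbot' : g '' ((⊥ : Subgroup Ω) : Set Ω) = (⊥ : Subgroup Ω) := by
        rw [Subgroup.coe_bot, Set.image_singleton, hg.map_one]
      have := image_relW (zjFunctorAt e) (zjFunctorAt_map e) hS hDS bot_le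
        (⟨hg.mono hDle, hgD⟩ : IsIso F D D g) hbot'
      rwa [relW_bot (zjFunctorAt e) (zjFunctorAt_map e) hDp, ← hWf] at this
    exact eq_one_of_fix hW le_sup_left hX (hWD.trans hDle) ⟨hg, hgX⟩ hgW
      (by rwa [Subgroup.orderOf_coe]) fun x => by rw [hga x x.2, autFun_coe]
  have hUne : U ≠ S := fun h => hDU (h ▸ hDS)
  have hih : ∀ E : FusionSystem S, (mapGraphs E).ncard < n → E.IsSaturated p →
      E.StronglyClosed D → FixPGroup E p W → AutsPGroup E p :=
    fun E hlt hE hDE hWE => ihn _ hlt E rfl hS hE D hDE hWE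
  have hloc : ∀ X : Subgroup Ω, X ≤ S → U ≤ X → X ≠ U →
      S ≤ Subgroup.normalizer (X : Set Ω) → FixPGroup F p X := by
    intro X hX hUX hne hXn
    refine fixPGroup_of_not_normal hn hS hF hD hW hih hX hXn fun hXN => hne ?_
    have := finite_of_le hX
    exact (Subgroup.eq_of_le_of_card_ge hUX (hUmax X hXN)).symm
  set X := relW zjFunctor U S
  have hXfix : FixPGroup F p X := hloc X (relW_le _ _ _) (le_relW _ hUS)
    (relW_ne zjFunctor zjFunctor_ne_bot hS hUS hUn hUne) fun s hs =>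
      normalizer_le_relW zjFunctor zjFunctor_map le_rfl hS (Subgroup.le_normalizer hs) (hUn hs)
  by_cases hUc : centralizerIn S U ≤ U
  swap
  · -- `U` is not centric
    have hR : U ⊔ centralizerIn S U ≠ U := fun h => hUc (sup_eq_left.1 h)
    have hRS : U ⊔ centralizerIn S U ≤ S := sup_le hUS inf_le_left
    have hRn : S ≤ Subgroup.normalizer ((U ⊔ centralizerIn S U : Subgroup Ω) : Set Ω) := by
      intro s hs
      refine mem_normalizer_of_conj_mem hRS fun x hx => ?_
      have hle : U ⊔ centralizerIn S U ≤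
          (U ⊔ centralizerIn S U).comap (MulAut.conj s).toMonoidHom := sup_le
        (fun u hu => Subgroup.mem_sup_left (conj_mem_of_mem_normalizer (hUn hs) hu))
        (fun c hc => Subgroup.mem_sup_right ⟨S.mul_mem (S.mul_mem hs hc.1) (S.inv_mem hs),
          mem_centralizer_of_conj_eq fun y hy => by
            show s * c * s⁻¹ * y * (s * c * s⁻¹)⁻¹ = y
            have h1 := conj_eq_self_of_mem_centralizer hc.2
              (conj_mem_of_mem_normalizer (Subgroup.inv_mem _ (hUn hs)) hy)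
            calc s * c * s⁻¹ * y * (s * c * s⁻¹)⁻¹ = s * (c * (s⁻¹ * y * s⁻¹⁻¹) * c⁻¹) * s⁻¹ := by
                  group
              _ = y := by rw [h1]; group⟩)
      exact hle hx
    have hRfix := hloc _ hRS le_sup_left hR hRn
    have hUp : IsPGroup p (F.autGroup U) := by
      have := finite_mulAut U
      refine isPGroup_of_coprime_trivial' fun a hac => Subtype.ext ?_
      have hai := (mem_autGroup_iff hUS _).1 a.2
      have hUfn : F.IsFullyNormalized U := ⟨hUS, fun Q _ => by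
        rw [show normalizerIn S U = S from inf_eq_left.2 hUn]
        exact Subgroup.card_le_of_le inf_le_left⟩
      obtain ⟨χ, hχ, hχv⟩ := (isReceptive_iff.1 (isReceptive_of_isFullyNormalized hS hF hUfn)).2
        U _ hai
      have hRN : U ⊔ centralizerIn S U ≤ nPhi S U (autFun (a : MulAut U)) :=
        sup_le (le_nPhi hai.isMap) fun c hc => ⟨hc.1, Subgroup.centralizer_le_normalizer _ hc.2,
          1, S.one_mem, fun x hx => by
            rw [conj_eq_self_of_mem_centralizer hc.2 hx, one_mul, inv_one, mul_one]⟩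
      have hχR : χ '' ((U ⊔ centralizerIn S U : Subgroup Ω) : Set Ω) =
          (U ⊔ centralizerIn S U : Subgroup Ω) := by
        refine image_eq_of_mem hRS hχ hRN fun x hx => ?_
        obtain ⟨φ, hφ, hv⟩ := id hχ
        have h3 : U ⊔ centralizerIn S U ≤ ((U ⊔ centralizerIn S U).comap φ).map
            (nPhi S U (autFun (a : MulAut U))).subtype := sup_le
          (fun y hy => ⟨⟨y, hRN (Subgroup.mem_sup_left hy)⟩,
            show φ ⟨y, hRN (Subgroup.mem_sup_left hy)⟩ ∈ U ⊔ centralizerIn S U by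
            rw [hv, hχv y hy]; exact Subgroup.mem_sup_left (hai.mem hy), rfl⟩)
          (fun y hy => ⟨⟨y, hRN (Subgroup.mem_sup_right hy)⟩,
            show φ ⟨y, hRN (Subgroup.mem_sup_right hy)⟩ ∈ U ⊔ centralizerIn S U by
            rw [hv]
            refine Subgroup.mem_sup_right ⟨hχ.mem (hRN (Subgroup.mem_sup_right hy)),
              mem_centralizer_of_conj_eq fun z hz => ?_⟩
            obtain ⟨w, hw, rfl⟩ := hai.surj hz
            rw [← hχv w hw, ← hχ.map_conj (hRN (Subgroup.mem_sup_right hy))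
              (hRN (Subgroup.mem_sup_left hw)), conj_eq_self_of_mem_centralizer hy.2 hw], rfl⟩)
        obtain ⟨z, hz, rfl⟩ := h3 hx
        show χ (z : Ω) ∈ _
        rw [← hv z]; exact hz
      exact eq_one_of_fix hRfix le_sup_left hRS le_rfl ⟨hχ.mono hRN, hχR⟩ hχR
        (by rwa [Subgroup.orderOf_coe]) fun x => by rw [hχv x x.2, autFun_coe]
    exact autsPGroup_of_fix (H := Multiplicative ℤ) zjFunctor zjFunctor_ne_bot zjFunctor_map
      zjFunctor zjFunctor_ne_bot zjFunctor_map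
      (fun L _ _ P hc _ hN _ => isPGroup_of_normalizer_zj hp L P hc hN)
      _ S F rfl hS hF (isSectionFree_infinite F _) U hU hUp hXfix hXfix.centPGroup
  -- the constrained case
  have hUfn : F.IsFullyNormalized U := ⟨hUS, fun Q _ => by
    rw [show normalizerIn S U = S from inf_eq_left.2 hUn]
    exact Subgroup.card_le_of_le inf_le_left⟩
  have hUcen : F.IsCentric U := isCentric_of_fullyCentralized hS hF
    (isFullyCentralized_of_isFullyNormalized hS hF hUfn) hUc
  obtain ⟨L, _, ι, hL⟩ := exists_model hS (⟨hF, U, hU, hUcen⟩ : F.IsConstrained p)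
  have : Finite L := hL.1
  obtain ⟨T₀, hT₀⟩ := hL.2.2.1
  have hinj := hL.2.1.1
  haveI hUb : ((U.subgroupOf S).map ι).Normal := normal_map_of_isModel hL hU
  have hUbp : IsPGroup p ((U.subgroupOf S).map ι) := (hS.to_subgroup _).map _
  set Ub := (U.subgroupOf S).map ι with hUbdef
  have hUbc : Subgroup.centralizer (Ub : Set L) ≤ Ub :=
    ((⟨hS, hF, hU, hUcen⟩ : CentricNormal F p U).centralizer_le hL).trans
      (Subgroup.map_mono fun z hz =>
        (⟨hS, hF, hU, hUcen⟩ : CentricNormal F p U).mem_of_conjQ_eq_one (MonoidHom.mem_ker.1 hz))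
  -- elements normalizing a subgroup without `p'`-stabiliser and centralizing `U` are trivial
  have hstab : ∀ Y : Subgroup Ω, Y ≤ S → FixPGroup F p Y → ∀ g : L, (orderOf g).Coprime p →
      g ∈ Subgroup.normalizer (((Y.subgroupOf S).map ι : Subgroup L) : Set L) → g = 1 := by
    intro Y hY hYfix g hgc hg
    set A := Y ⊔ U
    have hA : A ≤ S := sup_le hY hUS
    set Ab := (A.subgroupOf S).map ι
    have hAb : Ab = (Y.subgroupOf S).map ι ⊔ Ub := by
      show Subgroup.map _ _ = _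
      rw [Subgroup.subgroupOf_sup hY hUS, Subgroup.map_sup]
    have hgA : g ∈ Subgroup.normalizer (Ab : Set L) := by
      refine mem_normalizer_of_conj_mem (S := (⊤ : Subgroup L)) le_top fun x hx => ?_
      have hle : Ab ≤ Ab.comap (MulAut.conj g).toMonoidHom := by
        conv_lhs => rw [hAb]
        refine sup_le (fun y hy => ?_) (fun y hy => ?_)
        · show g * y * g⁻¹ ∈ Ab
          rw [hAb]; exact Subgroup.mem_sup_left (conj_mem_of_mem_normalizer hg hy)
        · show g * y * g⁻¹ ∈ Ab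
          rw [hAb]; exact Subgroup.mem_sup_right (hUb.conj_mem y hy g)
      exact hle hx
    let eA : A ≃* Ab := (Subgroup.subgroupOfEquivOfLe hA).symm.trans
      (Subgroup.equivMapOfInjective _ ι hinj)
    let χ : ↥(Subgroup.normalizer (Ab : Set L)) →* MulAut A :=
      (MulAut.congr eA.symm).toMonoidHom.comp Ab.normalizerMonoidHom
    set a := χ ⟨g, hgA⟩
    have hav : ∀ x : A, ι ⟨(a x : Ω), hA (a x).2⟩ = g * ι ⟨x, hA x.2⟩ * g⁻¹ := fun x => by
      have h1 : eA (a x) = Ab.normalizerMonoidHom ⟨g, hgA⟩ (eA x) := eA.apply_symm_apply _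
      exact congrArg (fun y : Ab => (y : L)) h1
    have ha : a ∈ F.autGroup A := mem_autGroup_of_isMap (f := autFun a)
      (isMap_of_conj hL.2.1 hA (fun x hx => hA (autFun_mem _ hx)) (g := g) fun x hx => by
        rw [homExt_apply ι (hA (autFun_mem _ hx)), homExt_apply ι (hA hx)]
        refine Eq.trans ?_ (hav ⟨x, hx⟩)
        congr 2
        exact autFun_apply a hx) a fun x => (autFun_coe _ x).symm
    have haY : autFun a '' (Y : Set Ω) = Y := by
      refine image_eq_of_mem hY ((mem_autGroup_iff hA a).1 ha).isMap le_sup_left fun y hy => ?_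
      rw [autFun_apply a (Subgroup.mem_sup_left hy)]
      have h1 : ι ⟨(a ⟨y, Subgroup.mem_sup_left hy⟩ : Ω), hA (a _).2⟩ ∈
          (Y.subgroupOf S).map ι := by
        rw [hav]; exact conj_mem_of_mem_normalizer hg ⟨⟨y, hY hy⟩, hy, rfl⟩
      exact (Subgroup.mem_map_iff_mem hinj).1 h1
    have hac : (orderOf a).Coprime p := hgc.coprime_dvd_left ((orderOf_map_dvd χ _).trans
      (by rw [Subgroup.orderOf_mk]))
    have ha1 : a = 1 := hYfix A hA le_sup_left a ha haY hac
    have hgU : g ∈ Subgroup.centralizer (Ub : Set L) := by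
      rintro _ ⟨⟨x, hxS⟩, hx, rfl⟩
      have h1 := hav ⟨x, Subgroup.mem_sup_right hx⟩
      simp only [ha1, MulAut.one_apply] at h1
      rw [eq_mul_inv_iff_mul_eq] at h1
      exact h1
    obtain ⟨k, hk⟩ := hUbp ⟨_, hUbc hgU⟩
    exact pow_eq_one_of_coprime hgc (k := k) (congrArg Subtype.val hk)
  -- `p`-nilpotency modulo `U`
  have hrel := relW_eq_comap zjFunctor zjFunctor_map T₀ hUbp
  let eS : S ≃* ↥(T₀ : Subgroup L) :=
    (MonoidHom.ofInjective hinj).trans (MulEquiv.subgroupCongr hT₀.symm)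
  have hUe : (U.subgroupOf S).map eS.toMonoidHom = Ub.subgroupOf (T₀ : Subgroup L) := by
    ext y
    constructor
    · rintro ⟨x, hx, rfl⟩; exact ⟨x, hx, rfl⟩
    · rintro ⟨x, hx, hxe⟩; exact ⟨x, hx, Subtype.ext hxe⟩
  have hXb : (X.subgroupOf S).map ι = relW zjFunctor Ub (T₀ : Subgroup L) := by
    ext y
    constructor
    · rintro ⟨x, hx, rfl⟩
      exact (relW_map zjFunctor zjFunctor_map hS eS hUe x).2 hx
    · intro hy
      obtain ⟨x, rfl⟩ := hT₀.le (relW_le _ _ _ hy)
      exact ⟨x, (relW_map zjFunctor zjFunctor_map hS eS hUe x).1 hy, rfl⟩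
  let π : L →* L ⧸ Ub := QuotientGroup.mk' Ub
  have hπ : Function.Surjective π := QuotientGroup.mk'_surjective Ub
  have hq : Cfsg.HasNormalPComplement p (L ⧸ Ub) := by
    refine CfsgLib.ZJ.hasNormalPComplement_of_functor
      (CfsgLib.ZJ.isZJFunctor_zJ hp (Or.inl rfl)) hp (Or.inl rfl) (T₀.mapSurjective hπ)
      (CfsgLib.Transfer.hasNormalPComplement_of_isPGroup ?_)
    have hNX : IsPGroup p ↥(Subgroup.normalizer
        (((X.subgroupOf S).map ι : Subgroup L) : Set L)) :=
      isPGroup_of_coprime_trivial fun g hg hgc => hstab X (relW_le _ _ _) hXfix g hgc hg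
    refine (hNX.map π).to_le fun y hy => ?_
    obtain ⟨g, rfl⟩ := hπ y
    refine ⟨g, Subgroup.mem_normalizer_iff.2 fun x => ?_, rfl⟩
    have e2 : (zjFunctor ↥(T₀.mapSurjective hπ : Subgroup (L ⧸ Ub))).map
        (T₀.mapSurjective hπ : Subgroup (L ⧸ Ub)).subtype =
        CfsgLib.ZJ.zJ 0 (T₀.mapSurjective hπ : Subgroup (L ⧸ Ub)) := by
      rw [← CfsgLib.ZJ.centerThompsonAOf_eq]; exact functorOf_zjFunctor _
    rw [hXb, hrel, e2, Subgroup.mem_comap, Subgroup.mem_comap, map_mul, map_mul, map_inv]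
    exact Subgroup.mem_normalizer_iff.1 hy _
  let Db : Subgroup L := (D.subgroupOf S).map ι
  have hsc : ∀ g : L, ∀ d ∈ Db, g * d * g⁻¹ ∈ (T₀ : Subgroup L) → g * d * g⁻¹ ∈ Db := by
    rintro g _ ⟨⟨d, hdS⟩, hd, rfl⟩ hgd
    obtain ⟨w, hw⟩ := hT₀.le hgd
    have hle : Subgroup.zpowers d ≤ S := Subgroup.zpowers_le.2 hdS
    have hval : ∀ x ∈ Subgroup.zpowers d, ∃ z : S, ι z = g * homExt ι x * g⁻¹ := by
      rintro _ ⟨i, rfl⟩
      refine ⟨w ^ i, ?_⟩
      rw [map_zpow, hw, ← MulAut.conj_apply, ← MulAut.conj_apply, ← map_zpow,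
        homExt_apply ι (hle ⟨i, rfl⟩), ← map_zpow ι]
      rfl
    choose! z hz using hval
    have hm : IsMap F (Subgroup.zpowers d) (fun x => (z x : Ω)) :=
      isMap_of_conj hL.2.1 hle (fun x _ => (z x).2) (g := g) fun x hx => by
        rw [homExt_apply ι (z x).2]; exact hz x hx
    have h2 : (z d : Ω) ∈ D := isMap_mem_of_stronglyClosed hD hm (Subgroup.mem_zpowers d) hd
    refine ⟨z d, h2, ?_⟩
    rw [hz d (Subgroup.mem_zpowers d), homExt_apply ι hdS]
  have hWb : (W.subgroupOf S).map ι = CfsgLib.ZJ.zJ e Db := by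
    have h1 : W.subgroupOf S = CfsgLib.ZJ.zJ e (D.subgroupOf S) :=
      Subgroup.map_injective S.subtype_injective <| by
        rw [CfsgLib.ZJ.map_zJ e S.subtype S.subtype_injective.injOn,
          Subgroup.map_subgroupOf_eq_of_le hDS, Subgroup.map_subgroupOf_eq_of_le (hWD.trans hDS),
          hWdef]
    rw [h1, CfsgLib.ZJ.map_zJ e ι hinj.injOn]
  have hNW : IsPGroup p ↥(Subgroup.normalizer (CfsgLib.ZJ.zJ e Db : Set L)) :=
    isPGroup_of_coprime_trivial fun g hg hgc =>
      hstab W (hWD.trans hDS) hW g hgc (hWb.symm ▸ hg)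
  have hLp := isPGroup_of_stronglyClosed_zj hp he T₀ Db
    (hT₀ ▸ Subgroup.map_le_range _ _) hsc Ub hUbp hq hUbc hNW
  have htop : (T₀ : Subgroup L) = ⊤ := (T₀.3 (hLp.to_subgroup ⊤) le_top).symm
  refine autsPGroup_of_le_inner hS fun P f hf => ?_
  obtain ⟨γ, hγ⟩ := exists_conj_of_isMap hL.2.1 hf
  obtain ⟨t, rfl⟩ := hT₀.le (htop.ge (Subgroup.mem_top γ))
  refine isMap_inner_iff.2 ⟨hf.le, t, t.2, fun x hx => ?_⟩
  have h7 := hγ x hx
  rw [homExt_apply ι (hf.mem hx), homExt_apply ι (hf.le hx),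
    ← map_inv, ← map_mul, ← map_mul] at h7
  exact congrArg Subtype.val (hinj h7)

/-- The criterion. -/
theorem inner_iff_zj_stronglyClosed (hS : IsPGroup p S) (hF : F.IsSaturated p) (hp : p ≠ 2)
    {D : Subgroup Ω} (hD : F.StronglyClosed D) :
    (∀ P : Subgroup Ω, F.Hom P = (innerFusionSystem S).Hom P) ↔
      ∀ N : FusionSystem (normalizerIn S (Cfsg.centerThompsonAOf D)),
        F.IsNormalizerSystem (Cfsg.centerThompsonAOf D) N → ∀ P : Subgroup Ω,
          N.Hom P = (innerFusionSystem (normalizerIn S (Cfsg.centerThompsonAOf D))).Hom P := by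
  have hW : Cfsg.centerThompsonAOf D ≤ S :=
    ((CfsgLib.ZJ.centerThompsonAOf_eq D).trans_le (CfsgLib.ZJ.zJ_le 0 D)).trans hD.1
  have hWn : normalizerIn S (Cfsg.centerThompsonAOf D) = S := inf_eq_left.2 fun s hs => by
    rw [CfsgLib.ZJ.centerThompsonAOf_eq]
    refine CfsgLib.ZJ.normalizer_le_normalizer_zJ 0 D (mem_normalizer_of_conj_mem hD.1 fun d hd => ?_)
    exact isMap_mem_of_stronglyClosed hD (isMap_conj (F := F) hD.1 hs) hd hd
  constructor
  · exact fun h N hN P => normalizer_inner_of_inner hW hWn h N hN P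
  · intro h
    exact inner_of_autsPGroup hS hF (autsPGroup_of_stronglyClosed_zj hp (Or.inl rfl) _ F rfl hS hF D hD
      (CfsgLib.ZJ.centerThompsonAOf_eq D ▸ fixPGroup_of_normalizer_inner hS hW hWn h))

end CfsgLib.Fusion
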