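import Mathlib
import Cfsg.Agent.Lib.Fusion.ReplacementFamily
import Cfsg.Agent.Lib.Fusion.StronglyClosedControl

/-!
Normalizers of intersections of replacement families detect inner systems.
-/

set_option autoImplicit false
set_option linter.style.haveILetI false

open scoped commutatorElement

namespace CfsgLib.Fusion

open Cfsg Cfsg.FusionSystem

universe u

variable {p : ℕ} [Fact p.Prime] {Ω : Type u} [Group Ω] {S : Subgroup Ω} [Finite S]
  {F : FusionSystem S}

/-- The automorphisms of the system preserve the intersection of the members inside the source. -/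
def FamInvariant (F : FusionSystem S) (𝒜 : Set (Subgroup Ω)) : Prop :=
  ∀ Q : Subgroup Ω, Q ≤ S → (∃ A ∈ 𝒜, A ≤ Q) → ∀ α ∈ F.autGroup Q, ∀ x : Q,
    (∀ A ∈ 𝒜, A ≤ Q → (x : Ω) ∈ A) → ∀ A ∈ 𝒜, A ≤ Q → ((α x : Q) : Ω) ∈ A

/-- A subgroup normal in `S` without being normal in the system is avoided by `p'`-automorphisms,
by induction. -/
theorem fixPGroup_of_not_normal_of_sub {n : ℕ} (hn : (mapGraphs F).ncard = n)
    (hS : IsPGroup p S) (hF : F.IsSaturated p) {W : Subgroup Ω}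
    (hW : FixPGroup F p W)
    (ih : ∀ E : FusionSystem S, (mapGraphs E).ncard < n → E.IsSaturated p →
      (∀ P f, IsMap E P f → IsMap F P f) → FixPGroup E p W → AutsPGroup E p)
    {X : Subgroup Ω} (hX : X ≤ S) (hXn : S ≤ Subgroup.normalizer (X : Set Ω))
    (hnot : ¬ F.IsNormal X) : FixPGroup F p X := by
  intro A hA hXA a ha haX hac
  have hXN : normalizerIn S X = S := inf_eq_left.2 hXn
  have hXfn : F.IsFullyNormalized X := ⟨hX, fun Q' _ => by
    rw [hXN]; exact Subgroup.card_le_of_le inf_le_left⟩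
  obtain ⟨E, hE⟩ : ∃ E, F.IsNormalizerSystem X E := ⟨normalizerSystem F X hX, fun _ => rfl⟩
  have key : ∀ (T : Subgroup Ω), T = S → ∀ E : FusionSystem T, E.IsSaturated p →
      (∀ P f, IsMap E P f ↔ P ≤ S ∧ ∃ g, IsMap F (P ⊔ X) g ∧ (∀ x ∈ P, g x = f x) ∧
        g '' (X : Set Ω) = X) → AutsPGroup E p := by
    rintro T rfl E hEsat hEiff
    have hsub : ∀ P f, IsMap E P f → IsMap F P f := fun P f hm => by
      obtain ⟨-, g, hg, hgf, -⟩ := (hEiff P f).1 hm
      exact (hg.mono le_sup_left).congr hgf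
    refine ih E ?_ hEsat hsub ?_
    · rw [← hn]
      refine ncard_mapGraphs_lt hsub ?_
      by_contra hc
      push_neg at hc
      refine hnot (isNormal_iff.2 ⟨hX, fun P f hm => ?_⟩)
      obtain ⟨-, g, hg, hgf, hgX⟩ := (hEiff P f).1 (hc P f hm)
      exact ⟨g, hg, hgf, hgX⟩
    · intro B hB hWB b hb hbW hbc
      have hbi := (mem_autGroup_iff hB b).1 hb
      exact hW B hB hWB b ((mem_autGroup_iff hB b).2 ⟨hsub _ _ hbi.isMap, hbi.image_eq⟩) hbW hbc
  have hEp := key _ hXN E (isSaturated_normalizerSystem hS hF hXfn hE) fun P f => by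
    rw [isMap_normalizerSystem_iff hE, hXN]
    exact ⟨fun ⟨hP, _, h⟩ => ⟨hP, h⟩, fun ⟨hP, g, hg, hgf, hgX⟩ => ⟨hP, fun x hx =>
      hgf x hx ▸ hg.mem (Subgroup.mem_sup_left hx), g, hg, hgf, hgX⟩⟩
  have hAn : A ≤ normalizerIn S X := hXN.symm ▸ hA
  have hai := (mem_autGroup_iff hA a).1 ha
  exact coprime_pGroup_eq_one (hEp A hAn) ((mem_autGroup_iff hAn a).2
    ⟨(isMap_normalizerSystem_iff hE).2 ⟨hAn, fun x hx => hXN.symm ▸ hai.isMap.mem hx, autFun a,
      by rw [sup_eq_left.2 hXA]; exact hai.isMap, fun _ _ => rfl, haX⟩, hai.image_eq⟩) hac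

/-- The normalizer of the intersection detects inner systems. -/
theorem autsPGroup_of_replFam (hp : p ≠ 2) (𝒜 : Set (Subgroup Ω))
    (h𝒜 : ∀ A ∈ 𝒜, A ≤ S ∧ ∀ x ∈ A, ∀ y ∈ A, x * y = y * x) (hne : 𝒜.Nonempty)
    (hrep : ∀ B : Subgroup Ω, B ≤ S → ⁅⁅B, B⁆, B⁆ = ⊥ → (∃ A ∈ 𝒜, ⁅B, B⁆ ≤ A ∧ ¬ B ≤ A) →
      ∃ A ∈ 𝒜, ⁅B, B⁆ ≤ A ∧ ¬ B ≤ A ∧ B ≤ Subgroup.normalizer (A : Set Ω)) :
    ∀ (n : ℕ) (F : FusionSystem S), (mapGraphs F).ncard = n → IsPGroup p S → F.IsSaturated p →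
      FamInvariant F 𝒜 → FixPGroup F p (famInf 𝒜) → AutsPGroup F p := by
  intro n
  induction n using Nat.strong_induction_on with
  | _ n ihn =>
  intro F hn hS hF hinv hW
  set W := famInf 𝒜 with hWdef
  have hWS : W ≤ S := by
    obtain ⟨A, hA⟩ := hne
    exact fun x hx => (h𝒜 A hA).1 (mem_famInf.1 hx A hA)
  -- the largest normal subgroup
  have hbot : F.IsNormal ⊥ := by
    refine isNormal_iff.2 ⟨bot_le, fun P f hf => ⟨f, by rwa [sup_bot_eq], fun _ _ => rfl, ?_⟩⟩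
    rw [Subgroup.coe_bot, Set.image_singleton, hf.map_one]
  obtain ⟨U, hU, hUmax⟩ := Set.exists_max_image {U : Subgroup Ω | F.IsNormal U}
    (fun U => Nat.card U) (finite_subgroups_le (S := S) _ fun U (hU : F.IsNormal U) => hU.1)
    ⟨⊥, hbot⟩
  have hU : F.IsNormal U := hU
  have hUS := hU.1
  have := finite_of_le hUS
  have hUn : S ≤ Subgroup.normalizer (U : Set Ω) := le_normalizer_of_isNormal hU
  have hih : ∀ E : FusionSystem S, (mapGraphs E).ncard < n → E.IsSaturated p →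
      (∀ P f, IsMap E P f → IsMap F P f) → FixPGroup E p W → AutsPGroup E p :=
    fun E hlt hE hsub hWE => ihn _ hlt E rfl hS hE (fun Q hQ hex α hα x hx A hA hAQ =>
      hinv Q hQ hex α ((mem_autGroup_iff hQ α).2 ⟨hsub _ _ ((mem_autGroup_iff hQ α).1 hα).isMap,
        ((mem_autGroup_iff hQ α).1 hα).image_eq⟩) x hx A hA hAQ) hWE
  have hloc : ∀ X : Subgroup Ω, X ≤ S → U ≤ X → X ≠ U →
      S ≤ Subgroup.normalizer (X : Set Ω) → FixPGroup F p X := by
    intro X hX hUX hne' hXn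
    refine fixPGroup_of_not_normal_of_sub hn hS hF hW hih hX hXn fun hXN => hne' ?_
    have := finite_of_le hX
    exact (Subgroup.eq_of_le_of_card_ge hUX (hUmax X hXN)).symm
  set X := relW zjFunctor U S
  have hXfix' : U ≠ S → FixPGroup F p X := fun hUne => hloc X (relW_le _ _ _) (le_relW _ hUS)
    (relW_ne zjFunctor zjFunctor_ne_bot hS hUS hUn hUne) fun s hs =>
      normalizer_le_relW zjFunctor zjFunctor_map le_rfl hS (Subgroup.le_normalizer hs) (hUn hs)
  by_cases hUc : centralizerIn S U ≤ U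
  swap
  · -- `U` is not centric
    have hUne : U ≠ S := fun h => hUc (h ▸ inf_le_left)
    have hR : U ⊔ centralizerIn S U ≠ U := fun h => hUc (sup_eq_left.1 h)
    have hRS : U ⊔ centralizerIn S U ≤ S := sup_le hUS inf_le_left
    have hRn : S ≤ Subgroup.normalizer ((U ⊔ centralizerIn S U : Subgroup Ω) : Set Ω) := by
      intro s hs
      refine mem_normalizer_of_conj_mem hRS fun x hx => ?_
      have hle : U ⊔ centralizerIn S U ≤
          (U ⊔ centralizerIn S U).comap (MulAut.conj s).toMonoidHom := sup_le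
        (fun u hu => Subgroup.mem_sup_left (conj_mem_of_mem_normalizer (hUn hs) hu))
        (fun c hc => Subgroup.mem_sup_right ⟨S.mul_mem (S.mul_mem hs hc.1) (S.inv_mem hs),
          mem_centralizer_of_conj_eq fun y hy => by
            show s * c * s⁻¹ * y * (s * c * s⁻¹)⁻¹ = y
            have h1 := conj_eq_self_of_mem_centralizer hc.2
              (conj_mem_of_mem_normalizer (Subgroup.inv_mem _ (hUn hs)) hy)
            calc s * c * s⁻¹ * y * (s * c * s⁻¹)⁻¹ = s * (c * (s⁻¹ * y * s⁻¹⁻¹) * c⁻¹) * s⁻¹ := by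
                  group
              _ = y := by rw [h1]; group⟩)
      exact hle hx
    have hRfix := hloc _ hRS le_sup_left hR hRn
    have hUp : IsPGroup p (F.autGroup U) := by
      have := finite_mulAut U
      refine isPGroup_of_coprime_trivial' fun a hac => Subtype.ext ?_
      have hai := (mem_autGroup_iff hUS _).1 a.2
      have hUfn : F.IsFullyNormalized U := ⟨hUS, fun Q _ => by
        rw [show normalizerIn S U = S from inf_eq_left.2 hUn]
        exact Subgroup.card_le_of_le inf_le_left⟩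
      obtain ⟨χ, hχ, hχv⟩ := (isReceptive_iff.1 (isReceptive_of_isFullyNormalized hS hF hUfn)).2
        U _ hai
      have hRN : U ⊔ centralizerIn S U ≤ nPhi S U (autFun (a : MulAut U)) :=
        sup_le (le_nPhi hai.isMap) fun c hc => ⟨hc.1, Subgroup.centralizer_le_normalizer _ hc.2,
          1, S.one_mem, fun x hx => by
            rw [conj_eq_self_of_mem_centralizer hc.2 hx, one_mul, inv_one, mul_one]⟩
      have hχR : χ '' ((U ⊔ centralizerIn S U : Subgroup Ω) : Set Ω) =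
          (U ⊔ centralizerIn S U : Subgroup Ω) := by
        refine image_eq_of_mem hRS hχ hRN fun x hx => ?_
        obtain ⟨φ, hφ, hv⟩ := id hχ
        have h3 : U ⊔ centralizerIn S U ≤ ((U ⊔ centralizerIn S U).comap φ).map
            (nPhi S U (autFun (a : MulAut U))).subtype := sup_le
          (fun y hy => ⟨⟨y, hRN (Subgroup.mem_sup_left hy)⟩,
            show φ ⟨y, hRN (Subgroup.mem_sup_left hy)⟩ ∈ U ⊔ centralizerIn S U by
            rw [hv, hχv y hy]; exact Subgroup.mem_sup_left (hai.mem hy), rfl⟩)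
          (fun y hy => ⟨⟨y, hRN (Subgroup.mem_sup_right hy)⟩,
            show φ ⟨y, hRN (Subgroup.mem_sup_right hy)⟩ ∈ U ⊔ centralizerIn S U by
            rw [hv]
            refine Subgroup.mem_sup_right ⟨hχ.mem (hRN (Subgroup.mem_sup_right hy)),
              mem_centralizer_of_conj_eq fun z hz => ?_⟩
            obtain ⟨w, hw, rfl⟩ := hai.surj hz
            rw [← hχv w hw, ← hχ.map_conj (hRN (Subgroup.mem_sup_right hy))
              (hRN (Subgroup.mem_sup_left hw)), conj_eq_self_of_mem_centralizer hy.2 hw], rfl⟩)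
        obtain ⟨z, hz, rfl⟩ := h3 hx
        show χ (z : Ω) ∈ _
        rw [← hv z]; exact hz
      exact eq_one_of_fix hRfix le_sup_left hRS le_rfl ⟨hχ.mono hRN, hχR⟩ hχR
        (by rwa [Subgroup.orderOf_coe]) fun x => by rw [hχv x x.2, autFun_coe]
    have hXfix := hXfix' hUne
    exact autsPGroup_of_fix (H := Multiplicative ℤ) zjFunctor zjFunctor_ne_bot zjFunctor_map
      zjFunctor zjFunctor_ne_bot zjFunctor_map
      (fun L _ _ P hc _ hN _ => isPGroup_of_normalizer_zj hp L P hc hN)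
      _ S F rfl hS hF (isSectionFree_infinite F _) U hU hUp hXfix hXfix.centPGroup
  -- the constrained case
  have hUfn : F.IsFullyNormalized U := ⟨hUS, fun Q _ => by
    rw [show normalizerIn S U = S from inf_eq_left.2 hUn]
    exact Subgroup.card_le_of_le inf_le_left⟩
  have hUcen : F.IsCentric U := isCentric_of_fullyCentralized hS hF
    (isFullyCentralized_of_isFullyNormalized hS hF hUfn) hUc
  obtain ⟨L, _, ι, hL⟩ := exists_model hS (⟨hF, U, hU, hUcen⟩ : F.IsConstrained p)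
  have : Finite L := hL.1
  obtain ⟨T₀, hT₀⟩ := hL.2.2.1
  have hinj := hL.2.1.1
  haveI hUb : ((U.subgroupOf S).map ι).Normal := normal_map_of_isModel hL hU
  have hUbp : IsPGroup p ((U.subgroupOf S).map ι) := (hS.to_subgroup _).map _
  set Ub := (U.subgroupOf S).map ι with hUbdef
  have hUbc : Subgroup.centralizer (Ub : Set L) ≤ Ub :=
    ((⟨hS, hF, hU, hUcen⟩ : CentricNormal F p U).centralizer_le hL).trans
      (Subgroup.map_mono fun z hz =>
        (⟨hS, hF, hU, hUcen⟩ : CentricNormal F p U).mem_of_conjQ_eq_one (MonoidHom.mem_ker.1 hz))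
  -- elements normalizing a subgroup without `p'`-stabiliser and centralizing `U` are trivial
  have hstab : ∀ Y : Subgroup Ω, Y ≤ S → FixPGroup F p Y → ∀ g : L, (orderOf g).Coprime p →
      g ∈ Subgroup.normalizer (((Y.subgroupOf S).map ι : Subgroup L) : Set L) → g = 1 := by
    intro Y hY hYfix g hgc hg
    set A := Y ⊔ U
    have hA : A ≤ S := sup_le hY hUS
    set Ab := (A.subgroupOf S).map ι
    have hAb : Ab = (Y.subgroupOf S).map ι ⊔ Ub := by
      show Subgroup.map _ _ = _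
      rw [Subgroup.subgroupOf_sup hY hUS, Subgroup.map_sup]
    have hgA : g ∈ Subgroup.normalizer (Ab : Set L) := by
      refine mem_normalizer_of_conj_mem (S := (⊤ : Subgroup L)) le_top fun x hx => ?_
      have hle : Ab ≤ Ab.comap (MulAut.conj g).toMonoidHom := by
        conv_lhs => rw [hAb]
        refine sup_le (fun y hy => ?_) (fun y hy => ?_)
        · show g * y * g⁻¹ ∈ Ab
          rw [hAb]; exact Subgroup.mem_sup_left (conj_mem_of_mem_normalizer hg hy)
        · show g * y * g⁻¹ ∈ Ab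
          rw [hAb]; exact Subgroup.mem_sup_right (hUb.conj_mem y hy g)
      exact hle hx
    let e : A ≃* Ab := (Subgroup.subgroupOfEquivOfLe hA).symm.trans
      (Subgroup.equivMapOfInjective _ ι hinj)
    let χ : ↥(Subgroup.normalizer (Ab : Set L)) →* MulAut A :=
      (MulAut.congr e.symm).toMonoidHom.comp Ab.normalizerMonoidHom
    set a := χ ⟨g, hgA⟩
    have hav : ∀ x : A, ι ⟨(a x : Ω), hA (a x).2⟩ = g * ι ⟨x, hA x.2⟩ * g⁻¹ := fun x => by
      have h1 : e (a x) = Ab.normalizerMonoidHom ⟨g, hgA⟩ (e x) := e.apply_symm_apply _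
      exact congrArg (fun y : Ab => (y : L)) h1
    have ha : a ∈ F.autGroup A := mem_autGroup_of_isMap (f := autFun a)
      (isMap_of_conj hL.2.1 hA (fun x hx => hA (autFun_mem _ hx)) (g := g) fun x hx => by
        rw [homExt_apply ι (hA (autFun_mem _ hx)), homExt_apply ι (hA hx)]
        refine Eq.trans ?_ (hav ⟨x, hx⟩)
        congr 2
        exact autFun_apply a hx) a fun x => (autFun_coe _ x).symm
    have haY : autFun a '' (Y : Set Ω) = Y := by
      refine image_eq_of_mem hY ((mem_autGroup_iff hA a).1 ha).isMap le_sup_left fun y hy => ?_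
      rw [autFun_apply a (Subgroup.mem_sup_left hy)]
      have h1 : ι ⟨(a ⟨y, Subgroup.mem_sup_left hy⟩ : Ω), hA (a _).2⟩ ∈
          (Y.subgroupOf S).map ι := by
        rw [hav]; exact conj_mem_of_mem_normalizer hg ⟨⟨y, hY hy⟩, hy, rfl⟩
      exact (Subgroup.mem_map_iff_mem hinj).1 h1
    have hac : (orderOf a).Coprime p := hgc.coprime_dvd_left ((orderOf_map_dvd χ _).trans
      (by rw [Subgroup.orderOf_mk]))
    have ha1 : a = 1 := hYfix A hA le_sup_left a ha haY hac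
    have hgU : g ∈ Subgroup.centralizer (Ub : Set L) := by
      rintro _ ⟨⟨x, hxS⟩, hx, rfl⟩
      have h1 := hav ⟨x, Subgroup.mem_sup_right hx⟩
      simp only [ha1, MulAut.one_apply] at h1
      rw [eq_mul_inv_iff_mul_eq] at h1
      exact h1
    obtain ⟨k, hk⟩ := hUbp ⟨_, hUbc hgU⟩
    exact pow_eq_one_of_coprime hgc (k := k) (congrArg Subtype.val hk)
  -- `p`-nilpotency modulo `U`
  have hrel := relW_eq_comap zjFunctor zjFunctor_map T₀ hUbp
  let e : S ≃* ↥(T₀ : Subgroup L) :=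
    (MonoidHom.ofInjective hinj).trans (MulEquiv.subgroupCongr hT₀.symm)
  have hUe : (U.subgroupOf S).map e.toMonoidHom = Ub.subgroupOf (T₀ : Subgroup L) := by
    ext y
    constructor
    · rintro ⟨x, hx, rfl⟩; exact ⟨x, hx, rfl⟩
    · rintro ⟨x, hx, hxe⟩; exact ⟨x, hx, Subtype.ext hxe⟩
  have hXb : (X.subgroupOf S).map ι = relW zjFunctor Ub (T₀ : Subgroup L) := by
    ext y
    constructor
    · rintro ⟨x, hx, rfl⟩
      exact (relW_map zjFunctor zjFunctor_map hS e hUe x).2 hx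
    · intro hy
      obtain ⟨x, rfl⟩ := hT₀.le (relW_le _ _ _ hy)
      exact ⟨x, (relW_map zjFunctor zjFunctor_map hS e hUe x).1 hy, rfl⟩
  let π : L →* L ⧸ Ub := QuotientGroup.mk' Ub
  have hπ : Function.Surjective π := QuotientGroup.mk'_surjective Ub
  have hq : Cfsg.HasNormalPComplement p (L ⧸ Ub) := by
    by_cases hUeq : U = S
    · have hUbT : Ub = (T₀ : Subgroup L) := by
        rw [hT₀, hUbdef, hUeq, Subgroup.subgroupOf_self, ← MonoidHom.range_eq_map]
      refine CfsgLib.Transfer.hasNormalPComplement_of_le_of_isPGroup_quotient ⊤ ?_ ?_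
      · rw [Subgroup.card_top, ← Subgroup.index_eq_card, hUbT]
        exact ((Fact.out : p.Prime).coprime_iff_not_dvd.2 T₀.not_dvd_index).symm
      · intro y
        obtain ⟨y, rfl⟩ := QuotientGroup.mk_surjective y
        exact ⟨0, by rw [pow_zero, pow_one, QuotientGroup.eq_one_iff]; exact Subgroup.mem_top _⟩
    have hXfix := hXfix' hUeq
    refine CfsgLib.ZJ.hasNormalPComplement_of_functor
      (CfsgLib.ZJ.isZJFunctor_zJ hp (Or.inl rfl)) hp (Or.inl rfl) (T₀.mapSurjective hπ)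
      (CfsgLib.Transfer.hasNormalPComplement_of_isPGroup ?_)
    have hNX : IsPGroup p ↥(Subgroup.normalizer
        (((X.subgroupOf S).map ι : Subgroup L) : Set L)) :=
      isPGroup_of_coprime_trivial fun g hg hgc => hstab X (relW_le _ _ _) hXfix g hgc hg
    refine (hNX.map π).to_le fun y hy => ?_
    obtain ⟨g, rfl⟩ := hπ y
    refine ⟨g, Subgroup.mem_normalizer_iff.2 fun x => ?_, rfl⟩
    have e2 : (zjFunctor ↥(T₀.mapSurjective hπ : Subgroup (L ⧸ Ub))).map
        (T₀.mapSurjective hπ : Subgroup (L ⧸ Ub)).subtype =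
        CfsgLib.ZJ.zJ 0 (T₀.mapSurjective hπ : Subgroup (L ⧸ Ub)) := by
      rw [← CfsgLib.ZJ.centerThompsonAOf_eq]; exact functorOf_zjFunctor _
    rw [hXb, hrel, e2, Subgroup.mem_comap, Subgroup.mem_comap, map_mul, map_mul, map_inv]
    exact Subgroup.mem_normalizer_iff.1 hy _
  -- the family in the model
  let 𝒜b : Set (Subgroup L) := (fun A => (A.subgroupOf S).map ι) '' 𝒜
  have hmemA : ∀ {A : Subgroup Ω} {x : S}, ι x ∈ (A.subgroupOf S).map ι ↔ (x : Ω) ∈ A :=
    fun {A x} => Subgroup.mem_map_iff_mem hinj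
  have hfam : ReplFam (T₀ : Subgroup L) 𝒜b := by
    refine ⟨?_, ?_, hne.image _, ?_, ?_⟩
    · rintro _ ⟨A, hA, rfl⟩
      exact hT₀ ▸ Subgroup.map_le_range _ _
    · rintro _ ⟨A, hA, rfl⟩ _ ⟨x, hx, rfl⟩ _ ⟨y, hy, rfl⟩
      rw [← map_mul, ← map_mul]
      exact congrArg ι (Subtype.ext ((h𝒜 A hA).2 _ hx _ hy))
    · rintro T hT ⟨_, ⟨A₀, hA₀, rfl⟩, hA₀T⟩ n hn x hx hxall _ ⟨A, hA, rfl⟩ hAT
      obtain ⟨x, rfl⟩ := hT₀.le (hT hx)
      set Q := (T.comap ι).map S.subtype with hQdef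
      have hQS : Q ≤ S := Subgroup.map_subtype_le _
      have hmemQ : ∀ {y : S}, (y : Ω) ∈ Q ↔ ι y ∈ T := fun {y} =>
        Subgroup.mem_map_iff_mem S.subtype_injective
      have hleQ : ∀ {A' : Subgroup Ω}, A' ∈ 𝒜 → (A'.subgroupOf S).map ι ≤ T → A' ≤ Q :=
        fun {A'} hA' h' y hy =>
          (hmemQ (y := ⟨y, (h𝒜 A' hA').1 hy⟩)).2 (h' ⟨⟨y, (h𝒜 A' hA').1 hy⟩, hy, rfl⟩)
      have hQle : ∀ {A' : Subgroup Ω}, A' ≤ Q → (A'.subgroupOf S).map ι ≤ T := by
        rintro A' h' _ ⟨y, hy, rfl⟩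
        exact hmemQ.1 (h' hy)
      have hval : ∀ y ∈ Q, ∃ z : S, ι z = n * homExt ι y * n⁻¹ := fun y hy => by
        refine hT₀.le (hT (conj_mem_of_mem_normalizer hn ?_))
        rw [homExt_apply ι (hQS hy)]
        exact hmemQ.1 hy
      choose! z hz using hval
      have hm : IsMap F Q (fun y => (z y : Ω)) :=
        isMap_of_conj hL.2.1 hQS (fun y _ => (z y).2) (g := n) fun y hy => by
          rw [homExt_apply ι (z y).2]; exact hz y hy
      have himg : (fun y => (z y : Ω)) '' (Q : Set Ω) = Q :=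
        image_eq_of_mem hQS hm le_rfl fun y hy => hmemQ.2 (by
          rw [hz y hy]
          refine conj_mem_of_mem_normalizer hn ?_
          rw [homExt_apply ι (hQS hy)]
          exact hmemQ.1 hy)
      obtain ⟨α, hα, hαv⟩ := exists_mem_autGroup (⟨hm, himg⟩ : IsIso F Q Q _)
      have hxQ : (x : Ω) ∈ Q := hmemQ.2 hx
      have h1 := hinv Q hQS ⟨A₀, hA₀, hleQ hA₀ hA₀T⟩ α hα ⟨x, hxQ⟩ (fun A' hA' hA'Q =>
        hmemA.1 (hxall _ ⟨A', hA', rfl⟩ (hQle hA'Q))) A hA (hleQ hA hAT)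
      rw [hαv] at h1
      have h2 : ι (z x) = n * ι x * n⁻¹ := by rw [hz _ hxQ, homExt_apply ι x.2]
      rw [← h2]
      exact hmemA.2 h1
    · rintro B hB hcl ⟨_, ⟨A₀, hA₀, rfl⟩, hA₀1, hA₀2⟩
      set B' := (B.comap ι).map S.subtype with hB'
      have hBι : (B'.subgroupOf S).map ι = B := by
        rw [hB', Subgroup.subgroupOf, Subgroup.comap_map_eq_self_of_injective S.subtype_injective,
          Subgroup.map_comap_eq_self (hB.trans hT₀.le)]
      have hcomm : (⁅B', B'⁆).subgroupOf S = ⁅B.comap ι, B.comap ι⁆ := by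
        rw [hB', ← Subgroup.map_commutator, Subgroup.subgroupOf,
          Subgroup.comap_map_eq_self_of_injective S.subtype_injective]
      have hbb : ⁅B, B⁆ = (⁅B.comap ι, B.comap ι⁆).map ι := by
        rw [Subgroup.map_commutator, Subgroup.map_comap_eq_self (hB.trans hT₀.le)]
      have hle : ∀ {A : Subgroup Ω}, A ≤ S → (⁅B, B⁆ ≤ (A.subgroupOf S).map ι ↔ ⁅B', B'⁆ ≤ A) := by
        intro A hA
        rw [hbb, Subgroup.map_le_map_iff_of_injective hinj, hB', ← Subgroup.map_commutator,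
          Subgroup.map_le_iff_le_comap]
        rfl
      have hle' : ∀ {A : Subgroup Ω}, A ≤ S → (B ≤ (A.subgroupOf S).map ι ↔ B' ≤ A) := by
        intro A hA
        conv_lhs => rw [← Subgroup.map_comap_eq_self (hB.trans hT₀.le),
          Subgroup.map_le_map_iff_of_injective hinj]
        rw [hB', Subgroup.map_le_iff_le_comap]
        rfl
      have hcl' : ⁅⁅B', B'⁆, B'⁆ = ⊥ := by
        have h1 : (⁅⁅B.comap ι, B.comap ι⁆, B.comap ι⁆).map ι = ⊥ := by
          rw [Subgroup.map_commutator, Subgroup.map_commutator,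
            Subgroup.map_comap_eq_self (hB.trans hT₀.le), hcl]
        rw [hB', ← Subgroup.map_commutator, ← Subgroup.map_commutator,
          (Subgroup.map_eq_bot_iff_of_injective _ hinj).1 h1, Subgroup.map_bot]
      obtain ⟨A, hA, h1, h2, h3⟩ := hrep B' (Subgroup.map_subtype_le _) hcl'
        ⟨A₀, hA₀, (hle (h𝒜 _ hA₀).1).1 hA₀1, fun h' => hA₀2 ((hle' (h𝒜 _ hA₀).1).2 h')⟩
      refine ⟨_, ⟨A, hA, rfl⟩, (hle (h𝒜 _ hA).1).2 h1, fun h' => h2 ((hle' (h𝒜 _ hA).1).1 h'),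
        fun b hb => ?_⟩
      obtain ⟨y, rfl⟩ := hT₀.le (hB hb)
      refine Subgroup.le_normalizer_map ι ⟨y, ?_, rfl⟩
      exact Subgroup.le_normalizer_comap S.subtype (h3 ⟨y, hb, rfl⟩)
  have hWb : famInf 𝒜b = (W.subgroupOf S).map ι := by
    ext y
    rw [mem_famInf]
    constructor
    · intro hy
      obtain ⟨A₀, hA₀⟩ := id hne
      obtain ⟨x, -, rfl⟩ := hy _ ⟨A₀, hA₀, rfl⟩
      exact hmemA.2 (mem_famInf.2 fun A hA => hmemA.1 (hy _ ⟨A, hA, rfl⟩))
    · rintro ⟨x, hx, rfl⟩ _ ⟨A, hA, rfl⟩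
      exact hmemA.2 (mem_famInf.1 hx A hA)
  have hNW : IsPGroup p ↥(Subgroup.normalizer (famInf 𝒜b : Set L)) :=
    isPGroup_of_coprime_trivial fun g hg hgc => hstab W hWS hW g hgc (hWb ▸ hg)
  have hLp := isPGroup_of_replFam hp _ L rfl T₀ 𝒜b hfam Ub hUbp hq hUbc hNW
  have htop : (T₀ : Subgroup L) = ⊤ := (T₀.3 (hLp.to_subgroup ⊤) le_top).symm
  refine autsPGroup_of_le_inner hS fun P f hf => ?_
  obtain ⟨γ, hγ⟩ := exists_conj_of_isMap hL.2.1 hf
  obtain ⟨t, rfl⟩ := hT₀.le (htop.ge (Subgroup.mem_top γ))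
  refine isMap_inner_iff.2 ⟨hf.le, t, t.2, fun x hx => ?_⟩
  have h7 := hγ x hx
  rw [homExt_apply ι (hf.mem hx), homExt_apply ι (hf.le hx),
    ← map_inv, ← map_mul, ← map_mul] at h7
  exact congrArg Subtype.val (hinj h7)

end CfsgLib.Fusion

namespace CfsgLib.Fusion

open Cfsg Cfsg.FusionSystem

universe u

/-- The criterion, for the axioms as stated with infima. -/
theorem inner_iff_replFam {p : ℕ} [Fact p.Prime] {Ω : Type u} [Group Ω] {S : Subgroup Ω}
    [Finite S] {F : FusionSystem S} (hS : IsPGroup p S) (hF : F.IsSaturated p) (hp : p ≠ 2)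
    (𝒜 : Set (Subgroup Ω)) (h𝒜 : ∀ A ∈ 𝒜, A ≤ S ∧ IsMulCommutative ↥A) (hne : 𝒜.Nonempty)
    (hinv : ∀ Q : Subgroup Ω, Q ≤ S → (∃ A ∈ 𝒜, A ≤ Q) → ∀ α ∈ F.autGroup Q, ∀ x : ↥Q,
      (x : Ω) ∈ (⨅ A ∈ {A : Subgroup Ω | A ∈ 𝒜 ∧ A ≤ Q}, A) →
        (((α : MulAut ↥Q) x : ↥Q) : Ω) ∈ (⨅ A ∈ {A : Subgroup Ω | A ∈ 𝒜 ∧ A ≤ Q}, A))
    (hrep : ∀ B : Subgroup Ω, B ≤ S → ⁅⁅B, B⁆, B⁆ = ⊥ → (∃ A ∈ 𝒜, ⁅B, B⁆ ≤ A ∧ ¬ B ≤ A) →
      ∃ A ∈ 𝒜, ⁅B, B⁆ ≤ A ∧ ¬ B ≤ A ∧ B ≤ Subgroup.normalizer (A : Set Ω)) :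
    (∀ P : Subgroup Ω, F.Hom P = (innerFusionSystem S).Hom P) ↔
      ∀ N : FusionSystem (normalizerIn S (famInf 𝒜)), F.IsNormalizerSystem (famInf 𝒜) N →
        ∀ P : Subgroup Ω, N.Hom P = (innerFusionSystem (normalizerIn S (famInf 𝒜))).Hom P := by
  have hI : FamInvariant F 𝒜 := fun Q hQ hex α hα x hx A hA hAQ => by
    have h1 := hinv Q hQ hex α hα x (by
      simp only [Subgroup.mem_iInf, Set.mem_setOf_eq]
      exact fun A' hA' => hx A' hA'.1 hA'.2)
    simp only [Subgroup.mem_iInf, Set.mem_setOf_eq] at h1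
    exact h1 A ⟨hA, hAQ⟩
  have hcomm : ∀ A ∈ 𝒜, A ≤ S ∧ ∀ x ∈ A, ∀ y ∈ A, x * y = y * x := fun A hA =>
    ⟨(h𝒜 A hA).1, fun x hx y hy => by
      haveI := (h𝒜 A hA).2
      exact congrArg Subtype.val (mul_comm' (⟨x, hx⟩ : A) ⟨y, hy⟩)⟩
  have hW : famInf 𝒜 ≤ S := by
    obtain ⟨A, hA⟩ := hne
    exact fun x hx => (h𝒜 A hA).1 (mem_famInf.1 hx A hA)
  have hWn : normalizerIn S (famInf 𝒜) = S := inf_eq_left.2 fun s hs => by
    refine mem_normalizer_of_conj_mem hW fun x hx => mem_famInf.2 fun A hA => ?_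
    obtain ⟨A₀, hA₀⟩ := id hne
    have h1 := hI S le_rfl ⟨A₀, hA₀, (h𝒜 A₀ hA₀).1⟩ (conjAut S (Subgroup.le_normalizer hs))
      (autInducedBy_le_autGroup le_rfl (conjAut_mem_autInducedBy _ hs)) ⟨x, hW hx⟩
      (fun A' hA' _ => mem_famInf.1 hx A' hA') A hA (h𝒜 A hA).1
    rwa [conjAut_apply] at h1
  constructor
  · exact fun h N hN P => normalizer_inner_of_inner hW hWn h N hN P
  · intro h
    exact inner_of_autsPGroup hS hF (autsPGroup_of_replFam hp 𝒜 hcomm hne hrep _ F rfl hS hF hI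
      (fixPGroup_of_normalizer_inner hS hW hWn h))

end CfsgLib.Fusion
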