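import Cfsg.Agent.Lib.Fusion.Group
import Cfsg.Agent.Lib.Fusion.Invariant

/-!
A criterion for the fusion system of a finite group to be simple.
-/

set_option autoImplicit false

namespace CfsgLib.Fusion

open Cfsg Cfsg.FusionSystem

variable {G : Type*} [Group G] [Finite G] {p : ℕ} [Fact p.Prime] {S : Sylow p G}
variable {E : FusionSystem (S : Subgroup G)}

/-- An element normalizing the centric subgroup `R` and inducing a map of the saturated subsystem
`E` on it does so on the normalizer of `R` in `S` if it normalizes `S`. -/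
theorem isMap_conj_normalizerIn (hsat : E.IsSaturated p)
    (hsub : E.IsSubsystemOf (groupFusionSystem (S : Subgroup G))) {R : Subgroup G}
    (hR : (groupFusionSystem (S : Subgroup G)).IsCentric R) {g : G}
    (hgS : g ∈ Subgroup.normalizer ((S : Subgroup G) : Set G))
    (hgR : g ∈ Subgroup.normalizer (R : Set G))
    (hmap : IsMap E R (fun x => g * x * g⁻¹)) :
    IsMap E (normalizerIn (S : Subgroup G) R) (fun x => g * x * g⁻¹) := by
  set N := normalizerIn (S : Subgroup G) R
  have hrec : E.IsReceptive R := isReceptive_of_isFullyCentralized S.isPGroup' hsat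
    (isFullyCentralized_of_isCentric (isCentric_of_subsystem hsub hR))
  have hiso : IsIso E R R (fun x => g * x * g⁻¹) := by
    refine ⟨hmap, Set.ext fun y => ⟨?_, fun hy => ?_⟩⟩
    · rintro ⟨x, hx, rfl⟩
      exact conj_mem_of_mem_normalizer hgR hx
    · exact ⟨g⁻¹ * y * g, (Subgroup.mem_normalizer_iff''.1 hgR y).1 hy, by group⟩
  obtain ⟨f, hf, hfv⟩ := (isReceptive_iff.1 hrec).2 R _ hiso
  have hN : N ≤ nPhi (S : Subgroup G) R (fun x => g * x * g⁻¹) := by
    intro a ha
    exact ⟨ha.1, ha.2, g * a * g⁻¹, conj_mem_of_mem_normalizer hgS ha.1, fun x _ => by group⟩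
  have hfN := hf.mono hN
  obtain ⟨-, -, k, hk⟩ := isMap_group_iff.1 (isMap_of_subsystem hsub hfN)
  have hfR : IsIso E R R f := hiso.congr fun x hx => (hfv x hx).symm
  have hgN : ∀ a ∈ N, g * a * g⁻¹ ∈ N := fun a ha =>
    ⟨conj_mem_of_mem_normalizer hgS ha.1,
      Subgroup.mul_mem _ (Subgroup.mul_mem _ hgR ha.2) (Subgroup.inv_mem _ hgR)⟩
  have hkN : ∀ a ∈ N, k * a * k⁻¹ ∈ N := fun a ha => by
    rw [← hk a ha]
    exact hfN.mem_normalizerIn (le_normalizerIn hR.1) hfR ha ha.2
  set c := k⁻¹ * g with hc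
  have hcR : c ∈ Subgroup.centralizer (R : Set G) := mul_inv_mem_centralizer fun x hx => by
    rw [← hk x (le_normalizerIn hR.1 hx), hfv x hx]
  have hknorm : k ∈ Subgroup.normalizer (N : Set G) := Subgroup.mem_normalizer_fintype hkN
  have hcN : c ∈ Subgroup.normalizer (N : Set G) :=
    Subgroup.mul_mem _ (Subgroup.inv_mem _ hknorm) (Subgroup.mem_normalizer_fintype hgN)
  -- split `c` into its `p`-part and `p'`-part
  obtain ⟨a, r, hr, hord⟩ := Nat.exists_eq_pow_mul_and_not_dvd (orderOf_pos c).ne' p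
    (Fact.out : p.Prime).ne_one
  obtain ⟨u, hu1, hu0⟩ := Nat.chineseRemainder
    (((Fact.out : p.Prime).coprime_iff_not_dvd).2 hr |>.pow_left a) 1 0
  have hzp : (c ^ u) ^ p ^ a = 1 := by
    rw [← pow_mul, ← orderOf_dvd_iff_pow_eq_one, hord, mul_comm u]
    exact mul_dvd_mul_left _ (Nat.modEq_zero_iff_dvd.1 hu0)
  set k' := c ^ ((1 : ℤ) - u) with hk'
  have hk'r : k' ^ r = 1 := by
    rw [hk', ← zpow_natCast, ← zpow_mul, ← orderOf_dvd_iff_zpow_eq_one, hord]
    push_cast
    exact mul_dvd_mul_right (Nat.modEq_iff_dvd.1 hu1) _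
  have hcsplit : c = c ^ u * k' := by
    rw [hk', ← zpow_natCast, ← zpow_add]
    simp
  have hZ : centralizerIn (S : Subgroup G) R ≤ R := hR.2 R (isConj_refl hR.1)
  have hzR : c ^ u ∈ R := by
    set Z := centralizerIn (S : Subgroup G) R
    have hzc : c ^ u ∈ Subgroup.centralizer (R : Set G) := Subgroup.pow_mem _ hcR u
    have hzp' : IsPGroup p (Subgroup.zpowers (c ^ u)) := fun x => ⟨a, by
      obtain ⟨_, m, rfl⟩ := x
      apply Subtype.ext
      show ((c ^ u) ^ m) ^ p ^ a = 1
      rw [← zpow_natCast, ← zpow_mul, mul_comm, zpow_mul, zpow_natCast, hzp, one_zpow]⟩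
    have hnorm : Subgroup.zpowers (c ^ u) ≤ Subgroup.normalizer (Z : Set G) := by
      rw [Subgroup.zpowers_le]
      exact Subgroup.mem_normalizer_fintype fun x hx =>
        (conj_eq_self_of_mem_centralizer hzc (hZ hx)).symm ▸ hx
    have hp' : IsPGroup p (Subgroup.zpowers (c ^ u) ⊔ Z : Subgroup G) :=
      hzp'.to_sup_of_normal_right' (S.isPGroup'.to_le inf_le_left) hnorm
    have hcard := (isFullyCentralized_group_iff S hR.1).1 (isFullyCentralized_of_isCentric hR) _
      (sup_le (Subgroup.zpowers_le.2 hzc) inf_le_right) hp'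
    exact hZ ((Subgroup.eq_of_le_of_card_ge le_sup_right hcard).ge
      (Subgroup.mem_sup_left (Subgroup.mem_zpowers _)))
  -- the `p'`-part centralizes `N`
  have hk'C : ∀ x ∈ N, k' * x * k'⁻¹ = x := by
    intro x hx
    have hk'R : k' ∈ Subgroup.centralizer (R : Set G) := Subgroup.zpow_mem _ hcR _
    set d := k' * x * k'⁻¹ * x⁻¹ with hd
    have hdN : d ∈ N :=
      N.mul_mem (conj_mem_of_mem_normalizer (Subgroup.zpow_mem _ hcN _) hx) (N.inv_mem hx)
    have hdR : d ∈ R := hZ ⟨hdN.1, mem_centralizer_of_conj_eq fun y hy => by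
      have hy' := conj_mem_of_mem_normalizer (inv_mem hx.2) hy
      calc d * y * d⁻¹ = k' * (x * (k'⁻¹ * (x⁻¹ * y * x⁻¹⁻¹) * k'⁻¹⁻¹) * x⁻¹) * k'⁻¹ := by
            rw [hd]; group
        _ = k' * y * k'⁻¹ := by
            rw [conj_eq_self_of_mem_centralizer (inv_mem hk'R) hy']; group
        _ = y := conj_eq_self_of_mem_centralizer hk'R hy⟩
    have hpow : ∀ n : ℕ, k' ^ n * x * (k' ^ n)⁻¹ = d ^ n * x := by
      intro n
      induction n with
      | zero => simp
      | succ n ih =>
        calc k' ^ (n + 1) * x * (k' ^ (n + 1))⁻¹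
            = k' * (k' ^ n * x * (k' ^ n)⁻¹) * k'⁻¹ := by rw [pow_succ']; group
          _ = (k' * d ^ n * k'⁻¹) * (k' * x * k'⁻¹) := by rw [ih]; group
          _ = d ^ (n + 1) * x := by
            rw [conj_eq_self_of_mem_centralizer hk'R (R.pow_mem hdR n), pow_succ, hd]; group
    have hdr : d ^ r = 1 := by
      have := hpow r
      rw [hk'r] at this
      simpa using this.symm
    obtain ⟨b, hb⟩ := S.isPGroup' ⟨d, hdN.1⟩
    have hd1 : d = 1 := by
      have h1 : orderOf d ∣ Nat.gcd (p ^ b) r :=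
        Nat.dvd_gcd (orderOf_dvd_of_pow_eq_one (congrArg Subtype.val hb))
          (orderOf_dvd_of_pow_eq_one hdr)
      rw [(((Fact.out : p.Prime).coprime_iff_not_dvd).2 hr |>.pow_left b).gcd_eq_one,
        Nat.dvd_one, orderOf_eq_one_iff] at h1
      exact h1
    rw [hd, mul_inv_eq_one] at hd1
    exact hd1
  refine ((isMap_conj inf_le_left (hR.1 hzR)).comp hfN fun x hx =>
    N.mul_mem (N.mul_mem (le_normalizerIn hR.1 hzR) hx)
      (N.inv_mem (le_normalizerIn hR.1 hzR))).congr fun x hx => ?_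
  show f (c ^ u * x * (c ^ u)⁻¹) = g * x * g⁻¹
  rw [hk _ (N.mul_mem (N.mul_mem (le_normalizerIn hR.1 hzR) hx)
      (N.inv_mem (le_normalizerIn hR.1 hzR)))]
  calc k * (c ^ u * x * (c ^ u)⁻¹) * k⁻¹
      = k * (c ^ u * (k' * x * k'⁻¹) * (c ^ u)⁻¹) * k⁻¹ := by rw [hk'C x hx]
    _ = k * ((c ^ u * k') * x * (c ^ u * k')⁻¹) * k⁻¹ := by group
    _ = g * x * g⁻¹ := by rw [← hcsplit, hc]; group

/-- Climbing from a centric subgroup to `S`. -/
theorem isMap_conj_top (hsat : E.IsSaturated p)
    (hsub : E.IsSubsystemOf (groupFusionSystem (S : Subgroup G))) {g : G}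
    (hgS : g ∈ Subgroup.normalizer ((S : Subgroup G) : Set G)) {R : Subgroup G}
    (hR : (groupFusionSystem (S : Subgroup G)).IsCentric R)
    (hgR : g ∈ Subgroup.normalizer (R : Set G))
    (hmap : IsMap E R (fun x => g * x * g⁻¹)) : IsMap E S (fun x => g * x * g⁻¹) := by
  induction hd : Nat.card S - Nat.card R using Nat.strong_induction_on generalizing R with
  | _ n ih =>
  rcases eq_or_ne R (S : Subgroup G) with rfl | hne
  · exact hmap
  · have hlt := lt_normalizerIn S.isPGroup' hR.1 hne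
    have h1 : Nat.card R < Nat.card (normalizerIn (S : Subgroup G) R) := by
      refine lt_of_le_of_ne (Subgroup.card_le_of_le hlt.le) fun h => ?_
      exact hlt.ne (Subgroup.eq_of_le_of_card_ge hlt.le h.ge)
    have h2 : Nat.card (normalizerIn (S : Subgroup G) R) ≤ Nat.card S :=
      Subgroup.card_le_of_le inf_le_left
    refine ih _ (by omega) (isCentric_of_le hR hlt.le inf_le_left) ?_
      (isMap_conj_normalizerIn hsat hsub hR hgS hgR hmap) rfl
    exact Subgroup.mem_normalizer_fintype fun a ha =>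
      ⟨conj_mem_of_mem_normalizer hgS ha.1,
        Subgroup.mul_mem _ (Subgroup.mul_mem _ hgR ha.2) (Subgroup.inv_mem _ hgR)⟩

/-- `Aut_E(R)` contains what the elements of `p`-power order of `N_G(R)` induce. -/
theorem isMap_conj_of_mem_closure (hinv : E.IsInvariantIn (groupFusionSystem (S : Subgroup G)))
    {R : Subgroup G} (hR : (groupFusionSystem (S : Subgroup G)).IsFullyNormalized R) {g : G}
    (hg : g ∈ Subgroup.closure
      {g : G | g ∈ Subgroup.normalizer (R : Set G) ∧ ∃ k : ℕ, orderOf g = p ^ k}) :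
    g ∈ Subgroup.normalizer (R : Set G) ∧ IsMap E R (fun x => g * x * g⁻¹) := by
  have hauto := isFullyAutomized_group S hR.1 hR
  let M := ((E.autGroup R).comap R.normalizerMonoidHom).map
    (Subgroup.normalizer (R : Set G)).subtype
  have hgM : g ∈ M := by
    refine (Subgroup.closure_le _).2 ?_ hg
    rintro x ⟨hx, k, hk⟩
    refine ⟨⟨x, hx⟩, ?_, rfl⟩
    have hA : Subgroup.zpowers (R.normalizerMonoidHom ⟨x, hx⟩) ≤
        (groupFusionSystem (S : Subgroup G)).autGroup R := by
      rw [Subgroup.zpowers_le, autGroup_groupFusionSystem S hR.1]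
      exact conjAut_mem_autInducedBy hx (Subgroup.mem_top x)
    have hAp : IsPGroup p (Subgroup.zpowers (R.normalizerMonoidHom ⟨x, hx⟩)) := by
      intro y
      obtain ⟨_, m, rfl⟩ := y
      refine ⟨k, Subtype.ext ?_⟩
      show ((R.normalizerMonoidHom ⟨x, hx⟩) ^ m) ^ p ^ k = 1
      have h1 : (⟨x, hx⟩ : Subgroup.normalizer (R : Set G)) ^ p ^ k = 1 := by
        apply Subtype.ext
        show x ^ p ^ k = 1
        rw [← hk, pow_orderOf_eq_one]
      rw [← zpow_natCast, ← zpow_mul, mul_comm, zpow_mul, zpow_natCast, ← map_pow, h1, map_one,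
        one_zpow]
    have := finite_mulAut R
    obtain ⟨β, hβ, hconj⟩ := ((isFullyAutomized_iff S.isPGroup').1 hauto).2 _ hA hAp
    have h2 := conj_mem_autGroup hinv hR.1 (Subgroup.inv_mem _ hβ)
      (autInducedBy_le_autGroup hR.1 (hconj _ (Subgroup.mem_zpowers _)))
    show R.normalizerMonoidHom ⟨x, hx⟩ ∈ E.autGroup R
    simpa [mul_assoc] using h2
  obtain ⟨⟨y, hy⟩, hyE, rfl⟩ := hgM
  exact ⟨hy, ((mem_autGroup_iff hR.1 _).1 hyE).isMap.congr fun x hx => by
    rw [autFun_apply _ hx]; rfl⟩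

/-- An invariant saturated subsystem on `S` is everything when `Aut_G(S)` is generated by the
automorphisms induced from the `O^{p'}(N_G(R))`. -/
theorem hom_eq_of_invariant (hsat : E.IsSaturated p)
    (hinv : E.IsInvariantIn (groupFusionSystem (S : Subgroup G)))
    (hb : autInducedBy ⊤ (S : Subgroup G) ≤
      ⨆ (R : Subgroup G) (_ : (groupFusionSystem (S : Subgroup G)).IsFullyNormalized R ∧
        (groupFusionSystem (S : Subgroup G)).IsCentric R),
        autInducedBy (Subgroup.closure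
          {g : G | g ∈ Subgroup.normalizer (R : Set G) ∧ ∃ k : ℕ, orderOf g = p ^ k})
          (S : Subgroup G)) :
    ∀ P : Subgroup G, E.Hom P = (groupFusionSystem (S : Subgroup G)).Hom P := by
  intro P
  refine Set.Subset.antisymm (hinv.1 P) fun φ hφ => ?_
  have hle : (groupFusionSystem (S : Subgroup G)).autGroup S ≤ E.autGroup S := by
    rw [autGroup_groupFusionSystem S le_rfl]
    refine hb.trans (iSup₂_le fun R hR α hα => ?_)
    obtain ⟨g, hg, hv⟩ := (mem_autInducedBy_iff _ _ α).1 hα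
    have hgS : g ∈ Subgroup.normalizer ((S : Subgroup G) : Set G) :=
      Subgroup.mem_normalizer_fintype fun x hx => hv ⟨x, hx⟩ ▸ SetLike.coe_mem _
    obtain ⟨hgR, hmap⟩ := isMap_conj_of_mem_closure hinv hR.1 hg
    exact mem_autGroup_of_isMap (isMap_conj_top hsat hinv.1 hgS hR.2 hgR hmap) α hv
  have hP := ((groupFusionSystem (S : Subgroup G)).le_of_mem hφ).1
  obtain ⟨a, ha, f₀, hf₀, hv⟩ := exists_frattini hinv hP (isMap_homFun hφ)
  refine (mem_hom_iff φ).2 ((hf₀.comp ((mem_autGroup_iff le_rfl a).1 (hle ha)).isMap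
    fun x hx => hf₀.mem hx).congr fun x hx => (hv x hx).symm)

/-- The simplicity criterion. -/
theorem isSimple_group (S : Sylow p G) (hS1 : (S : Subgroup G) ≠ ⊥)
    (ha : ∀ T : Subgroup G, (groupFusionSystem (S : Subgroup G)).StronglyClosed T →
      T = ⊥ ∨ T = (S : Subgroup G))
    (hb : autInducedBy ⊤ (S : Subgroup G) ≤
      ⨆ (R : Subgroup G) (_ : (groupFusionSystem (S : Subgroup G)).IsFullyNormalized R ∧
        (groupFusionSystem (S : Subgroup G)).IsCentric R),
        autInducedBy (Subgroup.closure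
          {g : G | g ∈ Subgroup.normalizer (R : Set G) ∧ ∃ k : ℕ, orderOf g = p ^ k})
          (S : Subgroup G)) :
    (groupFusionSystem (S : Subgroup G)).IsSimple p := by
  refine ⟨isSaturated_group S, hS1, fun T E hE => ?_⟩
  rcases ha T hE.1.2.2.2.1 with hT | hT
  · exact Or.inl hT
  · refine Or.inr ⟨hT, ?_⟩
    subst hT
    exact hom_eq_of_invariant hE.1.1 hE.1.2.2 hb

end CfsgLib.Fusion
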