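import Cfsg.Agent.Lib.Fusion.Simple
import Cfsg.Agent.Lib.Fusion.Normal
import Cfsg.Agent.Lib.Fusion.SimpleCases

/-!
The simplicity criterion, checked on a chosen Sylow subgroup and transported to any other.
-/

set_option autoImplicit false

namespace CfsgLib.Fusion

open Cfsg Cfsg.FusionSystem

variable {G : Type*} [Group G] {p : ℕ}

/-- The elements of `N_G(S)` known to act on `S` inside every invariant subsystem on `S`. -/
def genSet (p : ℕ) (S : Subgroup G) : Set G :=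
  {g | g ∈ Subgroup.normalizer (S : Set G) ∧ ∃ R : Subgroup G, R ≤ S ∧
    S ≤ Subgroup.normalizer (R : Set G) ∧ Subgroup.centralizer (R : Set G) ≤ R ∧
    g ∈ Subgroup.closure {x | x ∈ Subgroup.normalizer (R : Set G) ∧ ∃ k : ℕ, orderOf x = p ^ k}}

theorem isCentric_of_centralizer_le {S R : Subgroup G} (hR : R ≤ S)
    (hC : Subgroup.centralizer (R : Set G) ≤ R) : (groupFusionSystem S).IsCentric R := by
  refine ⟨hR, fun Q hQ => ?_⟩
  obtain ⟨-, -, g, rfl⟩ := isConj_group_iff.1 hQ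
  intro y hy
  rw [mem_map_conj]
  refine hC (Subgroup.mem_centralizer_iff.2 fun x hx => ?_)
  have h := Subgroup.mem_centralizer_iff.1 hy.2 (g * x * g⁻¹) ⟨x, hx, rfl⟩
  calc x * (g⁻¹ * y * g) = g⁻¹ * ((g * x * g⁻¹) * y) * g := by group
    _ = g⁻¹ * (y * (g * x * g⁻¹)) * g := by rw [h]
    _ = g⁻¹ * y * g * x := by group

variable [Finite G] [Fact p.Prime]

theorem isFullyNormalized_of_sylow_le (S : Sylow p G) {R : Subgroup G} (hR : R ≤ S)
    (hN : (S : Subgroup G) ≤ Subgroup.normalizer (R : Set G)) :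
    (groupFusionSystem (S : Subgroup G)).IsFullyNormalized R := by
  refine (isFullyNormalized_group_iff S hR).2 fun T _ hT => ?_
  rw [normalizerIn, inf_eq_left.2 hN]
  obtain ⟨g, hg⟩ := exists_conj_le_sylow S hT
  rw [← card_map_conj T g]
  exact Subgroup.card_le_of_le hg

omit [Finite G] [Fact p.Prime] in
/-- Strongly closed subgroups of `c • S₀` are read on `S₀`. -/
theorem stronglyClosed_of_model (S₀ : Sylow p G) (c : G)
    (ha : ∀ T : Subgroup G, T ≤ S₀ →
      (∀ g : G, ∀ x ∈ T, g * x * g⁻¹ ∈ (S₀ : Subgroup G) → g * x * g⁻¹ ∈ T) →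
      T = ⊥ ∨ T = (S₀ : Subgroup G))
    {T : Subgroup G}
    (hT : (groupFusionSystem ((c • S₀ : Sylow p G) : Subgroup G)).StronglyClosed T) :
    T = ⊥ ∨ T = ((c • S₀ : Sylow p G) : Subgroup G) := by
  set φ : G →* G := (MulAut.conj c).toMonoidHom with hφ
  have hmem : ∀ {H : Subgroup G} {x : G}, c * x * c⁻¹ ∈ H.map φ ↔ x ∈ H := fun {H x} => by
    rw [hφ, mem_map_conj]
    exact iff_of_eq (congrArg (· ∈ H) (by group))
  obtain ⟨hTS, hsc⟩ := stronglyClosed_iff.1 hT
  have hle : T.comap φ ≤ S₀ := fun x hx => hmem.1 (hTS (hx : c * x * c⁻¹ ∈ T))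
  have hclosed : ∀ g : G, ∀ x ∈ T.comap φ, g * x * g⁻¹ ∈ (S₀ : Subgroup G) →
      g * x * g⁻¹ ∈ T.comap φ := by
    intro g x hx hgx
    show c * (g * x * g⁻¹) * c⁻¹ ∈ T
    have hx' : c * x * c⁻¹ ∈ T := hx
    have hz : (c * g * c⁻¹) * (c * x * c⁻¹) * (c * g * c⁻¹)⁻¹ = c * (g * x * g⁻¹) * c⁻¹ := by
      group
    rw [← hz]
    refine hsc (Subgroup.zpowers (c * x * c⁻¹)) _
      (isMap_group_of_conj _ (Subgroup.zpowers_le.2 (hTS hx')) ?_) _
      (Subgroup.mem_zpowers _) hx'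
    rintro _ ⟨m, rfl⟩
    rw [show (c * g * c⁻¹) * (c * x * c⁻¹) ^ m * (c * g * c⁻¹)⁻¹
        = ((c * g * c⁻¹) * (c * x * c⁻¹) * (c * g * c⁻¹)⁻¹) ^ m from
      (map_zpow (MulAut.conj (c * g * c⁻¹)) _ m), hz]
    exact Subgroup.zpow_mem _ (hmem.2 hgx) m
  rcases ha _ hle hclosed with h | h
  · refine Or.inl (eq_bot_iff.2 fun y hy => ?_)
    have : c⁻¹ * y * c ∈ T.comap φ := show c * (c⁻¹ * y * c) * c⁻¹ ∈ T by
      simpa [mul_assoc] using hy
    rw [h, Subgroup.mem_bot] at this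
    rw [Subgroup.mem_bot]
    simpa [mul_assoc, mul_eq_one_iff_eq_inv, inv_mul_eq_iff_eq_mul] using this
  · refine Or.inr (le_antisymm hTS ?_)
    rintro _ ⟨x, hx, rfl⟩
    exact show x ∈ T.comap φ from h ▸ hx

/-- The simplicity criterion, on a model Sylow subgroup `S₀`. -/
theorem isSimple_group_of_model (S₀ : Sylow p G) (h1 : (S₀ : Subgroup G) ≠ ⊥)
    (ha : ∀ T : Subgroup G, T ≤ S₀ →
      (∀ g : G, ∀ x ∈ T, g * x * g⁻¹ ∈ (S₀ : Subgroup G) → g * x * g⁻¹ ∈ T) →
      T = ⊥ ∨ T = (S₀ : Subgroup G))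
    (hb : Subgroup.normalizer ((S₀ : Subgroup G) : Set G) ≤
      Subgroup.centralizer ((S₀ : Subgroup G) : Set G) ⊔
        Subgroup.closure (genSet p (S₀ : Subgroup G)))
    (S : Sylow p G) : (groupFusionSystem (S : Subgroup G)).IsSimple p := by
  obtain ⟨c, rfl⟩ := MulAction.exists_smul_eq G S₀ S
  set φ : G →* G := (MulAut.conj c).toMonoidHom with hφ
  set S' : Subgroup G := ((c • S₀ : Sylow p G) : Subgroup G) with hS'
  have hSeq : S' = (S₀ : Subgroup G).map φ := rfl
  have hmem : ∀ {H : Subgroup G} {x : G}, c * x * c⁻¹ ∈ H.map φ ↔ x ∈ H := fun {H x} => by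
    rw [hφ, mem_map_conj]
    exact iff_of_eq (congrArg (· ∈ H) (by group))
  refine isSimple_group (c • S₀) ?_ (fun T hT => ?_) ?_
  · show S' ≠ ⊥
    rw [hSeq, ne_eq, Subgroup.map_eq_bot_iff_of_injective _ (MulAut.conj c).injective]
    exact h1
  · exact stronglyClosed_of_model S₀ c ha hT
  · set I := ⨆ (R : Subgroup G) (_ : (groupFusionSystem S').IsFullyNormalized R ∧
        (groupFusionSystem S').IsCentric R), autInducedBy (Subgroup.closure
          {g : G | g ∈ Subgroup.normalizer (R : Set G) ∧ ∃ k : ℕ, orderOf g = p ^ k}) S'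
    let M : Subgroup G :=
      (I.comap S'.normalizerMonoidHom).map (Subgroup.normalizer (S' : Set G)).subtype
    have hnorm : ∀ {H : Subgroup G} {x : G}, x ∈ Subgroup.normalizer (H : Set G) →
        c * x * c⁻¹ ∈ Subgroup.normalizer ((H.map φ : Subgroup G) : Set G) :=
      fun {H x} hx => map_conj_mem_normalizer hx
    have hM : Subgroup.normalizer ((S₀ : Subgroup G) : Set G) ≤ M.comap φ := by
      refine hb.trans (sup_le (fun g hg => ?_) ((Subgroup.closure_le _).2 ?_))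
      · have hg' := map_conj_mem_centralizer (g := c) hg
        have hgn : c * g * c⁻¹ ∈ Subgroup.normalizer (S' : Set G) := by
          rw [hSeq]
          exact hnorm (Subgroup.centralizer_le_normalizer _ hg)
        refine ⟨⟨_, hgn⟩, ?_, rfl⟩
        have : S'.normalizerMonoidHom ⟨_, hgn⟩ = 1 := by
          ext x
          exact conj_eq_self_of_mem_centralizer hg' (hSeq.le x.2)
        show S'.normalizerMonoidHom ⟨_, hgn⟩ ∈ I
        rw [this]
        exact I.one_mem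
      · rintro g ⟨hgN, R, hR, hSR, hCR, hg⟩
        have hR' : R.map φ ≤ S' := hSeq ▸ Subgroup.map_mono hR
        refine ⟨⟨c * g * c⁻¹, hSeq ▸ hnorm hgN⟩, ?_, rfl⟩
        refine le_iSup₂ (f := fun (R : Subgroup G) (_ : (groupFusionSystem S').IsFullyNormalized R ∧
          (groupFusionSystem S').IsCentric R) => autInducedBy (Subgroup.closure
          {g : G | g ∈ Subgroup.normalizer (R : Set G) ∧ ∃ k : ℕ, orderOf g = p ^ k}) S')
          (R.map φ) ⟨isFullyNormalized_of_sylow_le (c • S₀) hR' ?_,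
            isCentric_of_centralizer_le hR' ?_⟩ ?_
        · intro y hy
          obtain ⟨x, hx, rfl⟩ := hSeq.le hy
          exact hnorm (hSR hx)
        · intro y hy
          rw [hφ, mem_map_conj]
          refine hCR (Subgroup.mem_centralizer_iff.2 fun x hx => ?_)
          have h := Subgroup.mem_centralizer_iff.1 hy (c * x * c⁻¹) ⟨x, hx, rfl⟩
          calc x * (c⁻¹ * y * c) = c⁻¹ * ((c * x * c⁻¹) * y) * c := by group
            _ = c⁻¹ * (y * (c * x * c⁻¹)) * c := by rw [h]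
            _ = c⁻¹ * y * c * x := by group
        · refine Subgroup.subset_closure ⟨c * g * c⁻¹, ?_, fun x => rfl⟩
          have : φ g ∈ Subgroup.map φ (Subgroup.closure
              {x | x ∈ Subgroup.normalizer (R : Set G) ∧ ∃ k : ℕ, orderOf x = p ^ k}) :=
            Subgroup.mem_map_of_mem φ hg
          rw [MonoidHom.map_closure] at this
          refine Subgroup.closure_mono ?_ this
          rintro _ ⟨x, ⟨hx, k, hk⟩, rfl⟩
          exact ⟨hnorm hx, k, (orderOf_injective φ (MulAut.conj c).injective x).trans hk⟩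
    intro α hα
    obtain ⟨g, -, hv⟩ := (mem_autInducedBy_iff _ _ α).1 hα
    have hgS : g ∈ Subgroup.normalizer (S' : Set G) :=
      Subgroup.mem_normalizer_fintype fun x hx => hv ⟨x, hx⟩ ▸ SetLike.coe_mem _
    have hg0 : c⁻¹ * g * c ∈ Subgroup.normalizer ((S₀ : Subgroup G) : Set G) := by
      rw [Subgroup.mem_normalizer_iff]
      intro y
      rw [← hmem (x := y), ← hSeq, Subgroup.mem_normalizer_iff.1 hgS, hSeq,
        ← hmem (x := c⁻¹ * g * c * y * (c⁻¹ * g * c)⁻¹)]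
      exact iff_of_eq (congrArg (· ∈ Subgroup.map φ (S₀ : Subgroup G)) (by group))
    obtain ⟨⟨y, hy⟩, hyI, hye⟩ := hM hg0
    have hye' : y = g := by
      have : y = c * (c⁻¹ * g * c) * c⁻¹ := hye
      rw [this]; group
    subst hye'
    have : α = S'.normalizerMonoidHom ⟨y, hy⟩ := MulEquiv.ext fun x => Subtype.ext (hv x)
    exact this ▸ hyI

/-- Simplicity when the `p'`-part of the normalizer of `S₀` centralizes it. -/
theorem isSimple_group_of_model_pPrime (S₀ : Sylow p G) (h1 : (S₀ : Subgroup G) ≠ ⊥)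
    (ha : ∀ T : Subgroup G, T ≤ S₀ →
      (∀ g : G, ∀ x ∈ T, g * x * g⁻¹ ∈ (S₀ : Subgroup G) → g * x * g⁻¹ ∈ T) →
      T = ⊥ ∨ T = (S₀ : Subgroup G))
    (hC : ∀ g ∈ Subgroup.normalizer ((S₀ : Subgroup G) : Set G), ¬ p ∣ orderOf g →
      g ∈ Subgroup.centralizer ((S₀ : Subgroup G) : Set G))
    (S : Sylow p G) : (groupFusionSystem (S : Subgroup G)).IsSimple p := by
  obtain ⟨c, rfl⟩ := MulAction.exists_smul_eq G S₀ S
  set S' : Subgroup G := ((c • S₀ : Sylow p G) : Subgroup G) with hS'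
  refine isSimple_group_of_isPGroup (c • S₀) ?_ (fun T hT => stronglyClosed_of_model S₀ c ha hT) ?_
  · show (S₀ : Subgroup G).map (MulAut.conj c).toMonoidHom ≠ ⊥
    rw [ne_eq, Subgroup.map_eq_bot_iff_of_injective _ (MulAut.conj c).injective]
    exact h1
  · intro α
    obtain ⟨g, -, hv⟩ := (mem_autInducedBy_iff _ _ (α : MulAut S')).1 α.2
    have hgS : g ∈ Subgroup.normalizer (S' : Set G) :=
      Subgroup.mem_normalizer_fintype fun x hx => hv ⟨x, hx⟩ ▸ SetLike.coe_mem _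
    obtain ⟨a, r, hr, hord⟩ := Nat.exists_eq_pow_mul_and_not_dvd (orderOf_pos g).ne' p
      (Fact.out : p.Prime).ne_one
    refine ⟨a, Subtype.ext ?_⟩
    rw [SubgroupClass.coe_pow, OneMemClass.coe_one]
    have hα : (α : MulAut S') = S'.normalizerMonoidHom ⟨g, hgS⟩ :=
      MulEquiv.ext fun x => Subtype.ext (hv x)
    rw [hα, ← map_pow, SubmonoidClass.mk_pow]
    set k := g ^ p ^ a
    have hk : ¬ p ∣ orderOf k := by
      have : orderOf k = r := by
        rw [orderOf_pow, hord, Nat.gcd_eq_right (dvd_mul_right _ _),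
          Nat.mul_div_cancel_left _ (pow_pos (Fact.out : p.Prime).pos a)]
      rwa [this]
    have hk0 : c⁻¹ * k * c ∈ Subgroup.normalizer ((S₀ : Subgroup G) : Set G) := by
      have hkn : k ∈ Subgroup.normalizer (S' : Set G) := Subgroup.pow_mem _ hgS _
      refine Subgroup.mem_normalizer_fintype fun y hy => ?_
      have h2 : c * (c⁻¹ * k * c * y * (c⁻¹ * k * c)⁻¹) * c⁻¹ ∈ S' := by
        rw [show c * (c⁻¹ * k * c * y * (c⁻¹ * k * c)⁻¹) * c⁻¹ = k * (c * y * c⁻¹) * k⁻¹ by group]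
        exact conj_mem_of_mem_normalizer hkn ⟨y, hy, rfl⟩
      obtain ⟨z, hz, hze⟩ := h2
      have : z = c⁻¹ * k * c * y * (c⁻¹ * k * c)⁻¹ := (MulAut.conj c).injective hze
      exact this ▸ hz
    have hord0 : ¬ p ∣ orderOf (c⁻¹ * k * c) := by
      have h2 := orderOf_injective (MulAut.conj c⁻¹).toMonoidHom (MulAut.conj c⁻¹).injective k
      simp only [MulEquiv.coe_toMonoidHom, MulAut.conj_apply, inv_inv] at h2
      rwa [h2]
    ext x
    obtain ⟨y, hy, hye⟩ := x.2
    show k * (x : G) * k⁻¹ = x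
    rw [← hye]
    show k * (c * y * c⁻¹) * k⁻¹ = c * y * c⁻¹
    calc k * (c * y * c⁻¹) * k⁻¹ = c * ((c⁻¹ * k * c) * y * (c⁻¹ * k * c)⁻¹) * c⁻¹ := by group
      _ = c * y * c⁻¹ := by rw [conj_eq_self_of_mem_centralizer (hC _ hk0 hord0) hy]

end CfsgLib.Fusion
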