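import Mathlib
import Cfsg.Agent.Lib.Fusion.Generation

/-!
Normality of `℧ⁿ(Z(S))` in systems over `p`-groups of small class.
-/

set_option autoImplicit false

namespace CfsgLib.Fusion

open Cfsg
open Cfsg.FusionSystem hiding inv_mem
open scoped commutatorElement

universe u

variable {p : ℕ} [Fact p.Prime]

/-- In a ring, a nilpotent `x` with `(x + 1) ^ p = 1` satisfies `p ^ n • x = 0`. -/
theorem pow_prime_mul_eq_zero {R : Type*} [Ring R] {x : R} {n : ℕ}
    (h1 : (x + 1) ^ p = 1) (h0 : x ^ (n * (p - 1) + 1) = 0) : (p : R) ^ n * x = 0 := by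
  have hp : p.Prime := Fact.out
  obtain ⟨s, hs⟩ : ∃ s : Polynomial ℤ,
      (Polynomial.X + 1) ^ p = Polynomial.X ^ p + 1 + (p : Polynomial ℤ) * Polynomial.X * s := by
    obtain ⟨s, hs⟩ := exists_add_pow_prime_eq hp (Polynomial.X : Polynomial ℤ) 1
    exact ⟨s, by rw [hs]; ring⟩
  have hs0 : s.coeff 0 = 1 := by
    have h := congrArg (fun q => Polynomial.coeff q 1) hs
    simp only [Polynomial.coeff_X_add_one_pow, Nat.choose_one_right, Polynomial.coeff_add,
      Polynomial.coeff_X_pow, if_neg hp.ne_one.symm, zero_add, Polynomial.coeff_one,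
      if_neg one_ne_zero, mul_assoc, Polynomial.coeff_natCast_mul, Polynomial.coeff_X_mul] at h
    exact (mul_left_cancel₀ (by exact_mod_cast hp.ne_zero)
      ((mul_one (p : ℤ)).trans h)).symm
  obtain ⟨r, hr⟩ := Polynomial.X_dvd_sub_C (p := s)
  rw [hs0, map_one, sub_eq_iff_eq_add] at hr
  rw [hr] at hs
  have h2 := congrArg (Polynomial.aeval x) hs
  simp only [map_pow, map_add, map_mul, Polynomial.aeval_X, map_one, map_natCast, h1] at h2
  have key : ∀ d j m : ℕ, n * (p - 1) + 1 - j ≤ d → 1 ≤ j → n * (p - 1) + 1 ≤ m * (p - 1) + j →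
      (p : R) ^ m * x ^ j = 0 := by
    intro d
    induction d with
    | zero =>
      intro j m hd hj _
      rw [← Nat.add_sub_cancel' (show n * (p - 1) + 1 ≤ j by omega), pow_add, h0, zero_mul,
        mul_zero]
    | succ d ih =>
      intro j m hd hj hm
      rcases m with _ | m
      · rw [← Nat.add_sub_cancel' (show n * (p - 1) + 1 ≤ j by omega), pow_add, h0, zero_mul,
          mul_zero]
      set y := Polynomial.aeval x r with hy
      have hcomm : x * y = y * x := by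
        simpa [hy] using congrArg (Polynomial.aeval x) (mul_comm Polynomial.X r)
      have e : (p : R) * x = -(x ^ p) - (p : R) * (x ^ 2 * y) := by
        have h3 : x ^ p + (p : R) * x + (p : R) * (x ^ 2 * y) = 0 := by
          have h4 : (1 : R) + 0 = 1 + (x ^ p + (p : R) * x + (p : R) * (x ^ 2 * y)) := by
            rw [add_zero]
            conv_lhs => rw [h2]
            rw [mul_add, mul_one, pow_two]
            noncomm_ring
          exact (add_left_cancel h4).symm
        linear_combination (norm := noncomm_ring) h3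
      obtain ⟨i, rfl⟩ := Nat.exists_eq_add_of_le' hj
      have hp1 : 1 ≤ p - 1 := by have := hp.two_le; omega
      calc (p : R) ^ (m + 1) * x ^ (i + 1) = (p : R) ^ m * ((p : R) * x) * x ^ i := by
            rw [pow_succ, pow_succ']; noncomm_ring
        _ = -((p : R) ^ m * x ^ (i + p)) - (p : R) ^ (m + 1) * x ^ (i + 2) * y := by
          rw [e, Nat.add_comm i p, pow_add x p i, pow_succ (p : R) m, Nat.add_comm i 2,
            pow_add x 2 i]
          have hcy : y * x ^ i = x ^ i * y := ((show Commute x y from hcomm).pow_left i).symm.eq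
          simp only [sub_mul, mul_sub, neg_mul, mul_neg, mul_assoc, hcy]
        _ = 0 := by
          rw [ih (i + 2) (m + 1) (by omega) (by omega) (by omega),
            ih (i + p) m (by omega) (by have := hp.two_le; omega) ?_]
          · simp
          · have := hp.two_le; have hm' : (m + 1) * (p - 1) = m * (p - 1) + (p - 1) := by ring
            omega
  simpa using key (n * (p - 1) + 1) 1 n (Nat.sub_le _ _) le_rfl le_rfl

/-- In a `p`-group of small class, powers of `g` centralize `pⁿ`-th powers in an abelian subgroup. -/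
theorem exists_centralizing_powers_class {G : Type*} [Group G] {P V : Subgroup G} {n : ℕ}
    (hcl : P.lowerCentralSeries (n * (p - 1) + 1) = ⊥) (hVP : V ≤ P)
    (hVc : ∀ a ∈ V, ∀ b ∈ V, a * b = b * a) {g : G} (hgP : g ∈ P)
    (hVn : ∀ v ∈ V, g * v * g⁻¹ ∈ V)
    (hgp : ∃ a, g ^ p ^ a = 1) (hg : ¬ ∀ v ∈ V, g * v * g⁻¹ = v) :
    ∃ h ∈ P, (¬ ∀ v ∈ V, h * v * h⁻¹ = v) ∧
      ∀ v ∈ V, h * v ^ p ^ n * h⁻¹ = v ^ p ^ n := by
  obtain ⟨a, ha⟩ := hgp
  classical
  have hex : ∃ j : ℕ, ∀ v ∈ V, g ^ p ^ j * v * (g ^ p ^ j)⁻¹ = v :=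
    ⟨a, fun v _ => by rw [ha]; simp⟩
  obtain ⟨j, hj⟩ : ∃ j, Nat.find hex = j + 1 := by
    refine Nat.exists_eq_succ_of_ne_zero fun h0 => hg fun v hv => ?_
    have := Nat.find_spec hex v hv
    rwa [h0, pow_zero, pow_one] at this
  set h := g ^ p ^ j with hh
  have hhV : ∀ m, ∀ v ∈ V, g ^ m * v * (g ^ m)⁻¹ ∈ V := by
    intro m v hv
    induction m with
    | zero => simpa
    | succ m ih =>
      have := hVn _ ih
      convert this using 1
      rw [pow_succ']; group
  refine ⟨h, P.pow_mem hgP _, Nat.find_min hex (hj ▸ Nat.lt_succ_self j), fun v hv => ?_⟩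
  letI : CommGroup V :=
    { (inferInstance : Group V) with mul_comm := fun a b => Subtype.ext (hVc _ a.2 _ b.2) }
  let φ : V →* V := MonoidHom.mk' (fun v => ⟨h * v * h⁻¹, hhV _ v v.2⟩) fun a b =>
    Subtype.ext (show h * ((a : G) * b) * h⁻¹ = h * a * h⁻¹ * (h * b * h⁻¹) by group)
  let T : AddMonoid.End (Additive V) := MonoidHom.toAdditive φ
  set x : AddMonoid.End (Additive V) := T - 1 with hx
  have hT : ∀ m (w : V), ((T ^ m) (Additive.ofMul w)).toMul = (h ^ m * (w : G) * (h ^ m)⁻¹ : G) := by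
    intro m w
    induction m with
    | zero => simp
    | succ m ih =>
      rw [pow_succ', AddMonoid.End.coe_mul]
      show h * _ * h⁻¹ = _
      simp only [ih]
      group
  have hxv : ∀ z : Additive V, (((x z).toMul : V) : G) =
      h * ((z.toMul : V) : G) * h⁻¹ * ((z.toMul : V) : G)⁻¹ := by
    intro z
    show (((T z - z).toMul : V) : G) = _
    rw [toMul_sub, div_eq_mul_inv]
    rfl
  have hxLCS : ∀ m (w : V), ((((x ^ m) (Additive.ofMul w)).toMul : V) : G) ∈
      P.lowerCentralSeries m := by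
    intro m w
    induction m with
    | zero => exact hVP w.2
    | succ m ih =>
      rw [pow_succ', AddMonoid.End.coe_mul]
      set z := (x ^ m) (Additive.ofMul w)
      show (((x z).toMul : V) : G) ∈ _
      rw [hxv]
      have h1 := Subgroup.commutator_mem_commutator ih (P.pow_mem hgP (p ^ j) : h ∈ P)
      rw [← Subgroup.lowerCentralSeries_succ] at h1
      convert Subgroup.inv_mem _ h1 using 1
      simp [commutatorElement_def, mul_assoc, hh]
  have h0 : x ^ (n * (p - 1) + 1) = 0 := by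
    ext w
    have := hxLCS (n * (p - 1) + 1) w.toMul
    rw [hcl, Subgroup.mem_bot] at this
    exact this
  have h1 : (x + 1) ^ p = 1 := by
    rw [hx, sub_add_cancel]
    ext w
    have := hT p w.toMul
    rw [hh, ← pow_mul, ← pow_succ] at this
    have h3 := Nat.find_spec hex _ w.toMul.2
    rw [hj] at h3
    exact this.trans h3
  have h2 := DFunLike.congr_fun (pow_prime_mul_eq_zero h1 h0) (Additive.ofMul (⟨v, hv⟩ : V))
  rw [← Nat.cast_pow, AddMonoid.End.coe_mul, Function.comp_apply, AddMonoid.End.natCast_apply] at h2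
  have h3 : (h * v * h⁻¹ * v⁻¹) ^ p ^ n = 1 := by
    have h5 := congrArg (fun z : Additive V => ((z.toMul : V) : G)) h2
    simp only [toMul_nsmul, SubgroupClass.coe_pow] at h5
    rw [hxv] at h5
    exact h5
  have h4 : (h * v * h⁻¹ * v⁻¹) ^ p ^ n = h * v ^ p ^ n * h⁻¹ * (v ^ p ^ n)⁻¹ := by
    rw [(show Commute (h * v * h⁻¹) v⁻¹ from hVc _ (hhV _ v hv) _ (V.inv_mem hv)).mul_pow, conj_pow,
      inv_pow]
  rw [h4] at h3
  exact mul_inv_eq_one.1 h3

/-- The lower central series commutes with homomorphisms. -/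
theorem map_lowerCentralSeries {G H : Type*} [Group G] [Group H] (f : G →* H) (P : Subgroup G) :
    ∀ m, (P.lowerCentralSeries m).map f = (P.map f).lowerCentralSeries m
  | 0 => rfl
  | m + 1 => by
    rw [Subgroup.lowerCentralSeries_succ, Subgroup.map_commutator, map_lowerCentralSeries f P m]
    rfl

/-- The lower central series is monotone in the subgroup. -/
theorem lowerCentralSeries_mono {G : Type*} [Group G] {P R : Subgroup G} (h : P ≤ R) :
    ∀ m, P.lowerCentralSeries m ≤ R.lowerCentralSeries m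
  | 0 => h
  | m + 1 => Subgroup.commutator_mono (lowerCentralSeries_mono h m) h

/-- The factorization `G = C_G(℧ⁿ Z(P)) N_G(P)` for small class. -/
theorem factor_of_class (n : ℕ) : ∀ (N : ℕ) (G : Type u) [Group G] [Finite G], Nat.card G = N →
    ∀ (P : Sylow p G),
      Subgroup.centralizer ((Cfsg.pCore p G : Subgroup G) : Set G) ≤ Cfsg.pCore p G →
      (P : Subgroup G).lowerCentralSeries (n * (p - 1) + 1) = ⊥ →
      ∀ g : G, ∃ c k : G, g = c * k ∧
        (∀ w ∈ (P : Subgroup G), w ∈ Subgroup.centralizer ((P : Subgroup G) : Set G) →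
          c * w ^ p ^ n * c⁻¹ = w ^ p ^ n) ∧
        k ∈ Subgroup.normalizer ((P : Subgroup G) : Set G) := by
  intro N
  induction N using Nat.strong_induction_on with
  | _ N IH =>
  intro G _ _ hN P hc hcl g
  by_cases hPn : (P : Subgroup G).Normal
  · exact ⟨1, g, (one_mul g).symm, fun w _ _ => by group,
      by rw [Subgroup.normalizer_eq_top_iff.2 hPn]; exact Subgroup.mem_top g⟩
  set Q := Cfsg.pCore p G with hQ
  have hQn : Q.Normal := CfsgLib.Fitting.pCore_normal p
  have hQP : Q ≤ (P : Subgroup G) := fun y hy =>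
    le_sylow_of_normal_pGroup P hQn (CfsgLib.Fitting.pCore_isPGroup p) hy
  set V := (Subgroup.center ↥Q).map Q.subtype with hV
  have hVmem : ∀ v, v ∈ V ↔ v ∈ Q ∧ ∀ q ∈ Q, q * v = v * q := by
    intro v
    constructor
    · rintro ⟨z, hz, rfl⟩
      exact ⟨z.2, fun q hq => congrArg Subtype.val (Subgroup.mem_center_iff.1 hz ⟨q, hq⟩)⟩
    · rintro ⟨hv, h⟩
      exact ⟨⟨v, hv⟩, Subgroup.mem_center_iff.2 fun q => Subtype.ext (h q q.2), rfl⟩
  have hVn : ∀ x, ∀ v ∈ V, x * v * x⁻¹ ∈ V := by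
    intro x v hv
    obtain ⟨hvQ, hvc⟩ := (hVmem v).1 hv
    refine (hVmem _).2 ⟨hQn.conj_mem v hvQ x, fun q hq => ?_⟩
    have h1 := hvc _ (hQn.conj_mem' q hq x)
    calc q * (x * v * x⁻¹) = x * ((x⁻¹ * q * x) * v) * x⁻¹ := by group
      _ = x * (v * (x⁻¹ * q * x)) * x⁻¹ := by rw [h1]
      _ = x * v * x⁻¹ * q := by group
  let K : Subgroup G := Subgroup.centralizer ((fun v => v ^ p ^ n) '' (V : Set G))
  have hKmem : ∀ x, x ∈ K ↔ ∀ v ∈ V, x * v ^ p ^ n * x⁻¹ = v ^ p ^ n := by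
    intro x
    constructor
    · intro hx v hv
      rw [← hx (v ^ p ^ n) ⟨v, hv, rfl⟩, mul_inv_cancel_right]
    · rintro h _ ⟨v, hv, rfl⟩
      exact (mul_inv_eq_iff_eq_mul.1 (h v hv)).symm
  have hKn : K.Normal := ⟨fun x hx y => (hKmem _).2 fun v hv => by
    have h1 := (hKmem x).1 hx _ (hVn y⁻¹ v hv)
    have e : (y⁻¹ * v * y⁻¹⁻¹) ^ p ^ n = y⁻¹ * v ^ p ^ n * y := by rw [conj_pow, inv_inv]
    rw [e] at h1
    calc y * x * y⁻¹ * v ^ p ^ n * (y * x * y⁻¹)⁻¹
        = y * (x * (y⁻¹ * v ^ p ^ n * y) * x⁻¹) * y⁻¹ := by group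
      _ = v ^ p ^ n := by rw [h1]; group⟩
  obtain ⟨x, hxP, hxQ, hxK⟩ : ∃ x, x ∈ (P : Subgroup G) ∧ x ∉ Q ∧ x ∈ K := by
    obtain ⟨g, hgP, hgQ⟩ : ∃ g, g ∈ (P : Subgroup G) ∧ g ∉ Q := by
      by_contra! h
      exact hPn (le_antisymm hQP h ▸ hQn)
    by_cases hgV : ∀ v ∈ V, g * v * g⁻¹ = v
    · exact ⟨g, hgP, hgQ, (hKmem g).2 fun v hv => hgV _ (V.pow_mem hv _)⟩
    obtain ⟨a, ha⟩ := P.isPGroup' ⟨g, hgP⟩
    obtain ⟨h, hh, hhV, hhp⟩ := exists_centralizing_powers_class (V := V) hcl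
      ((Subgroup.map_subtype_le _).trans hQP)
      (fun a ha b hb => ((hVmem b).1 hb).2 a ((hVmem a).1 ha).1) hgP (hVn g)
      ⟨a, congrArg Subtype.val ha⟩ hgV
    exact ⟨h, hh, fun hhQ => hhV fun v hv => by rw [((hVmem v).1 hv).2 h hhQ, mul_inv_cancel_right],
      (hKmem h).2 hhp⟩
  set X := (P : Subgroup G) ⊓ K with hX
  set M := Subgroup.normalizer (X : Set G) with hM
  have hMt : M ≠ ⊤ := fun h => hxQ (CfsgLib.Fitting.le_pCore
    (Subgroup.normalizer_eq_top_iff.1 h) (P.isPGroup'.to_le inf_le_left) ⟨hxP, hxK⟩)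
  have hPM : (P : Subgroup G) ≤ M := fun y hy =>
    mem_normalizer_of_conj_mem (S := (P : Subgroup G)) inf_le_left fun z hz =>
      ⟨(P : Subgroup G).mul_mem ((P : Subgroup G).mul_mem hy hz.1) ((P : Subgroup G).inv_mem hy),
        hKn.conj_mem z hz.2 y⟩
  let R : Sylow p K := (P.isPGroup'.comap_of_injective K.subtype K.subtype_injective).toSylow
    (CfsgLib.CharCore.not_dvd_relIndex_of_isSubnormal hKn.isSubnormal P)
  have htop := Sylow.normalizer_sup_eq_top R
  have hRX : (R : Subgroup K).map K.subtype = X := by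
    show ((P : Subgroup G).comap K.subtype).map K.subtype = X
    rw [Subgroup.map_comap_eq, Subgroup.range_subtype, hX, inf_comm]
  rw [hRX, ← hM, sup_comm] at htop
  obtain ⟨y, hy, m, hm, rfl⟩ := Subgroup.mem_sup_of_normal_left.1
    (htop ▸ Subgroup.mem_top g : g ∈ K ⊔ M)
  let P' : Sylow p M := P.subtype hPM
  have hQM : Q.subgroupOf M ≤ Cfsg.pCore p M :=
    CfsgLib.Fitting.le_pCore (hQn.subgroupOf M)
      ((CfsgLib.Fitting.pCore_isPGroup p).comap_of_injective M.subtype M.subtype_injective)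
  have hc' : Subgroup.centralizer ((Cfsg.pCore p M : Subgroup M) : Set M) ≤ Cfsg.pCore p M :=
    fun z hz => hQM (hc fun q hq =>
      congrArg Subtype.val (hz ⟨q, (hQP.trans hPM) hq⟩ (hQM hq)))
  have hcl' : (P' : Subgroup M).lowerCentralSeries (n * (p - 1) + 1) = ⊥ := by
    refine (Subgroup.map_eq_bot_iff_of_injective _ M.subtype_injective).1 ?_
    rw [map_lowerCentralSeries, show (P' : Subgroup M).map M.subtype = P from
      Subgroup.map_subgroupOf_eq_of_le hPM, hcl]
  have hlt : Nat.card M < N := by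
    rw [← hN]
    exact lt_of_le_of_ne (Subgroup.card_le_card_group M) fun h =>
      hMt (Subgroup.eq_top_of_card_eq M h)
  obtain ⟨c, k, hck, hcw, hk⟩ := IH _ hlt M rfl P' hc' hcl' ⟨m, hm⟩
  refine ⟨y * c, k, ?_, fun w hwP hw => ?_,
    mem_normalizer_of_conj_mem (S := (P : Subgroup G)) le_rfl fun z hz =>
      (Subgroup.mem_normalizer_iff.1 hk ⟨z, hPM hz⟩).1 hz⟩
  · rw [mul_assoc]
    exact congrArg (y * ·) (congrArg Subtype.val hck)
  · have h1 := congrArg Subtype.val (hcw ⟨w, hPM hwP⟩ (show w ∈ (P : Subgroup G) from hwP)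
      (fun z hz => Subtype.ext (hw z hz)))
    calc y * c * w ^ p ^ n * (y * c)⁻¹
        = y * ((c : G) * w ^ p ^ n * (c : G)⁻¹) * y⁻¹ := by group
      _ = y * w ^ p ^ n * y⁻¹ := by
        rw [show (c : G) * w ^ p ^ n * (c : G)⁻¹ = w ^ p ^ n from h1]
      _ = w ^ p ^ n := (hKmem y).1 hy w ((hVmem w).2
        ⟨hc (Subgroup.centralizer_le (show (Q : Set G) ⊆ _ from hQP) hw),
          fun q hq => hw q (hQP hq)⟩)

variable {Ω : Type u} [Group Ω] {S : Subgroup Ω} [Finite S] {F : FusionSystem S}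

omit [Finite S] in
omit [Finite S] in
theorem isMap_pow {P : Subgroup Ω} {f : Ω → Ω} (h : IsMap F P f) {x : Ω} (hx : x ∈ P) :
    ∀ m : ℕ, f (x ^ m) = f x ^ m
  | 0 => by rw [pow_zero, pow_zero, h.map_one]
  | m + 1 => by rw [pow_succ, pow_succ, h.map_mul (P.pow_mem hx m) hx, isMap_pow h hx m]

/-- The subsystem of maps extending to maps that preserve a normal subgroup `A` of `S`. -/
theorem exists_preservingSystem {A : Subgroup Ω} (hA : A ≤ S) (hN : normalizerIn S A = S) :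
    ∃ E : FusionSystem S, ∀ P f, IsMap E P f ↔ IsMap F P f ∧
      ∃ g, IsMap F (P ⊔ A) g ∧ (∀ x ∈ P, g x = f x) ∧ g '' (A : Set Ω) = A := by
  suffices h : ∀ T : Subgroup Ω, T = S → ∀ E : FusionSystem T,
      (∀ P f, IsMap E P f ↔ IsMap F P f ∧
        ∃ g, IsMap F (P ⊔ A) g ∧ (∀ x ∈ P, g x = f x) ∧ g '' (A : Set Ω) = A) →
      ∃ E : FusionSystem S, ∀ P f, IsMap E P f ↔ IsMap F P f ∧
        ∃ g, IsMap F (P ⊔ A) g ∧ (∀ x ∈ P, g x = f x) ∧ g '' (A : Set Ω) = A by
    refine h _ hN (normalizerSystem F A hA) fun P f => ?_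
    rw [isMap_normalizerSystem_iff (fun _ => rfl), hN]
    constructor
    · rintro ⟨-, -, g, hg, hgf, hgA⟩
      exact ⟨(hg.mono le_sup_left).congr hgf, g, hg, hgf, hgA⟩
    · rintro ⟨hf, h⟩
      exact ⟨hf.le, fun x hx => hf.mem hx, h⟩
  rintro T rfl E hE
  exact ⟨E, hE⟩

/-- `℧ⁿ(Z(S))` is normal in saturated systems over `p`-groups of small class. -/
theorem isNormal_powerClosure_center (hS : IsPGroup p S) (hF : F.IsSaturated p) (n : ℕ)
    (hcl : S.lowerCentralSeries (n * (p - 1) + 1) = ⊥) :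
    F.IsNormal (Cfsg.powerClosure p n (S ⊓ Subgroup.centralizer (S : Set Ω))) := by
  set A := Cfsg.powerClosure p n (S ⊓ Subgroup.centralizer (S : Set Ω)) with hA
  have hAc : A ≤ S ⊓ Subgroup.centralizer (S : Set Ω) := by
    refine (Subgroup.closure_le _).2 ?_
    rintro _ ⟨x, hx, rfl⟩
    exact Subgroup.pow_mem _ hx _
  have hAS : A ≤ S := hAc.trans inf_le_left
  have hN : normalizerIn S A = S := inf_eq_left.2 fun g hg =>
    mem_normalizer_of_conj_mem hAS fun x hx => by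
      rwa [← show x * g = g * x from ((hAc hx).2 g hg).symm, mul_inv_cancel_right]
  obtain ⟨E₀, hE₀⟩ := exists_preservingSystem (F := F) hAS hN
  refine isNormal_iff.2 ⟨hAS, fun P f hf => ?_⟩
  refine ((hE₀ P f).1 ((?_ : ∀ P f, IsMap F P f → IsMap E₀ P f) P f hf)).2
  refine le_of_autGroup_le_step hS hF fun R hR hbig α hα => ?_
  have hRS : R ≤ S := by
    rcases hR with rfl | h
    exacts [le_rfl, h.1.1]
  have := finite_of_le hRS
  have hαi := (mem_autGroup_iff hRS α).1 hα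
  have hAR : A ≤ R := by
    rcases hR with rfl | h
    · exact hAS
    · exact fun a ha => mem_of_central_of_centric h.1 (hAS ha) (hAc ha).2
  suffices hgen : ∀ w ∈ S, w ∈ Subgroup.centralizer (S : Set Ω) → autFun α (w ^ p ^ n) ∈ A by
    refine (mem_autGroup_iff hRS α).2 ⟨(hE₀ _ _).2 ⟨hαi.isMap, autFun α,
      by rw [sup_eq_left.2 hAR]; exact hαi.isMap, fun _ _ => rfl,
      image_eq_of_mem hAS hαi.isMap hAR fun x hx => ?_⟩, hαi.image_eq⟩
    induction hx using Subgroup.closure_induction with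
    | mem y hy =>
      obtain ⟨z, hz, rfl⟩ := hy
      exact hgen z hz.1 hz.2
    | one => rw [hαi.isMap.map_one]; exact A.one_mem
    | mul a b ha hb h1 h2 => rw [hαi.isMap.map_mul (hAR ha) (hAR hb)]; exact A.mul_mem h1 h2
    | inv a ha h1 => rw [hαi.isMap.map_inv (hAR ha)]; exact A.inv_mem h1
  intro w hwS hw
  have hpow : ∀ z ∈ S, z ∈ Subgroup.centralizer (S : Set Ω) → z ^ p ^ n ∈ A := fun z h1 h2 =>
    Subgroup.subset_closure ⟨z, ⟨h1, h2⟩, rfl⟩
  by_cases hRS' : R = S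
  · subst hRS'
    rw [isMap_pow hαi.isMap hwS]
    refine hpow _ (hαi.mem hwS) fun y hy => ?_
    obtain ⟨x, hx, rfl⟩ := hαi.surj hy
    rw [← hαi.isMap.map_mul hx hwS, ← hαi.isMap.map_mul hwS hx, hw x hx]
  have hess := hR.resolve_left hRS'
  set T := normalizerIn S R with hT
  have hTS : T ≤ S := inf_le_left
  have := finite_of_le hTS
  have hRT : R ≤ T := le_normalizerIn hRS
  have hRc : F.IsCentric R := hess.1
  obtain ⟨E, hE⟩ : ∃ E, F.IsNormalizerSystem R E := ⟨normalizerSystem F R hRS, fun _ => rfl⟩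
  have hCN := centricNormal_normalizerSystem hS hF hess.2.1 hRc hE
  obtain ⟨L, _, ι, hL⟩ := exists_model (hS.to_le hTS)
    (⟨hCN.hF, R, hCN.hn, hCN.hc⟩ : E.IsConstrained p)
  have : Finite L := hL.1
  obtain ⟨hinj, hiff⟩ := hL.2.1
  obtain ⟨T₁, hT₁⟩ := hL.2.2.1
  have hαN : IsMap E R (autFun α) := (isMap_normalizerSystem_iff hE).2
    ⟨hRT, fun x hx => hRT (hαi.mem hx), autFun α, by rw [sup_idem]; exact hαi.isMap,
      fun _ _ => rfl, hαi.image_eq⟩
  obtain ⟨g, hg⟩ := exists_conj_of_isMap hL.2.1 hαN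
  have hclT : (T₁ : Subgroup L).lowerCentralSeries (n * (p - 1) + 1) = ⊥ := by
    rw [hT₁, MonoidHom.range_eq_map, ← map_lowerCentralSeries]
    have h1 : (⊤ : Subgroup T).lowerCentralSeries (n * (p - 1) + 1) = ⊥ := by
      refine (Subgroup.map_eq_bot_iff_of_injective _ T.subtype_injective).1 (le_bot_iff.1 ?_)
      rw [map_lowerCentralSeries, ← MonoidHom.range_eq_map, Subgroup.range_subtype, ← hcl]
      exact lowerCentralSeries_mono hTS _
    rw [h1, Subgroup.map_bot]
  obtain ⟨c, k, hgck, hcw, hk⟩ := factor_of_class n _ L rfl T₁ hL.2.2.2 hclT g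
  have hext : ∀ x : T, ∃ t : T, ι t = k * ι x * k⁻¹ := fun x =>
    hT₁.le ((Subgroup.mem_normalizer_iff.1 hk _).1 (hT₁.ge ⟨x, rfl⟩))
  choose t ht using hext
  let φ : T →* Ω := MonoidHom.mk' (fun x => (t x : Ω)) fun a b => by
    rw [← Subgroup.coe_mul]
    congr 1
    refine hinj ?_
    rw [map_mul, ht, ht, ht, map_mul]
    group
  have hφN : φ ∈ E.Hom _ := (hiff _ le_rfl φ fun x => (t x).2).2
    ⟨k, fun x => ht x⟩
  obtain ⟨-, -, f, hf, hfe, -⟩ := (isMap_normalizerSystem_iff hE).1 (isMap_homFun hφN)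
  have hlt : Nat.card R < Nat.card T := by
    have h1 := lt_normalizerIn hS hRS hRS'
    refine lt_of_le_of_ne (Subgroup.card_le_of_le h1.le) fun h => ?_
    exact h1.ne (Subgroup.eq_of_le_of_card_ge h1.le h.ge)
  have hfA : ∀ x ∈ A, f x ∈ A := by
    obtain ⟨-, f', -, hf'e, hf'A⟩ := (hE₀ T f).1 (hbig T f hlt (hf.mono le_sup_left))
    intro x hx
    rw [← hf'e x (hRT (hAR hx))]
    exact hf'A.le ⟨x, hx, rfl⟩
  -- the image of a power
  have hwR : w ∈ R := mem_of_central_of_centric hRc hwS hw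
  have hwT : (⟨w, hRT hwR⟩ : T) ∈ (⊤ : Subgroup T) := Subgroup.mem_top _
  have h1 := hg (w ^ p ^ n) (R.pow_mem hwR _)
  rw [homExt_apply ι (hRT (R.pow_mem hwR _)),
    homExt_apply ι (hRT (hαi.mem (R.pow_mem hwR _))), hgck] at h1
  set w' : Ω := (t ⟨w, hRT hwR⟩ : Ω) with hw'
  have hw'c : ι (t ⟨w, hRT hwR⟩) ∈ Subgroup.centralizer ((T₁ : Subgroup L) : Set L) := by
    intro y hy
    have h3 := (Subgroup.mem_normalizer_iff.1 (inv_mem hk) _).1 hy
    rw [hT₁] at h3
    obtain ⟨z, hz⟩ := h3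
    have h4 : ι z * ι ⟨w, hRT hwR⟩ = ι ⟨w, hRT hwR⟩ * ι z := by
      rw [← map_mul, ← map_mul]
      exact congrArg ι (Subtype.ext (hw z (hTS z.2)))
    have hy' : y = k * ι z * k⁻¹ := by rw [hz]; group
    rw [ht, hy']
    calc k * ι z * k⁻¹ * (k * ι ⟨w, hRT hwR⟩ * k⁻¹) = k * (ι z * ι ⟨w, hRT hwR⟩) * k⁻¹ := by group
      _ = _ := by rw [h4]; group
  have h2 : ι ⟨autFun α (w ^ p ^ n), hRT (hαi.mem (R.pow_mem hwR _))⟩ =
      ι (t ⟨w, hRT hwR⟩) ^ p ^ n := by
    rw [h1, ← hcw _ (hT₁ ▸ ⟨_, rfl⟩) hw'c, ht,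
      show (⟨w ^ p ^ n, hRT (R.pow_mem hwR _)⟩ : T) = ⟨w, hRT hwR⟩ ^ p ^ n from rfl, map_pow,
      conj_pow]
    group
  rw [← map_pow] at h2
  rw [show autFun α (w ^ p ^ n) = w' ^ p ^ n from congrArg Subtype.val (hinj h2)]
  have h5 : f w = w' := by rw [hfe w (hRT hwR), homFun_apply φ (hRT hwR)]; rfl
  have h6 := hfA _ (hpow w hwS hw)
  rwa [isMap_pow (hf.mono le_sup_left) (hRT hwR), h5] at h6

end CfsgLib.Fusion

namespace CfsgLib.Fusion

open Cfsg
open Cfsg.FusionSystem hiding inv_mem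
open scoped commutatorElement

/-- An exponent of the centre bounds the exponents of the central factors. -/
theorem pow_mem_upperCentralSeries {G : Type*} [Group G] {m : ℕ}
    (hm : ∀ x ∈ Subgroup.center G, x ^ m = 1) :
    ∀ i, ∀ x ∈ Subgroup.upperCentralSeries G (i + 1), x ^ m ∈ Subgroup.upperCentralSeries G i
  | 0, x, hx => by
    rw [Subgroup.upperCentralSeries_one] at hx
    rw [Subgroup.upperCentralSeries_zero, Subgroup.mem_bot]
    exact hm x hx
  | i + 1, x, hx => by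
    rw [Subgroup.mem_upperCentralSeries_succ_iff]
    intro g
    set Z := Subgroup.upperCentralSeries G i with hZ
    have hc : ∀ y : G, x * y * x⁻¹ * y⁻¹ ∈ Subgroup.upperCentralSeries G (i + 1) :=
      Subgroup.mem_upperCentralSeries_succ_iff.1 hx
    have key : ∀ j : ℕ, ∃ z ∈ Z,
        x ^ j * g * (x ^ j)⁻¹ * g⁻¹ = (x * g * x⁻¹ * g⁻¹) ^ j * z := by
      intro j
      induction j with
      | zero => exact ⟨1, one_mem _, by simp⟩
      | succ j ih =>
        obtain ⟨z, hz, hzj⟩ := ih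
        set c := x * g * x⁻¹ * g⁻¹ with hc'
        have h1 : x * c ^ j * x⁻¹ * (c ^ j)⁻¹ ∈ Z := by
          have h2 := Subgroup.mem_upperCentralSeries_succ_iff.1
            (Subgroup.pow_mem _ (hc g) j : c ^ j ∈ _) x
          have h3 := Subgroup.inv_mem _ h2
          rw [commutatorElement_def] at h3
          rw [← hc'] at h3
          rwa [show (c ^ j * x * (c ^ j)⁻¹ * x⁻¹)⁻¹ = x * c ^ j * x⁻¹ * (c ^ j)⁻¹ by group] at h3
        have hn : Z.Normal := by rw [hZ]; infer_instance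
        refine ⟨(c ^ (j + 1))⁻¹ * ((x * c ^ j * x⁻¹ * (c ^ j)⁻¹) * c ^ j * (x * z * x⁻¹) * c), ?_, ?_⟩
        · have h4 : (c ^ (j + 1))⁻¹ * ((x * c ^ j * x⁻¹ * (c ^ j)⁻¹) * c ^ j * (x * z * x⁻¹) * c) =
              c⁻¹ * ((c ^ j)⁻¹ * (x * c ^ j * x⁻¹ * (c ^ j)⁻¹) * c ^ j) * c *
              (c⁻¹ * (x * z * x⁻¹) * c) := by
            rw [pow_succ]; group
          rw [h4]
          exact mul_mem (hn.conj_mem' _ (hn.conj_mem' _ h1 _) _)
            (hn.conj_mem' _ (hn.conj_mem _ hz x) _)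
        · calc x ^ (j + 1) * g * (x ^ (j + 1))⁻¹ * g⁻¹
              = x * (x ^ j * g * (x ^ j)⁻¹ * g⁻¹) * x⁻¹ * c := by rw [hc', pow_succ']; group
            _ = x * (c ^ j * z) * x⁻¹ * c := by rw [hzj]
            _ = _ := by group
    obtain ⟨z, hz, hzm⟩ := key m
    rw [commutatorElement_def, hzm]
    exact mul_mem (pow_mem_upperCentralSeries hm i _ (hc g)) hz

/-- The exponent of a group of class at most `c` divides the `c`-th power of that of the centre. -/
theorem pow_pow_eq_one_of_class {G : Type*} [Group G] {m c : ℕ}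
    (hm : ∀ x ∈ Subgroup.center G, x ^ m = 1) (hc : Subgroup.upperCentralSeries G c = ⊤) (x : G) :
    x ^ m ^ c = 1 := by
  have key : ∀ i, ∀ y ∈ Subgroup.upperCentralSeries G i, y ^ m ^ i = 1 := by
    intro i
    induction i with
    | zero =>
      intro y hy
      rw [Subgroup.upperCentralSeries_zero, Subgroup.mem_bot] at hy
      rw [hy, one_pow]
    | succ i ih =>
      intro y hy
      rw [pow_succ', pow_mul]
      exact ih _ (pow_mem_upperCentralSeries hm i y hy)
  exact key c x (hc ▸ Subgroup.mem_top x)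

end CfsgLib.Fusion
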