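import Mathlib
import Cfsg.Agent.Lib.Fusion.SmallMaps
import Cfsg.Agent.Lib.Critical.Basic

/-!
If the maps of small cyclic hyperfocal subgroups extend to the whole of `S`, then `S` is normal.
-/

set_option autoImplicit false
set_option linter.style.haveILetI false

namespace CfsgLib.Fusion.SmallExtend

open Cfsg Cfsg.FusionSystem
open scoped commutatorElement

universe u

section Group

variable {T : Type*} [Group T]

theorem mem_center_two_iff {x : T} :
    x ∈ Subgroup.upperCentralSeries T 2 ↔ ∀ g : T, x * g * x⁻¹ * g⁻¹ ∈ Subgroup.center T := by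
  rw [Subgroup.mem_upperCentralSeries_succ_iff, Subgroup.upperCentralSeries_one]
  simp only [commutatorElement_def]

/-- The second centre elements of small order with central `p`-th power. -/
def smallTwo (p e : ℕ) (hpe : p ∣ e) (hpc : p ∣ e.choose 2) : Subgroup T where
  carrier := {x | x ∈ Subgroup.upperCentralSeries T 2 ∧ x ^ e = 1 ∧ x ^ p ∈ Subgroup.center T}
  one_mem' := ⟨one_mem _, one_pow _, by rw [one_pow]; exact one_mem _⟩
  inv_mem' := by
    rintro x ⟨h1, h2, h3⟩
    exact ⟨inv_mem h1, by rw [inv_pow, h2, inv_one], by rw [inv_pow]; exact inv_mem h3⟩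
  mul_mem' := by
    rintro y z ⟨hy1, hy2, hy3⟩ ⟨hz1, hz2, hz3⟩
    set c := z * y * z⁻¹ * y⁻¹ with hc
    have hcC : c ∈ Subgroup.center T := mem_center_two_iff.mp hz1 y
    have hcc : ∀ g : T, g * c = c * g := Subgroup.mem_center_iff.mp hcC
    have hzy : z * y = c * y * z := by rw [hc]; group
    have hzn : ∀ n : ℕ, z ^ n * y = c ^ n * y * z ^ n := by
      intro n
      induction n with
      | zero => simp
      | succ n ih =>
        have hcn : ∀ g : T, g * c ^ n = c ^ n * g := fun g =>
          ((show Commute g c from hcc g).pow_right n).eq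
        calc z ^ (n + 1) * y = z * (z ^ n * y) := by rw [pow_succ', mul_assoc]
          _ = (z * c ^ n) * y * z ^ n := by rw [ih]; group
          _ = c ^ n * (z * y) * z ^ n := by rw [hcn z]; group
          _ = c ^ (n + 1) * y * z ^ (n + 1) := by rw [hzy, pow_succ c n, pow_succ' z n]; group
    have hmul : ∀ n : ℕ, (y * z) ^ n = c ^ n.choose 2 * y ^ n * z ^ n := by
      intro n
      induction n with
      | zero => simp
      | succ n ih =>
        have hyn : y ^ n * c ^ n = c ^ n * y ^ n := ((show Commute (y ^ n) c from hcc (y ^ n)).pow_right n).eq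
        calc (y * z) ^ (n + 1) = (y * z) ^ n * (y * z) := pow_succ _ _
          _ = c ^ n.choose 2 * y ^ n * (z ^ n * y) * z := by rw [ih]; group
          _ = c ^ n.choose 2 * (y ^ n * c ^ n) * y * z ^ n * z := by rw [hzn]; group
          _ = (c ^ n.choose 2 * c ^ n) * (y ^ n * y) * (z ^ n * z) := by rw [hyn]; group
          _ = c ^ (n + 1).choose 2 * y ^ (n + 1) * z ^ (n + 1) := by
            rw [← pow_add, ← pow_succ, ← pow_succ, Nat.choose_succ_succ' n 1, Nat.choose_one_right,
              Nat.add_comm (n.choose 2) n]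
    have hcp : c ^ p = 1 := by
      have h1 := hzn p
      have h2 : y * z ^ p = z ^ p * y := Subgroup.mem_center_iff.mp hz3 y
      rw [← h2, mul_assoc] at h1
      exact mul_eq_right.mp h1.symm
    refine ⟨mul_mem hy1 hz1, ?_, ?_⟩
    · obtain ⟨k, hk⟩ := hpc
      rw [hmul, hy2, hz2, hk, pow_mul, hcp, one_pow, mul_one, mul_one]
    · rw [hmul]
      exact mul_mem (mul_mem (pow_mem hcC _) hy3) hz3

theorem mem_smallTwo {p e : ℕ} {hpe : p ∣ e} {hpc : p ∣ e.choose 2} {x : T} :
    x ∈ smallTwo p e hpe hpc ↔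
      x ∈ Subgroup.upperCentralSeries T 2 ∧ x ^ e = 1 ∧ x ^ p ∈ Subgroup.center T := Iff.rfl

theorem smallTwo_char {p e : ℕ} {hpe : p ∣ e} {hpc : p ∣ e.choose 2} :
    (smallTwo (T := T) p e hpe hpc).Characteristic := by
  refine Subgroup.characteristic_iff_le_comap.mpr fun φ x hx => ?_
  obtain ⟨h1, h2, h3⟩ := hx
  refine ⟨?_, ?_, ?_⟩
  · exact (Subgroup.characteristic_iff_le_comap.mp inferInstance φ : _ ≤ _) h1
  · show (φ x) ^ e = 1
    rw [← map_pow, h2, map_one]
  · show (φ x) ^ p ∈ Subgroup.center T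
    rw [← map_pow]
    exact (Subgroup.characteristic_iff_le_comap.mp inferInstance φ : _ ≤ _) h3

end Group

/-- A noncentral element of small order gives one in the second centre. -/
theorem exists_smallTwo_noncentral {p e : ℕ} [Fact p.Prime] (hpe : p ∣ e) (hpc : p ∣ e.choose 2)
    (he2 : e ∣ p ^ 2) : ∀ {T : Type u} [Group T] [Finite T], IsPGroup p T →
    (∃ x : T, x ^ e = 1 ∧ x ∉ Subgroup.center T) →
    ¬ smallTwo (T := T) p e hpe hpc ≤ Subgroup.center T := by
  suffices h : ∀ (n : ℕ) (T : Type u) [Group T] [Finite T], Nat.card T = n → IsPGroup p T →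
      (∃ x : T, x ^ e = 1 ∧ x ∉ Subgroup.center T) →
      ¬ smallTwo (T := T) p e hpe hpc ≤ Subgroup.center T from
    fun {T} _ _ hT hx => h _ T rfl hT hx
  intro n
  induction n using Nat.strong_induction_on with
  | _ n ih =>
    intro T _ _ hn hT hex
    subst hn
    obtain ⟨x, hxe, hxZ⟩ := hex
    haveI : Group.IsNilpotent T := hT.isNilpotent
    -- a normal subgroup of small elements which is not central
    suffices hY : ∃ Y : Subgroup T, Y.Normal ∧ (∀ y ∈ Y, y ^ e = 1) ∧ ¬ Y ≤ Subgroup.center T by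
      obtain ⟨Y, hYn, hYe, hYZ⟩ := hY
      haveI : Group.IsNilpotent (T ⧸ Subgroup.center T) := (hT.to_quotient _).isNilpotent
      haveI : (Y.map (QuotientGroup.mk' (Subgroup.center T))).Normal :=
        hYn.map _ (QuotientGroup.mk'_surjective _)
      have hne : Y.map (QuotientGroup.mk' (Subgroup.center T)) ≠ ⊥ := fun h => hYZ <| by
        rwa [Subgroup.map_eq_bot_iff, QuotientGroup.ker_mk'] at h
      obtain ⟨z, hz, hz1⟩ :=
        (Subgroup.bot_or_exists_ne_one _).resolve_left (Critical.inf_center_ne_bot _ hne)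
      obtain ⟨⟨w, hw, rfl⟩, hzc⟩ := hz
      have hw2 : w ∈ Subgroup.upperCentralSeries T 2 := mem_center_two_iff.mpr fun g => by
        refine (QuotientGroup.eq_one_iff _).mp ?_
        have := Subgroup.mem_center_iff.mp hzc (QuotientGroup.mk' _ g)
        rw [QuotientGroup.mk'_apply, QuotientGroup.mk'_apply] at this
        rw [QuotientGroup.mk_mul, QuotientGroup.mk_mul, QuotientGroup.mk_mul, ← this,
          QuotientGroup.mk_inv, QuotientGroup.mk_inv]
        group
      have hwZ : w ∉ Subgroup.center T := fun h => hz1 ((QuotientGroup.eq_one_iff _).mpr h)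
      intro hle
      by_cases hwp : w ^ p ∈ Subgroup.center T
      · exact hwZ (hle ⟨hw2, hYe w hw, hwp⟩)
      · refine hwp (hle ⟨pow_mem hw2 p, ?_, ?_⟩)
        · rw [← pow_mul, mul_comm, pow_mul, hYe w hw, one_pow]
        · obtain ⟨k, hk⟩ := he2
          rw [← pow_mul, ← sq, hk, pow_mul, hYe w hw, one_pow]
          exact one_mem _
    -- a maximal subgroup through `x`
    have hne : Subgroup.zpowers x ≠ ⊤ := fun h => hxZ (Subgroup.mem_center_iff.mpr fun g => by
      obtain ⟨i, rfl⟩ := Subgroup.mem_zpowers_iff.mp (h ▸ Subgroup.mem_top g)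
      exact ((Commute.refl x).zpow_left i).eq)
    obtain ⟨M, hM, hxM⟩ := (eq_top_or_exists_le_coatom (Subgroup.zpowers x)).resolve_left hne
    haveI hMn : M.Normal :=
      Subgroup.NormalizerCondition.normal_of_coatom M (Group.normalizerCondition_of_isNilpotent (G := T)) hM
    have hxM' : x ∈ M := hxM (Subgroup.mem_zpowers x)
    have hMlt : Nat.card M < Nat.card T :=
      lt_of_le_of_ne (Subgroup.card_le_card_group M) fun h =>
        hM.1 (Subgroup.eq_top_of_card_eq M h)
    by_cases hxc : (⟨x, hxM'⟩ : M) ∈ Subgroup.center M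
    · let Y0 : Subgroup M :=
        { carrier := {y | y ∈ Subgroup.center M ∧ y ^ e = 1}
          one_mem' := ⟨one_mem _, one_pow _⟩
          inv_mem' := fun h => ⟨inv_mem h.1, by rw [inv_pow, h.2, inv_one]⟩
          mul_mem' := fun {a b} ha hb => ⟨mul_mem ha.1 hb.1, by
            rw [(show Commute a b from Subgroup.mem_center_iff.mp hb.1 a).mul_pow, ha.2, hb.2, one_mul]⟩ }
      haveI : Y0.Characteristic := Subgroup.characteristic_iff_le_comap.mpr fun φ y hy =>
        ⟨(Subgroup.characteristic_iff_le_comap.mp inferInstance φ : _ ≤ _) hy.1,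
          show (φ y) ^ e = 1 by rw [← map_pow, hy.2, map_one]⟩
      refine ⟨Y0.map M.subtype, inferInstance, ?_, fun h => hxZ (h ⟨⟨x, hxM'⟩, ⟨hxc, ?_⟩, rfl⟩)⟩
      · rintro _ ⟨y, hy, rfl⟩
        simpa using congrArg Subtype.val hy.2
      · exact Subtype.ext (by simpa using hxe)
    · have hlow := ih _ hMlt M rfl (hT.to_subgroup M) ⟨⟨x, hxM'⟩, Subtype.ext (by simpa using hxe), hxc⟩
      haveI := smallTwo_char (T := M) (p := p) (e := e) (hpe := hpe) (hpc := hpc)
      refine ⟨(smallTwo (T := M) p e hpe hpc).map M.subtype, inferInstance, ?_,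
        fun h => hlow fun y hy => Subgroup.mem_center_iff.mpr fun g =>
          Subtype.ext (Subgroup.mem_center_iff.mp (h ⟨y, hy, rfl⟩) g)⟩
      rintro _ ⟨y, hy, rfl⟩
      simpa using congrArg Subtype.val hy.2.1

variable {Ω : Type*} [Group Ω] {S : Subgroup Ω} {F : FusionSystem S} {p : ℕ}
variable [Finite S] [Fact p.Prime]

theorem omegaExp_dvd_sq : CfsgLib.OddOmega.omegaExp p ∣ p ^ 2 := by
  unfold CfsgLib.OddOmega.omegaExp
  split
  · subst_vars; norm_num
  · exact dvd_pow_self p two_ne_zero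

/-- If maps of small hyperfocal elements extend to `S`, then `S` is normal. -/
theorem isNormal_of_small_extend (hS : IsPGroup p S) (hF : F.IsSaturated p)
    (hext : ∀ (Q : Subgroup Ω) (f : Ω → Ω), IsMap F Q f → ∀ x ∈ Q,
      x ∈ F.hyperfocalSubgroup p → x ^ CfsgLib.OddOmega.omegaExp p = 1 →
        ∃ g, IsMap F S g ∧ g x = f x) :
    F.IsNormal S := by
  set e := CfsgLib.OddOmega.omegaExp p
  set H := F.hyperfocalSubgroup p
  haveI : Group.IsNilpotent S := hS.isNilpotent
  -- the upper central series inside `Ω`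
  let L : ℕ → Subgroup Ω := fun i => (Subgroup.upperCentralSeries S i).map S.subtype
  have hLS : ∀ i, L i ≤ S := fun i => Subgroup.map_subtype_le _
  have hLn : ∀ (i : ℕ), ∀ x ∈ L (i + 1), ∀ s ∈ S, x⁻¹ * (s * x * s⁻¹) ∈ L i := by
    rintro i _ ⟨x, hx, rfl⟩ s hs
    refine ⟨⁅x⁻¹, ⟨s, hs⟩⁆, (Subgroup.inv_mem _ hx :) ⟨s, hs⟩, ?_⟩
    simp only [commutatorElement_def, map_mul, map_inv, Subgroup.coe_subtype]
    group
  -- a map on `S` is an automorphism of `S`
  have haut : ∀ g, IsMap F S g → ∃ ψ : MulAut S, ∀ x : S, ((ψ x : S) : Ω) = g x := by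
    intro g hg
    obtain ⟨φ, hφ, hv⟩ := hg
    let ψ0 : S →* S := φ.codRestrict S (F.le_of_mem hφ).2
    have hinj : Function.Injective ψ0 := fun a b h =>
      F.injective_of_mem hφ (congrArg Subtype.val h)
    exact ⟨MulEquiv.ofBijective ψ0 ⟨hinj, Finite.surjective_of_injective hinj⟩, fun x => hv x⟩
  have hLmap : ∀ g, IsMap F S g → ∀ i, ∀ x ∈ L i, g x ∈ L i := by
    rintro g hg i _ ⟨x, hx, rfl⟩
    obtain ⟨ψ, hψ⟩ := haut g hg
    exact ⟨ψ x, (Subgroup.characteristic_iff_le_comap.mp inferInstance ψ : _ ≤ _) hx, hψ x⟩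
  have hLsmall : ∀ (Q : Subgroup Ω) (f : Ω → Ω), IsMap F Q f → ∀ x ∈ Q,
      x ∈ H → x ^ e = 1 → ∀ i, x ∈ L i → f x ∈ L i := by
    intro Q f hf x hx hxH hxe i hi
    obtain ⟨g, hg, hgx⟩ := hext Q f hf x hx hxH hxe
    exact hgx ▸ hLmap g hg i x hi
  -- small strongly closed subgroups are normal
  have hXnormal : ∀ X : Subgroup Ω, X ≤ H → F.StronglyClosed X → (∀ x ∈ X, x ^ e = 1) →
      F.IsNormal X := by
    intro X hXH hX hXe
    refine isNormal_of_series hS hF (Group.nilpotencyClass S) (fun i => X ⊓ L i) ?_ ?_ ?_ ?_ ?_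
    · show X ⊓ L 0 = ⊥
      simp only [L, Subgroup.upperCentralSeries_zero, Subgroup.map_bot, inf_bot_eq]
    · show X ⊓ L _ = X
      simp only [L, upperCentralSeries_nilpotencyClass, ← MonoidHom.range_eq_map,
        Subgroup.range_subtype]
      exact inf_eq_left.mpr hX.1
    · exact fun i _ => inf_le_inf_left X (Subgroup.map_mono
        (Subgroup.upperCentralSeries_mono _ (Nat.le_succ i)))
    · intro i _
      refine stronglyClosed_iff.2 ⟨inf_le_left.trans hX.1, fun Q f hf x hx hxX =>
        ⟨isMap_mem_of_stronglyClosed hX hf hx hxX.1,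
          hLsmall Q f hf x hx (hXH hxX.1) (hXe x hxX.1) i hxX.2⟩⟩
    · intro i _ g hg x hx
      refine ⟨X.mul_mem (X.mul_mem (X.mul_mem hg hx.1) (X.inv_mem hg)) (X.inv_mem hx.1), ?_⟩
      obtain ⟨x', hx', rfl⟩ := hx.2
      refine ⟨⁅(⟨g, hX.1 hg⟩ : S), x'⁆, ?_, ?_⟩
      · have hc : ⁅x', (⟨g, hX.1 hg⟩ : S)⁆ ∈ Subgroup.upperCentralSeries S i :=
          (Subgroup.mem_upperCentralSeries_succ_iff.mp hx') _
        rw [← commutatorElement_inv]
        exact inv_mem hc
      · simp only [commutatorElement_def, map_mul, map_inv, Subgroup.coe_subtype]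
  refine (isNormal_iff_stronglyClosed_le hS hF).2
    ⟨⟨le_rfl, fun R _ φ hφ x => (F.le_of_mem hφ).2 x⟩, fun P hc hr => ?_⟩
  have hP := hc.1
  have := finite_of_le hP
  have := finite_mulAut P
  have hH := stronglyClosed_hyperfocal hS hF
  -- the stabilizer of the layers of all small strongly closed subgroups
  let good : Subgroup Ω → Prop := fun X => X ≤ H ∧ F.StronglyClosed X ∧ ∀ x ∈ X, x ^ e = 1
  have hpres : ∀ α ∈ F.autGroup P, ∀ X : Subgroup Ω, good X → ∀ i, ∀ x : P,
      (x : Ω) ∈ X ⊓ L i → (α x : Ω) ∈ X ⊓ L i := by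
    intro α hα X hX i x hx
    have hm := ((mem_autGroup_iff hP α).1 hα).isMap
    refine ⟨?_, ?_⟩
    · have := isMap_mem_of_stronglyClosed hX.2.1 hm x.2 hx.1
      rwa [autFun_coe] at this
    · have := hLsmall P _ hm x x.2 (hX.1 hx.1) (hX.2.2 _ hx.1) i hx.2
      rwa [autFun_coe] at this
  let K : Subgroup (MulAut P) :=
    { carrier := {α | α ∈ F.autGroup P ∧ ∀ X : Subgroup Ω, good X → ∀ i, ∀ x : P,
        (x : Ω) ∈ X ⊓ L (i + 1) → ((x⁻¹ * α x : P) : Ω) ∈ X ⊓ L i}
      one_mem' := ⟨Subgroup.one_mem _, fun X _ i x _ => by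
        rw [MulAut.one_apply, inv_mul_cancel]; exact Subgroup.one_mem _⟩
      mul_mem' := by
        rintro a b ⟨ha, ha'⟩ ⟨hb, hb'⟩
        refine ⟨Subgroup.mul_mem _ ha hb, fun X hX i x hx => ?_⟩
        rw [MulAut.mul_apply, show x⁻¹ * a (b x) = (x⁻¹ * b x) * ((b x)⁻¹ * a (b x)) by group,
          Subgroup.coe_mul]
        exact Subgroup.mul_mem _ (hb' X hX i x hx) (ha' X hX i _ (hpres b hb X hX _ x hx))
      inv_mem' := by
        rintro a ⟨ha, ha'⟩
        refine ⟨Subgroup.inv_mem _ ha, fun X hX i x hx => ?_⟩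
        have hy := hpres _ (Subgroup.inv_mem _ ha) X hX _ x hx
        have := Subgroup.inv_mem _ (ha' X hX i _ hy)
        rw [MulAut.apply_inv_self, ← Subgroup.coe_inv, mul_inv_rev, inv_inv] at this
        exact this }
  have hKle : K ≤ F.autGroup P := fun a ha => ha.1
  have hKn : (K.subgroupOf (F.autGroup P)).Normal := by
    refine ⟨fun a ha b => ⟨(b * a * b⁻¹ : F.autGroup P).2, fun X hX i x hx => ?_⟩⟩
    show ((x⁻¹ * ((b : MulAut P) * (a : MulAut P) * (b : MulAut P)⁻¹) x : P) : Ω) ∈ X ⊓ L i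
    simp only [MulAut.mul_apply]
    have hy := hpres _ (Subgroup.inv_mem _ b.2) X hX _ x hx
    have := hpres _ b.2 X hX i _ (ha.2 X hX i _ hy)
    rw [map_mul, map_inv, MulAut.apply_inv_self] at this
    exact this
  have hKp : IsPGroup p K := by
    rintro ⟨α, hα⟩
    obtain ⟨a, -, -, -, hcop, -⟩ := CfsgLib.Transfer.exists_pow_coprime_part (p := p) α
    set β := α ^ p ^ a with hβdef
    have hβ : β ∈ K := K.pow_mem hα _
    have hfix0 : ∀ X, good X → ∀ x : P, (x : Ω) ∈ X → β x = x := by
      intro X hX x hx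
      suffices h : ∀ i, ∀ x : P, (x : Ω) ∈ X ⊓ L i → β x = x by
        refine h (Group.nilpotencyClass S) x ⟨hx, ⟨⟨x, hP x.2⟩, ?_, rfl⟩⟩
        rw [upperCentralSeries_nilpotencyClass]
        exact Subgroup.mem_top _
      intro i
      induction i with
      | zero =>
        intro y hy
        obtain ⟨u, hu, hue⟩ := hy.2
        rw [Subgroup.upperCentralSeries_zero, SetLike.mem_coe, Subgroup.mem_bot] at hu
        subst hu
        rw [show y = 1 from Subtype.ext hue.symm, map_one]
      | succ i ih =>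
        intro y hy
        exact fixed_of_diff (hS.to_le hP) β hcop (ih _ (hβ.2 X hX i y hy))
    suffices hT : ∀ (m : ℕ) (T : Subgroup Ω), Nat.card T = m → T ≤ H → F.StronglyClosed T →
        ∀ x : P, (x : Ω) ∈ T → β x = x by
      refine ⟨a, Subtype.ext ?_⟩
      exact eq_one_of_fixes_small hS hH hP hβ.1 hcop
        (inv_mul_mem_hyperfocal_of_coprime hP hβ.1 hcop)
        fun x hx _ => hT _ H rfl le_rfl hH x hx
    intro m
    induction m using Nat.strong_induction_on with
    | _ m ih =>
      intro T hm hTH hT x hx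
      subst hm
      haveI := finite_of_le hT.1
      have hTn : ∀ t ∈ T, t ∈ S := fun t ht => hT.1 ht
      -- extending maps preserve the characteristic subgroups of `T`
      have hchar : ∀ (C : Subgroup T), C.Characteristic → (∀ c ∈ C, (c : Ω) ^ e = 1) →
          good (C.map T.subtype) := by
        intro C hC hCe
        refine ⟨(Subgroup.map_subtype_le C).trans hTH, stronglyClosed_iff.2
          ⟨(Subgroup.map_subtype_le C).trans hT.1, ?_⟩, ?_⟩
        · rintro Q f hf _ hxQ ⟨c, hc, rfl⟩
          obtain ⟨g, hg, hgx⟩ := hext Q f hf c hxQ (hTH c.2) (hCe c hc)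
          have hgT : ∀ t ∈ T, g t ∈ T := fun t ht =>
            isMap_mem_of_stronglyClosed hT hg (hT.1 ht) ht
          let g0 : T →* T :=
            { toFun := fun t => ⟨g t, hgT t t.2⟩
              map_one' := Subtype.ext hg.map_one
              map_mul' := fun s t => Subtype.ext (hg.map_mul (hT.1 s.2) (hT.1 t.2)) }
          have hinj : Function.Injective g0 := fun s t h => Subtype.ext
            (hg.injOn (hT.1 s.2) (hT.1 t.2) (congrArg Subtype.val h))
          let g1 : MulAut T := MulEquiv.ofBijective g0 ⟨hinj, Finite.surjective_of_injective hinj⟩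
          refine ⟨g1 c, (Subgroup.characteristic_iff_le_comap.mp hC g1 : _ ≤ _) hc, ?_⟩
          show g c = f c
          exact hgx
        · rintro _ ⟨c, hc, rfl⟩
          exact hCe c hc
      by_cases hnon : ∃ t : T, t ^ e = 1 ∧ t ∉ Subgroup.center T
      · set X0 := smallTwo (T := T) p e (CfsgLib.OddOmega.dvd_omegaExp p)
          (CfsgLib.OddOmega.dvd_omegaExp_choose p) with hX0
        have hXZ : ¬ X0 ≤ Subgroup.center T := exists_smallTwo_noncentral _ _ omegaExp_dvd_sq
          (hS.to_le hT.1) hnon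
        set X := X0.map T.subtype with hXdef
        have hX : good X := hchar X0 smallTwo_char fun c hc => by
          simpa using congrArg Subtype.val hc.2.1
        have hXN := hXnormal X hX.1 hX.2.1 hX.2.2
        have hXP : X ≤ P := le_of_isNormal hS hXN hc hr
        set T' := T ⊓ Subgroup.centralizer (X : Set Ω) with hT'
        have hT'cl : F.StronglyClosed T' := by
          refine stronglyClosed_iff.2 ⟨inf_le_left.trans hT.1, fun Q f hf y hy hyT => ?_⟩
          refine ⟨isMap_mem_of_stronglyClosed hT hf hy hyT.1, ?_⟩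
          obtain ⟨g, hg, hag, hgX⟩ := (isNormal_iff.1 hXN).2 Q f hf
          rintro z hz
          obtain ⟨u, hu, rfl⟩ := (show z ∈ g '' (X : Set Ω) from hgX.symm ▸ hz)
          rw [← hag y hy, ← hg.map_mul (Subgroup.mem_sup_right hu) (Subgroup.mem_sup_left hy),
            ← hg.map_mul (Subgroup.mem_sup_left hy) (Subgroup.mem_sup_right hu), hyT.2 u hu]
        have hT'lt : Nat.card T' < Nat.card T := by
          refine lt_of_le_of_ne (Subgroup.card_le_of_le inf_le_left) fun hcard => hXZ fun c hc => ?_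
          have heq : T' = T := Subgroup.eq_of_le_of_card_ge inf_le_left hcard.ge
          refine Subgroup.mem_center_iff.mpr fun t => Subtype.ext ?_
          exact ((heq.ge t.2).2 c ⟨c, hc, rfl⟩).symm
        have hd : ((x⁻¹ * β x : P) : Ω) ∈ T' := by
          have hm' := ((mem_autGroup_iff hP β).1 hβ.1).isMap
          have hβT : (β x : Ω) ∈ T := by
            have := isMap_mem_of_stronglyClosed hT hm' x.2 hx
            rwa [autFun_coe] at this
          refine ⟨by simpa using T.mul_mem (T.inv_mem hx) hβT, fun z hz => ?_⟩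
          -- conjugation by `x` and by `β x` agree on `X`
          have hn := le_normalizer_of_isNormal hXN (hP x.2)
          have hxz : (x : Ω) * z * (x : Ω)⁻¹ ∈ X := conj_mem_of_mem_normalizer hn hz
          have h1 : β (x * ⟨z, hXP hz⟩ * x⁻¹) = x * ⟨z, hXP hz⟩ * x⁻¹ :=
            hfix0 X hX _ (by simpa using hxz)
          rw [map_mul, map_mul, map_inv, hfix0 X hX ⟨z, hXP hz⟩ hz] at h1
          have h2 : (β x : Ω) * z * (β x : Ω)⁻¹ = (x : Ω) * z * (x : Ω)⁻¹ := by
            simpa using congrArg Subtype.val h1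
          rw [Subgroup.coe_mul, Subgroup.coe_inv]
          calc z * ((x : Ω)⁻¹ * (β x : Ω)) = (x : Ω)⁻¹ * ((x : Ω) * z * (x : Ω)⁻¹) * (β x : Ω) := by
                group
            _ = (x : Ω)⁻¹ * (β x : Ω) * z := by rw [← h2]; group
        exact fixed_of_diff (hS.to_le hP) β hcop
          (ih _ hT'lt T' rfl (inf_le_left.trans hTH) hT'cl _ hd)
      · push Not at hnon
        let C0 : Subgroup T :=
          { carrier := {t | t ^ e = 1}
            one_mem' := one_pow _
            inv_mem' := fun {t} (h : t ^ e = 1) => by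
              show t⁻¹ ^ e = 1
              rw [inv_pow, h, inv_one]
            mul_mem' := fun {s t} (hs : s ^ e = 1) (ht : t ^ e = 1) => by
              show (s * t) ^ e = 1
              rw [(show Commute s t from Subgroup.mem_center_iff.mp (hnon t ht) s).mul_pow, hs, ht,
                one_mul] }
        have hC0 : C0.Characteristic := Subgroup.characteristic_iff_le_comap.mpr
          fun φ t (ht : t ^ e = 1) => show (φ t) ^ e = 1 by rw [← map_pow, ht, map_one]
        have hgood := hchar C0 hC0 fun c (hc : c ^ e = 1) => by simpa using congrArg Subtype.val hc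
        refine fixes_of_fixes_small (hS.to_le hP) β hcop (T.subgroupOf P) (fun y hy => ?_)
          (fun y hy hye => hfix0 _ hgood y ⟨⟨y, hy⟩, Subtype.ext (by
            simpa using congrArg Subtype.val hye), rfl⟩) x hx
        have := isMap_mem_of_stronglyClosed hT ((mem_autGroup_iff hP β).1 hβ.1).isMap y.2 hy
        rw [autFun_coe] at this
        exact this
  refine le_of_normalizer_inf_le hS hP le_rfl (fun x hx => Subgroup.le_normalizer (hP hx))
    fun g hg hgn => ?_
  have hgK : conjAut P hgn ∈ K := by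
    refine ⟨autInducedBy_le_autGroup hP (conjAut_mem_autInducedBy hgn hg), fun X hX i x hx => ?_⟩
    rw [Subgroup.coe_mul, Subgroup.coe_inv, conjAut_apply]
    refine ⟨X.mul_mem (X.inv_mem hx.1) ?_, hLn i x hx.2 g hg⟩
    exact isMap_mem_of_stronglyClosed hX.2.1 (isMap_conj le_rfl hg) (hP x.2) hx.1
  exact mem_of_mem_pCore hc hr ⟨hg, hgn⟩ (α := ⟨_, hKle hgK⟩) (conjAut_apply P hgn)
    (CfsgLib.Fitting.le_pCore hKn (hKp.of_equiv (Subgroup.subgroupOfEquivOfLe hKle).symm) hgK)

end CfsgLib.Fusion.SmallExtend
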