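import Mathlib
import Cfsg.Agent.Lib.Fusion.StronglyClosedControl
import Cfsg.Prelude.Def_FusionReduction

/-!
Sparse systems are constrained.
-/

set_option autoImplicit false

namespace CfsgLib.Fusion

open Cfsg Cfsg.FusionSystem

universe u

variable {p : ℕ} [Fact p.Prime] {Ω : Type u} [Group Ω] {S : Subgroup Ω} [Finite S]
  {F : FusionSystem S}

omit [Fact p.Prime] in
theorem le_normalizer_sup_centralizerIn {U : Subgroup Ω} (hUS : U ≤ S)
    (hUn : S ≤ Subgroup.normalizer (U : Set Ω)) :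
    S ≤ Subgroup.normalizer ((U ⊔ centralizerIn S U : Subgroup Ω) : Set Ω) := by
  have hRS : U ⊔ centralizerIn S U ≤ S := sup_le hUS inf_le_left
  intro s hs
  refine mem_normalizer_of_conj_mem hRS fun x hx => ?_
  have hle : U ⊔ centralizerIn S U ≤
      (U ⊔ centralizerIn S U).comap (MulAut.conj s).toMonoidHom := sup_le
    (fun u hu => Subgroup.mem_sup_left (conj_mem_of_mem_normalizer (hUn hs) hu))
    (fun c hc => Subgroup.mem_sup_right ⟨S.mul_mem (S.mul_mem hs hc.1) (S.inv_mem hs),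
      mem_centralizer_of_conj_eq fun y hy => by
        show s * c * s⁻¹ * y * (s * c * s⁻¹)⁻¹ = y
        have h1 := conj_eq_self_of_mem_centralizer hc.2
          (conj_mem_of_mem_normalizer (Subgroup.inv_mem _ (hUn hs)) hy)
        calc s * c * s⁻¹ * y * (s * c * s⁻¹)⁻¹ = s * (c * (s⁻¹ * y * s⁻¹⁻¹) * c⁻¹) * s⁻¹ := by
              group
          _ = y := by rw [h1]; group⟩)
  exact hle hx

theorem isPGroup_autGroup_of_fix_sup (hS : IsPGroup p S) (hF : F.IsSaturated p) {U : Subgroup Ω}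
    (hUS : U ≤ S) (hUn : S ≤ Subgroup.normalizer (U : Set Ω))
    (hRfix : FixPGroup F p (U ⊔ centralizerIn S U)) : IsPGroup p (F.autGroup U) := by
  have hRS : U ⊔ centralizerIn S U ≤ S := sup_le hUS inf_le_left
  have := finite_of_le hUS
  have := finite_mulAut U
  refine isPGroup_of_coprime_trivial' fun a hac => Subtype.ext ?_
  have hai := (mem_autGroup_iff hUS _).1 a.2
  have hUfn : F.IsFullyNormalized U := ⟨hUS, fun Q _ => by
    rw [show normalizerIn S U = S from inf_eq_left.2 hUn]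
    exact Subgroup.card_le_of_le inf_le_left⟩
  obtain ⟨χ, hχ, hχv⟩ := (isReceptive_iff.1 (isReceptive_of_isFullyNormalized hS hF hUfn)).2
    U _ hai
  have hRN : U ⊔ centralizerIn S U ≤ nPhi S U (autFun (a : MulAut U)) :=
    sup_le (le_nPhi hai.isMap) fun c hc => ⟨hc.1, Subgroup.centralizer_le_normalizer _ hc.2,
      1, S.one_mem, fun x hx => by
        rw [conj_eq_self_of_mem_centralizer hc.2 hx, one_mul, inv_one, mul_one]⟩
  have hχR : χ '' ((U ⊔ centralizerIn S U : Subgroup Ω) : Set Ω) =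
      (U ⊔ centralizerIn S U : Subgroup Ω) := by
    refine image_eq_of_mem hRS hχ hRN fun x hx => ?_
    obtain ⟨φ, hφ, hv⟩ := id hχ
    have h3 : U ⊔ centralizerIn S U ≤ ((U ⊔ centralizerIn S U).comap φ).map
        (nPhi S U (autFun (a : MulAut U))).subtype := sup_le
      (fun y hy => ⟨⟨y, hRN (Subgroup.mem_sup_left hy)⟩,
        show φ ⟨y, hRN (Subgroup.mem_sup_left hy)⟩ ∈ U ⊔ centralizerIn S U by
        rw [hv, hχv y hy]; exact Subgroup.mem_sup_left (hai.mem hy), rfl⟩)
      (fun y hy => ⟨⟨y, hRN (Subgroup.mem_sup_right hy)⟩,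
        show φ ⟨y, hRN (Subgroup.mem_sup_right hy)⟩ ∈ U ⊔ centralizerIn S U by
        rw [hv]
        refine Subgroup.mem_sup_right ⟨hχ.mem (hRN (Subgroup.mem_sup_right hy)),
          mem_centralizer_of_conj_eq fun z hz => ?_⟩
        obtain ⟨w, hw, rfl⟩ := hai.surj hz
        rw [← hχv w hw, ← hχ.map_conj (hRN (Subgroup.mem_sup_right hy))
          (hRN (Subgroup.mem_sup_left hw)), conj_eq_self_of_mem_centralizer hy.2 hw], rfl⟩)
    obtain ⟨z, hz, rfl⟩ := h3 hx
    show χ (z : Ω) ∈ _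
    rw [← hv z]; exact hz
  exact eq_one_of_fix hRfix le_sup_left hRS le_rfl ⟨hχ.mono hRN, hχR⟩ hχR
    (by rwa [Subgroup.orderOf_coe]) fun x => by rw [hχv x x.2, autFun_coe]

/-- In a sparse system a subgroup normal in `S` is normal, or its stabiliser has no
`p'`-automorphisms. -/
theorem isNormal_or_fixPGroup_of_sparse (hS : IsPGroup p S) (hF : F.IsSaturated p)
    (hsp : ∀ E : FusionSystem S, E.IsSaturated p → E.IsSubsystemOf F →
      (∀ P : Subgroup Ω, E.Hom P = F.Hom P) ∨
        ∀ P : Subgroup Ω, E.Hom P = (innerFusionSystem S).Hom P)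
    {X : Subgroup Ω} (hX : X ≤ S) (hXn : S ≤ Subgroup.normalizer (X : Set Ω)) :
    F.IsNormal X ∨ FixPGroup F p X := by
  have hXN : normalizerIn S X = S := inf_eq_left.2 hXn
  have hXfn : F.IsFullyNormalized X := ⟨hX, fun Q' _ => by
    rw [hXN]; exact Subgroup.card_le_of_le inf_le_left⟩
  obtain ⟨E, hE⟩ : ∃ E, F.IsNormalizerSystem X E := ⟨normalizerSystem F X hX, fun _ => rfl⟩
  have key : ∀ (T : Subgroup Ω), T = S → ∀ E : FusionSystem T, E.IsSaturated p →
      (∀ P : Subgroup Ω, E.Hom P = F.normalizerHom X P) →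
      (∀ P : Subgroup Ω, F.Hom P = F.normalizerHom X P) ∨
        (∀ P : Subgroup Ω, E.Hom P = (innerFusionSystem T).Hom P) := by
    rintro T rfl E hEsat hEiff
    rcases hsp E hEsat fun P φ hφ => by rw [hEiff] at hφ; exact hφ.1 with h | h
    · exact Or.inl fun P => by rw [← h P, hEiff]
    · exact Or.inr h
  rcases key _ hXN E (isSaturated_normalizerSystem hS hF hXfn hE) hE with h | h
  · refine Or.inl (isNormal_iff.2 ⟨hX, fun P f hf => ?_⟩)
    obtain ⟨φ, hφ, hv⟩ := hf
    rw [h, ← hE] at hφ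
    obtain ⟨-, -, g, hg, hgf, hgX⟩ := (isMap_normalizerSystem_iff hE).1 ⟨φ, hφ, hv⟩
    exact ⟨g, hg, hgf, hgX⟩
  · refine Or.inr (fixPGroup_of_normalizer_inner hS hX hXN fun N hN P => ?_)
    rw [hN P, ← hE P, h P]

theorem isConstrained_of_sparse (hS : IsPGroup p S) (hF : F.IsSaturated p)
    (hne : ¬ ∀ P : Subgroup Ω, F.Hom P = (innerFusionSystem S).Hom P)
    (hsp : ∀ E : FusionSystem S, E.IsSaturated p → E.IsSubsystemOf F →
      (∀ P : Subgroup Ω, E.Hom P = F.Hom P) ∨
        ∀ P : Subgroup Ω, E.Hom P = (innerFusionSystem S).Hom P)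
    (hp : p ≠ 2 ∨ F.IsSectionFree p (Equiv.Perm (Fin 4))) : F.IsConstrained p := by
  have hbot : F.IsNormal ⊥ := by
    refine isNormal_iff.2 ⟨bot_le, fun P f hf => ⟨f, by rwa [sup_bot_eq], fun _ _ => rfl, ?_⟩⟩
    rw [Subgroup.coe_bot, Set.image_singleton, hf.map_one]
  obtain ⟨U, hU, hUmax⟩ := Set.exists_max_image {U : Subgroup Ω | F.IsNormal U}
    (fun U => Nat.card U) (finite_subgroups_le (S := S) _ fun U (hU : F.IsNormal U) => hU.1)
    ⟨⊥, hbot⟩
  have hU : F.IsNormal U := hU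
  have hUS := hU.1
  have := finite_of_le hUS
  have hUn : S ≤ Subgroup.normalizer (U : Set Ω) := le_normalizer_of_isNormal hU
  have hUfn : F.IsFullyNormalized U := ⟨hUS, fun Q _ => by
    rw [show normalizerIn S U = S from inf_eq_left.2 hUn]
    exact Subgroup.card_le_of_le inf_le_left⟩
  by_cases hUc : centralizerIn S U ≤ U
  · exact ⟨hF, U, hU, isCentric_of_fullyCentralized hS hF
      (isFullyCentralized_of_isFullyNormalized hS hF hUfn) hUc⟩
  exfalso
  have hUne : U ≠ S := fun h => hUc (h ▸ inf_le_left)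
  have hloc : ∀ X : Subgroup Ω, X ≤ S → U ≤ X → X ≠ U →
      S ≤ Subgroup.normalizer (X : Set Ω) → FixPGroup F p X := by
    intro X hX hUX hne' hXn
    refine (isNormal_or_fixPGroup_of_sparse hS hF hsp hX hXn).resolve_left fun hXN => hne' ?_
    have := finite_of_le hX
    exact (Subgroup.eq_of_le_of_card_ge hUX (hUmax X hXN)).symm
  have hUp := isPGroup_autGroup_of_fix_sup hS hF hUS hUn (hloc _ (sup_le hUS inf_le_left)
    le_sup_left (fun h => hUc (sup_eq_left.1 h)) (le_normalizer_sup_centralizerIn hUS hUn))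
  refine hne (inner_of_autsPGroup hS hF (autsPGroup_of_thompson hS hF hp hU hUp ?_ ?_))
  · exact hloc _ (relW_le _ _ _) (le_relW _ hUS)
      (relW_ne jFunctor jFunctor_ne_bot hS hUS hUn hUne) fun s hs =>
        normalizer_le_relW jFunctor jFunctor_map le_rfl hS (Subgroup.le_normalizer hs) (hUn hs)
  · exact (hloc _ (relW_le _ _ _) (le_relW _ hUS)
      (relW_ne zFunctor zFunctor_ne_bot hS hUS hUn hUne) fun s hs =>
        normalizer_le_relW zFunctor zFunctor_map le_rfl hS (Subgroup.le_normalizer hs)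
          (hUn hs)).centPGroup

end CfsgLib.Fusion
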