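import Mathlib
import Cfsg.Agent.Lib.Fusion.AutSystem
import Cfsg.Agent.Lib.Fusion.NormalSeries

/-!
Saturated systems with a strongly closed series with cyclic quotients.
-/

set_option autoImplicit false
set_option linter.style.haveILetI false

namespace CfsgLib.Fusion.SupersolubleType

open Cfsg Cfsg.FusionSystem

variable {p : ℕ} [Fact p.Prime]

theorem zpow_eq_self {Q : Type*} [Group Q] {y : Q} (hy : y ^ p = 1) {m : ℤ} (h : (m : ZMod p) = 1) :
    y ^ m = y := by
  obtain ⟨d, hd⟩ : (p : ℤ) ∣ m - 1 := by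
    rw [← ZMod.intCast_zmod_eq_zero_iff_dvd, Int.cast_sub, h, Int.cast_one, sub_self]
  rw [show m = 1 + (p : ℤ) * d by omega, zpow_add, zpow_one, zpow_mul, zpow_natCast, hy, one_zpow,
    mul_one]

/-- In a `p`-group a normalized cyclic subgroup of order `p` is central. -/
theorem commute_of_normal_zpowers {Q : Type*} [Group Q] (hQ : IsPGroup p Q) {z : Q} (hz : z ^ p = 1)
    {g : Q} {a : ℤ} (ha : g * z * g⁻¹ = z ^ a) : g * z = z * g := by
  have hpow : ∀ n : ℕ, g ^ n * z * (g ^ n)⁻¹ = z ^ (a ^ n) := by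
    intro n
    induction n with
    | zero => simp
    | succ n ih =>
      calc g ^ (n + 1) * z * (g ^ (n + 1))⁻¹ = g * (g ^ n * z * (g ^ n)⁻¹) * g⁻¹ := by
            rw [pow_succ']; group
        _ = g * z ^ (a ^ n) * g⁻¹ := by rw [ih]
        _ = (g * z * g⁻¹) ^ (a ^ n) := (conj_zpow ..).symm
        _ = z ^ (a ^ (n + 1)) := by rw [ha, ← zpow_mul, pow_succ']
  rcases eq_or_ne z 1 with rfl | hz1
  · simp
  obtain ⟨k, hk⟩ := hQ g
  have h1 := hpow (p ^ k)
  rw [hk, one_mul, inv_one, mul_one] at h1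
  have h2 : ((a : ZMod p)) = 1 := by
    have h3 : z ^ (a ^ p ^ k - 1) = 1 := by rw [zpow_sub, zpow_one, ← h1, mul_inv_cancel]
    have h4 := orderOf_dvd_iff_zpow_eq_one.2 h3
    rw [orderOf_eq_prime hz hz1, ← ZMod.intCast_zmod_eq_zero_iff_dvd, Int.cast_sub, Int.cast_pow,
      ZMod.pow_card_pow, Int.cast_one, sub_eq_zero] at h4
    exact h4
  rw [zpow_eq_self hz h2] at ha
  exact mul_inv_eq_iff_eq_mul.1 ha

variable {Ω : Type*} [Group Ω] {S : Subgroup Ω}

/-- A central step of order at most `p`. -/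
def Step (S : Subgroup Ω) (p : ℕ) (T T' : Subgroup Ω) : Prop :=
  T ≤ T' ∧ (∀ g ∈ S, ∀ x ∈ T', g * x * g⁻¹ * x⁻¹ ∈ T) ∧
    ∃ z ∈ T', z ^ p ∈ T ∧ T' = T ⊔ Subgroup.zpowers z

/-- A subgroup reached from `⊥` by central steps of order at most `p` through strongly closed
subgroups. -/
inductive Good (F : FusionSystem S) (p : ℕ) : Subgroup Ω → Prop
  | bot : Good F p ⊥
  | step {T T' : Subgroup Ω} : Good F p T → F.StronglyClosed T' → Step S p T T' → Good F p T'

theorem Good.series {F : FusionSystem S} {Q : Subgroup Ω} (h : Good F p Q) :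
    ∃ (n : ℕ) (Qs : ℕ → Subgroup Ω), Qs 0 = ⊥ ∧ Qs n = Q ∧ (∀ i ≤ n, F.StronglyClosed (Qs i)) ∧
      ∀ i < n, Step S p (Qs i) (Qs (i + 1)) := by
  induction h with
  | bot =>
    exact ⟨0, fun _ => ⊥, rfl, rfl, fun _ _ => stronglyClosed_of_isNormal (isNormal_bot F),
      fun _ hi => absurd hi (Nat.not_lt_zero _)⟩
  | @step T T' _ hcl hst ih =>
    obtain ⟨n, Qs, h0, hn, hQ, hs⟩ := ih
    refine ⟨n + 1, fun i => if i ≤ n then Qs i else T', by simp [h0], by simp, fun i hi => ?_,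
      fun i hi => ?_⟩
    · dsimp only
      split
      · exact hQ i ‹_›
      · exact hcl
    · rcases Nat.lt_or_ge i n with h | h
      · simpa [h.le, Nat.succ_le_of_lt h] using hs i h
      · obtain rfl : i = n := by omega
        simpa [hn] using hst

variable [Finite S]

/-- Refinement of a cyclic step. -/
theorem Good.extend {F : FusionSystem S} (hS : IsPGroup p S) {L M : Subgroup Ω} (hL : Good F p L)
    (hLc : F.StronglyClosed L) (hM : F.StronglyClosed M) {x : Ω} (hx : x ∈ S)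
    (hMx : M = L ⊔ Subgroup.zpowers x) : Good F p M := by
  set T : Subgroup S := L.subgroupOf S
  have hnorm : ∀ (K : Subgroup Ω), F.StronglyClosed K → ∀ g ∈ S, ∀ y ∈ K, g * y * g⁻¹ ∈ K :=
    fun K hK g hg y hy => isMap_mem_of_stronglyClosed hK (isMap_conj le_rfl hg) (hK.1 hy) hy
  haveI : T.Normal := ⟨fun y hy g => hnorm L hLc g g.2 y hy⟩
  set q : S →* S ⧸ T := QuotientGroup.mk' T
  set xb := q ⟨x, hx⟩
  have hq1 : ∀ y : S, q y = 1 ↔ (y : Ω) ∈ L := fun y => QuotientGroup.eq_one_iff y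
  have hQ : IsPGroup p (S ⧸ T) := hS.to_quotient T
  obtain ⟨k, hk⟩ := IsPGroup.iff_orderOf.1 hQ xb
  let R : ℕ → Subgroup Ω := fun r => ((Subgroup.zpowers (xb ^ p ^ (k - r))).comap q).map S.subtype
  have hmem : ∀ (r : ℕ) (y : S), (y : Ω) ∈ R r ↔ q y ∈ Subgroup.zpowers (xb ^ p ^ (k - r)) := by
    intro r y
    exact ⟨fun ⟨y', hy', e⟩ => by rwa [← (Subtype.ext e : y' = y)], fun h => ⟨y, h, rfl⟩⟩
  have hR0 : R 0 = L := by
    refine le_antisymm ?_ fun y hy => ?_
    · rintro _ ⟨y, hy, rfl⟩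
      simp only [Subgroup.coe_comap, Set.mem_preimage, Nat.sub_zero, ← hk, pow_orderOf_eq_one,
        Subgroup.zpowers_one_eq_bot, SetLike.mem_coe, Subgroup.mem_bot] at hy
      exact (hq1 y).1 hy
    · exact (hmem 0 ⟨y, hLc.1 hy⟩).2 (by rw [(hq1 _).2 hy]; exact one_mem _)
  have hMeq : R k = M := by
    refine le_antisymm ?_ ?_
    · rintro _ ⟨y, hy, rfl⟩
      simp only [Subgroup.coe_comap, Set.mem_preimage, Nat.sub_self, pow_zero, pow_one,
        SetLike.mem_coe] at hy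
      obtain ⟨i, hi⟩ := Subgroup.mem_zpowers_iff.1 hy
      have h : ((y : Ω) * (x ^ i)⁻¹) ∈ L := by
        have := (hq1 (y * ((⟨x, hx⟩ : S) ^ i)⁻¹)).1 (by
          rw [map_mul, map_inv, map_zpow, ← hi, mul_inv_cancel])
        simpa using this
      show (y : Ω) ∈ M
      rw [hMx, show (y : Ω) = (y : Ω) * (x ^ i)⁻¹ * x ^ i by group]
      exact Subgroup.mul_mem_sup h (Subgroup.zpow_mem_zpowers x i)
    · rw [hMx]
      refine sup_le (fun y hy => (hmem k ⟨y, hLc.1 hy⟩).2 (by rw [(hq1 _).2 hy]; exact one_mem _))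
        (Subgroup.zpowers_le.2 ((hmem k ⟨x, hx⟩).2 ?_))
      simp only [Nat.sub_self, pow_zero, pow_one]
      exact Subgroup.mem_zpowers _
  have hmono : ∀ r, R r ≤ R (r + 1) := by
    refine fun r => Subgroup.map_mono (Subgroup.comap_mono (Subgroup.zpowers_le.2 ?_))
    obtain ⟨d, hd⟩ : p ^ (k - (r + 1)) ∣ p ^ (k - r) := Nat.pow_dvd_pow p (by omega)
    rw [hd, pow_mul]
    exact Subgroup.npow_mem_zpowers _ _
  have hle : ∀ r, r ≤ k → R r ≤ M := by
    intro r hr
    obtain ⟨d, rfl⟩ : ∃ d, k = r + d := ⟨k - r, by omega⟩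
    rw [← hMeq]
    clear hMeq hr
    induction d with
    | zero => exact le_rfl
    | succ d ih =>
      refine Subgroup.map_mono (Subgroup.comap_mono (Subgroup.zpowers_le.2 ?_))
      simp only [Nat.sub_self, pow_zero, pow_one]
      exact Subgroup.npow_mem_zpowers _ _
  have hcl : ∀ r, r ≤ k → F.StronglyClosed (R r) := by
    intro r hr
    refine stronglyClosed_iff.2 ⟨Subgroup.map_subtype_le _, fun P f hf y hy hyR => ?_⟩
    obtain ⟨y', hy', rfl⟩ := hyR
    have hfM := isMap_mem_of_stronglyClosed hM hf hy (hle r hr ⟨y', hy', rfl⟩)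
    have hyp : ((y' : Ω)) ^ p ^ r ∈ L := by
      have := (hq1 (y' ^ p ^ r)).1 (by
        obtain ⟨i, hi⟩ := Subgroup.mem_zpowers_iff.1 hy'
        rw [map_pow, ← hi, ← zpow_natCast, ← zpow_mul, mul_comm, zpow_mul, zpow_natCast, ← pow_mul,
          ← pow_add, show k - r + r = k by omega, ← hk, pow_orderOf_eq_one, one_zpow])
      simpa using this
    have hfp := isMap_mem_of_stronglyClosed hLc hf (P.pow_mem hy _) hyp
    have hpow : f ((S.subtype y') ^ p ^ r) = (f (S.subtype y')) ^ p ^ r := by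
      obtain ⟨φ, -, hv⟩ := hf
      have h1 := hv (⟨S.subtype y', hy⟩ ^ p ^ r)
      rw [map_pow, hv] at h1
      simpa using h1.symm
    have hfp' : (f (S.subtype y')) ^ p ^ r ∈ L := hpow ▸ hfp
    set v : S := ⟨f (S.subtype y'), hM.1 hfM⟩
    refine (hmem r v).2 ?_
    have hvM : q v ∈ Subgroup.zpowers xb := by
      have := (hmem k v).1 (by rw [hMeq]; exact hfM)
      simpa using this
    obtain ⟨i, hi⟩ := Subgroup.mem_zpowers_iff.1 hvM
    have h1 : xb ^ (i * (p ^ r : ℕ)) = 1 := by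
      rw [zpow_mul, hi, zpow_natCast, ← map_pow]
      exact (hq1 _).2 hfp'
    have h2 := orderOf_dvd_iff_zpow_eq_one.2 h1
    rw [hk, show p ^ k = p ^ (k - r) * p ^ r by rw [← pow_add, show k - r + r = k by omega],
      Nat.cast_mul, mul_dvd_mul_iff_right (by exact_mod_cast (pow_pos (Fact.out : p.Prime).pos r).ne')] at h2
    obtain ⟨d, rfl⟩ := h2
    rw [← hi, zpow_mul, zpow_natCast]
    exact Subgroup.zpow_mem_zpowers _ d
  suffices h : ∀ r, r ≤ k → Good F p (R r) from hMeq ▸ h k le_rfl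
  intro r
  induction r with
  | zero => intro _; rw [hR0]; exact hL
  | succ r ih =>
    intro hr
    set w : S := ⟨x, hx⟩ ^ p ^ (k - (r + 1))
    have hw : q w = xb ^ p ^ (k - (r + 1)) := map_pow q _ _
    refine (ih (by omega)).step (hcl _ hr) ⟨hmono r, fun g hg y hy => ?_, (w : Ω),
      (hmem _ w).2 (hw ▸ Subgroup.mem_zpowers _), ?_, le_antisymm ?_ ?_⟩
    · haveI : ((R r).subgroupOf S).Normal :=
        ⟨fun a ha b => hnorm _ (hcl r (by omega)) b b.2 a ha⟩
      obtain ⟨y, hy', rfl⟩ := hy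
      set q' := QuotientGroup.mk' ((R r).subgroupOf S)
      have hq' : ∀ a : S, q' a = 1 ↔ (a : Ω) ∈ R r := fun a => QuotientGroup.eq_one_iff a
      have hstep : ∀ a : S, (a : Ω) ∈ R (r + 1) → ∃ i : ℤ, q' a = q' w ^ i := by
        intro a ha
        obtain ⟨i, hi⟩ := Subgroup.mem_zpowers_iff.1 ((hmem _ a).1 ha)
        refine ⟨i, ?_⟩
        rw [← mul_inv_eq_one, ← map_zpow, ← map_inv, ← map_mul, hq', hmem, map_mul, map_inv,
          map_zpow, hw, hi, mul_inv_cancel]
        exact one_mem _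
      have hwp : q' w ^ p = 1 := by
        rw [← map_pow, hq', hmem, map_pow, hw, ← pow_mul, ← pow_succ,
          show k - (r + 1) + 1 = k - r by omega]
        exact Subgroup.mem_zpowers _
      obtain ⟨a, ha⟩ := hstep (⟨g, hg⟩ * w * (⟨g, hg⟩)⁻¹)
        (hnorm _ (hcl _ hr) g hg _ ((hmem _ w).2 (hw ▸ Subgroup.mem_zpowers _)))
      rw [map_mul, map_mul, map_inv] at ha
      have hc : Commute (q' ⟨g, hg⟩) (q' w) :=
        commute_of_normal_zpowers (hS.to_quotient _) hwp ha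
      obtain ⟨i, hi⟩ := hstep y ⟨y, hy', rfl⟩
      have : q' (⟨g, hg⟩ * y * (⟨g, hg⟩)⁻¹ * y⁻¹) = 1 := by
        rw [map_mul, map_mul, map_mul, map_inv, map_inv, hi, (hc.zpow_right i).eq]
        group
      exact (hq' _).1 this
    · have := (hmem r (w ^ p)).2 (by
        rw [map_pow, hw, ← pow_mul, ← pow_succ, show k - (r + 1) + 1 = k - r by omega]
        exact Subgroup.mem_zpowers _)
      simpa using this
    · rintro _ ⟨y, hy, rfl⟩
      obtain ⟨i, hi⟩ := Subgroup.mem_zpowers_iff.1 hy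
      show (y : Ω) ∈ R r ⊔ Subgroup.zpowers (w : Ω)
      rw [show (y : Ω) = ((y * (w ^ i)⁻¹ : S) : Ω) * (w : Ω) ^ i by simp]
      exact Subgroup.mul_mem_sup ((hmem r _).2 (by
        rw [map_mul, map_inv, map_zpow, hw, hi, mul_inv_cancel]; exact one_mem _))
        (Subgroup.zpow_mem_zpowers _ i)
    · exact sup_le (hmono r) (Subgroup.zpowers_le.2 ((hmem _ w).2 (hw ▸ Subgroup.mem_zpowers _)))

/-- A strongly closed series with cyclic quotients gives a central series with steps of order `p`. -/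
theorem good_of_chain {F : FusionSystem S} (hS : IsPGroup p S) {m : ℕ} {c : Fin (m + 1) → Subgroup Ω}
    (h0 : c 0 = ⊥) (hlast : c (Fin.last m) = S) (hcl : ∀ i, F.StronglyClosed (c i))
    (hstep : ∀ i : Fin m, c i.castSucc ≤ c i.succ ∧
      ∃ x ∈ S, c i.succ = c i.castSucc ⊔ Subgroup.zpowers x) : Good F p S := by
  suffices h : ∀ i, Good F p (c i) from hlast ▸ h (Fin.last m)
  intro i
  induction i using Fin.induction with
  | zero => rw [h0]; exact Good.bot
  | succ i ih =>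
    obtain ⟨-, x, hx, he⟩ := hstep i
    exact ih.extend hS (hcl _) (hcl _) hx he

/-- If every saturated system has such a series, `p'`-groups of automorphisms are abelian of exponent
dividing `p - 1`. -/
theorem aut_of_good (hS : IsPGroup p S)
    (hgood : ∀ F : FusionSystem S, F.IsSaturated p → Good F p S)
    (H : Subgroup (MulAut S)) (hH : (Nat.card H).Coprime p) :
    IsMulCommutative H ∧ ∀ h ∈ H, h ^ (p - 1) = 1 := by
  have := finite_mulAut S
  haveI : (autInducedBy S S).Normal := inn_eq_autInducedBy S ▸ Cfsg.innNormal S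
  set A := H ⊔ autInducedBy S S
  have hinn : autInducedBy S S ≤ A := le_sup_right
  have hsat := isSaturated_autSystem A hinn hS (fun hd => by
    have h1 : ((autInducedBy S S).subgroupOf A).index ∣ Nat.card H := by
      show (autInducedBy S S).relIndex A ∣ _
      rw [Subgroup.relIndex_sup_right]
      exact Subgroup.index_dvd_card _
    exact (Fact.out : p.Prime).coprime_iff_not_dvd.1 hH.symm (hd.trans h1))
  obtain ⟨n, Qs, h0, hn, hcl, hst⟩ := (hgood _ hsat).series
  let L : ℕ → Subgroup S := fun i => if i ≤ n then (Qs i).subgroupOf S else ⊤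
  have hLle : ∀ i, i ≤ n → L i = (Qs i).subgroupOf S := fun i hi => if_pos hi
  have hpres : ∀ α ∈ A, ∀ i, i ≤ n → ∀ x ∈ L i, α x ∈ L i := by
    intro α hα i hi x hx
    rw [hLle i hi] at hx ⊢
    exact autFun_mem_of_stronglyClosed A hinn (hcl i hi) hα hx
  let K : Subgroup (MulAut S) :=
    { carrier := {α | α ∈ A ∧ ∀ i < n, ∀ x ∈ L (i + 1), x⁻¹ * α x ∈ L i}
      one_mem' := ⟨Subgroup.one_mem _, fun i _ x _ => by
        rw [MulAut.one_apply, inv_mul_cancel]; exact Subgroup.one_mem _⟩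
      mul_mem' := by
        rintro a b ⟨ha, ha'⟩ ⟨hb, hb'⟩
        refine ⟨Subgroup.mul_mem _ ha hb, fun i hi x hx => ?_⟩
        rw [MulAut.mul_apply, show x⁻¹ * a (b x) = (x⁻¹ * b x) * ((b x)⁻¹ * a (b x)) by group]
        exact Subgroup.mul_mem _ (hb' i hi x hx) (ha' i hi _ (hpres b hb _ hi x hx))
      inv_mem' := by
        rintro a ⟨ha, ha'⟩
        refine ⟨Subgroup.inv_mem _ ha, fun i hi x hx => ?_⟩
        have hy := hpres _ (Subgroup.inv_mem _ ha) _ hi x hx
        have := Subgroup.inv_mem _ (ha' i hi _ hy)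
        rwa [MulAut.apply_inv_self, mul_inv_rev, inv_inv] at this }
  have hKp : IsPGroup p K := isPGroup_of_stabilizes_series hS L n
    (by rw [hLle 0 (Nat.zero_le _), h0, Subgroup.bot_subgroupOf])
    (by rw [hLle n le_rfl, hn, Subgroup.subgroupOf_self]) K fun α hα => hα.2
  have htriv : ∀ w ∈ H, w ∈ K → w = 1 := by
    intro w hwH hwK
    obtain ⟨b, hb⟩ := hKp ⟨w, hwK⟩
    have h1 : orderOf w ∣ Nat.gcd (Nat.card H) (p ^ b) :=
      Nat.dvd_gcd (H.orderOf_dvd_natCard hwH) (orderOf_dvd_of_pow_eq_one (congrArg Subtype.val hb))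
    rw [(hH.pow_right b).gcd_eq_one, Nat.dvd_one, orderOf_eq_one_iff] at h1
    exact h1
  -- the action on a step
  have hscalar : ∀ i < n, L (i + 1) = L i ∨ ∀ h ∈ A, ∃ a : ℤ, (a : ZMod p) ≠ 0 ∧
      ∀ y ∈ L (i + 1), h y * (y ^ a)⁻¹ ∈ L i ∧ y ^ p ∈ L i := by
    intro i hi
    obtain ⟨hle, hcomm, z, hz, hzp, he⟩ := hst i hi
    rw [hLle i hi.le, hLle (i + 1) hi]
    by_cases hzL : z ∈ Qs i
    · exact .inl (by rw [he, sup_eq_left.2 (Subgroup.zpowers_le.2 hzL)])
    refine .inr fun h hh => ?_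
    set T := (Qs i).subgroupOf S
    haveI : T.Normal := ⟨fun y hy g =>
      isMap_mem_of_stronglyClosed (hcl i hi.le) (isMap_conj le_rfl g.2) y.2 hy⟩
    set q := QuotientGroup.mk' T
    have hq1 : ∀ y : S, q y = 1 ↔ y ∈ T := fun y => QuotientGroup.eq_one_iff y
    set w : S := ⟨z, (hcl _ hi).1 hz⟩
    have hgen : ∀ y ∈ (Qs (i + 1)).subgroupOf S, ∃ j : ℤ, q y = q w ^ j := by
      intro y hy
      have h' : Qs (i + 1) ≤ (T ⊔ Subgroup.zpowers w).map S.subtype := by
        rw [he, Subgroup.map_sup, Subgroup.map_subgroupOf_eq_of_le (hcl i hi.le).1,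
          MonoidHom.map_zpowers]
        exact le_rfl
      obtain ⟨y', hy', e⟩ := h' (Subgroup.mem_subgroupOf.1 hy)
      obtain rfl : y' = y := Subtype.ext e
      have := Subgroup.mem_map_of_mem q hy'
      rw [Subgroup.map_sup, MonoidHom.map_zpowers, QuotientGroup.map_mk'_self, bot_sup_eq] at this
      obtain ⟨j, hj⟩ := Subgroup.mem_zpowers_iff.1 this
      exact ⟨j, hj.symm⟩
    have hwp : q w ^ p = 1 := by
      rw [← map_pow, hq1]
      exact Subgroup.mem_subgroupOf.2 (by simpa using hzp)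
    have hTinv : ∀ α ∈ A, ∀ y ∈ T, α y ∈ T := fun α hα y hy => by
      have := hpres α hα i hi.le y (by rwa [hLle i hi.le])
      rwa [hLle i hi.le] at this
    obtain ⟨a, ha⟩ := hgen (h w) (by
      have := hpres h hh (i + 1) hi w (by rw [hLle (i + 1) hi]; exact hz)
      rwa [hLle (i + 1) hi] at this)
    refine ⟨a, fun ha0 => hzL ?_, fun y hy => ?_⟩
    · obtain ⟨d, rfl⟩ := (ZMod.intCast_zmod_eq_zero_iff_dvd a p).1 ha0
      rw [zpow_mul, zpow_natCast, hwp, one_zpow, hq1] at ha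
      have := hTinv _ (A.inv_mem hh) _ ha
      rwa [MulAut.inv_apply_self] at this
    · obtain ⟨j, hj⟩ := hgen y hy
      have hy' : y * (w ^ j)⁻¹ ∈ T := by rw [← hq1, map_mul, map_inv, map_zpow, hj, mul_inv_cancel]
      have h1 := (hq1 _).2 (hTinv h hh _ hy')
      rw [map_mul, map_inv, map_zpow, map_mul, map_inv, map_zpow, ha, mul_inv_eq_one] at h1
      refine ⟨?_, ?_⟩
      · rw [← hq1, map_mul, map_inv, map_zpow, h1, hj, ← zpow_mul, ← zpow_mul, mul_comm a j,
          mul_inv_cancel]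
      · rw [← hq1, map_pow, hj, ← zpow_natCast, ← zpow_mul, mul_comm, zpow_mul, zpow_natCast, hwp,
          one_zpow]
  have hpow : ∀ h ∈ H, h ^ (p - 1) ∈ K := by
    intro h hh
    have hhA : h ∈ A := Subgroup.mem_sup_left hh
    refine ⟨A.pow_mem hhA _, fun i hi x hx => ?_⟩
    rcases hscalar i hi with he | hs
    · rw [← he]
      exact mul_mem (inv_mem hx) (hpres _ (A.pow_mem hhA _) _ hi x hx)
    obtain ⟨a, ha0, hy⟩ := hs h hhA
    haveI : (L i).Normal := by
      rw [hLle i hi.le]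
      exact ⟨fun y hy g => isMap_mem_of_stronglyClosed (hcl i hi.le) (isMap_conj le_rfl g.2) y.2 hy⟩
    set q := QuotientGroup.mk' (L i)
    have hq1 : ∀ y : S, q y = 1 ↔ y ∈ L i := fun y => QuotientGroup.eq_one_iff y
    have hn' : ∀ m : ℕ, q ((h ^ m) x) = q x ^ (a ^ m) := by
      intro m
      induction m with
      | zero => simp
      | succ m ihm =>
        have h1 := (hq1 _).2 (hy _ (hpres _ (A.pow_mem hhA m) _ hi x hx)).1
        rw [map_mul, map_inv, map_zpow, mul_inv_eq_one, ihm, ← zpow_mul] at h1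
        rw [pow_succ', MulAut.mul_apply, h1, pow_succ]
    rw [← hq1, map_mul, map_inv, hn', zpow_eq_self (p := p), inv_mul_cancel]
    · rw [← map_pow, hq1]
      exact (hy x hx).2
    · rw [Int.cast_pow]
      exact ZMod.pow_card_sub_one_eq_one ha0
  refine ⟨⟨⟨fun ⟨g, hg⟩ ⟨h, hh⟩ => Subtype.ext ?_⟩⟩, fun h hh => htriv _ (H.pow_mem hh _) (hpow h hh)⟩
  show g * h = h * g
  have hgA : g ∈ A := Subgroup.mem_sup_left hg
  have hhA : h ∈ A := Subgroup.mem_sup_left hh
  suffices hk : g * h * g⁻¹ * h⁻¹ ∈ K by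
    have := htriv _ (H.mul_mem (H.mul_mem (H.mul_mem hg hh) (H.inv_mem hg)) (H.inv_mem hh)) hk
    rwa [mul_inv_eq_one, mul_inv_eq_iff_eq_mul] at this
  refine ⟨A.mul_mem (A.mul_mem (A.mul_mem hgA hhA) (A.inv_mem hgA)) (A.inv_mem hhA),
    fun i hi x hx => ?_⟩
  rcases hscalar i hi with he | hs
  · rw [← he]
    exact mul_mem (inv_mem hx) (hpres _ (A.mul_mem (A.mul_mem (A.mul_mem hgA hhA) (A.inv_mem hgA))
      (A.inv_mem hhA)) _ hi x hx)
  obtain ⟨a, -, ha⟩ := hs g hgA
  obtain ⟨b, -, hb⟩ := hs h hhA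
  haveI : (L i).Normal := by
    rw [hLle i hi.le]
    exact ⟨fun y hy g => isMap_mem_of_stronglyClosed (hcl i hi.le) (isMap_conj le_rfl g.2) y.2 hy⟩
  set q := QuotientGroup.mk' (L i)
  have hq1 : ∀ y : S, q y = 1 ↔ y ∈ L i := fun y => QuotientGroup.eq_one_iff y
  have hA' : ∀ y ∈ L (i + 1), q (g y) = q y ^ a := fun y hy => by
    have := (hq1 _).2 (ha y hy).1
    rwa [map_mul, map_inv, map_zpow, mul_inv_eq_one] at this
  have hB' : ∀ y ∈ L (i + 1), q (h y) = q y ^ b := fun y hy => by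
    have := (hq1 _).2 (hb y hy).1
    rwa [map_mul, map_inv, map_zpow, mul_inv_eq_one] at this
  set y := g⁻¹ (h⁻¹ x) with hy
  have hyL : y ∈ L (i + 1) :=
    hpres _ (A.inv_mem hgA) _ hi _ (hpres _ (A.inv_mem hhA) _ hi x hx)
  have e1 : (g * h * g⁻¹ * h⁻¹) x = g (h y) := rfl
  have e2 : x = h (g y) := by simp [hy]
  rw [← hq1, map_mul, map_inv, e1, e2, hA' _ (hpres h hhA _ hi y hyL), hB' y hyL,
    hB' _ (hpres g hgA _ hi y hyL), hA' y hyL, ← zpow_mul, ← zpow_mul, mul_comm a b, inv_mul_cancel]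

open scoped BigOperators in
/-- An endomorphism of period `p - 1` of a module of exponent `p` has an eigenvector. -/
theorem exists_eigen {V : Type*} [AddCommGroup V] (hexp : ∀ v : V, p • v = 0) (e : V →+ V)
    (he : ∀ v, e^[p - 1] v = v) {v : V} (hv : v ≠ 0) :
    ∃ (c : ℕ) (u : V), u ≠ 0 ∧ e u = c • u := by
  classical
  have hp := (Fact.out : p.Prime)
  haveI : Module (ZMod p) V := AddCommGroup.zmodModule hexp
  set n := p - 1 with hn
  let f : (ZMod p)ˣ → ℕ → V := fun c i => ((c⁻¹ : (ZMod p)ˣ) : ZMod p) ^ i • e^[i] v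
  have hfn : ∀ c, f c n = f c 0 := fun c => by
    simp only [f, he, hn, pow_zero, Function.iterate_zero_apply]
    rw [ZMod.pow_card_sub_one_eq_one (Units.ne_zero _), he]
  have hshift : ∀ c, e (∑ i ∈ Finset.range n, f c i) = (c : ZMod p) • ∑ i ∈ Finset.range n, f c i := by
    intro c
    have hstep : ∀ i, e (f c i) = (c : ZMod p) • f c (i + 1) := fun i => by
      simp only [f]
      rw [ZMod.map_smul e, smul_smul, pow_succ', ← mul_assoc, Units.mul_inv, one_mul,
        Function.iterate_succ_apply']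
    rw [map_sum, Finset.sum_congr rfl fun i _ => hstep i, ← Finset.smul_sum]
    congr 1
    have h1 := Finset.sum_range_succ (f c) n
    rw [Finset.sum_range_succ', hfn] at h1
    exact add_right_cancel h1
  by_contra hall
  push Not at hall
  have hzero : ∀ c : (ZMod p)ˣ, ∑ i ∈ Finset.range n, f c i = 0 := by
    intro c
    by_contra h
    refine hall ((c : ZMod p).val) _ h ?_
    rw [hshift, ← Nat.cast_smul_eq_nsmul (ZMod p), ZMod.natCast_zmod_val]
  have hsum : ∑ c : (ZMod p)ˣ, ∑ i ∈ Finset.range n, f c i = -v := by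
    rw [Finset.sum_comm]
    simp only [f, ← Finset.sum_smul]
    have hs : ∀ i, ∑ c : (ZMod p)ˣ, ((c⁻¹ : (ZMod p)ˣ) : ZMod p) ^ i =
        if n ∣ i then -1 else 0 := by
      intro i
      refine (Equiv.sum_comp (Equiv.inv (ZMod p)ˣ) (fun c : (ZMod p)ˣ => (c : ZMod p) ^ i)).trans ?_
      rw [FiniteField.sum_pow_units, ZMod.card]
    simp only [hs]
    have h0 : 0 ∈ Finset.range n := Finset.mem_range.2 (by have := hp.two_le; omega)
    rw [Finset.sum_eq_single_of_mem 0 h0 fun i hi hi0 => by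
      rw [if_neg (fun hd => absurd (Nat.le_of_dvd (Nat.pos_of_ne_zero hi0) hd)
        (not_le.2 (Finset.mem_range.1 hi))), zero_smul]]
    simp
  rw [Finset.sum_congr rfl fun c _ => hzero c, Finset.sum_const_zero] at hsum
  exact hv (neg_eq_zero.1 hsum.symm)

omit [Finite S] in
/-- An invariant proper subgroup extends by a cyclic step. -/
theorem exists_step [Finite S] (hS : IsPGroup p S) (H : Subgroup (MulAut S))
    (hc : IsMulCommutative H) (hexp : ∀ h ∈ H, h ^ (p - 1) = 1) {T : Subgroup S} [T.Normal]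
    (hT : ∀ α ∈ H, ∀ x ∈ T, α x ∈ T) (hne : T ≠ ⊤) :
    ∃ x, x ∉ T ∧ (T ⊔ Subgroup.zpowers x).Normal ∧
      ∀ α ∈ H, ∀ y ∈ T ⊔ Subgroup.zpowers x, α y ∈ T ⊔ Subgroup.zpowers x := by
  classical
  have hp := (Fact.out : p.Prime)
  set q := QuotientGroup.mk' T
  have hQ : IsPGroup p (S ⧸ T) := hS.to_quotient T
  let ρ : H → (S ⧸ T →* S ⧸ T) := fun h =>
    QuotientGroup.map T T (h : MulAut S).toMonoidHom (fun x hx => hT h h.2 x hx)
  have hρ : ∀ (h : H) (x : S), ρ h (q x) = q ((h : MulAut S) x) := fun h x => rfl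
  have hρmul : ∀ (g h : H) (z : S ⧸ T), ρ (g * h) z = ρ g (ρ h z) := by
    intro g h z
    obtain ⟨x, rfl⟩ := QuotientGroup.mk'_surjective T z
    rfl
  have hρinv : ∀ (h : H) (z : S ⧸ T), ρ h (ρ h⁻¹ z) = z := by
    intro h z
    obtain ⟨x, rfl⟩ := QuotientGroup.mk'_surjective T z
    rw [hρ, hρ]
    exact congrArg q (MulAut.apply_inv_self _ (h : MulAut S) x)
  let W0 : Subgroup (S ⧸ T) :=
    { carrier := {z | z ∈ Subgroup.center (S ⧸ T) ∧ z ^ p = 1}
      one_mem' := ⟨one_mem _, one_pow p⟩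
      mul_mem' := fun {a b} ha hb => ⟨mul_mem ha.1 hb.1, by
        rw [(show Commute a b from ((Subgroup.mem_center_iff.1 ha.1) b).symm).mul_pow, ha.2, hb.2, one_mul]⟩
      inv_mem' := fun {a} ha => ⟨inv_mem ha.1, by rw [inv_pow, ha.2, inv_one]⟩ }
  have hW0 : ∀ (h : H), ∀ z ∈ W0, ρ h z ∈ W0 := by
    intro h z hz
    refine ⟨Subgroup.mem_center_iff.2 fun u => ?_, by rw [← map_pow, hz.2, map_one]⟩
    rw [← hρinv h u, ← map_mul, ← map_mul, (Subgroup.mem_center_iff.1 hz.1) _]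
  obtain ⟨z0, hz0, hz01⟩ : ∃ z ∈ W0, z ≠ 1 := by
    haveI : Nontrivial (S ⧸ T) := QuotientGroup.nontrivial_iff.2 hne
    haveI := hQ.center_nontrivial
    obtain ⟨m, hm⟩ := (hQ.to_subgroup (Subgroup.center (S ⧸ T))).exists_card_eq
    obtain ⟨z, hz⟩ := exists_prime_orderOf_dvd_card' (G := Subgroup.center (S ⧸ T)) p (by
      rw [hm]
      refine dvd_pow_self p fun h => ?_
      rw [h, pow_zero] at hm
      exact Finite.one_lt_card.ne' hm)
    refine ⟨z, ⟨z.2, ?_⟩, fun h => ?_⟩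
    · rw [← Subgroup.coe_pow, orderOf_dvd_iff_pow_eq_one.1 (dvd_of_eq hz), Subgroup.coe_one]
    · rw [show z = 1 from Subtype.ext h, orderOf_one] at hz
      exact hp.one_lt.ne hz
  obtain ⟨W, ⟨hWle, hWinv, hWne⟩, hWmin⟩ := Set.Finite.exists_minimalFor id
    {W : Subgroup (S ⧸ T) | W ≤ W0 ∧ (∀ h : H, ∀ z ∈ W, ρ h z ∈ W) ∧ W ≠ ⊥} (Set.toFinite _)
    ⟨W0, le_rfl, hW0, fun h => hz01 (by rwa [h, Subgroup.mem_bot] at hz0)⟩
  have hscalar : ∀ h : H, ∃ c : ℕ, ∀ z ∈ W, ρ h z = z ^ c := by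
    intro h
    letI : CommGroup W := { (inferInstance : Group W) with
      mul_comm := fun a b => Subtype.ext ((Subgroup.mem_center_iff.1 (hWle a.2).1) b).symm }
    let e : W →* W := MonoidHom.mk' (fun z : W => (⟨ρ h (z : S ⧸ T), hWinv h z z.2⟩ : W))
      fun a b => Subtype.ext (map_mul (ρ h) (a : S ⧸ T) (b : S ⧸ T))
    have hpow : ∀ (m : ℕ) (z : W), ((e^[m] z : W) : S ⧸ T) = ρ (h ^ m) z := by
      intro m
      induction m with
      | zero =>
        intro z
        obtain ⟨x, hx⟩ := QuotientGroup.mk'_surjective T (z : S ⧸ T)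
        rw [Function.iterate_zero_apply, pow_zero, ← hx, hρ]
        rfl
      | succ m ih =>
        intro z
        rw [Function.iterate_succ_apply', pow_succ', hρmul, ← ih z]
        rfl
    obtain ⟨w, hwne⟩ : ∃ w : W, w ≠ 1 := by
      haveI := (Subgroup.nontrivial_iff_ne_bot W).2 hWne
      exact exists_ne 1
    have heq : ∀ z : W, e^[p - 1] z = z := fun z => Subtype.ext (by
      rw [hpow, show h ^ (p - 1) = 1 from Subtype.ext (hexp h h.2)]
      obtain ⟨x, hx⟩ := QuotientGroup.mk'_surjective T (z : S ⧸ T)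
      rw [← hx, hρ]
      rfl)
    obtain ⟨c, u, hu, hcu⟩ := exists_eigen (p := p) (V := Additive W)
      (fun z => Additive.toMul.injective (Subtype.ext (hWle (Additive.toMul z).2).2))
      e.toAdditive (fun z => Additive.toMul.injective (by
        have : ∀ m, Additive.toMul ((e.toAdditive)^[m] z) = e^[m] (Additive.toMul z) := by
          intro m
          induction m with
          | zero => rfl
          | succ m ih => rw [Function.iterate_succ_apply', Function.iterate_succ_apply', ← ih]; rfl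
        rw [this, heq]))
      (v := Additive.ofMul w) (fun e' => hwne (Additive.ofMul.injective e'))
    refine ⟨c, fun z hz => ?_⟩
    let U : Subgroup (S ⧸ T) :=
      { carrier := {z | z ∈ W ∧ ρ h z = z ^ c}
        one_mem' := ⟨one_mem _, by rw [map_one, one_pow]⟩
        mul_mem' := fun {a b} ha hb => ⟨mul_mem ha.1 hb.1, by
          rw [map_mul, ha.2, hb.2,
            (show Commute a b from ((Subgroup.mem_center_iff.1 (hWle ha.1).1) b).symm).mul_pow]⟩
        inv_mem' := fun {a} ha => ⟨inv_mem ha.1, by rw [map_inv, ha.2, inv_pow]⟩ }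
    have hU : W ≤ U := by
      refine hWmin (j := U) ⟨fun z hz => hWle hz.1, fun g z hz => ⟨hWinv g z hz.1, ?_⟩, fun hb => hu ?_⟩
        (fun z hz => hz.1)
      · rw [← hρmul, hc.is_comm.comm h g, hρmul, hz.2, map_pow]
      · have h2 : ((Additive.toMul u : W) : S ⧸ T) ∈ U :=
          ⟨(Additive.toMul u).2, congrArg (fun z => ((Additive.toMul z : W) : S ⧸ T)) hcu⟩
        rw [hb, Subgroup.mem_bot] at h2
        exact Additive.toMul.injective (Subtype.ext h2)
    exact (hU hz).2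
  obtain ⟨z, hz, hz1⟩ : ∃ z ∈ W, z ≠ 1 := by
    by_contra h
    push Not at h
    exact hWne ((Subgroup.eq_bot_iff_forall W).2 h)
  obtain ⟨x, rfl⟩ := QuotientGroup.mk'_surjective T z
  have hT' : T ⊔ Subgroup.zpowers x = (Subgroup.zpowers (q x)).comap q := by
    rw [← MonoidHom.map_zpowers, Subgroup.comap_map_eq, QuotientGroup.ker_mk', sup_comm]
  refine ⟨x, fun h => hz1 ((QuotientGroup.eq_one_iff x).2 h), ?_, fun α hα y hy => ?_⟩
  · rw [hT']
    refine Subgroup.Normal.comap ⟨fun u hu g => ?_⟩ q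
    obtain ⟨i, rfl⟩ := Subgroup.mem_zpowers_iff.1 hu
    rw [((Subgroup.mem_center_iff.1 ((Subgroup.center _).zpow_mem (hWle hz).1 i)) g),
      mul_inv_cancel_right]
    exact Subgroup.zpow_mem_zpowers _ i
  · rw [hT', Subgroup.mem_comap] at hy ⊢
    obtain ⟨i, hi⟩ := Subgroup.mem_zpowers_iff.1 hy
    obtain ⟨c, hcc⟩ := hscalar ⟨α, hα⟩
    have h1 : q (α y) = ρ ⟨α, hα⟩ (q y) := rfl
    rw [h1, ← hi, map_zpow, hcc _ hz]
    exact zpow_mem (Subgroup.npow_mem_zpowers _ _) i

/-- Resistance and small automorphism groups give the series. -/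
theorem exists_chain (hS : IsPGroup p S) {F : FusionSystem S} (hF : F.IsSaturated p)
    (hN : F.IsNormal S) (haut : ∀ H : Subgroup (MulAut S), (Nat.card H).Coprime p →
      IsMulCommutative H ∧ ∀ h ∈ H, h ^ (p - 1) = 1) :
    ∃ (m : ℕ) (c : Fin (m + 1) → Subgroup Ω), c 0 = ⊥ ∧ c (Fin.last m) = S ∧
      (∀ i, F.StronglyClosed (c i)) ∧ ∀ i : Fin m, c i.castSucc ≤ c i.succ ∧
        ∃ x ∈ S, c i.succ = c i.castSucc ⊔ Subgroup.zpowers x := by
  have := finite_mulAut S
  set A := F.autGroup S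
  obtain ⟨-, R, hR⟩ := ((isSaturated_iff_top_automized_receptive hS).1 hF).1
  set N := (autInducedBy S S).subgroupOf A
  haveI : N.Normal := by
    have := inn_subgroupOf_normal F S
    rwa [inn_eq_autInducedBy] at this
  have hidx : ¬ p ∣ N.index := hR ▸ R.not_dvd_index
  have hcop : (Nat.card N).Coprime N.index := by
    obtain ⟨m, hm⟩ := (hR ▸ R.2 : IsPGroup p N).exists_card_eq
    rw [hm]
    exact ((Fact.out : p.Prime).coprime_iff_not_dvd.2 hidx).pow_left m
  obtain ⟨K, hK⟩ := Subgroup.exists_right_complement'_of_coprime hcop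
  set H := K.map A.subtype
  have hHcop : (Nat.card H).Coprime p := by
    rw [Subgroup.card_map_of_injective A.subtype_injective, ← hK.symm.index_eq_card]
    exact ((Fact.out : p.Prime).coprime_iff_not_dvd.2 hidx).symm
  obtain ⟨hc, hexp⟩ := haut H hHcop
  let Inv : Subgroup S → Prop := fun T => T.Normal ∧ ∀ α ∈ H, ∀ x ∈ T, α x ∈ T
  have key : ∀ T : Subgroup S, Inv T → ∃ (m : ℕ) (c : ℕ → Subgroup S), c 0 = T ∧ c m = ⊤ ∧
      (∀ i ≤ m, Inv (c i)) ∧ ∀ i < m, ∃ x, c (i + 1) = c i ⊔ Subgroup.zpowers x := by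
    intro T
    induction T using (wellFounded_gt (α := Subgroup S)).induction with
    | h T ih =>
      intro hT
      by_cases htop : T = ⊤
      · exact ⟨0, fun _ => T, rfl, htop, fun _ _ => hT, fun i hi => absurd hi (Nat.not_lt_zero i)⟩
      haveI := hT.1
      obtain ⟨x, hx, hn', hinv'⟩ := exists_step hS H hc hexp hT.2 htop
      obtain ⟨m, c, h0, hm, hci, hcs⟩ := ih _ (lt_of_le_of_ne le_sup_left
        (fun e => hx (e ▸ Subgroup.mem_sup_right (Subgroup.mem_zpowers x)))) ⟨hn', hinv'⟩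
      refine ⟨m + 1, fun i => if i = 0 then T else c (i - 1), by simp, by simpa using hm,
        fun i hi => ?_, fun i hi => ?_⟩
      · rcases i with _ | i
        · simpa using hT
        · simpa using hci i (by omega)
      · rcases i with _ | i
        · exact ⟨x, by simpa using h0⟩
        · obtain ⟨y, hy⟩ := hcs i (by omega)
          exact ⟨y, by simpa using hy⟩
  obtain ⟨m, c, h0, hm, hci, hcs⟩ := key ⊥ ⟨inferInstance, fun α _ x hx => by simp_all⟩
  have hinvA : ∀ T, Inv T → ∀ α ∈ A, ∀ x ∈ T, α x ∈ T := by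
    intro T hT α hα x hx
    obtain ⟨⟨a, k⟩, hak⟩ := hK.2 ⟨α, hα⟩
    have hv : α = ((a : A) : MulAut S) * ((k : A) : MulAut S) := (congrArg Subtype.val hak).symm
    obtain ⟨g, hg, hgv⟩ := (mem_autInducedBy_iff S S ((a : A) : MulAut S)).1 a.2
    have h1 := hT.2 _ (Subgroup.mem_map_of_mem A.subtype k.2) x hx
    rw [hv, MulAut.mul_apply]
    have h2 : ((a : A) : MulAut S) (((k : A) : MulAut S) x) =
        ⟨g, hg⟩ * ((k : A) : MulAut S) x * ⟨g, hg⟩⁻¹ := Subtype.ext (hgv _)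
    rw [h2]
    exact hT.1.conj_mem _ h1 _
  refine ⟨m, fun i => (c i).map S.subtype, ?_, ?_, fun i => ?_, fun i => ?_⟩
  · simp [h0]
  · simp [hm, ← MonoidHom.range_eq_map]
  · refine stronglyClosed_iff.2 ⟨Subgroup.map_subtype_le _, fun P f hf x hx hxT => ?_⟩
    obtain ⟨y, hy, rfl⟩ := hxT
    obtain ⟨g, hg, hag, hgS⟩ := (isNormal_iff.1 hN).2 P f hf
    obtain ⟨α, hα, hαv⟩ := exists_mem_autGroup (F := F) (f := g) ⟨hg.mono le_sup_right, hgS⟩
    exact ⟨α y, hinvA _ (hci i (Nat.lt_succ_iff.1 i.2)) α hα y hy, (hαv y).trans (hag _ hx)⟩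
  · obtain ⟨x, hx⟩ := hcs i i.2
    simp only [Fin.val_castSucc, Fin.val_succ]
    rw [hx, Subgroup.map_sup, MonoidHom.map_zpowers]
    exact ⟨le_sup_left, x, x.2, rfl⟩

end CfsgLib.Fusion.SupersolubleType
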