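import Cfsg.Agent.Lib.Fusion.SupplementSystem

/-!
The key step for the saturation of the product: elements of `T` normalising a suitable image of a
normaliser lie in it.
-/

set_option autoImplicit false
set_option linter.unusedSectionVars false
set_option linter.style.haveILetI false

namespace CfsgLib.Fusion.Supplement

open Cfsg Cfsg.FusionSystem
open CfsgLib.Fusion.NormalCentralizer

variable {Ω : Type*} [Group Ω] {S T R : Subgroup Ω} {F : FusionSystem S} {E : FusionSystem T}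
variable {p : ℕ} [Fact p.Prime] [Finite S]

/-- A group not inside `M` that `M` normalises has an element outside `M` normalising `M`. -/
theorem exists_moving (hS : IsPGroup p S) {M V : Subgroup Ω} (hM : M ≤ S) (hV : V ≤ S)
    (hMV : M ≤ Subgroup.normalizer (V : Set Ω)) (hne : ¬ V ≤ M) :
    ∃ t ∈ V, t ∈ Subgroup.normalizer (M : Set Ω) ∧ t ∉ M := by
  have hKS : V ⊔ M ≤ S := sup_le hV hM
  have := finite_of_le hKS
  have hlt := lt_normalizerIn (hS.to_le hKS) (le_sup_right : M ≤ V ⊔ M)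
    fun e => hne (le_sup_left.trans e.ge)
  obtain ⟨k, hk, hkM⟩ := SetLike.exists_of_lt hlt
  have hk' : k ∈ ((V ⊔ M : Subgroup Ω) : Set Ω) := hk.1
  rw [Subgroup.coe_mul_of_right_le_normalizer_left _ _ hMV] at hk'
  obtain ⟨v, hv, m, hm, rfl⟩ := hk'
  have hmn : m ∈ Subgroup.normalizer (M : Set Ω) := Subgroup.le_normalizer hm
  refine ⟨v, hv, ?_, fun h => hkM (M.mul_mem h hm)⟩
  have h1 := Subgroup.mul_mem _ hk.2 (Subgroup.inv_mem _ hmn)
  rwa [mul_inv_cancel_right] at h1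

namespace Setting

variable (h : Setting F p E R)

/-- The subgroups larger than `Q` with centric trace are under control. -/
def Big (Q : Subgroup Ω) : Prop :=
  ∀ M : Subgroup Ω, M ≤ R → E.IsCentric (M ⊓ T) → Nat.card Q < Nat.card M →
    (∃ M', h.sys.IsConj M M' ∧ h.sys.IsFullyAutomized p M' ∧ h.sys.IsReceptive M') ∧
      (h.sys.IsFullyNormalized M → TMax F T M)

include h

set_option maxHeartbeats 1000000 in
/-- The key step. -/
theorem absorb {Q : Subgroup Ω} (hQ : h.sys.IsFullyNormalized Q)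
    (hMc : E.IsCentric (normalizerIn R Q ⊓ T))
    (hlt : Nat.card Q < Nat.card (normalizerIn R Q)) (hbig : h.Big Q) {k : Ω → Ω}
    {M' Q' : Subgroup Ω} (hk : IsIso F (normalizerIn R Q) M' k) (hkQ : IsIso F Q Q' k)
    {t : Ω} (ht : t ∈ T) (htM : t ∈ Subgroup.normalizer (M' : Set Ω))
    (htQ : t ∈ Subgroup.normalizer (Q' : Set Ω)) : t ∈ M' := by
  have hI := h.inv
  have hTS := h.TS
  have hRp : IsPGroup p R := h.pgroup.to_le h.RS
  have : Finite R := finite_of_le h.RS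
  have hQR := hQ.1
  have hMR : normalizerIn R Q ≤ R := inf_le_left
  obtain ⟨⟨M₁, hM₁c, hM₁a, hM₁r⟩, -⟩ := hbig _ hMR hMc hlt
  have hM₁R := hM₁a.1
  have hM₁f := isFullyNormalized_of_automized_receptive hRp hM₁a hM₁r
  obtain ⟨k₁, hk₁⟩ := isConj_iff.1 hM₁c
  have hQM : Q ≤ normalizerIn R Q := le_normalizerIn hQR
  obtain ⟨X, hX⟩ := (hk₁.isMap.mono hQM).exists_iso
  obtain ⟨β, hβ, X', hX', hpl⟩ := SatExtend.exists_placed hRp hM₁a (X := X) fun y hy => by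
    obtain ⟨x, hx, rfl⟩ := hX.surj hy
    exact hk₁.mem (hQM hx)
  have := finite_of_le (hM₁R.trans h.RS)
  have := finite_of_le (hMR.trans h.RS)
  set ψ := autFun β ∘ k₁ with hψdef
  have hψ : IsIso h.sys (normalizerIn R Q) M₁ ψ :=
    hk₁.comp ((mem_autGroup_iff hM₁R β).1 hβ)
  have hψQ : IsIso h.sys Q X' ψ :=
    ⟨hψ.isMap.mono hQM, by rw [hψdef, Set.image_comp, hX.image_eq, hX']⟩
  have hX'M : X' ≤ M₁ := hpl.1
  have hNX : normalizerIn R X' = M₁ := by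
    have : Finite ↥(normalizerIn R X') := finite_of_le (S := R) inf_le_left
    refine (Subgroup.eq_of_le_of_card_ge (fun y hy => ?_) ?_).symm
    · obtain ⟨m, hm, rfl⟩ := hψ.surj hy
      exact hψ.isMap.mem_normalizerIn hQM hψQ hm hm.2
    · rw [hψ.card_eq]
      exact hQ.2 X' hψQ.isConj
  have hM₁E : E.IsCentric (M₁ ⊓ T) := (h.genData.conj ⟨hMR, hMc⟩ hψ.isConj).2
  have hM₁T : TMax F T M₁ := (hbig M₁ hM₁R hM₁E (hψ.card_eq.symm ▸ hlt)).2 hM₁f
  -- the fully normalised target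
  obtain ⟨P', h₁, hh₁, hh₁i, hh₁N, hfn, -, honto⟩ := hM₁T.exists_pair h.pgroup h.sat hI
  have hψF := hψ.of_subsystem h.sub
  obtain ⟨g, hg, hgi, hgN, -⟩ := exists_map_normalizerIn h.pgroup
    (isFullyAutomized_of_isFullyNormalized h.pgroup h.sat hfn)
    (isReceptive_of_isFullyNormalized h.pgroup h.sat hfn)
    (isConj_trans (isConj_trans (isConj_symm hk.isConj) hψF.isConj) hh₁i.isConj)
  obtain ⟨r₀, hr₀, hr₀1, -⟩ := hk.exists_symm
  obtain ⟨gi, hgii, hgi1, -⟩ := hgi.exists_symm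
  obtain ⟨ψi, hψi, hψi1, hψi2⟩ := hψF.exists_symm
  have hM'S := hk.le_right
  have := finite_of_le hM'S
  have := finite_of_le hfn.1
  have := finite_mulAut P'
  have := finite_mulAut M₁
  have htS := hTS ht
  have hct : IsIso F M' M' (fun z => t * z * t⁻¹) :=
    (isMap_conj hM'S htS).isIso_of_card_le (fun z hz => conj_mem_of_mem_normalizer htM hz) le_rfl
  obtain ⟨δ₁, hδ₁, hδ₁v⟩ :=
    exists_mem_autGroup ((((hψi.comp hk).comp hct).comp hr₀).comp hψF)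
  obtain ⟨a, ha, hav⟩ := exists_mem_autGroup (((hgii.comp hr₀).comp hψF).comp hh₁i)
  have hM'N : ∀ z ∈ M', z ∈ normalizerIn S M' := fun z hz => le_normalizerIn hM'S hz
  have htN : t ∈ normalizerIn S M' := ⟨htS, htM⟩
  have hgt : g t ∈ normalizerIn S P' := hgN t htN
  set c := conjAut P' hgt.2
  have hcT : c ∈ autInducedBy T P' :=
    conjAut_mem_autInducedBy _ (isMap_mem_of_stronglyClosed hI.2.1 hg htN ht)
  -- the value of `a`
  have hag : ∀ w ∈ M', autFun a (g w) = h₁ (ψ (r₀ w)) := fun w hw => by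
    rw [autFun_apply a (hgi.mem hw), hav]
    show h₁ (ψ (r₀ (gi (g w)))) = _
    rw [hgi1 w hw]
  have hkey : MulAut.congr hh₁i.equiv δ₁ = a * c * a⁻¹ := by
    refine MulEquiv.ext fun z => Subtype.ext ?_
    obtain ⟨y, rfl⟩ := hh₁i.equiv.surjective z
    set w := k (ψi y)
    have hψy := hψi.mem y.2
    have hw : w ∈ M' := hk.mem hψy
    have hau : a ⟨g w, hgi.mem hw⟩ = hh₁i.equiv y := Subtype.ext (by
      rw [hh₁i.equiv_apply, ← autFun_coe a]
      show autFun a (g w) = _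
      rw [hag w hw, hr₀1 _ hψy, hψi2 _ y.2])
    rw [hh₁i.congr_apply, MulAut.mul_apply, MulAut.mul_apply, ← hau, MulAut.inv_apply_self,
      ← autFun_coe a, conjAut_apply]
    show _ = autFun a (g t * g w * (g t)⁻¹)
    rw [← hg.map_conj htN (hM'N w hw), hag _ (conj_mem_of_mem_normalizer htM hw), hδ₁v]
    rfl
  -- it lies in the product
  set Jm := (autInducedBy T M₁ ⊔ Oc F E p M₁).map (MulAut.congr hh₁i.equiv).toMonoidHom
  have hJle : autInducedBy T P' ⊔ Oc F E p P' ≤ Jm := by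
    refine sup_le (fun b hb => ?_) fun b hb => ?_
    · refine ⟨(MulAut.congr hh₁i.equiv).symm b, Subgroup.mem_sup_left
        (induced_back hTS hh₁ hh₁i honto ?_), MulEquiv.apply_symm_apply _ b⟩
      rw [MulEquiv.apply_symm_apply]
      exact hb
    · obtain ⟨r₁, hr₁, hr₁1, -⟩ := hh₁i.exists_symm
      refine ⟨(MulAut.congr hh₁i.equiv).symm b, Subgroup.mem_sup_right ?_,
        MulEquiv.apply_symm_apply _ b⟩
      rw [congr_symm_apply_eq hh₁i hr₁ hr₁1]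
      exact oc_transport hI hr₁ hb
  have hδ₁W : δ₁ ∈ h.sys.autGroup M₁ := by
    obtain ⟨b, hb, hbe⟩ := hJle (h.toData.conj_mem_join hfn ha hcT)
    rw [← hkey] at hbe
    have hle : autInducedBy T M₁ ⊔ Oc F E p M₁ ≤ h.sys.autGroup M₁ :=
      sup_le ((autInducedBy_mono h.TR M₁).trans (autInducedBy_le_autGroup hM₁R))
        ((Subgroup.closure_le _).2 fun o ho => h.mem_sys ⟨⟨hM₁R, hM₁E⟩, ho⟩)
    exact (MulAut.congr hh₁i.equiv).injective hbe ▸ hle hb
  have hδ₁s : δ₁ ∈ SatExtend.stabF h.sys M₁ X' := ⟨hδ₁W, SatExtend.stab_iff hX'M fun z hz => by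
    obtain ⟨q, hq, hqe⟩ := hψQ.surj hz
    rw [hδ₁v]
    show ψ (r₀ (t * k (ψi z) * t⁻¹)) ∈ X'
    rw [← hqe, hψi1 q (hQM hq)]
    obtain ⟨q', hq', hqe'⟩ := hkQ.surj (conj_mem_of_mem_normalizer htQ (hkQ.mem hq))
    rw [← hqe', hr₀1 q' (hQM hq')]
    exact hψQ.mem hq'⟩
  have hδ₁p : IsPGroup p (Subgroup.zpowers δ₁) := by
    obtain ⟨j, hj⟩ := (isPGroup_autInducedBy (h.pgroup.to_le hTS) P') ⟨c, hcT⟩
    have hcj : c ^ p ^ j = 1 := congrArg Subtype.val hj
    have h1 : δ₁ ^ p ^ j = 1 := by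
      apply (MulAut.congr hh₁i.equiv).injective
      rw [map_pow, hkey, conj_pow, hcj, map_one, mul_one, mul_inv_cancel]
    intro x
    obtain ⟨n, hn⟩ := Subgroup.mem_zpowers_iff.1 x.2
    refine ⟨j, Subtype.ext ?_⟩
    show (x : MulAut M₁) ^ p ^ j = 1
    rw [← hn, ← zpow_natCast, ← zpow_mul, mul_comm, zpow_mul, zpow_natCast, h1, one_zpow]
  obtain ⟨κ, hκ, hκv⟩ := hpl.2 _ (Subgroup.zpowers_le.2 hδ₁s) hδ₁p
  obtain ⟨r, hr, hrv⟩ := (mem_autInducedBy_iff R M₁ _).1 (hκv δ₁ (Subgroup.mem_zpowers δ₁))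
  have hrM : r ∈ M₁ := by
    rw [← hNX]
    refine ⟨hr, mem_normalizer_of_conj_mem (hX'M.trans hM₁R) fun z hz => ?_⟩
    show r * ((⟨z, hX'M hz⟩ : M₁) : Ω) * r⁻¹ ∈ X'
    rw [← hrv]
    exact (Subgroup.mul_mem _ (Subgroup.mul_mem _ hκ.2 hδ₁s.2) (Subgroup.inv_mem _ hκ.2)
      ⟨z, hX'M hz⟩).2 hz
  set m : M₁ := κ⁻¹ ⟨r, hrM⟩
  have hδm : ∀ y : M₁, δ₁ y = m * y * m⁻¹ := fun y => by
    apply κ.injective
    rw [map_mul, map_mul, map_inv, MulAut.apply_inv_self]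
    refine Subtype.ext ?_
    have h1 := hrv (κ y)
    rw [MulAut.mul_apply, MulAut.mul_apply, MulAut.inv_apply_self] at h1
    exact h1
  -- `g t` is in `P' C_S(P')`
  set u : P' := a⁻¹ (hh₁i.equiv m)
  have hcu : (u : Ω)⁻¹ * g t ∈ centralizerIn S P' := by
    refine ⟨S.mul_mem (S.inv_mem (hfn.1 u.2)) hgt.1, mul_inv_mem_centralizer fun x hx => ?_⟩
    set x' : P' := ⟨x, hx⟩
    obtain ⟨y, hy⟩ := hh₁i.equiv.surjective (a x')
    have e1 : MulAut.congr hh₁i.equiv δ₁ (a x') = a (c x') := by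
      rw [hkey, MulAut.mul_apply, MulAut.mul_apply, MulAut.inv_apply_self]
    have e2 : MulAut.congr hh₁i.equiv δ₁ (a x') = hh₁i.equiv m * a x' * (hh₁i.equiv m)⁻¹ := by
      rw [← hy]
      show hh₁i.equiv (δ₁ (hh₁i.equiv.symm (hh₁i.equiv y))) = _
      rw [MulEquiv.symm_apply_apply, hδm, map_mul, map_mul, map_inv]
    have e3 : a (c x') = a (u * x' * u⁻¹) := by
      rw [map_mul, map_mul, map_inv, MulAut.apply_inv_self, ← e1, e2]
    exact congrArg Subtype.val (a.injective e3)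
  -- extend `a`
  have haF := (mem_autGroup_iff hfn.1 a).1 ha
  obtain ⟨a', ha', ha'v⟩ := (isReceptive_iff.1
    (isReceptive_of_isFullyNormalized h.pgroup h.sat hfn)).2 P' _ haF
  have hgtd : g t ∈ nPhi S P' (autFun a) := by
    have h1 := Subgroup.mul_mem _ (le_nPhi haF.isMap u.2) (centralizerIn_le_nPhi P' (autFun a) hcu)
    rwa [mul_inv_cancel_left] at h1
  have hP'd : P' ≤ nPhi S P' (autFun a) := le_nPhi haF.isMap
  have ha'i : IsIso F P' P' a' := haF.congr fun x hx => (ha'v x hx).symm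
  obtain ⟨t₀, ht₀, ht₀e⟩ := honto (a' (g t))
    ⟨isMap_mem_of_stronglyClosed hI.2.1 ha' hgtd (isMap_mem_of_stronglyClosed hI.2.1 hg htN ht),
      (ha'.mem_normalizerIn hP'd ha'i hgtd hgt.2).2⟩
  have ht₀S : t₀ ∈ normalizerIn S M₁ := ⟨hTS ht₀.1, ht₀.2⟩
  have hM₁N : M₁ ≤ normalizerIn S M₁ := le_normalizerIn (hM₁R.trans h.RS)
  have ht₀M : t₀ ∈ M₁ := by
    rw [← hNX]
    refine ⟨h.TR ht₀.1, mem_normalizer_of_conj_mem (hX'M.trans hM₁R) fun z hz => ?_⟩
    obtain ⟨q, hq, hqe⟩ := hψQ.surj hz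
    have hw := hk.mem (hQM hq)
    obtain ⟨q', hq', hqe'⟩ := hkQ.surj (conj_mem_of_mem_normalizer htQ (hkQ.mem hq))
    have e : h₁ (t₀ * z * t₀⁻¹) = h₁ (ψ q') := by
      rw [hh₁.map_conj ht₀S (hM₁N (hX'M hz)), ht₀e,
        show h₁ z = a' (g (k q)) by
          rw [ha'v _ (hgi.mem hw), hag _ hw, hr₀1 q (hQM hq), hqe],
        ← ha'.map_conj hgtd (hP'd (hgi.mem hw)), ← hg.map_conj htN (hM'N _ hw),
        ha'v _ (hgi.mem (conj_mem_of_mem_normalizer htM hw)),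
        hag _ (conj_mem_of_mem_normalizer htM hw), ← hqe', hr₀1 q' (hQM hq')]
    rw [hh₁.injOn (hM₁N (conj_mem_of_mem_normalizer ht₀.2 (hX'M hz)))
      (hM₁N (hX'M (hψQ.mem hq'))) e]
    exact hψQ.mem hq'
  have hgtP : g t ∈ P' := by
    obtain ⟨v, hv, hve⟩ := ha'i.surj (ht₀e ▸ hh₁i.mem ht₀M : a' (g t) ∈ P')
    exact ha'.injOn (hP'd hv) hgtd hve ▸ hv
  obtain ⟨v, hv, hve⟩ := hgi.surj hgtP
  exact hg.injOn (hM'N v hv) htN hve ▸ hv

end Setting

end CfsgLib.Fusion.Supplement
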