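import Cfsg.Agent.Lib.Fusion.SupplementExtend

/-!
The group generated by the automorphisms of order prime to `p` trivial modulo `T` with trace in
`E`: its induced part comes from `T`, and together with `Aut_T(P)` it is normalised by `Aut_F(P)`.
-/

set_option autoImplicit false
set_option linter.unusedSectionVars false
set_option linter.style.haveILetI false

namespace CfsgLib.Fusion.Supplement

open Cfsg Cfsg.FusionSystem
open CfsgLib.Fusion.NormalCentralizer
open scoped Pointwise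

variable {Ω : Type*} [Group Ω] {S T : Subgroup Ω} {F : FusionSystem S} {E : FusionSystem T}
variable {p : ℕ}

theorem congr_symm_apply_eq {P Q : Subgroup Ω} {f r : Ω → Ω} (hf : IsIso F P Q f)
    (hr : IsIso F Q P r) (h1 : ∀ x ∈ P, r (f x) = x) (β : MulAut Q) :
    (MulAut.congr hf.equiv).symm β = MulAut.congr hr.equiv β := by
  apply (MulAut.congr hf.equiv).injective
  rw [MulEquiv.apply_symm_apply]
  refine MulEquiv.ext fun y => Subtype.ext ?_
  obtain ⟨x, rfl⟩ := hf.equiv.surjective y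
  rw [hf.congr_apply]
  have e : hr.equiv (hf.equiv x) = x :=
    Subtype.ext (by rw [hr.equiv_apply, hf.equiv_apply]; exact h1 x x.2)
  have h2 := hr.congr_apply β (hf.equiv x)
  rw [e] at h2
  rw [h2]
  obtain ⟨v, hv, hve⟩ := hf.surj (β (hf.equiv x)).2
  rw [← hve, h1 v hv]

variable [Fact p.Prime] [Finite S]

/-- Conjugations transport to conjugations. -/
theorem congr_induced {P P' : Subgroup Ω} {k : Ω → Ω} (hk : IsMap F (normalizerIn S P) k)
    (hki : IsIso F P P' k) {K : Subgroup Ω} {a : MulAut P} {s : Ω} (hs : s ∈ normalizerIn S P)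
    (hv : ∀ x : P, (a x : Ω) = s * x * s⁻¹) (hK : k s ∈ K) :
    MulAut.congr hki.equiv a ∈ autInducedBy K P' := by
  refine (mem_autInducedBy_iff K P' _).2 ⟨k s, hK, fun y => ?_⟩
  obtain ⟨x, rfl⟩ := hki.equiv.surjective y
  rw [hki.congr_apply, hki.equiv_apply, hv,
    hk.map_conj hs (le_normalizerIn hki.le_left x.2)]

/-- Conjugations by `T` come back. -/
theorem induced_back {P P' : Subgroup Ω} {k : Ω → Ω} (hTS : T ≤ S)
    (hk : IsMap F (normalizerIn S P) k) (hki : IsIso F P P' k)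
    (honto : ∀ t ∈ normalizerIn T P', ∃ t₀ ∈ normalizerIn T P, k t₀ = t) {a : MulAut P}
    (ha : MulAut.congr hki.equiv a ∈ autInducedBy T P') : a ∈ autInducedBy T P := by
  obtain ⟨t, ht, hv⟩ := (mem_autInducedBy_iff T P' _).1 ha
  have htn := mem_normalizerIn_of_induces hki.le_right (hTS ht) hv
  obtain ⟨t₀, ht₀, he⟩ := honto t ⟨ht, htn.2⟩
  have ht₀' : t₀ ∈ normalizerIn S P := ⟨hTS ht₀.1, ht₀.2⟩
  refine (mem_autInducedBy_iff T P a).2 ⟨t₀, ht₀.1, fun x => ?_⟩
  have h1 := hv (hki.equiv x)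
  rw [hki.congr_apply, hki.equiv_apply, ← he,
    ← hk.map_conj ht₀' (le_normalizerIn hki.le_left x.2)] at h1
  exact hk.injOn (le_normalizerIn hki.le_left (SetLike.coe_mem _))
    (le_normalizerIn hki.le_left (conj_mem_of_mem_normalizer ht₀.2 x.2)) h1

namespace Data

variable (h : Data F p E)
include h

variable {P : Subgroup Ω}

/-- Conjugates of `Aut_T(P)` in `Aut_S(P)` lie in `Aut_T(P)`. -/
theorem conj_mem_autT (hfn : F.IsFullyNormalized P) {g a : MulAut P} (hg : g ∈ F.autGroup P)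
    (ha : a ∈ autInducedBy T P) (hga : g * a * g⁻¹ ∈ autInducedBy S P) :
    g * a * g⁻¹ ∈ autInducedBy T P := by
  obtain ⟨t, ht, htv⟩ := (mem_autInducedBy_iff T P a).1 ha
  obtain ⟨s, hs, hsv⟩ := (mem_autInducedBy_iff S P _).1 hga
  obtain ⟨f', hf', hf'v⟩ := (isReceptive_iff.1
    (isReceptive_of_isFullyNormalized h.pgroup h.sat hfn)).2 P _
      ((mem_autGroup_iff hfn.1 g).1 hg)
  have htn := (mem_normalizerIn_of_induces hfn.1 (h.TS ht) htv).2
  have hval : ∀ y ∈ P, autFun g (t * y * t⁻¹) = s * autFun g y * s⁻¹ := fun y hy => by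
    have h1 := hsv (g ⟨y, hy⟩)
    rw [MulAut.mul_apply, MulAut.mul_apply, MulAut.inv_apply_self] at h1
    rw [autFun_apply g hy, ← h1, ← htv ⟨y, hy⟩, autFun_coe]
  have htN : t ∈ nPhi S P (autFun g) := ⟨h.TS ht, htn, s, hs, hval⟩
  refine (mem_autInducedBy_iff T P _).2
    ⟨f' t, isMap_mem_of_stronglyClosed h.inv.2.1 hf' htN ht, fun z => ?_⟩
  obtain ⟨y, rfl⟩ := g.surjective z
  rw [MulAut.mul_apply, MulAut.mul_apply, MulAut.inv_apply_self]
  have hyN : ∀ w : P, (w : Ω) ∈ nPhi S P (autFun g) := fun w =>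
    le_nPhi ((mem_autGroup_iff hfn.1 g).1 hg).isMap w.2
  rw [← autFun_coe g (a y), htv, ← autFun_coe g y, hval y y.2,
    ← hf'v _ y.2, ← hf'.map_conj htN (hyN y), hf'v _ (conj_mem_of_mem_normalizer htn y.2),
    hval y y.2, hf'v _ y.2]

/-- At a fully normalised pair the induced part comes from `T`. -/
theorem oc_inf_le_pair (hfn : F.IsFullyNormalized P) (hfnU : F.IsFullyNormalized (P ⊓ T))
    (hUc : E.IsCentric (P ⊓ T)) :
    Oc F E p P ⊓ autInducedBy S P ≤ autInducedBy T P := by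
  have hI := h.inv
  have hPS := hfn.1
  have := finite_of_le hPS
  have := finite_mulAut P
  obtain ⟨-, D, hD⟩ := isFullyAutomized_of_isFullyNormalized h.pgroup h.sat hfn
  obtain ⟨Sy, hSy⟩ := Meet.exists_sylow_meet D hD (gam_le P)
    fun g hg b hb => gam_conj hI hPS hg hb
  have hSyS : ∀ b : Gam F E P, b ∈ (Sy : Subgroup _) → (b : MulAut P) ∈ autInducedBy S P :=
    fun b hb => by rw [hSy] at hb; exact hb
  have hres : (Sy : Subgroup (Gam F E P)) ⊓ Cfsg.pResidual p (Gam F E P) ≤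
      (autInducedBy T P).subgroupOf _ := by
    refine CentralLift.pResidual_inf_le Sy (fun s hs t ht => ?_) fun Q hQ g hgo hgQ q hq => ?_
    · exact h.conj_mem_autT hfn (gam_le P s.2) ht (Subgroup.mul_mem _ (Subgroup.mul_mem _
        (hSyS s hs) (autInducedBy_mono h.TS P ht)) (Subgroup.inv_mem _ (hSyS s hs)))
    set x : MulAut P := (g : MulAut P)
    set Q₀ := Q.map (Gam F E P).subtype
    set Q' := Q₀ ⊔ autInducedBy P P with hQ'
    have hQ'S : Q' ≤ autInducedBy S P := sup_le (by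
      rintro _ ⟨a, ha, rfl⟩
      exact hSyS a (hQ ha)) (autInducedBy_mono hPS P)
    have hinn : ∀ a ∈ autInducedBy P P, x * a * x⁻¹ ∈ autInducedBy P P := fun a ha => by
      obtain ⟨u, hu, huv⟩ := (mem_autInducedBy_iff P P a).1 ha
      refine (mem_autInducedBy_iff P P _).2 ⟨x ⟨u, hu⟩, SetLike.coe_mem _, fun z => ?_⟩
      obtain ⟨y, rfl⟩ := x.surjective z
      rw [MulAut.mul_apply, MulAut.mul_apply, MulAut.inv_apply_self,
        show a y = ⟨u, hu⟩ * y * (⟨u, hu⟩ : P)⁻¹ from Subtype.ext (huv y), map_mul, map_mul,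
        map_inv]
      rfl
    have hinv' : Q' ≤ Q'.comap (MulAut.conj x).toMonoidHom := sup_le (by
      rintro _ ⟨a, ha, rfl⟩
      exact Subgroup.mem_sup_left ⟨_, hgQ a ha, rfl⟩) fun a ha => Subgroup.mem_sup_right (hinn a ha)
    set W := Meet.preInd S P Q'
    have hPW : P ≤ W := Meet.le_preInd hPS le_sup_right
    obtain ⟨δ, hδ, hδP, hδT⟩ := h.ext_pair hfn hfnU hUc g.2
      (by rw [Subgroup.orderOf_coe]; exact hgo) hPW
      (fun w hw => ⟨hw.1, Meet.preInd_le_normalizer hw⟩) fun w hw => by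
        obtain ⟨a, ha, hav⟩ := Meet.exists_preInd hw
        have ha' : x * a * x⁻¹ ∈ Q' := hinv' ha
        obtain ⟨w', hw', hw'v⟩ := (mem_autInducedBy_iff S P _).1 (hQ'S ha')
        refine ⟨w', Meet.mem_preInd_of_induces hw' ha' hw'v, fun y hy => ?_⟩
        have h1 := hw'v (x ⟨y, hy⟩)
        rw [MulAut.mul_apply, MulAut.mul_apply, MulAut.inv_apply_self] at h1
        rw [← hav y hy, autFun_apply x hy, ← h1, autFun_apply a hy, autFun_coe]
    obtain ⟨w, hwS, hwv⟩ := (mem_autInducedBy_iff S P _).1 (hSyS q (hQ hq))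
    have hwW : w ∈ W :=
      Meet.mem_preInd_of_induces hwS (Subgroup.mem_sup_left ⟨q, hq, rfl⟩) hwv
    show x * (q : MulAut P) * x⁻¹ * (q : MulAut P)⁻¹ ∈ autInducedBy T P
    refine (mem_autInducedBy_iff T P _).2 ⟨δ w * w⁻¹, ?_, fun z => ?_⟩
    · have h1 := h.normT hwS (hδT w hwW)
      rwa [mul_inv_cancel_left] at h1
    obtain ⟨z', rfl⟩ := (q : MulAut P).surjective z
    obtain ⟨u, rfl⟩ := x.surjective z'
    simp only [MulAut.mul_apply, MulAut.inv_apply_self]
    rw [hwv (x u), ← autFun_coe x ((q : MulAut P) u),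
      ← hδP _ ((q : MulAut P) u).2, hwv u, hδ.map_conj hwW (hPW u.2), hδP _ u.2, autFun_coe,
      show (g : MulAut P) = x from rfl]
    group
  rintro a ⟨haO, haS⟩
  have hle : Oc F E p P ≤ (Cfsg.pResidual p (Gam F E P)).map (Gam F E P).subtype :=
    (Subgroup.closure_le _).2 fun b hb => ⟨⟨b, hb.1⟩,
      CfsgLib.Transfer.mem_pResidual_of_coprime (by rw [← Subgroup.orderOf_coe]; exact hb.2), rfl⟩
  obtain ⟨b, hb, rfl⟩ := hle haO
  refine hres ⟨?_, hb⟩
  show b ∈ (Sy : Subgroup (Gam F E P))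
  rw [hSy]
  exact haS

/-- The induced part comes from `T`. -/
theorem oc_inf_le (hP : TMax F T P) (hUc : E.IsCentric (P ⊓ T)) :
    Oc F E p P ⊓ autInducedBy S P ≤ autInducedBy T P := by
  obtain ⟨P', k, hk, hki, hkN, hfn, hfn', honto⟩ := hP.exists_pair h.pgroup h.sat h.inv
  rintro a ⟨haO, haS⟩
  obtain ⟨s, hs, hv⟩ := (mem_autInducedBy_iff S P a).1 haS
  have hsn := mem_normalizerIn_of_induces hP.1 hs hv
  exact induced_back h.TS hk hki honto (h.oc_inf_le_pair hfn hfn'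
    (centric_transport h.inv hki hUc)
    ⟨oc_transport h.inv hki haO, congr_induced hk hki hsn hv (hkN s hsn).1⟩)

/-- A `p`-subgroup moves into `Aut_T(P)`. -/
theorem exists_conj_oc (hP : TMax F T P) (hUc : E.IsCentric (P ⊓ T)) {A : Subgroup (MulAut P)}
    (hA : A ≤ Oc F E p P) (hAp : IsPGroup p A) :
    ∃ δ ∈ Oc F E p P, ∀ a ∈ A, δ * a * δ⁻¹ ∈ autInducedBy T P := by
  have hI := h.inv
  obtain ⟨P', k, hk, hki, hkN, hfn, hfn', honto⟩ := hP.exists_pair h.pgroup h.sat hI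
  have := finite_of_le hfn.1
  have := finite_mulAut P'
  obtain ⟨r, hr, hr1, -⟩ := hki.exists_symm
  set c := (MulAut.congr hki.equiv).toMonoidHom
  have hA' : A.map c ≤ Oc F E p P' := by
    rintro _ ⟨a, ha, rfl⟩
    exact oc_transport hI hki (hA ha)
  obtain ⟨-, D, hD⟩ := isFullyAutomized_of_isFullyNormalized h.pgroup h.sat hfn
  obtain ⟨Sy, hSy⟩ := Meet.exists_sylow_meet D hD ((oc_le P').trans (gam_le P'))
    fun g hg b hb => oc_conj hI hfn.1 hg hb
  obtain ⟨Q, hQ⟩ := ((hAp.map c).of_equiv (Subgroup.subgroupOfEquivOfLe hA').symm).exists_le_sylow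
  obtain ⟨l, hl⟩ := MulAction.exists_smul_eq ↥(Oc F E p P') Q Sy
  refine ⟨(MulAut.congr hki.equiv).symm l, ?_, fun a ha => induced_back h.TS hk hki honto ?_⟩
  · rw [congr_symm_apply_eq hki hr hr1]
    exact oc_transport hI hr l.2
  rw [map_mul, map_mul, map_inv, MulEquiv.apply_symm_apply]
  refine h.oc_inf_le_pair hfn hfn' (centric_transport hI hki hUc)
    ⟨Subgroup.mul_mem _ (Subgroup.mul_mem _ l.2 (hA' ⟨a, ha, rfl⟩)) (Subgroup.inv_mem _ l.2), ?_⟩
  have h1 : l * ⟨c a, hA' ⟨a, ha, rfl⟩⟩ * l⁻¹ ∈ (Sy : Subgroup (Oc F E p P')) := by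
    rw [← hl, Sylow.coe_subgroup_smul, Subgroup.mem_pointwise_smul_iff_inv_smul_mem]
    simpa [mul_assoc] using hQ (Subgroup.mem_subgroupOf.2 ⟨a, ha, rfl⟩ :
      (⟨c a, hA' ⟨a, ha, rfl⟩⟩ : Oc F E p P') ∈ (A.map c).subgroupOf _)
  rwa [hSy, Subgroup.mem_subgroupOf] at h1

/-- At a fully normalised pair, `Aut_F(P)` moves `Aut_T(P)` only inside the automizer. -/
theorem conj_mem_join (hfn : F.IsFullyNormalized P) {g u : MulAut P} (hg : g ∈ F.autGroup P)
    (hu : u ∈ autInducedBy T P) : g * u * g⁻¹ ∈ autInducedBy T P ⊔ Oc F E p P := by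
  have hI := h.inv
  have hPS := hfn.1
  have := finite_of_le hPS
  have := finite_mulAut P
  set J := autInducedBy T P ⊔ Oc F E p P with hJ
  -- elements moving `Aut_T(P)` into `J` normalise `J`
  have hnorm : ∀ g ∈ F.autGroup P, (∀ u ∈ autInducedBy T P, g * u * g⁻¹ ∈ J) →
      g ∈ Subgroup.normalizer (J : Set (MulAut P)) := by
    intro g hg hu
    have hle : J ≤ J.comap (MulAut.conj g).toMonoidHom :=
      sup_le hu fun o ho => Subgroup.mem_sup_right (oc_conj hI hPS hg ho)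
    have : Finite (J : Set (MulAut P)) := Subtype.finite
    exact Subgroup.mem_normalizer_fintype fun a ha => hle ha
  obtain ⟨-, D, hD⟩ := isFullyAutomized_of_isFullyNormalized h.pgroup h.sat hfn
  have hBn : ∀ g ∈ F.autGroup P, ∀ b ∈ Gam F E P, g * b * g⁻¹ ∈ Gam F E P :=
    fun g hg b hb => gam_conj hI hPS hg hb
  obtain ⟨Sy, hSy⟩ := Meet.exists_sylow_meet D hD (gam_le P) hBn
  have hB : Gam F E P ≤ Subgroup.normalizer (J : Set (MulAut P)) := by
    refine ModelNormal.le_of_sylow_coprime Sy (fun x hx => ?_) fun x hx hxo =>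
      Subgroup.le_normalizer (Subgroup.mem_sup_right (Subgroup.subset_closure ⟨hx, hxo⟩))
    rw [hSy, Subgroup.mem_subgroupOf] at hx
    refine hnorm _ (gam_le P x.2) fun u hu => Subgroup.mem_sup_left
      (h.conj_mem_autT hfn (gam_le P x.2) hu ?_)
    exact Subgroup.mul_mem _ (Subgroup.mul_mem _ hx (autInducedBy_mono h.TS P hu))
      (Subgroup.inv_mem _ hx)
  set K := (Gam F E P).subgroupOf (F.autGroup P)
  haveI : K.Normal := ⟨fun b hb g => hBn g g.2 _ hb⟩
  obtain ⟨SK, hSK⟩ := SatExtend.exists_sylow_inf D K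
  suffices hgn : g ∈ Subgroup.normalizer (J : Set (MulAut P)) from
    (Subgroup.mem_normalizer_iff.1 hgn u).1 (Subgroup.mem_sup_left hu)
  have hgt : (⟨g, hg⟩ : F.autGroup P) ∈
      Subgroup.normalizer (((SK : Subgroup K).map K.subtype : Subgroup _) : Set (F.autGroup P)) ⊔
        K := by
    rw [Sylow.normalizer_sup_eq_top]
    exact Subgroup.mem_top _
  obtain ⟨n, hn, b, hb, hnb⟩ := Subgroup.mem_sup_of_normal_right.1 hgt
  have hn' : (n : MulAut P) ∈ Subgroup.normalizer (J : Set (MulAut P)) := by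
    refine hnorm _ n.2 fun u hu => Subgroup.mem_sup_left (h.conj_mem_autT hfn n.2 hu ?_)
    have huG := autInducedBy_le_gam (p := p) hI hPS hu
    have huK : (⟨u, gam_le P huG⟩ : F.autGroup P) ∈ (SK : Subgroup K).map K.subtype := by
      refine ⟨⟨_, Subgroup.mem_subgroupOf.2 huG⟩, ?_, rfl⟩
      rw [SetLike.mem_coe, hSK, Subgroup.mem_subgroupOf, hD, Subgroup.mem_subgroupOf]
      exact autInducedBy_mono h.TS P hu
    obtain ⟨z, hz, hze⟩ := (Subgroup.mem_normalizer_iff.1 hn _).1 huK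
    rw [SetLike.mem_coe, hSK, Subgroup.mem_subgroupOf, hD, Subgroup.mem_subgroupOf] at hz
    rw [show (n : MulAut P) * u * (n : MulAut P)⁻¹ = ((z : F.autGroup P) : MulAut P) from
      (congrArg (fun w : F.autGroup P => (w : MulAut P)) hze).symm]
    exact hz
  rw [show g = (n : MulAut P) * (b : MulAut P) from
    (congrArg (fun w : F.autGroup P => (w : MulAut P)) hnb).symm]
  exact Subgroup.mul_mem _ hn' (hB hb)

end Data

end CfsgLib.Fusion.Supplement
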