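import Cfsg.Agent.Lib.Fusion.SupplementBase

/-!
Automorphisms of order prime to `p` trivial modulo `T` with trace in `E` extend to the subgroups of
the normaliser whose action they normalise, still trivially modulo `T`.
-/

set_option autoImplicit false
set_option linter.unusedSectionVars false
set_option linter.style.haveILetI false

namespace CfsgLib.Fusion.Supplement

open Cfsg Cfsg.FusionSystem
open CfsgLib.Fusion.NormalCentralizer

variable {Ω : Type*} [Group Ω] {S T : Subgroup Ω} {F : FusionSystem S} {E : FusionSystem T}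
variable {p : ℕ} [Fact p.Prime] [Finite S]

namespace Data

variable (h : Data F p E)
include h

theorem inv : E.IsInvariantIn F := h.normal.1.2.2

theorem TS : T ≤ S := h.inv.2.1.1

theorem normT {s t : Ω} (hs : s ∈ S) (ht : t ∈ T) : s * t * s⁻¹ ∈ T := normalizer_T h.inv hs ht

variable {P : Subgroup Ω}

set_option maxHeartbeats 1000000 in
/-- The extension, at a fully normalised pair. -/
theorem ext_pair (hfn : F.IsFullyNormalized P) (hfnU : F.IsFullyNormalized (P ⊓ T))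
    (hUc : E.IsCentric (P ⊓ T)) {x : MulAut P} (hx : x ∈ Gam F E P)
    (hxo : (orderOf x).Coprime p) {W : Subgroup Ω} (hPW : P ≤ W) (hWN : W ≤ normalizerIn S P)
    (hxW : ∀ w ∈ W, ∃ w' ∈ W, ∀ y ∈ P, autFun x (w * y * w⁻¹) = w' * autFun x y * w'⁻¹) :
    ∃ δ, IsMap F W δ ∧ (∀ y ∈ P, δ y = autFun x y) ∧ ∀ w ∈ W, w⁻¹ * δ w ∈ T := by
  have hI := h.inv
  have hPS := hfn.1
  set U := P ⊓ T with hU
  have hUS : U ≤ S := inf_le_left.trans hPS
  have hUT : U ≤ T := inf_le_right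
  have hUP : U ≤ P := inf_le_left
  have := finite_of_le hPS
  have := finite_of_le hUS
  have := finite_mulAut U
  have := finite_mulAut P
  -- the restriction to `U`
  have hxU : IsIso E U U (autFun x) := (gam_isMap hx).isIso_of_card_le
    (fun y hy => ⟨autFun_mem x hy.1, (gam_isMap hx).mem hy⟩) le_rfl
  obtain ⟨x₀, hx₀, hx₀v⟩ := exists_mem_autGroup hxU
  have hx₀a : ∀ y ∈ U, autFun x y = autFun x₀ y := fun y hy => by
    rw [autFun_apply x₀ hy, hx₀v]
  have hx₀o := NormalCentralizer.coprime_orderOf_restrict hUP hx₀a hxo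
  have hWS : W ≤ S := hWN.trans inf_le_left
  have hWU : W ≤ normalizerIn S U :=
    hWN.trans (normalizerIn_le_normalizerIn_inf (p := p) hI hPS)
  set W₁ := W ⊔ centralizerIn S U with hW₁
  have hW₁N : W₁ ≤ normalizerIn S U := sup_le hWU (centralizerIn_le_normalizerIn S U)
  have hW₁S : W₁ ≤ S := hW₁N.trans inf_le_left
  have hUW : U ≤ W₁ := hUP.trans (hPW.trans le_sup_left)
  have hxW₁ : W₁ ≤ nPhi W₁ U (autFun x₀) := sup_le
    (fun w hw => by
      obtain ⟨w', hw', hv⟩ := hxW w hw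
      refine ⟨Subgroup.mem_sup_left hw, (hWU hw).2, w', Subgroup.mem_sup_left hw', fun y hy => ?_⟩
      rw [← hx₀a y hy, ← hx₀a _ (conj_mem_of_mem_normalizer (hWU hw).2 hy)]
      exact hv y hy.1)
    (fun c hc => ⟨Subgroup.mem_sup_right hc, (centralizerIn_le_normalizerIn S U hc).2, 1,
      W₁.one_mem, fun y hy => by simp [conj_eq_self_of_mem_centralizer hc.2 hy]⟩)
  obtain ⟨δ₀, hδ₀, hδ₀U, hδ₀C⟩ := MeetExt.exists_ext_trivial h.pgroup h.sat h.normal hUT hfnU hx₀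
    hx₀o hW₁N hUW le_sup_right fun w hw => by
      obtain ⟨-, -, hv⟩ := hxW₁ hw
      exact hv
  -- a power of order prime to `p`
  have := finite_of_le hW₁S
  have := finite_mulAut W₁
  obtain ⟨D₀, hD₀, hD₀v⟩ := exists_mem_autGroup hδ₀
  obtain ⟨m, hm, hmo⟩ := Residual.exists_pPrime_pow (p := p) D₀ (o := orderOf x₀) hx₀o
  set D := D₀ ^ m with hDdef
  have hDm : IsMap F W₁ (autFun D) :=
    ((mem_autGroup_iff hW₁S D).1 ((F.autGroup W₁).pow_mem hD₀ m)).isMap
  have hD₀U : ∀ y ∈ U, autFun D₀ y = autFun x₀ y := fun y hy => by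
    rw [autFun_apply D₀ (hUW hy), hD₀v]
    exact hδ₀U y hy
  have hDU : ∀ y ∈ U, autFun D y = autFun x y := fun y hy => by
    rw [hDdef, NormalCentralizer.autFun_pow_eq hUW hD₀U m y hy,
      Residual.pow_eq_self_of_modEq hm, hx₀a y hy]
  have hCW : centralizerIn S U ≤ W₁ := le_sup_right
  have hDC₀ : ∀ c ∈ centralizerIn S U,
      autFun D₀ c ∈ centralizerIn S U ∧ c⁻¹ * autFun D₀ c ∈ T := fun c hc => by
    refine ⟨autFun_mem_centralizerIn hUW hD₀ hW₁S hD₀U hc (hCW hc), ?_⟩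
    rw [autFun_apply D₀ (hCW hc), hD₀v]
    exact hδ₀C c hc
  have hDC : ∀ c ∈ centralizerIn S U,
      autFun D c ∈ centralizerIn S U ∧ c⁻¹ * autFun D c ∈ T := by
    have key : ∀ i : ℕ, ∀ c ∈ centralizerIn S U,
        autFun (D₀ ^ i) c ∈ centralizerIn S U ∧ c⁻¹ * autFun (D₀ ^ i) c ∈ T := by
      intro i
      induction i with
      | zero =>
        intro c hc
        rw [pow_zero, NormalCentralizer.autFun_one (hCW hc), inv_mul_cancel]
        exact ⟨hc, T.one_mem⟩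
      | succ i ih =>
        intro c hc
        obtain ⟨h1, h2⟩ := ih c hc
        obtain ⟨h3, h4⟩ := hDC₀ _ h1
        rw [pow_succ', autFun_mul _ _ (hCW hc)]
        refine ⟨h3, ?_⟩
        have h5 := T.mul_mem h2 h4
        rwa [show c⁻¹ * autFun (D₀ ^ i) c * ((autFun (D₀ ^ i) c)⁻¹ * autFun D₀ (autFun (D₀ ^ i) c))
          = c⁻¹ * autFun D₀ (autFun (D₀ ^ i) c) by group] at h5
    exact key m
  -- trivial modulo `T` on the product of `T` and the centraliser
  have hn : centralizerIn S U ≤ Subgroup.normalizer (T : Set Ω) := fun s hs =>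
    le_normalizer_of_stronglyClosed hI.2.1 hs.1
  have hTC : ∀ z ∈ W₁, z ∈ T ⊔ centralizerIn S U → z⁻¹ * autFun D z ∈ T := by
    intro z hzW hz
    have hz' : z ∈ ((T ⊔ centralizerIn S U : Subgroup Ω) : Set Ω) := hz
    rw [Subgroup.coe_mul_of_right_le_normalizer_left _ _ hn] at hz'
    obtain ⟨a, ha, b, hb, rfl⟩ := hz'
    have hbW := hCW hb
    have haW : a ∈ W₁ := by
      have := W₁.mul_mem hzW (W₁.inv_mem hbW)
      rwa [mul_inv_cancel_right] at this
    show (a * b)⁻¹ * autFun D (a * b) ∈ T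
    rw [hDm.map_mul haW hbW]
    have h1 : a⁻¹ * autFun D a ∈ T :=
      T.mul_mem (T.inv_mem ha) (isMap_mem_of_stronglyClosed hI.2.1 hDm haW ha)
    rw [show (a * b)⁻¹ * (autFun D a * autFun D b) =
      b⁻¹ * (a⁻¹ * autFun D a) * b⁻¹⁻¹ * (b⁻¹ * autFun D b) by group]
    exact T.mul_mem (h.normT (S.inv_mem hb.1) h1) (hDC b hb).2
  have hUE := isFullyNormalized_of_super h.pgroup h.sat hI hfnU hUT
  have hUF : ∀ {a : MulAut U}, a ∈ E.autGroup U → a ∈ F.autGroup U := fun ha =>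
    (mem_autGroup_iff hUS _).2 (((mem_autGroup_iff hUT _).1 ha).of_subsystem hI.1)
  -- trivial modulo `T` on `W`
  have hWmod : ∀ w ∈ W, w⁻¹ * autFun D w ∈ T := by
    intro w hw
    have hwW : w ∈ W₁ := Subgroup.mem_sup_left hw
    have hwn := (hWU hw).2
    set w₁ := autFun D w
    have hw₁W : w₁ ∈ W₁ := autFun_mem D hwW
    have hw₁n := (hW₁N hw₁W).2
    set a := conjAut U hwn
    set b := conjAut U hw₁n
    have hb : b = x₀ * a * x₀⁻¹ := by
      refine MulEquiv.ext fun z => Subtype.ext ?_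
      obtain ⟨u, rfl⟩ := x₀.surjective z
      rw [MulAut.mul_apply, MulAut.mul_apply, MulAut.inv_apply_self, conjAut_apply,
        ← autFun_coe x₀, ← autFun_coe x₀ (a u), conjAut_apply, ← hx₀a _ u.2,
        ← hx₀a _ (conj_mem_of_mem_normalizer hwn u.2), ← hDU _ u.2,
        ← hDU _ (conj_mem_of_mem_normalizer hwn u.2)]
      exact (hDm.map_conj hwW (hUW u.2)).symm
    have haF : a ∈ F.autGroup U :=
      autInducedBy_le_autGroup hUS (conjAut_mem_autInducedBy hwn (hWS hw))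
    have hmemE : a⁻¹ * b ∈ E.autGroup U := by
      rw [hb, show a⁻¹ * (x₀ * a * x₀⁻¹) = a⁻¹ * x₀ * a⁻¹⁻¹ * x₀⁻¹ by group]
      refine Subgroup.mul_mem _ ?_ (Subgroup.inv_mem _ hx₀)
      refine Residual.mem_autGroup_transport hI hUT
        ((mem_autGroup_iff hUS _).1 ((F.autGroup U).inv_mem haF)) hx₀ fun z hz => ?_
      rw [autFun_apply _ (autFun_mem x₀ hz), autFun_apply _ (autFun_mem _ hz)]
      simp [autFun_apply _ hz]
    have hind : a⁻¹ * b ∈ autInducedBy S U := Subgroup.mul_mem _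
      (Subgroup.inv_mem _ (conjAut_mem_autInducedBy hwn (hWS hw)))
      (conjAut_mem_autInducedBy hw₁n (hW₁S hw₁W))
    obtain ⟨t, ht, htv⟩ := (mem_autInducedBy_iff T U _).1
      (MeetExt.mem_autInducedBy_of_mem h.pgroup h.normal.1 hUE hmemE hind)
    set y := w⁻¹ * w₁ with hydef
    have hyW : y ∈ W₁ := W₁.mul_mem (W₁.inv_mem hwW) hw₁W
    have hrel : ∀ z ∈ U, y * z * y⁻¹ = t * z * t⁻¹ := fun z hz => by
      have h1 := htv ⟨z, hz⟩
      have h2 : (a ((a⁻¹ * b) ⟨z, hz⟩) : Ω) = (b ⟨z, hz⟩ : Ω) := by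
        rw [MulAut.mul_apply, MulAut.apply_inv_self]
      rw [conjAut_apply, conjAut_apply, h1] at h2
      change w * (t * z * t⁻¹) * w⁻¹ = w₁ * z * w₁⁻¹ at h2
      calc y * z * y⁻¹ = w⁻¹ * (w₁ * z * w₁⁻¹) * w := by rw [hydef]; group
        _ = t * z * t⁻¹ := by rw [← h2]; group
    have hc : t⁻¹ * y ∈ centralizerIn S U :=
      ⟨S.mul_mem (S.inv_mem (h.TS ht)) (hW₁S hyW), mul_inv_mem_centralizer hrel⟩
    have hyTC : y ∈ T ⊔ centralizerIn S U := by
      have := Subgroup.mul_mem_sup ht hc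
      rwa [mul_inv_cancel_left] at this
    exact diff_mem (h.pgroup.to_le hW₁S) hmo
      (fun z hz hzT => isMap_mem_of_stronglyClosed hI.2.1 hDm hz hzT) hwW
      fun i => hTC _ (W₁.pow_mem hyW i) (Subgroup.pow_mem _ hyTC i)
  -- the restriction to `P`
  have hPW₁ : P ≤ W₁ := hPW.trans le_sup_left
  have hxm := ((mem_autGroup_iff hPS x).1 (gam_le P hx)).isMap
  have hγP : ∀ y ∈ P, autFun D y ∈ P := by
    intro y hy
    have hxy := autFun_mem x hy
    have hm2 : (autFun x y)⁻¹ * autFun D y ∈ centralizerIn T U := by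
      refine ⟨?_, mul_inv_mem_centralizer fun z hz => ?_⟩
      · have h1 := T.mul_mem (T.inv_mem (gam_mod hx hy)) (hWmod y (hPW hy))
        rwa [show (y⁻¹ * autFun x y)⁻¹ * (y⁻¹ * autFun D y) =
          (autFun x y)⁻¹ * autFun D y by group] at h1
      · obtain ⟨u, hu, rfl⟩ := hxU.surj hz
        have hn' : y * u * y⁻¹ ∈ U :=
          conj_mem_of_mem_normalizer (hWU (hPW hy)).2 hu
        rw [← hxm.map_conj hy (hUP hu), ← hDU u hu, ← hDm.map_conj (hPW₁ hy) (hUW hu), hDU _ hn']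
    have h1 := P.mul_mem hxy (hUP (hUc.2 U (isConj_refl hUT) hm2))
    rwa [mul_inv_cancel_left] at h1
  have hγi : IsIso F P P (autFun D) := (hDm.mono hPW₁).isIso_of_card_le hγP le_rfl
  obtain ⟨γ, hγ, hγv⟩ := exists_mem_autGroup hγi
  have hγa : ∀ y ∈ P, autFun D y = autFun γ y := fun y hy => by rw [autFun_apply γ hy, hγv]
  have hγo := NormalCentralizer.coprime_orderOf_restrict hPW₁ hγa hmo
  set κ := x⁻¹ * γ with hκ
  have hxF := gam_le P hx
  have hκF : κ ∈ F.autGroup P := Subgroup.mul_mem _ (Subgroup.inv_mem _ hxF) hγ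
  have hUiff : ∀ {a : MulAut P}, a ∈ F.autGroup P → ∀ z : P, (z : Ω) ∈ U → (a z : Ω) ∈ U :=
    fun {a} ha z hz => ⟨(a z).2, by
      rw [← autFun_coe a z]
      exact isMap_mem_of_stronglyClosed hI.2.1 ((mem_autGroup_iff hPS a).1 ha).isMap z.2 hz.2⟩
  have hκmod : κ ∈ MeetExt.modSub U P := by
    refine ⟨fun z hz => ?_, fun z => ?_⟩
    · have e : γ z = x z := Subtype.ext (by rw [hγv, ← autFun_coe x z]; exact hDU z hz)
      rw [hκ, MulAut.mul_apply, e, MulAut.inv_apply_self]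
    · have hq : (((x z)⁻¹ * γ z : P) : Ω) ∈ U := by
        refine ⟨SetLike.coe_mem _, ?_⟩
        show (x z : Ω)⁻¹ * (γ z : Ω) ∈ T
        rw [hγv, ← autFun_coe x z]
        have h1 := T.mul_mem (T.inv_mem (gam_mod hx z.2)) (hWmod z (hPW z.2))
        rwa [show ((z : Ω)⁻¹ * autFun x z)⁻¹ * ((z : Ω)⁻¹ * autFun D z) =
          (autFun x z)⁻¹ * autFun D z by group] at h1
      have e : z⁻¹ * κ z = x⁻¹ ((x z)⁻¹ * γ z) := by
        rw [hκ, map_mul, map_inv, MulAut.inv_apply_self, MulAut.mul_apply]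
      show ((z⁻¹ * κ z : P) : Ω) ∈ U
      rw [e]
      exact hUiff (Subgroup.inv_mem _ hxF) _ hq
  -- `κ` is induced by the centraliser of `U`
  set A := F.autGroup P
  set K := (MeetExt.modSub U P).subgroupOf A
  haveI hKn : K.Normal := ⟨fun k hk a => by
    obtain ⟨hk1, hk2⟩ := Subgroup.mem_subgroupOf.1 hk
    refine Subgroup.mem_subgroupOf.2 ⟨MeetExt.conj_fixSub (fun z hz =>
      hUiff (Subgroup.inv_mem _ a.2) z hz) hk1, fun z => ?_⟩
    obtain ⟨y, rfl⟩ := (a : MulAut P).surjective z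
    show (((a : MulAut P) y)⁻¹ *
      (a : MulAut P) ((k : MulAut P) ((a : MulAut P)⁻¹ ((a : MulAut P) y))) : P).1 ∈ U
    rw [MulAut.inv_apply_self, ← map_inv, ← map_mul]
    exact hUiff a.2 _ (hk2 y)⟩
  have hKp : IsPGroup p K := (MeetExt.isPGroup_modSub h.pgroup hPS).comap_subtype
  obtain ⟨-, Syl, hSyl⟩ := isFullyAutomized_of_isFullyNormalized h.pgroup h.sat hfn
  have hκS := Residual.le_sylow hKp Syl (Subgroup.mem_subgroupOf.2 hκmod :
    (⟨κ, hκF⟩ : A) ∈ K)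
  rw [hSyl, Subgroup.mem_subgroupOf] at hκS
  obtain ⟨c, hcS, hcv⟩ := (mem_autInducedBy_iff S P κ).1 hκS
  have hcn := (mem_normalizerIn_of_induces hPS hcS hcv).2
  have hcU : c ∈ centralizerIn S U := ⟨hcS, mem_centralizer_of_conj_eq fun z hz => by
    rw [← hcv ⟨z, hUP hz⟩]
    exact congrArg Subtype.val (hκmod.1 ⟨z, hUP hz⟩ hz)⟩
  have hcW := hCW hcU
  obtain ⟨hDcC, hDcT⟩ := hDC c hcU
  set z₀ := c⁻¹ * autFun D c with hz₀
  have hz₀U : z₀ ∈ U := hUc.2 U (isConj_refl hUT)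
    ⟨hDcT, Subgroup.mul_mem _ (Subgroup.inv_mem _ hcU.2) hDcC.2⟩
  -- `κ` is inner by `U`
  set N := (autInducedBy U P).subgroupOf A
  haveI hNn : N.Normal := ⟨fun k hk a => by
    obtain ⟨u, hu, huv⟩ := (mem_autInducedBy_iff U P _).1 (Subgroup.mem_subgroupOf.1 hk)
    refine Subgroup.mem_subgroupOf.2 ((mem_autInducedBy_iff U P _).2
      ⟨(a : MulAut P) ⟨u, hUP hu⟩, hUiff a.2 _ hu, fun z => ?_⟩)
    obtain ⟨y, rfl⟩ := (a : MulAut P).surjective z
    show ((a : MulAut P) ((k : MulAut P) ((a : MulAut P)⁻¹ ((a : MulAut P) y))) : Ω) = _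
    rw [MulAut.inv_apply_self, show (k : MulAut P) y = ⟨u, hUP hu⟩ * y * (⟨u, hUP hu⟩ : P)⁻¹ from
      Subtype.ext (huv y), map_mul, map_mul, map_inv]
    rfl⟩
  have hκu : κ ∈ autInducedBy U P := by
    let π := QuotientGroup.mk' N
    set g' : A := ⟨γ, hγ⟩
    set k' : A := ⟨κ, hκF⟩
    set x' : A := ⟨x, hxF⟩
    have hcomm : π g' * π k' = π k' * π g' := by
      have hmem : k'⁻¹ * (g' * k' * g'⁻¹) ∈ N := by
        refine Subgroup.mem_subgroupOf.2 ((mem_autInducedBy_iff U P _).2 ⟨z₀, hz₀U, fun z => ?_⟩)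
        obtain ⟨y, rfl⟩ := γ.surjective z
        show ((κ⁻¹ (γ (κ (γ⁻¹ (γ y)))) : P) : Ω) = _
        rw [MulAut.inv_apply_self]
        have h1 := hcv (κ⁻¹ (γ (κ y)))
        rw [MulAut.apply_inv_self, hγv, hcv y, hDm.map_conj hcW (hPW₁ y.2)] at h1
        rw [hγv, hz₀]
        calc ((κ⁻¹ (γ (κ y)) : P) : Ω) = c⁻¹ * (c * ((κ⁻¹ (γ (κ y)) : P) : Ω) * c⁻¹) * c := by
              group
          _ = _ := by rw [← h1]; group
      have h1 : π (k'⁻¹ * (g' * k' * g'⁻¹)) = 1 := (QuotientGroup.eq_one_iff _).2 hmem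
      simp only [map_mul, map_inv] at h1
      rw [inv_mul_eq_one] at h1
      conv_rhs => rw [h1]
      rw [inv_mul_cancel_right]
    have hxk : k' = x'⁻¹ * g' := Subtype.ext hκ
    have hc2 : Commute (π x')⁻¹ (π g') := by
      have e : (π x')⁻¹ = π k' * (π g')⁻¹ := by rw [hxk, map_mul, map_inv, mul_inv_cancel_right]
      rw [e]
      show π k' * (π g')⁻¹ * π g' = π g' * (π k' * (π g')⁻¹)
      rw [inv_mul_cancel_right, ← mul_assoc, hcomm, mul_inv_cancel_right]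
    have hn : π k' ^ (orderOf x * orderOf γ) = 1 := by
      rw [hxk, map_mul, map_inv, hc2.mul_pow, inv_pow, ← map_pow, ← map_pow,
        show x' ^ (orderOf x * orderOf γ) = 1 from Subtype.ext (by
          show x ^ (orderOf x * orderOf γ) = 1
          rw [pow_mul, pow_orderOf_eq_one, one_pow]),
        show g' ^ (orderOf x * orderOf γ) = 1 from Subtype.ext (by
          show γ ^ (orderOf x * orderOf γ) = 1
          rw [mul_comm, pow_mul, pow_orderOf_eq_one, one_pow]), map_one, inv_one, one_mul]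
    obtain ⟨j, hj⟩ := MeetExt.isPGroup_modSub h.pgroup hPS ⟨κ, hκmod⟩
    have hk : π k' ^ p ^ j = 1 := by
      rw [← map_pow, show k' ^ p ^ j = 1 from Subtype.ext (show κ ^ p ^ j = 1 from
        congrArg Subtype.val hj), map_one]
    exact Subgroup.mem_subgroupOf.1 ((QuotientGroup.eq_one_iff k').1
      (NormalCentralizer.eq_one_of_coprime_pow ((Nat.Coprime.mul_left hxo hγo).pow_right j) hn hk))
  obtain ⟨u, hu, huv⟩ := (mem_autInducedBy_iff U P κ).1 hκu
  have huP := hUP hu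
  -- the corrected map
  refine ⟨fun w => autFun D (u⁻¹ * w * u), ?_, fun y hy => ?_, fun w hw => ?_⟩
  · have hwW : ∀ w ∈ W, u⁻¹ * w * u⁻¹⁻¹ ∈ W₁ := fun w hw => Subgroup.mul_mem _ (Subgroup.mul_mem _
      (Subgroup.inv_mem _ (hUW hu)) (Subgroup.mem_sup_left hw)) (by rw [inv_inv]; exact hUW hu)
    refine ((isMap_conj (F := F) hWS (S.inv_mem (hUS hu))).comp hDm hwW).congr fun w hw => ?_
    show autFun D (u⁻¹ * w * u⁻¹⁻¹) = _
    rw [inv_inv]
  · set y' : P := κ⁻¹ ⟨y, hy⟩ with hy'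
    have e : u⁻¹ * y * u = (y' : Ω) := by
      have h1 := huv y'
      rw [hy', MulAut.apply_inv_self] at h1
      change y = _ at h1
      rw [hy']
      conv_lhs => rw [h1]
      group
    show autFun D (u⁻¹ * y * u) = _
    rw [e, ← hγv y', autFun_apply x hy, hy']
    have e2 : γ = x * κ := by rw [hκ, mul_inv_cancel_left]
    rw [e2, MulAut.mul_apply, MulAut.apply_inv_self]
  · show w⁻¹ * autFun D (u⁻¹ * w * u) ∈ T
    have huW₁ := hUW hu
    have hwW₁ : w ∈ W₁ := Subgroup.mem_sup_left hw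
    rw [hDm.map_mul (W₁.mul_mem (W₁.inv_mem huW₁) hwW₁) huW₁,
      hDm.map_mul (W₁.inv_mem huW₁) hwW₁, hDm.map_inv huW₁,
      show w⁻¹ * ((autFun D u)⁻¹ * autFun D w * autFun D u) =
        w⁻¹ * (autFun D u)⁻¹ * w⁻¹⁻¹ * (w⁻¹ * autFun D w) * autFun D u by group]
    have hDu : autFun D u ∈ T := isMap_mem_of_stronglyClosed hI.2.1 hDm huW₁ (hUT hu)
    exact T.mul_mem (T.mul_mem (h.normT (S.inv_mem (hWS hw)) (T.inv_mem hDu)) (hWmod w hw)) hDu

/-- The extension, for the subgroups with largest normaliser in `T`. -/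
theorem ext_tMax (hP : TMax F T P) (hUc : E.IsCentric (P ⊓ T)) {x : MulAut P}
    (hx : x ∈ Gam F E P) (hxo : (orderOf x).Coprime p) {W : Subgroup Ω} (hPW : P ≤ W)
    (hWN : W ≤ normalizerIn S P)
    (hxW : ∀ w ∈ W, ∃ w' ∈ W, ∀ y ∈ P, autFun x (w * y * w⁻¹) = w' * autFun x y * w'⁻¹) :
    ∃ δ, IsMap F W δ ∧ (∀ y ∈ P, δ y = autFun x y) ∧ ∀ w ∈ W, w⁻¹ * δ w ∈ T := by
  have hI := h.inv
  obtain ⟨P', k, hk, hki, hkN, hfn, hfn', honto⟩ := hP.exists_pair h.pgroup h.sat hI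
  have hPN : P ≤ normalizerIn S P := le_normalizerIn hP.1
  have := finite_of_le hP.1
  obtain ⟨W', hW'⟩ := (hk.mono hWN).exists_iso
  have hW'N : W' ≤ normalizerIn S P' := fun y hy => by
    obtain ⟨w, hw, rfl⟩ := hW'.surj hy
    exact hkN w (hWN hw)
  have hPW' : P' ≤ W' := fun y hy => by
    obtain ⟨z, hz, rfl⟩ := hki.surj hy
    exact hW'.mem (hPW hz)
  obtain ⟨δ, hδ, hδP, hδT⟩ := h.ext_pair hfn hfn' (centric_transport hI hki hUc)
    (gam_transport hI hki hx) (by rwa [MulEquiv.orderOf_eq]) hPW' hW'N fun y hy => by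
      obtain ⟨w, hw, rfl⟩ := hW'.surj hy
      obtain ⟨w', hw', hv⟩ := hxW w hw
      refine ⟨k w', hW'.mem hw', fun z hz => ?_⟩
      obtain ⟨v, hv', rfl⟩ := hki.surj hz
      have hc := conj_mem_of_mem_normalizer (hWN hw).2 hv'
      rw [← hk.map_conj (hWN hw) (hPN hv'), ← Meet.congr_autFun hki x hv',
        ← Meet.congr_autFun hki x hc, hv v hv',
        hk.map_conj (hWN hw') (hPN (autFun_mem x hv'))]
  obtain ⟨N', hN'⟩ := hk.exists_iso
  obtain ⟨r, hr, hr1, -⟩ := hN'.exists_symm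
  -- values come back
  have hP'fix : IsIso F P' P' δ := ((mem_autGroup_iff hfn.1 _).1
    (gam_le P' (gam_transport hI hki hx))).congr fun y hy => (hδP y hy).symm
  have hback : ∀ w ∈ W, ∃ t₀ ∈ normalizerIn T P, δ (k w) = k (w * t₀) := by
    intro w hw
    have hy := hW'.mem hw
    have ht : (k w)⁻¹ * δ (k w) ∈ normalizerIn T P' := ⟨hδT _ hy,
      Subgroup.mul_mem _ (Subgroup.inv_mem _ (hkN w (hWN hw)).2)
        (hδ.mem_normalizerIn hPW' hP'fix hy (hkN w (hWN hw)).2).2⟩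
    obtain ⟨t₀, ht₀, he⟩ := honto _ ht
    refine ⟨t₀, ht₀, ?_⟩
    rw [hk.map_mul (hWN hw) ⟨h.TS ht₀.1, ht₀.2⟩, he, mul_inv_cancel_left]
  have hδW : ∀ w ∈ W, δ (k w) ∈ N' := fun w hw => by
    obtain ⟨t₀, ht₀, he⟩ := hback w hw
    rw [he]
    exact hN'.mem (Subgroup.mul_mem _ (hWN hw) ⟨h.TS ht₀.1, ht₀.2⟩)
  refine ⟨r ∘ (δ ∘ k), ((hk.mono hWN).comp hδ fun w hw => hW'.mem hw).comp hr.isMap hδW,
    fun y hy => ?_, fun w hw => ?_⟩
  · show r (δ (k y)) = _
    rw [hδP _ (hki.mem hy), ← Meet.congr_autFun hki x hy, hr1 _ (hPN (autFun_mem x hy))]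
  · obtain ⟨t₀, ht₀, he⟩ := hback w hw
    show w⁻¹ * r (δ (k w)) ∈ T
    rw [he, hr1 _ (Subgroup.mul_mem _ (hWN hw) ⟨h.TS ht₀.1, ht₀.2⟩), inv_mul_cancel_left]
    exact ht₀.1

end Data

end CfsgLib.Fusion.Supplement
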