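import Cfsg.Agent.Lib.Fusion.SupplementSaturated
import Cfsg.Agent.Lib.Fusion.StrongInvariance

/-!
Every map of `F` is an isomorphism between subgroups above `T` after a map of the product of `E`
with such a subgroup; hence the products are invariant under the maps of `F` respecting them.
-/

set_option autoImplicit false
set_option linter.unusedSectionVars false
set_option linter.style.haveILetI false

namespace CfsgLib.Fusion.Supplement

open Cfsg Cfsg.FusionSystem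
open CfsgLib.Fusion.NormalCentralizer

variable {Ω : Type*} [Group Ω] {S T R R' : Subgroup Ω} {F : FusionSystem S} {E : FusionSystem T}
variable {p : ℕ} [Fact p.Prime] [Finite S]

/-- `f` on `P` is an isomorphism from `R` to `R'` after a map of the product over `R`. -/
def Fac (F : FusionSystem S) (E : FusionSystem T) (p : ℕ) [Fact p.Prime] [Finite S]
    (R R' P : Subgroup Ω) (f : Ω → Ω) : Prop :=
  ∃ (a d : Ω → Ω) (h : Setting F p E R), IsIso F R R' a ∧ IsMap h.sys P d ∧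
    ∀ x ∈ P, f x = a (d x)

theorem Fac.mono {P Q : Subgroup Ω} {f : Ω → Ω} (h : Fac F E p R R' Q f) (hPQ : P ≤ Q) :
    Fac F E p R R' P f := by
  obtain ⟨a, d, hR, ha, hd, hv⟩ := h
  exact ⟨a, d, hR, ha, hd.mono hPQ, fun x hx => hv x (hPQ hx)⟩

theorem Fac.congr {P : Subgroup Ω} {f g : Ω → Ω} (h : Fac F E p R R' P f)
    (hfg : ∀ x ∈ P, f x = g x) : Fac F E p R R' P g := by
  obtain ⟨a, d, hR, ha, hd, hv⟩ := h
  exact ⟨a, d, hR, ha, hd, fun x hx => (hfg x hx).symm.trans (hv x hx)⟩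

namespace Setting

/-- Maps of the products are carried along isomorphisms of their supports. -/
theorem pull (h : Setting F p E R) (h' : Setting F p E R') {a r : Ω → Ω} (ha : IsIso F R R' a)
    (hr : IsIso F R' R r) (h1 : ∀ x ∈ R, r (a x) = x) (h2 : ∀ y ∈ R', a (r y) = y)
    {Q : Subgroup Ω} {e : Ω → Ω} (he : IsMap h'.sys Q e) {P : Subgroup Ω}
    (hP : IsIso F Q P r) : IsMap h.sys P (r ∘ e ∘ a) := by
  let M : Subgroup Ω → (Ω → Ω) → Prop := fun Q e => IsMap h'.sys Q e ∧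
    ∀ P, IsIso F Q P r → IsMap h.sys P (r ∘ e ∘ a)
  have hback : ∀ {Q P : Subgroup Ω}, IsIso F Q P r → Q ≤ R' → ∀ x ∈ P, x ∈ R ∧ a x ∈ Q := by
    intro Q P hP hQ x hx
    obtain ⟨y, hy, rfl⟩ := hP.surj hx
    exact ⟨hr.mem (hQ hy), by rwa [h2 y (hQ hy)]⟩
  have hM : PPrime.IsSubPred h'.sys M :=
    { isMap := fun h => h.1
      congr := fun {Q e e'} he hv => ⟨he.1.congr hv, fun P hP => (he.2 P hP).congr fun x hx => by
        show r (e (a x)) = r (e' (a x))
        rw [hv _ (hback hP he.1.le x hx).2]⟩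
      conj := fun {Q t} hQ ht => ⟨isMap_conj hQ ht, fun P hP => by
        have hPR : P ≤ R := fun x hx => (hback hP hQ x hx).1
        refine (isMap_conj hPR (hr.mem ht)).congr fun x hx => ?_
        show r t * x * (r t)⁻¹ = r (t * a x * t⁻¹)
        rw [hr.isMap.map_conj ht (hQ (hback hP hQ x hx).2), h1 x (hPR hx)]⟩
      comp := fun {P₁ Q₁ f g} hf hg hm => by
        refine ⟨hf.1.comp hg.1 hm, fun P hP => ?_⟩
        obtain ⟨P₂, hP₂⟩ := (hr.isMap.mono hg.1.le).exists_iso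
        refine ((hf.2 P hP).comp (hg.2 P₂ hP₂) fun x hx =>
          hP₂.mem (hm _ (hback hP hf.1.le x hx).2)).congr fun x hx => ?_
        show r (g (a (r (f (a x))))) = r (g (f (a x)))
        rw [h2 _ (hf.1.mem (hback hP hf.1.le x hx).2)]
      inv := fun {P₁ Q₁ f s} hf hi hs hs1 => by
        refine ⟨hs.isMap, fun P₂ hP₂ => ?_⟩
        obtain ⟨P, hP⟩ := (hr.isMap.mono hi.le_left).exists_iso
        have hk : IsIso h.sys P P₂ (r ∘ f ∘ a) := ⟨hf.2 P hP, by
          rw [← hP.image_eq, ← hP₂.image_eq, ← hi.image_eq, Set.image_image, Set.image_image]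
          exact Set.image_congr fun x hx => by
            show r (f (a (r x))) = r (f x)
            rw [h2 x (hi.le_left hx)]⟩
        obtain ⟨k, hk', hk1, -⟩ := hk.exists_symm
        refine hk'.isMap.congr fun x hx => ?_
        obtain ⟨q, hq, rfl⟩ := hP₂.surj hx
        obtain ⟨w, hw, rfl⟩ := hi.surj hq
        have h3 := hk1 _ (hP.mem hw)
        simp only [Function.comp] at h3
        rw [h2 w (hi.le_left hw)] at h3
        show k (r (f w)) = r (s (a (r (f w))))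
        rw [h3, h2 _ (hi.le_right (hi.mem hw)), hs1 w hw] }
  have hle : h'.sys.IsSubsystemOf (PPrime.ofPred h'.sys M hM) := h'.sys_le fun Q α hα => by
    have hQ := hα.1.1
    refine mem_autGroup_of_isMap ((PPrime.isMap_ofPred hM).2
      ⟨((mem_autGroup_iff hQ α).1 (h'.mem_sys hα)).isMap, fun P hP => ?_⟩) α
      fun x => (autFun_coe α x).symm
    have hPR : P ≤ R := fun x hx => (hback hP hQ x hx).1
    refine ((mem_autGroup_iff hPR _).1 (h.mem_sys ⟨⟨hPR, centric_transport h.inv hP hα.1.2⟩, gam_transport h.inv hP hα.2.1,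
      by rw [MulEquiv.orderOf_eq]; exact hα.2.2⟩)).isMap.congr
      fun x hx => ?_
    obtain ⟨y, hy, rfl⟩ := hP.surj hx
    show autFun _ (r y) = r (autFun α (a (r y)))
    rw [h2 y (hQ hy), Meet.congr_autFun hP α hy]
  exact ((PPrime.isMap_ofPred hM).1 (isMap_of_subsystem hle he)).2 P hP

end Setting

theorem Fac.comp {R'' : Subgroup Ω} {P Q : Subgroup Ω} {f g : Ω → Ω}
    (hf : Fac F E p R R' P f) (hg : Fac F E p R' R'' Q g) (hm : ∀ x ∈ P, f x ∈ Q) :
    Fac F E p R R'' P (g ∘ f) := by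
  obtain ⟨a, d, h, ha, hd, hv⟩ := hf
  obtain ⟨b, e, h', hb, he, hw⟩ := hg
  obtain ⟨r, hr, h1, h2⟩ := ha.exists_symm
  obtain ⟨P₀, hP₀⟩ := (hr.isMap.mono he.le).exists_iso
  refine ⟨b ∘ a, (r ∘ e ∘ a) ∘ d, h, ha.comp hb,
    hd.comp (h.pull h' ha hr h1 h2 he hP₀) fun x hx => ?_, fun x hx => ?_⟩
  · have h3 := hP₀.mem (hm x hx)
    rwa [hv x hx, h1 _ (hd.mem hx)] at h3
  · show g (f x) = b (a (r (e (a (d x)))))
    rw [hw _ (hm x hx), hv x hx, h2 _ (he.mem (hv x hx ▸ hm x hx))]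

namespace Data

variable (h : Data F p E)
include h

theorem setting {P : Subgroup Ω} (hP : P ≤ S) : Setting F p E (T ⊔ P) :=
  { h with TR := le_sup_left, RS := sup_le h.TS hP }

theorem fac_of_iso {P : Subgroup Ω} {f : Ω → Ω} (hTP : T ≤ P) {Q : Subgroup Ω}
    (hf : IsIso F P Q f) : Fac F E p (T ⊔ P) (T ⊔ Q) P f := by
  have hTQ : T ≤ Q := fun t ht => by
    have : Finite T := finite_of_le h.TS
    obtain ⟨u, hu, rfl⟩ := ((hf.isMap.mono hTP).isIso_of_card_le (B := T) (fun x hx =>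
      isMap_mem_of_stronglyClosed h.inv.2.1 hf.isMap (hTP hx) hx) le_rfl).surj ht
    exact hf.mem (hTP hu)
  refine ⟨f, id, h.setting hf.le_left, ?_, isMap_id le_sup_right, fun x _ => rfl⟩
  rwa [sup_eq_right.2 hTP, sup_eq_right.2 hTQ]

/-- Enlarging by elements of `T`. -/
theorem sup_image {P Q V B : Subgroup Ω} {g : Ω → Ω} (hV : V ≤ T)
    (hB : IsIso F (P ⊔ V) B g) (hg : IsIso F P Q g) : T ⊔ B = T ⊔ Q := by
  refine le_antisymm (sup_le le_sup_left fun y hy => ?_) (sup_le_sup_left (fun y hy => ?_) T)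
  · obtain ⟨x, hx, rfl⟩ := hB.surj hy
    exact mem_of_mem_sup hB.isMap le_sup_left le_sup_right
      (fun z hz => Subgroup.mem_sup_right (hg.mem hz))
      (fun z hz => Subgroup.mem_sup_left
        (isMap_mem_of_stronglyClosed h.inv.2.1 hB.isMap (Subgroup.mem_sup_right hz) (hV hz))) x hx
  · obtain ⟨x, hx, rfl⟩ := hg.surj hy
    exact hB.mem (Subgroup.mem_sup_left hx)

theorem card_inf_eq {P Q : Subgroup Ω} {f : Ω → Ω} (hf : IsIso F P Q f) :
    Nat.card ↥(P ⊓ T) = Nat.card ↥(Q ⊓ T) :=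
  (iso_inf h.inv hf).card_eq.symm

theorem card_inf_lt {P V : Subgroup Ω} (hP : P ≤ S) (hV : V ≤ T) (hne : ∃ x ∈ V, x ∉ P) :
    Nat.card ↥(P ⊓ T) < Nat.card ↥((P ⊔ V) ⊓ T) := by
  obtain ⟨x, hx, hxP⟩ := hne
  have := finite_of_le (S := S) (P := (P ⊔ V) ⊓ T) (inf_le_right.trans h.TS)
  refine SatExtend.card_lt_card (S := (P ⊔ V) ⊓ T) le_rfl ?_
  exact lt_of_le_of_ne (inf_le_inf_right T le_sup_left) fun e =>
    hxP (e.ge ⟨Subgroup.mem_sup_right hx, hV hx⟩).1

set_option maxHeartbeats 1000000 in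
/-- The factorisation. -/
theorem fac : ∀ {P Q : Subgroup Ω} {f : Ω → Ω}, IsIso F P Q f →
    Fac F E p (T ⊔ P) (T ⊔ Q) P f := by
  have hI := h.inv
  have hTS := h.TS
  have : Finite T := finite_of_le hTS
  suffices H : ∀ (n : ℕ) (P Q : Subgroup Ω) (f : Ω → Ω), Nat.card T - Nat.card ↥(P ⊓ T) = n →
      IsIso F P Q f → Fac F E p (T ⊔ P) (T ⊔ Q) P f from fun {P Q f} hf => H _ _ _ _ rfl hf
  intro n
  induction n using Nat.strong_induction_on with
  | _ n ih =>
  intro P Q f hn hf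
  by_cases hTP : T ≤ P
  · exact h.fac_of_iso hTP hf
  have hPS := hf.le_left
  -- maps defined on more of `T`
  have hbig : ∀ (Z Z' V : Subgroup Ω) (g : Ω → Ω), Nat.card ↥(Z ⊓ T) = Nat.card ↥(P ⊓ T) →
      Z ≤ S → V ≤ T → (∃ x ∈ V, x ∉ Z) → IsMap F (Z ⊔ V) g → IsIso F Z Z' g →
      Fac F E p (T ⊔ Z) (T ⊔ Z') Z g ∧
      ∀ r : Ω → Ω, IsIso F Z' Z r → (∀ x ∈ Z, r (g x) = x) →
        Fac F E p (T ⊔ Z') (T ⊔ Z) Z' r := by
    intro Z Z' V g hcard hZS hV hne hg hgi
    obtain ⟨B, hB⟩ := hg.exists_iso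
    have hlt : Nat.card T - Nat.card ↥((Z ⊔ V) ⊓ T) < n := by
      have h1 := h.card_inf_lt hZS hV hne
      have h2 : Nat.card ↥((Z ⊔ V) ⊓ T) ≤ Nat.card T := Subgroup.card_le_of_le inf_le_right
      omega
    have e1 : T ⊔ (Z ⊔ V) = T ⊔ Z := by rw [← sup_assoc, sup_right_comm, sup_eq_left.2 hV]
    have e2 := h.sup_image hV hB hgi
    refine ⟨?_, fun r hr hr1 => ?_⟩
    · have h1 := ih _ hlt _ _ g rfl hB
      rw [e1, e2] at h1
      exact h1.mono le_sup_left
    · obtain ⟨s, hs, hs1, -⟩ := hB.exists_symm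
      have h1 := ih _ (h.card_inf_eq hB ▸ hlt) _ _ s rfl hs
      rw [e1, e2] at h1
      refine (h1.mono fun y hy => ?_).congr fun y hy => ?_
      · obtain ⟨x, hx, rfl⟩ := hgi.surj hy
        exact hB.mem (Subgroup.mem_sup_left hx)
      · obtain ⟨x, hx, rfl⟩ := hgi.surj hy
        rw [hs1 x (Subgroup.mem_sup_left hx), hr1 x hx]
  -- a fully normalised pair
  obtain ⟨Z, k, hk, hki, -, hZfn, hUfn⟩ := exists_fn_pair h.pgroup h.sat hI hPS
  have hZS := hZfn.1
  obtain ⟨k₂, hk₂, hk₂i, -, -⟩ := exists_map_normalizerIn h.pgroup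
    (isFullyAutomized_of_isFullyNormalized h.pgroup h.sat hZfn)
    (isReceptive_of_isFullyNormalized h.pgroup h.sat hZfn)
    (isConj_trans (isConj_symm hf.isConj) hki.isConj)
  have hcZ := (h.card_inf_eq hki).symm
  have hcQ := (h.card_inf_eq hf).symm
  have hmove : ∀ {A : Subgroup Ω}, A ≤ S → Nat.card ↥(A ⊓ T) = Nat.card ↥(P ⊓ T) →
      ∃ x ∈ normalizerIn T A, x ∉ A := by
    intro A hA hc
    obtain ⟨t, ht, htn, htA⟩ := exists_moving h.pgroup hA hTS
      (fun m hm => mem_normalizer_of_conj_mem hTS fun z hz => h.normT (hA hm) hz)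
      fun hle => hTP (by
        have : Finite ↥(P ⊓ T) := finite_of_le (S := T) inf_le_right
        rw [inf_eq_right.2 hle] at hc
        exact (Subgroup.eq_of_le_of_card_ge inf_le_right hc.le).ge.trans inf_le_left)
    exact ⟨t, ⟨ht, htn⟩, htA⟩
  have hNle : ∀ {A : Subgroup Ω}, A ≤ S → A ⊔ normalizerIn T A ≤ normalizerIn S A := fun hA =>
    sup_le (le_normalizerIn hA) (inf_le_inf_right _ hTS)
  have h₁ := (hbig P Z _ k rfl hPS inf_le_left (hmove hPS rfl) (hk.mono (hNle hPS)) hki).1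
  obtain ⟨r₂, hr₂, hr₂1, -⟩ := hk₂i.exists_symm
  have h₃ := (hbig Q Z _ k₂ hcQ hf.le_right inf_le_left (hmove hf.le_right hcQ)
    (hk₂.mono (hNle hf.le_right)) hk₂i).2 r₂ hr₂ hr₂1
  obtain ⟨r₁, hr₁, hr₁1, -⟩ := hki.exists_symm
  obtain ⟨γ, hγ, hγv⟩ := exists_mem_autGroup ((hr₁.comp hf).comp hk₂i)
  -- automorphisms of `Z`
  have := finite_of_le hZS
  have := finite_mulAut Z
  have hext : ∀ (g : MulAut Z), g ∈ F.autGroup Z → ∀ V : Subgroup Ω, V ≤ normalizerIn T Z →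
      (∃ x ∈ V, x ∉ Z) → (∀ t ∈ V, ∃ s ∈ S, ∀ y ∈ Z,
        autFun g (t * y * t⁻¹) = s * autFun g y * s⁻¹) →
      Fac F E p (T ⊔ Z) (T ⊔ Z) Z (autFun g) := by
    intro g hg V hV hne hind
    have hgi := (mem_autGroup_iff hZS g).1 hg
    obtain ⟨g', hg', hg'v⟩ := (isReceptive_iff.1
      (isReceptive_of_isFullyNormalized h.pgroup h.sat hZfn)).2 Z _ hgi
    have hdom : Z ⊔ V ≤ nPhi S Z (autFun g) := sup_le (le_nPhi hgi.isMap) fun t ht =>
      ⟨hTS (hV ht).1, (hV ht).2, hind t ht⟩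
    exact ((hbig Z Z V g' hcZ hZS (hV.trans inf_le_left) hne (hg'.mono hdom)
      (hgi.congr fun x hx => (hg'v x hx).symm)).1).congr hg'v
  have h₂ : Fac F E p (T ⊔ Z) (T ⊔ Z) Z (autFun γ) := by
    set U := Z ⊓ T with hU
    have hUS : U ≤ S := inf_le_left.trans hZS
    have hZU : Z ≤ normalizerIn S U :=
      (le_normalizerIn hZS).trans (normalizerIn_le_normalizerIn_inf (p := p) hI hZS)
    by_cases hC : centralizerIn T U ≤ Z
    swap
    · -- the centraliser of the trace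
      obtain ⟨c, hc, hcn, hcZ'⟩ := exists_moving h.pgroup hZS
        (inf_le_left.trans hTS : centralizerIn T U ≤ S) (fun m hm =>
          mem_normalizer_of_conj_mem (inf_le_left.trans hTS) fun z hz =>
            ⟨h.normT (hZS hm) hz.1, (NormalCentralizer.mem_centralizerIn_conj (hZU hm)
              ⟨hTS hz.1, hz.2⟩).2⟩) hC
      set G := F.autGroup Z
      set K := (MeetExt.modSub U Z).subgroupOf G
      have hUst : ∀ a ∈ G, ∀ z : Z, (z : Ω) ∈ U → (a z : Ω) ∈ U := fun a ha z hz =>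
        ⟨(a z).2, by
          rw [← autFun_coe a z]
          exact isMap_mem_of_stronglyClosed hI.2.1 ((mem_autGroup_iff hZS a).1 ha).isMap z.2 hz.2⟩
      haveI hKn : K.Normal := ⟨fun k hk a => by
        obtain ⟨hk1, hk2⟩ := Subgroup.mem_subgroupOf.1 hk
        refine Subgroup.mem_subgroupOf.2
          ⟨MeetExt.conj_fixSub (fun z hz => hUst _ (G.inv_mem a.2) z hz) hk1, fun z => ?_⟩
        obtain ⟨y, rfl⟩ := (a : MulAut Z).surjective z
        show ((a : MulAut Z) y : Ω)⁻¹ * _ ∈ U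
        have e : ((a * k * a⁻¹ : G) : MulAut Z) ((a : MulAut Z) y) =
            (a : MulAut Z) y * (a : MulAut Z) (y⁻¹ * (k : MulAut Z) y) := by
          rw [Subgroup.coe_mul, Subgroup.coe_mul, Subgroup.coe_inv, MulAut.mul_apply,
            MulAut.mul_apply, MulAut.inv_apply_self, ← map_mul, mul_inv_cancel_left]
        rw [e, Subgroup.coe_mul, inv_mul_cancel_left]
        exact hUst _ a.2 _ (hk2 y)⟩
      obtain ⟨-, D, hD⟩ := isFullyAutomized_of_isFullyNormalized h.pgroup h.sat hZfn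
      have hKp : IsPGroup p K := ((MeetExt.isPGroup_modSub h.pgroup hZS).comap_subtype)
      obtain ⟨D', hD'⟩ := hKp.exists_le_sylow
      obtain ⟨l, hl⟩ := MulAction.exists_smul_eq G D' D
      have hKS : ∀ k ∈ K, (k : MulAut Z) ∈ autInducedBy S Z := fun k hk => by
        have h1 : k ∈ (D : Subgroup G) := by
          rw [← hl, Sylow.coe_subgroup_smul, Subgroup.mem_pointwise_smul_iff_inv_smul_mem]
          exact hD' (by simpa [mul_assoc] using hKn.conj_mem k hk l⁻¹)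
        rw [hD] at h1
        exact Subgroup.mem_subgroupOf.1 h1
      refine hext γ hγ (centralizerIn T U ⊓ Subgroup.normalizer (Z : Set Ω))
        (fun x hx => ⟨hx.1.1, hx.2⟩) ⟨c, ⟨hc, hcn⟩, hcZ'⟩ fun t ht => ?_
      have htF : conjAut Z ht.2 ∈ G :=
        autInducedBy_le_autGroup hZS (conjAut_mem_autInducedBy ht.2 (hTS ht.1.1))
      have htK : (⟨_, htF⟩ : G) ∈ K := Subgroup.mem_subgroupOf.2 ⟨fun z hz => Subtype.ext (by
        rw [conjAut_apply]
        exact conj_eq_self_of_mem_centralizer ht.1.2 hz), fun z => by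
        rw [conjAut_apply]
        refine ⟨Z.mul_mem (Z.inv_mem z.2) (conj_mem_of_mem_normalizer ht.2 z.2), ?_⟩
        rw [show (z : Ω)⁻¹ * (t * (z : Ω) * t⁻¹) = (z : Ω)⁻¹ * t * (z : Ω)⁻¹⁻¹ * t⁻¹ by group]
        exact T.mul_mem (h.normT (S.inv_mem (hZS z.2)) ht.1.1) (T.inv_mem ht.1.1)⟩
      obtain ⟨s, hs, hsv⟩ := (mem_autInducedBy_iff S Z _).1
        (hKS _ (hKn.conj_mem _ htK ⟨γ, hγ⟩))
      refine ⟨s, hs, fun y hy => ?_⟩
      have h1 := hsv (γ ⟨y, hy⟩)
      simp only [Subgroup.coe_mul, Subgroup.coe_inv, MulAut.mul_apply, MulAut.inv_apply_self] at h1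
      rw [autFun_apply γ hy, ← h1,
        autFun_apply γ (conj_mem_of_mem_normalizer ht.2 hy)]
      rfl
    -- centric trace
    have hUc : E.IsCentric U := ⟨inf_le_right, fun U' hU' => by
      obtain ⟨g, hg, hgi, -, hgC⟩ := exists_map_normalizerIn h.pgroup
        (isFullyAutomized_of_isFullyNormalized h.pgroup h.sat hUfn)
        (isReceptive_of_isFullyNormalized h.pgroup h.sat hUfn)
        (isConj_symm (isConj_of_subsystem hI.1 hU'))
      intro x hx
      have hxN := centralizerIn_le_normalizerIn S U' ⟨hTS hx.1, hx.2⟩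
      have hgx : g x ∈ centralizerIn T U :=
        ⟨isMap_mem_of_stronglyClosed hI.2.1 hg hxN hx.1, (hgC x ⟨hTS hx.1, hx.2⟩).2⟩
      obtain ⟨u, hu, hue⟩ := hgi.surj (⟨hC hgx, hgx.1⟩ : g x ∈ U)
      exact hg.injOn (le_normalizerIn hgi.le_left hu) hxN hue ▸ hu⟩
    set J := autInducedBy T Z ⊔ Oc F E p Z with hJ
    have hJF : J ≤ F.autGroup Z := sup_le
      ((autInducedBy_mono hTS Z).trans (autInducedBy_le_autGroup hZS))
      ((oc_le Z).trans (gam_le Z))
    have hJn : ∀ g ∈ F.autGroup Z, ∀ a ∈ J, g * a * g⁻¹ ∈ J := fun g hg =>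
      (sup_le (fun u hu => h.conj_mem_join hZfn hg hu)
        fun o ho => Subgroup.mem_sup_right (oc_conj hI hZS hg ho) :
        J ≤ J.comap (MulAut.conj g).toMonoidHom)
    have hJS : ∀ a ∈ J, a ∈ autInducedBy S Z → a ∈ autInducedBy T Z := by
      intro a ha haS
      have hn : autInducedBy T Z ≤ Subgroup.normalizer (Oc F E p Z : Set (MulAut Z)) :=
        fun u hu => Subgroup.mem_normalizer_fintype fun b hb => oc_conj hI hZS
          (autInducedBy_le_autGroup hZS (autInducedBy_mono hTS Z hu)) hb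
      have ha' : a ∈ ((autInducedBy T Z ⊔ Oc F E p Z : Subgroup _) : Set (MulAut Z)) := ha
      rw [Subgroup.coe_mul_of_left_le_normalizer_right _ _ hn] at ha'
      obtain ⟨u, hu, o, ho, rfl⟩ := ha'
      refine Subgroup.mul_mem _ hu (h.oc_inf_le_pair hZfn hUfn hUc ⟨ho, ?_⟩)
      have h1 := Subgroup.mul_mem _ (Subgroup.inv_mem _ (autInducedBy_mono hTS Z hu)) haS
      rwa [inv_mul_cancel_left] at h1
    obtain ⟨-, D, hD⟩ := isFullyAutomized_of_isFullyNormalized h.pgroup h.sat hZfn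
    set K := J.subgroupOf (F.autGroup Z)
    haveI : K.Normal := ⟨fun b hb g => hJn g g.2 _ hb⟩
    obtain ⟨SK, hSK⟩ := SatExtend.exists_sylow_inf D K
    have hgt : (⟨γ, hγ⟩ : F.autGroup Z) ∈ Subgroup.normalizer
        (((SK : Subgroup K).map K.subtype : Subgroup _) : Set (F.autGroup Z)) ⊔ K := by
      rw [Sylow.normalizer_sup_eq_top]
      exact Subgroup.mem_top _
    obtain ⟨m, hm, b, hb, hmb⟩ := Subgroup.mem_sup_of_normal_right.1 hgt
    have hm' : Fac F E p (T ⊔ Z) (T ⊔ Z) Z (autFun (m : MulAut Z)) := by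
      obtain ⟨x, hx, hxZ⟩ := hmove hZS hcZ
      refine hext _ m.2 _ le_rfl ⟨x, hx, hxZ⟩ fun t ht => ?_
      have htT : conjAut Z ht.2 ∈ autInducedBy T Z := conjAut_mem_autInducedBy ht.2 ht.1
      have htJ : conjAut Z ht.2 ∈ J := Subgroup.mem_sup_left htT
      have hmem : (⟨_, hJF htJ⟩ : F.autGroup Z) ∈ (SK : Subgroup K).map K.subtype := by
        refine ⟨⟨_, Subgroup.mem_subgroupOf.2 htJ⟩, ?_, rfl⟩
        rw [SetLike.mem_coe, hSK, Subgroup.mem_subgroupOf, hD, Subgroup.mem_subgroupOf]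
        exact autInducedBy_mono hTS Z htT
      obtain ⟨z, hz, hze⟩ := (Subgroup.mem_normalizer_iff.1 hm _).1 hmem
      rw [SetLike.mem_coe, hSK, Subgroup.mem_subgroupOf, hD, Subgroup.mem_subgroupOf] at hz
      obtain ⟨s, hs, hsv⟩ := (mem_autInducedBy_iff S Z _).1 hz
      refine ⟨s, hs, fun y hy => ?_⟩
      have e : ((z : F.autGroup Z) : MulAut Z) =
          (m : MulAut Z) * conjAut Z ht.2 * (m : MulAut Z)⁻¹ :=
        congrArg (fun w : F.autGroup Z => (w : MulAut Z)) hze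
      have h1 := hsv ((m : MulAut Z) ⟨y, hy⟩)
      simp only [e, MulAut.mul_apply, MulAut.inv_apply_self] at h1
      rw [autFun_apply _ hy, ← h1, autFun_apply _ (conj_mem_of_mem_normalizer ht.2 hy)]
      rfl
    have hb' : Fac F E p (T ⊔ Z) (T ⊔ Z) Z (autFun (b : MulAut Z)) := by
      have hs := h.setting hZS
      have hbs : (b : MulAut Z) ∈ hs.sys.autGroup Z :=
        (sup_le ((autInducedBy_mono le_sup_left Z).trans (autInducedBy_le_autGroup le_sup_right))
          ((Subgroup.closure_le _).2 fun a ha => hs.mem_sys ⟨⟨le_sup_right, hUc⟩, ha⟩) :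
          J ≤ hs.sys.autGroup Z) hb
      exact ⟨id, autFun (b : MulAut Z), hs, ⟨isMap_id (sup_le hTS hZS), Set.image_id _⟩,
        ((mem_autGroup_iff le_sup_right _).1 hbs).isMap, fun x _ => rfl⟩
    refine (hb'.comp hm' fun x hx => autFun_mem _ hx).congr fun x hx => ?_
    show autFun (m : MulAut Z) (autFun (b : MulAut Z) x) = _
    rw [← CfsgLib.Fusion.autFun_mul _ _ hx, ← Subgroup.coe_mul, hmb]
  refine ((h₁.comp h₂ fun x hx => hki.mem hx).comp h₃
    fun x hx => autFun_mem γ (hki.mem hx)).congr fun x hx => ?_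
  show r₂ (autFun γ (k x)) = f x
  rw [autFun_apply γ (hki.mem hx), hγv]
  show r₂ (k₂ (f (r₁ (k x)))) = f x
  rw [hr₁1 x hx, hr₂1 _ (hf.mem hx)]

end Data

namespace Setting

variable (h : Setting F p E R)
include h

/-- The product is invariant under the maps of `F` respecting `R`. -/
theorem conj_map {P W W' : Subgroup Ω} {f g : Ω → Ω} (hf : IsMap h.sys P f) (hPW : P ≤ W)
    (hfW : ∀ x ∈ P, f x ∈ W) (hg : IsIso F W W' g) (hW : T ⊔ W = R) (hW' : T ⊔ W' = R)
    {P' : Subgroup Ω} (hP' : g '' (P : Set Ω) = P') :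
    ∃ f', IsMap h.sys P' f' ∧ ∀ x ∈ P, f' (g x) = g (f x) := by
  have hfac := h.toData.fac hg
  rw [hW, hW'] at hfac
  obtain ⟨a, d, h₀, ha, hd, hv⟩ := hfac
  obtain ⟨Q, hQ⟩ := (hd.mono hPW).exists_iso
  obtain ⟨d', hd', hd'1, -⟩ := hQ.exists_symm
  have he : IsMap h.sys Q (d ∘ f ∘ d') :=
    (hd'.isMap.comp hf fun y hy => hd'.mem hy).comp hd fun y hy => hfW _ (hd'.mem hy)
  obtain ⟨r, hr, h1, h2⟩ := ha.exists_symm
  have hP'i : IsIso F Q P' a := ⟨ha.isMap.mono hQ.le_right, by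
    rw [← hQ.image_eq, Set.image_image, ← hP']
    exact Set.image_congr fun x hx => (hv x (hPW hx)).symm⟩
  refine ⟨a ∘ (d ∘ f ∘ d') ∘ r, h.pull h hr ha h2 h1 he hP'i, fun x hx => ?_⟩
  show a (d (f (d' (r (g x))))) = g (f x)
  rw [hv x (hPW hx), h1 _ (hd.mem (hPW hx)), hd'1 x hx, hv _ (hfW x hx)]

end Setting

end CfsgLib.Fusion.Supplement
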