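import Cfsg.Agent.Lib.Fusion.MeetExtend

/-!
Alperin's argument inside a finite group: a relation between subgroups of a Sylow subgroup and the
elements moving them inside it holds for all elements as soon as it holds for the elements of order
prime to `p` normalising a subgroup.
-/

set_option autoImplicit false
set_option linter.unusedSectionVars false

namespace CfsgLib.Fusion.SylowExtend

open CfsgLib.Fusion.Meet
open scoped Pointwise

variable {M : Type*} [Group M] [Finite M] {p : ℕ} [Fact p.Prime]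

/-- The argument. -/
theorem ext_all {U J I : Subgroup M} (Ext : Subgroup M → M → Prop) (hUJ : U ≤ J)
    (hUp : IsPGroup p U) (hsyl : ∀ A : Subgroup M, A ≤ J → IsPGroup p A →
      ∃ δ ∈ J, ∀ a ∈ A, δ * a * δ⁻¹ ∈ U)
    (hI : ∀ g : M, ∀ a ∈ I, g * a * g⁻¹ ∈ I)
    (hmono : ∀ {Q Q' : Subgroup M} {a : M}, Ext Q a → Q' ≤ Q → Ext Q' a)
    (hcomp : ∀ {Q Q' : Subgroup M} {a b : M}, I ≤ Q → Ext Q a → Ext Q' b → cj a Q ≤ Q' →
      Ext Q (b * a))
    (hinv : ∀ {Q : Subgroup M} {a : M}, I ≤ Q → Ext Q a → cj a Q ≤ Q → Ext Q a⁻¹)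
    (hin : ∀ {Q : Subgroup M} {u : M}, u ∈ U → Ext Q u)
    (hcop : ∀ {Q : Subgroup M} {x : M}, x ∈ J → (orderOf x).Coprime p → I ≤ Q → Q ≤ U →
      (∀ a ∈ Q, x * a * x⁻¹ ∈ Q) → Ext Q x) :
    ∀ (Q : Subgroup M) (α : M), α ∈ J → I ≤ Q → Q ≤ U → cj α Q ≤ U → Ext Q α := by
  suffices key : ∀ (d : ℕ) (Q : Subgroup M) (α : M), α ∈ J → I ≤ Q → Q ≤ U → cj α Q ≤ U →
      Nat.card U - Nat.card Q = d → Ext Q α from
    fun Q α h1 h2 h3 h4 => key _ Q α h1 h2 h3 h4 rfl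
  have hinn' : ∀ (g : M) {Q : Subgroup M}, I ≤ Q → I ≤ cj g Q := fun g Q hQ a ha => by
    refine ⟨g⁻¹ * a * g⁻¹⁻¹, hQ (hI g⁻¹ a ha), ?_⟩
    simp [mul_assoc]
  -- the normaliser of a well placed subgroup extends
  have hplace : ∀ Q₁ : Subgroup M, I ≤ Q₁ → Q₁ ≤ U →
      (∀ l ∈ J, cj l Q₁ ≤ U → Nat.card ↥(U ⊓ Subgroup.normalizer (cj l Q₁ : Set M)) ≤
        Nat.card ↥(U ⊓ Subgroup.normalizer (Q₁ : Set M))) →
      ∃ D : Sylow p ↥(J ⊓ Subgroup.normalizer (Q₁ : Set M)),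
        (∀ x : ↥(J ⊓ Subgroup.normalizer (Q₁ : Set M)), x ∈ (D : Subgroup _) →
          (x : M) ∈ U) ∧
        ∀ n ∈ J, n ∈ Subgroup.normalizer (Q₁ : Set M) → Ext Q₁ n := by
    intro Q₁ hIQ hQU hmax
    set N := J ⊓ Subgroup.normalizer (Q₁ : Set M) with hN
    set P := U ⊓ Subgroup.normalizer (Q₁ : Set M) with hP
    have hPN : P ≤ N := inf_le_inf_right _ hUJ
    obtain ⟨D, hD⟩ := ((hUp.to_le inf_le_left : IsPGroup p P).of_equiv
      (Subgroup.subgroupOfEquivOfLe hPN).symm).exists_le_sylow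
    set A := (D : Subgroup N).map N.subtype with hA
    have hPA : P ≤ A := fun x hx => ⟨⟨x, hPN hx⟩, hD (Subgroup.mem_subgroupOf.2 hx), rfl⟩
    have hAN : A ≤ N := Subgroup.map_subtype_le _
    obtain ⟨δ, hδ, hδv⟩ := hsyl A (hAN.trans inf_le_left) (D.isPGroup'.map _)
    have hQ₁A : cj δ Q₁ ≤ U := cj_le fun a ha => hδv a
      (hPA ⟨hQU ha, Subgroup.le_normalizer ha⟩)
    have hle : cj δ A ≤ U ⊓ Subgroup.normalizer (cj δ Q₁ : Set M) :=
      cj_le fun a ha => ⟨hδv a ha, mem_normalizer_cj (hAN ha).2⟩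
    have hAP : A = P := (Subgroup.eq_of_le_of_card_ge hPA ((card_cj δ A).symm.le.trans
      ((Subgroup.card_le_of_le hle).trans (hmax δ hδ hQ₁A)))).symm
    have hDU : ∀ x : N, x ∈ (D : Subgroup N) → (x : M) ∈ U := fun x hx =>
      (hAP.le ⟨x, hx, rfl⟩).1
    refine ⟨D, hDU, ?_⟩
    let X : Subgroup M :=
      { carrier := {n | n ∈ Subgroup.normalizer (Q₁ : Set M) ∧ Ext Q₁ n}
        one_mem' := ⟨Subgroup.one_mem _, hin U.one_mem⟩
        mul_mem' := fun {a b} ha hb => ⟨Subgroup.mul_mem _ ha.1 hb.1, hcomp hIQ hb.2 ha.2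
          (cj_le fun c hc => (Subgroup.mem_normalizer_iff.1 hb.1 c).1 hc)⟩
        inv_mem' := fun {a} ha => ⟨Subgroup.inv_mem _ ha.1, hinv hIQ ha.2
          (cj_le fun c hc => (Subgroup.mem_normalizer_iff.1 ha.1 c).1 hc)⟩ }
    have hX : N ≤ X := ModelNormal.le_of_sylow_coprime D
      (fun x hx => ⟨x.2.2, hin (hDU x hx)⟩) fun x hx hxo =>
      ⟨hx.2, hcop hx.1 hxo hIQ hQU fun a ha => (Subgroup.mem_normalizer_iff.1 hx.2 a).1 ha⟩
    exact fun n hn hnn => (hX ⟨hn, hnn⟩).2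
  intro d
  induction d using Nat.strong_induction_on with
  | _ d ih =>
  intro Q α hα hIQ hQU hαQ hd
  rcases eq_or_ne Q U with rfl | hne
  · have hcj : cj α Q = Q := Subgroup.eq_of_le_of_card_ge hαQ (card_cj α Q).ge
    obtain ⟨-, -, hext⟩ := hplace Q hIQ le_rfl fun l _ _ =>
      (Subgroup.card_le_of_le inf_le_left).trans
        (Subgroup.card_le_of_le (le_inf le_rfl Subgroup.le_normalizer))
    refine hext α hα (Subgroup.mem_normalizer_iff.2 fun a => ⟨fun ha => hcj.le (mem_cj ha),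
      fun ha => ?_⟩)
    rw [← cj_inv α Q, hcj]
    exact ⟨α * a * α⁻¹, ha, by simp [mul_assoc]⟩
  -- a well placed conjugate
  obtain ⟨j, ⟨hj, hjU⟩, hjmax⟩ := Set.exists_max_image
    {j : M | j ∈ J ∧ cj j Q ≤ U}
    (fun j => Nat.card ↥(U ⊓ Subgroup.normalizer (cj j Q : Set M)))
    (Set.toFinite _) ⟨1, J.one_mem, (cj_one Q).le.trans hQU⟩
  set Q₁ := cj j Q with hQ₁
  obtain ⟨D, hDU, hext⟩ := hplace Q₁ (hinn' j hIQ) hjU fun l hl hlU => by
    rw [hQ₁, cj_cj] at hlU ⊢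
    exact hjmax (l * j) ⟨J.mul_mem hl hj, hlU⟩
  -- moving the normaliser in `U` of a conjugate into `U`
  have hmove : ∀ (Q' : Subgroup M) (k : M), k ∈ J → Q' ≤ U → cj k Q' = Q₁ →
      Nat.card Q' = Nat.card Q →
      ∃ l ∈ J, l ∈ Subgroup.normalizer (Q₁ : Set M) ∧
        cj (l * k) Q' = Q₁ ∧ ∃ N' : Subgroup M, Q' ≤ N' ∧ N' ≤ U ∧
          cj (l * k) N' ≤ U ∧ Nat.card Q < Nat.card N' := by
    intro Q' k hk hQ' hkQ hcard
    set N' := U ⊓ Subgroup.normalizer (Q' : Set M) with hN'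
    have hne' : Q' ≠ U := fun e => hne (Subgroup.eq_of_le_of_card_ge hQU (by rw [← hcard, e]))
    have hlt : Nat.card Q' < Nat.card N' := by
      have hle : Q' ≤ N' := le_inf hQ' Subgroup.le_normalizer
      refine lt_of_le_of_ne (Subgroup.card_le_of_le hle) fun e => ?_
      exact (lt_normalizerIn hUp hQ' hne').ne (Subgroup.eq_of_le_of_card_ge hle e.ge)
    have hkN : cj k N' ≤ J ⊓ Subgroup.normalizer (Q₁ : Set M) := cj_le fun a ha =>
      ⟨J.mul_mem (J.mul_mem hk (hUJ ha.1)) (J.inv_mem hk), hkQ ▸ mem_normalizer_cj ha.2⟩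
    obtain ⟨D', hD'⟩ := (((hUp.to_le inf_le_left : IsPGroup p N').map
      (MulAut.conj k).toMonoidHom).of_equiv
      (Subgroup.subgroupOfEquivOfLe hkN).symm).exists_le_sylow
    obtain ⟨l, hl⟩ := MulAction.exists_smul_eq ↥(J ⊓ Subgroup.normalizer (Q₁ : Set M)) D' D
    have hlQ : cj (l : M) Q₁ = Q₁ := Subgroup.eq_of_le_of_card_ge
      (cj_le fun a ha => (Subgroup.mem_normalizer_iff.1 l.2.2 a).1 ha) (card_cj _ Q₁).ge
    refine ⟨l, l.2.1, l.2.2, by rw [← cj_cj, hkQ, hlQ], N', le_inf hQ' Subgroup.le_normalizer,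
      inf_le_left, ?_, hcard ▸ hlt⟩
    rw [← cj_cj]
    refine cj_le fun a ha => hDU (l * ⟨a, hkN ha⟩ * l⁻¹) ?_
    rw [← hl, Sylow.coe_subgroup_smul, Subgroup.mem_pointwise_smul_iff_inv_smul_mem]
    simpa [mul_assoc] using hD' (Subgroup.mem_subgroupOf.2 ha :
      (⟨a, hkN ha⟩ : ↥(J ⊓ Subgroup.normalizer (Q₁ : Set M))) ∈
        (cj k N').subgroupOf _)
  obtain ⟨l, hl, hln, hlQ, N₁, hQN₁, hN₁U, hN₁m, hc₁⟩ := hmove Q j hj hQU rfl rfl
  obtain ⟨l', hl', hln', hlQ', N₂, hQN₂, hN₂U, hN₂m, hc₂⟩ := hmove (cj α Q) (j * α⁻¹)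
    (J.mul_mem hj (J.inv_mem hα)) hαQ (by rw [cj_cj, inv_mul_cancel_right]) (card_cj α Q)
  have hcU : ∀ {A : Subgroup M}, A ≤ U → Nat.card A ≤ Nat.card U :=
    fun hA => Subgroup.card_le_of_le hA
  have e1 : Ext Q (l * j) := by
    have h1 := hcU hN₁U
    exact hmono (ih _ (by omega) N₁ (l * j) (J.mul_mem hl hj) (hIQ.trans hQN₁) hN₁U hN₁m rfl) hQN₁
  set j₂ := l' * (j * α⁻¹) with hj₂
  have hj₂J : j₂ ∈ J := J.mul_mem hl' (J.mul_mem hj (J.inv_mem hα))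
  have e2 : Ext Q₁ j₂⁻¹ := by
    have h1 := card_cj j₂ N₂
    have h2 := hcU hN₂m
    have hle : Q₁ ≤ cj j₂ N₂ := hlQ' ▸ cj_mono _ hQN₂
    exact hmono (ih _ (by omega) (cj j₂ N₂) j₂⁻¹ (J.inv_mem hj₂J)
      ((hinn' j hIQ).trans hle) hN₂m ((cj_inv j₂ N₂).le.trans hN₂U) rfl) hle
  have hn : l' * l⁻¹ ∈ Subgroup.normalizer (Q₁ : Set M) :=
    Subgroup.mul_mem _ hln' (Subgroup.inv_mem _ hln)
  have e3 := hext (l' * l⁻¹) (J.mul_mem hl' (J.inv_mem hl)) hn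
  have e13 := hcomp hIQ e1 e3 (le_of_eq hlQ)
  have e123 := hcomp hIQ e13 e2 (by
    rw [← cj_cj, hlQ]
    exact cj_le fun a ha => (Subgroup.mem_normalizer_iff.1 hn a).1 ha)
  convert e123 using 1
  rw [hj₂]
  group

end CfsgLib.Fusion.SylowExtend
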