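import Cfsg.Agent.Lib.Fusion.SupplementAbsorb
import Cfsg.Agent.Lib.Fusion.SylowExtend

/-!
The product of a normal subsystem with a subgroup above its support is saturated.
-/

set_option autoImplicit false
set_option linter.unusedSectionVars false
set_option linter.style.haveILetI false

namespace CfsgLib.Fusion.Supplement

open Cfsg Cfsg.FusionSystem
open CfsgLib.Fusion.NormalCentralizer
open CfsgLib.Fusion.Meet

variable {Ω : Type*} [Group Ω] {S T R : Subgroup Ω} {F : FusionSystem S} {E : FusionSystem T}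
variable {p : ℕ}

/-- `α` extends over the elements of `R` inducing automorphisms in `A`. -/
def Ext (W : FusionSystem R) (Q : Subgroup Ω) (A : Subgroup (MulAut Q)) (α : MulAut Q) : Prop :=
  ∃ g, IsMap W (preInd R Q A) g ∧ ∀ r ∈ Q, g r = autFun α r

theorem ext_mem {W : FusionSystem R} {Q : Subgroup Ω} (hQ : Q ≤ R)
    {A A' : Subgroup (MulAut Q)} (hA : autInducedBy Q Q ≤ A) {α : MulAut Q} {g : Ω → Ω}
    (hg : IsMap W (preInd R Q A) g) (hv : ∀ r ∈ Q, g r = autFun α r) (h : cj α A ≤ A') :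
    ∀ y ∈ preInd R Q A, g y ∈ preInd R Q A' := by
  intro y hy
  have hyW := hy
  obtain ⟨-, a, ha, hay⟩ := hy
  refine mem_preInd_of_induces (hg.mem hyW) (h (mem_cj ha)) fun z => ?_
  obtain ⟨u, rfl⟩ := α.surjective z
  have hQp : Q ≤ preInd R Q A := le_preInd hQ hA
  rw [MulAut.mul_apply, MulAut.mul_apply, MulAut.inv_apply_self, ← autFun_coe α (a u),
    ← autFun_coe α u, ← hv _ (a u).2, ← hv _ u.2, hay, hg.map_conj hyW (hQp u.2)]

theorem Ext.comp {W : FusionSystem R} {Q : Subgroup Ω} (hQ : Q ≤ R)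
    {A A' : Subgroup (MulAut Q)} (hA : autInducedBy Q Q ≤ A) {α β : MulAut Q}
    (hα : Ext W Q A α) (hβ : Ext W Q A' β) (h : cj α A ≤ A') : Ext W Q A (β * α) := by
  obtain ⟨g, hg, hgv⟩ := hα
  obtain ⟨k, hk, hkv⟩ := hβ
  refine ⟨k ∘ g, hg.comp hk (ext_mem hQ hA hg hgv h), fun r hr => ?_⟩
  show k (g r) = autFun (β * α) r
  rw [hgv r hr, hkv _ (autFun_mem α hr), autFun_mul _ _ hr]

theorem Ext.inv {W : FusionSystem R} [Finite R] {Q : Subgroup Ω} (hQ : Q ≤ R)
    {A : Subgroup (MulAut Q)} (hA : autInducedBy Q Q ≤ A) {α : MulAut Q}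
    (hα : Ext W Q A α) (h : cj α A ≤ A) : Ext W Q A α⁻¹ := by
  obtain ⟨g, hg, hv⟩ := hα
  have hle : preInd R Q A ≤ R := fun w hw => hw.1
  have := finite_of_le hle
  obtain ⟨r, hr, hr1, -⟩ := (hg.isIso_of_card_le (ext_mem hQ hA hg hv h) le_rfl).exists_symm
  refine ⟨r, hr.isMap, fun z hz => ?_⟩
  have h1 := hr1 _ (le_preInd hQ hA (autFun_mem α⁻¹ hz))
  rwa [hv _ (autFun_mem α⁻¹ hz), NormalCentralizer.autFun_self_inv α hz] at h1

variable [Fact p.Prime] [Finite S]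

namespace Setting

variable (h : Setting F p E R)
include h

/-- A subgroup fully normalised in the product has largest normaliser in `T`. -/
theorem tMax {Q : Subgroup Ω} (hfn : h.sys.IsFullyNormalized Q) (hc : E.IsCentric (Q ⊓ T))
    (hbig : h.Big Q) : TMax F T Q := by
  have hQR := hfn.1
  have hQS := hQR.trans h.RS
  have hI := h.inv
  have : Finite R := finite_of_le h.RS
  have hT : Finite T := finite_of_le h.TS
  rcases eq_or_ne Q R with he | hne
  · have : Finite ↥(normalizerIn T Q) := finite_of_le (S := T) inf_le_left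
    refine ⟨hQS, fun Q' _ => (Subgroup.card_le_of_le inf_le_left).trans
      (Subgroup.card_le_of_le (le_inf le_rfl ?_))⟩
    rw [he]
    exact h.TR.trans Subgroup.le_normalizer
  set M := normalizerIn R Q with hM
  have hMR : M ≤ R := inf_le_left
  have hQM : Q ≤ M := le_normalizerIn hQR
  have hlt : Nat.card Q < Nat.card M := SatExtend.card_lt_card (S := R) hMR
    (lt_normalizerIn (h.pgroup.to_le h.RS) hQR hne)
  have hMc := h.fam_of_le hc hQM
  obtain ⟨Q', hQQ', hQ'fn⟩ := exists_isFullyNormalized (F := F) hQS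
  have hQ'T := tMax_of_fn h.pgroup h.sat hI hQ'fn
  by_cases hle : Nat.card (normalizerIn T Q') ≤ Nat.card (normalizerIn T Q)
  · exact ⟨hQS, fun Q'' hQ'' =>
      (hQ'T.2 Q'' (isConj_trans (isConj_symm hQQ') hQ'')).trans hle⟩
  exfalso
  obtain ⟨k, hk, hki, hkN, -⟩ := exists_map_normalizerIn h.pgroup
    (isFullyAutomized_of_isFullyNormalized h.pgroup h.sat hQ'fn)
    (isReceptive_of_isFullyNormalized h.pgroup h.sat hQ'fn) hQQ'
  have hMN : M ≤ normalizerIn S Q := inf_le_inf_right _ h.RS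
  obtain ⟨M', hM'⟩ := (hk.mono hMN).exists_iso
  have hM'N : M' ≤ normalizerIn S Q' := fun y hy => by
    obtain ⟨x, hx, rfl⟩ := hM'.surj hy
    exact hkN x (hMN hx)
  have hne' : ¬ normalizerIn T Q' ≤ M' := fun hsub => hle (by
    obtain ⟨r, hr, hr1, -⟩ := hM'.exists_symm
    have := finite_of_le (S := T) (P := normalizerIn T Q) inf_le_left
    refine (hr.isMap.mono hsub).card_le fun y hy => ?_
    obtain ⟨x, hx, rfl⟩ := hM'.surj (hsub hy)
    rw [hr1 x hx]
    exact ⟨(mem_T_iff hI hM' hx).1 hy.1, hx.2⟩)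
  obtain ⟨t, ht, htM, htM'⟩ := exists_moving h.pgroup hM'.le_right
    (inf_le_left.trans h.TS : normalizerIn T Q' ≤ S) (fun m hm =>
      mem_normalizer_of_conj_mem (inf_le_left.trans h.TS) fun z hz =>
        ⟨h.normT (hM'N hm).1 hz.1,
          Subgroup.mul_mem _ (Subgroup.mul_mem _ (hM'N hm).2 hz.2) (Subgroup.inv_mem _ (hM'N hm).2)⟩)
    hne'
  exact htM' (h.absorb hfn hMc hlt hbig hM' hki ht.1 htM ht.2)

/-- The automizer. -/
theorem autGroup_eq {Q : Subgroup Ω} (hQ : Q ≤ R) (hc : E.IsCentric (Q ⊓ T))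
    (hfn : h.sys.IsFullyNormalized Q) (hbig : h.Big Q) :
    h.sys.autGroup Q = autInducedBy R Q ⊔ Oc F E p Q := by
  have : Finite R := finite_of_le h.RS
  refine le_antisymm ?_ (sup_le (autInducedBy_le_autGroup hQ)
    ((Subgroup.closure_le _).2 fun a ha => h.mem_sys ⟨⟨hQ, hc⟩, ha⟩))
  refine (GenAutomizer.autGroup_le_genH h.genData ⟨hQ, hc⟩ hfn
    fun M hM hlt => (hbig M hM.1 hM.2 hlt).1).trans ((Subgroup.closure_le _).2 ?_)
  rintro a (ha | ha)
  · exact Subgroup.mem_sup_left ha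
  · exact Subgroup.mem_sup_right (Subgroup.subset_closure ⟨ha.2.1, ha.2.2⟩)

/-- Fully normalised subgroups are fully automised. -/
theorem isFullyAutomized {Q : Subgroup Ω} (hQ : Q ≤ R) (hc : E.IsCentric (Q ⊓ T))
    (hfn : h.sys.IsFullyNormalized Q) (hbig : h.Big Q) : h.sys.IsFullyAutomized p Q := by
  have hRp : IsPGroup p R := h.pgroup.to_le h.RS
  have : Finite R := finite_of_le h.RS
  have hQS := hQ.trans h.RS
  have := finite_of_le hQS
  have := finite_mulAut Q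
  set U := autInducedBy R Q
  set O := Oc F E p Q
  have hUn : U ≤ Subgroup.normalizer (O : Set (MulAut Q)) := fun u hu => by
    have huF : u ∈ F.autGroup Q :=
      autInducedBy_le_autGroup hQS (autInducedBy_mono h.RS Q hu)
    refine Subgroup.mem_normalizer_iff.2 fun k => ⟨oc_conj h.inv hQS huF, fun hk => ?_⟩
    have h1 := oc_conj h.inv hQS ((F.autGroup Q).inv_mem huF) hk
    rwa [show u⁻¹ * (u * k * u⁻¹) * u⁻¹⁻¹ = k by group] at h1
  refine (isFullyAutomized_iff hRp).2 ⟨hQ, fun A hA hAp => ?_⟩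
  rw [h.autGroup_eq hQ hc hfn hbig] at hA ⊢
  have hUJ : U ≤ U ⊔ O := le_sup_left
  obtain ⟨D, hD⟩ := ((isPGroup_autInducedBy hRp Q).of_equiv
    (Subgroup.subgroupOfEquivOfLe hUJ).symm).exists_le_sylow
  set D' := (D : Subgroup ↥(U ⊔ O)).map (U ⊔ O).subtype
  have hUD : U ≤ D' := fun x hx => ⟨⟨x, hUJ hx⟩, hD (Subgroup.mem_subgroupOf.2 hx), rfl⟩
  -- the part in `Oc` comes from `T`
  have hB : D' ⊓ O ≤ autInducedBy T Q := by
    obtain ⟨δ, hδ, hδv⟩ := h.toData.exists_conj_oc (h.tMax hfn hc hbig) hc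
      (inf_le_right : D' ⊓ O ≤ O) ((D.isPGroup'.map _).to_le inf_le_left)
    have hle : autInducedBy T Q ⊓ O ≤ D' ⊓ O :=
      inf_le_inf_right _ ((autInducedBy_mono h.TR Q).trans hUD)
    have hmap : (D' ⊓ O).map (MulAut.conj δ).toMonoidHom ≤ autInducedBy T Q ⊓ O := by
      rintro _ ⟨b, hb, rfl⟩
      exact ⟨hδv b hb, O.mul_mem (O.mul_mem hδ hb.2) (O.inv_mem hδ)⟩
    exact ((Subgroup.eq_of_le_of_card_ge hle (by
      rw [← Subgroup.card_map_of_injective (K := D' ⊓ O) (f := (MulAut.conj δ).toMonoidHom)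
        (MulAut.conj δ).injective]
      exact Subgroup.card_le_of_le hmap)).ge).trans inf_le_left
  have hDU : D' ≤ U := by
    intro d hd
    have hd' : d ∈ ((U ⊔ O : Subgroup (MulAut Q)) : Set (MulAut Q)) := Subgroup.map_subtype_le _ hd
    rw [Subgroup.coe_mul_of_left_le_normalizer_right _ _ hUn] at hd'
    obtain ⟨u, hu, o, ho, rfl⟩ := hd'
    have h1 := D'.mul_mem (D'.inv_mem (hUD hu)) hd
    rw [inv_mul_cancel_left] at h1
    exact U.mul_mem hu (autInducedBy_mono h.TR Q (hB ⟨h1, ho⟩))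
  obtain ⟨B, hB'⟩ := (hAp.of_equiv (Subgroup.subgroupOfEquivOfLe hA).symm).exists_le_sylow
  obtain ⟨l, hl⟩ := MulAction.exists_smul_eq ↥(U ⊔ O) B D
  refine ⟨l, l.2, fun a ha => hDU ⟨l * ⟨a, hA ha⟩ * l⁻¹, ?_, rfl⟩⟩
  rw [SetLike.mem_coe, ← hl, Sylow.coe_subgroup_smul,
    Subgroup.mem_pointwise_smul_iff_inv_smul_mem]
  simpa [mul_assoc] using hB' (Subgroup.mem_subgroupOf.2 ha :
    (⟨a, hA ha⟩ : ↥(U ⊔ O)) ∈ A.subgroupOf _)

set_option maxHeartbeats 1000000 in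
/-- The step: an automorphism of order prime to `p`. -/
theorem ext_coprime {Q : Subgroup Ω} (hQ : Q ≤ R) (hc : E.IsCentric (Q ⊓ T))
    (hT : TMax F T Q) {x : MulAut Q} (hx : x ∈ h.sys.autGroup Q) (hxo : (orderOf x).Coprime p)
    {A : Subgroup (MulAut Q)} (hAU : A ≤ autInducedBy R Q) (hAI : autInducedBy Q Q ≤ A)
    (hxA : ∀ a ∈ A, x * a * x⁻¹ ∈ A) : Ext h.sys Q A x := by
  have hI := h.inv
  have hQS := hQ.trans h.RS
  have := finite_of_le hQS
  have hxG := h.gam_of_coprime hx hQ hxo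
  set M := preInd R Q A with hMdef
  have hMR : M ≤ R := fun w hw => hw.1
  have hMS := hMR.trans h.RS
  have := finite_of_le hMS
  have := finite_mulAut M
  have hQM : Q ≤ M := le_preInd hQ hAI
  have hMN : M ≤ normalizerIn S Q := fun w hw => ⟨hMS hw, preInd_le_normalizer hw⟩
  obtain ⟨δ, hδ, hδQ, hδT⟩ := h.toData.ext_tMax hT hc hxG hxo hQM hMN fun w hw => by
    obtain ⟨a, ha, hav⟩ := exists_preInd hw
    obtain ⟨w', hw', hw'v⟩ := (mem_autInducedBy_iff R Q _).1 (hAU (hxA a ha))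
    refine ⟨w', mem_preInd_of_induces hw' (hxA a ha) hw'v, fun y hy => ?_⟩
    have h1 := hw'v (x ⟨y, hy⟩)
    rw [MulAut.mul_apply, MulAut.mul_apply, MulAut.inv_apply_self] at h1
    rw [← hav y hy, autFun_apply x hy, ← h1, autFun_apply a hy, autFun_coe]
  have hδM : ∀ y ∈ M, δ y ∈ M := fun y hy => by
    obtain ⟨a, ha, hav⟩ := exists_preInd hy
    have h0 := R.mul_mem (hMR hy) (h.TR (hδT y hy))
    rw [mul_inv_cancel_left] at h0
    refine mem_preInd_of_induces h0 (hxA a ha) fun z => ?_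
    obtain ⟨u, rfl⟩ := x.surjective z
    rw [MulAut.mul_apply, MulAut.mul_apply, MulAut.inv_apply_self, ← autFun_coe x (a u),
      ← autFun_coe x u, ← hδQ _ (a u).2, ← hδQ _ u.2, ← autFun_coe a u, hav _ u.2,
      hδ.map_conj hy (hQM u.2)]
  obtain ⟨D, hD, hDv⟩ := exists_mem_autGroup (hδ.isIso_of_card_le hδM le_rfl)
  obtain ⟨m, hm, hmo⟩ := Residual.exists_pPrime_pow (p := p) D (o := orderOf x) hxo
  have hDQ : ∀ y ∈ Q, autFun D y = autFun x y := fun y hy => by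
    rw [autFun_apply D (hQM hy), hDv, hδQ y hy]
  set G := D ^ m
  have hGQ : ∀ y ∈ Q, autFun G y = autFun x y := fun y hy => by
    rw [NormalCentralizer.autFun_pow_eq hQM hDQ m y hy, Residual.pow_eq_self_of_modEq hm]
  have hGT : ∀ y ∈ M, y⁻¹ * autFun G y ∈ T := by
    have key : ∀ i : ℕ, ∀ y ∈ M, y⁻¹ * autFun (D ^ i) y ∈ T := by
      intro i
      induction i with
      | zero =>
        intro y hy
        rw [pow_zero, NormalCentralizer.autFun_one hy, inv_mul_cancel]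
        exact T.one_mem
      | succ i ih =>
        intro y hy
        have hz := autFun_mem (D ^ i) hy
        rw [pow_succ', autFun_mul _ _ hy, autFun_apply D hz, hDv]
        have h5 := T.mul_mem (ih y hy) (hδT _ hz)
        rwa [show y⁻¹ * autFun (D ^ i) y * ((autFun (D ^ i) y)⁻¹ * δ (autFun (D ^ i) y)) =
          y⁻¹ * δ (autFun (D ^ i) y) by group] at h5
    exact key m
  have hGF : G ∈ F.autGroup M := (F.autGroup M).pow_mem hD m
  have hGi := iso_inf hI ((mem_autGroup_iff hMS G).1 hGF)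
  obtain ⟨γ, hγ, hγv⟩ := exists_mem_autGroup hGi
  have hγa : ∀ y ∈ M ⊓ T, autFun G y = autFun γ y := fun y hy => by rw [autFun_apply γ hy, hγv]
  have hUM : Q ⊓ T ≤ M ⊓ T := inf_le_inf_right T hQM
  have hγU : ∀ y ∈ Q ⊓ T, autFun γ y = autFun x y := fun y hy => by
    rw [← hγa y (hUM hy), hGQ y hy.1]
  have hγE := mem_autGroup_of_centric h.pgroup h.normal.1 hc hUM
    (fun y hy => ⟨hy.2, mem_normalizer_of_conj_mem (inf_le_left.trans hQS) fun z hz =>
      ⟨conj_mem_of_mem_normalizer (hMN hy.1).2 hz.1, h.normT (hMS hy.1) hz.2⟩⟩) hγ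
    (NormalCentralizer.coprime_orderOf_restrict inf_le_left hγa hmo)
    (fun y hy => hγU y hy ▸ ⟨autFun_mem x hy.1, (gam_isMap hxG).mem hy⟩)
    ((gam_isMap hxG).congr fun y hy => (hγU y hy).symm)
  have hGG : G ∈ Gam F E M := mem_gam hI hGF hGT
    (((mem_autGroup_iff inf_le_right γ).1 hγE).isMap.congr fun y hy => (hγa y hy).symm)
  exact ⟨autFun G, ((mem_autGroup_iff hMR G).1
    (h.mem_sys ⟨⟨hMR, h.fam_of_le hc hQM⟩, hGG, hmo⟩)).isMap, hGQ⟩

/-- Extensions of the automizer. -/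
theorem ext_all {Q : Subgroup Ω} (hQ : Q ≤ R) (hc : E.IsCentric (Q ⊓ T))
    (hfn : h.sys.IsFullyNormalized Q) (hbig : h.Big Q) {A : Subgroup (MulAut Q)} {α : MulAut Q}
    (hα : α ∈ h.sys.autGroup Q) (hAI : autInducedBy Q Q ≤ A) (hAU : A ≤ autInducedBy R Q)
    (hαA : cj α A ≤ autInducedBy R Q) : Ext h.sys Q A α := by
  have hRp : IsPGroup p R := h.pgroup.to_le h.RS
  have : Finite R := finite_of_le h.RS
  have hQS := hQ.trans h.RS
  have := finite_of_le hQS
  have := finite_mulAut Q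
  have hFA := h.isFullyAutomized hQ hc hfn hbig
  refine SylowExtend.ext_all (p := p) (I := autInducedBy Q Q) (fun A α => Ext h.sys Q A α)
    (autInducedBy_le_autGroup hQ) (isPGroup_autInducedBy hRp Q)
    (fun B hB hBp => ((isFullyAutomized_iff hRp).1 hFA).2 B hB hBp) (fun g a ha => ?_)
    (fun {B B' a} hB hle => by
      obtain ⟨g, hg, hv⟩ := hB
      exact ⟨g, hg.mono (preInd_mono hle), hv⟩)
    (fun hI' ha hb hle => ha.comp hQ hI' hb hle) (fun hI' ha hle => ha.inv hQ hI' hle)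
    (fun {B u} hu => by
      obtain ⟨r, hr, hv⟩ := (mem_autInducedBy_iff R Q u).1 hu
      exact ⟨fun y => r * y * r⁻¹, isMap_conj (fun w hw => hw.1) hr,
        fun z hz => by rw [autFun_apply u hz, hv]⟩)
    (fun {B x} hx hxo hI' hB hxB =>
      h.ext_coprime hQ hc (h.tMax hfn hc hbig) hx hxo hB hI' hxB) A α hα hAI hAU hαA
  obtain ⟨u, hu, huv⟩ := (mem_autInducedBy_iff Q Q a).1 ha
  refine (mem_autInducedBy_iff Q Q _).2 ⟨g ⟨u, hu⟩, SetLike.coe_mem _, fun z => ?_⟩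
  obtain ⟨y, rfl⟩ := g.surjective z
  rw [MulAut.mul_apply, MulAut.mul_apply, MulAut.inv_apply_self,
    show a y = ⟨u, hu⟩ * y * (⟨u, hu⟩ : Q)⁻¹ from Subtype.ext (huv y), map_mul, map_mul, map_inv]
  rfl

/-- Fully normalised subgroups are receptive. -/
theorem isReceptive {Q : Subgroup Ω} (hQ : Q ≤ R) (hc : E.IsCentric (Q ⊓ T))
    (hfn : h.sys.IsFullyNormalized Q) (hbig : h.Big Q) : h.sys.IsReceptive Q := by
  have : Finite R := finite_of_le h.RS
  have hgd := h.genData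
  refine isReceptive_iff.2 ⟨hQ, fun P f hf => ?_⟩
  rcases eq_or_ne Q R with he | hne
  · have hP : P = R := Subgroup.eq_of_le_of_card_ge hf.le_left (by rw [← he, hf.card_eq])
    refine ⟨f, hf.isMap.mono fun x hx => ?_, fun _ _ => rfl⟩
    rw [hP]
    exact hx.1
  have hs : SatExtend.Setup h.sys p Q := by
    refine ⟨hgd.pgroup, hQ, hne, hfn, fun P' M hcj hPM hM => ?_⟩
    have hM' := hgd.mono (hgd.conj ⟨hQ, hc⟩ hcj) hPM.le hM
    refine (hbig M hM'.1 hM'.2 ?_).1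
    obtain ⟨g, hg⟩ := isConj_iff.1 hcj
    exact hg.card_eq ▸ SatExtend.card_lt_card (S := R) hM hPM
  let G : ∀ P : Subgroup Ω, Set (MulAut P) := fun P => {α | Gen F E p R P α}
  have hG : ∀ P, G P ⊆ (h.sys.autGroup P : Set _) := fun P α hα => h.mem_sys hα
  have hgen : SatExtend.GeneratedMod h.sys Q G := by
    intro D h₁ h₂
    refine h.sys_le fun P α hα => ?_
    by_cases hcj : h.sys.IsConj Q P
    · exact mem_autGroup_of_isMap (h₂ P hcj α hα) α fun x => (autFun_coe α x).symm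
    · obtain ⟨φ, hφ, hv⟩ := ((mem_autGroup_iff hα.1.1 α).1 (h.mem_sys hα)).isMap
      exact mem_autGroup_of_isMap ⟨φ, h₁ P hcj hφ, hv⟩ α fun x => (autFun_coe α x).symm
  obtain ⟨ψ, hψ, hψi⟩ := SatExtend.all_good' hs hgen hG (isConj_symm hf.isConj)
  obtain ⟨r, hr, hr1, -⟩ := hψi.exists_symm
  obtain ⟨α, hα, hαv⟩ := exists_mem_autGroup (hr.comp hf)
  set U := autInducedBy R Q with hU
  set A := U ⊓ U.comap (MulAut.conj α).toMonoidHom with hA
  have hAI : autInducedBy Q Q ≤ A := fun a ha => by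
    refine ⟨autInducedBy_mono hQ Q ha, autInducedBy_mono hQ Q ?_⟩
    obtain ⟨u, hu, huv⟩ := (mem_autInducedBy_iff Q Q a).1 ha
    refine (mem_autInducedBy_iff Q Q _).2 ⟨α ⟨u, hu⟩, SetLike.coe_mem _, fun z => ?_⟩
    obtain ⟨y, rfl⟩ := α.surjective z
    show ((α * a * α⁻¹) (α y) : Ω) = _
    rw [MulAut.mul_apply, MulAut.mul_apply, MulAut.inv_apply_self,
      show a y = ⟨u, hu⟩ * y * (⟨u, hu⟩ : Q)⁻¹ from Subtype.ext (huv y), map_mul, map_mul, map_inv]
    rfl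
  obtain ⟨g, hg, hgv⟩ := h.ext_all hQ hc hfn hbig hα hAI inf_le_left (cj_le fun a ha => ha.2)
  have hle : nPhi R P f ≤ normalizerIn R P := fun x hx => ⟨hx.1, hx.2.1⟩
  have hψf : ∀ z ∈ P, autFun α (ψ z) = f z := fun z hz => by
    rw [autFun_apply α (hψi.mem hz), hαv]
    show f (r (ψ z)) = f z
    rw [hr1 z hz]
  refine ⟨g ∘ ψ, (hψ.mono hle).comp hg fun x hx => ?_, fun z hz => ?_⟩
  · obtain ⟨hxT, hxn, s, hs', hsv⟩ := hx
    have hxN : x ∈ normalizerIn R P := ⟨hxT, hxn⟩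
    obtain ⟨hψT, hψn⟩ := hψ.mem_normalizerIn (le_normalizerIn hf.le_left) hψi hxN hxn
    refine mem_preInd_of_induces hψT
      ⟨conjAut_mem_autInducedBy hψn hψT, ?_⟩ fun y => conjAut_apply Q hψn y
    refine (mem_autInducedBy_iff _ Q _).2 ⟨s, hs', fun w => ?_⟩
    obtain ⟨y, rfl⟩ := α.surjective w
    show ((α * conjAut Q hψn * α⁻¹) (α y) : Ω) = _
    rw [MulAut.mul_apply, MulAut.mul_apply, MulAut.inv_apply_self,
      ← autFun_coe α (conjAut Q hψn y), ← autFun_coe α y, conjAut_apply]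
    obtain ⟨z, hz, hze⟩ := hψi.surj y.2
    rw [← hze, ← hψ.map_conj hxN (le_normalizerIn hf.le_left hz),
      hψf _ (conj_mem_of_mem_normalizer hxn hz), hψf z hz, hsv z hz]
  · show g (ψ z) = f z
    rw [hgv _ (hψi.mem hz), hψf z hz]

/-- Saturation on the subgroups with centric trace. -/
theorem sat_fam : ∀ P : Subgroup Ω, P ≤ R → E.IsCentric (P ⊓ T) →
    (∃ Q, h.sys.IsConj P Q ∧ h.sys.IsFullyAutomized p Q ∧ h.sys.IsReceptive Q) ∧
      (h.sys.IsFullyNormalized P → TMax F T P) := by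
  have : Finite R := finite_of_le h.RS
  suffices H : ∀ (n : ℕ) (P : Subgroup Ω), Nat.card R - Nat.card P = n → P ≤ R →
      E.IsCentric (P ⊓ T) →
      (∃ Q, h.sys.IsConj P Q ∧ h.sys.IsFullyAutomized p Q ∧ h.sys.IsReceptive Q) ∧
        (h.sys.IsFullyNormalized P → TMax F T P) from
    fun P hP hc => H _ P rfl hP hc
  intro n
  induction n using Nat.strong_induction_on with
  | _ n ih =>
  intro P hn hP hc
  have hbig : ∀ Q : Subgroup Ω, Nat.card Q = Nat.card P → h.Big Q := fun Q hQP M hM hMc hlt =>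
    ih _ (by
      have h2 : Nat.card M ≤ Nat.card R := Subgroup.card_le_of_le hM
      omega) M rfl hM hMc
  refine ⟨?_, fun hfn => h.tMax hfn hc (hbig P rfl)⟩
  obtain ⟨Q, hPQ, hfn⟩ := exists_isFullyNormalized (F := h.sys) hP
  obtain ⟨hQR, hQc⟩ := h.genData.conj ⟨hP, hc⟩ hPQ
  obtain ⟨f, hf⟩ := isConj_iff.1 hPQ
  exact ⟨Q, hPQ, h.isFullyAutomized hQR hQc hfn (hbig Q hf.card_eq),
    h.isReceptive hQR hQc hfn (hbig Q hf.card_eq)⟩

set_option maxHeartbeats 1000000 in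
/-- A subgroup whose trace is not centric has a conjugate whose trace does not contain its
centraliser. -/
theorem exists_large : ∀ P : Subgroup Ω, P ≤ R → ¬ E.IsCentric (P ⊓ T) →
    ∃ Q, h.sys.IsConj P Q ∧ ¬ centralizerIn T (Q ⊓ T) ≤ Q ⊓ T := by
  have hI := h.inv
  have : Finite R := finite_of_le h.RS
  suffices H : ∀ (n : ℕ) (P : Subgroup Ω), Nat.card R - Nat.card P = n → P ≤ R →
      ¬ E.IsCentric (P ⊓ T) → ∃ Q, h.sys.IsConj P Q ∧ ¬ centralizerIn T (Q ⊓ T) ≤ Q ⊓ T from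
    fun P hP hc => H _ P rfl hP hc
  intro n
  induction n using Nat.strong_induction_on with
  | _ n ih =>
  intro P hn hP hPc
  by_contra hcon
  push Not at hcon
  obtain ⟨Q, hPQ, hfn⟩ := exists_isFullyNormalized (F := h.sys) hP
  obtain ⟨f, hf⟩ := isConj_iff.1 hPQ
  obtain ⟨f', hf', -, -⟩ := hf.exists_symm
  have hQc : ¬ E.IsCentric (Q ⊓ T) := fun hc =>
    hPc (centric_transport hI (hf'.of_subsystem h.sub) hc)
  have hQR := hfn.1
  have hQS := hQR.trans h.RS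
  have hne : Q ≠ R := by
    rintro rfl
    refine hQc ⟨inf_le_right, fun Q' hQ' => ?_⟩
    obtain ⟨g, hg⟩ := isConj_iff.1 hQ'
    have : Finite T := finite_of_le h.TS
    have e : Q ⊓ T = T := inf_eq_right.2 h.TR
    rw [e] at hg
    rw [Subgroup.eq_of_le_of_card_ge hg.le_right hg.card_eq.ge]
    exact inf_le_left
  set M := normalizerIn R Q with hM
  have hMR : M ≤ R := inf_le_left
  have hQM : Q ≤ M := le_normalizerIn hQR
  have hlt : Nat.card Q < Nat.card M := SatExtend.card_lt_card (S := R) hMR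
    (lt_normalizerIn (h.pgroup.to_le h.RS) hQR hne)
  have hMc : E.IsCentric (M ⊓ T) := by
    by_contra hc
    have h2 : Nat.card M ≤ Nat.card R := Subgroup.card_le_of_le hMR
    have h3 := hf.card_eq
    obtain ⟨M', hMM', hM'⟩ := ih _ (by omega) M rfl hMR hc
    obtain ⟨g, hg⟩ := isConj_iff.1 hMM'
    obtain ⟨Q', hQ'⟩ := (hg.isMap.mono hQM).exists_iso
    have hle : Q' ⊓ T ≤ M' ⊓ T := inf_le_inf_right T fun y hy => by
      obtain ⟨x, hx, rfl⟩ := hQ'.surj hy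
      exact hg.mem (hQM hx)
    exact hM' ((inf_le_inf_left T (Subgroup.centralizer_le hle)).trans
      ((hcon Q' (isConj_trans hPQ hQ'.isConj)).trans hle))
  have hbig : h.Big Q := fun L hL hLc _ => h.sat_fam L hL hLc
  set U₀ := Q ⊓ T with hU₀
  obtain ⟨U', hUU', hU'⟩ : ∃ U', E.IsConj U₀ U' ∧ ¬ centralizerIn T U' ≤ U' := by
    by_contra h'
    push Not at h'
    exact hQc ⟨inf_le_right, h'⟩
  obtain ⟨U, hU₀U, hUfn⟩ := exists_isFullyNormalized (F := F) (inf_le_left.trans hQS : U₀ ≤ S)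
  have hFA := isFullyAutomized_of_isFullyNormalized h.pgroup h.sat hUfn
  have hFR := isReceptive_of_isFullyNormalized h.pgroup h.sat hUfn
  obtain ⟨k, hk, hki, hkN, -⟩ := exists_map_normalizerIn h.pgroup hFA hFR hU₀U
  have hUT : U ≤ T := Residual.le_of_iso hI inf_le_right hki
  have hCU : ¬ centralizerIn T U ≤ U := by
    intro hsub
    obtain ⟨g, hg, hgi, -, hgC⟩ := exists_map_normalizerIn h.pgroup hFA hFR
      (isConj_trans (isConj_symm (isConj_of_subsystem hI.1 hUU')) hU₀U)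
    refine hU' fun c hc => ?_
    have hcN := centralizerIn_le_normalizerIn S U' ⟨h.TS hc.1, hc.2⟩
    obtain ⟨u, hu, hue⟩ := hgi.surj (hsub
      ⟨isMap_mem_of_stronglyClosed hI.2.1 hg hcN hc.1, (hgC c ⟨h.TS hc.1, hc.2⟩).2⟩)
    exact hg.injOn (le_normalizerIn hgi.le_left hu) hcN hue ▸ hu
  have hMN : M ≤ normalizerIn S U₀ :=
    (inf_le_inf_right _ h.RS).trans (normalizerIn_le_normalizerIn_inf (p := p) hI hQS)
  obtain ⟨M', hM'⟩ := (hk.mono hMN).exists_iso
  obtain ⟨Q', hQ'⟩ := (hk.mono (hQM.trans hMN)).exists_iso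
  have hM'N : M' ≤ normalizerIn S U := fun y hy => by
    obtain ⟨x, hx, rfl⟩ := hM'.surj hy
    exact hkN x (hMN hx)
  -- the centraliser inside the image
  have hin : ∀ y ∈ centralizerIn T U, y ∈ M' → y ∈ U := by
    intro y hy hyM
    obtain ⟨x, hx, rfl⟩ := hM'.surj hyM
    have hxT : x ∈ T := (mem_T_iff hI hM' hx).1 hy.1
    have hxC : x ∈ centralizerIn T U₀ := ⟨hxT, mem_centralizer_of_conj_eq fun z hz => by
      have hz' : z ∈ normalizerIn S U₀ := le_normalizerIn (inf_le_left.trans hQS) hz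
      refine hk.injOn (Subgroup.mul_mem _ (Subgroup.mul_mem _ (hMN hx) hz')
        (Subgroup.inv_mem _ (hMN hx))) hz' ?_
      rw [hk.map_conj (hMN hx) hz', conj_eq_self_of_mem_centralizer hy.2 (hki.mem hz)]⟩
    exact hki.mem (hcon Q hPQ hxC)
  obtain ⟨t, ht, htM, htM'⟩ := exists_moving h.pgroup hM'.le_right
    (inf_le_left.trans h.TS : centralizerIn T U ≤ S) (fun m hm =>
      mem_normalizer_of_conj_mem (inf_le_left.trans h.TS) fun z hz =>
        ⟨h.normT (hM'N hm).1 hz.1,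
          (NormalCentralizer.mem_centralizerIn_conj (hM'N hm) ⟨h.TS hz.1, hz.2⟩).2⟩)
    fun hsub => hCU fun y hy => hin y hy (hsub hy)
  have hUQ' : U ≤ Q' := fun y hy => by
    obtain ⟨x, hx, rfl⟩ := hki.surj hy
    exact hQ'.mem hx.1
  have hQ'M : Q' ≤ M' := fun y hy => by
    obtain ⟨x, hx, rfl⟩ := hQ'.surj hy
    exact hM'.mem (hQM hx)
  refine htM' (h.absorb hfn hMc hlt hbig hM' hQ' ht.1 htM
    (mem_normalizer_of_conj_mem hQ'.le_right fun z hz => ?_))
  have hzM := hQ'M hz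
  have hw : t * z * t⁻¹ * z⁻¹ ∈ centralizerIn T U := by
    have hz' := hM'N hzM
    refine ⟨?_, ?_⟩
    · rw [show t * z * t⁻¹ * z⁻¹ = t * (z * t⁻¹ * z⁻¹) by group]
      exact T.mul_mem ht.1 (h.normT hz'.1 (T.inv_mem ht.1))
    · rw [show t * z * t⁻¹ * z⁻¹ = t * (z * t⁻¹ * z⁻¹) by group]
      exact Subgroup.mul_mem _ ht.2 (NormalCentralizer.mem_centralizerIn_conj hz'
        ⟨S.inv_mem (h.TS ht.1), Subgroup.inv_mem _ ht.2⟩).2
  have hwU := hin _ hw (M'.mul_mem (conj_mem_of_mem_normalizer htM hzM) (M'.inv_mem hzM))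
  have := Q'.mul_mem (hUQ' hwU) hz
  rwa [inv_mul_cancel_right] at this

/-- The product is saturated. -/
theorem isSaturated : h.sys.IsSaturated p := by
  have : Finite R := finite_of_le h.RS
  have hI := h.inv
  refine SatExtend.isSaturated_of_family (h.pgroup.to_le h.RS)
    (ℋ := {P | P ≤ R ∧ E.IsCentric (P ⊓ T)}) (fun P hP Q hQ => h.genData.conj hP hQ)
    (fun P hP => (h.sat_fam P hP.1 hP.2).1) (fun D hD => h.sys_le fun P α hα => ?_) ?_
  · obtain ⟨φ, hφ, hv⟩ := ((mem_autGroup_iff hα.1.1 α).1 (h.mem_sys hα)).isMap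
    exact mem_autGroup_of_isMap ⟨φ, hD P hα.1 hφ, hv⟩ α fun x => (autFun_coe α x).symm
  intro P hPc hPn
  obtain ⟨Q, hPQ, hQ⟩ := h.exists_large P hPc.1 fun hc => hPn ⟨hPc.1, hc⟩
  refine ⟨Q, hPQ, fun hle => ?_⟩
  have hQR := (le_of_isConj hPQ).2
  have hQS := hQR.trans h.RS
  have := finite_of_le hQS
  obtain ⟨x, hx, hxn, hxQ⟩ := exists_moving h.pgroup hQS
    (inf_le_left.trans h.TS : centralizerIn T (Q ⊓ T) ≤ S) (fun m hm =>
      mem_normalizer_of_conj_mem (inf_le_left.trans h.TS) fun z hz =>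
        ⟨h.normT (hQS hm) hz.1, (NormalCentralizer.mem_centralizerIn_conj
          (normalizerIn_le_normalizerIn_inf (p := p) hI hQS (le_normalizerIn hQS hm))
          ⟨h.TS hz.1, hz.2⟩).2⟩)
    fun hsub => hQ fun c hc => ⟨hsub hc, hc.1⟩
  set α := conjAut Q hxn
  have hxR := h.TR hx.1
  have hαW : α ∈ h.sys.autGroup Q :=
    autInducedBy_le_autGroup hQR (conjAut_mem_autInducedBy hxn hxR)
  have hiff : ∀ {a : MulAut Q}, a ∈ h.sys.autGroup Q → ∀ z : Q, (z : Ω) ∈ Q ⊓ T →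
      (a z : Ω) ∈ Q ⊓ T :=
    fun {a} ha z hz => ⟨(a z).2, by
      rw [← autFun_coe a z]
      exact isMap_mem_of_stronglyClosed hI.2.1
        (((mem_autGroup_iff hQR a).1 ha).of_subsystem h.sub).isMap z.2 hz.2⟩
  set K := (MeetExt.modSub (Q ⊓ T) Q).subgroupOf (h.sys.autGroup Q)
  haveI hKn : K.Normal := ⟨fun k hk a => by
    obtain ⟨hk1, hk2⟩ := Subgroup.mem_subgroupOf.1 hk
    refine Subgroup.mem_subgroupOf.2 ⟨MeetExt.conj_fixSub (fun z hz =>
      hiff (Subgroup.inv_mem _ a.2) z hz) hk1, fun z => ?_⟩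
    obtain ⟨y, rfl⟩ := (a : MulAut Q).surjective z
    show (((a : MulAut Q) y)⁻¹ *
      (a : MulAut Q) ((k : MulAut Q) ((a : MulAut Q)⁻¹ ((a : MulAut Q) y))) : Q).1 ∈ Q ⊓ T
    rw [MulAut.inv_apply_self, ← map_inv, ← map_mul]
    exact hiff a.2 _ (hk2 y)⟩
  have hαK : (⟨α, hαW⟩ : h.sys.autGroup Q) ∈ K := by
    refine Subgroup.mem_subgroupOf.2 ⟨fun z hz => Subtype.ext ?_, fun z => ?_⟩
    · show x * (z : Ω) * x⁻¹ = z
      exact conj_eq_self_of_mem_centralizer hx.2 hz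
    · show (z : Ω)⁻¹ * (x * z * x⁻¹) ∈ Q ⊓ T
      refine ⟨Q.mul_mem (Q.inv_mem z.2) (conj_mem_of_mem_normalizer hxn z.2), ?_⟩
      rw [show (z : Ω)⁻¹ * (x * z * x⁻¹) = (z : Ω)⁻¹ * x * (z : Ω)⁻¹⁻¹ * x⁻¹ by group]
      exact T.mul_mem (h.normT (S.inv_mem (hQS z.2)) hx.1) (T.inv_mem hx.1)
  have hcore : α ∈ (Cfsg.pCore p (h.sys.autGroup Q)).map (h.sys.autGroup Q).subtype :=
    ⟨⟨α, hαW⟩, CfsgLib.Fitting.le_pCore hKn (MeetExt.isPGroup_modSub h.pgroup hQS).comap_subtype hαK,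
      rfl⟩
  obtain ⟨u, hu, huv⟩ := (mem_inn_iff α).1 (hle ⟨conjAut_mem_autInducedBy hxn hxR, hcore⟩)
  have hmem : u⁻¹ * x ∈ Q := hPc.2 Q hPQ
    ⟨R.mul_mem (R.inv_mem (hQR hu)) hxR, mul_inv_mem_centralizer fun z hz =>
      (conjAut_apply Q hxn ⟨z, hz⟩).symm.trans (huv ⟨z, hz⟩)⟩
  have := Q.mul_mem hu hmem
  rw [mul_inv_cancel_left] at this
  exact hxQ this

end Setting

end CfsgLib.Fusion.Supplement
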