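import Cfsg.Agent.Lib.Fusion.SupplementAutomizer
import Cfsg.Agent.Lib.Fusion.GeneratedAutomizer

/-!
The product of a normal subsystem over `T` with a subgroup `R` between `T` and `S`: the system over
`R` generated by the automorphisms of order prime to `p` trivial modulo `T` with trace in `E` on a
subgroup with `E`-centric trace.
-/

set_option autoImplicit false
set_option linter.unusedSectionVars false
set_option linter.style.haveILetI false

namespace CfsgLib.Fusion.Supplement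

open Cfsg Cfsg.FusionSystem
open CfsgLib.Fusion.NormalCentralizer

variable {Ω : Type*} [Group Ω] {S T R : Subgroup Ω} {F : FusionSystem S} {E : FusionSystem T}
variable {p : ℕ}

/-- The maps of `F` between subgroups of `R`. -/
def inR (F : FusionSystem S) (R : Subgroup Ω) (hRS : R ≤ S) : FusionSystem R where
  Hom P := {φ | φ ∈ F.Hom P ∧ P ≤ R ∧ ∀ x : P, φ x ∈ R}
  le_of_mem hφ := ⟨hφ.2.1, hφ.2.2⟩
  injective_of_mem hφ := F.injective_of_mem hφ.1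
  conj_mem hP hg := ⟨F.conj_mem (hP.trans hRS) (hRS hg), hP,
    fun x => R.mul_mem (R.mul_mem hg (hP x.2)) (R.inv_mem hg)⟩
  comp_mem hφ hψ hm := ⟨F.comp_mem hφ.1 hψ.1 hm, hφ.2.1, fun _ => hψ.2.2 _⟩
  inv_mem := by
    rintro P φ ⟨hφ, hP, hv⟩
    obtain ⟨ψ, hψ, hw⟩ := F.inv_mem hφ
    refine ⟨ψ, ⟨hψ, ?_, ?_⟩, hw⟩
    · rintro _ ⟨x, rfl⟩
      exact hv x
    · rintro ⟨_, x, rfl⟩
      rw [hw x]
      exact hP x.2

theorem isMap_inR {hRS : R ≤ S} {P : Subgroup Ω} {f : Ω → Ω} :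
    IsMap (inR F R hRS) P f ↔ IsMap F P f ∧ P ≤ R ∧ ∀ x ∈ P, f x ∈ R := by
  constructor
  · rintro ⟨φ, hφ, hv⟩
    exact ⟨⟨φ, hφ.1, hv⟩, hφ.2.1, fun x hx => hv ⟨x, hx⟩ ▸ hφ.2.2 ⟨x, hx⟩⟩
  · rintro ⟨⟨φ, hφ, hv⟩, hP, hm⟩
    exact ⟨φ, ⟨hφ, hP, fun x => (hv x).symm ▸ hm x x.2⟩, hv⟩

/-- `f` is `r` modulo `T`, and `r` after a map of `E` on the trace in `T`. -/
def MapsW (E : FusionSystem T) (P : Subgroup Ω) (f : Ω → Ω) (r : Ω) : Prop :=
  (∀ x ∈ P, (r * x * r⁻¹)⁻¹ * f x ∈ T) ∧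
    ∃ e, IsMap E (P ⊓ T) e ∧ ∀ x ∈ P ⊓ T, f x = r * e x * r⁻¹

/-- The maps of the ambient system for the product. -/
def Mem (F : FusionSystem S) (E : FusionSystem T) (R P : Subgroup Ω) (f : Ω → Ω) : Prop :=
  (IsMap F P f ∧ P ≤ R ∧ ∀ x ∈ P, f x ∈ R) ∧ ∃ r ∈ R, MapsW E P f r

/-- The generators of the product. -/
def Gen (F : FusionSystem S) (E : FusionSystem T) (p : ℕ) (R P : Subgroup Ω) (α : MulAut P) :
    Prop :=
  (P ≤ R ∧ E.IsCentric (P ⊓ T)) ∧ α ∈ Gam F E P ∧ (orderOf α).Coprime p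

/-- The hypotheses, with the subgroup `R`. -/
structure Setting (F : FusionSystem S) (p : ℕ) (E : FusionSystem T) (R : Subgroup Ω) : Prop
    extends Data F p E where
  TR : T ≤ R
  RS : R ≤ S

variable [Fact p.Prime] [Finite S]

namespace Data

variable (h : Data F p E)
include h

/-- A map of `E` conjugated by an element of `S`. -/
theorem conj_map {D V : Subgroup Ω} {e : Ω → Ω} (he : IsMap E D e) {s : Ω} (hs : s ∈ S)
    (hV : ∀ v ∈ V, s * v * s⁻¹ ∈ D) : IsMap E V (fun v => s⁻¹ * e (s * v * s⁻¹) * s) := by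
  set D' := V.map (MulAut.conj s).toMonoidHom with hD'
  have hle : D' ≤ D := by
    rintro _ ⟨v, hv, rfl⟩
    exact hV v hv
  obtain ⟨f', hf', hv'⟩ := strongInvariant_of_invariant h.inv D' T e (fun z => s⁻¹ * z * s⁻¹⁻¹)
    (hle.trans he.le) le_rfl (he.mono hle) (fun x hx => (he.mono hle).mem hx)
    (isMap_conj h.TS (S.inv_mem hs)) V (by
      ext z
      constructor
      · rintro ⟨_, ⟨v, hv, rfl⟩, rfl⟩
        show s⁻¹ * (s * v * s⁻¹) * s⁻¹⁻¹ ∈ V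
        simpa [mul_assoc] using hv
      · intro hz
        exact ⟨s * z * s⁻¹, ⟨z, hz, rfl⟩, by group⟩)
  refine hf'.congr fun v hv => ?_
  have h1 := hv' (s * v * s⁻¹) ⟨v, hv, rfl⟩
  simp only [inv_inv] at h1
  rwa [show s⁻¹ * (s * v * s⁻¹) * s = v by group] at h1

omit [Fact p.Prime] [Finite S] in
theorem mapsW_congr {P : Subgroup Ω} {f g : Ω → Ω} {r : Ω} (hf : MapsW E P f r)
    (he : ∀ x ∈ P, f x = g x) : MapsW E P g r :=
  ⟨fun x hx => he x hx ▸ hf.1 x hx, by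
    obtain ⟨e, hm, hv⟩ := hf.2
    exact ⟨e, hm, fun x hx => (he x hx.1).symm.trans (hv x hx)⟩⟩

theorem mapsW_comp {P Q : Subgroup Ω} {f g : Ω → Ω} {r s : Ω} (hr : r ∈ S) (hs : s ∈ S)
    (hf : MapsW E P f r) (hg : MapsW E Q g s) (hm : ∀ x ∈ P, f x ∈ Q) :
    MapsW E P (g ∘ f) (s * r) := by
  obtain ⟨e, he, hev⟩ := hf.2
  obtain ⟨e', he', he'v⟩ := hg.2
  refine ⟨fun x hx => ?_, ?_⟩
  · show (s * r * x * (s * r)⁻¹)⁻¹ * g (f x) ∈ T
    rw [show (s * r * x * (s * r)⁻¹)⁻¹ * g (f x) =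
      s * ((r * x * r⁻¹)⁻¹ * f x) * s⁻¹ * ((s * f x * s⁻¹)⁻¹ * g (f x)) by group]
    exact T.mul_mem (h.normT hs (hf.1 x hx)) (hg.1 _ (hm x hx))
  · obtain ⟨V, hV⟩ := he.exists_iso
    have hVQ : ∀ v ∈ V, r * v * r⁻¹ ∈ Q ⊓ T := fun v hv => by
      obtain ⟨x, hx, rfl⟩ := hV.surj hv
      rw [← hev x hx]
      exact ⟨hm x hx.1, hev x hx ▸ h.normT hr (he.mem hx)⟩
    refine ⟨_, he.comp (h.conj_map he' hr hVQ) fun x hx => hV.mem hx, fun x hx => ?_⟩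
    show g (f x) = s * r * (r⁻¹ * e' (r * e x * r⁻¹) * r) * (s * r)⁻¹
    rw [he'v _ ⟨hm x hx.1, hev x hx ▸ h.normT hr (he.mem hx)⟩, hev x hx]
    group

theorem mapsW_inv {P Q : Subgroup Ω} {f g : Ω → Ω} {r : Ω} (hr : r ∈ S) (hf : MapsW E P f r)
    (hi : IsIso F P Q f) (h1 : ∀ x ∈ P, g (f x) = x) : MapsW E Q g r⁻¹ := by
  obtain ⟨e, he, hev⟩ := hf.2
  refine ⟨fun y hy => ?_, ?_⟩
  · obtain ⟨x, hx, rfl⟩ := hi.surj hy
    rw [h1 x hx, show (r⁻¹ * f x * r⁻¹⁻¹)⁻¹ * x =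
      r⁻¹ * ((r * x * r⁻¹)⁻¹ * f x)⁻¹ * r⁻¹⁻¹ by group]
    exact h.normT (S.inv_mem hr) (T.inv_mem (hf.1 x hx))
  · obtain ⟨V, hV⟩ := he.exists_iso
    obtain ⟨d, hd, hd1, -⟩ := hV.exists_symm
    have hQV : ∀ v ∈ Q ⊓ T, r⁻¹ * v * r⁻¹⁻¹ ∈ V := fun v hv => by
      obtain ⟨x, hx, rfl⟩ := (iso_inf h.inv hi).surj hv
      rw [hev x hx, show r⁻¹ * (r * e x * r⁻¹) * r⁻¹⁻¹ = e x by group]
      exact hV.mem hx
    refine ⟨_, h.conj_map hd.isMap (S.inv_mem hr) hQV, fun v hv => ?_⟩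
    obtain ⟨x, hx, rfl⟩ := (iso_inf h.inv hi).surj hv
    show g (f x) = r⁻¹ * (r⁻¹⁻¹ * d (r⁻¹ * f x * r⁻¹⁻¹) * r⁻¹) * r⁻¹⁻¹
    rw [h1 x hx.1, hev x hx, show r⁻¹ * (r * e x * r⁻¹) * r⁻¹⁻¹ = e x by group, hd1 x hx]
    group

end Data

namespace Setting

variable (h : Setting F p E R)
include h

theorem isSubPred : PPrime.IsSubPred (inR F R h.RS) (Mem F E R) where
  isMap hf := isMap_inR.2 hf.1
  congr := by
    rintro P f g ⟨⟨hf, hP, hm⟩, r, hr, hw⟩ he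
    exact ⟨⟨hf.congr he, hP, fun x hx => he x hx ▸ hm x hx⟩, r, hr, h.mapsW_congr hw he⟩
  conj := by
    intro P g hP hg
    refine ⟨⟨isMap_conj (hP.trans h.RS) (h.RS hg), hP,
      fun x hx => R.mul_mem (R.mul_mem hg (hP hx)) (R.inv_mem hg)⟩, g, hg, fun x hx => ?_,
      id, isMap_id inf_le_right, fun x hx => rfl⟩
    rw [inv_mul_cancel]
    exact T.one_mem
  comp := by
    rintro P Q f g ⟨⟨hf, hP, -⟩, r, hr, hw⟩ ⟨⟨hg, -, hgm⟩, s, hs, hw'⟩ hm
    exact ⟨⟨hf.comp hg hm, hP, fun x hx => hgm _ (hm x hx)⟩, s * r, R.mul_mem hs hr,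
      h.mapsW_comp (h.RS hr) (h.RS hs) hw hw' hm⟩
  inv := by
    rintro P Q f g ⟨⟨hf, -, -⟩, r, hr, hw⟩ hi hg h1
    obtain ⟨hgF, hQ, hgm⟩ := isMap_inR.1 hg.isMap
    exact ⟨⟨hgF, hQ, hgm⟩, r⁻¹, R.inv_mem hr, h.mapsW_inv (h.RS hr) hw ⟨hf, hi.image_eq⟩ h1⟩

/-- The ambient system of the product. -/
def big : FusionSystem R := PPrime.ofPred (inR F R h.RS) (Mem F E R) h.isSubPred

/-- The product. -/
def sys : FusionSystem R :=
  PPrime.meet h.big fun D => ∀ P α, Gen F E p R P α → α ∈ D.autGroup P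

theorem isMap_sys {P : Subgroup Ω} {f : Ω → Ω} (hf : IsMap h.sys P f) : Mem F E R P f :=
  (PPrime.isMap_ofPred h.isSubPred).1 (PPrime.isMap_meet.1 hf).1

theorem sub : h.sys.IsSubsystemOf F := fun _ φ hφ =>
  (mem_hom_iff φ).2 (h.isMap_sys (isMap_homFun hφ)).1.1

theorem sys_le {D : FusionSystem R} (hD : ∀ P α, Gen F E p R P α → α ∈ D.autGroup P) :
    h.sys.IsSubsystemOf D :=
  PPrime.meet_le hD

theorem mem_sys {P : Subgroup Ω} {α : MulAut P} (hα : Gen F E p R P α) :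
    α ∈ h.sys.autGroup P := by
  have hP := hα.1.1
  refine PPrime.mem_autGroup_meet hP (mem_autGroup_of_isMap
    ((PPrime.isMap_ofPred h.isSubPred).2 ⟨⟨((mem_autGroup_iff (hP.trans h.RS) α).1
      (gam_le P hα.2.1)).isMap, hP, fun x hx => hP (autFun_mem α hx)⟩, 1, R.one_mem,
      fun x hx => ?_, autFun α, gam_isMap hα.2.1, fun x hx => by simp⟩) α
      fun x => (autFun_coe α x).symm) fun _ hD => hD P α hα
  rw [one_mul, inv_one, mul_one]
  exact gam_mod hα.2.1 hx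

theorem gam_of_coprime {P : Subgroup Ω} {α : MulAut P} (hα : α ∈ h.sys.autGroup P) (hP : P ≤ R)
    (ho : (orderOf α).Coprime p) : α ∈ Gam F E P := by
  obtain ⟨⟨hm, -, -⟩, r, hr, hw⟩ := h.isMap_sys ((mem_autGroup_iff hP α).1 hα).isMap
  have hrS := h.RS hr
  have hαF : α ∈ F.autGroup P :=
    (mem_autGroup_iff (hP.trans h.RS) α).2 ((mem_autGroup_iff hP α).1 hα |>.of_subsystem h.sub)
  have hk : ∀ k : ℕ, MapsW E P (autFun (α ^ k)) (r ^ k) := by
    intro k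
    induction k with
    | zero =>
      rw [pow_zero, pow_zero]
      refine ⟨fun x hx => ?_, id, isMap_id inf_le_right, fun x hx => ?_⟩
      · rw [NormalCentralizer.autFun_one hx]
        simp
      · rw [NormalCentralizer.autFun_one hx.1]
        simp
    | succ k ih =>
      rw [pow_succ', pow_succ']
      exact h.mapsW_congr (h.mapsW_comp (S.pow_mem hrS k) hrS ih hw fun x hx => autFun_mem _ hx)
        fun x hx => (autFun_mul _ _ hx).symm
  obtain ⟨j, hj⟩ := h.pgroup ⟨r, hrS⟩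
  have hrj : r ^ p ^ j = 1 := congrArg Subtype.val hj
  obtain ⟨e, he, hev⟩ := (hk (p ^ j)).2
  have hmem : α ^ p ^ j ∈ Gam F E P := by
    refine mem_gam h.inv ((F.autGroup P).pow_mem hαF _) (fun x hx => ?_)
      (he.congr fun x hx => ?_)
    · have h1 := (hk (p ^ j)).1 x hx
      rwa [hrj, one_mul, inv_one, mul_one] at h1
    · rw [hev x hx, hrj]
      simp
  obtain ⟨m, hm'⟩ := exists_pow_eq_self_of_coprime (ho.symm.pow_left j)
  exact hm' ▸ (Gam F E P).pow_mem hmem m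

theorem gen_transport {P Q : Subgroup Ω} {f : Ω → Ω} (hf : IsIso F P Q f) (hQ : Q ≤ R)
    {α : MulAut P} (hα : Gen F E p R P α) : Gen F E p R Q (MulAut.congr hf.equiv α) :=
  ⟨⟨hQ, centric_transport h.inv hf hα.1.2⟩, gam_transport h.inv hf hα.2.1,
    by rw [MulEquiv.orderOf_eq]; exact hα.2.2⟩

theorem fam_of_le {P Q : Subgroup Ω} (hP : E.IsCentric (P ⊓ T)) (hPQ : P ≤ Q) :
    E.IsCentric (Q ⊓ T) :=
  CfsgLib.Fusion.isCentric_of_le hP (inf_le_inf_right T hPQ) inf_le_right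

theorem genData :
    GenAutomizer.Data h.sys p (fun P => P ≤ R ∧ E.IsCentric (P ⊓ T)) (Gen F E p R) where
  pgroup := h.pgroup.to_le h.RS
  le hP := hP.1
  conj := fun {P Q} hP hc => by
    obtain ⟨f, hf⟩ := isConj_iff.1 hc
    exact ⟨hf.le_right, centric_transport h.inv (hf.of_subsystem h.sub) hP.2⟩
  mono := fun hP hPQ hQ => ⟨hQ, h.fam_of_le hP.2 hPQ⟩
  gen_fam hα := hα.1
  mem := h.mem_sys
  minimal := h.sys_le
  transport := fun hf _ hα => h.gen_transport (hf.of_subsystem h.sub) hf.le_right hα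
  coprime := fun hP hα ho => ⟨hP, h.gam_of_coprime hα hP.1 ho, ho⟩

/-- Automorphisms of order prime to `p` of the product are trivial modulo `T`, and lie in `E` on
subgroups of `T`. -/
theorem autGroup_E {P : Subgroup Ω} (hP : P ≤ T) {α : MulAut P} (hα : α ∈ h.sys.autGroup P)
    (ho : (orderOf α).Coprime p) : α ∈ E.autGroup P :=
  mem_autGroup_of_isMap ((gam_isMap (h.gam_of_coprime hα (hP.trans h.TR) ho)).mono (le_inf le_rfl hP))
    α fun x => (autFun_coe α x).symm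

theorem hyperfocal_le : h.sys.hyperfocalSubgroup p ≤ T := by
  refine (Subgroup.closure_le T).2 ?_
  rintro _ ⟨P, α, x, hP, hα, rfl⟩
  have := finite_of_le (hP.trans h.RS)
  have := finite_mulAut P
  let K : Subgroup (h.sys.autGroup P) :=
    (Gam F E P).comap (h.sys.autGroup P).subtype
  have hle : Cfsg.pResidual p (h.sys.autGroup P) ≤ K :=
    (Subgroup.closure_le _).2 fun a ha => h.gam_of_coprime a.2 hP ((Subgroup.orderOf_coe a).symm ▸ ha : (orderOf (a : MulAut P)).Coprime p)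
  have h1 := gam_mod (hle hα) x.2
  rwa [Subgroup.coe_subtype, autFun_coe] at h1

end Setting

end CfsgLib.Fusion.Supplement
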