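import Cfsg.Prelude.Def_Classical
import Cfsg.Agent.Lib.Fusion.SimpleModel
import Cfsg.Agent.Lib.Classical.Unitriangular
import Cfsg.Agent.Lib.Classical.SympTrans
import Cfsg.Agent.Lib.Classical.SympTorus
import Cfsg.Agent.Lib.Classical.SympParabolic

/-!
The fusion system of `PSp(2m, q)` in its own characteristic: a model Sylow subgroup, the Siegel and
point parabolics, and the absence of proper strongly closed subgroups.
-/

set_option autoImplicit false
set_option linter.unusedSectionVars false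

namespace CfsgLib.Fusion.SympCharP

open Matrix Cfsg CfsgLib.Classical CfsgLib.Classical.SympTrans CfsgLib.Classical.SympTorus
open CfsgLib.Classical.SympParabolic (E)

variable {F : Type*} [Field F] {m : ℕ}

local notation "V" => (Fin m ⊕ Fin m → F)
local notation "Mat" => Matrix (Fin m) (Fin m) F
local notation "G" => Matrix.symplecticGroup (Fin m) F
local notation "ω" => sympForm m F
local notation "Z" => Subgroup.center (Matrix.symplecticGroup (Fin m) F)
local notation "pr" => QuotientGroup.mk' (Subgroup.center (Matrix.symplecticGroup (Fin m) F))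

/-! ### Blocks -/

/-- The upper left block. -/
def bA (g : G) : Mat := g.1.toBlocks₁₁
/-- The upper right block. -/
def bB (g : G) : Mat := g.1.toBlocks₁₂
/-- The lower left block. -/
def bC (g : G) : Mat := g.1.toBlocks₂₁
/-- The lower right block. -/
def bD (g : G) : Mat := g.1.toBlocks₂₂

theorem eq_fromBlocks (g : G) : g.1 = fromBlocks (bA g) (bB g) (bC g) (bD g) :=
  (fromBlocks_toBlocks g.1).symm

theorem bA_mul (g h : G) : bA (g * h) = bA g * bA h + bB g * bC h := by
  show (g.1 * h.1).toBlocks₁₁ = _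
  rw [eq_fromBlocks g, eq_fromBlocks h, fromBlocks_multiply, toBlocks_fromBlocks₁₁]

theorem bC_mul (g h : G) : bC (g * h) = bC g * bA h + bD g * bC h := by
  show (g.1 * h.1).toBlocks₂₁ = _
  rw [eq_fromBlocks g, eq_fromBlocks h, fromBlocks_multiply, toBlocks_fromBlocks₂₁]

theorem bA_one : bA (1 : G) = 1 := by
  show (1 : Matrix (Fin m ⊕ Fin m) (Fin m ⊕ Fin m) F).toBlocks₁₁ = 1
  rw [← fromBlocks_one, toBlocks_fromBlocks₁₁]

theorem bC_one : bC (1 : G) = 0 := by
  show (1 : Matrix (Fin m ⊕ Fin m) (Fin m ⊕ Fin m) F).toBlocks₂₁ = 0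
  rw [← fromBlocks_one, toBlocks_fromBlocks₂₁]

theorem block_rel {g : G} (h : bC g = 0) :
    bD g * (bA g)ᵀ = 1 ∧ bB g * (bA g)ᵀ = bA g * (bB g)ᵀ := by
  have h1 := SymplecticGroup.mem_iff.1 g.2
  rw [eq_fromBlocks g, h, Matrix.J, fromBlocks_transpose, fromBlocks_multiply,
    fromBlocks_multiply] at h1
  have h21 := congrArg Matrix.toBlocks₂₁ h1
  have h11 := congrArg Matrix.toBlocks₁₁ h1
  simp only [toBlocks_fromBlocks₂₁, toBlocks_fromBlocks₁₁] at h21 h11
  simp only [Matrix.transpose_zero, Matrix.mul_zero, Matrix.zero_mul, add_zero, zero_add,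
    Matrix.mul_one, Matrix.mul_neg, Matrix.neg_mul, neg_zero, neg_neg] at h21 h11
  exact ⟨h21, by rwa [add_neg_eq_zero] at h11⟩

theorem app_e (g : G) (s r : Fin m ⊕ Fin m) : app g (e s) r = g.1 r s := by
  simp [app, e, Matrix.mulVec_single]

/-! ### Levi and unipotent elements -/

theorem lev_mem (A : GL (Fin m) F) :
    fromBlocks (A : Mat) 0 0 (((A⁻¹ : GL (Fin m) F) : Mat))ᵀ ∈ G := by
  rw [SymplecticGroup.mem_iff, Matrix.J, fromBlocks_transpose, fromBlocks_multiply,
    fromBlocks_multiply]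
  simp only [transpose_transpose, transpose_zero, Matrix.mul_zero, Matrix.zero_mul, add_zero,
    zero_add, Matrix.mul_neg, Matrix.mul_one, Matrix.neg_mul]
  rw [← transpose_mul, ← Units.val_mul, mul_inv_cancel]
  simp

/-- The Levi embedding. -/
def lev : GL (Fin m) F →* G where
  toFun A := ⟨_, lev_mem A⟩
  map_one' := Subtype.ext (by simp [fromBlocks_one])
  map_mul' A B := Subtype.ext (by
    show fromBlocks _ _ _ _ = fromBlocks _ _ _ _ * fromBlocks _ _ _ _
    rw [fromBlocks_multiply]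
    simp [transpose_mul])

/-- The Levi embedding of `SL`. -/
def lv : Matrix.SpecialLinearGroup (Fin m) F →* G := lev.comp Matrix.SpecialLinearGroup.toGL

theorem bA_lev (A : GL (Fin m) F) : bA (lev A) = A := toBlocks_fromBlocks₁₁ _ _ _ _
theorem bC_lev (A : GL (Fin m) F) : bC (lev A) = 0 := toBlocks_fromBlocks₂₁ _ _ _ _
theorem bA_lv (A : Matrix.SpecialLinearGroup (Fin m) F) : bA (lv A) = A.val :=
  toBlocks_fromBlocks₁₁ _ _ _ _
theorem bC_lv (A : Matrix.SpecialLinearGroup (Fin m) F) : bC (lv A) = 0 :=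
  toBlocks_fromBlocks₂₁ _ _ _ _

theorem up_mem {S : Mat} (hS : Sᵀ = S) : fromBlocks 1 S 0 1 ∈ G := by
  rw [SymplecticGroup.mem_iff, Matrix.J, fromBlocks_transpose, fromBlocks_multiply,
    fromBlocks_multiply]
  simp [hS]

/-- The elements of the Siegel radical. -/
def up (S : Mat) (hS : Sᵀ = S) : G := ⟨_, up_mem hS⟩

theorem bA_up (S : Mat) (hS : Sᵀ = S) : bA (up S hS) = 1 := toBlocks_fromBlocks₁₁ _ _ _ _
theorem bC_up (S : Mat) (hS : Sᵀ = S) : bC (up S hS) = 0 := toBlocks_fromBlocks₂₁ _ _ _ _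

theorem up_congr {S T : Mat} (hS : Sᵀ = S) (hT : Tᵀ = T) (h : S = T) : up S hS = up T hT := by
  subst h; rfl

theorem up_zero : up (0 : Mat) transpose_zero = 1 := Subtype.ext (by simp [up, fromBlocks_one])

theorem up_inj {S T : Mat} {hS : Sᵀ = S} {hT : Tᵀ = T} (h : up S hS = up T hT) : S = T := by
  have := congrArg (fun g : G => g.1.toBlocks₁₂) h
  simpa [up] using this

theorem sym_add {S T : Mat} (hS : Sᵀ = S) (hT : Tᵀ = T) : (S + T)ᵀ = S + T := by
  rw [transpose_add, hS, hT]

theorem up_mul {S T : Mat} (hS : Sᵀ = S) (hT : Tᵀ = T) :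
    up S hS * up T hT = up (S + T) (sym_add hS hT) := Subtype.ext (by
  show fromBlocks _ _ _ _ * fromBlocks _ _ _ _ = fromBlocks _ _ _ _
  rw [fromBlocks_multiply]
  simp [add_comm])

theorem sym_congr {S : Mat} (hS : Sᵀ = S) (A : Mat) : (A * S * Aᵀ)ᵀ = A * S * Aᵀ := by
  rw [transpose_mul, transpose_mul, transpose_transpose, hS, Matrix.mul_assoc]

theorem lev_conj (A : GL (Fin m) F) {S : Mat} (hS : Sᵀ = S) :
    lev A * up S hS * (lev A)⁻¹ = up ((A : Mat) * S * (A : Mat)ᵀ) (sym_congr hS _) := by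
  rw [mul_inv_eq_iff_eq_mul]
  apply Subtype.ext
  show fromBlocks _ 0 0 _ * fromBlocks 1 S 0 1 = fromBlocks 1 _ 0 1 * fromBlocks _ 0 0 _
  rw [fromBlocks_multiply, fromBlocks_multiply]
  simp only [Matrix.mul_one, Matrix.one_mul, Matrix.mul_zero, Matrix.zero_mul, add_zero, zero_add]
  congr 1
  rw [Matrix.mul_assoc ((A : Mat) * S), ← transpose_mul, ← Units.val_mul, inv_mul_cancel,
    Units.val_one, transpose_one, Matrix.mul_one]

theorem det_unitri {A : Mat} (h : Unitri.IsUnitri A) : A.det = 1 := by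
  rw [det_of_isUpperTriangular h.blockTriangular]
  exact Finset.prod_eq_one fun i _ => h.diag i

theorem decomp {g : G} (hC : bC g = 0) (hdet : (bA g).det = 1) :
    ∃ S hS, g = lv ⟨bA g, hdet⟩ * up S hS := by
  obtain ⟨hDA, hBA⟩ := block_rel hC
  have hAD : bA g * (bD g)ᵀ = 1 := by
    rw [← transpose_one (n := Fin m) (α := F), ← hDA, transpose_mul, transpose_transpose]
  have hDA' : (bD g)ᵀ * bA g = 1 := mul_eq_one_comm.1 hAD
  have hAD' : (bA g)ᵀ * bD g = 1 := mul_eq_one_comm.1 hDA
  have hinv : (((Matrix.SpecialLinearGroup.toGL (⟨bA g, hdet⟩ : Matrix.SpecialLinearGroup (Fin m) F))⁻¹ :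
      GL (Fin m) F) : Mat) = (bD g)ᵀ := by
    have h1 : (bA g : Mat) * (((Matrix.SpecialLinearGroup.toGL
        (⟨bA g, hdet⟩ : Matrix.SpecialLinearGroup (Fin m) F))⁻¹ : GL (Fin m) F) : Mat) = 1 :=
      Units.mul_inv (Matrix.SpecialLinearGroup.toGL (⟨bA g, hdet⟩ : Matrix.SpecialLinearGroup (Fin m) F))
    calc _ = (bD g)ᵀ * bA g * _ := by rw [hDA', Matrix.one_mul]
      _ = _ := by rw [Matrix.mul_assoc, h1, Matrix.mul_one]
  refine ⟨(bD g)ᵀ * bB g, ?_, Subtype.ext ?_⟩
  · rw [transpose_mul, transpose_transpose]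
    calc (bB g)ᵀ * bD g = (bD g)ᵀ * (bA g * (bB g)ᵀ) * bD g := by
          rw [← Matrix.mul_assoc, hDA', Matrix.one_mul]
      _ = (bD g)ᵀ * (bB g * (bA g)ᵀ) * bD g := by rw [hBA]
      _ = (bD g)ᵀ * bB g := by
          rw [Matrix.mul_assoc, Matrix.mul_assoc, hAD', Matrix.mul_one]
  · show g.1 = fromBlocks _ 0 0 _ * fromBlocks 1 _ 0 1
    rw [fromBlocks_multiply, eq_fromBlocks g, hC, hinv]
    simp only [Matrix.mul_one, Matrix.mul_zero, Matrix.zero_mul, add_zero, zero_add,
      transpose_transpose]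
    congr 1
    rw [← Matrix.mul_assoc]
    show bB g = bA g * (bD g)ᵀ * bB g
    rw [hAD, Matrix.one_mul]

/-! ### The unipotent subgroup -/

variable [Finite F]

variable (F m) in
/-- The unipotent radical of the Borel subgroup. -/
noncomputable def U : Subgroup G :=
  ({ carrier := {g | bC g = 0 ∧ Unitri.IsUnitri (bA g)}
     mul_mem' := fun {g h} hg hh => ⟨by simp [bC_mul, hg.1, hh.1],
       by rw [bA_mul, hh.1, Matrix.mul_zero, add_zero]; exact hg.2.mul hh.2⟩
     one_mem' := ⟨bC_one, by rw [bA_one]; exact Unitri.isUnitri_one⟩ } : Submonoid G) |>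
    Unitri.toSubgroupFinite

theorem mem_U {g : G} : g ∈ U F m ↔ bC g = 0 ∧ Unitri.IsUnitri (bA g) := Iff.rfl

variable (F m) in
/-- The Siegel radical. -/
noncomputable def N : Subgroup G :=
  ({ carrier := {g | bC g = 0 ∧ bA g = 1}
     mul_mem' := fun {g h} hg hh => ⟨by simp [bC_mul, hg.1, hh.1],
       by rw [bA_mul, hh.1, Matrix.mul_zero, add_zero, hg.2, hh.2, Matrix.mul_one]⟩
     one_mem' := ⟨bC_one, bA_one⟩ } : Submonoid G) |>
    Unitri.toSubgroupFinite

theorem mem_N {g : G} : g ∈ N F m ↔ bC g = 0 ∧ bA g = 1 := Iff.rfl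

theorem N_le_U : N F m ≤ U F m := fun _ hg => ⟨hg.1, hg.2 ▸ Unitri.isUnitri_one⟩

theorem up_mem_N (S : Mat) (hS : Sᵀ = S) : up S hS ∈ N F m := ⟨bC_up S hS, bA_up S hS⟩

theorem exists_up {g : G} (hg : g ∈ N F m) : ∃ S hS, g = up S hS := by
  obtain ⟨S, hS, h⟩ := decomp hg.1 (by rw [hg.2, det_one])
  refine ⟨S, hS, h.trans ?_⟩
  have h1 : lv (⟨bA g, by rw [hg.2, det_one]⟩ : Matrix.SpecialLinearGroup (Fin m) F) = 1 := by
    have h2 : ((⟨bA g, by rw [hg.2, det_one]⟩ : Matrix.SpecialLinearGroup (Fin m) F) :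
        Matrix.SpecialLinearGroup (Fin m) F) = (1 : Matrix.SpecialLinearGroup (Fin m) F) :=
      Matrix.SpecialLinearGroup.ext _ _ fun i j => by
        show bA g i j = (1 : Mat) i j
        rw [hg.2]
    exact (congrArg lv h2).trans (map_one lv)
  rw [h1, one_mul]

theorem lv_mem_U {A : Matrix.SpecialLinearGroup (Fin m) F} (hA : Unitri.IsUnitri A.val) :
    lv A ∈ U F m := ⟨bC_lv A, by rw [bA_lv]; exact hA⟩

theorem lev_normalizer_N (A : GL (Fin m) F) :
    lev A ∈ Subgroup.normalizer (N F m : Set G) := by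
  refine Subgroup.mem_normalizer_fintype fun g hg => ?_
  obtain ⟨S, hS, rfl⟩ := exists_up hg
  rw [lev_conj]
  exact up_mem_N _ _

theorem U_le_normalizer_N : U F m ≤ Subgroup.normalizer (N F m : Set G) := by
  intro g hg
  obtain ⟨S, hS, h⟩ := decomp hg.1 (det_unitri hg.2)
  rw [h]
  exact mul_mem (lev_normalizer_N _) (Subgroup.le_normalizer (up_mem_N S hS))

/-! ### The flag and the Borel subgroup -/

theorem e_mem_E {k : ℕ} {i : Fin m} (h : (i : ℕ) < k) : e (.inl i) ∈ E (F := F) (m := m) k := by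
  refine ⟨fun j => by simp [e], fun j hj => ?_⟩
  have : j ≠ i := fun e => by subst e; omega
  simp [e, this]

theorem sub_mem_E {u : G} (hu : u ∈ U F m) (i : Fin m) :
    app u (e (.inl i)) - e (.inl i) ∈ E (F := F) (m := m) i := by
  refine ⟨fun j => ?_, fun j hj => ?_⟩
  · rw [Pi.sub_apply, app_e]
    show bC u j i - _ = 0
    simp [hu.1, e]
  · rw [Pi.sub_apply, app_e]
    show bA u j i - _ = 0
    rw [hu.2 j i (Fin.le_def.2 hj)]
    simp [e, Pi.single_apply]

theorem app_up {S : Mat} (hS : Sᵀ = S) (v : V) :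
    app (up S hS) v = Sum.elim (fun j => v (.inl j) + (S *ᵥ fun l => v (.inr l)) j)
      (fun j => v (.inr j)) := by
  show fromBlocks 1 S 0 1 *ᵥ v = _
  rw [fromBlocks_mulVec]
  funext r
  rcases r with j | j <;> simp [Function.comp_def]

theorem app_lev (A : GL (Fin m) F) (v : V) :
    app (lev A) v = Sum.elim ((A : Mat) *ᵥ fun l => v (.inl l))
      ((((A⁻¹ : GL (Fin m) F) : Mat))ᵀ *ᵥ fun l => v (.inr l)) := by
  show fromBlocks _ 0 0 _ *ᵥ v = _
  rw [fromBlocks_mulVec]
  funext r
  rcases r with j | j <;> simp [Function.comp_def]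

theorem sym_single (j : Fin m) (c : F) : (Matrix.single j j c)ᵀ = Matrix.single j j c :=
  transpose_single ..

theorem sym_pair (i j : Fin m) (c : F) :
    (Matrix.single i j c + Matrix.single j i c)ᵀ = Matrix.single i j c + Matrix.single j i c := by
  rw [transpose_add, transpose_single, transpose_single, add_comm]

theorem mem_E_succ {k : ℕ} (hk : k < m) {v : V}
    (h : ∀ u ∈ U F m, app u v - v ∈ E (F := F) (m := m) k) : v ∈ E (F := F) (m := m) (k + 1) := by
  have hy : ∀ j, v (.inr j) = 0 := by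
    intro j
    by_cases hj : k ≤ (j : ℕ)
    · have := (h _ (N_le_U (up_mem_N _ (sym_single j 1)))).2 j hj
      simpa [app_up, Matrix.single_mulVec, Function.update_apply] using this
    · have hne : (⟨k, hk⟩ : Fin m) ≠ j := fun e => hj (by rw [← e])
      have := (h _ (N_le_U (up_mem_N _ (sym_pair ⟨k, hk⟩ j 1)))).2 ⟨k, hk⟩ le_rfl
      simpa [app_up, Matrix.add_mulVec, Matrix.single_mulVec, Function.update_apply, hne] using this
  refine ⟨hy, fun l hl => ?_⟩
  have hlt : (⟨k, hk⟩ : Fin m) < l := Fin.lt_def.2 hl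
  have := (h _ (lv_mem_U (Unitri.isUnitri_transvection hlt 1))).2 ⟨k, hk⟩ le_rfl
  rw [show lv _ = lev (Matrix.SpecialLinearGroup.toGL _) from rfl, Pi.sub_apply, app_lev,
    Sum.elim_inl] at this
  have e1 : ((Matrix.SpecialLinearGroup.toGL
      (Matrix.SpecialLinearGroup.transvection hlt.ne (1 : F)) : GL (Fin m) F) : Mat) =
      1 + Matrix.single ⟨k, hk⟩ l 1 :=
    Matrix.SpecialLinearGroup.transvection_coe hlt.ne 1
  rw [e1] at this
  simpa [Matrix.add_mulVec, Matrix.single_mulVec, Function.update_apply] using this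

theorem normalizing_preserves {g : G} (hg : ∀ u ∈ U F m, g⁻¹ * u * g ∈ U F m) :
    ∀ k ≤ m, ∀ v ∈ E (F := F) (m := m) k, app g v ∈ E (F := F) (m := m) k := by
  intro k
  induction k with
  | zero =>
    intro _ v hv
    have hv0 : v = 0 := funext fun r => by
      rcases r with i | i
      · exact hv.2 i (Nat.zero_le _)
      · exact hv.1 i
    rw [hv0, app, mulVec_zero]
    exact zero_mem _
  | succ k ih =>
    intro hk v hv
    have hmono : E (F := F) (m := m) k ≤ E (k + 1) :=
      fun w hw => ⟨hw.1, fun i hi => hw.2 i (by omega)⟩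
    set i : Fin m := ⟨k, by omega⟩
    set c := v (.inl i)
    have hw : v - c • e (.inl i) ∈ E (F := F) (m := m) k := by
      refine ⟨fun j => by simp [e, hv.1 j], fun j hj => ?_⟩
      by_cases hji : j = i
      · subst hji; simp [e, c]
      · have := hv.2 j (by have := Fin.val_ne_of_ne hji; simp only [i] at this; omega)
        simp [e, hji, this]
    have he : app g (e (.inl i)) ∈ E (F := F) (m := m) (k + 1) := by
      refine mem_E_succ (by omega) fun u hu => ?_
      have h1 := ih (by omega) _ (sub_mem_E (hg u hu) i)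
      rwa [app_sub, ← app_mul, ← mul_assoc, ← mul_assoc, mul_inv_cancel, one_mul, app_mul] at h1
    rw [show v = (v - c • e (.inl i)) + c • e (.inl i) by abel, app_add, app_smul]
    exact add_mem (hmono (ih (by omega) _ hw)) (Submodule.smul_mem _ c he)

theorem triangular_of_normalizing {g : G} (hg : ∀ u ∈ U F m, g⁻¹ * u * g ∈ U F m) :
    bC g = 0 ∧ BlockTriangular (bA g) id := by
  have h : ∀ i : Fin m, app g (e (.inl i)) ∈ E (F := F) (m := m) (i + 1) := fun i =>
    normalizing_preserves hg _ i.2 _ (e_mem_E (Nat.lt_succ_self _))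
  refine ⟨Matrix.ext fun j i => ?_, fun j i hij => ?_⟩
  · have := (h i).1 j
    rwa [app_e] at this
  · have := (h i).2 j (Fin.lt_def.1 hij)
    rwa [app_e] at this

theorem bA_pow {g : G} (h : bC g = 0) (n : ℕ) : bC (g ^ n) = 0 ∧ bA (g ^ n) = bA g ^ n := by
  induction n with
  | zero => simp [bC_one, bA_one]
  | succ n ih =>
    rw [pow_succ, bC_mul, bA_mul, ih.1, ih.2, h]
    simp [pow_succ]

theorem diag_pow {A : Mat} (hA : BlockTriangular A id) (n : ℕ) (i : Fin m) :
    (A ^ n) i i = A i i ^ n ∧ BlockTriangular (A ^ n) id := by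
  induction n with
  | zero => simp [blockTriangular_one]
  | succ n ih =>
    refine ⟨?_, by rw [pow_succ]; exact ih.2.mul hA⟩
    rw [pow_succ, pow_succ, mul_apply, Finset.sum_eq_single i, ih.1]
    · intro k _ hk
      rcases lt_or_gt_of_ne hk with h | h
      · rw [ih.2 h, zero_mul]
      · rw [hA h, mul_zero]
    · simp

section CharP

variable {p : ℕ} [Fact p.Prime] [CharP F p]

include p

/-- A `p`-element normalising `U` lies in `U`. -/
theorem mem_U_of_pow {g : G} (hg : ∀ u ∈ U F m, g⁻¹ * u * g ∈ U F m) {k : ℕ}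
    (hk : g ^ p ^ k = 1) : g ∈ U F m := by
  obtain ⟨hC, hT⟩ := triangular_of_normalizing hg
  refine ⟨hC, fun i j hji => ?_⟩
  rcases hji.lt_or_eq with h | h
  · rw [if_neg h.ne', hT h]
  · subst h
    rw [if_pos rfl]
    have h1 := (diag_pow hT (p ^ k) j).1
    rw [← (bA_pow hC (p ^ k)).2, hk, bA_one, one_apply_eq] at h1
    rw [← pow_one (bA g j j), ← ExpChar.pow_prime_pow_mul_eq_one_iff p k 1, mul_one]
    exact h1.symm

theorem up_pow_p {S : Mat} (hS : Sᵀ = S) : up S hS ^ p = 1 := by
  have h : ∀ n : ℕ, ∃ h', up S hS ^ n = up (n • S) h' := by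
    intro n
    induction n with
    | zero => exact ⟨by rw [zero_smul, transpose_zero], by
        rw [pow_zero, ← up_zero]; exact up_congr _ _ (zero_smul ℕ S).symm⟩
    | succ n ih =>
      obtain ⟨h', h2⟩ := ih
      exact ⟨by rw [transpose_smul, hS], by
        rw [pow_succ, h2, up_mul]; exact up_congr _ _ (succ_nsmul S n).symm⟩
  obtain ⟨h', h2⟩ := h p
  rw [h2, ← up_zero]
  refine up_congr _ _ ?_
  ext i j
  simp [CharP.cast_eq_zero]

variable (F m) in
theorem isPGroup_U : IsPGroup p (U F m) := by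
  letI := Fintype.ofFinite F
  obtain ⟨f, -, hf⟩ := FiniteField.card F p
  have hUni : IsPGroup p (Unitri.U m F) :=
    IsPGroup.of_card (n := f * (m * (m - 1) / 2))
      (by rw [Unitri.card_U, Nat.card_eq_fintype_card, hf, ← pow_mul])
  rintro ⟨g, hg⟩
  obtain ⟨k, hk⟩ := hUni ⟨⟨bA g, det_unitri hg.2⟩, hg.2⟩
  have hA : bA g ^ p ^ k = 1 := by
    have := congrArg (fun x : Unitri.U m F => x.1.val) hk
    simp only [SubgroupClass.coe_pow, Matrix.SpecialLinearGroup.coe_pow, OneMemClass.coe_one,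
      Matrix.SpecialLinearGroup.coe_one] at this
    exact this
  have hN : g ^ p ^ k ∈ N F m := ⟨(bA_pow hg.1 _).1, by rw [(bA_pow hg.1 _).2, hA]⟩
  obtain ⟨S, hS, h⟩ := exists_up hN
  refine ⟨k + 1, Subtype.ext ?_⟩
  show g ^ p ^ (k + 1) = 1
  rw [pow_succ, pow_mul, h, up_pow_p hS]

/-! ### The centre -/

theorem center_scalar {z : G} (hz : z ∈ Z) (v : V) : ∃ c : F, app z v = c • v := by
  by_cases hv : v = 0
  · exact ⟨0, by rw [hv, app, mulVec_zero, smul_zero]⟩
  have h : T (app z v) 1 = T v (1 : F) := by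
    rw [← conj_T, ← Subgroup.mem_center_iff.1 hz (T v 1)]
    group
  obtain ⟨x, -, hx⟩ := exists_f_ne (mem_W_zero v) hv
  have h1 := congrArg (fun t => app t x) h
  simp only [app_T, one_mul, add_right_inj] at h1
  have hxv : ω x v ≠ 0 := by rw [f_swap v x]; exact neg_ne_zero.2 hx
  have hc : ω x (app z v) ≠ 0 := by
    intro h0
    rw [h0, zero_smul] at h1
    exact (smul_ne_zero hxv hv) h1.symm
  refine ⟨(ω x (app z v))⁻¹ * ω x v, ?_⟩
  rw [← smul_smul, ← h1, smul_smul, inv_mul_cancel₀ hc, one_smul]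

theorem center_U {z : G} (hz : z ∈ Z) (hzU : z ∈ U F m) : z = 1 := by
  have hl : ∀ i, app z (e (.inl i)) = e (.inl i) := by
    intro i
    obtain ⟨c, hc⟩ := center_scalar (p := p) hz (e (.inl i))
    have h1 := congrFun hc (.inl i)
    rw [app_e] at h1
    have h2 : bA z i i = 1 := hzU.2.diag i
    have hc1 : c = 1 := by
      simp only [Pi.smul_apply, e, Pi.single_eq_same, smul_eq_mul, mul_one] at h1
      exact h1.symm.trans h2
    rw [hc, hc1, one_smul]
  refine ext_basis fun s => ?_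
  rcases s with i | i
  · rw [hl, app_one]
  · obtain ⟨c, hc⟩ := center_scalar (p := p) hz (e (.inr i))
    have h1 := f_app z (e (.inl i)) (e (.inr i))
    rw [hl, hc, f_smul_right, w_lr, if_pos rfl] at h1
    have hc1 : c = 1 := by linear_combination -h1
    rw [hc, hc1, one_smul, app_one]

theorem center_pow {z : G} (hz : z ∈ Z) {k : ℕ} (hk : z ^ p ^ k = 1) : z = 1 := by
  refine center_U (p := p) hz (mem_U_of_pow (fun u hu => ?_) hk)
  rw [mul_assoc, Subgroup.mem_center_iff.1 hz u, inv_mul_cancel_left]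
  exact hu

theorem mk_center {x y : G} (h : pr x = pr y) : x * y⁻¹ ∈ Z := by
  refine (QuotientGroup.eq_one_iff _).1 ?_
  show pr (x * y⁻¹) = 1
  rw [map_mul, map_inv, h, mul_inv_cancel]

/-- A `p`-element over the image of `U` lies in `U`. -/
theorem mem_U_of_mk {x : G} (hx : pr x ∈ (U F m).map pr) {k : ℕ} (hk : x ^ p ^ k = 1) :
    x ∈ U F m := by
  obtain ⟨u, hu, hxu⟩ := hx
  have hz := mk_center (p := p) hxu.symm
  refine mem_U_of_pow (fun w hw => ?_) hk
  have h : x⁻¹ * w * x = u⁻¹ * w * u := by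
    rw [show x = x * u⁻¹ * u by group, mul_inv_rev (x * u⁻¹) u]
    rw [show u⁻¹ * (x * u⁻¹)⁻¹ * w * (x * u⁻¹ * u) = u⁻¹ * ((x * u⁻¹)⁻¹ * (w * (x * u⁻¹))) * u by
      group, Subgroup.mem_center_iff.1 hz w]
    group
  rw [h]
  exact mul_mem (mul_mem (inv_mem hu) hw) hu

theorem pr_injOn {x y : G} (hx : x ∈ U F m) (hy : y ∈ U F m) (h : pr x = pr y) : x = y :=
  mul_inv_eq_one.1 (center_U (p := p) (mk_center (p := p) h) (mul_mem hx (inv_mem hy)))

theorem conj_mem_of_normalizer {g : G}
    (hg : pr g ∈ Subgroup.normalizer (((U F m).map pr : Subgroup (PSp m F)) : Set (PSp m F))) :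
    ∀ u ∈ U F m, g * u * g⁻¹ ∈ U F m := by
  intro u hu
  obtain ⟨k, hk⟩ := isPGroup_U F m (p := p) ⟨u, hu⟩
  refine mem_U_of_mk (p := p) (k := k) ?_ ?_
  · rw [map_mul, map_mul, map_inv]
    exact (Subgroup.mem_normalizer_iff.1 hg _).1 (Subgroup.mem_map_of_mem pr hu)
  · rw [conj_pow, show u ^ p ^ k = 1 from congrArg Subtype.val hk, mul_one, mul_inv_cancel]

theorem conj_mem_of_normalizer' {g : G}
    (hg : pr g ∈ Subgroup.normalizer (((U F m).map pr : Subgroup (PSp m F)) : Set (PSp m F))) :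
    ∀ u ∈ U F m, g⁻¹ * u * g ∈ U F m := by
  intro u hu
  have := conj_mem_of_normalizer (p := p) (g := g⁻¹) (by rw [map_inv]; exact inv_mem hg) u hu
  rwa [inv_inv] at this

/-- The model Sylow subgroup. -/
theorem exists_sylow : ∃ P : Sylow p (PSp m F), (P : Subgroup (PSp m F)) = (U F m).map pr := by
  set Ub := (U F m).map pr with hUb
  have hUp : IsPGroup p Ub := (isPGroup_U F m).map _
  obtain ⟨P, hP⟩ := hUp.exists_le_sylow
  refine ⟨P, le_antisymm ?_ hP⟩
  by_contra hne
  have hlt : Ub.subgroupOf (P : Subgroup (PSp m F)) < ⊤ := by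
    rw [lt_top_iff_ne_top, ne_eq, Subgroup.subgroupOf_eq_top]
    exact hne
  haveI : Group.IsNilpotent (P : Subgroup (PSp m F)) := P.isPGroup'.isNilpotent
  obtain ⟨x, hxN, hxU⟩ := SetLike.exists_of_lt
    (normalizerCondition_of_isNilpotent (Ub.subgroupOf (P : Subgroup (PSp m F))) hlt)
  have hxn : (x : PSp m F) ∈ Subgroup.normalizer (Ub : Set (PSp m F)) := by
    refine Subgroup.mem_normalizer_fintype fun y hy => ?_
    exact Subgroup.mem_subgroupOf.1 ((Subgroup.mem_normalizer_iff.1 hxN ⟨y, hP hy⟩).1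
      (Subgroup.mem_subgroupOf.2 hy))
  obtain ⟨g, hg⟩ := QuotientGroup.mk'_surjective Z (x : PSp m F)
  obtain ⟨n, hn⟩ := P.isPGroup' x
  obtain ⟨a, r, hr, hord⟩ := Nat.exists_eq_pow_mul_and_not_dvd (orderOf_pos g).ne' p
    (Fact.out : p.Prime).ne_one
  have hgr : (g ^ r) ^ p ^ a = 1 := by rw [← pow_mul, mul_comm, ← hord, pow_orderOf_eq_one]
  have hgU : g ^ r ∈ U F m := by
    refine mem_U_of_pow (fun u hu => ?_) hgr
    refine conj_mem_of_normalizer' (p := p) ?_ u hu
    rw [map_pow, hg]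
    exact pow_mem hxn r
  have hxr : x ^ r ∈ Ub.subgroupOf (P : Subgroup (PSp m F)) := by
    rw [Subgroup.mem_subgroupOf, SubgroupClass.coe_pow, ← hg, ← map_pow]
    exact Subgroup.mem_map_of_mem pr hgU
  have hcop : Nat.Coprime r (orderOf x) :=
    ((Nat.Coprime.pow_right n ((Nat.Prime.coprime_iff_not_dvd Fact.out).2 hr).symm)).coprime_dvd_right
      (orderOf_dvd_of_pow_eq_one hn)
  obtain ⟨s, hs⟩ := exists_pow_eq_self_of_coprime hcop
  exact hxU (hs ▸ pow_mem hxr s)

/-! ### The centralisers of the two radicals -/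

/-- A scalar of square one. -/
def sgn (ε : F) (hε : ε * ε = 1) : G :=
  ⟨ε • 1, mem_iff_f.2 fun u v => by
    rw [smul_mulVec, smul_mulVec, one_mulVec, one_mulVec, f_smul_left, f_smul_right, ← mul_assoc,
      hε, one_mul]⟩

theorem sgn_mem (ε : F) (hε : ε * ε = 1) : sgn (m := m) ε hε ∈ Z :=
  Subgroup.mem_center_iff.2 fun g => Subtype.ext (by
    show g.1 * (ε • 1) = (ε • 1) * g.1
    simp)

theorem app_sgn (ε : F) (hε : ε * ε = 1) (v : V) : app (sgn (m := m) ε hε) v = ε • v := by
  show (ε • 1 : Matrix (Fin m ⊕ Fin m) (Fin m ⊕ Fin m) F) *ᵥ v = _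
  rw [smul_mulVec, one_mulVec]

theorem congr_single (A : Mat) (j l : Fin m) (c : F) (a b : Fin m) :
    (A * Matrix.single j l c * Aᵀ) a b = A a j * c * A b l := by
  rw [mul_apply, Finset.sum_eq_single l]
  · rw [mul_single_apply_same, transpose_apply]
  · intro k _ hk
    rw [mul_single_apply_of_ne _ _ _ _ _ hk, zero_mul]
  · simp

theorem scalar_of_congr {A : Mat} (h : ∀ S : Mat, Sᵀ = S → A * S * Aᵀ = S) :
    (∀ i, A i i * A i i = 1) ∧ (∀ i j, i ≠ j → A i j = 0) ∧ ∀ i j, A i i = A j j := by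
  have h1 : ∀ i, A i i * A i i = 1 := fun i => by
    have := congrFun (congrFun (h _ (sym_single i 1)) i) i
    rw [congr_single, mul_one, single_apply_same] at this
    exact this
  have h2 : ∀ i j, i ≠ j → A i j = 0 := fun i j hij => by
    have := congrFun (congrFun (h _ (sym_single j 1)) i) j
    rw [congr_single, mul_one, single_apply_of_ne _ _ _ _ _ (fun e => hij e.1.symm)] at this
    refine (mul_eq_zero.1 this).resolve_right fun h0 => ?_
    have := h1 j
    rw [h0, mul_zero] at this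
    exact zero_ne_one this
  refine ⟨h1, h2, fun i j => ?_⟩
  by_cases hij : i = j
  · rw [hij]
  have := congrFun (congrFun (h _ (sym_pair i j 1)) i) j
  rw [Matrix.mul_add, Matrix.add_mul, Matrix.add_apply, congr_single, congr_single,
    Matrix.add_apply, single_apply_same, single_apply_of_ne _ _ _ _ _ (fun e => hij e.2),
    h2 i j hij, h2 j i (Ne.symm hij), mul_one, mul_one, mul_zero, add_zero, add_zero] at this
  calc A i i = A i i * (A j j * A j j) := by rw [h1, mul_one]
    _ = A j j := by rw [← mul_assoc, this, one_mul]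

theorem centralizer_N {g : G} (hm : 1 ≤ m) (h : ∀ S hS, g * up S hS = up S hS * g) :
    ∃ z ∈ Z, z * g ∈ N F m := by
  have hblk : ∀ S : Mat, Sᵀ = S → S * bC g = 0 ∧ bA g * S + bB g = bB g + S * bD g := by
    intro S hS
    have h1 := congrArg Subtype.val (h S hS)
    change g.1 * fromBlocks 1 S 0 1 = fromBlocks 1 S 0 1 * g.1 at h1
    rw [eq_fromBlocks g, fromBlocks_multiply, fromBlocks_multiply] at h1
    obtain ⟨e1, e2, -, -⟩ := fromBlocks_inj.1 h1
    simp only [Matrix.mul_one, Matrix.one_mul, Matrix.mul_zero, add_zero, Matrix.zero_mul] at e1 e2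
    exact ⟨by simpa using e1, e2⟩
  have hC : bC g = 0 := by
    ext i j
    have := congrFun (congrFun (hblk _ (sym_single i 1)).1 i) j
    rwa [single_mul_apply_same, one_mul] at this
  obtain ⟨hDA, -⟩ := block_rel hC
  have hS : ∀ S : Mat, Sᵀ = S → bA g * S * (bA g)ᵀ = S := fun S hS => by
    have h2 := (hblk S hS).2
    rw [add_comm (bB g), add_left_inj] at h2
    rw [h2, Matrix.mul_assoc, hDA, Matrix.mul_one]
  obtain ⟨h1, h2, h3⟩ := scalar_of_congr (p := p) hS
  set i0 : Fin m := ⟨0, hm⟩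
  set ε := bA g i0 i0
  refine ⟨sgn ε (h1 i0), sgn_mem _ _, ?_, ?_⟩
  · ext i j
    show ((ε • (1 : Matrix (Fin m ⊕ Fin m) (Fin m ⊕ Fin m) F)) * g.1) (.inr i) (.inl j) = 0
    rw [Matrix.smul_mul, Matrix.one_mul, Matrix.smul_apply]
    rw [show g.1 (.inr i) (.inl j) = bC g i j from rfl, hC]
    simp
  · ext i j
    show ((ε • (1 : Matrix (Fin m ⊕ Fin m) (Fin m ⊕ Fin m) F)) * g.1) (.inl i) (.inl j) = (1 : Mat) i j
    rw [Matrix.smul_mul, Matrix.one_mul, Matrix.smul_apply,
      show g.1 (.inl i) (.inl j) = bA g i j from rfl]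
    by_cases hij : i = j
    · subst hij
      rw [one_apply_eq, smul_eq_mul, h3 i i0]
      exact h1 i0
    · rw [one_apply_ne hij, h2 i j hij, smul_zero]

variable (F m) in
/-- The radical of the stabiliser of the point `e₀`. -/
noncomputable def Q (hm : 1 ≤ m) : Subgroup G :=
  ({ carrier := {g | app g (e (.inl ⟨0, hm⟩)) = e (.inl ⟨0, hm⟩) ∧
        ∀ x : V, ω x (e (.inl ⟨0, hm⟩)) = 0 → ∃ c : F, app g x = x + c • e (.inl ⟨0, hm⟩)}
     mul_mem' := fun {g h} hg hh => ⟨by rw [app_mul, hh.1, hg.1], fun x hx => by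
       obtain ⟨c, hc⟩ := hh.2 x hx
       obtain ⟨d, hd⟩ := hg.2 x hx
       exact ⟨d + c, by rw [app_mul, hc, app_add, app_smul, hg.1, hd, add_assoc, add_smul]⟩⟩
     one_mem' := ⟨app_one _, fun x _ => ⟨0, by rw [app_one, zero_smul, add_zero]⟩⟩ } : Submonoid G) |>
    Unitri.toSubgroupFinite

theorem mem_Q {hm : 1 ≤ m} {g : G} : g ∈ Q F m hm ↔ app g (e (.inl ⟨0, hm⟩)) = e (.inl ⟨0, hm⟩) ∧
    ∀ x : V, ω x (e (.inl ⟨0, hm⟩)) = 0 → ∃ c : F, app g x = x + c • e (.inl ⟨0, hm⟩) := Iff.rfl

theorem Q_le_U {hm : 1 ≤ m} : Q F m hm ≤ U F m := by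
  intro g hg
  set i0 : Fin m := ⟨0, hm⟩
  have h : ∀ j : Fin m, ∃ c : F, app g (e (.inl j)) = e (.inl j) + c • e (.inl i0) ∧ (j = i0 → c = 0) := by
    intro j
    by_cases hj : j = i0
    · exact ⟨0, by rw [zero_smul, add_zero, hj]; exact hg.1, fun _ => rfl⟩
    · obtain ⟨c, hc⟩ := hg.2 (e (.inl j)) (w_ll j i0)
      exact ⟨c, hc, fun e => absurd e hj⟩
  refine ⟨Matrix.ext fun i j => ?_, fun i j hji => ?_⟩
  · obtain ⟨c, hc, -⟩ := h j
    have := congrFun hc (.inr i)
    rw [app_e] at this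
    show g.1 (.inr i) (.inl j) = 0
    rw [this]
    simp [e]
  · obtain ⟨c, hc, hc0⟩ := h j
    have := congrFun hc (.inl i)
    rw [app_e] at this
    show g.1 (.inl i) (.inl j) = _
    rw [this]
    by_cases hi : i = i0
    · have hj : j = i0 := le_antisymm (hi ▸ hji) (Fin.le_def.2 (Nat.zero_le _))
      simp [e, hc0 hj, hi, hj]
    · simp [e, hi, Pi.single_apply]

theorem Q_normalizer {hm : 1 ≤ m} {g : G} {l : F}
    (hg : app g (e (.inl ⟨0, hm⟩)) = l • e (.inl ⟨0, hm⟩)) :
    g ∈ Subgroup.normalizer (Q F m hm : Set G) := by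
  set e0 : V := e (.inl ⟨0, hm⟩)
  have hl : l ≠ 0 := fun h => app_ne_zero g (x := e0) (by simp [e0, e]) (by rw [hg, h, zero_smul])
  have hg' : app g⁻¹ e0 = l⁻¹ • e0 := by
    conv_rhs => rw [← app_inv g e0, hg, app_smul, smul_smul, inv_mul_cancel₀ hl, one_smul]
  refine Subgroup.mem_normalizer_fintype fun h hh => mem_Q.2 ⟨?_, fun x hx => ?_⟩
  · show app (g * h * g⁻¹) e0 = e0
    rw [app_mul, app_mul, hg', app_smul, hh.1, app_smul, hg, smul_smul, inv_mul_cancel₀ hl, one_smul]
  · obtain ⟨c, hc⟩ := hh.2 (app g⁻¹ x) (by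
      have h1 := f_app g⁻¹ x e0
      rw [hg', f_smul_right, hx] at h1
      exact (mul_eq_zero.1 h1).resolve_left (inv_ne_zero hl))
    exact ⟨c * l, by rw [app_mul, app_mul, hc, app_add, app_inv', app_smul, hg, smul_smul]⟩

theorem U_fix {hm : 1 ≤ m} {g : G} (hg : g ∈ U F m) :
    app g (e (.inl ⟨0, hm⟩)) = (1 : F) • e (.inl ⟨0, hm⟩) := by
  have h := sub_mem_E hg (⟨0, hm⟩ : Fin m)
  rw [one_smul, ← sub_eq_zero]
  funext r
  rcases r with i | i
  · exact h.2 i (Nat.zero_le _)
  · exact h.1 i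

/-- The generators of the radical of the point stabiliser. -/
def qel (u w : V) : G := T (u + w) 1 * T w (-1) * T u (-1)

theorem app_qel {u w : V} (h : ω u w = 0) (x : V) :
    app (qel u w) x = x + ω x u • w + ω x w • u := by
  have h' : ω w u = 0 := by rw [f_swap u w, h, neg_zero]
  simp only [qel, app_mul, app_T, f_add_left, f_smul_left, f_add_right, f_self, h, h']
  module

theorem centralizer_Q {hm : 1 ≤ m} {g : G} (h : ∀ q ∈ Q F m hm, g * q * g⁻¹ = q) :
    ∃ z ∈ Z, z * g ∈ Q F m hm := by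
  set i0 : Fin m := ⟨0, hm⟩
  set e0 : V := e (.inl i0)
  set f0 : V := e (.inr i0)
  have hfe : ω f0 e0 = 1 := by rw [w_rl, if_pos rfl]
  have hT : T e0 1 ∈ Q F m hm := mem_Q.2 ⟨by rw [app_T, f_self, mul_zero, zero_smul, add_zero],
    fun x hx => ⟨0, by rw [app_T, show ω x e0 = 0 from hx, mul_zero, zero_smul]⟩⟩
  have h1 := congrArg (fun t => app t f0) (h _ hT)
  simp only [conj_T, app_T, hfe, one_mul, add_right_inj, one_smul] at h1
  set l := ω f0 (app g e0) with hl
  have hle : l * l = 1 := by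
    have h2 := congrArg (ω f0) h1
    rw [f_smul_right, hfe] at h2
    exact h2
  have hge : app g e0 = l • e0 := by
    conv_rhs => rw [← h1, smul_smul, hle, one_smul]
  refine ⟨sgn l hle, sgn_mem _ _, mem_Q.2 ⟨?_, fun x hx => ?_⟩⟩
  · show app _ e0 = e0
    rw [app_mul, hge, app_smul, app_sgn, smul_smul, hle, one_smul]
  · have hxe : ω e0 x = 0 := by rw [f_swap x e0, hx, neg_zero]
    have hq : qel e0 x ∈ Q F m hm := mem_Q.2 ⟨by
      rw [app_qel hxe, f_self, hxe, zero_smul, zero_smul, add_zero, add_zero],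
      fun y hy => ⟨ω y x, by rw [app_qel hxe, show ω y e0 = 0 from hy, zero_smul, add_zero]⟩⟩
    have h2 := h _ hq
    have h3 : g * qel e0 x * g⁻¹ = qel e0 (l • app g x) := by
      have hsp : ∀ a b c : G, g * (a * b * c) * g⁻¹ = g * a * g⁻¹ * (g * b * g⁻¹) * (g * c * g⁻¹) :=
        fun a b c => by group
      have e1 : app g e0 + app g x = l • (e0 + l • app g x) := by
        rw [hge, smul_add, smul_smul, hle, one_smul]
      have e2 : app g x = l • (l • app g x) := by rw [smul_smul, hle, one_smul]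
      rw [qel, hsp, conj_T, conj_T, conj_T, app_add, qel, e1, T_smul, hle, one_mul, hge, T_smul,
        hle, one_mul]
      congr 2
      conv_lhs => rw [e2, T_smul, hle, one_mul]
    have hxg : ω e0 (l • app g x) = 0 := by
      have h5 := f_app g e0 x
      rw [hge, f_smul_left, hxe] at h5
      rw [f_smul_right, h5]
    have h4 := congrArg (fun t => app t f0) (h3.symm.trans h2)
    simp only [app_qel hxe, app_qel hxg, hfe, one_smul] at h4
    refine ⟨ω f0 x - ω f0 (l • app g x), ?_⟩
    rw [app_mul, app_sgn]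
    show _ = x + _ • e0
    rw [sub_smul]
    linear_combination (norm := module) h4

/-! ### Generation of the normaliser -/

/-- Membership of an image in the closure of the `p`-elements of a normaliser. -/
theorem pr_mem_closure {H : Subgroup G} {g : G} (hg : g ∈ Subgroup.normalizer (H : Set G))
    {k : ℕ} (hk : g ^ p ^ k = 1) :
    pr g ∈ Subgroup.closure {x | x ∈ Subgroup.normalizer ((H.map pr : Subgroup (PSp m F)) : Set (PSp m F)) ∧
      ∃ k : ℕ, orderOf x = p ^ k} := by
  refine Subgroup.subset_closure ⟨Subgroup.le_normalizer_map _ (Subgroup.mem_map_of_mem pr hg), ?_⟩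
  obtain ⟨j, -, hj⟩ := (Nat.dvd_prime_pow Fact.out).1
    (orderOf_dvd_of_pow_eq_one (show pr g ^ p ^ k = 1 by rw [← map_pow, hk, map_one]))
  exact ⟨j, hj⟩

theorem conj_eq_of_centralize {R : Subgroup G} (hR : R ≤ U F m) {g : G}
    (hg : pr g ∈ Subgroup.centralizer ((R.map pr : Subgroup (PSp m F)) : Set (PSp m F)))
    {u : G} (hu : u ∈ R) : g * u * g⁻¹ = u := by
  have h := Subgroup.mem_centralizer_iff.1 hg _ (Subgroup.mem_map_of_mem pr hu)
  have hpr : pr (g * u * g⁻¹) = pr u := by
    rw [map_mul, map_mul, map_inv, ← h, mul_inv_cancel_right]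
  obtain ⟨k, hk⟩ := isPGroup_U F m (p := p) ⟨u, hR hu⟩
  refine pr_injOn (p := p) (mem_U_of_mk (p := p) (k := k)
    (hpr ▸ Subgroup.mem_map_of_mem pr (hR hu)) ?_) (hR hu) hpr
  rw [conj_pow, show u ^ p ^ k = 1 from congrArg Subtype.val hk, mul_one, mul_inv_cancel]

theorem centralizer_map_N (hm : 1 ≤ m) :
    Subgroup.centralizer (((N F m).map pr : Subgroup (PSp m F)) : Set (PSp m F)) ≤ (N F m).map pr := by
  intro x hx
  obtain ⟨g, rfl⟩ := QuotientGroup.mk'_surjective _ x
  obtain ⟨z, hz, hzg⟩ := centralizer_N (p := p) hm (g := g) fun S hS =>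
    mul_inv_eq_iff_eq_mul.1 (conj_eq_of_centralize (p := p) N_le_U hx (up_mem_N S hS))
  refine ⟨z * g, hzg, ?_⟩
  rw [map_mul, show pr z = 1 from (QuotientGroup.eq_one_iff _).2 hz, one_mul]

theorem centralizer_map_Q (hm : 1 ≤ m) :
    Subgroup.centralizer (((Q F m hm).map pr : Subgroup (PSp m F)) : Set (PSp m F)) ≤
      (Q F m hm).map pr := by
  intro x hx
  obtain ⟨g, rfl⟩ := QuotientGroup.mk'_surjective _ x
  obtain ⟨z, hz, hzg⟩ := centralizer_Q (p := p) (g := g) fun q hq =>
    conj_eq_of_centralize (p := p) Q_le_U hx hq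
  refine ⟨z * g, hzg, ?_⟩
  rw [map_mul, show pr z = 1 from (QuotientGroup.eq_one_iff _).2 hz, one_mul]

theorem T_pow_p (v : V) (c : F) : (T v c) ^ p ^ 1 = 1 := by
  have h : ∀ n : ℕ, T v c ^ n = T v ((n : F) * c) := fun n => by
    induction n with
    | zero => simp [T_zero]
    | succ n ih => rw [pow_succ, ih, T_mul]; congr 1; push_cast; ring
  rw [pow_one, h, CharP.cast_eq_zero, zero_mul, T_zero]

theorem transvection_pow_p {i j : Fin m} (hij : i ≠ j) (c : F) :
    (Matrix.SpecialLinearGroup.transvection hij c) ^ p ^ 1 = 1 := by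
  have h : ∀ n : ℕ, (Matrix.SpecialLinearGroup.transvection hij c : Matrix.SpecialLinearGroup (Fin m) F) ^ n
      = Matrix.SpecialLinearGroup.transvection hij ((n : F) * c) := fun n => by
    induction n with
    | zero => simp
    | succ n ih =>
      rw [pow_succ, ih, ← Matrix.SpecialLinearGroup.transvection_add]
      congr 1; push_cast; ring
  rw [pow_one, h, CharP.cast_eq_zero, zero_mul, Matrix.SpecialLinearGroup.transvection_coeff_zero]

/-- A diagonal element of `GL`. -/
def diagGL (a : Fin m → Fˣ) : GL (Fin m) F :=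
  ⟨diagonal fun i => (a i : F), diagonal fun i => ((a i)⁻¹ : Fˣ),
    by rw [diagonal_mul_diagonal]; simp, by rw [diagonal_mul_diagonal]; simp⟩

theorem lev_triangular_normalizer {A : GL (Fin m) F} (hA : BlockTriangular (A : Mat) id) :
    lev A ∈ Subgroup.normalizer (U F m : Set G) := by
  refine Subgroup.mem_normalizer_fintype fun u hu => ?_
  obtain ⟨S, hS, h⟩ := decomp hu.1 (det_unitri hu.2)
  have e1 : lev A * u * (lev A)⁻¹ =
      lev (A * Matrix.SpecialLinearGroup.toGL ⟨bA u, det_unitri hu.2⟩ * A⁻¹) *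
        (lev A * up S hS * (lev A)⁻¹) := by
    conv_lhs => rw [h]
    rw [map_mul, map_mul, map_inv]
    show lev A * (lv _ * up S hS) * _ = lev A * lv _ * _ * _
    group
  rw [e1, lev_conj]
  refine mul_mem ⟨bC_lev _, ?_⟩ (N_le_U (up_mem_N _ _))
  rw [bA_lev]
  intro i j hji
  haveI : Invertible (A : Mat) := A.invertible
  have hAinv : BlockTriangular ((A⁻¹ : GL (Fin m) F) : Mat) id := by
    rw [Matrix.coe_units_inv]
    exact blockTriangular_inv_of_blockTriangular hA
  have hu1 : Unitri.IsUnitri (bA u) := hu.2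
  show ((A : Mat) * bA u * ((A⁻¹ : GL (Fin m) F) : Mat)) i j = _
  have hT := (hA.mul hu1.blockTriangular).mul hAinv
  rcases hji.lt_or_eq with hlt | rfl
  · rw [if_neg hlt.ne', hT hlt]
  · have hd : ∀ {M M' : Mat}, BlockTriangular M id → BlockTriangular M' id →
        (M * M') j j = M j j * M' j j := fun {M M'} hM hM' => by
      rw [mul_apply, Finset.sum_eq_single j]
      · intro k _ hk
        rcases lt_or_gt_of_ne hk with h | h
        · rw [hM h, zero_mul]
        · rw [hM' h, mul_zero]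
      · simp
    rw [if_pos rfl, hd (hA.mul hu1.blockTriangular) hAinv, hd hA hu1.blockTriangular, hu1.diag,
      mul_one, ← hd hA hAinv, ← Units.val_mul, mul_inv_cancel, Units.val_one, one_apply_eq]

theorem diag_SL_mem_closure (hm : 2 ≤ m) (A : Matrix.SpecialLinearGroup (Fin m) F) :
    pr (lv A) ∈ Subgroup.closure {x | x ∈ Subgroup.normalizer (((N F m).map pr : Subgroup (PSp m F)) : Set (PSp m F)) ∧
      ∃ k : ℕ, orderOf x = p ^ k} := by
  haveI : Nontrivial (Fin m) := Fin.nontrivial_iff_two_le.2 hm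
  have h : A ∈ (⊤ : Subgroup (Matrix.SpecialLinearGroup (Fin m) F)) := Subgroup.mem_top _
  rw [← closure_transvection_eq_top] at h
  suffices hle : Subgroup.closure _ ≤ Subgroup.comap ((QuotientGroup.mk' Z).comp lv)
      (Subgroup.closure {x | x ∈ Subgroup.normalizer (((N F m).map pr : Subgroup (PSp m F)) : Set (PSp m F)) ∧
        ∃ k : ℕ, orderOf x = p ^ k}) from hle h
  rw [Subgroup.closure_le]
  rintro _ ⟨i, j, hij, c, rfl⟩
  refine pr_mem_closure (p := p) (k := 1) (lev_normalizer_N _) ?_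
  rw [← map_pow, transvection_pow_p hij c, map_one]

theorem torus_one_mem_closure (hm : 2 ≤ m) (a : Fˣ) :
    pr (lev (diagGL (Function.update 1 (⟨1, hm⟩ : Fin m) a))) ∈ Subgroup.closure
      {x | x ∈ Subgroup.normalizer (((Q F m (by omega : 1 ≤ m)).map pr : Subgroup (PSp m F)) : Set (PSp m F)) ∧
        ∃ k : ℕ, orderOf x = p ^ k} := by
  set i1 : Fin m := ⟨1, hm⟩
  set i0 : Fin m := ⟨0, by omega⟩
  have h10 : i1 ≠ i0 := by simp [i0, i1]
  have ha : (a : F) ≠ 0 := a.ne_zero
  have hl : ∀ c : F, pr (T (e (.inl i1)) c) ∈ Subgroup.closure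
      {x | x ∈ Subgroup.normalizer (((Q F m (by omega : 1 ≤ m)).map pr : Subgroup (PSp m F)) : Set (PSp m F)) ∧
        ∃ k : ℕ, orderOf x = p ^ k} := fun c => by
    refine pr_mem_closure (p := p) (k := 1) (Q_normalizer (l := 1) ?_) (T_pow_p _ c)
    rw [app_T, w_ll, mul_zero, zero_smul, add_zero, one_smul]
  have hr : ∀ c : F, pr (T (e (.inr i1)) c) ∈ Subgroup.closure
      {x | x ∈ Subgroup.normalizer (((Q F m (by omega : 1 ≤ m)).map pr : Subgroup (PSp m F)) : Set (PSp m F)) ∧
        ∃ k : ℕ, orderOf x = p ^ k} := fun c => by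
    refine pr_mem_closure (p := p) (k := 1) (Q_normalizer (l := 1) ?_) (T_pow_p _ c)
    rw [app_T, w_lr, if_neg h10.symm, neg_zero, mul_zero, zero_smul, add_zero, one_smul]
  have key : lev (diagGL (Function.update 1 i1 a)) = T (e (.inl i1)) (a : F) * T (e (.inr i1)) ((a : F)⁻¹) *
      T (e (.inl i1)) (a : F) * T (e (.inl i1)) (-1) * T (e (.inr i1)) (-1) * T (e (.inl i1)) (-1) := by
    refine ext_app fun x => ?_
    rw [app_lev]
    funext r
    simp only [app_mul, app_T, f_inl, f_inr, Pi.add_apply, Pi.smul_apply, smul_eq_mul]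
    rcases r with j | j
    · rw [Sum.elim_inl]
      show ((diagonal fun i => ((Function.update (1 : Fin m → Fˣ) i1 a i : Fˣ) : F)) *ᵥ _) j = _
      by_cases hj : j = i1
      · subst hj
        simp [mulVec_diagonal]
        field_simp
        ring
      · simp [mulVec_diagonal, hj]
    · rw [Sum.elim_inr]
      show ((diagonal fun i => (((Function.update (1 : Fin m → Fˣ) i1 a i)⁻¹ : Fˣ) : F))ᵀ *ᵥ _) j = _
      by_cases hj : j = i1
      · subst hj
        simp [mulVec_diagonal]
        field_simp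
        ring
      · simp [mulVec_diagonal, hj]
  rw [key]
  simp only [map_mul]
  exact mul_mem (mul_mem (mul_mem (mul_mem (mul_mem (hl _) (hr _)) (hl _)) (hl _)) (hr _)) (hl _)

theorem normalizer_le_gen (hm : 2 ≤ m) :
    Subgroup.normalizer (((U F m).map pr : Subgroup (PSp m F)) : Set (PSp m F)) ≤
      Subgroup.closure (genSet p ((U F m).map pr)) := by
  classical
  set W := Subgroup.closure (genSet p ((U F m).map pr))
  have hmapnorm : ∀ {H : Subgroup G} {x : G}, x ∈ Subgroup.normalizer (H : Set G) →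
      pr x ∈ Subgroup.normalizer ((H.map pr : Subgroup (PSp m F)) : Set (PSp m F)) :=
    fun {H x} hx => Subgroup.le_normalizer_map _ (Subgroup.mem_map_of_mem pr hx)
  have hUN : (U F m).map pr ≤ Subgroup.normalizer (((N F m).map pr : Subgroup (PSp m F)) : Set (PSp m F)) := by
    rintro _ ⟨u, hu, rfl⟩
    exact hmapnorm (U_le_normalizer_N hu)
  have hUQ : (U F m).map pr ≤
      Subgroup.normalizer (((Q F m (by omega : 1 ≤ m)).map pr : Subgroup (PSp m F)) : Set (PSp m F)) := by
    rintro _ ⟨u, hu, rfl⟩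
    exact hmapnorm (Q_normalizer (U_fix hu))
  have hN : ∀ g : G, pr g ∈ Subgroup.normalizer (((U F m).map pr : Subgroup (PSp m F)) : Set (PSp m F)) →
      pr g ∈ Subgroup.closure {x | x ∈ Subgroup.normalizer (((N F m).map pr : Subgroup (PSp m F)) : Set (PSp m F)) ∧
        ∃ k : ℕ, orderOf x = p ^ k} → pr g ∈ W := fun g h1 h2 =>
    Subgroup.subset_closure ⟨h1, (N F m).map pr, Subgroup.map_mono N_le_U, hUN,
      centralizer_map_N (p := p) (by omega), h2⟩
  have hUW : ∀ u ∈ U F m, pr u ∈ W := fun u hu => by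
    obtain ⟨k, hk⟩ := isPGroup_U F m (p := p) ⟨u, hu⟩
    exact hN u (hmapnorm (Subgroup.le_normalizer hu))
      (pr_mem_closure (p := p) (U_le_normalizer_N hu) (k := k) (congrArg Subtype.val hk))
  have hDW : ∀ a : Fin m → Fˣ, pr (lev (diagGL a)) ∈ W := by
    intro a
    set i1 : Fin m := ⟨1, hm⟩
    have hbt : ∀ b : Fin m → Fˣ, BlockTriangular (diagGL b : Mat) id := fun b =>
      blockTriangular_diagonal _
    set P := ∏ i, a i
    set b : Fin m → Fˣ := Function.update a i1 (a i1 * P⁻¹)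
    have hab : diagGL a = diagGL b * diagGL (Function.update 1 i1 P) := by
      apply Units.ext
      show diagonal _ = diagonal _ * diagonal _
      rw [diagonal_mul_diagonal]
      congr 1
      funext i
      by_cases hi : i = i1
      · subst hi; simp [b]
      · simp [b, hi]
    rw [hab, map_mul, map_mul]
    refine mul_mem ?_ ?_
    · have hdet : (diagonal fun i => (b i : F)).det = 1 := by
        rw [det_diagonal, ← Units.coe_prod]
        simp only [b]
        rw [Finset.prod_update_of_mem (Finset.mem_univ i1),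
          show a i1 * P⁻¹ * ∏ x ∈ Finset.univ \ {i1}, a x =
            P⁻¹ * (a i1 * ∏ x ∈ Finset.univ \ {i1}, a x) by
          rw [mul_comm (a i1) P⁻¹, mul_assoc],
          show a i1 * ∏ x ∈ Finset.univ \ {i1}, a x = P from
            (Finset.prod_eq_mul_prod_sdiff_singleton_of_mem (Finset.mem_univ i1) a).symm,
          inv_mul_cancel, Units.val_one]
      have hlv : lev (diagGL b) = lv ⟨_, hdet⟩ := congrArg lev (Units.ext rfl)
      refine hN _ (hmapnorm (lev_triangular_normalizer (p := p) (hbt _))) ?_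
      rw [hlv]
      exact diag_SL_mem_closure (p := p) hm _
    · exact Subgroup.subset_closure ⟨hmapnorm (lev_triangular_normalizer (p := p) (hbt _)),
        (Q F m (by omega : 1 ≤ m)).map pr, Subgroup.map_mono Q_le_U, hUQ,
        centralizer_map_Q (p := p) _, torus_one_mem_closure (p := p) hm P⟩
  intro x hx
  obtain ⟨g, rfl⟩ := QuotientGroup.mk'_surjective _ x
  obtain ⟨hC, hT⟩ := triangular_of_normalizing (conj_mem_of_normalizer' (p := p) hx)
  have hd : ∀ i, bA g i i ≠ 0 := by
    intro i h0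
    have h1 := congrArg Matrix.det (block_rel hC).1
    rw [det_mul, det_transpose, det_of_isUpperTriangular hT,
      Finset.prod_eq_zero (f := fun i => bA g i i) (Finset.mem_univ i) h0, mul_zero, det_one] at h1
    exact zero_ne_one h1
  set a : Fin m → Fˣ := fun i => Units.mk0 _ (hd i)
  have hu : (lev (diagGL a))⁻¹ * g ∈ U F m := by
    rw [← map_inv]
    refine ⟨by rw [bC_mul, bC_lev, hC]; simp, ?_⟩
    rw [bA_mul, hC, Matrix.mul_zero, add_zero, bA_lev]
    intro i j hji
    show ((diagonal fun i => (((a i)⁻¹ : Fˣ) : F)) * bA g) i j = _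
    rw [diagonal_mul]
    rcases hji.lt_or_eq with h | rfl
    · rw [if_neg h.ne', hT h, mul_zero]
    · rw [if_pos rfl]; simp [a, hd j]
  rw [show g = lev (diagGL a) * ((lev (diagGL a))⁻¹ * g) by group, map_mul]
  exact mul_mem (hDW a) (hUW _ hu)

/-! ### Strongly closed subgroups -/

variable {T' : Subgroup (PSp m F)}

/-- The symmetric matrices whose unipotent elements lie over `T'`. -/
def InT (T' : Subgroup (PSp m F)) (S : Mat) : Prop := ∃ hS, pr (up S hS) ∈ T'

theorem InT.add {S S' : Mat} (h : InT T' S) (h' : InT T' S') : InT T' (S + S') := by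
  obtain ⟨hS, h⟩ := h
  obtain ⟨hS', h'⟩ := h'
  exact ⟨sym_add hS hS', by rw [← up_mul hS hS', map_mul]; exact mul_mem h h'⟩

theorem InT.neg {S : Mat} (h : InT T' S) : InT T' (-S) := by
  obtain ⟨hS, h⟩ := h
  refine ⟨by rw [transpose_neg, hS], ?_⟩
  have e1 : up (-S) (by rw [transpose_neg, hS]) = (up S hS)⁻¹ :=
    eq_inv_of_mul_eq_one_left ((up_mul _ _).trans
      ((up_congr _ transpose_zero (neg_add_cancel S)).trans up_zero))
  rw [e1, map_inv]
  exact inv_mem h

theorem InT.sub {S S' : Mat} (h : InT T' S) (h' : InT T' S') : InT T' (S - S') := by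
  rw [sub_eq_add_neg]; exact h.add h'.neg

theorem InT.zero : InT T' (0 : Mat) := ⟨transpose_zero, by rw [up_zero, map_one]; exact one_mem _⟩

theorem InT.sum {ι : Type*} (s : Finset ι) (f : ι → Mat) (h : ∀ i ∈ s, InT T' (f i)) :
    InT T' (∑ i ∈ s, f i) :=
  Finset.sum_induction f (InT T') (fun _ _ => InT.add) InT.zero h

/-- The weak closure hypothesis. -/
def Closed (T' : Subgroup (PSp m F)) : Prop :=
  ∀ g u : G, pr u ∈ T' → u ∈ U F m → g * u * g⁻¹ ∈ U F m → pr (g * u * g⁻¹) ∈ T'

theorem InT.congr (hc : Closed T') {S : Mat} (h : InT T' S) (A : GL (Fin m) F) :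
    InT T' ((A : Mat) * S * (A : Mat)ᵀ) := by
  obtain ⟨hS, h⟩ := h
  refine ⟨sym_congr hS _, ?_⟩
  rw [← lev_conj A hS]
  exact hc _ _ h (N_le_U (up_mem_N S hS)) (by rw [lev_conj]; exact N_le_U (up_mem_N _ _))

theorem congr_transvection {i j : Fin m} (hij : i ≠ j) (c : F) (S : Mat) (a b : Fin m) :
    (((1 : Mat) + Matrix.single i j c) * S * ((1 : Mat) + Matrix.single i j c)ᵀ) a b =
      S a b + (if a = i then c * S j b else 0) + (if b = i then c * S a j else 0) +
        (if a = i ∧ b = i then c * c * S j j else 0) := by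
  rw [transpose_add, transpose_one, transpose_single, add_mul, one_mul, mul_add, mul_one]
  simp only [Matrix.add_apply]
  by_cases ha : a = i <;> by_cases hb : b = i
  · subst ha hb
    simp [single_mul_apply_same, mul_single_apply_same, Matrix.add_apply, add_mul]
    ring
  · subst ha
    simp [hb, single_mul_apply_same, mul_single_apply_of_ne, Matrix.add_apply, add_mul]
  · subst hb
    simp [ha, single_mul_apply_of_ne, mul_single_apply_same, Matrix.add_apply, add_mul]
    ring
  · simp [ha, hb, single_mul_apply_of_ne, mul_single_apply_of_ne, Matrix.add_apply, add_mul]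

theorem exists_weyl (j : Fin m) : ∃ w : G,
    app w (e (.inl j)) = e (.inr j) ∧ app w (e (.inr j)) = -e (.inl j) ∧
    ∀ k, k ≠ j → app w (e (.inl k)) = e (.inl k) ∧ app w (e (.inr k)) = e (.inr k) := by
  classical
  obtain ⟨w, hw⟩ := exists_of_cols (F := F) (m := m)
    (Sum.elim (fun k => if k = j then e (.inr j) else e (.inl k))
      (fun k => if k = j then -e (.inl j) else e (.inr k))) fun s t => by
    have hneg : ∀ u : V, -u = (-1 : F) • u := fun u => by simp
    rcases s with a | a <;> rcases t with b | b <;> by_cases ha : a = j <;> by_cases hb : b = j <;>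
      simp only [Sum.elim_inl, Sum.elim_inr, ha, hb, if_true, if_false, hneg, f_smul_left,
        f_smul_right, w_ll, w_rr, w_lr, w_rl] <;> simp_all [eq_comm]
  refine ⟨w, ?_, ?_, fun k hk => ⟨?_, ?_⟩⟩ <;> rw [hw] <;> simp [*]

theorem weyl_conj {i j : Fin m} (hij : i ≠ j) (b : F) {w : G}
    (h1 : app w (e (.inl j)) = e (.inr j)) (h2 : app w (e (.inr j)) = -e (.inl j))
    (h3 : ∀ k, k ≠ j → app w (e (.inl k)) = e (.inl k) ∧ app w (e (.inr k)) = e (.inr k)) :
    w * up _ (sym_pair i j b) * w⁻¹ = lv (Matrix.SpecialLinearGroup.transvection hij (-b)) := by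
  rw [mul_inv_eq_iff_eq_mul]
  refine ext_basis fun s => ?_
  rw [app_mul, app_mul]
  have hup : ∀ k, app (up _ (sym_pair i j b)) (e (.inl k)) = e (.inl k) := fun k => by
    rw [app_up]; funext r; rcases r with l | l <;> simp [e, Function.comp_def, ← Pi.zero_def]
  have hupr : ∀ k, app (up _ (sym_pair i j b)) (e (.inr k)) =
      e (.inr k) + (if k = j then b else 0) • e (.inl i) + (if k = i then b else 0) • e (.inl j) := by
    intro k
    rw [app_up]
    funext r
    by_cases hkj : k = j <;> by_cases hki : k = i <;> rcases r with l | l <;>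
      simp [e, Matrix.add_mulVec, Matrix.single_mulVec, Function.update_apply, Pi.single_apply,
        hkj, hki] <;>
      (try split_ifs) <;> simp_all
  have hlv : ∀ v : V, app (lv (Matrix.SpecialLinearGroup.transvection hij (-b))) v =
      v - (b * v (.inl j)) • e (.inl i) + (b * v (.inr i)) • e (.inr j) := by
    intro v
    rw [show lv _ = lev (Matrix.SpecialLinearGroup.toGL _) from rfl, app_lev, ← map_inv,
      Matrix.SpecialLinearGroup.transvection_inv, neg_neg]
    show Sum.elim ((Matrix.SpecialLinearGroup.transvection hij (-b)).val *ᵥ _)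
      ((Matrix.SpecialLinearGroup.transvection hij b).valᵀ *ᵥ _) = _
    funext r
    rcases r with l | l
    · simp [e, Matrix.SpecialLinearGroup.transvection_coe, Matrix.add_mulVec, Matrix.single_mulVec,
        Function.update_apply, Pi.single_apply]
      split_ifs <;> simp_all <;> ring
    · simp [e, Matrix.SpecialLinearGroup.transvection_coe, transpose_add, transpose_single,
        Matrix.add_mulVec, Matrix.single_mulVec, Function.update_apply, Pi.single_apply]
  rcases s with k | k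
  · rw [hup]
    by_cases hk : k = j
    · subst hk
      rw [h1, hlv]
      simp [e, hij]
    · rw [(h3 k hk).1, hlv]
      simp [e, Ne.symm hk]
  · rw [hupr, app_add, app_add, app_smul, app_smul, (h3 i hij).1, h1]
    by_cases hk : k = j
    · subst hk
      rw [h2, if_pos rfl, if_neg hij.symm, hlv]
      simp [e] <;> abel
    · rw [(h3 k hk).2, if_neg hk, hlv]
      by_cases hki : k = i
      · subst hki; simp [e]
      · simp [e, hki, Ne.symm hki]

theorem lv_mem_of_pair (hc : Closed T') {i j : Fin m} (hij : i < j) {b : F}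
    (h : InT T' (Matrix.single i j b + Matrix.single j i b)) :
    pr (lv (Matrix.SpecialLinearGroup.transvection hij.ne (-b))) ∈ T' := by
  obtain ⟨w, h1, h2, h3⟩ := exists_weyl (F := F) (p := p) j
  obtain ⟨hS, h⟩ := h
  rw [← weyl_conj (p := p) hij.ne b h1 h2 h3]
  refine hc w _ h (N_le_U (up_mem_N _ _)) ?_
  rw [weyl_conj (p := p) hij.ne b h1 h2 h3]
  exact lv_mem_U (Unitri.isUnitri_transvection hij (-b))

theorem exists_diag_of_pair (hc : Closed T') {i j : Fin m} (hij : i ≠ j) {b : F} (hb : b ≠ 0)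
    (h : InT T' (Matrix.single i j b + Matrix.single j i b)) :
    ∃ (k : Fin m) (d : F), d ≠ 0 ∧ InT T' (Matrix.single k k d) := by
  wlog hlt : i < j generalizing i j
  · exact this hij.symm (by rwa [add_comm]) (lt_of_le_of_ne (not_lt.1 hlt) hij.symm)
  refine ⟨i, b * b, mul_ne_zero hb hb, ?_⟩
  set x := lv (Matrix.SpecialLinearGroup.transvection hlt.ne (-b))
  have hx : pr x ∈ T' := lv_mem_of_pair (p := p) hc hlt h
  have hxU : x ∈ U F m := lv_mem_U (Unitri.isUnitri_transvection hlt (-b))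
  set y : G := up _ (sym_single j (1 : F))
  have hyU : y ∈ U F m := N_le_U (up_mem_N _ _)
  have h1 : pr (y * x * y⁻¹) ∈ T' :=
    hc y x hx hxU (mul_mem (mul_mem hyU hxU) (inv_mem hyU))
  have h2 : pr (x * y * x⁻¹ * y⁻¹) ∈ T' := by
    rw [show x * y * x⁻¹ * y⁻¹ = x * (y * x * y⁻¹)⁻¹ by group, map_mul, map_inv]
    exact mul_mem hx (inv_mem h1)
  set A : Mat := 1 + Matrix.single i j (-b)
  have hyinv : y⁻¹ = up _ (sym_single j (-1 : F)) :=
    inv_eq_of_mul_eq_one_right ((up_mul _ _).trans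
      ((up_congr _ transpose_zero (by rw [← single_add, add_neg_cancel, single_zero])).trans up_zero))
  have h3 : x * y * x⁻¹ * y⁻¹ =
      up (A * Matrix.single j j 1 * Aᵀ + Matrix.single j j (-1))
        (sym_add (sym_congr (sym_single j 1) A) (sym_single j (-1))) := by
    rw [show x * y * x⁻¹ = up (A * Matrix.single j j 1 * Aᵀ) (sym_congr (sym_single j 1) A) from
      (lev_conj _ _).trans (up_congr _ _ rfl), hyinv, up_mul]
  have h4 : InT T' (A * Matrix.single j j 1 * Aᵀ + Matrix.single j j (-1)) :=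
    ⟨_, h3 ▸ h2⟩
  convert h4.add h using 1
  ext a c
  rw [Matrix.add_apply, Matrix.add_apply, congr_transvection (p := p) hlt.ne]
  have hji : j ≠ i := hlt.ne'
  by_cases hai : a = i <;> by_cases haj : a = j <;> by_cases hci : c = i <;> by_cases hcj : c = j <;>
    first
      | (exfalso; exact hlt.ne (hai.symm.trans haj))
      | (exfalso; exact hlt.ne (hci.symm.trans hcj))
      | (simp [single_apply, hai, haj, hci, hcj, hji, hlt.ne] <;> (try split_ifs) <;> simp_all)

theorem exists_diag {S : Mat} (hm : 2 ≤ m) (hex : m = 2 → 3 ≤ Nat.card F) (hc : Closed T')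
    (hne : S ≠ 0) (hT : InT T' S)
    (hfix : ∀ (i l : Fin m) (hil : i < l),
      ((1 : Mat) + Matrix.single i l 1) * S * ((1 : Mat) + Matrix.single i l 1)ᵀ = S) :
    ∃ (k : Fin m) (d : F), d ≠ 0 ∧ InT T' (Matrix.single k k d) := by
  obtain ⟨hS, hup⟩ := hT
  have hsym : ∀ a b, S a b = S b a := fun a b => congrFun (congrFun hS b) a
  set i0 : Fin m := ⟨0, by omega⟩
  set i1 : Fin m := ⟨1, hm⟩
  have h01 : i0 < i1 := Fin.lt_def.2 Nat.zero_lt_one
  have hzero : ∀ i l j : Fin m, i < l → j ≠ i → S l j = 0 := by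
    intro i l j hil hji
    have h := congrFun (congrFun (hfix i l hil) i) j
    rw [congr_transvection (p := p) hil.ne] at h
    simpa [hji] using h
  have hsupp : ∀ a b, S a b ≠ 0 → (a = i0 ∧ b = i0) ∨ (a = i0 ∧ b = i1) ∨ (a = i1 ∧ b = i0) := by
    intro a b hab
    have hkey : ∀ a b, S a b ≠ 0 → a ≠ i0 → a = i1 ∧ b = i0 := by
      intro a b hab ha
      have hb : b = i0 := by
        by_contra hb
        exact hab (hzero i0 a b (Fin.lt_def.2 (Nat.pos_of_ne_zero (fun h => ha (Fin.ext h)))) hb)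
      refine ⟨?_, hb⟩
      by_contra ha1
      refine hab (hzero i1 a b (Fin.lt_def.2 ?_) (hb ▸ h01.ne))
      have := Fin.val_ne_of_ne ha; have := Fin.val_ne_of_ne ha1
      simp [i0, i1] at *; omega
    by_cases ha : a = i0
    · by_cases hb : b = i0
      · exact Or.inl ⟨ha, hb⟩
      · obtain ⟨hb1, -⟩ := hkey b a (by rwa [hsym]) hb
        exact Or.inr (Or.inl ⟨ha, hb1⟩)
    · exact Or.inr (Or.inr (hkey a b hab ha))
  have h11 : S i1 i1 = 0 := by
    by_contra h
    rcases hsupp i1 i1 h with ⟨h', -⟩ | ⟨h', -⟩ | ⟨-, h'⟩ <;> exact h01.ne' h'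
  have hS' : S = Matrix.single i0 i0 (S i0 i0) +
      (Matrix.single i0 i1 (S i0 i1) + Matrix.single i1 i0 (S i0 i1)) := by
    ext a b
    simp only [Matrix.add_apply, single_apply]
    by_cases h1 : i0 = a ∧ i0 = b
    · obtain ⟨rfl, rfl⟩ := h1
      simp [h01.ne']
    by_cases h2 : i0 = a ∧ i1 = b
    · obtain ⟨rfl, rfl⟩ := h2
      simp [h01.ne, h01.ne']
    by_cases h3 : i1 = a ∧ i0 = b
    · obtain ⟨rfl, rfl⟩ := h3
      simp [h01.ne, h01.ne', hsym i1 i0]
    rw [if_neg h1, if_neg h2, if_neg h3, add_zero, add_zero]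
    by_contra h
    rcases hsupp a b h with ⟨ha, hb⟩ | ⟨ha, hb⟩ | ⟨ha, hb⟩
    exacts [h1 ⟨ha.symm, hb.symm⟩, h2 ⟨ha.symm, hb.symm⟩, h3 ⟨ha.symm, hb.symm⟩]
  by_cases hb : S i0 i1 = 0
  · refine ⟨i0, S i0 i0, fun h => hne ?_, ⟨sym_single _ _, ?_⟩⟩
    · rw [hS', h, hb]; simp
    · rwa [show up _ (sym_single i0 (S i0 i0)) = up S hS from
        up_congr _ _ (by conv_rhs => rw [hS', hb]; simp)]
  by_cases ht : ∃ t : F, t ≠ 0 ∧ t ≠ 1
  · obtain ⟨t, ht0, ht1⟩ := ht
    set A : GL (Fin m) F := diagGL (Function.update 1 i1 (Units.mk0 t ht0))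
    have hA := (InT.congr hc ⟨hS, hup⟩ A).sub ⟨hS, hup⟩
    refine exists_diag_of_pair (p := p) hc h01.ne (b := (t - 1) * S i0 i1)
      (mul_ne_zero (sub_ne_zero.2 ht1) hb) ?_
    convert hA using 1
    ext a b
    rw [Matrix.sub_apply]
    show _ = ((diagonal _ * S * (diagonal _)ᵀ : Mat) a b) - _
    rw [diagonal_transpose, mul_diagonal, diagonal_mul]
    have hval : ∀ x y : Fin m, S x y = Matrix.single i0 i0 (S i0 i0) x y +
      (Matrix.single i0 i1 (S i0 i1) x y + Matrix.single i1 i0 (S i0 i1) x y) := fun x y => by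
      conv_lhs => rw [hS']
      rfl
    rw [Matrix.add_apply, hval a b]
    by_cases ha0 : a = i0 <;> by_cases ha1 : a = i1 <;> by_cases hb0 : b = i0 <;>
      by_cases hb1 : b = i1 <;>
      first
        | (exfalso; exact h01.ne (ha0.symm.trans ha1))
        | (exfalso; exact h01.ne (hb0.symm.trans hb1))
        | (simp [single_apply, ha0, ha1, hb0, hb1, h01.ne, h01.ne', h11, Ne.symm, Function.update_apply,
            eq_comm] <;> ring)
  · have hm3 : 3 ≤ m := by
      rcases Nat.lt_or_ge m 3 with h | h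
      · exfalso
        haveI := Fintype.ofFinite F
        have h3 := hex (by omega)
        rw [Nat.card_eq_fintype_card] at h3
        refine ht ?_
        classical
        obtain ⟨t, -, ht⟩ := Finset.exists_mem_notMem_of_card_lt_card
          (t := (Finset.univ : Finset F)) (s := {0, 1})
          (by rw [Finset.card_pair zero_ne_one, Finset.card_univ]; omega)
        simp only [Finset.mem_insert, Finset.mem_singleton, not_or] at ht
        exact ⟨t, ht⟩
      · exact h
    set i2 : Fin m := ⟨2, hm3⟩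
    have h12 : i2 ≠ i1 := by simp [i1, i2]
    have h02 : i0 ≠ i2 := by simp [i0, i2]
    have hA := (InT.congr hc ⟨hS, hup⟩
      (Matrix.SpecialLinearGroup.toGL (Matrix.SpecialLinearGroup.transvection h12 (1 : F)))).sub
      ⟨hS, hup⟩
    refine exists_diag_of_pair (p := p) hc h02 (b := S i0 i1) hb ?_
    convert hA using 1
    ext a b
    rw [Matrix.sub_apply]
    show _ = ((Matrix.SpecialLinearGroup.transvection h12 (1 : F)).val * S *
      (Matrix.SpecialLinearGroup.transvection h12 (1 : F)).valᵀ) a b - _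
    rw [Matrix.SpecialLinearGroup.transvection_coe, congr_transvection (p := p) h12, Matrix.add_apply]
    have hval : ∀ x y : Fin m, S x y = Matrix.single i0 i0 (S i0 i0) x y +
      (Matrix.single i0 i1 (S i0 i1) x y + Matrix.single i1 i0 (S i0 i1) x y) := fun x y => by
      conv_lhs => rw [hS']
      rfl
    rw [hval a b, hval i1 b, hval a i1, h11]
    by_cases ha2 : a = i2 <;> by_cases hb2 : b = i2 <;> by_cases ha0 : a = i0 <;>
      by_cases hb0 : b = i0 <;>
      first
        | (exfalso; exact h02 (ha0.symm.trans ha2))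
        | (exfalso; exact h02 (hb0.symm.trans hb2))
        | simp [single_apply, ha0, ha2, hb0, hb2, h01.ne, h01.ne', h02, h02.symm, h12, h12.symm, eq_comm]

theorem inT_all (hc : Closed T') {k : Fin m} {d : F} (hd : d ≠ 0)
    (h : InT T' (Matrix.single k k d)) {S : Mat} (hS : Sᵀ = S) : InT T' S := by
  classical
  have hv : ∀ v : Fin m → F, InT T' (d • vecMulVec v v) := by
    intro v
    by_cases hv : v = 0
    · subst hv
      rw [show d • vecMulVec (0 : Fin m → F) 0 = 0 by ext; simp [vecMulVec]]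
      exact InT.zero
    obtain ⟨l, hl⟩ := Function.ne_iff.1 hv
    set σ := Equiv.swap k l
    set M : Mat := Matrix.of fun a b => if b = k then v a else if a = σ b then 1 else 0
    have hker : IsUnit M := by
      rw [← mulVec_injective_iff_isUnit]
      intro x y hxy
      rw [← sub_eq_zero]
      set z := x - y
      have hz : M *ᵥ z = 0 := by rw [mulVec_sub, sub_eq_zero]; exact hxy
      have hrow : ∀ a, (M *ᵥ z) a = v a * z k + if σ a = k then 0 else z (σ a) := by
        intro a
        rw [mulVec, dotProduct, ← Finset.add_sum_erase _ _ (Finset.mem_univ k)]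
        congr 1
        · simp [M]
        · split_ifs with hσ
          · refine Finset.sum_eq_zero fun b hb => ?_
            have hbk := (Finset.mem_erase.1 hb).1
            have : a ≠ σ b := fun e => hbk (by
              rw [← hσ, e, Equiv.swap_apply_self])
            simp [M, hbk, this]
          · rw [Finset.sum_eq_single (σ a)]
            · simp [M, hσ, σ]
            · intro b hb hne
              have : a ≠ σ b := fun e => hne (by rw [e, Equiv.swap_apply_self])
              simp [M, (Finset.mem_erase.1 hb).1, this]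
            · intro hn
              exact absurd (Finset.mem_erase.2 ⟨hσ, Finset.mem_univ _⟩) hn
      have hzk : z k = 0 := by
        have := (hrow l).symm.trans (congrFun hz l)
        rw [if_pos (by simp [σ]), add_zero, Pi.zero_apply] at this
        exact (mul_eq_zero.1 this).resolve_left hl
      funext b
      by_cases hb : b = k
      · rw [hb, hzk]; rfl
      · have := (hrow (σ b)).symm.trans (congrFun hz (σ b))
        rw [hzk, mul_zero, zero_add, Equiv.swap_apply_self, if_neg hb] at this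
        exact this
    convert InT.congr hc h hker.unit using 1
    ext a b
    rw [IsUnit.unit_spec, congr_single (p := p)]
    simp [M, vecMulVec]
    ring
  have hc' : ∀ (v : Fin m → F) (c : F), InT T' (c • vecMulVec v v) := by
    intro v c
    have hsq : ∀ s : F, InT T' ((d * (s * s)) • vecMulVec v v) := by
      intro s
      convert hv (s • v) using 1
      ext a b
      simp [vecMulVec]
      ring
    by_cases h2 : (2 : F) = 0
    · obtain ⟨s, hs⟩ := FiniteField.isSquare_of_char_two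
        (ringChar.eq_iff.2 (CharTwo.of_one_ne_zero_of_two_eq_zero one_ne_zero h2)) (c / d)
      rw [show c = d * (s * s) by rw [← hs]; field_simp]
      exact hsq s
    · rw [show c = d * (((1 + c / d) / 2) * ((1 + c / d) / 2)) -
        d * (((1 - c / d) / 2) * ((1 - c / d) / 2)) by field_simp; ring, sub_smul]
      exact (hsq _).sub (hsq _)
  have hpart : ∀ i j, i < j → InT T' (Matrix.single i j (S i j) + Matrix.single j i (S i j)) := by
    intro i j hij
    convert ((hc' (Pi.single i 1 + Pi.single j 1) (S i j)).sub (hc' (Pi.single i 1) (S i j))).sub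
      (hc' (Pi.single j 1) (S i j)) using 1
    ext a b
    simp only [Matrix.sub_apply, Matrix.smul_apply, vecMulVec_apply, Matrix.add_apply, single_apply,
      Pi.add_apply, Pi.single_apply, smul_eq_mul]
    by_cases hai : a = i <;> by_cases haj : a = j <;> by_cases hbi : b = i <;> by_cases hbj : b = j <;>
      first
        | (exfalso; exact hij.ne (hai.symm.trans haj))
        | (exfalso; exact hij.ne (hbi.symm.trans hbj))
        | (simp [hai, haj, hbi, hbj, hij.ne, hij.ne'] <;> (try split_ifs) <;> simp_all <;> intros <;>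
            subst_vars <;> simp_all)
  have hS' : S = ∑ i : Fin m, ∑ j : Fin m, (Matrix.single i j (if i ≤ j then S i j else 0) +
      Matrix.single j i (if i < j then S i j else 0)) := by
    ext a b
    simp only [Matrix.sum_apply, Matrix.add_apply, Finset.sum_add_distrib, single_apply, ite_and,
      Finset.sum_ite_irrel, Finset.sum_const_zero, Finset.sum_ite_eq', Finset.mem_univ, if_true]
    have hsym : S a b = S b a := congrFun (congrFun hS b) a
    rcases lt_trichotomy a b with h | h | h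
    · rw [if_pos h.le, if_neg (lt_asymm h), add_zero]
    · rw [if_pos h.le, if_neg (by rw [h]; exact lt_irrefl b), add_zero]
    · rw [if_neg (not_le.2 h), if_pos h, zero_add, hsym]
  rw [hS']
  refine InT.sum _ _ fun i _ => InT.sum _ _ fun j _ => ?_
  rcases lt_trichotomy i j with h | h | h
  · rw [if_pos h.le, if_pos h]
    exact hpart i j h
  · subst h
    rw [if_pos le_rfl, if_neg (lt_irrefl i), single_zero, add_zero]
    convert hc' (Pi.single i 1) (S i i) using 1
    ext a b
    by_cases ha : a = i <;> by_cases hb : b = i <;>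
      simp [single_apply, vecMulVec, Pi.single_apply, @eq_comm _ i, ha, hb]
  · rw [if_neg (not_le.2 h), if_neg (lt_asymm h), single_zero, single_zero, add_zero]
    exact InT.zero

theorem eq_of_closed (hm : 2 ≤ m) (hex : m = 2 → 3 ≤ Nat.card F) {T : Subgroup (PSp m F)}
    (hT : T ≤ (U F m).map pr)
    (hsc : ∀ g : PSp m F, ∀ x ∈ T, g * x * g⁻¹ ∈ (U F m).map pr → g * x * g⁻¹ ∈ T) :
    T = ⊥ ∨ T = (U F m).map pr := by
  classical
  refine or_iff_not_imp_left.2 fun hne => le_antisymm hT ?_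
  have hc : Closed T := fun g u hu _ h => by
    rw [map_mul, map_mul, map_inv]
    refine hsc _ _ hu ?_
    rw [← map_inv, ← map_mul, ← map_mul]
    exact Subgroup.mem_map_of_mem pr h
  obtain ⟨x, hxT, hx1, hxU, hcomm⟩ : ∃ x : G, pr x ∈ T ∧ x ≠ 1 ∧ x ∈ U F m ∧
      ∀ u ∈ U F m, u * x * u⁻¹ = x := by
    set Vb := (U F m).map pr
    have hV : IsPGroup p Vb := (isPGroup_U F m).map _
    have : (T.subgroupOf Vb).Normal :=
      ⟨fun x hx y => hsc _ x hx (mul_mem (mul_mem y.2 x.2) (inv_mem y.2))⟩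
    have hnt : T.subgroupOf Vb ≠ ⊥ := by
      rw [ne_eq, Subgroup.subgroupOf_eq_bot, disjoint_iff, inf_eq_left.2 hT]
      exact hne
    have hdvd : p ∣ Nat.card (T.subgroupOf Vb) := by
      have : Nontrivial (T.subgroupOf Vb) := (Subgroup.nontrivial_iff_ne_bot _).2 hnt
      obtain ⟨n, hn0, hn⟩ := (hV.to_subgroup (T.subgroupOf Vb)).nontrivial_iff_card.1 inferInstance
      exact hn ▸ dvd_pow_self p hn0.ne'
    obtain ⟨⟨⟨x, hxV⟩, hxT⟩, hfix, hx1⟩ :=
      (hV.of_equiv ConjAct.toConjAct).exists_fixed_point_of_prime_dvd_card_of_fixed_point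
        (T.subgroupOf Vb) hdvd (a := 1) (fun g => smul_one g)
    obtain ⟨u, hu, rfl⟩ := hxV
    refine ⟨u, hxT, fun h => hx1 ?_, hu, fun w hw => ?_⟩
    · refine Subtype.ext (Subtype.ext ?_)
      show (1 : PSp m F) = pr u
      rw [h, map_one]
    · have h := congrArg (fun z : T.subgroupOf Vb => ((z : Vb) : PSp m F))
        (hfix (ConjAct.toConjAct ⟨pr w, w, hw, rfl⟩))
      have h' : pr (w * u * w⁻¹) = pr u := by
        rw [map_mul, map_mul, map_inv]
        exact h
      exact pr_injOn (p := p) (mul_mem (mul_mem hw hu) (inv_mem hw)) hu h'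
  have hxN : x ∈ N F m := by
    refine ⟨hxU.1, ?_⟩
    obtain ⟨hDA, -⟩ := block_rel hxU.1
    have hgrp : ∀ a b c : G, b * c = c * b → b * (a * c) * b⁻¹ = a * c → a * b * a⁻¹ = b := by
      intro a b c hbc h
      have h' : b * a * b⁻¹ = a := by
        rw [show b * (a * c) * b⁻¹ = b * a * b⁻¹ * (b * c * b⁻¹) by group, hbc,
          mul_inv_cancel_right] at h
        exact mul_right_cancel h
      rw [mul_inv_eq_iff_eq_mul] at h' ⊢
      exact h'.symm
    obtain ⟨S', hS', h⟩ := decomp hxU.1 (det_unitri hxU.2)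
    have hS : ∀ S : Mat, Sᵀ = S → bA x * S * (bA x)ᵀ = S := fun S hS => by
      have h3 : up S hS * up S' hS' = up S' hS' * up S hS :=
        (up_mul hS hS').trans ((up_congr _ _ (add_comm S S')).trans (up_mul hS' hS).symm)
      have h2 := hcomm _ (N_le_U (up_mem_N S hS))
      rw [h] at h2
      have h1 := hgrp _ _ _ h3 h2
      exact up_inj ((lev_conj (Matrix.SpecialLinearGroup.toGL
        (⟨bA x, det_unitri hxU.2⟩ : Matrix.SpecialLinearGroup (Fin m) F)) hS).symm.trans h1)
    obtain ⟨-, h2, -⟩ := scalar_of_congr (p := p) hS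
    ext i j
    by_cases hij : i = j
    · rw [hij, hxU.2.diag, one_apply_eq]
    · rw [one_apply_ne hij, h2 i j hij]
  obtain ⟨S, hS, rfl⟩ := exists_up hxN
  have hfix : ∀ (i l : Fin m) (hil : i < l),
      ((1 : Mat) + Matrix.single i l 1) * S * ((1 : Mat) + Matrix.single i l 1)ᵀ = S := by
    intro i l hil
    have h := up_inj ((lev_conj (Matrix.SpecialLinearGroup.toGL
      (Matrix.SpecialLinearGroup.transvection hil.ne (1 : F))) hS).symm.trans
      (hcomm _ (lv_mem_U (Unitri.isUnitri_transvection hil 1))))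
    have e1 : ((Matrix.SpecialLinearGroup.toGL
        (Matrix.SpecialLinearGroup.transvection hil.ne (1 : F)) : GL (Fin m) F) : Mat) =
        1 + Matrix.single i l 1 :=
      Matrix.SpecialLinearGroup.transvection_coe hil.ne 1
    rwa [e1] at h
  have hS0 : S ≠ 0 := fun h => hx1 (by subst h; exact up_zero)
  obtain ⟨k, d, hd, hk⟩ := exists_diag (p := p) hm hex hc hS0 ⟨hS, hxT⟩ hfix
  have hall : ∀ S' : Mat, S'ᵀ = S' → InT T S' := fun S' hS' => inT_all (p := p) hc hd hk hS'
  have htr : ∀ (i j : Fin m) (hij : i < j) (c : F),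
      pr (lv (Matrix.SpecialLinearGroup.transvection hij.ne c)) ∈ T := fun i j hij c => by
    rw [← neg_neg c]
    exact lv_mem_of_pair (p := p) hc hij (hall _ (sym_pair i j (-c)))
  rintro _ ⟨u, hu, rfl⟩
  obtain ⟨S', hS', h⟩ := decomp hu.1 (det_unitri hu.2)
  rw [h, map_mul]
  refine mul_mem ?_ (hall S' hS').2
  have hA : (⟨bA u, det_unitri hu.2⟩ : Matrix.SpecialLinearGroup (Fin m) F) ∈ Unitri.U m F := hu.2
  refine (Subgroup.closure_le (T.comap ((QuotientGroup.mk' Z).comp lv))).2 ?_
    (Unitri.mem_closure_transvection hA)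
  rintro _ ⟨i, j, hij, c, rfl⟩
  exact htr i j hij c

theorem map_U_ne_bot (hm : 1 ≤ m) : (U F m).map pr ≠ ⊥ := by
  intro hbot
  have hu : up _ (sym_single (⟨0, hm⟩ : Fin m) (1 : F)) ∈ U F m := N_le_U (up_mem_N _ _)
  have h1 := Subgroup.mem_map_of_mem pr hu
  rw [hbot, Subgroup.mem_bot] at h1
  have h2 := pr_injOn (p := p) hu (one_mem _) (h1.trans (map_one _).symm)
  rw [← up_zero] at h2
  exact one_ne_zero (α := F) (by simpa using congrFun (congrFun (up_inj h2) ⟨0, hm⟩) ⟨0, hm⟩)

/-- The `p`-fusion system of `PSp(2m, q)`, `p` the characteristic, is simple. -/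
theorem isSimple (hm : 2 ≤ m) (hex : m = 2 → 3 ≤ Nat.card F) (S : Sylow p (PSp m F)) :
    (groupFusionSystem (S : Subgroup (PSp m F))).IsSimple p := by
  obtain ⟨P, hP⟩ := exists_sylow (p := p) (F := F) (m := m)
  refine isSimple_group_of_model P ?_ ?_ ?_ S
  · rw [hP]; exact map_U_ne_bot (p := p) (by omega)
  · rw [hP]; exact fun T hT hsc => eq_of_closed (p := p) hm hex hT hsc
  · rw [hP]; exact (normalizer_le_gen (p := p) hm).trans le_sup_right

end CharP

end CfsgLib.Fusion.SympCharP
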