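import Cfsg.Agent.Lib.SL2.SylowTwoPair
import Cfsg.Agent.Lib.FormRep.Symplectic

/-!
`SL_2 × SL_2` and the block swap inside `Sp_4`, and transpositions of anticommuting involutions.
-/

set_option autoImplicit false

namespace CfsgLib.Fusion.SympFour

open Matrix
open scoped MatrixGroups

variable {F : Type*} [Field F]

/-- The index type. -/
abbrev I4 := Fin 2 ⊕ Fin 2

local notation "M4" => Matrix I4 I4 F
local notation "M2" => Matrix (Fin 2) (Fin 2) F

/-- Two `2 × 2` blocks on the two hyperbolic planes. -/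
def blk (A B : M2) : M4 :=
  fromBlocks (diagonal ![A 0 0, B 0 0]) (diagonal ![A 0 1, B 0 1])
    (diagonal ![A 1 0, B 1 0]) (diagonal ![A 1 1, B 1 1])

/-- The block swap. -/
def sM : M4 := fromBlocks !![0, 1; 1, 0] 0 0 !![0, 1; 1, 0]

theorem blk_mul (A B A' B' : M2) : blk A B * blk A' B' = blk (A * A') (B * B') := by
  ext i j
  rcases i with i | i <;> rcases j with j | j <;> fin_cases i <;> fin_cases j <;>
    simp [blk, fromBlocks_multiply, Matrix.mul_apply, Fin.sum_univ_two, Fintype.sum_sum_type]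

theorem blk_one : blk (1 : M2) 1 = 1 := by
  ext i j
  rcases i with i | i <;> rcases j with j | j <;> fin_cases i <;> fin_cases j <;> simp [blk]

theorem blk_neg (A B : M2) : blk (-A) (-B) = -blk A B := by
  ext i j
  rcases i with i | i <;> rcases j with j | j <;> fin_cases i <;> fin_cases j <;> simp [blk]

theorem blk_smul (c : F) (A B : M2) : blk (c • A) (c • B) = c • blk A B := by
  ext i j
  rcases i with i | i <;> rcases j with j | j <;> fin_cases i <;> fin_cases j <;> simp [blk]

theorem sM_mul_self : (sM : M4) * sM = 1 := by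
  ext i j
  rcases i with i | i <;> rcases j with j | j <;> fin_cases i <;> fin_cases j <;>
    simp [sM, Matrix.mul_apply, Fin.sum_univ_two, Fintype.sum_sum_type]

theorem sM_blk (A B : M2) : sM * blk A B = blk B A * sM := by
  ext i j
  rcases i with i | i <;> rcases j with j | j <;> fin_cases i <;> fin_cases j <;>
    simp [blk, sM, Matrix.mul_apply, Fin.sum_univ_two, Fintype.sum_sum_type]

theorem blk_injective {A B A' B' : M2} (h : blk A B = blk A' B') : A = A' ∧ B = B' := by
  constructor <;> ext i j <;> fin_cases i <;> fin_cases j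
  · simpa [blk] using congr_fun₂ h (.inl 0) (.inl 0)
  · simpa [blk] using congr_fun₂ h (.inl 0) (.inr 0)
  · simpa [blk] using congr_fun₂ h (.inr 0) (.inl 0)
  · simpa [blk] using congr_fun₂ h (.inr 0) (.inr 0)
  · simpa [blk] using congr_fun₂ h (.inl 1) (.inl 1)
  · simpa [blk] using congr_fun₂ h (.inl 1) (.inr 1)
  · simpa [blk] using congr_fun₂ h (.inr 1) (.inl 1)
  · simpa [blk] using congr_fun₂ h (.inr 1) (.inr 1)

theorem blk_mem {A B : M2} (hA : A.det = 1) (hB : B.det = 1) :
    blk A B ∈ symplecticGroup (Fin 2) F := by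
  rw [SymplecticGroup.mem_iff]
  rw [det_fin_two] at hA hB
  ext i j
  rcases i with i | i <;> rcases j with j | j <;> fin_cases i <;> fin_cases j <;>
    simp [blk, J, Matrix.mul_apply, Fin.sum_univ_two, Fintype.sum_sum_type] <;>
    first | ring1 | linear_combination hA | linear_combination -hA | linear_combination hB | linear_combination -hB | linear_combination 2 * hA | linear_combination -2 * hA | linear_combination 2 * hB | linear_combination -2 * hB

theorem sM_mem : (sM : M4) ∈ symplecticGroup (Fin 2) F := by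
  rw [SymplecticGroup.mem_iff]
  ext i j
  rcases i with i | i <;> rcases j with j | j <;> fin_cases i <;> fin_cases j <;>
    simp [sM, J, Matrix.mul_apply, Fin.sum_univ_two, Fintype.sum_sum_type]

/-- A symplectic matrix commuting with `diag(-1, 1)` consists of two blocks. -/
theorem eq_blk_of_commute (h2 : (2 : F) ≠ 0) {X : M4} (hX : X ∈ symplecticGroup (Fin 2) F)
    (hc : X * blk (-1) 1 = blk (-1) 1 * X) :
    ∃ A B : M2, A.det = 1 ∧ B.det = 1 ∧ X = blk A B := by
  refine ⟨!![X (.inl 0) (.inl 0), X (.inl 0) (.inr 0); X (.inr 0) (.inl 0), X (.inr 0) (.inr 0)],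
    !![X (.inl 1) (.inl 1), X (.inl 1) (.inr 1); X (.inr 1) (.inl 1), X (.inr 1) (.inr 1)], ?_⟩
  have e := fun i j => congr_fun₂ hc i j
  have z1 : X (.inl 0) (.inl 1) = 0 := by
    have := e (.inl 0) (.inl 1)
    simp [blk, Matrix.mul_apply, Fin.sum_univ_two, Fintype.sum_sum_type] at this
    exact (mul_eq_zero.1 (show (2 : F) * _ = 0 by linear_combination this)).resolve_left h2
  have z2 : X (.inl 0) (.inr 1) = 0 := by
    have := e (.inl 0) (.inr 1)
    simp [blk, Matrix.mul_apply, Fin.sum_univ_two, Fintype.sum_sum_type] at this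
    exact (mul_eq_zero.1 (show (2 : F) * _ = 0 by linear_combination this)).resolve_left h2
  have z3 : X (.inr 0) (.inl 1) = 0 := by
    have := e (.inr 0) (.inl 1)
    simp [blk, Matrix.mul_apply, Fin.sum_univ_two, Fintype.sum_sum_type] at this
    exact (mul_eq_zero.1 (show (2 : F) * _ = 0 by linear_combination this)).resolve_left h2
  have z4 : X (.inr 0) (.inr 1) = 0 := by
    have := e (.inr 0) (.inr 1)
    simp [blk, Matrix.mul_apply, Fin.sum_univ_two, Fintype.sum_sum_type] at this
    exact (mul_eq_zero.1 (show (2 : F) * _ = 0 by linear_combination this)).resolve_left h2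
  have w1 : X (.inl 1) (.inl 0) = 0 := by
    have := e (.inl 1) (.inl 0)
    simp [blk, Matrix.mul_apply, Fin.sum_univ_two, Fintype.sum_sum_type] at this
    exact (mul_eq_zero.1 (show (2 : F) * _ = 0 by linear_combination -this)).resolve_left h2
  have w2 : X (.inl 1) (.inr 0) = 0 := by
    have := e (.inl 1) (.inr 0)
    simp [blk, Matrix.mul_apply, Fin.sum_univ_two, Fintype.sum_sum_type] at this
    exact (mul_eq_zero.1 (show (2 : F) * _ = 0 by linear_combination -this)).resolve_left h2
  have w3 : X (.inr 1) (.inl 0) = 0 := by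
    have := e (.inr 1) (.inl 0)
    simp [blk, Matrix.mul_apply, Fin.sum_univ_two, Fintype.sum_sum_type] at this
    exact (mul_eq_zero.1 (show (2 : F) * _ = 0 by linear_combination -this)).resolve_left h2
  have w4 : X (.inr 1) (.inr 0) = 0 := by
    have := e (.inr 1) (.inr 0)
    simp [blk, Matrix.mul_apply, Fin.sum_univ_two, Fintype.sum_sum_type] at this
    exact (mul_eq_zero.1 (show (2 : F) * _ = 0 by linear_combination -this)).resolve_left h2
  have hs := SymplecticGroup.mem_iff.1 hX
  have d0 := congr_fun₂ hs (.inl 0) (.inr 0)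
  have d1 := congr_fun₂ hs (.inl 1) (.inr 1)
  simp [J, Matrix.mul_apply, Fin.sum_univ_two, Fintype.sum_sum_type, z1, z2, z3, z4, w1, w2, w3, w4]
    at d0 d1
  refine ⟨?_, ?_, ?_⟩
  · rw [det_fin_two_of]; linear_combination -d0
  · rw [det_fin_two_of]; linear_combination -d1
  · ext i j
    rcases i with i | i <;> rcases j with j | j <;> fin_cases i <;> fin_cases j <;>
      simp [blk, z1, z2, z3, z4, w1, w2, w3, w4]

variable (F) in
/-- The group. -/
abbrev Sp : Submonoid M4 := symplecticGroup (Fin 2) F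

/-- The block embedding. -/
def bk : SL(2, F) × SL(2, F) →* symplecticGroup (Fin 2) F where
  toFun x := ⟨blk x.1.1 x.2.1, blk_mem x.1.2 x.2.2⟩
  map_one' := Subtype.ext blk_one
  map_mul' x y := Subtype.ext (blk_mul _ _ _ _).symm

/-- The swap in the group. -/
def sS : symplecticGroup (Fin 2) F := ⟨sM, sM_mem⟩

theorem bk_val (x : SL(2, F) × SL(2, F)) : (bk x : M4) = blk x.1.1 x.2.1 := rfl

theorem bk_injective : Function.Injective (bk (F := F)) := fun _ _ h =>
  Prod.ext (Subtype.ext (blk_injective (congrArg Subtype.val h)).1)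
    (Subtype.ext (blk_injective (congrArg Subtype.val h)).2)

theorem sS_mul_self : (sS : symplecticGroup (Fin 2) F) * sS = 1 := Subtype.ext sM_mul_self

theorem sS_inv : (sS : symplecticGroup (Fin 2) F)⁻¹ = sS := inv_eq_of_mul_eq_one_right sS_mul_self

theorem sS_bk (x : SL(2, F) × SL(2, F)) : sS * bk x = bk x.swap * sS := Subtype.ext (sM_blk _ _)

theorem sS_conj (x : SL(2, F) × SL(2, F)) : sS * bk x * sS⁻¹ = bk x.swap := by
  rw [sS_bk, mul_inv_cancel_right]

theorem bk_ne_sS (h2 : (2 : F) ≠ 0) (x y : SL(2, F) × SL(2, F)) : bk x ≠ bk y * sS := by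
  intro h
  have e0 := congr_fun₂ (congrArg Subtype.val h) (.inl 0) (.inl 0)
  have e1 := congr_fun₂ (congrArg Subtype.val h) (.inl 0) (.inr 0)
  simp [bk, sS, blk, sM, Matrix.mul_apply, Fin.sum_univ_two, Fintype.sum_sum_type] at e0 e1
  have hd := x.1.2
  rw [det_fin_two, e0, e1] at hd
  simp at hd

/-! ### Transpositions of anticommuting involutions -/

theorem gamma_J {g : M4} (hg : g ∈ symplecticGroup (Fin 2) F) (h1 : g * g = 1) :
    J (Fin 2) F * gᵀ = g * J (Fin 2) F := by
  calc J (Fin 2) F * gᵀ = g * g * (J (Fin 2) F * gᵀ) := by rw [h1, Matrix.one_mul]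
    _ = g * (g * J (Fin 2) F * gᵀ) := by simp only [Matrix.mul_assoc]
    _ = g * J (Fin 2) F := by rw [SymplecticGroup.mem_iff.1 hg]

/-- `(x - y)(z - w)/2`. -/
def tM (x y z w : M4) : M4 := (2 : F)⁻¹ • ((x - y) * (z - w))

variable {x y z w : Matrix I4 I4 F} (hx : x * x = 1) (hy : y * y = 1) (hxy : x * y = -(y * x))
  (hz : z * z = 1) (hw : w * w = 1) (hzw : z * w = -(w * z))
  (hxz : x * z = -(z * x)) (hxw : x * w = -(w * x)) (hyz : y * z = -(z * y))
  (hyw : y * w = -(w * y))

include hx hy hxy in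
theorem sub_sq : (x - y) * (x - y) = (2 : F) • (1 : M4) := by
  rw [sub_mul, mul_sub, mul_sub, hx, hy, hxy, two_smul]; abel

include hx hy hxy hz hw hzw in
theorem tM_mem (h2 : (2 : F) ≠ 0) (hxS : x ∈ symplecticGroup (Fin 2) F)
    (hyS : y ∈ symplecticGroup (Fin 2) F) (hzS : z ∈ symplecticGroup (Fin 2) F)
    (hwS : w ∈ symplecticGroup (Fin 2) F) : tM x y z w ∈ symplecticGroup (Fin 2) F := by
  rw [SymplecticGroup.mem_iff]
  have e1 : J (Fin 2) F * (z - w)ᵀ = (z - w) * J (Fin 2) F := by
    rw [transpose_sub, Matrix.mul_sub, gamma_J hzS hz, gamma_J hwS hw, Matrix.sub_mul]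
  have e2 : J (Fin 2) F * (x - y)ᵀ = (x - y) * J (Fin 2) F := by
    rw [transpose_sub, Matrix.mul_sub, gamma_J hxS hx, gamma_J hyS hy, Matrix.sub_mul]
  have e3 : (x - y) * (z - w) * J (Fin 2) F * ((x - y) * (z - w))ᵀ =
      ((2 : F) * 2) • J (Fin 2) F := by
    calc (x - y) * (z - w) * J (Fin 2) F * ((x - y) * (z - w))ᵀ
        = (x - y) * (z - w) * (J (Fin 2) F * (z - w)ᵀ) * (x - y)ᵀ := by
          rw [transpose_mul]; simp only [Matrix.mul_assoc]
      _ = (x - y) * ((z - w) * (z - w)) * (J (Fin 2) F * (x - y)ᵀ) := by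
          rw [e1]; simp only [Matrix.mul_assoc]
      _ = (2 : F) • ((x - y) * (x - y) * J (Fin 2) F) := by
          rw [sub_sq hz hw hzw, e2, Matrix.mul_smul, Matrix.mul_one, Matrix.smul_mul,
            Matrix.mul_assoc]
      _ = ((2 : F) * 2) • J (Fin 2) F := by
          rw [sub_sq hx hy hxy, Matrix.smul_mul, Matrix.one_mul, smul_smul]
  rw [tM, Matrix.smul_mul, Matrix.smul_mul, transpose_smul, Matrix.mul_smul, e3, smul_smul,
    smul_smul]
  rw [show (2 : F)⁻¹ * (2 : F)⁻¹ * (2 * 2) = 1 by field_simp, one_smul]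

include hxz hxw hyz hyw in
theorem sub_anti : (x - y) * (z - w) = -((z - w) * (x - y)) := by
  simp only [sub_mul, mul_sub, hxz, hxw, hyz, hyw]
  abel

include hx hy hxy hxz hxw in
theorem tM_left : tM x y z w * x = y * tM x y z w := by
  have e : (x - y) * x = -(y * (x - y)) := by
    rw [sub_mul, mul_sub, hx, hy]; abel
  have e' : (z - w) * x = -(x * (z - w)) := by
    rw [sub_mul, mul_sub, hxz, hxw]; abel
  rw [tM, Matrix.smul_mul, Matrix.mul_smul, Matrix.mul_assoc, e', Matrix.mul_neg,
    ← Matrix.mul_assoc, e, Matrix.neg_mul, neg_neg, Matrix.mul_assoc]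

include hz hw hzw hxz hyz hxw hyw in
theorem tM_right : tM x y z w * z = w * tM x y z w := by
  have e : (z - w) * z = -(w * (z - w)) := by
    rw [sub_mul, mul_sub, hz, hw]; abel
  have e' : (x - y) * w = -(w * (x - y)) := by
    rw [sub_mul, mul_sub, hxw, hyw]; abel
  rw [tM, Matrix.smul_mul, Matrix.mul_smul, Matrix.mul_assoc, e, Matrix.mul_neg,
    ← Matrix.mul_assoc, e', Matrix.neg_mul, neg_neg, Matrix.mul_assoc]

theorem tM_other {r : M4} (hxr : x * r = -(r * x)) (hyr : y * r = -(r * y))
    (hzr : z * r = -(r * z)) (hwr : w * r = -(r * w)) : tM x y z w * r = r * tM x y z w := by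
  have e : (x - y) * r = -(r * (x - y)) := by rw [sub_mul, mul_sub, hxr, hyr]; abel
  have e' : (z - w) * r = -(r * (z - w)) := by rw [sub_mul, mul_sub, hzr, hwr]; abel
  rw [tM, Matrix.smul_mul, Matrix.mul_smul, Matrix.mul_assoc, e', Matrix.mul_neg,
    ← Matrix.mul_assoc, e, Matrix.neg_mul, neg_neg, Matrix.mul_assoc]

include hx hy hxy hz hw hzw hxz hxw hyz hyw in
theorem tM_sq (h2 : (2 : F) ≠ 0) : tM x y z w * tM x y z w = -1 := by
  rw [tM, Matrix.smul_mul, Matrix.mul_smul, smul_smul]
  have e : (x - y) * (z - w) * ((x - y) * (z - w)) = -(((2 : F) * 2) • (1 : M4)) := by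
    calc (x - y) * (z - w) * ((x - y) * (z - w))
        = (x - y) * ((z - w) * (x - y)) * (z - w) := by simp only [Matrix.mul_assoc]
      _ = -((x - y) * (x - y) * ((z - w) * (z - w))) := by
          rw [show (z - w) * (x - y) = -((x - y) * (z - w)) by
            rw [sub_anti hxz hxw hyz hyw, neg_neg]]
          simp only [Matrix.mul_neg, Matrix.neg_mul, Matrix.mul_assoc]
      _ = _ := by
          rw [sub_sq hx hy hxy, sub_sq hz hw hzw, Matrix.smul_mul, Matrix.one_mul, smul_smul]
  rw [e, smul_neg, smul_smul, show (2 : F)⁻¹ * 2⁻¹ * (2 * 2) = 1 by field_simp, one_smul]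

end CfsgLib.Fusion.SympFour
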