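import Cfsg.Agent.Lib.Fusion.SympFourNorm

/-!
Simplicity of the 2-fusion system of `PSp_4(q)`, `q` odd.
-/

set_option autoImplicit false

namespace CfsgLib.Fusion.SympFour

open Matrix Cfsg
open scoped MatrixGroups

variable {F : Type*} [Field F] [Finite F]

local notation "SpG" => Matrix.symplecticGroup (Fin 2) F
local notation "mk" => QuotientGroup.mk' (Subgroup.center (Matrix.symplecticGroup (Fin 2) F))

/-- The 2-fusion system of `PSp_4(q)` is simple for odd `q`. -/
theorem isSimple (hodd : Odd (Nat.card F)) (S : Sylow 2 (PSp 2 F)) :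
    (groupFusionSystem (S : Subgroup (PSp 2 F))).IsSimple 2 := by
  have : Fact (Nat.Prime 2) := ⟨Nat.prime_two⟩
  have h2 := CfsgLib.SL2.odd_card_two_ne_zero hodd
  obtain ⟨P⟩ : Nonempty (Sylow 2 (Matrix.SpecialLinearGroup (Fin 2) F)) := inferInstance
  obtain ⟨b, hbP, d, hdP, hb, hd, hbd, hcase⟩ := CfsgLib.SL2.exists_sylowTwo_pair hodd P
  obtain ⟨R, hR⟩ := exists_sylow P h2 hbP hdP hb hd hbd
  refine isSimple_group_of_model R ?_ ?_ ?_ S
  · rw [hR]
    intro hbot
    have h : mk (eE : SpG) ∈ SB P := ⟨eE, eE_mem P, rfl⟩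
    rw [hbot, Subgroup.mem_bot] at h
    rcases mk_eq_mk.1 (h.trans (map_one (mk)).symm) with e | e
    · have := congrArg Prod.fst (bk_injective (e.trans (map_one bk).symm))
      have := congr_fun₂ (congrArg Subtype.val this) 0 0
      simp at this
      exact h2 (by linear_combination -this)
    · rw [mul_one] at e
      have := congrArg Prod.snd (bk_injective e)
      have := congr_fun₂ (congrArg Subtype.val this) 0 0
      simp at this
      exact h2 (by linear_combination this)
  · rw [hR]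
    exact fun T hT hsc => stronglyClosed P hodd h2 hbP hdP hb hd hbd T hT hsc
  rw [hR]
  intro g hg
  refine Subgroup.mem_sup_right ?_
  obtain ⟨h, rfl, hn, x, hx⟩ := normalizer_rep P h2 hbP hdP hb hd hbd hg
  -- the blocks
  have hxn : ∀ y ∈ S4 P, bk x * y * (bk x)⁻¹ ∈ S4 P := by
    intro y hy
    rcases hx with e | e
    · exact e ▸ hn y hy
    · have h' := hn (sS * y * sS⁻¹) (mul_mem (mul_mem (sS_mem P) hy) (inv_mem (sS_mem P)))
      rwa [e, show bk x * sS * (sS * y * sS⁻¹) * (bk x * sS)⁻¹ =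
        bk x * ((sS * sS) * y * (sS * sS)⁻¹) * (bk x)⁻¹ by group, sS_mul_self, inv_one, one_mul,
        mul_one] at h'
  obtain ⟨hx1, hx2, hx12⟩ := blocks_normalize P h2 hxn
  rcases hcase with hN | hQ
  · -- the model is self-normalizing
    have hS : ∀ g : SpG, mk g ∈ Subgroup.normalizer (SB P : Set (PSp 2 F)) → g ∈ S4 P := by
      intro g hg
      obtain ⟨k, hk, hkn, y, hy⟩ := normalizer_rep P h2 hbP hdP hb hd hbd hg
      have hkyn : ∀ z ∈ S4 P, bk y * z * (bk y)⁻¹ ∈ S4 P := by
        intro z hz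
        rcases hy with e | e
        · exact e ▸ hkn z hz
        · have h' := hkn (sS * z * sS⁻¹) (mul_mem (mul_mem (sS_mem P) hz) (inv_mem (sS_mem P)))
          rwa [e, show bk y * sS * (sS * z * sS⁻¹) * (bk y * sS)⁻¹ =
            bk y * ((sS * sS) * z * (sS * sS)⁻¹) * (bk y)⁻¹ by group, sS_mul_self, inv_one, one_mul,
            mul_one] at h'
      obtain ⟨hy1, hy2, -⟩ := blocks_normalize P h2 hkyn
      have hkS : k ∈ S4 P := by
        have hbk := bk_mem P (x := y) (hN _ hy1) (hN _ hy2)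
        rcases hy with e | e
        · exact e ▸ hbk
        · exact e ▸ mul_mem hbk (sS_mem P)
      exact (mk_mem_SB P).1 (hk ▸ (mk_mem_SB P).2 hkS)
    have hcent : Subgroup.centralizer ((SB P) : Set (PSp 2 F)) ≤ SB P := by
      intro y hy
      obtain ⟨y, rfl⟩ := QuotientGroup.mk'_surjective _ y
      exact (mk_mem_SB P).2 (hS y (Subgroup.centralizer_le_normalizer _ hy))
    refine Subgroup.subset_closure ⟨hg, SB P, le_rfl, Subgroup.le_normalizer, hcent,
      Subgroup.subset_closure ⟨hg, ?_⟩⟩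
    obtain ⟨m, hm⟩ := ((isPGroup_S4 P).map mk) ⟨mk h, ⟨h, hS h hg, rfl⟩⟩
    obtain ⟨i, -, hi⟩ := (Nat.dvd_prime_pow Nat.prime_two).1
      (orderOf_dvd_of_pow_eq_one (congrArg Subtype.val hm))
    exact ⟨i, hi⟩
  · -- the elementary abelian group of order 16
    refine Subgroup.subset_closure ⟨hg, (RB b d).map mk, Subgroup.map_mono (RB_le P hbP hdP), ?_,
      centralizer_RB P h2 hbP hdP hb hd hbd hQ, ?_⟩
    · rintro _ ⟨y, hy, rfl⟩
      exact Subgroup.le_normalizer_map _
        (Subgroup.mem_map_of_mem _ (S4_le_normalizer P hbP hdP hb hd hbd hQ hy))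
    set K := Subgroup.closure
      {g : SpG | g ∈ Subgroup.normalizer (RB b d : Set SpG) ∧ ∃ m : ℕ, g ^ 2 ^ m = 1}
    have hSK : ∀ g ∈ S4 P, g ∈ K := by
      intro g hg
      obtain ⟨m, hm⟩ := isPGroup_S4 P ⟨g, hg⟩
      exact Subgroup.subset_closure
        ⟨S4_le_normalizer P hbP hdP hb hd hbd hQ hg, m, congrArg Subtype.val hm⟩
    have hxK : bk x ∈ K := by
      rw [show x = ((x.1 * x.2⁻¹, 1) : _ × _) * (x.2, x.2) from Prod.ext (by simp) (by simp), map_mul]
      exact mul_mem (hSK _ (bk_mem P hx12 (one_mem _)))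
        (diag_mem_closure P h2 hbP hdP hb hd hbd hQ hx2)
    have hhK : h ∈ K := by
      rcases hx with e | e
      · exact e ▸ hxK
      · exact e ▸ mul_mem hxK (hSK _ (sS_mem P))
    have := Subgroup.mem_map_of_mem mk hhK
    rw [MonoidHom.map_closure] at this
    refine Subgroup.closure_mono ?_ this
    rintro _ ⟨y, ⟨hy, m, hm⟩, rfl⟩
    obtain ⟨i, -, hi⟩ := (Nat.dvd_prime_pow Nat.prime_two).1
      (orderOf_dvd_of_pow_eq_one (x := mk y) (n := 2 ^ m) (by rw [← map_pow, hm, map_one]))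
    exact ⟨Subgroup.le_normalizer_map _ (Subgroup.mem_map_of_mem _ hy), i, hi⟩

end CfsgLib.Fusion.SympFour
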