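import Cfsg.Agent.Lib.Fusion.SympFourTwo

/-!
The normalizer of the model of a Sylow 2-subgroup of `PSp_4(q)`: five anticommuting involutions
and the transpositions acting on them.
-/

set_option autoImplicit false

namespace CfsgLib.Fusion.SympFour

open Matrix Cfsg
open scoped MatrixGroups

variable {F : Type*} [Field F]

local notation "SpG" => Matrix.symplecticGroup (Fin 2) F
local notation "SL2" => Matrix.SpecialLinearGroup (Fin 2) F
local notation "mk" => QuotientGroup.mk' (Subgroup.center (Matrix.symplecticGroup (Fin 2) F))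

theorem zZ_comm (k : SpG) : zZ * k = k * zZ := (Subgroup.mem_center_iff.1 zZ_center k).symm

theorem zZ_mul_self : (zZ : SpG) * zZ = 1 := by
  rw [zZ, ← map_mul, show ((-1 : SL2), (-1 : SL2)) * (-1, -1) = 1 from
    Prod.ext (by simp) (by simp), map_one]

theorem zZ_val : ((zZ : SpG) : Matrix I4 I4 F) = -1 := by
  show blk ((-1 : SL2) : Matrix (Fin 2) (Fin 2) F) ((-1 : SL2) : Matrix (Fin 2) (Fin 2) F) = -1
  rw [Matrix.SpecialLinearGroup.coe_neg, Matrix.SpecialLinearGroup.coe_one, blk_neg, blk_one]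

theorem bk_neg (x : SL2 × SL2) : bk (-x.1, -x.2) = zZ * bk x := by
  rw [zZ, ← map_mul]
  exact congrArg bk (Prod.ext (by simp) (by simp))

/-- The involutions attached to square roots of `-1`. -/
def gma (a : SL2) : SpG := sS * bk (-a, a)

theorem gma_sq {a : SL2} (ha : a * a = -1) : gma a * gma a = 1 := by
  rw [gma, show sS * bk (-a, a) * (sS * bk (-a, a)) = sS * bk (-a, a) * sS * bk (-a, a) by group,
    sS_bk, mul_assoc (bk _), sS_mul_self, mul_one, ← map_mul, ← map_one bk]
  exact congrArg bk (Prod.ext (by simp [ha]) (by simp [ha]))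

theorem eE_sq : (eE : SpG) * eE = 1 := by
  rw [eE, ← map_mul, ← map_one bk]
  exact congrArg bk (Prod.ext (by simp) (by simp))

theorem eE_sS : eE * sS = zZ * (sS * (eE : SpG)) := by
  rw [sS_eE, mul_assoc zZ eE sS, ← mul_assoc zZ zZ, zZ_mul_self, one_mul]

theorem sS_gma (a : SL2) : sS * gma a = zZ * (gma a * sS) := by
  rw [gma, ← mul_assoc, sS_mul_self, one_mul, sS_bk, mul_assoc (bk _), sS_mul_self, mul_one, ← bk_neg]
  simp

theorem eE_gma (a : SL2) : eE * gma a = zZ * (gma a * eE) := by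
  rw [gma, ← mul_assoc, eE_sS, mul_assoc zZ (sS * eE), mul_assoc sS eE, ← eE_commute_bk,
    ← mul_assoc sS]

theorem gma_gma {a a' : SL2} (h : a' * a = -(a * a')) : gma a * gma a' = zZ * (gma a' * gma a) := by
  rw [gma, gma, show sS * bk (-a, a) * (sS * bk (-a', a')) = sS * bk (-a, a) * sS * bk (-a', a') by group,
    show sS * bk (-a', a') * (sS * bk (-a, a)) = sS * bk (-a', a') * sS * bk (-a, a) by group,
    sS_bk, sS_bk, mul_assoc _ sS sS, mul_assoc _ sS sS, sS_mul_self, mul_one, mul_one, ← map_mul,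
    ← map_mul, ← bk_neg]
  exact congrArg bk (Prod.ext (by simp [h]) (by simp [h]))

theorem gma_neg (a : SL2) : gma (-a) = zZ * gma a := by
  rw [gma, gma, ← mul_assoc, zZ_comm, mul_assoc, ← bk_neg]

theorem gma_injective {a a' : SL2} (h : gma a = gma a') : a = a' :=
  congrArg Prod.snd (bk_injective (mul_left_cancel h))

theorem bk_diag_gma (B a : SL2) : bk (B, B) * gma a = gma (B * a * B⁻¹) * bk (B, B) := by
  rw [gma, gma, ← mul_assoc, show bk (B, B) * sS = sS * bk (B, B) by rw [sS_bk]; rfl, mul_assoc,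
    mul_assoc, ← map_mul, ← map_mul]
  exact congrArg (sS * bk ·) (Prod.ext (by simp) (by simp))

/-- The transposition product as a group element. -/
noncomputable def tS (h2 : (2 : F) ≠ 0) {x y z w : SpG} (hx : x * x = 1) (hy : y * y = 1)
    (hxy : x * y = zZ * (y * x)) (hz : z * z = 1) (hw : w * w = 1) (hzw : z * w = zZ * (w * z)) :
    SpG :=
  ⟨tM (x : Matrix I4 I4 F) y z w, tM_mem (congrArg Subtype.val hx) (congrArg Subtype.val hy)
    (by have := congrArg Subtype.val hxy; simpa [zZ_val] using this) (congrArg Subtype.val hz)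
    (congrArg Subtype.val hw) (by have := congrArg Subtype.val hzw; simpa [zZ_val] using this)
    h2 x.2 y.2 z.2 w.2⟩

theorem anti_val {x y : SpG} (h : x * y = zZ * (y * x)) :
    (x : Matrix I4 I4 F) * y = -((y : Matrix I4 I4 F) * x) := by
  have := congrArg Subtype.val h
  simpa [zZ_val] using this

theorem anti_symm {x y : SpG} (h : x * y = zZ * (y * x)) : y * x = zZ * (x * y) := by
  rw [h, ← mul_assoc zZ zZ, zZ_mul_self, one_mul]

/-- The action of a transposition product on five anticommuting involutions. -/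
theorem exists_transp (h2 : (2 : F) ≠ 0) {x y z w r : SpG} (hx : x * x = 1) (hy : y * y = 1)
    (hz : z * z = 1) (hw : w * w = 1) (hxy : x * y = zZ * (y * x)) (hxz : x * z = zZ * (z * x))
    (hxw : x * w = zZ * (w * x)) (hyz : y * z = zZ * (z * y)) (hyw : y * w = zZ * (w * y))
    (hzw : z * w = zZ * (w * z)) (hxr : x * r = zZ * (r * x)) (hyr : y * r = zZ * (r * y))
    (hzr : z * r = zZ * (r * z)) (hwr : w * r = zZ * (r * w)) :
    ∃ t : SpG, t * t = zZ ∧ t * x = y * t ∧ t * y = x * t ∧ t * z = w * t ∧ t * w = z * t ∧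
      t * r = r * t := by
  have hx' := congrArg Subtype.val hx
  have hy' := congrArg Subtype.val hy
  have hz' := congrArg Subtype.val hz
  have hw' := congrArg Subtype.val hw
  set t := tS h2 hx hy hxy hz hw hzw
  have hsq : t * t = zZ := Subtype.ext (by
    rw [zZ_val]
    exact tM_sq hx' hy' (anti_val hxy) hz' hw' (anti_val hzw) (anti_val hxz) (anti_val hxw)
      (anti_val hyz) (anti_val hyw) h2)
  have hl : t * x = y * t := Subtype.ext
    (tM_left hx' hy' (anti_val hxy) (anti_val hxz) (anti_val hxw))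
  have hr : t * z = w * t := Subtype.ext
    (tM_right hz' hw' (anti_val hzw) (anti_val hxz) (anti_val hxw) (anti_val hyz) (anti_val hyw))
  have hback : ∀ a a' : SpG, t * a = a' * t → t * a' = a * t := by
    intro a a' h
    refine (mul_right_cancel (b := t) ?_).symm
    calc a * t * t = t * t * a := by rw [mul_assoc a t t, hsq, ← zZ_comm]
      _ = t * a' * t := by rw [mul_assoc t t a, h, mul_assoc t a' t]
  exact ⟨t, hsq, hl, hback _ _ hl, hr, hback _ _ hr,
    Subtype.ext (tM_other (anti_val hxr) (anti_val hyr) (anti_val hzr) (anti_val hwr))⟩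

variable [Finite F] (P : Sylow 2 (Matrix.SpecialLinearGroup (Fin 2) F)) (h2 : (2 : F) ≠ 0)
  {b d : Matrix.SpecialLinearGroup (Fin 2) F}
  (hbP : b ∈ (P : Subgroup (Matrix.SpecialLinearGroup (Fin 2) F)))
  (hdP : d ∈ (P : Subgroup (Matrix.SpecialLinearGroup (Fin 2) F)))
  (hb : b * b = -1) (hd : d * d = -1) (hbd : b * d * (b * d) = -1)
  (hQ : ∀ x ∈ (P : Subgroup (Matrix.SpecialLinearGroup (Fin 2) F)),
    ∃ y, (x = y ∨ x = -y) ∧ (y = 1 ∨ y = b ∨ y = d ∨ y = b * d))

/-- The five involutions. -/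
def gens (b d : SL2) : Set SpG := {eE, sS, gma b, gma d, gma (b * d)}

/-- The preimage of the elementary abelian group of order 16. -/
def RB (b d : SL2) : Subgroup SpG := Subgroup.closure (gens b d)

omit [Finite F] in
theorem gens_subset (b d : SL2) : gens b d ⊆ (RB b d : Set SpG) := Subgroup.subset_closure

include hbP hdP in
theorem RB_le : RB b d ≤ S4 P := by
  have hg : ∀ a ∈ (P : Subgroup SL2), gma a ∈ S4 P := fun a ha => by
    refine mul_mem (sS_mem P) (bk_mem P ?_ ha)
    have := mul_mem (neg_one_mem_P P) ha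
    rwa [neg_one_mul] at this
  refine (Subgroup.closure_le _).2 ?_
  rintro g (rfl | rfl | rfl | rfl | rfl)
  · exact eE_mem P
  · exact sS_mem P
  · exact hg _ hbP
  · exact hg _ hdP
  · exact hg _ (mul_mem hbP hdP)

include hb hd hbd hQ in
theorem inv_eq (q : SL2) (hq : q ∈ (P : Subgroup SL2)) : q⁻¹ = q ∨ q⁻¹ = -q := by
  obtain ⟨y, hqy, hy⟩ := hQ q hq
  have key : y⁻¹ = y ∨ y⁻¹ = -y := by
    rcases hy with rfl | rfl | rfl | rfl
    · exact Or.inl inv_one
    · exact Or.inr (inv_eq_of_mul_eq_one_right (by rw [mul_neg, hb, neg_neg]))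
    · exact Or.inr (inv_eq_of_mul_eq_one_right (by rw [mul_neg, hd, neg_neg]))
    · exact Or.inr (inv_eq_of_mul_eq_one_right (by rw [mul_neg, hbd, neg_neg]))
  rcases hqy with rfl | rfl
  · exact key
  · rcases key with h | h
    · exact Or.inl (by rw [inv_neg, h])
    · exact Or.inr (by rw [inv_neg, h])

include hb hd hbd hQ in
theorem conj_eq (q r : SL2) (hq : q ∈ (P : Subgroup SL2)) (hr : r ∈ (P : Subgroup SL2)) :
    r * q * r⁻¹ = q ∨ r * q * r⁻¹ = -q := by
  have key : r * q = q * r ∨ r * q = -(q * r) := by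
    have e : r * q = ((q⁻¹) * r⁻¹)⁻¹ := by group
    rcases inv_eq P hb hd hbd hQ q hq with h | h <;>
      rcases inv_eq P hb hd hbd hQ r hr with h' | h' <;>
      rw [h, h'] at e <;>
      (rcases inv_eq P hb hd hbd hQ _ (mul_mem hq hr) with h'' | h'' <;>
        simp only [neg_mul, mul_neg, neg_neg, inv_neg, h''] at e <;>
        first | exact Or.inl e | exact Or.inr e)
  rcases key with h | h <;> rw [h]
  · exact Or.inl (mul_inv_cancel_right q r)
  · exact Or.inr (by rw [neg_mul, mul_inv_cancel_right])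

include hb hQ in
theorem bk_pm_mem {q : SL2} (hq : q ∈ (P : Subgroup SL2)) :
    bk (q, q) ∈ RB b d ∧ bk (q, -q) ∈ RB b d := by
  have hG : ∀ a, gma a ∈ RB b d → bk (a, a) ∈ RB b d := by
    intro a ha
    have h := mul_mem (gens_subset b d (Or.inl rfl)) (mul_mem (gens_subset b d (Or.inr (Or.inl rfl))) ha)
    rwa [gma, ← mul_assoc sS sS, sS_mul_self, one_mul, eE, ← map_mul,
      show ((-1, 1) : SL2 × SL2) * (-a, a) = (a, a) from Prod.ext (by simp) (by simp)] at h
  have hbb := hG b (gens_subset b d (Or.inr (Or.inr (Or.inl rfl))))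
  have hz : zZ ∈ RB b d := by
    have := mul_mem hbb hbb
    rwa [← map_mul, Prod.mk_mul_mk, hb] at this
  have hmain : bk (q, q) ∈ RB b d := by
    obtain ⟨y, hqy, hy⟩ := hQ q hq
    have hyy : bk (y, y) ∈ RB b d := by
      rcases hy with rfl | rfl | rfl | rfl
      · rw [show ((1 : SL2), (1 : SL2)) = 1 from rfl, map_one]; exact one_mem _
      · exact hbb
      · exact hG _ (gens_subset _ _ (Or.inr (Or.inr (Or.inr (Or.inl rfl)))))
      · exact hG _ (gens_subset _ _ (Or.inr (Or.inr (Or.inr (Or.inr rfl)))))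
    rcases hqy with rfl | rfl
    · exact hyy
    · have := mul_mem hz hyy
      rwa [← bk_neg] at this
  refine ⟨hmain, ?_⟩
  have := mul_mem hz (mul_mem (gens_subset b d (Or.inl rfl)) hmain)
  rwa [eE, ← map_mul, ← bk_neg, show (-((((-1, 1) : SL2 × SL2) * (q, q)).1), -((((-1, 1) : SL2 × SL2) * (q, q)).2))
    = (q, -q) from Prod.ext (by simp) (by simp)] at this

include hbP hdP hb hd hbd hQ in
theorem S4_le_normalizer : S4 P ≤ Subgroup.normalizer (RB b d : Set SpG) := by
  have hblk : ∀ x : SL2 × SL2, x.1 ∈ (P : Subgroup SL2) → x.2 ∈ (P : Subgroup SL2) →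
      bk x ∈ Subgroup.normalizer (RB b d : Set SpG) := by
    intro x hx hx'
    refine Subgroup.mem_normalizer_fintype fun y hy => ?_
    have hs : bk x * sS * (bk x)⁻¹ ∈ RB b d := by
      rw [← map_inv, mul_assoc, sS_bk, ← mul_assoc, ← map_mul]
      refine mul_mem ?_ (gens_subset b d (Or.inr (Or.inl rfl)))
      set p := x.1 * x.2⁻¹
      have hp : p ∈ (P : Subgroup SL2) := mul_mem hx (inv_mem hx')
      have e : x * x⁻¹.swap = (p, p⁻¹) := Prod.ext rfl (by simp [p])
      rw [e]
      rcases inv_eq P hb hd hbd hQ p hp with h | h <;> rw [h]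
      · exact (bk_pm_mem P hb hQ hp).1
      · exact (bk_pm_mem P hb hQ hp).2
    have hg : ∀ a ∈ (P : Subgroup SL2), bk x * gma a * (bk x)⁻¹ ∈ RB b d := by
      intro a ha
      rw [gma, show bk x * (sS * bk (-a, a)) * (bk x)⁻¹ =
        bk x * sS * (bk x)⁻¹ * (bk x * bk (-a, a) * (bk x)⁻¹) by group]
      refine mul_mem hs ?_
      rw [← map_inv, ← map_mul, ← map_mul, show x * (-a, a) * x⁻¹ =
        (-(x.1 * a * x.1⁻¹), x.2 * a * x.2⁻¹) from Prod.ext (by simp) (by simp)]
      have hna : -a ∈ (P : Subgroup SL2) := by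
        have := mul_mem (neg_one_mem_P P) ha
        rwa [neg_one_mul] at this
      rcases conj_eq P hb hd hbd hQ a x.1 ha hx with h | h <;>
        rcases conj_eq P hb hd hbd hQ a x.2 ha hx' with h' | h' <;> rw [h, h'] <;>
        (try simp only [neg_neg])
      · simpa using (bk_pm_mem P hb hQ hna).2
      · exact (bk_pm_mem P hb hQ hna).1
      · exact (bk_pm_mem P hb hQ ha).1
      · exact (bk_pm_mem P hb hQ ha).2
    induction hy using Subgroup.closure_induction with
    | mem g hgm =>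
      rcases hgm with rfl | rfl | rfl | rfl | rfl
      · rw [eE_commute_bk, mul_inv_cancel_right]
        exact gens_subset b d (Or.inl rfl)
      · exact hs
      · exact hg _ hbP
      · exact hg _ hdP
      · exact hg _ (mul_mem hbP hdP)
    | one => rw [mul_one, mul_inv_cancel]; exact one_mem _
    | mul u v _ _ ih ih' =>
      rw [show bk x * (u * v) * (bk x)⁻¹ = (bk x * u * (bk x)⁻¹) * (bk x * v * (bk x)⁻¹) by group]
      exact mul_mem ih ih'
    | inv u _ ih =>
      rw [show bk x * u⁻¹ * (bk x)⁻¹ = (bk x * u * (bk x)⁻¹)⁻¹ by group]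
      exact inv_mem ih
  rintro _ ⟨x, hx, hx', rfl | rfl⟩
  · exact hblk x hx hx'
  · exact mul_mem (hblk x hx hx')
      (Subgroup.le_normalizer (gens_subset b d (Or.inr (Or.inl rfl))))

include h2 hb hd hbd hbP hdP in
/-- Sign changes of `b` and `d` are inner. -/
theorem mem_of_signs {A : SL2} (h1 : A * b * A⁻¹ = b ∨ A * b * A⁻¹ = -b)
    (h3 : A * d * A⁻¹ = d ∨ A * d * A⁻¹ = -d) : A ∈ (P : Subgroup SL2) := by
  have hdb := anticomm hb hd hbd
  have key : ∀ q ∈ (P : Subgroup SL2), q * b * q⁻¹ = A * b * A⁻¹ → q * d * q⁻¹ = A * d * A⁻¹ →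
      A ∈ (P : Subgroup SL2) := by
    intro q hq e e'
    have hc : ∀ a, q * a * q⁻¹ = A * a * A⁻¹ → q⁻¹ * A * a = a * (q⁻¹ * A) := by
      intro a ha
      calc q⁻¹ * A * a = q⁻¹ * (A * a * A⁻¹) * A := by group
        _ = a * (q⁻¹ * A) := by rw [← ha]; group
    rcases CfsgLib.SL2.eq_one_or_neg_of_commute h2 hb hd hbd (hc b e) (hc d e') with h | h
    · rwa [← inv_mul_eq_one.1 h]
    · rw [eq_mul_of_inv_mul_eq h]
      exact mul_mem hq (neg_one_mem_P P)
  have bdb : d * b * d⁻¹ = -b := by rw [hdb, neg_mul, mul_inv_cancel_right]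
  have dbd : b * d * b⁻¹ = -d := by
    rw [show b * d = -(d * b) by rw [hdb, neg_neg], neg_mul, mul_inv_cancel_right]
  rcases h1 with h1 | h1 <;> rcases h3 with h3 | h3
  · exact key 1 (one_mem _) (by rw [h1]; simp) (by rw [h3]; simp)
  · exact key b hbP (by rw [h1]; group) (by rw [h3, dbd])
  · exact key d hdP (by rw [h1, bdb]) (by rw [h3]; group)
  · refine key (b * d) (mul_mem hbP hdP) ?_ ?_
    · rw [h1, show b * d * b * (b * d)⁻¹ = b * (d * b * d⁻¹) * b⁻¹ by group, bdb, mul_neg, neg_mul,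
        mul_inv_cancel_right]
    · rw [h3, show b * d * d * (b * d)⁻¹ = b * d * b⁻¹ by group, dbd]

include h2 hbP hdP hb hd hbd in
/-- The elements fixing the five involutions up to sign lie in the model. -/
theorem bk_diag_of_commute {k : SpG} (he : k * eE = eE * k) (hs : k * sS = sS * k)
    (hkb : k * gma b * k⁻¹ = gma b ∨ k * gma b * k⁻¹ = gma (-b))
    (hkd : k * gma d * k⁻¹ = gma d ∨ k * gma d * k⁻¹ = gma (-d)) : k ∈ S4 P := by
  obtain ⟨⟨A, B⟩, rfl⟩ := exists_bk_of_commute h2 he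
  rw [sS_bk] at hs
  have hAB : A = B := congrArg Prod.fst (bk_injective (mul_right_cancel hs))
  subst hAB
  have hc : ∀ a, bk (A, A) * gma a * (bk (A, A))⁻¹ = gma (A * a * A⁻¹) := fun a => by
    rw [bk_diag_gma, mul_inv_cancel_right]
  rw [hc] at hkb hkd
  have hA := mem_of_signs P h2 hbP hdP hb hd hbd
    (hkb.imp gma_injective gma_injective) (hkd.imp gma_injective gma_injective)
  exact bk_mem P hA hA

include h2 hbP hdP hb hd hbd hQ in
/-- Elements centralizing the image of `RB` lie in it. -/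
theorem centralizer_RB :
    Subgroup.centralizer (((RB b d).map mk : Subgroup (PSp 2 F)) : Set (PSp 2 F)) ≤
      (RB b d).map mk := by
  intro g hg
  obtain ⟨h, rfl⟩ := QuotientGroup.mk'_surjective _ g
  have hpm : ∀ γ ∈ gens b d, h * γ * h⁻¹ = γ ∨ h * γ * h⁻¹ = zZ * γ := by
    intro γ hγ
    refine mk_eq_mk.1 ?_
    rw [map_mul, map_mul, map_inv, ← Subgroup.mem_centralizer_iff.1 hg (mk γ)
      ⟨γ, gens_subset b d hγ, rfl⟩, mul_inv_cancel_right]
  have hz : zZ ∈ RB b d := by
    have hbb := (bk_pm_mem P hb hQ hbP).1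
    have := mul_mem hbb hbb
    rwa [← map_mul, Prod.mk_mul_mk, hb] at this
  suffices h ∈ RB b d from ⟨h, this, rfl⟩
  -- reduce to an element commuting with `diag(-1, 1)`
  have main : ∀ h : SpG, (∀ γ ∈ gens b d, h * γ * h⁻¹ = γ ∨ h * γ * h⁻¹ = zZ * γ) →
      h * eE * h⁻¹ = eE → h ∈ RB b d := by
    intro h hpm he
    obtain ⟨⟨A, B⟩, rfl⟩ := exists_bk_of_commute h2 (mul_inv_eq_iff_eq_mul.1 he)
    have hsg := hpm sS (Or.inr (Or.inl rfl))
    rw [← map_inv, mul_assoc, sS_bk, ← mul_assoc, ← map_mul] at hsg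
    obtain ⟨ε, hε, hBA⟩ : ∃ ε : SL2, (ε = 1 ∨ ε = -1) ∧ B = ε * A := by
      rcases hsg with e | e
      · have e' := congrArg Prod.fst (bk_injective ((mul_eq_right.1 e).trans (map_one bk).symm))
        exact ⟨1, Or.inl rfl, by rw [one_mul]; exact (mul_inv_eq_one.1 (by simpa using e')).symm⟩
      · rw [zZ] at e
        have e' := congrArg Prod.fst (bk_injective (mul_right_cancel e))
        simp at e'
        refine ⟨-1, Or.inr rfl, ?_⟩
        rw [mul_inv_eq_iff_eq_mul] at e'
        rw [e']; simp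
    have hA : A ∈ (P : Subgroup SL2) := by
      have hk : ∀ a, gma a ∈ gens b d → A * a * A⁻¹ = a ∨ A * a * A⁻¹ = -a := by
        intro a ha
        have hga := hpm _ ha
        rw [gma, show bk (A, B) * (sS * bk (-a, a)) * (bk (A, B))⁻¹ =
          (bk (A, B) * sS) * bk (-a, a) * (bk (A, B))⁻¹ by group,
          show bk (A, B) * sS = sS * bk (B, A) by rw [sS_bk]; rfl, mul_assoc sS, mul_assoc sS,
          show zZ * (sS * bk (-a, a)) = sS * bk (- -a, -a) by
            rw [← mul_assoc zZ, zZ_comm, mul_assoc sS, ← bk_neg],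
          ← map_inv, ← map_mul, ← map_mul] at hga
        rcases hga with e | e <;>
          have e' := congrArg Prod.snd (bk_injective (mul_left_cancel e)) <;>
          simp at e' <;> rcases hε with rfl | rfl <;>
          simp only [hBA, one_mul, neg_one_mul, inv_neg, mul_neg] at e'
        · exact Or.inl e'
        · exact Or.inr (neg_eq_iff_eq_neg.1 e')
        · exact Or.inr e'
        · exact Or.inl (neg_injective e')
      exact mem_of_signs P h2 hbP hdP hb hd hbd (hk b (Or.inr (Or.inr (Or.inl rfl))))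
        (hk d (Or.inr (Or.inr (Or.inr (Or.inl rfl)))))
    rcases hε with rfl | rfl <;> rw [hBA]
    · rw [one_mul]; exact (bk_pm_mem P hb hQ hA).1
    · rw [neg_one_mul]; exact (bk_pm_mem P hb hQ hA).2
  rcases hpm eE (Or.inl rfl) with he | he
  · exact main h hpm he
  · have hsγ : ∀ γ ∈ gens b d, sS * γ * sS⁻¹ = γ ∨ sS * γ * sS⁻¹ = zZ * γ := by
      rintro γ (rfl | rfl | rfl | rfl | rfl)
      · exact Or.inr (by rw [sS_eE, mul_inv_cancel_right])
      · exact Or.inl (mul_inv_cancel_right _ _)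
      all_goals exact Or.inr (by rw [sS_gma, mul_assoc zZ, mul_inv_cancel_right])
    have h' := main (h * sS) (fun γ hγ => ?_) (by
      rw [show h * sS * eE * (h * sS)⁻¹ = h * (sS * eE * sS⁻¹) * h⁻¹ by group, sS_eE,
        mul_inv_cancel_right, ← mul_assoc, ← zZ_comm, mul_assoc zZ, mul_assoc zZ, he, ← mul_assoc,
        zZ_mul_self, one_mul])
    · have := mul_mem h' (gens_subset b d (Or.inr (Or.inl rfl)) : sS ∈ RB b d)
      rwa [mul_assoc, sS_mul_self, mul_one] at this
    · rw [show h * sS * γ * (h * sS)⁻¹ = h * (sS * γ * sS⁻¹) * h⁻¹ by group]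
      rcases hsγ γ hγ with e | e <;> rw [e]
      · exact hpm γ hγ
      · rw [← mul_assoc, ← zZ_comm, mul_assoc zZ, mul_assoc zZ]
        rcases hpm γ hγ with e' | e' <;> rw [e']
        · exact Or.inr rfl
        · exact Or.inl (by rw [← mul_assoc, zZ_mul_self, one_mul])

include h2 hbP hdP hb hd hbd hQ in
/-- Diagonal normalizing blocks are generated by 2-elements normalizing `RB`. -/
theorem diag_mem_closure {B : SL2}
    (hB : B ∈ Subgroup.normalizer ((P : Subgroup SL2) : Set SL2)) :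
    bk (B, B) ∈ Subgroup.closure
      {g : SpG | g ∈ Subgroup.normalizer (RB b d : Set SpG) ∧ ∃ m : ℕ, g ^ 2 ^ m = 1} := by
  set K := Subgroup.closure
    {g : SpG | g ∈ Subgroup.normalizer (RB b d : Set SpG) ∧ ∃ m : ℕ, g ^ 2 ^ m = 1}
  have hSK : ∀ g ∈ S4 P, g ∈ K := by
    intro g hg
    obtain ⟨m, hm⟩ := isPGroup_S4 P ⟨g, hg⟩
    exact Subgroup.subset_closure
      ⟨S4_le_normalizer P hbP hdP hb hd hbd hQ hg, m, congrArg Subtype.val hm⟩
  have hdb := anticomm hb hd hbd
  have hbinv : b⁻¹ = -b := inv_eq_of_mul_eq_one_right (by rw [mul_neg, hb, neg_neg])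
  have hbbd : b * d * b = -(b * (b * d)) := by rw [mul_assoc, hdb, mul_neg]
  have hdbd : b * d * d = -(d * (b * d)) := by rw [← mul_assoc d, hdb, neg_mul, neg_neg]
  -- the two transposition products
  obtain ⟨t1, ht1, t1e, t1s, t1d, t1bd, t1b⟩ := exists_transp h2 (x := eE) (y := sS) (z := gma d)
    (w := gma (b * d)) (r := gma b) eE_sq sS_mul_self (gma_sq hd) (gma_sq hbd) eE_sS (eE_gma d)
    (eE_gma (b * d)) (sS_gma d) (sS_gma (b * d)) (gma_gma hdbd) (eE_gma b) (sS_gma b)
    (gma_gma (by rw [hdb, neg_neg])) (gma_gma (by rw [hbbd, neg_neg]))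
  obtain ⟨t2, ht2, t2e, t2s, t2b, t2d, t2bd⟩ := exists_transp h2 (x := eE) (y := sS) (z := gma b)
    (w := gma d) (r := gma (b * d)) eE_sq sS_mul_self (gma_sq hb) (gma_sq hd) eE_sS (eE_gma b)
    (eE_gma d) (sS_gma b) (sS_gma d) (gma_gma hdb) (eE_gma (b * d)) (sS_gma (b * d))
    (gma_gma hbbd) (gma_gma hdbd)
  have hperm : ∀ t : SpG, t * t = zZ → (∀ γ ∈ gens b d, ∃ γ' ∈ gens b d, t * γ = γ' * t) →
      t ∈ K := by
    intro t ht hgen
    refine Subgroup.subset_closure ⟨Subgroup.mem_normalizer_fintype fun y hy => ?_, 2, ?_⟩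
    · induction hy using Subgroup.closure_induction with
      | mem g hg =>
        obtain ⟨γ', hγ', e⟩ := hgen g hg
        show t * g * t⁻¹ ∈ RB b d
        rw [e, mul_inv_cancel_right]
        exact gens_subset b d hγ'
      | one => simp
      | mul u v _ _ ih ih' =>
        show t * (u * v) * t⁻¹ ∈ RB b d
        rw [show t * (u * v) * t⁻¹ = (t * u * t⁻¹) * (t * v * t⁻¹) by group]
        exact mul_mem ih ih'
      | inv u _ ih =>
        show t * u⁻¹ * t⁻¹ ∈ RB b d
        rw [show t * u⁻¹ * t⁻¹ = (t * u * t⁻¹)⁻¹ by group]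
        exact inv_mem ih
    · rw [show (2 : ℕ) ^ 2 = 2 * 2 from rfl, pow_mul, pow_two t, ht, pow_two, zZ_mul_self]
  have ht1K : t1 ∈ K := by
    refine hperm t1 ht1 ?_
    rintro γ (rfl | rfl | rfl | rfl | rfl)
    · exact ⟨_, Or.inr (Or.inl rfl), t1e⟩
    · exact ⟨_, Or.inl rfl, t1s⟩
    · exact ⟨_, Or.inr (Or.inr (Or.inl rfl)), t1b⟩
    · exact ⟨_, Or.inr (Or.inr (Or.inr (Or.inr rfl))), t1d⟩
    · exact ⟨_, Or.inr (Or.inr (Or.inr (Or.inl rfl))), t1bd⟩
  have ht2K : t2 ∈ K := by
    refine hperm t2 ht2 ?_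
    rintro γ (rfl | rfl | rfl | rfl | rfl)
    · exact ⟨_, Or.inr (Or.inl rfl), t2e⟩
    · exact ⟨_, Or.inl rfl, t2s⟩
    · exact ⟨_, Or.inr (Or.inr (Or.inr (Or.inl rfl))), t2b⟩
    · exact ⟨_, Or.inr (Or.inr (Or.inl rfl)), t2d⟩
    · exact ⟨_, Or.inr (Or.inr (Or.inr (Or.inr rfl))), t2bd⟩
  set W := t1 * t2 with hW
  have We : W * eE = eE * W := by
    rw [hW, mul_assoc, t2e, ← mul_assoc, t1s, mul_assoc]
  have Ws : W * sS = sS * W := by
    rw [hW, mul_assoc, t2s, ← mul_assoc, t1e, mul_assoc]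
  have Wb : W * gma b = gma (b * d) * W := by
    rw [hW, mul_assoc, t2b, ← mul_assoc, t1d, mul_assoc]
  have Wd : W * gma d = gma b * W := by
    rw [hW, mul_assoc, t2d, ← mul_assoc, t1b, mul_assoc]
  have Wbd : W * gma (b * d) = gma d * W := by
    rw [hW, mul_assoc, t2bd, ← mul_assoc, t1bd, mul_assoc]
  have hWK : W ∈ K := mul_mem ht1K ht2K
  -- the images of `b` and `d`
  have hne : ∀ c : SL2, c * c = -1 → c ≠ 1 ∧ c ≠ -1 := by
    have h11 : (1 : SL2) ≠ -1 := by
      intro h
      have := congr_fun₂ (congrArg Subtype.val h) 0 0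
      simp at this
      exact h2 (by linear_combination this)
    intro c hc
    constructor <;> intro h <;> rw [h] at hc <;> simp at hc <;> exact h11 hc
  have himg : ∀ c ∈ (P : Subgroup SL2), c * c = -1 → ∃ y, (y = b ∨ y = d ∨ y = b * d) ∧
      (B * c * B⁻¹ = y ∨ B * c * B⁻¹ = -y) := by
    intro c hc hc2
    obtain ⟨y, hy, hy'⟩ := hQ _ ((Subgroup.mem_normalizer_iff.1 hB c).1 hc)
    rcases hy' with rfl | hy'
    · exfalso
      rcases hy with h | h
      · exact (hne c hc2).1 (conj_eq_one_iff.1 h)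
      · refine (hne c hc2).2 ?_
        calc c = B⁻¹ * (B * c * B⁻¹) * B := by group
          _ = -1 := by rw [h]; simp
    · exact ⟨y, hy', hy⟩
  obtain ⟨yb, hyb, hBb⟩ := himg b hbP hb
  obtain ⟨yd, hyd, hBd⟩ := himg d hdP hd
  have hdiff : yb ≠ yd := by
    rintro rfl
    have hbd' : B * b * B⁻¹ = B * d * B⁻¹ ∨ B * b * B⁻¹ = B * (-d) * B⁻¹ := by
      rw [mul_neg, neg_mul]
      rcases hBb with h | h <;> rcases hBd with h' | h' <;> rw [h, h'] <;> simp
    have hcon : ∀ e : SL2, b = e → e * d = d * e → False := by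
      intro e he hed
      have := hbd
      rw [show b * d * (b * d) = b * (d * b) * d by group, he, ← hed,
        show e * (e * d) * d = (e * e) * (d * d) by group, hd, ← he, hb] at this
      simp at this
      exact (hne b hb).1 (absurd (this : (1 : SL2) = -1) fun h => by
        have := congr_fun₂ (congrArg Subtype.val h) 0 0
        simp at this
        exact h2 (by linear_combination this))
    rcases hbd' with h | h
    · exact hcon d (mul_left_cancel (mul_right_cancel h)) rfl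
    · exact hcon (-d) (mul_left_cancel (mul_right_cancel h)) (by simp)
  -- swaps are impossible
  obtain ⟨r, hr, m, hrm⟩ : ∃ r, ¬ 2 ∣ r ∧ ∃ m, orderOf B = 2 ^ m * r := by
    obtain ⟨m, r, hr, h⟩ := Nat.exists_eq_pow_mul_and_not_dvd (orderOf_pos B).ne' 2 (by norm_num)
    exact ⟨r, hr, m, h⟩
  have hBr : B ^ r ∈ (P : Subgroup SL2) := by
    refine CfsgLib.SL2.mem_sylow_of_normalizes P (pow_mem hB r) (m := m) ?_
    rw [← pow_mul, mul_comm, ← hrm, pow_orderOf_eq_one]
  have no_swap : ∀ u ∈ (P : Subgroup SL2), ∀ v, (v ≠ u ∧ v ≠ -u) →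
      (B * u * B⁻¹ = v ∨ B * u * B⁻¹ = -v) → (B * v * B⁻¹ = u ∨ B * v * B⁻¹ = -u) → False := by
    intro u hu v hv huv hvu
    have hpow : ∀ i : ℕ, B ^ (2 * i) * u * (B ^ (2 * i))⁻¹ = u ∨
        B ^ (2 * i) * u * (B ^ (2 * i))⁻¹ = -u := by
      intro i
      induction i with
      | zero => simp
      | succ i ih =>
        rw [show B ^ (2 * (i + 1)) * u * (B ^ (2 * (i + 1)))⁻¹ =
          B * (B * (B ^ (2 * i) * u * (B ^ (2 * i))⁻¹) * B⁻¹) * B⁻¹ by
            rw [show 2 * (i + 1) = 2 * i + 1 + 1 by ring, pow_succ', pow_succ']; group]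
        rcases ih with e | e <;> rw [e] <;> rcases huv with e' | e' <;>
          simp only [mul_neg, neg_mul, e'] <;> rcases hvu with e'' | e'' <;>
          simp [e'']
    obtain ⟨i, hi⟩ := Nat.odd_iff.2 (Nat.two_dvd_ne_zero.1 hr)
    have h1 := conj_eq P hb hd hbd hQ u _ hu hBr
    rw [show B ^ r * u * (B ^ r)⁻¹ = B * (B ^ (2 * i) * u * (B ^ (2 * i))⁻¹) * B⁻¹ by
      rw [hi, pow_succ']; group] at h1
    rcases hpow i with e | e <;> rw [e] at h1 <;> rcases huv with e' | e' <;>
      simp only [mul_neg, neg_mul, e', neg_neg] at h1 <;> rcases h1 with h1 | h1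
    all_goals first
      | exact hv.1 h1
      | exact hv.2 h1
      | exact hv.1 (neg_injective h1)
      | exact hv.2 (neg_eq_iff_eq_neg.1 h1)
  have hfix : ∀ y, (B * b * B⁻¹ = y ∨ B * b * B⁻¹ = -y) →
      bk (B, B) * gma b * (bk (B, B))⁻¹ = gma y ∨ bk (B, B) * gma b * (bk (B, B))⁻¹ = gma (-y) := by
    intro y hy
    rw [bk_diag_gma, mul_inv_cancel_right]
    exact hy.imp (congrArg gma) (congrArg gma)
  have hfixd : ∀ y, (B * d * B⁻¹ = y ∨ B * d * B⁻¹ = -y) →
      bk (B, B) * gma d * (bk (B, B))⁻¹ = gma y ∨ bk (B, B) * gma d * (bk (B, B))⁻¹ = gma (-y) := by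
    intro y hy
    rw [bk_diag_gma, mul_inv_cancel_right]
    exact hy.imp (congrArg gma) (congrArg gma)
  have Be : bk (B, B) * eE = eE * bk (B, B) := eE_commute_bk _
  have Bs : bk (B, B) * sS = sS * bk (B, B) := (sS_bk (B, B)).symm
  -- transfer along a permuting element
  have hfin : ∀ k : SpG, k ∈ K → k * eE = eE * k → k * sS = sS * k →
      ∀ yb yd : SL2, (B * b * B⁻¹ = yb ∨ B * b * B⁻¹ = -yb) →
      (B * d * B⁻¹ = yd ∨ B * d * B⁻¹ = -yd) →
      k * gma yb = gma b * k → k * gma yd = gma d * k → bk (B, B) ∈ K := by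
    intro k hk ke ks yb yd hyb hyd kb kd
    have hneg : ∀ y c : SL2, k * gma y = gma c * k → k * gma (-y) = gma (-c) * k := fun y c e => by
      rw [gma_neg, gma_neg, ← mul_assoc, ← zZ_comm, mul_assoc, e, mul_assoc]
    have hmem : k * bk (B, B) ∈ S4 P := by
      refine bk_diag_of_commute P h2 hbP hdP hb hd hbd ?_ ?_ ?_ ?_
      · rw [mul_assoc, Be, ← mul_assoc, ke, mul_assoc]
      · rw [mul_assoc, Bs, ← mul_assoc, ks, mul_assoc]
      · rw [show k * bk (B, B) * gma b * (k * bk (B, B))⁻¹ =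
          k * (bk (B, B) * gma b * (bk (B, B))⁻¹) * k⁻¹ by group]
        rcases hfix yb hyb with e | e <;> rw [e]
        · exact Or.inl (by rw [kb, mul_inv_cancel_right])
        · exact Or.inr (by rw [hneg _ _ kb, mul_inv_cancel_right])
      · rw [show k * bk (B, B) * gma d * (k * bk (B, B))⁻¹ =
          k * (bk (B, B) * gma d * (bk (B, B))⁻¹) * k⁻¹ by group]
        rcases hfixd yd hyd with e | e <;> rw [e]
        · exact Or.inl (by rw [kd, mul_inv_cancel_right])
        · exact Or.inr (by rw [hneg _ _ kd, mul_inv_cancel_right])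
    have := mul_mem (inv_mem hk) (hSK _ hmem)
    rwa [inv_mul_cancel_left] at this
  have hWinv : ∀ u v : SpG, W * u = v * W → W⁻¹ * v = u * W⁻¹ := fun u v e => by
    rw [inv_mul_eq_iff_eq_mul, ← mul_assoc, e, mul_inv_cancel_right]
  have hsgn : ∀ c : SL2, c * c = -1 → ∀ y, y * c = -(c * y) → (y ≠ c ∧ y ≠ -c) := by
    intro c hc y hy
    constructor <;> rintro rfl <;> simp [hc] at hy
    all_goals
      have := congr_fun₂ (congrArg Subtype.val hy) 0 0
      simp at this
      first | exact h2 (by linear_combination this) | exact h2 (by linear_combination -this)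
  rcases hyb with eb | eb | eb <;> rcases hyd with ed | ed | ed <;>
    rw [eb] at hBb hdiff <;> rw [ed] at hBd hdiff
  · exact absurd rfl hdiff
  · exact hfin 1 (one_mem _) (by simp) (by simp) _ _ hBb hBd (by simp) (by simp)
  · -- `b ↦ b`, `d ↦ b d`
    refine (no_swap d hdP (b * d) (hsgn d hd _ (by rw [hdbd])) hBd ?_).elim
    have e : B * (b * d) * B⁻¹ = (B * b * B⁻¹) * (B * d * B⁻¹) := by group
    rw [e]
    rcases hBb with h | h <;> rcases hBd with h' | h' <;>
      simp [h, h', ← mul_assoc, hb]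
  · exact (no_swap b hbP d (hsgn b hb _ hdb) hBb hBd).elim
  · exact absurd rfl hdiff
  · -- `b ↦ d`, `d ↦ b d`
    exact hfin W hWK We Ws _ _ hBb hBd Wd Wbd
  · -- `b ↦ b d`, `d ↦ b`
    exact hfin W⁻¹ (inv_mem hWK) (hWinv _ _ We) (hWinv _ _ Ws) _ _ hBb hBd
      (hWinv _ _ Wb) (hWinv _ _ Wd)
  · -- `b ↦ b d`, `d ↦ d`
    refine (no_swap b hbP (b * d) (hsgn b hb _ hbbd) hBb ?_).elim
    have e : B * (b * d) * B⁻¹ = (B * b * B⁻¹) * (B * d * B⁻¹) := by group
    rw [e]
    rcases hBb with h | h <;> rcases hBd with h' | h' <;>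
      simp [h, h', mul_assoc, hd]
  · exact absurd rfl hdiff

end CfsgLib.Fusion.SympFour
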