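import Cfsg.Agent.Lib.Fusion.SympFourBlocks
import Cfsg.Agent.Lib.Fusion.SimpleModel

/-!
The 2-fusion system of `PSp_4(q)`, `q` odd: the model `Q ≀ 2` for `Q` a Sylow 2-subgroup of
`SL_2(q)`, and the normalizer of the elementary abelian group of order 16 when `Q` has order 8.
-/

set_option autoImplicit false

namespace CfsgLib.Fusion.SympFour

open Matrix Cfsg
open scoped MatrixGroups

variable {F : Type*} [Field F]

local notation "SpG" => Matrix.symplecticGroup (Fin 2) F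
local notation "SL2" => Matrix.SpecialLinearGroup (Fin 2) F
local notation "mk" => QuotientGroup.mk' (Subgroup.center (Matrix.symplecticGroup (Fin 2) F))

/-- `diag(-1, 1)`. -/
def eE : SpG := bk (-1, 1)

/-- The central involution. -/
def zZ : SpG := bk (-1, -1)

theorem sl_neg_mul_self (a : SL2) : -a * -a = a * a := neg_mul_neg a a

theorem zZ_center : (zZ : SpG) ∈ Subgroup.center SpG := by
  refine (CfsgLib.FormRep.Symplectic.center_iff _).2 ⟨-1, ?_⟩
  show blk ((-1 : SL2) : Matrix (Fin 2) (Fin 2) F) ((-1 : SL2) : Matrix (Fin 2) (Fin 2) F) = _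
  rw [Matrix.SpecialLinearGroup.coe_neg, Matrix.SpecialLinearGroup.coe_one, blk_neg, blk_one]
  ext i j
  simp

theorem center_cases {g : SpG} (hg : g ∈ Subgroup.center SpG) : g = 1 ∨ g = zZ := by
  obtain ⟨c, hc⟩ := (CfsgLib.FormRep.Symplectic.center_iff _).1 hg
  have h := SymplecticGroup.mem_iff.1 g.2
  rw [hc] at h
  have h' := congr_fun₂ h (.inl 0) (.inr 0)
  simp [J, Matrix.mul_apply, Fintype.sum_sum_type, Fin.sum_univ_two] at h'
  have hc1 : c = 1 ∨ c = -1 := mul_self_eq_one_iff.1 (by linear_combination h')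
  rcases hc1 with h' | h'
  · exact Or.inl (Subtype.ext (by rw [hc, h', one_smul]; rfl))
  · refine Or.inr (Subtype.ext ?_)
    show _ = blk ((-1 : SL2) : Matrix (Fin 2) (Fin 2) F) ((-1 : SL2) : Matrix (Fin 2) (Fin 2) F)
    rw [hc, h', Matrix.SpecialLinearGroup.coe_neg, Matrix.SpecialLinearGroup.coe_one, blk_neg,
      blk_one]
    ext i j
    simp

theorem mk_eq_mk {a b : SpG} : mk a = mk b ↔ a = b ∨ a = zZ * b := by
  constructor
  · intro h
    have hz : a * b⁻¹ ∈ Subgroup.center SpG := by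
      refine (QuotientGroup.eq_one_iff _).1 ?_
      show mk (a * b⁻¹) = 1
      rw [map_mul, map_inv, h, mul_inv_cancel]
    rcases center_cases hz with e | e
    · exact Or.inl (mul_inv_eq_one.1 e)
    · exact Or.inr (by rw [← e, inv_mul_cancel_right])
  · rintro (rfl | rfl)
    · rfl
    · rw [map_mul, show mk (zZ : SpG) = 1 from (QuotientGroup.eq_one_iff _).2 zZ_center, one_mul]

theorem eE_commute_bk (x : SL2 × SL2) : bk x * eE = eE * bk x := by
  rw [eE, ← map_mul, ← map_mul]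
  exact congrArg _ (Prod.ext (by simp) (by simp))

theorem sS_eE : sS * (eE : SpG) = zZ * eE * sS := by
  rw [eE, sS_bk, zZ, ← map_mul]
  refine congrArg (bk · * sS) (Prod.ext ?_ ?_) <;> simp

/-- An element commuting with `diag(-1, 1)` is a pair of blocks. -/
theorem exists_bk_of_commute (h2 : (2 : F) ≠ 0) {g : SpG} (h : g * eE = eE * g) :
    ∃ x, g = bk x := by
  have h' := congrArg Subtype.val h
  obtain ⟨A, B, hA, hB, he⟩ := eq_blk_of_commute h2 g.2 (X := (g : Matrix I4 I4 F)) (by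
    simpa [eE, bk_val] using h')
  exact ⟨(⟨A, hA⟩, ⟨B, hB⟩), Subtype.ext he⟩

variable [Finite F] (P : Sylow 2 (Matrix.SpecialLinearGroup (Fin 2) F))

/-- The model `Q ≀ 2`. -/
def S4 : Subgroup SpG where
  carrier := {g | ∃ x : SL2 × SL2, x.1 ∈ (P : Subgroup SL2) ∧ x.2 ∈ (P : Subgroup SL2) ∧
    (g = bk x ∨ g = bk x * sS)}
  one_mem' := ⟨1, one_mem _, one_mem _, Or.inl (map_one _).symm⟩
  mul_mem' := by
    rintro _ _ ⟨x, hx, hx', rfl | rfl⟩ ⟨y, hy, hy', rfl | rfl⟩
    · exact ⟨x * y, mul_mem hx hy, mul_mem hx' hy', Or.inl (map_mul _ _ _).symm⟩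
    · exact ⟨x * y, mul_mem hx hy, mul_mem hx' hy', Or.inr (by rw [map_mul, mul_assoc])⟩
    · exact ⟨x * y.swap, mul_mem hx hy', mul_mem hx' hy,
        Or.inr (by rw [mul_assoc, sS_bk, map_mul, mul_assoc])⟩
    · refine ⟨x * y.swap, mul_mem hx hy', mul_mem hx' hy, Or.inl ?_⟩
      rw [show bk x * sS * (bk y * sS) = bk x * (sS * bk y) * sS by group, sS_bk, map_mul,
        mul_assoc (bk x), mul_assoc (bk y.swap), sS_mul_self, mul_one]
  inv_mem' := by
    rintro _ ⟨x, hx, hx', rfl | rfl⟩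
    · exact ⟨x⁻¹, inv_mem hx, inv_mem hx', Or.inl (map_inv _ _).symm⟩
    · refine ⟨x⁻¹.swap, inv_mem hx', inv_mem hx, Or.inr ?_⟩
      rw [← sS_bk, map_inv, _root_.mul_inv_rev, sS_inv]

theorem neg_one_mem_P : (-1 : SL2) ∈ (P : Subgroup SL2) := by
  have : Fact (Nat.Prime 2) := ⟨Nat.prime_two⟩
  refine CfsgLib.SL2.mem_sylow_of_normalizes P ?_ (m := 1) (by simp)
  refine Subgroup.mem_normalizer_fintype fun x hx => ?_
  have hc : (-1 : SL2) * x = x * -1 := by rw [neg_one_mul, mul_neg_one]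
  rw [show (-1 : SL2) * x * (-1 : SL2)⁻¹ = x by rw [hc, mul_inv_cancel_right]]
  exact hx

theorem bk_mem {x : SL2 × SL2} (h : x.1 ∈ (P : Subgroup SL2)) (h' : x.2 ∈ (P : Subgroup SL2)) :
    bk x ∈ S4 P := ⟨x, h, h', Or.inl rfl⟩

theorem sS_mem : (sS : SpG) ∈ S4 P :=
  ⟨1, one_mem _, one_mem _, Or.inr (by rw [map_one, one_mul])⟩

theorem eE_mem : (eE : SpG) ∈ S4 P := bk_mem P (neg_one_mem_P P) (one_mem _)

theorem zZ_mem : (zZ : SpG) ∈ S4 P := bk_mem P (neg_one_mem_P P) (neg_one_mem_P P)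

theorem mem_bk_iff (h2 : (2 : F) ≠ 0) {x : SL2 × SL2} :
    bk x ∈ S4 P ↔ x.1 ∈ (P : Subgroup SL2) ∧ x.2 ∈ (P : Subgroup SL2) := by
  refine ⟨?_, fun h => bk_mem P h.1 h.2⟩
  rintro ⟨y, hy, hy', h | h⟩
  · rw [bk_injective h]; exact ⟨hy, hy'⟩
  · exact absurd h (bk_ne_sS h2 x y)

theorem mem_bk_sS_iff (h2 : (2 : F) ≠ 0) {x : SL2 × SL2} :
    bk x * sS ∈ S4 P ↔ x.1 ∈ (P : Subgroup SL2) ∧ x.2 ∈ (P : Subgroup SL2) := by
  rw [Subgroup.mul_mem_cancel_right _ (sS_mem P), mem_bk_iff P h2]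

theorem isPGroup_S4 : IsPGroup 2 (S4 P) := by
  have hpow : ∀ x : SL2 × SL2, x.1 ∈ (P : Subgroup SL2) → x.2 ∈ (P : Subgroup SL2) →
      ∃ m : ℕ, x ^ 2 ^ m = 1 := by
    intro x hx hx'
    obtain ⟨m, hm⟩ := P.isPGroup' ⟨_, hx⟩
    obtain ⟨n, hn⟩ := P.isPGroup' ⟨_, hx'⟩
    have hm' : x.1 ^ 2 ^ m = 1 := congrArg Subtype.val hm
    have hn' : x.2 ^ 2 ^ n = 1 := congrArg Subtype.val hn
    refine ⟨m + n, Prod.ext ?_ ?_⟩
    · show x.1 ^ 2 ^ (m + n) = 1
      rw [pow_add, pow_mul, hm', one_pow]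
    · show x.2 ^ 2 ^ (m + n) = 1
      rw [pow_add, mul_comm, pow_mul, hn', one_pow]
  rintro ⟨g, x, hx, hx', rfl | rfl⟩
  · obtain ⟨m, hm⟩ := hpow x hx hx'
    exact ⟨m, Subtype.ext (show bk x ^ 2 ^ m = 1 by rw [← map_pow, hm, map_one])⟩
  · obtain ⟨m, hm⟩ := hpow (x * x.swap) (mul_mem hx hx') (mul_mem hx' hx)
    refine ⟨m + 1, Subtype.ext (show (bk x * sS) ^ 2 ^ (m + 1) = 1 from ?_)⟩
    rw [pow_succ', pow_mul, pow_two, show bk x * sS * (bk x * sS) = bk x * (sS * bk x) * sS by group,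
      sS_bk, mul_assoc (bk x), mul_assoc (bk x.swap), sS_mul_self, mul_one, ← map_mul, ← map_pow,
      hm, map_one]

/-- The image of the model. -/
def SB : Subgroup (PSp 2 F) := (S4 P).map mk

theorem mk_mem_SB {g : SpG} : mk g ∈ SB P ↔ g ∈ S4 P := by
  refine ⟨?_, fun h => ⟨g, h, rfl⟩⟩
  rintro ⟨y, hy, h⟩
  rcases mk_eq_mk.1 h.symm with e | e
  · exact e ▸ hy
  · exact e ▸ mul_mem (zZ_mem P) hy

variable (hodd : Odd (Nat.card F)) (h2 : (2 : F) ≠ 0)
  {b d : Matrix.SpecialLinearGroup (Fin 2) F}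
  (hbP : b ∈ (P : Subgroup (Matrix.SpecialLinearGroup (Fin 2) F)))
  (hdP : d ∈ (P : Subgroup (Matrix.SpecialLinearGroup (Fin 2) F)))
  (hb : b * b = -1) (hd : d * d = -1) (hbd : b * d * (b * d) = -1)

include hb hd hbd in
theorem anticomm : d * b = -(b * d) := by
  have hdinv : d⁻¹ = -d := inv_eq_of_mul_eq_one_right (by rw [mul_neg, hd, neg_neg])
  have hbinv : b⁻¹ = -b := inv_eq_of_mul_eq_one_right (by rw [mul_neg, hb, neg_neg])
  have h1 : (b * d)⁻¹ = -(b * d) := inv_eq_of_mul_eq_one_right (by rw [mul_neg, hbd, neg_neg])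
  rw [_root_.mul_inv_rev, hdinv, hbinv, neg_mul_neg] at h1
  exact h1

include h2 hbP hdP hb hd hbd in
/-- `diag(-1,1)` and its negative are the non-central elements with at most two conjugates. -/
theorem eq_eE_of_normal {y : SpG} (hy : y ∈ S4 P) (hy1 : y ≠ 1) (hyz : y ≠ zZ)
    (hconj : ∀ g ∈ S4 P, g * y * g⁻¹ = y ∨ g * y * g⁻¹ = zZ * y) : y = eE ∨ y = zZ * eE := by
  have hne : b ≠ 1 ∧ b ≠ -1 := by
    have h11 : (1 : SL2) ≠ -1 := by
      intro h
      have := congr_fun₂ (congrArg Subtype.val h) 0 0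
      simp at this
      exact h2 (by linear_combination this)
    constructor <;> intro h <;> rw [h] at hb <;> simp at hb <;> exact h11 hb
  obtain ⟨x, hx, hx', rfl | rfl⟩ := hy
  · have hs := hconj _ (sS_mem P)
    rw [sS_conj, zZ, ← map_mul] at hs
    obtain ⟨ε, hε, he⟩ : ∃ ε : SL2, (ε = 1 ∨ ε = -1) ∧ x.2 = ε * x.1 := by
      rcases hs with h | h <;> have h' := congrArg Prod.fst (bk_injective h) <;>
        simp only [Prod.fst_swap, Prod.fst_mul] at h'
      · exact ⟨1, Or.inl rfl, by rw [one_mul]; exact h'⟩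
      · exact ⟨-1, Or.inr rfl, h'⟩
    have hcen : ∀ c ∈ (P : Subgroup SL2), c * x.1 = x.1 * c := by
      intro c hc
      have h := hconj _ (bk_mem P (x := (c, 1)) hc (one_mem _))
      rw [← map_inv, ← map_mul, ← map_mul, zZ, ← map_mul] at h
      rcases h with h | h <;> have h' := bk_injective h
      · have := congrArg Prod.fst h'
        simpa [mul_inv_eq_iff_eq_mul] using this
      · exfalso
        have := congrArg Prod.snd h'
        simp at this
        have h0 := congr_fun₂ (congrArg Subtype.val this) 0 0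
        have h1 := congr_fun₂ (congrArg Subtype.val this) 0 1
        simp at h0 h1
        have e0 : x.2.1 0 0 = 0 :=
          (mul_eq_zero.1 (show (2 : F) * _ = 0 by linear_combination h0)).resolve_left h2
        have e1 : x.2.1 0 1 = 0 :=
          (mul_eq_zero.1 (show (2 : F) * _ = 0 by linear_combination h1)).resolve_left h2
        have hdet := x.2.2
        rw [det_fin_two, e0, e1] at hdet
        simp at hdet
    rcases CfsgLib.SL2.eq_one_or_neg_of_commute h2 hb hd hbd (hcen b hbP).symm (hcen d hdP).symm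
      with h | h <;> rcases hε with rfl | rfl <;> rw [h] at he <;>
      simp only [one_mul, neg_one_mul, neg_neg] at he
    · exact absurd (by rw [show x = 1 from Prod.ext h he, map_one]) hy1
    · exact Or.inr (by
        rw [show x = (1, -1) from Prod.ext h he, zZ, eE, ← map_mul]
        exact congrArg bk (Prod.ext (by simp) (by simp)))
    · exact absurd (by rw [show x = (-1, -1) from Prod.ext h he]; rfl) hyz
    · exact Or.inl (by rw [show x = (-1, 1) from Prod.ext h he]; rfl)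
  · exfalso
    have h := hconj _ (bk_mem P (x := (b, 1)) hbP (one_mem _))
    rw [← map_inv, show bk (b, (1 : SL2)) * (bk x * sS) * bk (b, (1 : SL2))⁻¹ =
      bk (b, (1 : SL2)) * bk x * (sS * bk (b, (1 : SL2))⁻¹) by group, sS_bk, ← map_mul, ← mul_assoc,
      ← map_mul, ← mul_assoc zZ, zZ, ← map_mul] at h
    rcases h with h | h <;> have h' := congrArg Prod.fst (bk_injective (mul_right_cancel h)) <;>
      simp at h'
    · exact hne.1 h'
    · exact hne.2 (mul_right_cancel (h'.trans (neg_one_mul x.1).symm))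

include h2 hbP hdP hb hd hbd in
/-- The normalizer of the image consists of monomial elements. -/
theorem normalizer_rep {g : PSp 2 F} (hg : g ∈ Subgroup.normalizer (SB P : Set (PSp 2 F))) :
    ∃ h : SpG, mk h = g ∧ (∀ y ∈ S4 P, h * y * h⁻¹ ∈ S4 P) ∧
      ∃ x, h = bk x ∨ h = bk x * sS := by
  obtain ⟨h, rfl⟩ := QuotientGroup.mk'_surjective _ g
  have hn : ∀ y ∈ S4 P, h * y * h⁻¹ ∈ S4 P := by
    intro y hy
    rw [← mk_mem_SB, map_mul, map_mul, map_inv]
    exact (Subgroup.mem_normalizer_iff.1 hg _).1 ⟨y, hy, rfl⟩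
  have hn' : ∀ y ∈ S4 P, h⁻¹ * y * h ∈ S4 P := by
    intro y hy
    rw [← mk_mem_SB, map_mul, map_mul, map_inv]
    exact (Subgroup.mem_normalizer_iff''.1 hg _).1 ⟨y, hy, rfl⟩
  refine ⟨h, rfl, hn, ?_⟩
  have hzc : ∀ k : SpG, zZ * k = k * zZ := fun k => (Subgroup.mem_center_iff.1 zZ_center k).symm
  have hy : h * eE * h⁻¹ = eE ∨ h * eE * h⁻¹ = zZ * eE := by
    refine eq_eE_of_normal P h2 hbP hdP hb hd hbd (hn _ (eE_mem P)) ?_ ?_ ?_
    · rw [ne_eq, conj_eq_one_iff]
      intro h1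
      have := congrArg Prod.fst (bk_injective (h1.trans (map_one bk).symm))
      have := congr_fun₂ (congrArg Subtype.val this) 0 0
      simp at this
      exact h2 (by linear_combination -this)
    · intro h1
      have h1' : eE = h⁻¹ * zZ * h := by rw [← h1]; group
      rw [mul_assoc, hzc, inv_mul_cancel_left] at h1'
      have := congrArg Prod.snd (bk_injective h1')
      have := congr_fun₂ (congrArg Subtype.val this) 0 0
      simp at this
      exact h2 (by linear_combination this)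
    · intro k hk
      obtain ⟨x, hx, hx', hk' | hk'⟩ := hn' k hk
      · refine Or.inl ?_
        calc k * (h * eE * h⁻¹) * k⁻¹ = h * ((h⁻¹ * k * h) * eE * (h⁻¹ * k * h)⁻¹) * h⁻¹ := by group
          _ = h * eE * h⁻¹ := by rw [hk', eE_commute_bk, mul_inv_cancel_right]
      · refine Or.inr ?_
        calc k * (h * eE * h⁻¹) * k⁻¹ = h * ((h⁻¹ * k * h) * eE * (h⁻¹ * k * h)⁻¹) * h⁻¹ := by group
          _ = h * (zZ * eE) * h⁻¹ := by
            rw [hk', show bk x * sS * eE * (bk x * sS)⁻¹ = bk x * (sS * eE * sS⁻¹) * (bk x)⁻¹ by group,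
              sS_eE, mul_inv_cancel_right, show bk x * (zZ * eE) = zZ * eE * bk x by
                rw [← mul_assoc, ← hzc, mul_assoc, eE_commute_bk, mul_assoc], mul_inv_cancel_right]
          _ = zZ * (h * eE * h⁻¹) := by rw [← mul_assoc h, ← hzc]; group
  rcases hy with he | he
  · obtain ⟨x, hx⟩ := exists_bk_of_commute h2 (mul_inv_eq_iff_eq_mul.1 he)
    exact ⟨x, Or.inl hx⟩
  · have he' := mul_inv_eq_iff_eq_mul.1 he
    obtain ⟨x, hx⟩ := exists_bk_of_commute (g := h * sS) h2 (by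
      rw [mul_assoc, sS_eE, show h * (zZ * eE * sS) = h * zZ * eE * sS by group, ← hzc, mul_assoc zZ h,
        he', show zZ * (zZ * eE * h) * sS = zZ * zZ * (eE * (h * sS)) by group,
        show (zZ : SpG) * zZ = 1 by
          rw [zZ, ← map_mul, show ((-1 : SL2), (-1 : SL2)) * (-1, -1) = 1 from
            Prod.ext (by simp) (by simp), map_one], one_mul])
    exact ⟨x, Or.inr (by rw [← hx, mul_assoc, sS_mul_self, mul_one])⟩

include h2 in
/-- Blocks normalizing the model normalize `Q`, with quotient in `Q`. -/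
theorem blocks_normalize {x : SL2 × SL2} (hn : ∀ y ∈ S4 P, bk x * y * (bk x)⁻¹ ∈ S4 P) :
    x.1 ∈ Subgroup.normalizer ((P : Subgroup SL2) : Set SL2) ∧
    x.2 ∈ Subgroup.normalizer ((P : Subgroup SL2) : Set SL2) ∧ x.1 * x.2⁻¹ ∈ (P : Subgroup SL2) := by
  refine ⟨Subgroup.mem_normalizer_fintype fun q hq => ?_,
    Subgroup.mem_normalizer_fintype fun q hq => ?_, ?_⟩
  · have h := hn _ (bk_mem P (x := (q, 1)) hq (one_mem _))
    rw [← map_inv, ← map_mul, ← map_mul, mem_bk_iff P h2] at h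
    exact h.1
  · have h := hn _ (bk_mem P (x := (1, q)) (one_mem _) hq)
    rw [← map_inv, ← map_mul, ← map_mul, mem_bk_iff P h2] at h
    exact h.2
  · have h := hn _ (sS_mem P)
    rw [← map_inv, mul_assoc, sS_bk, ← mul_assoc, ← map_mul, mem_bk_sS_iff P h2] at h
    exact h.1

include h2 hbP hdP hb hd hbd in
/-- A normalizing element of 2-power order modulo the centre lies in the model. -/
theorem mem_S4_of_two {h : SpG} (hn : ∀ y ∈ S4 P, h * y * h⁻¹ ∈ S4 P) {x : SL2 × SL2}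
    (hx : h = bk x ∨ h = bk x * sS) {m : ℕ} (hm : h ^ 2 ^ m = 1) : h ∈ S4 P := by
  have : Fact (Nat.Prime 2) := ⟨Nat.prime_two⟩
  have hz : IsPGroup 2 (Subgroup.zpowers h) := by
    rintro ⟨_, i, rfl⟩
    exact ⟨m, Subtype.ext (show (h ^ i) ^ 2 ^ m = 1 by
      rw [← _root_.zpow_natCast, ← _root_.zpow_mul, mul_comm, _root_.zpow_mul, _root_.zpow_natCast,
        hm, _root_.one_zpow])⟩
  have hW := hz.to_sup_of_normal_right' (isPGroup_S4 P)
    (Subgroup.zpowers_le.2 (Subgroup.mem_normalizer_fintype hn))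
  set W := Subgroup.zpowers h ⊔ S4 P
  have hhW : h ∈ W := Subgroup.mem_sup_left (Subgroup.mem_zpowers h)
  have hxW : bk x ∈ W := by
    rcases hx with e | e
    · exact e ▸ hhW
    · have := mul_mem hhW (Subgroup.mem_sup_right (sS_mem P) : (sS : SpG) ∈ W)
      rwa [e, mul_assoc, sS_mul_self, mul_one] at this
  have hxn : ∀ y ∈ S4 P, bk x * y * (bk x)⁻¹ ∈ S4 P := by
    intro y hy
    rcases hx with e | e
    · exact e ▸ hn y hy
    · have h' := hn (sS * y * sS⁻¹) (mul_mem (mul_mem (sS_mem P) hy) (inv_mem (sS_mem P)))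
      rwa [e, show bk x * sS * (sS * y * sS⁻¹) * (bk x * sS)⁻¹ =
        bk x * ((sS * sS) * y * (sS * sS)⁻¹) * (bk x)⁻¹ by group, sS_mul_self, inv_one, one_mul,
        mul_one] at h'
  obtain ⟨n, hn2⟩ := hW ⟨_, hxW⟩
  have hp : x ^ 2 ^ n = 1 := bk_injective (by rw [map_pow, map_one]; exact congrArg Subtype.val hn2)
  obtain ⟨h1, h2', -⟩ := blocks_normalize P h2 hxn
  have hbk := bk_mem P (x := x)
    (CfsgLib.SL2.mem_sylow_of_normalizes P h1 (congrArg Prod.fst hp))
    (CfsgLib.SL2.mem_sylow_of_normalizes P h2' (congrArg Prod.snd hp))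
  rcases hx with e | e
  · exact e ▸ hbk
  · exact e ▸ mul_mem hbk (sS_mem P)

include h2 hbP hdP hb hd hbd in
/-- The image of the model is a Sylow subgroup. -/
theorem exists_sylow : ∃ R : Sylow 2 (PSp 2 F), (R : Subgroup (PSp 2 F)) = SB P := by
  have : Fact (Nat.Prime 2) := ⟨Nat.prime_two⟩
  obtain ⟨R, hR⟩ := ((isPGroup_S4 P).map mk).exists_le_sylow
  refine ⟨R, le_antisymm (fun g hg => ?_) hR⟩
  by_contra hgQ
  set Q' := (SB P).subgroupOf (R : Subgroup (PSp 2 F))
  have hne : Q' < ⊤ :=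
    lt_top_iff_ne_top.2 fun h => hgQ (h ▸ Subgroup.mem_top (⟨g, hg⟩ : R.toSubgroup) :)
  have := R.isPGroup'.isNilpotent
  obtain ⟨r, hrn, hrQ⟩ := SetLike.exists_of_lt (normalizerCondition_of_isNilpotent Q' hne)
  have hrN : (r : PSp 2 F) ∈ Subgroup.normalizer (SB P : Set (PSp 2 F)) := by
    refine Subgroup.mem_normalizer_fintype fun y hy => ?_
    exact (Subgroup.mem_normalizer_iff.1 hrn ⟨y, hR hy⟩).1 hy
  obtain ⟨h, hhr, hn, x, hx⟩ := normalizer_rep P h2 hbP hdP hb hd hbd hrN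
  obtain ⟨m, hm⟩ := R.isPGroup' r
  have hm' : mk (h ^ 2 ^ m) = mk (1 : SpG) := by
    rw [map_pow, hhr, map_one]; exact congrArg Subtype.val hm
  have hm'' : h ^ 2 ^ (m + 1) = 1 := by
    rw [pow_succ, pow_mul]
    rcases mk_eq_mk.1 hm' with e | e <;> rw [e]
    · rw [one_pow]
    · rw [mul_one, zZ, ← map_pow, show ((-1 : SL2), (-1 : SL2)) ^ 2 = 1 from
        Prod.ext (by simp) (by simp), map_one]
  exact hrQ (show (r : PSp 2 F) ∈ SB P from hhr ▸ (mk_mem_SB P).2
    (mem_S4_of_two P h2 hbP hdP hb hd hbd hn hx hm''))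

include h2 in
/-- Square roots of `-1` are conjugate. -/
theorem exists_conj_sqrt {u v : SL2} (hu : u * u = -1) (hv : v * v = -1) :
    ∃ g : SL2, g * u * g⁻¹ = v :=
  CfsgLib.SL2.isConj_of_trace (CfsgLib.SL2.regular_of_mul_self h2 hu).nonScalar
    (CfsgLib.SL2.regular_of_mul_self h2 hv).nonScalar
    (by rw [CfsgLib.SL2.trace_eq_zero_of_mul_self h2 hu, CfsgLib.SL2.trace_eq_zero_of_mul_self h2 hv])
    (Or.inl (CfsgLib.SL2.regular_of_mul_self h2 hu))

include hodd h2 hbP hdP hb hd hbd in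
/-- Strongly closed subgroups of the image are trivial or everything. -/
theorem stronglyClosed (T : Subgroup (PSp 2 F)) (hT : T ≤ SB P)
    (hsc : ∀ g : PSp 2 F, ∀ x ∈ T, g * x * g⁻¹ ∈ SB P → g * x * g⁻¹ ∈ T) :
    T = ⊥ ∨ T = SB P := by
  classical
  refine or_iff_not_imp_left.2 fun hne => le_antisymm hT ?_
  set T2 := T.comap mk ⊓ S4 P with hT2
  have hcl : ∀ g : SpG, ∀ x ∈ T2, ∀ y ∈ S4 P, g * x = y * g → y ∈ T2 := by
    intro g x hx y hy he
    refine ⟨?_, hy⟩
    have e : mk g * mk x * (mk g)⁻¹ = mk y := by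
      rw [← map_inv, ← map_mul, ← map_mul, he, mul_inv_cancel_right]
    show mk y ∈ T
    rw [← e]
    exact hsc _ _ hx.1 (e ▸ ⟨y, hy, rfl⟩)
  have hzT : zZ ∈ T2 := ⟨by
    show mk zZ ∈ T
    rw [show mk (zZ : SpG) = 1 from (QuotientGroup.eq_one_iff _).2 zZ_center]
    exact one_mem _, zZ_mem P⟩
  -- a central element of the image inside `T`
  obtain ⟨y, hyT, hy1, hyz, hyc⟩ : ∃ y ∈ T2, y ≠ 1 ∧ y ≠ zZ ∧
      ∀ g ∈ S4 P, g * y * g⁻¹ = y ∨ g * y * g⁻¹ = zZ * y := by
    have : Fact (Nat.Prime 2) := ⟨Nat.prime_two⟩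
    have : Nontrivial T := (Subgroup.nontrivial_iff_ne_bot T).2 hne
    have hTp : IsPGroup 2 T := ((isPGroup_S4 P).map mk).to_le hT
    obtain ⟨i, hi0, hi⟩ := hTp.nontrivial_iff_card.1 this
    have hnorm : SB P ≤ Subgroup.normalizer (T : Set (PSp 2 F)) := by
      intro s hs
      refine Subgroup.mem_normalizer_fintype fun t ht => ?_
      exact hsc s t ht (mul_mem (mul_mem hs (hT ht)) (inv_mem hs))
    let act : MulDistribMulAction (SB P) T := MulDistribMulAction.compHom T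
      ((T.normalizerMonoidHom).comp (Subgroup.inclusion hnorm))
    have hSBp : IsPGroup 2 (SB P) := (isPGroup_S4 P).map mk
    obtain ⟨t, htfix, ht1⟩ := hSBp.exists_fixed_point_of_prime_dvd_card_of_fixed_point
      T (hi ▸ dvd_pow_self 2 hi0.ne') (a := (1 : T)) (fun s => smul_one s)
    obtain ⟨y, hy, hye⟩ := hT t.2
    have hyT : y ∈ T2 := ⟨show mk y ∈ T by rw [hye]; exact t.2, hy⟩
    have hy1 : mk y ≠ 1 := fun h => ht1 (Subtype.ext (by rw [← hye, h]; rfl))
    refine ⟨y, hyT, fun h => hy1 (by rw [h, map_one]), fun h => hy1 (by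
      rw [h]; exact (QuotientGroup.eq_one_iff _).2 zZ_center), fun g hg => mk_eq_mk.1 ?_⟩
    have h := congrArg Subtype.val (htfix ⟨mk g, ⟨g, hg, rfl⟩⟩)
    change mk g * (t : PSp 2 F) * (mk g)⁻¹ = (t : PSp 2 F) at h
    rw [map_mul, map_mul, map_inv, hye]
    exact h
  have heT : eE ∈ T2 := by
    rcases eq_eE_of_normal P h2 hbP hdP hb hd hbd hyT.2 hy1 hyz hyc with rfl | rfl
    · exact hyT
    · have := mul_mem hzT hyT
      rwa [← mul_assoc, show (zZ : SpG) * zZ = 1 by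
          rw [zZ, ← map_mul, show ((-1 : SL2), (-1 : SL2)) * (-1, -1) = 1 from
            Prod.ext (by simp) (by simp), map_one], one_mul] at this
  -- the swap is conjugate to `diag(-1, 1)`
  have hsT : sS ∈ T2 := by
    obtain ⟨g, hg⟩ : ∃ g : SpG, g * eE = sS * g := by
      have hmem : (fromBlocks !![1, 1; -1, 1] 0 0 ((2 : F)⁻¹ • !![1, 1; -1, 1]) : Matrix I4 I4 F) ∈
          symplecticGroup (Fin 2) F := by
        rw [SymplecticGroup.mem_iff]
        ext i j
        rcases i with i | i <;> rcases j with j | j <;> fin_cases i <;> fin_cases j <;>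
          simp [J, Matrix.mul_apply, Fin.sum_univ_two, Fintype.sum_sum_type] <;> field_simp <;> ring
      refine ⟨⟨_, hmem⟩, Subtype.ext ?_⟩
      show _ * blk ((-1 : SL2) : Matrix (Fin 2) (Fin 2) F) ((1 : SL2) : Matrix (Fin 2) (Fin 2) F) =
        sM * _
      ext i j
      rcases i with i | i <;> rcases j with j | j <;> fin_cases i <;> fin_cases j <;>
        simp [blk, sM, Matrix.mul_apply, Fin.sum_univ_two, Fintype.sum_sum_type]
    exact hcl g _ heT _ (sS_mem P) hg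
  have hc1 : ∀ c ∈ (P : Subgroup SL2), bk (c, c⁻¹) ∈ T2 := by
    intro c hc
    have hcS := bk_mem P (x := (c, 1)) hc (one_mem _)
    have h := hcl (bk (c, 1)) _ hsT (bk (c, 1) * sS * (bk (c, 1))⁻¹)
      (mul_mem (mul_mem hcS (sS_mem P)) (inv_mem hcS)) (by rw [inv_mul_cancel_right])
    have := mul_mem h hsT
    rwa [← map_inv, mul_assoc (bk _) sS, sS_bk, ← mul_assoc, ← map_mul, mul_assoc, sS_mul_self,
      mul_one, show ((c, 1) : SL2 × SL2) * (c, 1)⁻¹.swap = (c, c⁻¹) from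
        Prod.ext (by simp) (by simp)] at this
  -- all pairs of square roots of `-1`
  have hpair : ∀ u ∈ (P : Subgroup SL2), ∀ v ∈ (P : Subgroup SL2), u * u = -1 → v * v = -1 →
      bk (u, v) ∈ T2 := by
    intro u hu v hv hu2 hv2
    obtain ⟨g, hg⟩ := exists_conj_sqrt h2
      (show u⁻¹ * u⁻¹ = -1 by rw [← _root_.mul_inv_rev, hu2, inv_neg, inv_one]) hv2
    refine hcl (bk (1, g)) _ (hc1 u hu) _ (bk_mem P hu hv) ?_
    rw [← map_mul, ← map_mul]
    refine congrArg _ (Prod.ext ?_ ?_)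
    · simp
    · exact mul_inv_eq_iff_eq_mul.1 hg
  have hbdP := mul_mem hbP hdP
  have hfirst : ∀ c ∈ (P : Subgroup SL2), bk (c, 1) ∈ T2 := by
    have key : (P : Subgroup SL2) ≤ T2.comap ((bk).comp (MonoidHom.inl SL2 SL2)) := by
      refine CfsgLib.GL2.le_of_order_four hodd P _ fun z hz hz2 => ?_
      show bk (z, (1 : SL2)) ∈ T2
      have hbdinv : (b * d)⁻¹ * (b * d)⁻¹ = -1 := by
        rw [← _root_.mul_inv_rev, hbd, inv_neg, inv_one]
      have hzinv : z⁻¹ * z⁻¹ = -1 := by rw [← _root_.mul_inv_rev, hz2, inv_neg, inv_one]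
      have := mul_mem (mul_mem (hpair z hz b hbP hz2 hb) (hpair _ (inv_mem hz) d hdP hzinv hd))
        (hpair z hz _ (inv_mem hbdP) hz2 hbdinv)
      rwa [← map_mul, ← map_mul, show ((z, b) : SL2 × SL2) * (z⁻¹, d) * (z, (b * d)⁻¹) = (z, 1) from
        Prod.ext (by simp) (by simp)] at this
    exact fun c hc => key hc
  rintro _ ⟨g, ⟨x, hx, hx', hg⟩, rfl⟩
  have hsec : bk (1, x.2) ∈ T2 := by
    rw [show ((1, x.2) : SL2 × SL2) = ((x.2, 1) : SL2 × SL2).swap from rfl, ← sS_conj]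
    exact mul_mem (mul_mem hsT (hfirst _ hx')) (inv_mem hsT)
  have hx2 : bk x ∈ T2 := by
    have := mul_mem (hfirst _ hx) hsec
    rwa [← map_mul, Prod.mk_mul_mk, mul_one, one_mul] at this
  rcases hg with rfl | rfl
  · exact hx2.1
  · exact (mul_mem hx2 hsT).1

end CfsgLib.Fusion.SympFour
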