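import Mathlib
import Cfsg.Agent.Lib.Fusion.FunctorTransfer
import Cfsg.Agent.Lib.Conjugacy.TransferForms
import Cfsg.Agent.S1978
import Cfsg.Agent.S1991

/-!
Control of transfer by functors in fusion systems, and an index-`p` quotient for `p ≥ 5`.
-/

set_option autoImplicit false

namespace CfsgLib.Fusion

open Cfsg Cfsg.FusionSystem
open scoped commutatorElement

universe u

variable {p : ℕ} [Fact p.Prime] (W : ∀ (Q : Type u) [Group Q], Subgroup Q)
  (hW1 : ∀ (Q : Type u) [Group Q] [Finite Q], IsPGroup p Q → Nontrivial Q → W Q ≠ ⊥)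
  (hW2 : ∀ (Q R : Type u) [Group Q] [Group R] [Finite Q], IsPGroup p Q → ∀ φ : Q ≃* R,
    (W Q).map φ.toMonoidHom = W R)

include hW1 hW2

/-- The local focal condition gives control of transfer in all finite groups. -/
theorem ok_of_local (hT : ∀ (G : Type u) [Group G] [Finite G] (P : Sylow p G),
      Subgroup.centralizer ((Cfsg.pCore p G : Subgroup G) : Set G) ≤ Cfsg.pCore p G →
      Cfsg.pCore p G ⊓ commutator G = Cfsg.pCore p G ⊓
        (commutator ↥(Subgroup.normalizer (((W ↥(P : Subgroup G)).map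
            (P : Subgroup G).subtype : Subgroup G) : Set G))).map
          (Subgroup.normalizer (((W ↥(P : Subgroup G)).map
            (P : Subgroup G).subtype : Subgroup G) : Set G)).subtype)
    (G : Type u) [Group G] [Finite G] : CfsgLib.Conjugacy.Ok p {W} G := by
  open CfsgLib.Conjugacy in
  have h𝓦 : ∀ V ∈ ({W} : Set (∀ (Q : Type u) [Group Q], Subgroup Q)),
      Cfsg.IsCharPFunctor.{u} p V := by
    rintro V rfl
    exact ⟨hW1, hW2⟩
  refine CfsgLib.Conjugacy.ok_of_core (G₀ := G) h𝓦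
    (fun X _ _ _ T => CfsgLib.Conjugacy.derived_le_focalJoin h𝓦 ⟨W, rfl⟩ T.2)
    (fun X _ _ _ _ hc T => ?_) (CfsgLib.Conjugacy.Sect.refl G)
  haveI := CfsgLib.Fitting.pCore_normal (G := X) p
  intro x hx
  have hO : x ∈ Cfsg.pCore p X := Subgroup.commutator_le_left (Cfsg.pCore p X) ⊤ hx
  have h2 : x ∈ Cfsg.pCore p X ⊓ commutator X := ⟨hO, Subgroup.commutator_mono le_top le_top hx⟩
  rw [hT X T hc, Subgroup.map_subtype_commutator] at h2
  exact CfsgLib.Conjugacy.le_focalJoin (Set.mem_singleton W) _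
    ⟨IsPGroup.le_sylow_of_normal (CfsgLib.Fitting.pCore_isPGroup p) T hO, h2.2⟩

variable (hOk : ∀ (G : Type u) [Group G] [Finite G], CfsgLib.Conjugacy.Ok p {W} G)

include hOk

/-- The normalizer system of `W(S)` has the same focal subgroup as the system. -/
theorem focal_eq_of_functor {Ω : Type u} [Group Ω] {S : Subgroup Ω} [Finite S]
    (hS : IsPGroup p S) {F : FusionSystem S} (hF : F.IsSaturated p)
    {N : FusionSystem (normalizerIn S (functorOf W S))}
    (hN : F.IsNormalizerSystem (functorOf W S) N) : N.focalSubgroup = F.focalSubgroup := by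
  refine le_antisymm ((Subgroup.closure_le _).2 ?_) ((Subgroup.closure_le _).2 ?_)
  · rintro _ ⟨P, φ, x, hφ, rfl⟩
    rw [hN] at hφ
    exact Subgroup.subset_closure ⟨P, φ, x, hφ.1, rfl⟩
  · rintro _ ⟨P, φ, x, hφ, rfl⟩
    have hUS : functorOf W S ≤ S := functorOf_le W S
    have hUn : normalizerIn S (functorOf W S) = S := inf_eq_left.2 fun s hs =>
      normalizer_le_functorOf W hW2 le_rfl hS (Subgroup.le_normalizer hs)
    have h := moves_of_functor W hW1 hW2 hOk _ Ω S F ⊥ rfl hS hF (isCentral_bot F)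
      N.focalSubgroup bot_le (fun A g hg hle him y hy => ?_) P _ (isMap_homFun hφ) x x.2
    · rwa [homFun_coe] at h
    · rw [relW_bot W hW2 hS] at hle him
      have := finite_of_le (S := S) (P := normalizerIn S (functorOf W S)) inf_le_left
      exact inv_mul_mem_focal ((isMap_normalizerSystem_iff hN).2
        ⟨hUn.symm ▸ hg.le, fun z hz => hUn.symm ▸ hg.mem hz, g, by rwa [sup_eq_left.2 hle],
          fun _ _ => rfl, him⟩) hy

omit hW1 hW2 hOk in
/-- For `p ≥ 5` a system with a `p`-group as automizer of `S` has a proper focal subgroup. -/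
theorem focal_lt_of_autGroup {Ω : Type u} [Group Ω] {S : Subgroup Ω} [Finite S] (hp : 5 ≤ p)
    (hS : IsPGroup p S) {F : FusionSystem S} (hF : F.IsSaturated p) (hS1 : S ≠ ⊥)
    (haut : IsPGroup p (F.autGroup S)) : F.focalSubgroup < S := by
  have hK := CfsgLib.Conjugacy.isCharPFunctor_kInfLower (p := p)
  let K : ∀ (Q : Type u) [Group Q], Subgroup Q := Cfsg.kInfLower
  have hUS : functorOf K S ≤ S := functorOf_le K S
  have hUn : normalizerIn S (functorOf K S) = S := inf_eq_left.2 fun s hs =>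
    normalizer_le_functorOf K hK.2 le_rfl hS (Subgroup.le_normalizer hs)
  obtain ⟨N, hN⟩ : ∃ N, F.IsNormalizerSystem (functorOf K S) N :=
    ⟨normalizerSystem F _ hUS, fun _ => rfl⟩
  have hQn : F.IsFullyNormalized (functorOf K S) := ⟨hUS, fun R _ => by
    rw [hUn]; exact Subgroup.card_le_of_le inf_le_left⟩
  have hCU : centralizerIn S (functorOf K S) ≤ functorOf K S := fun x hx => by
    refine ⟨⟨x, hx.1⟩, (Cfsg.Agent.S1978.result hS).1 fun y hy => Subtype.ext ?_, rfl⟩
    exact hx.2 (y : Ω) ⟨y, hy, rfl⟩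
  rw [← focal_eq_of_functor K hK.1 hK.2
    (fun G _ _ => CfsgLib.Conjugacy.ok_kInfLower hp G) hS hF hN]
  have key : ∀ T : Subgroup Ω, T = S → ∀ E : FusionSystem T, E.IsSaturated p →
      E.IsNormal (functorOf K S) → IsPGroup p (E.autGroup T) → E.focalSubgroup < S := by
    rintro T rfl E hE hEn hEa
    refine lt_of_le_of_ne focal_le fun heq => ?_
    have hcon : E.IsConstrained p := ⟨hE, _, hEn, isCentric_of_fullyCentralized hS hE
      (isFullyCentralized_of_isFullyNormalized hS hE ⟨hUS, fun R _ => by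
        rw [hUn]; exact Subgroup.card_le_of_le inf_le_left⟩) hCU⟩
    obtain ⟨G, _, ι, hG⟩ := exists_model hS hcon
    have : Finite G := hG.1
    obtain ⟨hinj, hiff⟩ := hG.2.1
    obtain ⟨P, hP⟩ := hG.2.2.1
    have hfoc : E.focalSubgroup ≤ ((commutator G).comap ι).map T.subtype := by
      refine (Subgroup.closure_le _).2 ?_
      rintro _ ⟨R, φ, y, hφ, rfl⟩
      obtain ⟨γ, hγ⟩ := (hiff R (E.le_of_mem hφ).1 φ (E.le_of_mem hφ).2).1 hφ
      refine ⟨⟨_, (E.le_of_mem hφ).1 y.2⟩⁻¹ * ⟨φ y, (E.le_of_mem hφ).2 y⟩, ?_, rfl⟩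
      rw [SetLike.mem_coe, Subgroup.mem_comap, map_mul, map_inv, hγ,
        show (ι ⟨(y : Ω), (E.le_of_mem hφ).1 y.2⟩)⁻¹ *
          (γ * ι ⟨(y : Ω), (E.le_of_mem hφ).1 y.2⟩ * γ⁻¹) =
          ⁅(ι ⟨(y : Ω), (E.le_of_mem hφ).1 y.2⟩)⁻¹, γ⁆ by rw [commutatorElement_def]; group]
      exact Subgroup.commutator_mem_commutator (Subgroup.mem_top _) (Subgroup.mem_top _)
    have hPG : (P : Subgroup G) ≤ commutator G := by
      rw [hP]
      rintro _ ⟨t, rfl⟩
      obtain ⟨u, hu, e⟩ := hfoc (heq.ge t.2)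
      obtain rfl : u = t := Subtype.ext e
      exact hu
    have hP1 : (P : Subgroup G) ≠ ⊥ := fun h => hS1 ((Subgroup.eq_bot_iff_forall _).2 fun x hx => by
      have h1 : ι ⟨x, hx⟩ ∈ (⊥ : Subgroup G) := h ▸ hP.ge ⟨_, rfl⟩
      exact congrArg Subtype.val (hinj (h1.trans (map_one ι).symm)))
    obtain ⟨N₀, hN₀n, hN₀i⟩ := Cfsg.Agent.S1991.result hp P hP1 fun g hg hgo => by
      -- the action of `g` on the Sylow subgroup is trivial
      have hval : ∀ t : T, ∃ t' : T, ι t' = g * ι t * g⁻¹ := fun t => by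
        have h1 := (Subgroup.mem_normalizer_iff.1 hg (ι t)).1 (hP.ge ⟨t, rfl⟩)
        rw [hP] at h1
        exact h1
      have hpow : ∀ k : ℕ, ∀ t : T, ∃ t' : T, ι t' = g ^ k * ι t * (g ^ k)⁻¹ := by
        intro k
        induction k with
        | zero => exact fun t => ⟨t, by simp⟩
        | succ k ih =>
          intro t
          obtain ⟨t₁, ht₁⟩ := ih t
          obtain ⟨t₂, ht₂⟩ := hval t₁
          exact ⟨t₂, by rw [ht₂, ht₁, pow_succ']; group⟩
      choose act hact using hval
      let φ : T →* Ω := MonoidHom.mk' (fun t => (act t : Ω)) fun a b => by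
        rw [← Subgroup.coe_mul]
        congr 1
        refine hinj ?_
        rw [map_mul, hact, hact, hact, map_mul]
        group
      have hφ : φ ∈ E.Hom T := (hiff T le_rfl φ fun t => (act t).2).2 ⟨g, hact⟩
      obtain ⟨R, hR⟩ := (isMap_homFun hφ).exists_iso
      obtain rfl : R = T := Subgroup.eq_of_le_of_card_ge hR.le_right hR.card_eq.ge
      obtain ⟨a, ha, hav⟩ := exists_mem_autGroup hR
      have hav' : ∀ t : R, ι (a t) = g * ι t * g⁻¹ := fun t => by
        rw [← hact]
        congr 1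
        exact Subtype.ext (by rw [hav, homFun_coe]; rfl)
      have hak : ∀ k : ℕ, ∀ t : R, ι ((a ^ k) t) = g ^ k * ι t * (g ^ k)⁻¹ := by
        intro k
        induction k with
        | zero => intro t; simp
        | succ k ih =>
          intro t
          rw [pow_succ', MulAut.mul_apply, hav', ih, pow_succ']
          group
      have h1 : a ^ orderOf g = 1 := MulEquiv.ext fun t => hinj (by
        rw [hak, pow_orderOf_eq_one]; simp)
      obtain ⟨b, hb⟩ := hEa ⟨a, ha⟩
      have ha1 : a = 1 := by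
        rw [← pow_one a, ← (Nat.Coprime.pow_right b hgo).gcd_eq_one]
        exact pow_gcd_eq_one.2 ⟨h1, congrArg Subtype.val hb⟩
      intro z hz
      rw [hP] at hz
      obtain ⟨t, rfl⟩ := hz
      have h2 := hav' t
      rw [ha1, MulAut.one_apply] at h2
      calc ι t * g = g * ι t * g⁻¹ * g := by rw [← h2]
        _ = g * ι t := by group
    haveI := hN₀n
    have hab : commutator G ≤ N₀ := by
      refine Subgroup.commutator_le.2 fun x _ y _ => ?_
      have hcard : Nat.card (G ⧸ N₀) = p := hN₀i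
      have hcyc : IsCyclic (G ⧸ N₀) := isCyclic_of_prime_card hcard
      refine (QuotientGroup.eq_one_iff _).1 ?_
      show QuotientGroup.mk' N₀ ⁅x, y⁆ = 1
      rw [map_commutatorElement, commutatorElement_eq_one_iff_mul_comm]
      let _ := hcyc.commGroup
      exact mul_comm _ _
    have hdvd := Subgroup.index_dvd_of_le (hPG.trans hab)
    rw [hN₀i] at hdvd
    exact P.not_dvd_index hdvd
  refine key _ hUn N (isSaturated_normalizerSystem hS hF hQn hN)
    (isNormal_normalizerSystem hUS hN) ?_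
  have hkey : ∀ T : Subgroup Ω, T = S → ∀ E : FusionSystem T,
      (∀ P, E.Hom P ⊆ F.Hom P) → IsPGroup p (E.autGroup T) := by
    rintro T rfl E hsub
    exact haut.to_le (Subgroup.closure_mono fun a ha => hsub T ha)
  exact hkey _ hUn N fun P φ hφ => by rw [hN] at hφ; exact hφ.1

end CfsgLib.Fusion
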