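import Cfsg.Agent.Lib.Fusion.UnitaryThreeTwo

/-!
The two congruence classes of `q` modulo 4 for `PSU_3(q)`: orthonormal and hyperbolic monomial
models, and generation by fusion.
-/

set_option autoImplicit false

namespace CfsgLib.Fusion.UnitaryThree

open Matrix Cfsg CfsgLib.GL2 CfsgLib.ClassicalAut
open Cfsg.Agent.S5318 (i3 i3_dg g12 g12_conj)

variable {F : Type*} [Field F] [Finite F] {q : ℕ} (K : Unitary.Conj F q)

include K in
theorem exists_sqrt_neg_one (hq : Odd q) : ∃ i : Fˣ, (i : F) * i = -1 := by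
  cases nonempty_fintype F
  have hc : Fintype.card F = q ^ 2 := by rw [← Nat.card_eq_fintype_card, K.card]
  obtain ⟨r, hr⟩ : IsSquare (-1 : F) := by
    rw [FiniteField.isSquare_neg_one_iff, hc]
    obtain ⟨j, rfl⟩ := hq
    rw [show (2 * j + 1) ^ 2 = 4 * (j * j + j) + 1 by ring]
    omega
  exact ⟨Units.mk0 r (by rintro rfl; simp at hr), hr.symm⟩

theorem dP_one (x : Fˣ × Fˣ) : dP (1 : GL (Fin 2) F) x = dg x := by simp [dP_apply]

theorem wP_one : wP (1 : GL (Fin 2) F) = wS := by simp [wP]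

include K in
/-- `q ≡ 3 (mod 4)`. -/
theorem case_three (h2 : (2 : F) ≠ 0) (hq : q % 4 = 3) (S : Sylow 2 (PSU 3 F q)) :
    (groupFusionSystem (S : Subgroup (PSU 3 F q))).IsSimple 2 := by
  obtain ⟨i, hi⟩ := exists_sqrt_neg_one K (Nat.odd_iff.2 (by omega))
  have hi4 : (i : F) ^ 4 = 1 := by linear_combination ((i : F) * i - 1) * hi
  have hσi : K.bar (i : F) * i = 1 := by
    rw [K.bar_apply, ← pow_succ, show q + 1 = 4 * ((q + 1) / 4) by omega, pow_mul, hi4, one_pow]
  have hd : (i, (1 : Fˣ)) ∈ D2 K.bar K.bar_bar (1 : GL (Fin 2) F) := by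
    refine ⟨?_, 2, ?_⟩
    · rw [← dP_apply, dP_one]
      exact dg_mem_U2 hσi (by simp)
    · refine Prod.ext (Units.ext ?_) (Units.ext ?_)
      · simpa using hi4
      · simp
  have hM : MonoData K.bar K.bar_bar (1 : GL (Fin 2) F) := by
    refine ⟨wP_one (F := F) ▸ wS_mem_U2, (i, 1), hd, fun h => h2 ?_⟩
    have := congrArg Units.val h
    simp [pow_two, hi] at this
    linear_combination -this
  refine isSimple_of K hM h2 (fun T2 hle _ hw hU h12 => ?_) S
  have key : ∀ u : Fˣ, (u, (1 : Fˣ)) ∈ D2 K.bar K.bar_bar (1 : GL (Fin 2) F) → dg (u, 1) ∈ T2 := by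
    intro u hu
    have hd' := hM.dP_mem hu
    rw [dP_one] at hd'
    have hw' : (wS : GL (Fin 2) F) ∈ hM.S := by simpa [wP_one] using hM.wP_mem
    rw [wP_one] at hw
    have h1 := hU _ (hM.le_U2 hd') _ hw _
      (mul_mem (mul_mem hd' hw') (inv_mem hd')) rfl
    have h1' : dg (u, u⁻¹) ∈ T2 := by
      have e : dg (u, (1 : Fˣ)) * wS * (dg (u, (1 : Fˣ)))⁻¹ * wS = dg (u, u⁻¹) := by
        rw [mul_assoc _ wS, ← map_inv, Prod.inv_mk, inv_one, mul_assoc, mul_assoc, show
          dg (u⁻¹, (1 : Fˣ)) * wS = wS * dg ((1 : Fˣ), u⁻¹) by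
            rw [← wS_dg (1 : Fˣ) u⁻¹, inv_mul_cancel_right],
          ← mul_assoc wS, wS_mul_self, one_mul, ← map_mul, Prod.mk_mul_mk, mul_one, one_mul]
      exact e ▸ mul_mem h1 hw
    refine h12 _ h1' _ hd' ?_
    apply Subtype.ext
    rw [Matrix.SpecialLinearGroup.coe_mul, Matrix.SpecialLinearGroup.coe_mul, i3_dg, i3_dg,
      g12_conj]
    congr 2
    simp
  have hcomp : ∀ x ∈ D2 K.bar K.bar_bar (1 : GL (Fin 2) F), dg x ∈ T2 := by
    rintro ⟨u, v⟩ ⟨hx, m, hm⟩
    rw [← dP_apply, dP_one, mem_U2] at hx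
    have e0 := congr_fun₂ hx 0 0
    have e1 := congr_fun₂ hx 1 1
    simp [dg_val, Matrix.mul_apply, Fin.sum_univ_two] at e0 e1
    have hmu : u ^ 2 ^ m = 1 := congrArg Prod.fst hm
    have hmv : v ^ 2 ^ m = 1 := congrArg Prod.snd hm
    have hu : (u, (1 : Fˣ)) ∈ D2 K.bar K.bar_bar (1 : GL (Fin 2) F) := by
      refine ⟨?_, m, by rw [Prod.pow_mk, hmu, one_pow]; rfl⟩
      rw [← dP_apply, dP_one]; exact dg_mem_U2 e0 (by simp)
    have hv : (v, (1 : Fˣ)) ∈ D2 K.bar K.bar_bar (1 : GL (Fin 2) F) := by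
      refine ⟨?_, m, by rw [Prod.pow_mk, hmv, one_pow]; rfl⟩
      rw [← dP_apply, dP_one]; exact dg_mem_U2 e1 (by simp)
    have h1 := key u hu
    have h3 := key v hv
    rw [wP_one] at hw
    have h2' : dg ((1 : Fˣ), v) ∈ T2 := by
      rw [← wS_dg v 1]; exact mul_mem (mul_mem hw h3) (inv_mem hw)
    have := mul_mem h1 h2'
    rwa [← map_mul, Prod.mk_mul_mk, mul_one, one_mul] at this
  rintro _ ⟨x, hx, rfl | rfl⟩
  · rw [dP_one]; exact hcomp x hx
  · rw [dP_one]; exact mul_mem (hcomp x hx) hw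

include K in
/-- `q ≡ 1 (mod 4)`. -/
theorem case_one (h2 : (2 : F) ≠ 0) (hq : q % 4 = 1) (S : Sylow 2 (PSU 3 F q)) :
    (groupFusionSystem (S : Subgroup (PSU 3 F q))).IsSimple 2 := by
  obtain ⟨l, ⟨a, hla⟩, hl⟩ := exists_twoGen (F := F)
  have hl2 : l ^ 2 ^ a = 1 := hla ▸ pow_orderOf_eq_one l
  set σ := K.bar
  have hq1 : 1 ≤ q := by omega
  have hq2 := K.two_le
  -- the action of `σ` on `l`
  have hall : l ^ (q ^ 2 - 1) = 1 := by
    rw [← K.card, ← Nat.card_units]; exact pow_card_eq_one'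
  have hy2 : (l ^ (q - 1)) ^ 2 = 1 := by
    have hd1 := orderOf_dvd_of_pow_eq_one (show (l ^ (q - 1)) ^ (q + 1) = 1 by
      rw [← pow_mul, ← Nat.mul_comm (q + 1), ← Nat.sq_sub_sq, one_pow, hall])
    obtain ⟨e, -, he⟩ := (Nat.dvd_prime_pow Nat.prime_two).1
      (orderOf_dvd_of_pow_eq_one (show (l ^ (q - 1)) ^ 2 ^ a = 1 by
        rw [← pow_mul, mul_comm, pow_mul, hl2, one_pow]))
    rw [← orderOf_dvd_iff_pow_eq_one, he]
    rw [he] at hd1
    rcases Nat.lt_or_ge e 2 with h | h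
    · interval_cases e <;> norm_num
    · exfalso
      have : 4 ∣ q + 1 := dvd_trans (pow_dvd_pow 2 h) hd1
      omega
  have hσl : σ (l : F) = ((l ^ (q - 1) : Fˣ) : F) * l := by
    rw [K.bar_apply, Units.val_pow_eq_pow_val, ← pow_succ, Nat.sub_add_cancel hq1]
  have hy1 : l ^ (q - 1) ≠ 1 := by
    intro hy
    rw [hy, Units.val_one, one_mul] at hσl
    obtain ⟨ν, hν0, hν⟩ := (Unitary.space (n := 2) K).skew_ne
    change (1 : F) * ν + K.bar ν = 0 at hν
    obtain ⟨c, o, ho, hco⟩ := Nat.exists_eq_pow_mul_and_not_dvd (show q - 1 ≠ 0 by omega) 2 (by norm_num)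
    set u : Fˣ := Units.mk0 ν hν0 ^ o
    have hσν : K.bar ν = -ν := by linear_combination hν
    have hu : K.bar (u : F) = -(u : F) := by
      simp only [u, Units.val_pow_eq_pow_val, Units.val_mk0, map_pow, hσν]
      rw [Odd.neg_pow (Nat.odd_iff.2 (Nat.two_dvd_ne_zero.1 ho))]
    have hνq : ν ^ (q - 1) = -1 := by
      have : ν ^ (q - 1) * ν = -1 * ν := by
        rw [← pow_succ, Nat.sub_add_cancel hq1, ← K.bar_apply, hσν, neg_one_mul]
      exact mul_right_cancel₀ hν0 this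
    have hu2 : u ^ 2 ^ (c + 1) = 1 := by
      apply Units.ext
      simp only [u, Units.val_pow_eq_pow_val, Units.val_mk0, Units.val_one]
      rw [← pow_mul, show o * 2 ^ (c + 1) = (q - 1) * 2 by rw [hco]; ring, pow_mul, hνq]
      norm_num
    obtain ⟨k, hk⟩ := Subgroup.mem_zpowers_iff.1 (hl u ⟨c + 1, hu2⟩)
    have hfix : K.bar (u : F) = u := by
      rw [← hk, Units.val_zpow_eq_zpow_val, map_zpow₀, hσl]
    refine h2 ?_
    have : (2 : F) * u = 0 := by linear_combination hu - hfix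
    exact (mul_eq_zero.1 this).resolve_right u.ne_zero
  have hσl' : σ (l : F) = -(l : F) := by
    rw [hσl]
    have e : ((l ^ (q - 1) : Fˣ) : F) * ((l ^ (q - 1) : Fˣ) : F) = 1 := by
      rw [← Units.val_mul, ← pow_two, hy2, Units.val_one]
    rcases mul_self_eq_one_iff.1 e with h | h
    · exact absurd (Units.ext h) hy1
    · rw [h, neg_one_mul]
  have hl4 : l ^ 4 ≠ 1 := by
    intro h
    apply hy1
    rw [show q - 1 = 4 * ((q - 1) / 4) by omega, pow_mul, h, one_pow]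
  -- the hyperbolic basis
  obtain ⟨c, hc⟩ := K.exists_norm (-1) (by rw [map_neg, map_one])
  have hc0 : c ≠ 0 := fun h => by rw [h, zero_mul] at hc; exact neg_ne_zero.2 one_ne_zero hc.symm
  set Pm : Matrix (Fin 2) (Fin 2) F := !![1, 1 / 2; c, -c / 2] with hPm
  have hPdet : Pm.det ≠ 0 := by
    rw [hPm, det_fin_two_of]
    rw [show (1 : F) * (-c / 2) - 1 / 2 * c = -c by field_simp; ring]
    exact neg_ne_zero.2 hc0
  obtain ⟨P, hP⟩ := (Matrix.isUnit_iff_isUnit_det Pm).2 (isUnit_iff_ne_zero.2 hPdet)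
  set J : Matrix (Fin 2) (Fin 2) F := !![0, 1; 1, 0] with hJ
  have hJP : (Pm.map σ)ᵀ * Pm = J := by
    have hh : σ (1 / 2 : F) = 1 / 2 := by rw [map_div₀, map_one, map_ofNat]
    have hc' : σ c * c = -1 := by rw [mul_comm]; exact hc
    ext i j
    fin_cases i <;> fin_cases j <;>
      simp [Pm, J, Matrix.mul_apply, Fin.sum_univ_two, map_div₀, map_ofNat] <;> field_simp <;>
      first | ring1 | linear_combination hc' | linear_combination -hc' | linear_combination 2 * hc' | linear_combination -2 * hc'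
  have hmem : ∀ B : GL (Fin 2) F, P * B * P⁻¹ ∈ U2 σ K.bar_bar ↔
      ((B : Matrix (Fin 2) (Fin 2) F).map σ)ᵀ * J * (B : Matrix (Fin 2) (Fin 2) F) = J := by
    intro B
    set A := P * B * P⁻¹
    have eA : (A : Matrix (Fin 2) (Fin 2) F) * Pm = Pm * B := by
      rw [← hP, ← Units.val_mul, ← Units.val_mul]
      exact congrArg _ (by simp only [A]; group)
    have e1 : ((B : Matrix (Fin 2) (Fin 2) F).map σ)ᵀ * J * B =
        (Pm.map σ)ᵀ * (((A : Matrix (Fin 2) (Fin 2) F).map σ)ᵀ * A) * Pm := by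
      rw [← hJP, show ((B : Matrix (Fin 2) (Fin 2) F).map σ)ᵀ * ((Pm.map σ)ᵀ * Pm) * B =
        ((Pm * B : Matrix (Fin 2) (Fin 2) F).map σ)ᵀ * (Pm * B) by
          rw [Matrix.map_mul, transpose_mul]; simp [Matrix.mul_assoc],
        ← eA, Matrix.map_mul, transpose_mul]
      simp [Matrix.mul_assoc]
    rw [mem_U2, e1]
    constructor
    · intro h
      rw [h, Matrix.mul_one, hJP]
    · intro h
      rw [← hJP] at h
      have hu : IsUnit Pm.det := isUnit_iff_ne_zero.2 hPdet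
      have hu' : IsUnit ((Pm.map σ)ᵀ).det := by
        rw [det_transpose]
        refine isUnit_iff_ne_zero.2 fun h0 => hPdet ?_
        have := RingHom.map_det σ.toRingHom Pm
        rw [show (σ.toRingHom.mapMatrix Pm).det = (Pm.map σ).det from rfl, h0] at this
        exact σ.map_eq_zero_iff.1 this
      have h' := congrArg (fun M => ((Pm.map σ)ᵀ)⁻¹ * M * Pm⁻¹) h
      simp only [Matrix.mul_assoc, Matrix.mul_nonsing_inv _ hu, Matrix.mul_one] at h'
      simp only [← Matrix.mul_assoc, Matrix.nonsing_inv_mul _ hu', Matrix.one_mul] at h'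
      exact h'
  have hdP : ∀ u v : Fˣ, dP P (u, v) ∈ U2 σ K.bar_bar ↔ σ (u : F) * v = 1 := by
    intro u v
    rw [dP_apply, hmem, dg_val]
    constructor
    · intro h
      simpa [J, Matrix.mul_apply, Fin.sum_univ_two] using congr_fun₂ h 0 1
    · intro h
      have h' : σ (v : F) * u = 1 := by
        have := congrArg σ h
        rwa [map_mul, K.bar_bar, map_one, mul_comm] at this
      ext i j
      fin_cases i <;> fin_cases j <;> simp [J, Matrix.mul_apply, Fin.sum_univ_two, h, h']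
  have hd : (l, -l⁻¹) ∈ D2 σ K.bar_bar P := by
    refine ⟨?_, a + 1, ?_⟩
    · rw [← dP_apply, hdP, hσl']
      simp
    · rw [Prod.pow_mk]
      refine Prod.ext ?_ ?_
      · show l ^ 2 ^ (a + 1) = 1
        rw [pow_succ, pow_mul, hl2, one_pow]
      · show (-l⁻¹) ^ 2 ^ (a + 1) = 1
        rw [pow_succ', pow_mul, neg_sq, ← pow_mul, inv_pow, mul_comm, pow_mul, hl2, one_pow, inv_one]
  have hM : MonoData σ K.bar_bar P := by
    refine ⟨?_, (l, -l⁻¹), hd, fun h => hl4 ?_⟩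
    · rw [wP, hmem, wS_val]
      ext i j
      fin_cases i <;> fin_cases j <;> simp [J, Matrix.mul_apply, Fin.sum_univ_two]
    · rw [show l ^ 4 = l ^ 2 * l ^ 2 by rw [← pow_add]]
      nth_rw 2 [show l ^ 2 = (-l⁻¹) ^ 2 from h]
      rw [neg_sq, inv_pow, mul_inv_cancel]
  refine isSimple_of K hM h2 (fun T2 hle _ hw hU _ => ?_) S
  set μ : Fˣ := -(l * l) with hμ
  have hCS := hM.dP_mem hd
  have hμT : dP P (μ, μ⁻¹) ∈ T2 := by
    have h1 := hU _ (hM.le_U2 hCS) _ hw _
      (mul_mem (mul_mem hCS hM.wP_mem) (inv_mem hCS)) rfl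
    have h3 := mul_mem h1 hw
    rwa [← map_inv, mul_assoc, mul_assoc, ← mul_assoc (wP P), wP_dP, mul_assoc (dP P _) (wP P),
      wP_mul_self, mul_one, ← map_mul, Prod.inv_mk, Prod.swap_prod_mk, Prod.mk_mul_mk,
      show l * (-l⁻¹)⁻¹ = μ by rw [hμ, inv_neg, inv_inv, mul_neg],
      show -l⁻¹ * l⁻¹ = μ⁻¹ by rw [hμ, inv_neg, _root_.mul_inv_rev, neg_mul]] at h3
  have hμ2 : μ ^ 2 ≠ 1 := by
    rw [hμ, neg_sq, ← pow_two, ← pow_mul]; exact hl4
  have hμord : ∃ m, μ ^ 2 ^ m = 1 := ⟨a + 1, by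
    rw [hμ, pow_succ', pow_mul, neg_sq, ← pow_two, ← pow_mul, ← pow_mul,
      show 2 * (2 * 2 ^ a) = 2 ^ a * 4 by ring, pow_mul, hl2, one_pow]⟩
  classical
  obtain ⟨m, hm⟩ : ∃ m, Nat.find hμord = m + 2 := by
    refine ⟨Nat.find hμord - 2, ?_⟩
    have h0 : ¬ Nat.find hμord ≤ 1 := fun h => hμ2 (by
      have := Nat.find_spec hμord
      obtain ⟨e, he⟩ := Nat.exists_eq_add_of_le h
      rw [show μ ^ 2 = μ ^ 2 ^ (Nat.find hμord + e) by rw [← he, pow_one], pow_add, pow_mul, this,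
        one_pow])
    omega
  set i : Fˣ := μ ^ 2 ^ m with hi
  have hii : (i : F) * i = -1 := by
    have h4 := Nat.find_spec hμord
    have h2' := Nat.find_min hμord (show m + 1 < Nat.find hμord by omega)
    rw [hm] at h4
    have e : (i : F) * i = ((μ ^ 2 ^ (m + 1) : Fˣ) : F) := by
      rw [hi, ← Units.val_mul, ← pow_add, pow_succ, mul_two]
    rw [e]
    have h' : ((μ ^ 2 ^ (m + 1) : Fˣ) : F) * ((μ ^ 2 ^ (m + 1) : Fˣ) : F) = 1 := by
      rw [← Units.val_mul, ← pow_add, ← two_mul, ← pow_succ', h4, Units.val_one]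
    rcases mul_self_eq_one_iff.1 h' with h | h
    · exact absurd (Units.ext h) h2'
    · exact h
  have hiT : dP P (i, i⁻¹) ∈ T2 := by
    have := pow_mem hμT (2 ^ m)
    rwa [← map_pow, Prod.pow_mk, inv_pow] at this
  have hσμ : σ (μ : F) = μ := by
    rw [hμ]; simp [hσl']
  have hσi : σ (i : F) = i := by
    rw [hi, Units.val_pow_eq_pow_val, map_pow, hσμ]
  have hiv : ((i⁻¹ : Fˣ) : F) = -(i : F) := by
    rw [Units.val_inv_eq_inv_val]
    exact inv_eq_of_mul_eq_one_right (by linear_combination -hii)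
  -- `w C` is conjugate to `diag(i, i⁻¹)`
  have hwC : wP P * dP P (l, -l⁻¹) ∈ T2 := by
    set lam : F := (l : F) with hlam
    have hlam0 : lam ≠ 0 := l.ne_zero
    set Bm : Matrix (Fin 2) (Fin 2) F :=
      !![1, 1 / (2 * i * lam); -(i * lam), 1 / 2] with hBm
    have hBdet : Bm.det ≠ 0 := by
      rw [hBm, det_fin_two_of]
      rw [show (1 : F) * (1 / 2) - 1 / (2 * i * lam) * (-(i * lam)) = 1 by
        have := i.ne_zero; field_simp; ring]
      exact one_ne_zero
    obtain ⟨B, hB⟩ := (Matrix.isUnit_iff_isUnit_det Bm).2 (isUnit_iff_ne_zero.2 hBdet)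
    have hBU : P * B * P⁻¹ ∈ U2 σ K.bar_bar := by
      rw [hmem, hB]
      have hh : σ (1 / 2 : F) = 1 / 2 := by rw [map_div₀, map_one, map_ofNat]
      have hk : σ (1 / (2 * (i : F) * lam)) = -(1 / (2 * (i : F) * lam)) := by
        rw [map_div₀, map_one, map_mul, map_mul, map_ofNat, hσi, hσl', mul_neg, div_neg]
      have := i.ne_zero
      ext r s
      fin_cases r <;> fin_cases s <;>
        simp [Bm, J, Matrix.mul_apply, Fin.sum_univ_two, -one_div, hh, hk, hσi, hσl'] <;>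
        field_simp <;> ring
    refine hU _ hBU _ hiT _ (mul_mem hM.wP_mem hCS) ?_
    rw [dP_apply, dP_apply, wP, mul_inv_eq_iff_eq_mul]
    have e : B * dg (i, i⁻¹) = wS * dg (l, -l⁻¹) * B := by
      apply Units.ext
      rw [Units.val_mul, Units.val_mul, Units.val_mul, hB, dg_val, dg_val, wS_val, Units.val_neg,
        hiv, Units.val_inv_eq_inv_val]
      have := i.ne_zero
      have hii' : (i : F) ^ 2 = -1 := by rw [pow_two, hii]
      ext r s
      fin_cases r <;> fin_cases s <;>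
        simp [Bm, Matrix.mul_apply, Fin.sum_univ_two, ← hlam, -one_div] <;> field_simp <;>
        first | ring1 | linear_combination hii' | linear_combination -hii' | linear_combination lam * hii' | linear_combination -lam * hii' | linear_combination 2 * lam * hii' | linear_combination -2 * lam * hii'
    calc P * B * P⁻¹ * (P * dg (i, i⁻¹) * P⁻¹) = P * (B * dg (i, i⁻¹)) * P⁻¹ := by group
      _ = P * wS * P⁻¹ * (P * dg (l, -l⁻¹) * P⁻¹) * (P * B * P⁻¹) := by rw [e]; group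
  have hC : dP P (l, -l⁻¹) ∈ T2 := by
    have := mul_mem hw hwC
    rwa [← mul_assoc, wP_mul_self, one_mul] at this
  rintro _ ⟨⟨u, v⟩, hx, hg⟩
  have huv : dP P (u, v) ∈ T2 := by
    obtain ⟨hxU, n, hn⟩ := hx
    rw [← dP_apply, hdP] at hxU
    obtain ⟨k, hk⟩ := Subgroup.mem_zpowers_iff.1 (hl u ⟨n, congrArg Prod.fst hn⟩)
    have hv : v = (-l⁻¹) ^ k := by
      apply Units.ext
      rw [← hk, Units.val_zpow_eq_zpow_val, map_zpow₀, hσl'] at hxU
      rw [Units.val_zpow_eq_zpow_val, Units.val_neg, Units.val_inv_eq_inv_val, ← inv_neg, _root_.inv_zpow]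
      exact eq_inv_of_mul_eq_one_right hxU
    rw [← hk, hv, show (l ^ k, (-l⁻¹) ^ k) = (l, -l⁻¹) ^ k from rfl, map_zpow]
    exact zpow_mem hC k
  rcases hg with rfl | rfl
  · exact huv
  · exact mul_mem huv hw

end CfsgLib.Fusion.UnitaryThree
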