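import Cfsg.Agent.S5318
import Cfsg.Agent.Lib.GL2.UnitaryModel
import Cfsg.Agent.Lib.Fusion.SimpleModel
import Cfsg.Agent.Lib.ClassicalAut.UnitarySpace
import Cfsg.Agent.Lib.FormRep.Unitary

/-!
The 2-fusion system of `PSU_3(q)`, `q` odd: a monomial Sylow subgroup in the involution
centralizer, found without counting.
-/

set_option autoImplicit false

namespace CfsgLib.Fusion.UnitaryThree

open Matrix Cfsg CfsgLib.GL2 CfsgLib.ClassicalAut
open Cfsg.Agent.S5318 (i3 i3_val i3_injective i3_dg g02 g12 g02_conj g12_conj eq_i3_of_commute)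

variable {F : Type*} [Field F] [Finite F] {q : ℕ} (K : Unitary.Conj F q)

local notation "SL3" => Matrix.SpecialLinearGroup (Fin 3) F
local notation "SU3" => SU 3 F q
local notation "pr" => QuotientGroup.mk' (Subgroup.center (SU 3 F q))

/-- The unitary group in two dimensions. -/
abbrev UG : Subgroup (GL (Fin 2) F) := U2 K.bar K.bar_bar

theorem mem_SU {g : SL3} : g ∈ SU3 ↔ (g.val.map K.bar)ᵀ * g.val = 1 :=
  CfsgLib.FormRep.Unitary.mem_SU_iff K.bar K.bar_apply K.bar_bar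

theorem i3_mem {A : GL (Fin 2) F} (hA : A ∈ UG K) : i3 A ∈ SU3 := by
  rw [mem_SU K, i3_val]
  have e := mem_U2.1 hA
  have e00 := congr_fun₂ e 0 0
  have e01 := congr_fun₂ e 0 1
  have e10 := congr_fun₂ e 1 0
  have e11 := congr_fun₂ e 1 1
  have ed : (K.bar (A : Matrix (Fin 2) (Fin 2) F).det)⁻¹ * (A : Matrix (Fin 2) (Fin 2) F).det⁻¹ = 1 := by
    rw [← mul_inv, det_norm hA, inv_one]
  simp [Matrix.mul_apply, Fin.sum_univ_two] at e00 e01 e10 e11
  ext i j
  fin_cases i <;> fin_cases j <;>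
    simp [Matrix.mul_apply, Fin.sum_univ_three, e00, e01, e10, e11, ed, map_inv₀]

theorem mem_of_i3_mem {A : GL (Fin 2) F} (hA : i3 A ∈ SU3) : A ∈ UG K := by
  have e := (mem_SU K).1 hA
  rw [i3_val] at e
  have e00 := congr_fun₂ e 0 0
  have e01 := congr_fun₂ e 0 1
  have e10 := congr_fun₂ e 1 0
  have e11 := congr_fun₂ e 1 1
  simp [Matrix.mul_apply, Fin.sum_univ_three] at e00 e01 e10 e11
  rw [mem_U2]
  unfold IsU
  ext i j
  fin_cases i <;> fin_cases j <;> simp [Matrix.mul_apply, Fin.sum_univ_two, e00, e01, e10, e11]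

include K in
theorem g02_mem : (g02 : SL3) ∈ SU3 := by
  rw [mem_SU K]
  ext i j
  fin_cases i <;> fin_cases j <;> simp [g02, Matrix.mul_apply, Fin.sum_univ_three]

include K in
theorem g12_mem : (g12 : SL3) ∈ SU3 := by
  rw [mem_SU K]
  ext i j
  fin_cases i <;> fin_cases j <;> simp [g12, Matrix.mul_apply, Fin.sum_univ_three]

/-- The embedding of the involution centralizer. -/
def j : UG K →* SU3 := (i3.comp (UG K).subtype).codRestrict SU3 fun A => i3_mem K A.2

theorem j_val (A : UG K) : (j K A : SL3) = i3 (A : GL (Fin 2) F) := rfl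

theorem j_injective : Function.Injective (j K) := fun _ _ h =>
  Subtype.ext (i3_injective (congrArg Subtype.val h))

include K in
theorem central_scalar {z : SU3} (hz : z ∈ Subgroup.center SU3) :
    ∃ c : F, z.1.val = c • (1 : Matrix (Fin 3) (Fin 3) F) := by
  cases nonempty_fintype F
  exact (CfsgLib.FormRep.Unitary.center_iff le_rfl (by rw [← Nat.card_eq_fintype_card, K.card])
    K.bar K.bar_apply K.bar_bar z).1 hz

include K in
theorem central_cube {z : SU3} (hz : z ∈ Subgroup.center SU3) : z ^ 3 = 1 := by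
  obtain ⟨c, hc⟩ := central_scalar K hz
  have hd := z.1.2
  rw [hc, det_smul, det_one, mul_one, Fintype.card_fin] at hd
  refine Subtype.ext (Subtype.ext ?_)
  rw [SubmonoidClass.coe_pow, Matrix.SpecialLinearGroup.coe_pow, hc, smul_pow, one_pow, hd,
    one_smul]
  rfl

include K in
theorem eq_of_pr_eq {a b : SU3} (h : pr a = pr b) {m : ℕ} (ha : a ^ 2 ^ m = 1) {l : ℕ}
    (hb : b ^ 2 ^ l = 1) : a = b := by
  have hz : a * b⁻¹ ∈ Subgroup.center SU3 := by
    refine (QuotientGroup.eq_one_iff _).1 ?_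
    show pr (a * b⁻¹) = 1
    rw [map_mul, map_inv, h, mul_inv_cancel]
  have hcomm : Commute (a * b⁻¹) b := (Subgroup.mem_center_iff.1 hz b).symm
  have h1 : a ^ 2 ^ (m + l) = 1 := by rw [pow_add, pow_mul, ha, one_pow]
  have h2 : b ^ 2 ^ (m + l) = 1 := by rw [add_comm, pow_add, pow_mul, hb, one_pow]
  rw [show a = a * b⁻¹ * b by group, hcomm.mul_pow, h2, mul_one] at h1
  have : a * b⁻¹ = 1 := orderOf_eq_one_iff.1 (Nat.eq_one_of_dvd_coprimes
    (Nat.Coprime.pow_left (m + l) (show Nat.Coprime 2 3 by norm_num))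
    (orderOf_dvd_of_pow_eq_one h1) (orderOf_dvd_of_pow_eq_one (central_cube K hz)))
  exact mul_inv_eq_one.1 this

/-- The map to `PSU_3`. -/
def fU : UG K →* PSU 3 F q := (pr).comp (j K)

variable {P : GL (Fin 2) F} (hM : MonoData K.bar K.bar_bar P)

/-- The image of the model. -/
def QS : Subgroup (PSU 3 F q) := (hM.S.subgroupOf (UG K)).map (fU K)

include hM in
theorem exists_two_pow (x : UG K) (hx : (x : GL (Fin 2) F) ∈ hM.S) : ∃ m : ℕ, j K x ^ 2 ^ m = 1 := by
  obtain ⟨m, hm⟩ := hM.isPGroup ⟨x, hx⟩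
  refine ⟨m, ?_⟩
  rw [← map_pow, ← map_one (j K)]
  exact congrArg _ (Subtype.ext (by
    rw [SubmonoidClass.coe_pow]; exact congrArg Subtype.val hm))

include hM in
theorem hlift (h : SU3) (x y : UG K) (hx : (x : GL (Fin 2) F) ∈ hM.S)
    (hy : (y : GL (Fin 2) F) ∈ hM.S) (he : pr h * fU K x * (pr h)⁻¹ = fU K y) :
    h * j K x * h⁻¹ = j K y := by
  obtain ⟨m, hm⟩ := exists_two_pow K hM x hx
  obtain ⟨l, hl⟩ := exists_two_pow K hM y hy
  refine eq_of_pr_eq K (m := m) ?_ ?_ hl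
  · rw [map_mul, map_mul, map_inv]; exact he
  · rw [conj_pow, hm, mul_one, mul_inv_cancel]

/-- `-1` in the unitary group. -/
def n1 : UG K := ⟨-1, neg_one_mem_U2⟩

theorem j_n1_val : (j K (n1 K) : SL3).val = diagonal ![(-1 : F), -1, 1] := by
  show (i3 (-1 : GL (Fin 2) F)).val = _
  rw [i3_val]
  ext i j
  fin_cases i <;> fin_cases j <;> simp [det_fin_two]

variable (h2 : (2 : F) ≠ 0)

include h2 in
theorem n1_ne : (-1 : GL (Fin 2) F) ≠ 1 := by
  intro h
  have h0 : ((-1 : GL (Fin 2) F) : Matrix (Fin 2) (Fin 2) F) = 1 := by rw [h, Units.val_one]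
  have := congr_fun₂ h0 0 0
  simp at this
  exact h2 (by linear_combination -this)

include hM h2 in
/-- The normalizer of the model comes from the normalizer in the unitary group. -/
theorem normalizer_rep {g : PSU 3 F q}
    (hg : g ∈ Subgroup.normalizer (QS K hM : Set (PSU 3 F q))) :
    ∃ A : UG K, fU K A = g ∧
      ∀ s ∈ hM.S, (A : GL (Fin 2) F) * s * (A : GL (Fin 2) F)⁻¹ ∈ hM.S := by
  obtain ⟨h, rfl⟩ := QuotientGroup.mk'_surjective _ g
  have hconj : ∀ x : UG K, (x : GL (Fin 2) F) ∈ hM.S →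
      ∃ y : UG K, (y : GL (Fin 2) F) ∈ hM.S ∧ h * j K x * h⁻¹ = j K y := by
    intro x hx
    obtain ⟨y, hy, hye⟩ := (Subgroup.mem_normalizer_iff.1 hg (fU K x)).1 ⟨x, hx, rfl⟩
    exact ⟨y, hy, hlift K hM h x y hx hy hye.symm⟩
  have hconj' : ∀ y : UG K, (y : GL (Fin 2) F) ∈ hM.S →
      ∃ x : UG K, (x : GL (Fin 2) F) ∈ hM.S ∧ h * j K x * h⁻¹ = j K y := by
    intro y hy
    obtain ⟨x, hx, hxe⟩ := (Subgroup.mem_normalizer_iff''.1 hg (fU K y)).1 ⟨y, hy, rfl⟩
    refine ⟨x, hx, hlift K hM h x y hx hy ?_⟩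
    rw [hxe]
    group
  obtain ⟨c, hc, hce⟩ := hconj (n1 K) hM.neg_one_mem
  have hn11 : n1 K * n1 K = 1 := Subtype.ext (by simp [n1])
  have hc' : c = n1 K := by
    refine Subtype.ext (hM.eq_neg_one hc ?_ ?_ ?_)
    · have : j K (c * c) = j K 1 := by
        rw [map_mul, map_one, ← hce,
          show h * j K (n1 K) * h⁻¹ * (h * j K (n1 K) * h⁻¹) = h * (j K (n1 K) * j K (n1 K)) * h⁻¹ by
            group, ← map_mul, hn11, map_one, mul_one, mul_inv_cancel]
      exact congrArg Subtype.val (j_injective K this)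
    · intro hc1
      apply n1_ne h2
      have hc1' : c = 1 := Subtype.ext hc1
      rw [hc1', map_one, mul_inv_eq_one, mul_eq_left, ← map_one (j K)] at hce
      exact congrArg Subtype.val (j_injective K hce)
    · intro s hs
      obtain ⟨x, -, hxe⟩ := hconj' ⟨s, hM.le_U2 hs⟩ hs
      have : j K (⟨s, hM.le_U2 hs⟩ * c) = j K (c * ⟨s, hM.le_U2 hs⟩) := by
        rw [map_mul, map_mul, ← hce, ← hxe,
          show h * j K x * h⁻¹ * (h * j K (n1 K) * h⁻¹) = h * (j K x * j K (n1 K)) * h⁻¹ by group,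
          show h * j K (n1 K) * h⁻¹ * (h * j K x * h⁻¹) = h * (j K (n1 K) * j K x) * h⁻¹ by group,
          ← map_mul, ← map_mul,
          show x * n1 K = n1 K * x from Subtype.ext (by simp [n1])]
      exact congrArg Subtype.val (j_injective K this)
  rw [hc'] at hce
  obtain ⟨A, hA⟩ := eq_i3_of_commute h2
    (show (h : SL3) * i3 (-1 : GL (Fin 2) F) = i3 (-1 : GL (Fin 2) F) * (h : SL3) from
      congrArg Subtype.val (mul_inv_eq_iff_eq_mul.1 hce))
  have hAU : A ∈ UG K := mem_of_i3_mem K (hA ▸ h.2)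
  have hj : j K ⟨A, hAU⟩ = h := Subtype.ext hA
  refine ⟨⟨A, hAU⟩, congrArg _ hj, fun s hs => ?_⟩
  obtain ⟨y, hy, hye⟩ := hconj ⟨s, hM.le_U2 hs⟩ hs
  rw [← hj, ← map_inv, ← map_mul, ← map_mul] at hye
  have : A * s * A⁻¹ = (y : GL (Fin 2) F) := congrArg Subtype.val (j_injective K hye)
  exact this ▸ hy

include hM in
theorem isPGroup_QS : IsPGroup 2 (QS K hM) :=
  (hM.isPGroup.comap_of_injective (UG K).subtype (UG K).subtype_injective).map _

include hM h2 in
/-- The image of the model is a Sylow subgroup. -/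
theorem exists_sylow : ∃ R : Sylow 2 (PSU 3 F q), (R : Subgroup (PSU 3 F q)) = QS K hM := by
  have : Fact (Nat.Prime 2) := ⟨Nat.prime_two⟩
  obtain ⟨R, hR⟩ := (isPGroup_QS K hM).exists_le_sylow
  refine ⟨R, le_antisymm (fun g hg => ?_) hR⟩
  by_contra hgQ
  set Q' := (QS K hM).subgroupOf (R : Subgroup (PSU 3 F q))
  have hne : Q' < ⊤ := lt_top_iff_ne_top.2 fun h => hgQ (h ▸ Subgroup.mem_top (⟨g, hg⟩ : R.toSubgroup) :)
  have := R.isPGroup'.isNilpotent
  obtain ⟨x, hxn, hxQ⟩ := SetLike.exists_of_lt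
    (normalizerCondition_of_isNilpotent Q' hne)
  have hxN : (x : PSU 3 F q) ∈ Subgroup.normalizer (QS K hM : Set (PSU 3 F q)) := by
    refine Subgroup.mem_normalizer_fintype fun y hy => ?_
    exact (Subgroup.mem_normalizer_iff.1 hxn ⟨y, hR hy⟩).1 hy
  obtain ⟨A, hAx, hAn⟩ := normalizer_rep K hM h2 hxN
  obtain ⟨m, hm⟩ := R.isPGroup' x
  have hm' : fU K A ^ 2 ^ m = 1 := by rw [hAx]; exact congrArg Subtype.val hm
  have hz : j K A ^ 2 ^ m ∈ Subgroup.center SU3 := by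
    refine (QuotientGroup.eq_one_iff _).1 ?_
    show pr (j K A ^ 2 ^ m) = 1
    rw [map_pow]; exact hm'
  obtain ⟨k, hk⟩ : ∃ k : ℕ, 3 * k ≡ 1 [MOD 2 ^ m] := by
    rcases Nat.eq_zero_or_pos m with rfl | h0
    · exact ⟨0, by simp [Nat.ModEq, Nat.mod_one]⟩
    obtain ⟨k, -, hk⟩ := Nat.exists_mul_mod_eq_one_of_coprime
      (Nat.Coprime.pow_right m (show Nat.Coprime 3 2 by norm_num))
      (Nat.one_lt_two_pow h0.ne')
    exact ⟨k, by rw [Nat.ModEq, hk, Nat.mod_eq_of_lt (Nat.one_lt_two_pow h0.ne')]⟩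
  set B := A ^ (3 * k) with hB
  have hfB : fU K B = (x : PSU 3 F q) := by
    rw [hB, map_pow, pow_eq_pow_mod _ hm', hk, ← pow_eq_pow_mod 1 hm', pow_one, hAx]
  have hB2 : B ^ 2 ^ m = 1 := by
    apply j_injective K
    rw [hB, map_pow, map_pow, map_one, ← pow_mul, mul_comm, pow_mul, pow_mul,
      central_cube K hz, one_pow]
  have hAB : ∀ i : ℕ, ∀ s ∈ hM.S,
      (A : GL (Fin 2) F) ^ i * s * ((A : GL (Fin 2) F) ^ i)⁻¹ ∈ hM.S := by
    intro i
    induction i with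
    | zero => intro s hs; simpa using hs
    | succ i ih =>
      intro s hs
      rw [pow_succ', show (A : GL (Fin 2) F) * (A : GL (Fin 2) F) ^ i * s *
        ((A : GL (Fin 2) F) * (A : GL (Fin 2) F) ^ i)⁻¹ = (A : GL (Fin 2) F) *
          ((A : GL (Fin 2) F) ^ i * s * ((A : GL (Fin 2) F) ^ i)⁻¹) * (A : GL (Fin 2) F)⁻¹ by group]
      exact hAn _ (ih s hs)
  have hBS : (B : GL (Fin 2) F) ∈ hM.S := by
    refine hM.mem_of_normalizes B.2 ?_ (m := m) (congrArg Subtype.val hB2)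
    rw [hB, SubmonoidClass.coe_pow]
    exact hAB _
  exact hxQ (show (x : PSU 3 F q) ∈ QS K hM from ⟨B, hBS, hfB⟩)

include hM h2 in
/-- The criterion: simplicity from generation of the model by the fusion. -/
theorem isSimple_of
    (hgen : ∀ T2 : Subgroup (GL (Fin 2) F), T2 ≤ hM.S → (-1 : GL (Fin 2) F) ∈ T2 → wP P ∈ T2 →
      (∀ g ∈ UG K, ∀ x ∈ T2, ∀ y ∈ hM.S, g * x * g⁻¹ = y → y ∈ T2) →
      (∀ x ∈ T2, ∀ y ∈ hM.S, g12 * i3 x = i3 y * g12 → y ∈ T2) → hM.S ≤ T2)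
    (S : Sylow 2 (PSU 3 F q)) :
    (groupFusionSystem (S : Subgroup (PSU 3 F q))).IsSimple 2 := by
  have : Fact (Nat.Prime 2) := ⟨Nat.prime_two⟩
  obtain ⟨R, hR⟩ := exists_sylow K hM h2
  have hinj : ∀ x y : UG K, (x : GL (Fin 2) F) ∈ hM.S → (y : GL (Fin 2) F) ∈ hM.S →
      fU K x = fU K y → x = y := fun x y hx hy he => j_injective K (by
    have := hlift K hM 1 x y hx hy (by rw [map_one, one_mul, inv_one, mul_one]; exact he)
    simpa using this)
  refine isSimple_group_of_model_pPrime R ?_ ?_ ?_ S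
  · rw [hR]
    intro hbot
    have h : fU K (n1 K) ∈ QS K hM := ⟨n1 K, hM.neg_one_mem, rfl⟩
    rw [hbot, Subgroup.mem_bot] at h
    exact n1_ne h2 (congrArg Subtype.val
      (hinj (n1 K) 1 hM.neg_one_mem (one_mem _) (h.trans (map_one _).symm)))
  · intro T hT hsc
    rw [hR] at hT hsc ⊢
    refine or_iff_not_imp_left.2 fun hne => le_antisymm hT ?_
    have hInT : ∀ (B : UG K), (B : GL (Fin 2) F) ∈ hM.S → ∀ g : PSU 3 F q,
        g⁻¹ * fU K B * g ∈ T → fU K B ∈ T := by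
      intro B hB g hg
      have := hsc g _ hg (by rw [show g * (g⁻¹ * fU K B * g) * g⁻¹ = fU K B by group]; exact ⟨B, hB, rfl⟩)
      rwa [show g * (g⁻¹ * fU K B * g) * g⁻¹ = fU K B by group] at this
    have hmove : ∀ (B B' : UG K) (h : SU3), h * j K B = j K B' * h →
        ∀ g : PSU 3 F q, g⁻¹ * fU K B * g ∈ T →
        ∃ g' : PSU 3 F q, g'⁻¹ * fU K B' * g' ∈ T := by
      intro B B' h he g hg
      refine ⟨pr h * g, ?_⟩
      have e : fU K B' = pr h * fU K B * (pr h)⁻¹ := by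
        show pr (j K B') = pr h * pr (j K B) * (pr h)⁻¹
        rw [← map_inv, ← map_mul, ← map_mul, he, mul_inv_cancel_right]
      rw [e]
      convert hg using 1
      group
    obtain ⟨c, hcS, hcT, hcc, hc1⟩ : ∃ c : UG K, (c : GL (Fin 2) F) ∈ hM.S ∧ fU K c ∈ T ∧
        c * c = 1 ∧ c ≠ 1 := by
      have : Nontrivial T := (Subgroup.nontrivial_iff_ne_bot T).2 hne
      have hTp : IsPGroup 2 T := (isPGroup_QS K hM).to_le hT
      obtain ⟨i, hi0, hi⟩ := hTp.nontrivial_iff_card.1 this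
      obtain ⟨⟨u, hu⟩, huo⟩ := exists_prime_orderOf_dvd_card' (G := T) 2 (hi ▸ dvd_pow_self 2 hi0.ne')
      obtain ⟨x, hx, rfl⟩ := hT hu
      rw [Subgroup.orderOf_mk] at huo
      have hx' : (x : GL (Fin 2) F) ∈ hM.S := hx
      refine ⟨x, hx', hu, hinj _ 1 (mul_mem hx' hx') (one_mem _) ?_, fun h => ?_⟩
      · rw [map_mul, map_one, ← sq]
        have h' := pow_orderOf_eq_one (fU K x)
        rwa [huo] at h'
      · rw [h, map_one, orderOf_one] at huo; omega
    have hone : K.bar (((1 : Fˣ)) : F) * ((1 : Fˣ) : F) = 1 := by simp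
    have hneg : K.bar (((-1 : Fˣ)) : F) * ((-1 : Fˣ) : F) = 1 := by simp
    set e1 : UG K := ⟨dg (1, -1), dg_mem_U2 hone hneg⟩
    have hsw : ⟨g02, g02_mem K⟩ * j K (n1 K) = j K e1 * ⟨g02, g02_mem K⟩ := by
      refine Subtype.ext (Subtype.ext ?_)
      show (g02 : SL3).val * (j K (n1 K) : SL3).val = (i3 (dg ((1 : Fˣ), (-1 : Fˣ)))).val * g02.val
      rw [j_n1_val, i3_dg, g02_conj]
      congr 2
      simp
    -- both classes of the unitary group meet `T`
    have hboth : (∃ g, g⁻¹ * fU K (n1 K) * g ∈ T) ∧ ∃ g, g⁻¹ * fU K e1 * g ∈ T := by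
      have hcT1 : (1 : PSU 3 F q)⁻¹ * fU K c * 1 ∈ T := by simpa using hcT
      rcases U2_involution_cases h2 K.exists_norm c.2 (congrArg Subtype.val hcc)
        (fun h => hc1 (Subtype.ext h)) with h | ⟨g, hg, hge⟩
      · have : c = n1 K := Subtype.ext h
        subst this
        exact ⟨⟨1, hcT1⟩, hmove _ _ _ hsw _ hcT1⟩
      · obtain ⟨g1, hg1⟩ := hmove c e1 (j K ⟨g, hg⟩) (by
          rw [← map_mul, ← map_mul]
          exact congrArg _ (Subtype.ext (mul_inv_eq_iff_eq_mul.1 hge))) 1 hcT1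
        refine ⟨hmove e1 (n1 K) (⟨g02, g02_mem K⟩⁻¹) ?_ g1 hg1, g1, hg1⟩
        rw [inv_mul_eq_iff_eq_mul, ← mul_assoc, hsw, mul_inv_cancel_right]
    have hT2le : ∀ x : GL (Fin 2) F, x ∈ ((T.comap (fU K)).map (UG K).subtype ⊓ hM.S) →
        ∀ hx : x ∈ UG K, fU K ⟨x, hx⟩ ∈ T := by
      rintro x ⟨⟨y, hy, rfl⟩, -⟩ hx
      exact hy
    set T2 := (T.comap (fU K)).map (UG K).subtype ⊓ hM.S with hT2
    have hmk : ∀ (B : UG K), (B : GL (Fin 2) F) ∈ hM.S → ∀ g : PSU 3 F q,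
        g⁻¹ * fU K B * g ∈ T → (B : GL (Fin 2) F) ∈ T2 :=
      fun B hB g hg => ⟨⟨B, hInT B hB g hg, rfl⟩, hB⟩
    have hwT : wP P ∈ T2 := by
      rcases U2_involution_cases h2 K.exists_norm hM.w_mem wP_mul_self (fun h => by
        obtain ⟨d, hd, hd2⟩ := hM.exists_regular
        refine hM.not_commute_anti (x := 1) (d := d) (fun e => hd2 (by rw [e])) ?_
        rw [map_one, one_mul, h, one_mul, mul_one]) with h | ⟨g, hg, hge⟩
      · exfalso
        obtain ⟨d, hd, hd2⟩ := hM.exists_regular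
        refine hM.not_commute_anti (x := 1) (d := d) (fun e => hd2 (by rw [e])) ?_
        rw [map_one, one_mul, h]
        simp
      · obtain ⟨g1, hg1⟩ := hboth.2
        obtain ⟨g2, hg2⟩ := hmove e1 ⟨wP P, hM.w_mem⟩ (j K ⟨g, hg⟩⁻¹) (by
          rw [← map_mul, ← map_mul]
          refine congrArg _ (Subtype.ext ?_)
          show g⁻¹ * dg (1, -1) = wP P * g⁻¹
          rw [← hge]; group) g1 hg1
        exact hmk ⟨wP P, hM.w_mem⟩ hM.wP_mem g2 hg2
    obtain ⟨g0, hg0⟩ := hboth.1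
    have hall := hgen T2 inf_le_right (hmk (n1 K) hM.neg_one_mem g0 hg0) hwT
      (fun g hg x hx y hy he => by
        have hxU : x ∈ UG K := hM.le_U2 hx.2
        obtain ⟨g', hg'⟩ := hmove ⟨x, hxU⟩ ⟨y, hM.le_U2 hy⟩ (j K ⟨g, hg⟩) (by
          rw [← map_mul, ← map_mul]
          exact congrArg _ (Subtype.ext (mul_inv_eq_iff_eq_mul.1 he))) 1
          (by simpa using hT2le x hx hxU)
        exact hmk ⟨y, hM.le_U2 hy⟩ hy g' hg')
      (fun x hx y hy he => by
        have hxU : x ∈ UG K := hM.le_U2 hx.2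
        obtain ⟨g', hg'⟩ := hmove ⟨x, hxU⟩ ⟨y, hM.le_U2 hy⟩ ⟨g12, g12_mem K⟩ (Subtype.ext he) 1
          (by simpa using hT2le x hx hxU)
        exact hmk ⟨y, hM.le_U2 hy⟩ hy g' hg')
    rintro _ ⟨x, hx, rfl⟩
    exact hT2le _ (hall hx) x.2
  · intro g hg hgo
    rw [hR] at hg ⊢
    obtain ⟨A, rfl, hAn⟩ := normalizer_rep K hM h2 hg
    have hz : j K A ^ orderOf (fU K A) ∈ Subgroup.center SU3 := by
      refine (QuotientGroup.eq_one_iff _).1 ?_
      show pr (j K A ^ orderOf (fU K A)) = 1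
      rw [map_pow]; exact pow_orderOf_eq_one _
    obtain ⟨c, hc⟩ := central_scalar K hz
    have hc' : (((A : GL (Fin 2) F) ^ orderOf (fU K A) : GL (Fin 2) F) : Matrix (Fin 2) (Fin 2) F) =
        c • 1 := by
      have e : (j K A ^ orderOf (fU K A) : SU3).1 = i3 ((A : GL (Fin 2) F) ^ orderOf (fU K A)) := by
        rw [← map_pow, j_val, SubmonoidClass.coe_pow]
      rw [e, i3_val] at hc
      ext i k
      fin_cases i <;> fin_cases k
      · simpa using congr_fun₂ hc 0 0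
      · simpa using congr_fun₂ hc 0 1
      · simpa using congr_fun₂ hc 1 0
      · simpa using congr_fun₂ hc 1 1
    have hcom := hM.centralizes hAn hgo fun g => Units.ext (by
      rw [Units.val_mul, Units.val_mul, hc', Matrix.smul_mul, Matrix.mul_smul, Matrix.one_mul,
        Matrix.mul_one])
    rw [Subgroup.mem_centralizer_iff]
    rintro _ ⟨x, hx, rfl⟩
    rw [← map_mul, ← map_mul]
    refine congrArg _ (Subtype.ext ?_)
    exact (mul_inv_eq_iff_eq_mul.1 (hcom _ hx)).symm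

end CfsgLib.Fusion.UnitaryThree
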