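import Mathlib
import Cfsg.Agent.Lib.Fusion.NormalSeries

/-!
A strongly closed subgroup with a weakly closed central series is normal.
-/

set_option autoImplicit false

namespace CfsgLib.Fusion

open Cfsg Cfsg.FusionSystem
open scoped commutatorElement

variable {Ω : Type*} [Group Ω] {S : Subgroup Ω} {F : FusionSystem S} {p : ℕ}

theorem image_eq_of_weaklyClosed {B : Subgroup Ω} (hB : F.WeaklyClosed B) {f : Ω → Ω}
    (hf : IsMap F B f) : f '' (B : Set Ω) = B := by
  obtain ⟨φ, hφ, hv⟩ := hf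
  conv_rhs => rw [← hB.2 φ hφ]
  rw [← image_homFun φ]
  exact Set.image_congr fun x hx => ((homFun_apply φ hx).trans (hv _)).symm

theorem weaklyClosed_of_stronglyClosed [Finite S] {B : Subgroup Ω} (hB : F.StronglyClosed B) :
    F.WeaklyClosed B := by
  refine ⟨hB.1, fun φ hφ => SetLike.coe_injective ?_⟩
  rw [← image_homFun φ]
  exact image_eq_of_mem hB.1 (isMap_homFun hφ) le_rfl fun x hx => by
    rw [homFun_apply φ hx]; exact hB.2 B le_rfl φ hφ ⟨x, hx⟩

variable [Finite S] [Fact p.Prime]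

theorem stronglyClosed_step (hS : IsPGroup p S) (hF : F.IsSaturated p) {A B Q : Subgroup Ω}
    (hA : F.IsNormal A) (hQ : F.StronglyClosed Q) (hAB : A ≤ B) (hBQ : B ≤ Q)
    (hB : F.WeaklyClosed B) (hcomm : ∀ b ∈ B, ∀ q ∈ Q, ⁅b, q⁆ ∈ A) : F.StronglyClosed B := by
  refine stronglyClosed_iff.2 ⟨hB.1, fun P f hf x hx hxB => ?_⟩
  obtain ⟨g, hg, hag, hgA⟩ := (isNormal_iff.1 hA).2 (Subgroup.zpowers x) f
    (hf.mono (Subgroup.zpowers_le.2 hx))
  rw [← hag x (Subgroup.mem_zpowers x)]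
  set X := Subgroup.zpowers x ⊔ A
  have hXB : X ≤ B := sup_le (Subgroup.zpowers_le.2 hxB) hAB
  obtain ⟨Y, hY⟩ := hg.exists_iso
  have hYQ : Y ≤ Q := fun y hy => by
    obtain ⟨u, hu, rfl⟩ := hY.surj hy
    exact isMap_mem_of_stronglyClosed hQ hg hu (hBQ (hXB hu))
  have hAY : A ≤ Y := fun a ha => by
    rw [← SetLike.mem_coe, ← hgA] at ha
    obtain ⟨c, hc, rfl⟩ := ha
    exact hY.mem (Subgroup.mem_sup_right hc)
  have hXS : X ≤ S := hY.le_left
  have hYS : Y ≤ S := hY.le_right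
  have hQX : Q ≤ normalizerIn S X := fun q hq => ⟨hQ.1 hq, mem_normalizer_of_conj_mem hXS
    fun y hy => by
      have h : q * y * q⁻¹ = ⁅y, q⁆⁻¹ * y := by rw [commutatorElement_def]; group
      rw [h]
      exact X.mul_mem (X.inv_mem (Subgroup.mem_sup_right (hcomm y (hXB hy) q hq))) hy⟩
  have hBY : B ≤ normalizerIn S Y := fun b hb => ⟨hB.1 hb, mem_normalizer_of_conj_mem hYS
    fun y hy => by
      have h : b * y * b⁻¹ = ⁅b, y⁆ * y := by rw [commutatorElement_def]; group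
      rw [h]
      exact Y.mul_mem (hAY (hcomm b hb y (hYQ hy))) hy⟩
  obtain ⟨Z, hXZ, hZ⟩ := exists_isFullyNormalized (F := F) hXS
  have ha := isFullyAutomized_of_isFullyNormalized hS hF hZ
  have hr := isReceptive_of_isFullyNormalized hS hF hZ
  obtain ⟨a, haN, haX, -, -⟩ := exists_map_normalizerIn hS ha hr hXZ
  obtain ⟨b, hbN, hbY, -, -⟩ :=
    exists_map_normalizerIn hS ha hr (isConj_trans (isConj_symm hY.isConj) hXZ)
  have hZB : Z ≤ B := fun z hz => by
    obtain ⟨u, hu, rfl⟩ := haX.surj hz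
    rw [← SetLike.mem_coe, ← image_eq_of_weaklyClosed hB (haN.mono (hBQ.trans hQX))]
    exact ⟨u, hXB hu, rfl⟩
  have hy : g x ∈ Y := hY.mem (Subgroup.mem_sup_left (Subgroup.mem_zpowers x))
  have h1 : b (g x) ∈ (B : Set Ω) := hZB (hbY.mem hy)
  rw [← image_eq_of_weaklyClosed hB (hbN.mono hBY)] at h1
  obtain ⟨u, hu, hue⟩ := h1
  exact hbN.injOn (hBY hu) (le_normalizerIn hYS hy) hue ▸ hu

theorem isNormal_of_weak_series (hS : IsPGroup p S) (hF : F.IsSaturated p) {Q : Subgroup Ω}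
    (hQ : F.StronglyClosed Q) (n : ℕ) (C : ℕ → Subgroup Ω) (h0 : C 0 = ⊥) (hn : C n = Q)
    (hm : ∀ i < n, C i ≤ C (i + 1)) (hcomm : ∀ i < n, ∀ x ∈ C (i + 1), ∀ q ∈ Q, ⁅x, q⁆ ∈ C i)
    (hw : ∀ i < n, F.WeaklyClosed (C i)) : F.IsNormal Q := by
  have hle : ∀ j i, i + j = n → C i ≤ Q := by
    intro j
    induction j with
    | zero => intro i hi; rw [show i = n by omega, hn]
    | succ j ih => intro i hi; exact (hm i (by omega)).trans (ih (i + 1) (by omega))
  suffices h : ∀ i, i ≤ n → F.IsNormal (C i) by rw [← hn]; exact h n le_rfl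
  intro i
  induction i using Nat.strong_induction_on with
  | _ i IH =>
  intro hi
  rcases Nat.eq_zero_or_pos i with rfl | hpos
  · rw [h0]; exact isNormal_bot F
  obtain ⟨k, rfl⟩ : ∃ k, i = k + 1 := ⟨i - 1, by omega⟩
  have hA := IH k (Nat.lt_succ_self k) (by omega)
  have hBQ : C (k + 1) ≤ Q := hle (n - (k + 1)) (k + 1) (by omega)
  have hB : F.WeaklyClosed (C (k + 1)) := by
    rcases Nat.lt_or_ge (k + 1) n with h | h
    · exact hw _ h
    · rw [show k + 1 = n by omega, hn]; exact weaklyClosed_of_stronglyClosed hQ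
  have hsc := stronglyClosed_step hS hF hA hQ (hm k (by omega)) hBQ hB (hcomm k (by omega))
  refine isNormal_of_series hS hF (k + 1) C h0 rfl (fun j hj => hm j (by omega)) (fun j hj => ?_)
    fun j hj g hg x hx => ?_
  · rcases Nat.lt_or_ge j (k + 1) with h | h
    · exact stronglyClosed_of_isNormal (IH j h (by omega))
    · rwa [show j = k + 1 by omega]
  · have h := Subgroup.inv_mem _ (hcomm j (by omega) x hx g (hBQ hg))
    rwa [commutatorElement_inv, commutatorElement_def] at h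

end CfsgLib.Fusion
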