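import Mathlib
import Cfsg.Agent.Lib.Critical.Basic
import Cfsg.Agent.Lib.Fusion.Tate
import Cfsg.Agent.Lib.Fusion.TateInner
import Cfsg.Agent.Lib.Fusion.FactorMorphism
import Cfsg.Agent.Lib.Fusion.FactorSaturated
import Cfsg.Agent.Lib.Fusion.Solvable
import Cfsg.Agent.Lib.Fusion.StronglyClosedAutomizer
import Cfsg.Agent.Lib.Fusion.InnerControl
import Cfsg.Agent.Lib.Fusion.ZJControl

/-!
A saturated fusion system on a `p`-group `S` is inner as soon as there is an intermediate order `d`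
such that every subgroup of order `d` is weakly embedded with respect to the strongly closed
subgroups and has an inner normalizer system.
-/

set_option autoImplicit false

open Cfsg Cfsg.FusionSystem

namespace CfsgLib.Fusion.WeakEmbOrder

universe u

/-- Every subgroup of order `d` is weakly embedded: there is a strongly closed `P` whose join and meet
with it are strongly closed. -/
def WEmb {Ω : Type u} [Group Ω] {S : Subgroup Ω} (F : FusionSystem S) (d : ℕ) : Prop :=
  ∀ Q : Subgroup Ω, Q ≤ S → Nat.card Q = d →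
    ∃ P : Subgroup Ω, F.StronglyClosed P ∧ F.StronglyClosed (Q ⊔ P) ∧ F.StronglyClosed (Q ⊓ P)

/-- The fully normalized subgroups of order `d` have inner normalizer systems. -/
def NInner {Ω : Type u} [Group Ω] {S : Subgroup Ω} (F : FusionSystem S) (d : ℕ) : Prop :=
  ∀ H : Subgroup Ω, F.IsFullyNormalized H → Nat.card H = d →
    ∀ N : FusionSystem (normalizerIn S H), F.IsNormalizerSystem H N →
      ∀ P : Subgroup Ω, N.Hom P = (innerFusionSystem (normalizerIn S H)).Hom P

section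

variable {Ω : Type u} [Group Ω] {S : Subgroup Ω} [Finite S] {p : ℕ} [Fact p.Prime]
  {F : FusionSystem S}

/-- Subgroups of every intermediate order exist between two `p`-subgroups. -/
theorem exists_between (hS : IsPGroup p S) {A B : Subgroup Ω} (hAB : A ≤ B) (hB : B ≤ S) {m : ℕ}
    (h1 : Nat.card A ≤ p ^ m) (h2 : p ^ m ≤ Nat.card B) :
    ∃ Q : Subgroup Ω, A ≤ Q ∧ Q ≤ B ∧ Nat.card Q = p ^ m := by
  have := finite_of_le hB
  have := finite_of_le (hAB.trans hB)
  obtain ⟨b, hb⟩ := (hS.to_le hB).exists_card_eq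
  obtain ⟨a, ha⟩ := (hS.to_le (hAB.trans hB)).exists_card_eq
  have hp := (Fact.out : p.Prime).one_lt
  have hmb : m ≤ b := (Nat.pow_le_pow_iff_right hp).1 (hb ▸ h2)
  have ham : a ≤ m := (Nat.pow_le_pow_iff_right hp).1 (ha ▸ h1)
  obtain ⟨K, hK, hAK⟩ := Sylow.exists_subgroup_card_pow_prime_le p (G := B) (n := a) (m := m)
    (hb ▸ pow_dvd_pow p hmb) (A.subgroupOf B)
    (by rw [Nat.card_congr (Subgroup.subgroupOfEquivOfLe hAB).toEquiv, ha]) ham
  refine ⟨K.map B.subtype, fun x hx => ⟨⟨x, hAB hx⟩, hAK hx, rfl⟩, Subgroup.map_subtype_le K, ?_⟩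
  rw [Subgroup.card_map_of_injective B.subtype_injective, hK]

/-- The join of two strongly closed subgroups of a saturated system is strongly closed. -/
theorem stronglyClosed_sup (hS : IsPGroup p S) (hF : F.IsSaturated p) {P T : Subgroup Ω}
    (hP : F.StronglyClosed P) (hT : F.StronglyClosed T) : F.StronglyClosed (P ⊔ T) := by
  refine stronglyClosed_iff.2 ⟨sup_le hP.1 hT.1, fun R f hf x hx hxs => ?_⟩
  obtain ⟨g, hg, hv⟩ := exists_map_sup_congr hS hF hT hf
  rw [← SetLike.mem_coe, Subgroup.coe_mul_of_left_le_normalizer_right P T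
    (hP.1.trans (le_normalizer_of_stronglyClosed hT))] at hxs
  obtain ⟨u, hu, t, ht, rfl⟩ := hxs
  have htR : t ∈ R ⊔ T := Subgroup.mem_sup_right ht
  have huR : u ∈ R ⊔ T := by
    have := Subgroup.mul_mem _ (Subgroup.mem_sup_left hx : u * t ∈ R ⊔ T) (Subgroup.inv_mem _ htR)
    rwa [mul_inv_cancel_right] at this
  have h1 : f (u * t) = g u * g t * ((f (u * t))⁻¹ * g (u * t))⁻¹ := by
    rw [hg.map_mul huR htR]; group
  rw [h1]
  exact Subgroup.mul_mem _ (Subgroup.mul_mem _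
    (Subgroup.mem_sup_left (isMap_mem_of_stronglyClosed hP hg huR hu))
    (Subgroup.mem_sup_right (isMap_mem_of_stronglyClosed hT hg htR ht)))
    (Subgroup.inv_mem _ (Subgroup.mem_sup_right (hv _ hx)))

/-- An automorphism of a subgroup of order at least `d` normalizes a normal subgroup of order `d`. -/
theorem exists_invariant {m : ℕ} (hS : IsPGroup p S) (hemb : WEmb F (p ^ m)) {A : Subgroup Ω}
    (hA : A ≤ S) (hd : p ^ m ≤ Nat.card A) {a : MulAut A} (ha : a ∈ F.autGroup A) :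
    ∃ H : Subgroup A, H.Normal ∧ Nat.card H = p ^ m ∧ ∀ x ∈ H, a x ∈ H := by
  classical
  have := finite_of_le hA
  let good : Subgroup A → Prop := fun X => X.Normal ∧ X.map a.toMonoidHom ≤ X
  have hinf : ∀ X Z, good X → good Z → good (X ⊓ Z) := by
    rintro X Z ⟨h1, h2⟩ ⟨h3, h4⟩
    exact ⟨inferInstance, le_inf ((Subgroup.map_mono inf_le_left).trans h2)
      ((Subgroup.map_mono inf_le_right).trans h4)⟩
  have hsup : ∀ X Z, good X → good Z → good (X ⊔ Z) := by
    rintro X Z ⟨h1, h2⟩ ⟨h3, h4⟩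
    exact ⟨inferInstance, by rw [Subgroup.map_sup]; exact sup_le_sup h2 h4⟩
  have hscl : ∀ T : Subgroup Ω, F.StronglyClosed T → good (T.subgroupOf A) := by
    intro T hT
    refine ⟨(Subgroup.normal_subgroupOf_iff_le_normalizer_inf).2 ?_, ?_⟩
    · intro g hg
      have hgn := le_normalizer_of_stronglyClosed hT (hA hg)
      exact Subgroup.mem_normalizer_iff.2 fun y =>
        ⟨fun hy => ⟨(Subgroup.mem_normalizer_iff.1 hgn y).1 hy.1,
            A.mul_mem (A.mul_mem hg hy.2) (A.inv_mem hg)⟩,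
          fun hy => ⟨(Subgroup.mem_normalizer_iff.1 hgn y).2 hy.1, by
            have := A.mul_mem (A.mul_mem (A.inv_mem hg) hy.2) hg
            simpa [mul_assoc] using this⟩⟩
    · rintro _ ⟨x, hx, rfl⟩
      have := isMap_mem_of_stronglyClosed hT ((mem_autGroup_iff hA a).1 ha).isMap x.2 hx
      rwa [autFun_coe] at this
  have hbot : good ⊥ := ⟨inferInstance, by simp⟩
  have htop : good ⊤ := ⟨inferInstance, le_top⟩
  obtain ⟨X, ⟨hXg, hXc⟩, hXmax⟩ := Set.exists_max_image
    {X : Subgroup A | good X ∧ Nat.card X ≤ p ^ m} (fun X => Nat.card X) (Set.toFinite _)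
    ⟨⊥, hbot, by rw [Subgroup.card_bot]; exact Nat.one_le_pow _ _ (Fact.out : p.Prime).pos⟩
  rcases hXc.eq_or_lt with hXc' | hXlt
  · exact ⟨X, hXg.1, hXc', fun x hx => hXg.2 ⟨x, hx, rfl⟩⟩
  exfalso
  obtain ⟨Y, ⟨hYg, hXY⟩, hYmin⟩ := Set.exists_min_image
    {Y : Subgroup A | good Y ∧ X < Y} (fun Y => Nat.card Y) (Set.toFinite _)
    ⟨⊤, htop, lt_top_iff_ne_top.2 fun h => by
      rw [h, Subgroup.card_top] at hXlt; omega⟩
  have hYc : p ^ m < Nat.card Y := by
    by_contra hle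
    have h1 := hXmax Y ⟨hYg, not_lt.1 hle⟩
    exact hXY.ne (Subgroup.eq_of_le_of_card_ge hXY.le h1)
  have hYA : Y.map A.subtype ≤ S := (Subgroup.map_subtype_le Y).trans hA
  obtain ⟨Q, hXQ, hQY, hQc⟩ := exists_between hS (A := X.map A.subtype) (B := Y.map A.subtype)
    (Subgroup.map_mono hXY.le) hYA (m := m)
    (by rw [Subgroup.card_map_of_injective A.subtype_injective]; exact hXlt.le)
    (by rw [Subgroup.card_map_of_injective A.subtype_injective]; exact hYc.le)
  have hQA : Q ≤ A := hQY.trans (Subgroup.map_subtype_le Y)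
  have hQS : Q ≤ S := hQA.trans hA
  set Q₀ := Q.subgroupOf A with hQ₀
  have hQ₀c : Nat.card Q₀ = p ^ m := by
    rw [hQ₀, Nat.card_congr (Subgroup.subgroupOfEquivOfLe hQA).toEquiv, hQc]
  have hXQ₀ : X ≤ Q₀ := fun x hx => hXQ ⟨x, hx, rfl⟩
  have hQ₀Y : Q₀ ≤ Y := fun x hx => by
    obtain ⟨y, hy, e⟩ := hQY (hx : (x : Ω) ∈ Q)
    rwa [show y = x from Subtype.ext e] at hy
  obtain ⟨P, hP, hQP, hQiP⟩ := hemb Q hQS hQc
  set PA := P.subgroupOf A with hPA
  have hQiX : Q₀ ⊓ PA ≤ X := by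
    have hz : good (Q₀ ⊓ PA) := by
      have h := hscl _ hQiP
      rwa [show (Q ⊓ P).subgroupOf A = Q₀ ⊓ PA from rfl] at h
    have hXZ := hsup _ _ hXg hz
    have hle : X ⊔ Q₀ ⊓ PA ≤ Q₀ := sup_le hXQ₀ inf_le_left
    have h1 := hXmax (X ⊔ Q₀ ⊓ PA) ⟨hXZ, by
      have := Subgroup.card_le_of_le hle; omega⟩
    exact le_sup_right.trans (Subgroup.eq_of_le_of_card_ge le_sup_left h1).ge
  -- `Y` is covered by `Q` and `P`
  have hYQP : ∀ y ∈ Y, ∃ q ∈ Q₀, ∃ r ∈ Y ⊓ PA, y = q * r := by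
    intro y hy
    have hz := hinf _ _ hYg (hscl _ hQP)
    have hQle : Q₀ ≤ Y ⊓ (Q ⊔ P).subgroupOf A := le_inf hQ₀Y fun x hx =>
      (Subgroup.mem_sup_left (hx : (x : Ω) ∈ Q) : (x : Ω) ∈ Q ⊔ P)
    have hlt : X < Y ⊓ (Q ⊔ P).subgroupOf A := lt_of_lt_of_le
      (lt_of_le_of_ne hXQ₀ fun e => by rw [e, hQ₀c] at hXlt; omega) hQle
    have h1 := hYmin _ ⟨hz, hlt⟩
    have hYe : Y ⊓ (Q ⊔ P).subgroupOf A = Y := Subgroup.eq_of_le_of_card_ge inf_le_left h1
    have hyQP : (y : Ω) ∈ Q ⊔ P := (hYe.ge hy).2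
    rw [← SetLike.mem_coe, Subgroup.coe_mul_of_left_le_normalizer_right Q P
      (hQS.trans (le_normalizer_of_stronglyClosed hP))] at hyQP
    obtain ⟨q, hq, r, hr, e⟩ := hyQP
    have hqA : q ∈ A := hQA hq
    refine ⟨⟨q, hqA⟩, hq, (⟨q, hqA⟩ : A)⁻¹ * y, ⟨Y.mul_mem (Y.inv_mem (hQ₀Y hq)) hy, ?_⟩, by group⟩
    show q⁻¹ * (y : Ω) ∈ P
    rw [← e]
    simpa using hr
  have hW := hsup _ _ hXg (hinf _ _ hYg (hscl _ hP))
  rcases (sup_le hXY.le inf_le_left : X ⊔ Y ⊓ PA ≤ Y).eq_or_lt with hWY | hWY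
  · have hq : Q₀ ≤ X := by
      intro q hq
      have hqY : q ∈ ((X ⊔ Y ⊓ PA : Subgroup A) : Set A) := by rw [hWY]; exact hQ₀Y hq
      have hXn := hXg.1
      rw [Subgroup.normal_mul] at hqY
      obtain ⟨x, hx, r, hr, rfl⟩ := hqY
      have hrQ : r ∈ Q₀ := by
        have := Q₀.mul_mem (Q₀.inv_mem (hXQ₀ hx)) hq
        rwa [inv_mul_cancel_left] at this
      exact X.mul_mem hx (hQiX ⟨hrQ, hr.2⟩)
    have := Subgroup.card_le_of_le hq
    omega
  · have hWX : X ⊔ Y ⊓ PA = X := by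
      by_contra hne
      have h1 := hYmin _ ⟨hW, lt_of_le_of_ne le_sup_left (Ne.symm hne)⟩
      exact hWY.ne (Subgroup.eq_of_le_of_card_ge hWY.le h1)
    have hYQ : Y ≤ Q₀ := fun y hy => by
      obtain ⟨q, hq, r, hr, rfl⟩ := hYQP y hy
      exact Q₀.mul_mem hq (hXQ₀ (hWX.le (Subgroup.mem_sup_right hr)))
    have := Subgroup.card_le_of_le hYQ
    omega

/-- The automizers of subgroups of order at least `d` have no nontrivial `p'`-elements. -/
theorem coprime_eq_one {m : ℕ} (hS : IsPGroup p S) (hF : F.IsSaturated p)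
    (hemb : WEmb F (p ^ m)) (hN : NInner F (p ^ m)) {A : Subgroup Ω}
    (hA : A ≤ S) (hd : p ^ m ≤ Nat.card A) {a : MulAut A} (ha : a ∈ F.autGroup A)
    (hac : (orderOf a).Coprime p) : a = 1 := by
  have := finite_of_le hA
  obtain ⟨H₀, hH₀n, hH₀c, hH₀a⟩ := exists_invariant hS hemb hA hd ha
  set H := H₀.map A.subtype with hHdef
  have hHA : H ≤ A := Subgroup.map_subtype_le H₀
  have hH : H ≤ S := hHA.trans hA
  have hHc : Nat.card H = p ^ m := by
    rw [hHdef, Subgroup.card_map_of_injective A.subtype_injective, hH₀c]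
  have hAN : A ≤ normalizerIn S H := fun g hg => ⟨hA hg, mem_normalizer_of_conj_mem hH fun x hx => by
    obtain ⟨y, hy, rfl⟩ := hx
    exact ⟨⟨g, hg⟩ * y * ⟨g, hg⟩⁻¹, hH₀n.conj_mem y hy _, rfl⟩⟩
  obtain ⟨R, hR, hfn⟩ := exists_isFullyNormalized (F := F) hH
  obtain ⟨g, hg, hgi, hgN, -⟩ := exists_map_normalizerIn hS
    (isFullyAutomized_of_isFullyNormalized hS hF hfn)
    (isReceptive_of_isFullyNormalized hS hF hfn) hR
  obtain ⟨B, hB⟩ := (hg.mono hAN).exists_iso
  have hBN : B ≤ normalizerIn S R := fun y hy => by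
    obtain ⟨x, hx, rfl⟩ := hB.surj hy
    exact hgN x (hAN hx)
  have hRB : R ≤ B := fun y hy => by
    obtain ⟨x, hx, rfl⟩ := hgi.surj hy
    exact hB.mem (hHA hx)
  set b : MulAut B := MulAut.congr hB.equiv a with hbdef
  have hb : b ∈ F.autGroup B := hB.congr_mem_autGroup ha
  have hbv : ∀ (x : Ω) (hx : x ∈ A), autFun b (g x) = g (a ⟨x, hx⟩ : Ω) := by
    intro x hx
    rw [show g x = ((hB.equiv ⟨x, hx⟩ : B) : Ω) from (hB.equiv_apply ⟨x, hx⟩).symm, autFun_coe,
      hbdef]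
    show ((hB.equiv (a (hB.equiv.symm (hB.equiv ⟨x, hx⟩)))) : Ω) = _
    rw [MulEquiv.symm_apply_apply, hB.equiv_apply]
  have hbi := (mem_autGroup_iff hB.le_right b).1 hb
  have hbR : autFun b '' (R : Set Ω) = R := image_eq_of_mem hfn.1 hbi.isMap hRB fun y hy => by
    obtain ⟨x, hx, rfl⟩ := hgi.surj hy
    rw [hbv x (hHA hx)]
    refine hgi.mem ?_
    obtain ⟨x', hx', rfl⟩ := hx
    exact ⟨a x', hH₀a x' hx', rfl⟩
  set E := normalizerSystem F R hfn.1 with hEdef
  have hE : F.IsNormalizerSystem R E := fun _ => rfl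
  have hBS : ∀ x ∈ B, autFun b x ∈ normalizerIn S R := fun x hx => hBN (hbi.mem hx)
  obtain ⟨φ, hφ, hv⟩ : IsMap E B (autFun b) := (isMap_normalizerSystem_iff hE).2
    ⟨hBN, hBS, autFun b, by rw [sup_eq_left.2 hRB]; exact hbi.isMap, fun _ _ => rfl, hbR⟩
  rw [hN R hfn (hgi.card_eq.trans hHc) E hE B] at hφ
  have hmem : b ∈ (innerFusionSystem (normalizerIn S R)).autGroup B :=
    (mem_autGroup_iff hBN b).2 ⟨⟨φ, hφ, hv⟩, hbi.image_eq⟩
  rw [autGroup_inner hBN] at hmem
  have hb1 : b = 1 := coprime_pGroup_eq_one (isPGroup_autInducedBy (hS.to_le inf_le_left) B) hmem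
    (by rw [hbdef, MulEquiv.orderOf_eq]; exact hac)
  exact (MulAut.congr hB.equiv).injective (by rw [← hbdef, hb1, map_one])

/-- The hyperfocal subgroup lies in `Y` as soon as the automorphisms of order prime to `p` of the
subgroups above `Y` are trivial modulo `Y`. -/
theorem hyperfocal_le_of_above (hS : IsPGroup p S) (hF : F.IsSaturated p) {Y : Subgroup Ω}
    (hY : F.StronglyClosed Y)
    (h : ∀ (R : Subgroup Ω) (b : MulAut R), Y ≤ R → R ≤ S → b ∈ F.autGroup R →
      (orderOf b).Coprime p → ∀ x : R, (x : Ω)⁻¹ * (b x : R) ∈ Y) :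
    F.hyperfocalSubgroup p ≤ Y := by
  refine hyperfocal_le_of_coprime fun P a hP ha hac x => ?_
  obtain ⟨b, hb, hv⟩ := exists_autGroup_sup_congr hS hF hY hP ha
  have hsup : P ⊔ Y ≤ S := sup_le hP hY.1
  have := finite_of_le hsup
  have := finite_mulAut ↥(P ⊔ Y)
  obtain ⟨n, -, -, -, hbc, -⟩ := CfsgLib.Transfer.exists_pow_coprime_part (p := p) b
  obtain ⟨k, hk⟩ : ∃ k, (a ^ p ^ n) ^ k = a :=
    exists_pow_eq_self_of_coprime (Nat.Coprime.pow_left n hac.symm)
  rw [← pow_mul] at hk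
  have h1 := pow_congr_mod hY hP hb hv (p ^ n * k) x
  rw [hk] at h1
  have h2 := h (P ⊔ Y) ((b ^ p ^ n) ^ k) le_sup_right hsup
    (Subgroup.pow_mem _ (Subgroup.pow_mem _ hb _) _)
    (Nat.Coprime.coprime_dvd_left (orderOf_pow_dvd k) hbc) ⟨x, Subgroup.mem_sup_left x.2⟩
  rw [← pow_mul] at h2
  have h3 := Y.mul_mem h2 (Y.inv_mem h1)
  rw [mul_assoc] at h3
  simpa [mul_inv_rev, ← mul_assoc] using h3

/-- Tate's theorem relative to a strongly closed subgroup. -/
theorem exists_index_prime (hS : IsPGroup p S) (hF : F.IsSaturated p) {Y : Subgroup Ω}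
    (hY : F.StronglyClosed Y) (hne : ¬ F.hyperfocalSubgroup p ≤ Y) :
    ∃ M : Subgroup S, M.Normal ∧ M.index = p ∧ Y.subgroupOf S ≤ M ∧
      ¬ (F.hyperfocalSubgroup p).subgroupOf S ≤ M := by
  have hn : (Y.subgroupOf S).Normal :=
    (Subgroup.normal_subgroupOf_iff_le_normalizer hY.1).2 (le_normalizer_of_stronglyClosed hY)
  obtain ⟨E, hE⟩ := exists_factorSystem (F := F) hY
    (θ := QuotientGroup.mk' (Y.subgroupOf S))
    (fun s => by rw [QuotientGroup.mk'_apply, QuotientGroup.eq_one_iff]; rfl)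
    (S' := (⊤ : Subgroup (S ⧸ Y.subgroupOf S)))
    (MonoidHom.range_eq_top.2 (QuotientGroup.mk'_surjective _))
  have hQ : IsPGroup p (S ⧸ Y.subgroupOf S) := hS.to_quotient _
  have hQt : IsPGroup p (⊤ : Subgroup (S ⧸ Y.subgroupOf S)) := hQ.to_subgroup _
  have hEs := isSaturated_factor hS hF hY hE
  have hhyp := hyperfocal_factor hS hF hY hE
  by_contra hcon
  push Not at hcon
  have hle : (E.hyperfocalSubgroup p).subgroupOf (⊤ : Subgroup (S ⧸ Y.subgroupOf S)) ≤
      frattini _ ⊔ ⊥ := by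
    rw [sup_bot_eq]
    refine le_iInf₂ fun K hK => ?_
    let θ' : S →* (⊤ : Subgroup (S ⧸ Y.subgroupOf S)) :=
      Subgroup.topEquiv.symm.toMonoidHom.comp (QuotientGroup.mk' (Y.subgroupOf S))
    have hsurj : Function.Surjective θ' := Subgroup.topEquiv.symm.surjective.comp
      (QuotientGroup.mk'_surjective _)
    have hM : IsCoatom (K.comap θ') := Subgroup.isCoatom_comap_of_surjective hsurj hK
    have := normalizerCondition_of_isNilpotent (G := S) (h := hS.isNilpotent)
    have hMn : (K.comap θ').Normal := Subgroup.NormalizerCondition.normal_of_coatom _ this hM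
    have hMi : (K.comap θ').index = p := by
      obtain ⟨j, hj⟩ := (hS.to_subgroup (K.comap θ')).exists_card_eq
      obtain ⟨n, hn'⟩ := hS.exists_card_eq
      have hlt : Nat.card (K.comap θ') < Nat.card S := by
        rcases (Subgroup.card_le_card_group (K.comap θ')).eq_or_lt with h | h
        · exact absurd (Subgroup.eq_top_of_card_eq _ h) hM.1
        · exact h
      rw [hj, hn', Nat.pow_lt_pow_iff_right (Fact.out : p.Prime).one_lt] at hlt
      obtain ⟨K', hK', hKK'⟩ := Sylow.exists_subgroup_card_pow_succ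
        (hn' ▸ pow_dvd_pow p hlt) hj
      have hlt' : K.comap θ' < K' := lt_of_le_of_ne hKK' fun e => by
        rw [e, hK'] at hj
        exact absurd (Nat.pow_right_injective (Fact.out : p.Prime).two_le hj) (by omega)
      rw [hM.2 _ hlt', Subgroup.card_top] at hK'
      have := Subgroup.card_mul_index (K.comap θ')
      rw [hj, hK', pow_succ] at this
      exact Nat.eq_of_mul_eq_mul_left (pow_pos (Fact.out : p.Prime).pos j) this
    have hYM : Y.subgroupOf S ≤ K.comap θ' := fun y hy => by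
      rw [Subgroup.mem_comap, show θ' y = 1 from Subtype.ext ((QuotientGroup.eq_one_iff y).2 hy)]
      exact K.one_mem
    intro z hz
    rw [Subgroup.mem_subgroupOf, hhyp] at hz
    obtain ⟨s, hs, e⟩ := hz
    have := hcon _ hMn hMi hYM hs
    rwa [Subgroup.mem_comap, show θ' s = z from Subtype.ext e] at this
  have h0 := hyperfocal_subgroupOf_eq hQt hEs (H := ⊥) bot_le hle
  refine hne fun x hx => ?_
  have hxS := hyperfocal_le hx
  have hz : QuotientGroup.mk' (Y.subgroupOf S) ⟨x, hxS⟩ ∈ E.hyperfocalSubgroup p :=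
    hhyp ▸ ⟨⟨x, hxS⟩, hx, rfl⟩
  have hz' : (⟨_, Subgroup.mem_top _⟩ : (⊤ : Subgroup (S ⧸ Y.subgroupOf S))) ∈
      (E.hyperfocalSubgroup p).subgroupOf ⊤ := (Subgroup.mem_subgroupOf).2 hz
  rw [h0, Subgroup.mem_bot] at hz'
  have h3 : (⟨x, hxS⟩ : S) ∈ Y.subgroupOf S :=
    (QuotientGroup.eq_one_iff (⟨x, hxS⟩ : S)).1 (congrArg Subtype.val hz')
  exact h3

/-- The automorphisms of a strongly closed subgroup act trivially on a strongly closed factor of
order `p` in it, provided the automorphisms of `S` form a `p`-group. -/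
theorem trivial_on_factor (hS : IsPGroup p S) (hF : F.IsSaturated p) {Y N : Subgroup Ω}
    (hY : F.StronglyClosed Y) (hN : F.StronglyClosed N) (hYN : Y ≤ N)
    (hc : Nat.card N = p * Nat.card Y) (haut : IsPGroup p (F.autGroup S)) {a : MulAut N}
    (ha : a ∈ F.autGroup N) (u : N) : (u : Ω)⁻¹ * (a u : N) ∈ Y := by
  have := finite_of_le hN.1
  have := finite_mulAut N
  set A := F.autGroup N
  have hYmem : ∀ (β : MulAut N), β ∈ A → ∀ v : N, (v : Ω) ∈ Y → (β v : Ω) ∈ Y :=
    fun β hβ v hv => by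
      rw [← autFun_coe β]
      exact isMap_mem_of_stronglyClosed hY ((mem_autGroup_iff hN.1 β).1 hβ).isMap v.2 hv
  let K : Subgroup A :=
    { carrier := {β | ∀ v : N, (v : Ω)⁻¹ * ((β : MulAut N) v : Ω) ∈ Y}
      one_mem' := fun v => by
        show (v : Ω)⁻¹ * (v : Ω) ∈ Y
        rw [inv_mul_cancel]; exact Y.one_mem
      mul_mem' := fun {β γ} hβ hγ v => by
        have := Y.mul_mem (hγ v) (hβ ((γ : MulAut N) v))
        show (v : Ω)⁻¹ * ((β : MulAut N) ((γ : MulAut N) v) : Ω) ∈ Y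
        simpa [mul_assoc] using this
      inv_mem' := fun {β} hβ v => by
        have := Y.inv_mem (hβ ((β : MulAut N)⁻¹ v))
        rw [MulAut.apply_inv_self] at this
        show (v : Ω)⁻¹ * ((β : MulAut N)⁻¹ v : Ω) ∈ Y
        simpa [mul_inv_rev] using this }
  have hnS : normalizerIn S N = S := inf_eq_left.2 (le_normalizer_of_stronglyClosed hN)
  have hfn : F.IsFullyNormalized N := ⟨hN.1, fun R _ => by
    rw [hnS]; exact Subgroup.card_le_of_le inf_le_left⟩
  obtain ⟨T, hT⟩ := (isFullyAutomized_of_isFullyNormalized hS hF hfn).2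
  have hr := isReceptive_of_isFullyNormalized hS hF hfn
  -- the factor is central
  have hYn : (Y.subgroupOf S).Normal :=
    (Subgroup.normal_subgroupOf_iff_le_normalizer hY.1).2 (le_normalizer_of_stronglyClosed hY)
  have hNn : (N.subgroupOf S).Normal :=
    (Subgroup.normal_subgroupOf_iff_le_normalizer hN.1).2 (le_normalizer_of_stronglyClosed hN)
  set π := QuotientGroup.mk' (Y.subgroupOf S)
  set Nb := (N.subgroupOf S).map π with hNb
  have hNbn : Nb.Normal := hNn.map π (QuotientGroup.mk'_surjective _)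
  have hNbc : Nat.card Nb = p := by
    have h1 : Y.subgroupOf S ≤ N.subgroupOf S := fun x hx => hYN hx
    have h2 : Nat.card Nb = (Y.subgroupOf S).relIndex (N.subgroupOf S) := by
      rw [hNb, ← Subgroup.relIndex_ker, QuotientGroup.ker_mk']
    rw [h2]
    have h3 := Subgroup.relIndex_mul_index h1
    have h4 := Subgroup.card_mul_index (Y.subgroupOf S)
    have h5 := Subgroup.card_mul_index (N.subgroupOf S)
    rw [Nat.card_congr (Subgroup.subgroupOfEquivOfLe hY.1).toEquiv] at h4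
    rw [Nat.card_congr (Subgroup.subgroupOfEquivOfLe hN.1).toEquiv, hc] at h5
    rw [← h3, ← h5] at h4
    have hpos : 0 < Nat.card Y * (N.subgroupOf S).index := by
      have := finite_of_le hY.1
      exact Nat.mul_pos Nat.card_pos (Nat.pos_of_ne_zero Subgroup.index_ne_zero_of_finite)
    refine Nat.eq_of_mul_eq_mul_right hpos ?_
    calc _ = Nat.card Y * ((Y.subgroupOf S).relIndex (N.subgroupOf S) *
          (N.subgroupOf S).index) := by ring
      _ = _ := by rw [h4]; ring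
  have hNbne : Nb ≠ ⊥ := fun e => by
    rw [e, Subgroup.card_bot] at hNbc
    exact (Fact.out : p.Prime).one_lt.ne hNbc
  have := (hS.to_quotient (Y.subgroupOf S)).isNilpotent
  have hcen : Nb ≤ Subgroup.center (S ⧸ Y.subgroupOf S) := by
    have hne := CfsgLib.Critical.inf_center_ne_bot Nb hNbne
    have hdvd : Nat.card ↥(Nb ⊓ Subgroup.center (S ⧸ Y.subgroupOf S)) ∣ p :=
      hNbc ▸ Subgroup.card_dvd_of_le inf_le_left
    rcases (Nat.dvd_prime Fact.out).1 hdvd with h | h
    · exact absurd (Subgroup.card_eq_one.1 h) hne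
    · exact (Subgroup.eq_of_le_of_card_ge inf_le_left (by rw [h, hNbc])).ge.trans inf_le_right
  have hTK : (T : Subgroup A) ≤ K := by
    intro β hβ v
    rw [hT] at hβ
    obtain ⟨s, hs, hsv⟩ := (mem_autInducedBy_iff S N _).1 hβ
    show (v : Ω)⁻¹ * ((β : MulAut N) v : Ω) ∈ Y
    have hsv' : ((β : MulAut N) v : Ω) = s * v * s⁻¹ := hsv v
    rw [hsv']
    let v' : S := ⟨v, hN.1 v.2⟩
    let s' : S := ⟨s, hs⟩
    have h1 := Subgroup.mem_center_iff.1 (hcen ⟨v', v.2, rfl⟩) (π s')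
    have h2 : π (v'⁻¹ * (s' * v' * s'⁻¹)) = 1 := by
      rw [map_mul, map_mul, map_mul, map_inv, map_inv, h1, mul_inv_cancel_right, inv_mul_cancel]
    have h3 : v'⁻¹ * (s' * v' * s'⁻¹) ∈ Y.subgroupOf S :=
      (QuotientGroup.eq_one_iff (N := Y.subgroupOf S) _).1 h2
    exact h3
  have hKn : K.Normal := ⟨fun β hβ δ v => by
    have h1 := hYmem (δ : MulAut N) δ.2
      (((δ : MulAut N)⁻¹ v)⁻¹ * (β : MulAut N) ((δ : MulAut N)⁻¹ v))
      (hβ ((δ : MulAut N)⁻¹ v))
    rw [map_mul, map_inv, MulAut.apply_inv_self] at h1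
    simpa using h1⟩
  have hPg : IsPGroup p (Subgroup.normalizer ((T : Subgroup A) : Set A)) := by
    rintro ⟨ν, hν⟩
    have hν' := (mem_autGroup_iff hN.1 (ν : MulAut N)).1 ν.2
    obtain ⟨e, he, hev⟩ := (isReceptive_iff.1 hr).2 N _ hν'
    have hsub : S ≤ nPhi S N (autFun (ν : MulAut N)) := by
      intro s hs
      have hsn := le_normalizer_of_stronglyClosed hN hs
      let c : A := ⟨conjAut N hsn, autInducedBy_le_autGroup hN.1
        (conjAut_mem_autInducedBy hsn hs)⟩
      have hcT : c ∈ (T : Subgroup A) := by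
        rw [hT]; exact conjAut_mem_autInducedBy hsn hs
      have hc' := (Subgroup.mem_normalizer_iff.1 hν c).1 hcT
      rw [hT] at hc'
      obtain ⟨t, ht, htv⟩ := (mem_autInducedBy_iff S N _).1 hc'
      refine ⟨hs, hsn, t, ht, fun x hx => ?_⟩
      have h1 : ((((ν : MulAut N) * (c : MulAut N) * (ν : MulAut N)⁻¹)
          ((ν : MulAut N) ⟨x, hx⟩) : N) : Ω) =
          t * ((ν : MulAut N) ⟨x, hx⟩ : Ω) * t⁻¹ := htv _
      rw [MulAut.mul_apply, MulAut.inv_apply_self, MulAut.mul_apply] at h1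
      rw [autFun_apply _ hx, ← h1, autFun_apply _ (conj_mem_of_mem_normalizer hsn hx)]
      rfl
    have heS := (he.mono hsub).isIso_of_card_le (fun x hx => (he.mono hsub).mem hx) le_rfl
    obtain ⟨β, hβ, hβv⟩ := exists_mem_autGroup heS
    obtain ⟨k, hk⟩ := haut ⟨β, hβ⟩
    refine ⟨k, Subtype.ext (Subtype.ext (MulEquiv.ext fun x => ?_))⟩
    have hpow : ∀ (j : ℕ) (x : N), ((β ^ j) ⟨x, hN.1 x.2⟩ : Ω) = (((ν : MulAut N) ^ j) x : Ω) := by
      intro j
      induction j with
      | zero => intro x; rfl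
      | succ j ih =>
        intro x
        rw [pow_succ', pow_succ', MulAut.mul_apply, MulAut.mul_apply, hβv, ih x]
        rw [hev _ (((ν : MulAut N) ^ j) x).2, autFun_coe]
    have h1 := hpow (p ^ k) x
    rw [show β ^ p ^ k = 1 from congrArg Subtype.val hk] at h1
    show (((((⟨ν, hν⟩ : Subgroup.normalizer ((T : Subgroup A) : Set A)) ^ p ^ k) : _) : A) :
      MulAut N) x = (1 : MulAut N) x
    simp only [SubgroupClass.coe_pow, MulAut.one_apply]
    exact Subtype.ext h1.symm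
  have hK : K = ⊤ := by
    rw [← top_le_iff, ← Sylow.normalizer_sup_eq_top' T hTK]
    exact sup_le ((T.3 hPg Subgroup.le_normalizer).le.trans hTK) le_rfl
  exact (hK.ge (Subgroup.mem_top (⟨a, ha⟩ : A))) u

/-- The hyperfocal subgroup lies in every strongly closed subgroup. -/
theorem hyperfocal_le_stronglyClosed {m : ℕ} (hS : IsPGroup p S) (hF : F.IsSaturated p)
    (hemb : WEmb F (p ^ m)) (hN : NInner F (p ^ m)) (hm : p ^ m < Nat.card S) :
    ∀ (n : ℕ) (Y : Subgroup Ω), F.StronglyClosed Y → Nat.card S - Nat.card Y ≤ n →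
      F.hyperfocalSubgroup p ≤ Y := by
  have hbig : ∀ (R : Subgroup Ω) (b : MulAut R), R ≤ S → p ^ m ≤ Nat.card R → b ∈ F.autGroup R →
      (orderOf b).Coprime p → b = 1 := fun R b hR hd hb hc =>
    coprime_eq_one hS hF hemb hN hR hd hb hc
  intro n
  induction n using Nat.strong_induction_on with
  | _ n IH =>
  intro Y hY hn
  have := finite_of_le hY.1
  rcases le_or_gt (p ^ m) (Nat.card Y) with hYd | hYd
  · refine hyperfocal_le_of_above hS hF hY fun R b hYR hR hb hc x => ?_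
    have := finite_of_le hR
    rw [hbig R b hR (hYd.trans (Subgroup.card_le_of_le hYR)) hb hc]
    simp
  by_contra hne
  set N := F.hyperfocalSubgroup p ⊔ Y with hNdef
  have hNsc : F.StronglyClosed N := stronglyClosed_sup hS hF (stronglyClosed_hyperfocal hS hF) hY
  have hYN : Y < N := lt_of_le_of_ne le_sup_right fun e => hne (le_sup_left.trans e.ge)
  have habove : ∀ Z : Subgroup Ω, F.StronglyClosed Z → Y < Z → N ≤ Z := by
    intro Z hZ hYZ
    refine sup_le (IH (Nat.card S - Nat.card Z) ?_ Z hZ le_rfl) hYZ.le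
    have := finite_of_le hZ.1
    have h1 : Nat.card Y < Nat.card Z :=
      Set.Finite.card_lt_card (Set.toFinite _) (SetLike.coe_ssubset_coe.2 hYZ)
    have := Subgroup.card_le_of_le hZ.1
    omega
  have := finite_of_le hNsc.1
  obtain ⟨i, hi⟩ := (hS.to_le hY.1).exists_card_eq
  obtain ⟨j, hj⟩ := (hS.to_le hNsc.1).exists_card_eq
  have hij : i < j := (Nat.pow_lt_pow_iff_right (Fact.out : p.Prime).one_lt).1 (by
    rw [← hi, ← hj]
    exact Set.Finite.card_lt_card (Set.toFinite _) (SetLike.coe_ssubset_coe.2 hYN))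
  have him : i < m := (Nat.pow_lt_pow_iff_right (Fact.out : p.Prime).one_lt).1 (hi ▸ hYd)
  obtain ⟨t, ht⟩ := hS.exists_card_eq
  rcases (show i + 1 ≤ j from hij).eq_or_lt with hj1 | hj2
  · -- a factor of order `p`
    have hautS : IsPGroup p (F.autGroup S) := by
      have := finite_mulAut S
      exact isPGroup_of_coprime_trivial' fun a hac => Subtype.ext
        (hbig S _ le_rfl hm.le a.2 (by rwa [Subgroup.orderOf_coe]))
    refine hne (hyperfocal_le_of_above hS hF hY fun R b hYR hR hb hbc x => ?_)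
    have := finite_of_le hR
    have := finite_mulAut R
    set δ : R := x⁻¹ * b x with hδ
    have hδN : (δ : Ω) ∈ N := Subgroup.mem_sup_left (Subgroup.subset_closure
      ⟨R, ⟨b, hb⟩, x, hR, Subgroup.subset_closure (by rwa [Set.mem_setOf_eq, ← Subgroup.orderOf_coe]),
        rfl⟩)
    have hYb : ∀ v : R, (v : Ω) ∈ Y → (b v : Ω) ∈ Y := fun v hv => by
      rw [← autFun_coe b]
      exact isMap_mem_of_stronglyClosed hY ((mem_autGroup_iff hR b).1 hb).isMap v.2 hv
    have hfix : ∀ v : R, (v : Ω) ∈ N → (v : Ω)⁻¹ * (b v : R) ∈ Y := by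
      intro v hv
      by_cases hNR : N ≤ R
      · have hbi := (mem_autGroup_iff hR b).1 hb
        obtain ⟨c, hc, hcv⟩ := exists_mem_autGroup ((hbi.isMap.mono hNR).isIso_of_card_le
          (fun y hy => isMap_mem_of_stronglyClosed hNsc hbi.isMap (hNR hy) hy) le_rfl)
        have h1 := trivial_on_factor hS hF hY hNsc hYN.le
          (by rw [hi, hj, ← hj1, pow_succ']) hautS hc ⟨v, hv⟩
        rw [hcv, autFun_coe] at h1
        exact h1
      · have hNRY : N ⊓ R = Y := by
          have : Finite ↥(N ⊓ R) := finite_of_le (inf_le_right.trans hR : N ⊓ R ≤ S)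
          refine (Subgroup.eq_of_le_of_card_ge (le_inf hYN.le hYR) ?_).symm
          obtain ⟨k, hk⟩ := (hS.to_le (inf_le_right.trans hR : N ⊓ R ≤ S)).exists_card_eq
          have hlt : Nat.card ↥(N ⊓ R) < Nat.card N := Set.Finite.card_lt_card (Set.toFinite _)
            (SetLike.coe_ssubset_coe.2 (lt_of_le_of_ne inf_le_left fun e => hNR (e ▸ inf_le_right)))
          rw [hk, hj, Nat.pow_lt_pow_iff_right (Fact.out : p.Prime).one_lt] at hlt
          rw [hk, hi]
          exact Nat.pow_le_pow_right (Fact.out : p.Prime).pos (by omega)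
        have hvY : (v : Ω) ∈ Y := hNRY.le ⟨hv, v.2⟩
        exact Y.mul_mem (Y.inv_mem hvY) (hYb v hvY)
    let YR := Y.subgroupOf R
    have hYRn : YR.Normal := (Subgroup.normal_subgroupOf_iff_le_normalizer hYR).2
      (hR.trans (le_normalizer_of_stronglyClosed hY))
    have hpow : ∀ k : ℕ, QuotientGroup.mk' YR ((b ^ k) x) =
        QuotientGroup.mk' YR (x * δ ^ k) := by
      intro k
      induction k with
      | zero => simp
      | succ k ih =>
        obtain ⟨y, hy, e⟩ : ∃ y ∈ YR, (b ^ k) x = x * δ ^ k * y :=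
          ⟨(x * δ ^ k)⁻¹ * (b ^ k) x, QuotientGroup.eq.1 ih.symm, by group⟩
        have hby : QuotientGroup.mk' YR (b y) = 1 :=
          (QuotientGroup.eq_one_iff (N := YR) (b y)).2 (hYb y hy)
        have hbd : QuotientGroup.mk' YR (b δ) = QuotientGroup.mk' YR δ :=
          ((QuotientGroup.eq (s := YR)).2 (hfix δ hδN)).symm
        have hbx : QuotientGroup.mk' YR (b x) = QuotientGroup.mk' YR x * QuotientGroup.mk' YR δ := by
          rw [← map_mul, show b x = x * δ by rw [hδ, mul_inv_cancel_left]]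
        rw [pow_succ', MulAut.mul_apply, e]
        simp only [map_mul, map_pow, hby, hbd, hbx, mul_one, mul_assoc, pow_succ']
    have h1 := hpow (orderOf b)
    rw [pow_orderOf_eq_one, MulAut.one_apply, map_mul, left_eq_mul, map_pow] at h1
    obtain ⟨k, hk⟩ := (hS.to_le hR) δ
    have h2 : (QuotientGroup.mk' YR δ) ^ p ^ k = 1 := by rw [← map_pow, hk, map_one]
    have h3 : orderOf (QuotientGroup.mk' YR δ) ∣ Nat.gcd (orderOf b) (p ^ k) :=
      Nat.dvd_gcd (orderOf_dvd_of_pow_eq_one h1) (orderOf_dvd_of_pow_eq_one h2)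
    rw [(hbc.pow_right k).gcd_eq_one, Nat.dvd_one, orderOf_eq_one_iff] at h3
    exact (QuotientGroup.eq_one_iff δ).1 h3
  · -- a factor of order at least `p ^ 2`
    obtain ⟨M₀, hM₀n, hM₀i, hYM₀, hhM₀⟩ := exists_index_prime hS hF hY hne
    set M := M₀.map S.subtype with hMdef
    have hM : M ≤ S := Subgroup.map_subtype_le M₀
    have hYM : Y ≤ M := fun y hy => ⟨⟨y, hY.1 hy⟩, hYM₀ hy, rfl⟩
    have hNM : ¬ N ≤ M := fun h => hhM₀ fun z hz => by
      obtain ⟨w, hw, e⟩ := h (Subgroup.mem_sup_left hz)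
      rwa [show w = z from Subtype.ext e] at hw
    have hMc : Nat.card M * p = p ^ t := by
      rw [← ht, hMdef, Subgroup.card_map_of_injective S.subtype_injective]
      calc _ = Nat.card M₀ * M₀.index := by rw [hM₀i]
        _ = _ := Subgroup.card_mul_index M₀
    have hmM : p ^ m ≤ Nat.card M := by
      have hmt : m < t := (Nat.pow_lt_pow_iff_right (Fact.out : p.Prime).one_lt).1 (ht ▸ hm)
      refine Nat.le_of_mul_le_mul_right ?_ (Fact.out : p.Prime).pos
      rw [hMc, ← pow_succ]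
      exact Nat.pow_le_pow_right (Fact.out : p.Prime).pos hmt
    have hNMc : p ^ (i + 1) ≤ Nat.card ↥(N ⊓ M) := by
      have : Finite ↥(N ⊓ M) := finite_of_le (inf_le_right.trans hM : N ⊓ M ≤ S)
      obtain ⟨k, hk⟩ := (hS.to_le (inf_le_right.trans hM : N ⊓ M ≤ S)).exists_card_eq
      have h1 := Subgroup.relIndex_dvd_index_of_normal M₀ (N.subgroupOf S)
      rw [hM₀i] at h1
      have h2 := Subgroup.card_mul_index (M₀.subgroupOf (N.subgroupOf S))
      have e1 : Nat.card (M₀.subgroupOf (N.subgroupOf S)) = Nat.card ↥(N ⊓ M) := by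
        rw [← Subgroup.inf_subgroupOf_right M₀,
          Nat.card_congr (Subgroup.subgroupOfEquivOfLe (inf_le_right : M₀ ⊓ N.subgroupOf S ≤ _)).toEquiv,
          ← Subgroup.card_map_of_injective S.subtype_injective,
          Subgroup.map_inf _ _ _ S.subtype_injective, Subgroup.map_subgroupOf_eq_of_le hNsc.1,
          inf_comm]
      rw [e1, Nat.card_congr (Subgroup.subgroupOfEquivOfLe hNsc.1).toEquiv, hj, hk] at h2
      have h3 : M₀.relIndex (N.subgroupOf S) ≤ p := Nat.le_of_dvd (Fact.out : p.Prime).pos h1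
      have h4 : p ^ j ≤ p ^ (k + 1) := by
        rw [← h2, pow_succ]
        exact Nat.mul_le_mul_left _ h3
      have := (Nat.pow_le_pow_iff_right (Fact.out : p.Prime).one_lt).1 h4
      rw [hk]
      exact Nat.pow_le_pow_right (Fact.out : p.Prime).pos (by omega)
    obtain ⟨X, hYX, hXNM, hXc⟩ := exists_between hS (le_inf hYN.le hYM) (inf_le_right.trans hM)
      (m := i + 1) (hi ▸ Nat.pow_le_pow_right (Fact.out : p.Prime).pos (by omega)) hNMc
    obtain ⟨Q, hXQ, hQM, hQc⟩ := exists_between hS (hXNM.trans inf_le_right) hM (m := m)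
      (hXc ▸ Nat.pow_le_pow_right (Fact.out : p.Prime).pos (by omega)) hmM
    obtain ⟨x, hxX, hxY⟩ := SetLike.not_le_iff_exists.1 fun h : X ≤ Y => by
      have := Subgroup.card_le_of_le h
      rw [hXc, hi, Nat.pow_le_pow_iff_right (Fact.out : p.Prime).one_lt] at this
      omega
    have hQS : Q ≤ S := hQM.trans hM
    obtain ⟨P, hP, hQP, hQiP⟩ := hemb Q hQS hQc
    have hYQ : Y ≤ Q := hYX.trans hXQ
    have hQiY : Q ⊓ P ≤ Y := by
      by_contra h
      refine hNM (le_trans (habove _ (stronglyClosed_sup hS hF hQiP hY) ?_)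
        ((sup_le inf_le_left hYQ).trans hQM))
      exact lt_of_le_of_ne le_sup_right fun e => h (le_sup_left.trans e.ge)
    have hNPY : N ≤ P ⊔ Y := by
      refine habove _ (stronglyClosed_sup hS hF hP hY) (lt_of_le_of_ne le_sup_right fun e => hNM ?_)
      have hPY : P ≤ Y := le_sup_left.trans e.ge
      have hQ : Q ⊔ P = Q := sup_eq_left.2 (hPY.trans hYQ)
      exact (habove Q (hQ ▸ hQP) (lt_of_le_of_ne hYQ fun e' => hxY (e'.ge (hXQ hxX)))).trans hQM
    have hxP : x ∈ ((P ⊔ Y : Subgroup Ω) : Set Ω) := hNPY (hXNM hxX).1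
    rw [Subgroup.coe_mul_of_right_le_normalizer_left P Y
      (hY.1.trans (le_normalizer_of_stronglyClosed hP))] at hxP
    obtain ⟨r, hr, y, hy, rfl⟩ := hxP
    have hrQ : r ∈ Q := by
      have := Q.mul_mem (hXQ hxX) (Q.inv_mem (hYQ hy))
      rwa [mul_inv_cancel_right] at this
    exact hxY (Y.mul_mem (hQiY ⟨hrQ, hr⟩) hy)

/-- The criterion. -/
theorem inner_of_wEmb {m : ℕ} (hS : IsPGroup p S) (hF : F.IsSaturated p)
    (hemb : WEmb F (p ^ m)) (hN : NInner F (p ^ m)) (hm : p ^ m < Nat.card S) (P : Subgroup Ω) :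
    F.Hom P = (innerFusionSystem S).Hom P := by
  have hbot : F.StronglyClosed ⊥ := stronglyClosed_iff.2 ⟨bot_le, fun R f hf x hx hxT => by
    rw [Subgroup.mem_bot] at hxT ⊢
    rw [hxT, hf.map_one]⟩
  have h0 := hyperfocal_le_stronglyClosed hS hF hemb hN hm _ ⊥ hbot le_rfl
  refine Set.Subset.antisymm (fun φ hφ => ?_) (hom_inner_subset F le_rfl)
  obtain ⟨γ, hγ, h⟩ := exists_conj_mod_hyperfocal hS hF (isMap_homFun hφ)
  refine ⟨(F.le_of_mem hφ).1, γ, hγ, fun x => ?_⟩
  have h1 := h0 (h x x.2)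
  rw [homFun_coe, Subgroup.mem_bot, inv_mul_eq_one] at h1
  exact h1.symm

/-- The converse: in the inner system the maximal subgroups will do. -/
theorem exists_of_inner (hS : IsPGroup p S) (hcard : p ^ 2 ≤ Nat.card S)
    (h : ∀ P : Subgroup Ω, F.Hom P = (innerFusionSystem S).Hom P) :
    ∃ D : Subgroup Ω, ⊥ < D ∧ D < S ∧ WEmb F (Nat.card D) ∧ NInner F (Nat.card D) := by
  obtain ⟨t, ht⟩ := hS.exists_card_eq
  have hp := (Fact.out : p.Prime)
  have ht2 : 2 ≤ t := (Nat.pow_le_pow_iff_right hp.one_lt).1 (ht ▸ hcard)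
  have hlt : p ^ (t - 1) < p ^ t := Nat.pow_lt_pow_right hp.one_lt (by omega)
  obtain ⟨D, -, hD, hDc⟩ := exists_between hS (A := ⊥) (B := S) bot_le le_rfl (m := t - 1)
    (by rw [Subgroup.card_bot]; exact Nat.one_le_pow _ _ hp.pos) (ht ▸ hlt.le)
  have hnor : ∀ Q : Subgroup Ω, Q ≤ S → Nat.card Q = p ^ (t - 1) → normalizerIn S Q = S := by
    intro Q hQ hQc
    have hne : Q ≠ S := fun e => by rw [e, ht] at hQc; omega
    have := finite_of_le (S := S) (P := normalizerIn S Q) inf_le_left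
    have : Finite ↥(S ⊓ Subgroup.normalizer (Q : Set Ω)) := finite_of_le (S := S) inf_le_left
    refine Subgroup.eq_of_le_of_card_ge (H := normalizerIn S Q) inf_le_left ?_
    obtain ⟨k, hk⟩ : ∃ k, Nat.card (normalizerIn S Q) = p ^ k :=
      (hS.to_le (inf_le_left : normalizerIn S Q ≤ S)).exists_card_eq
    have h1 : Nat.card Q < Nat.card (normalizerIn S Q) := Set.Finite.card_lt_card (Set.toFinite _)
      (SetLike.coe_ssubset_coe.2 (lt_normalizerIn hS hQ hne))
    rw [hk, hQc, Nat.pow_lt_pow_iff_right hp.one_lt] at h1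
    rw [ht, hk]
    exact Nat.pow_le_pow_right hp.pos (by omega)
  have hsc : ∀ Q : Subgroup Ω, Q ≤ S → S ≤ Subgroup.normalizer (Q : Set Ω) → F.StronglyClosed Q :=
    fun Q hQ hn => ⟨hQ, fun R hR φ hφ x => by
      rw [h] at hφ
      obtain ⟨-, g, hg, hv⟩ := hφ
      rw [hv]
      exact conj_mem_of_mem_normalizer (hn hg) (hR x.2)⟩
  refine ⟨D, bot_lt_iff_ne_bot.2 fun e => ?_, lt_of_le_of_ne hD fun e => ?_, fun Q hQ hQc => ?_,
    fun H hH hHc N hN => normalizer_inner_of_inner hH.1 (hnor H hH.1 (hDc ▸ hHc)) h N hN⟩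
  · rw [e, Subgroup.card_bot] at hDc
    exact absurd hDc.symm (Nat.one_lt_pow (by omega) hp.one_lt).ne'
  · rw [e, ht] at hDc; omega
  · have hn : S ≤ Subgroup.normalizer (Q : Set Ω) := inf_eq_left.1 (hnor Q hQ (hDc ▸ hQc))
    have hb : F.StronglyClosed (⊥ : Subgroup Ω) := hsc ⊥ bot_le fun g _ =>
      Subgroup.mem_normalizer_iff.2 fun y => by simp [Subgroup.mem_bot]
    exact ⟨⊥, hb, by rw [sup_bot_eq]; exact hsc Q hQ hn, by rw [inf_bot_eq]; exact hb⟩

end

end CfsgLib.Fusion.WeakEmbOrder
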