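import Mathlib
import Cfsg.Agent.Lib.Fusion.TateInner
import Cfsg.Agent.Lib.Fusion.SmallMaps
import Cfsg.Agent.Lib.Fusion.NormalizerSaturated
import Cfsg.Agent.Lib.Transfer.WreathQuotient

/-!
Yoshida's transfer theorem for fusion systems.
-/

set_option autoImplicit false

namespace CfsgLib.Fusion

open Cfsg Cfsg.FusionSystem MulAction

universe u

variable {Ω : Type u} [Group Ω] {S : Subgroup Ω} {F : FusionSystem S} {p : ℕ}
  [Finite S] [Fact p.Prime]

/-- A homomorphism fixed by the automorphisms of `S` kills the focal subgroup unless `S` has a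
wreath quotient. -/
theorem eq_one_of_mem_focal_of_no_wreath (hS : IsPGroup p S) (hF : F.IsSaturated p)
    (hno : ¬ ∃ (W : Sylow p (Equiv.Perm (Fin (p ^ 2))))
      (f : S →* ↥(W : Subgroup (Equiv.Perm (Fin (p ^ 2))))), Function.Surjective f)
    (θ : S →* Multiplicative (ZMod p))
    (htop : ∀ f : Ω → Ω, IsMap F S f → ∀ u v : S, f u = v → θ v = θ u) :
    ∀ x : S, (x : Ω) ∈ F.focalSubgroup → θ x = 1 := by
  classical
  obtain ⟨X, _, _, hfree, hst, hpQ⟩ := exists_biset' hS hF
  have := Fintype.ofFinite (Quotient (rOrb S X))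
  let r : Quotient (rOrb S X) → X := fun q => q.out
  have hr : ∀ q, Quotient.mk (rOrb S X) (r q) = q := Quotient.out_eq
  let τ : S →* Multiplicative (ZMod p) :=
    { toFun := fun u => ∏ q, θ (cocyc r u q)
      map_one' := by
        refine Finset.prod_eq_one fun q _ => ?_
        rw [cocyc_eq hfree hr (s := 1) (by rw [show ((1, 1) : S × S) = 1 from rfl, one_smul,
          actQ_one]), map_one]
      map_mul' := fun u v => by
        simp only [cocyc_mul hfree hr, map_mul, Finset.prod_mul_distrib]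
        congr 1
        exact Equiv.prod_comp (permQ v) (fun q => θ (cocyc r u q)) }
  have hker : ∀ (R : Subgroup Ω) (φ : R →* Ω), φ ∈ F.Hom R → ∀ x : R, ∀ (hx : (x : Ω) ∈ S)
      (hy : φ x ∈ S), τ ⟨φ x, hy⟩ = τ ⟨x, hx⟩ := by
    intro R φ hφ x hx hy
    have hR := (F.le_of_mem hφ).1
    let P : Subgroup S := R.subgroupOf S
    have hPR : P.map S.subtype = R := Subgroup.map_subgroupOf_eq_of_le hR
    let ψ : P →* S := MonoidHom.mk'
      (fun y => ⟨φ ⟨(y : S), y.2⟩, (F.le_of_mem hφ).2 _⟩)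
      fun a b => Subtype.ext (map_mul φ ⟨((a : S) : Ω), a.2⟩ ⟨((b : S) : Ω), b.2⟩)
    obtain ⟨e, w, hew⟩ := exists_cocyc_twist hfree hst hr P ψ (f := homFun φ)
      (by rw [hPR]; exact isMap_homFun hφ)
      (fun y => (homFun_apply φ (show ((y : S) : Ω) ∈ R from y.2)).symm)
    show ∏ q, θ (cocyc r ⟨φ x, hy⟩ q) = ∏ q, θ (cocyc r ⟨x, hx⟩ q)
    have hψx : (⟨φ x, hy⟩ : S) = ψ ⟨⟨x, hx⟩, x.2⟩ := rfl
    rw [hψx, ← Equiv.prod_comp e (fun q => θ (cocyc r (ψ ⟨⟨x, hx⟩, x.2⟩) q))]
    simp only [hew, map_mul, map_inv, Finset.prod_mul_distrib, Finset.prod_inv_distrib]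
    rw [show ∏ q, θ (w (actQ (⟨x, hx⟩ : S) q)) = ∏ q, θ (w q) from
      Equiv.prod_comp (permQ (⟨x, hx⟩ : S)) (fun q => θ (w q))]
    rw [mul_comm _ (∏ q, θ (cocyc r (⟨x, hx⟩ : S) q)), inv_mul_cancel_right]
  have hfoc : F.focalSubgroup ≤ τ.ker.map S.subtype := by
    refine (Subgroup.closure_le _).2 ?_
    rintro _ ⟨R, φ, x, hφ, rfl⟩
    have hx : (x : Ω) ∈ S := (F.le_of_mem hφ).1 x.2
    have hy : φ x ∈ S := (F.le_of_mem hφ).2 x
    refine ⟨⟨x, hx⟩⁻¹ * ⟨φ x, hy⟩, ?_, rfl⟩
    rw [SetLike.mem_coe, MonoidHom.mem_ker, map_mul, map_inv, hker R φ hφ x hx hy, inv_mul_cancel]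
  let _ : MulAction S (Quotient (rOrb S X)) :=
    { smul := actQ
      one_smul := actQ_one
      mul_smul := actQ_mul }
  suffices h : ∀ (n : ℕ) (x : S), orderOf x = n → (x : Ω) ∈ F.focalSubgroup → θ x = 1 from
    fun x => h _ x rfl
  intro n
  induction n using Nat.strong_induction_on with
  | _ n IH =>
    intro x hxn hx
    have hτ : τ x = 1 := by
      obtain ⟨u, hu, e⟩ := hfoc hx
      rwa [show x = u from Subtype.ext e.symm]
    have hgraph : ∀ (u : S) (q : Quotient (rOrb S X)), u • q = q →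
        (u, cocyc r u q) ∈ stabilizer (S × S) (r q) := by
      intro u q hq
      have h1 := cocyc_spec hr u q
      change actQ u q = q at hq
      rw [hq] at h1
      exact mem_stabilizer_iff.2 h1
    have hlow : ∀ k ∈ Subgroup.zpowers x, Subgroup.zpowers k ≠ Subgroup.zpowers x →
        ∀ q : Quotient (rOrb S X), k • q = q → θ (cocyc r k q) = 1 := by
      intro k hk hne q hq
      have hst' := hgraph k q hq
      have hd := hfree (r q)
      have hord : orderOf (cocyc r k q) = orderOf k := by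
        refine orderOf_eq_orderOf_iff.2 fun m => ⟨fun h => ?_, fun h => ?_⟩
        · exact congrArg (fun z : S × S => z.1) (hd.eq_one_of_snd (pow_mem hst' m) h)
        · exact congrArg (fun z : S × S => z.2) (hd.eq_one_of_fst (pow_mem hst' m) h)
      have hlt : orderOf k < n := by
        rw [← hxn]
        refine lt_of_le_of_ne (Nat.le_of_dvd (orderOf_pos x) (orderOf_dvd_of_mem_zpowers hk))
          fun h => hne (Subgroup.eq_of_le_of_card_ge (Subgroup.zpowers_le.2 hk) ?_)
        rw [Nat.card_zpowers, Nat.card_zpowers, h]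
      refine IH _ (hord ▸ hlt) _ rfl ?_
      have hkf : (k : Ω) ∈ F.focalSubgroup := by
        obtain ⟨i, rfl⟩ := hk
        rw [Subgroup.coe_zpow]
        exact F.focalSubgroup.zpow_mem hx i
      obtain ⟨f, hf, hv⟩ := hd
      have h1 : (k : Ω)⁻¹ * f (k : Ω) ∈ F.focalSubgroup :=
        inv_mul_mem_focal hf (mem_srcSub hst')
      rw [hv _ hst'] at h1
      simpa using F.focalSubgroup.mul_mem hkf h1
    have hprod := CfsgLib.Transfer.prod_eq_prod_fixed (Q := Quotient (rOrb S X)) hS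
      (fun u q => θ (cocyc r u q))
      (fun u v q => by
        show θ _ = θ _ * θ _
        rw [← map_mul, cocyc_mul hfree hr]; rfl)
      x hlow hno
    rw [show ∏ q, θ (cocyc r x q) = τ x from rfl, hτ] at hprod
    rw [Finset.prod_congr rfl (g := fun _ => θ x), Finset.prod_const] at hprod
    · set N := (Finset.univ.filter fun q : Quotient (rOrb S X) => ∀ s : S, s • q = q).card with hN
      have hpN : ¬ p ∣ N := by
        intro h
        refine hpQ (Nat.modEq_zero_iff_dvd.1 ((hS.card_modEq_card_fixedPoints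
          (Quotient (rOrb S X))).trans ?_))
        rw [Nat.modEq_zero_iff_dvd]
        convert h using 1
        rw [hN, ← Fintype.card_subtype, Nat.card_eq_fintype_card]
        rfl
      have h0 : N • (θ x).toAdd = 0 := by rw [← toAdd_pow, ← hprod, toAdd_one]
      rw [nsmul_eq_mul, mul_eq_zero, ZMod.natCast_eq_zero_iff] at h0
      exact Multiplicative.toAdd.injective (h0.resolve_left hpN)
    · intro q hq
      rw [Finset.mem_filter] at hq
      obtain ⟨f, hf, hv⟩ := hfree (r q)
      have hS' : S ≤ srcSub (stabilizer (S × S) (r q)) := fun u hu =>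
        mem_srcSub (hgraph ⟨u, hu⟩ q (hq.2 _))
      exact htop f (hf.mono hS') x _ (hv _ (hgraph x q (hq.2 x)))

/-- An element outside a subgroup containing `Φ(S)` is detected by a map to `ZMod p`. -/
theorem exists_hom_zmod (hS : IsPGroup p S) (L₀ : Subgroup S) (hL₀ : frattini ↥S ≤ L₀) (a : S)
    (ha₀ : a ∉ L₀) : ∃ θ : S →* Multiplicative (ZMod p), L₀ ≤ θ.ker ∧ θ a ≠ 1 := by
  have hp := (Fact.out : p.Prime)
  obtain ⟨hcomm, hpow⟩ := CfsgLib.PSolvable.commutator_le_frattini hS
  have : Finite (Subgroup S) := inferInstance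
  obtain ⟨L, hL₀L, hmax⟩ := Finite.exists_le_maximal (p := fun K : Subgroup S => a ∉ K) ha₀
  have hn : L.Normal := Subgroup.Normal.of_commutator_le _ (hcomm.trans (hL₀.trans hL₀L))
  have hone : ∀ x : S, (x : S ⧸ L) ^ p = 1 := fun x => by
    rw [← QuotientGroup.mk_pow]
    exact (QuotientGroup.eq_one_iff _).2 (hL₀L (hL₀ (hpow x)))
  have hgen : Subgroup.zpowers (a : S ⧸ L) = ⊤ := by
    refine (Subgroup.eq_top_iff' _).2 fun y => ?_
    obtain ⟨x, rfl⟩ := QuotientGroup.mk'_surjective L y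
    rw [QuotientGroup.mk'_apply]
    by_cases hx : x ∈ L
    · rw [(QuotientGroup.eq_one_iff x).2 hx]; exact one_mem _
    · have h1 : a ∈ L ⊔ Subgroup.zpowers x := by
        by_contra h
        exact hx (hmax.2 h le_sup_left (Subgroup.mem_sup_right (Subgroup.mem_zpowers x)))
      obtain ⟨l, hl, m, hm, e⟩ := Subgroup.mem_sup_of_normal_left.1 h1
      obtain ⟨i, rfl⟩ := hm
      have h2 : (a : S ⧸ L) = (x : S ⧸ L) ^ i := by
        rw [← e, QuotientGroup.mk_mul, (QuotientGroup.eq_one_iff l).2 hl, one_mul,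
          QuotientGroup.mk_zpow]
      have hx1 : (x : S ⧸ L) ≠ 1 := fun h => hx ((QuotientGroup.eq_one_iff x).1 h)
      have ha1 : (a : S ⧸ L) ≠ 1 := fun h => hmax.1 ((QuotientGroup.eq_one_iff a).1 h)
      have : Subgroup.zpowers (a : S ⧸ L) = Subgroup.zpowers (x : S ⧸ L) :=
        Subgroup.eq_of_le_of_card_ge (Subgroup.zpowers_le.2 ⟨i, h2.symm⟩) (by
          rw [Nat.card_zpowers, Nat.card_zpowers, orderOf_eq_prime (hone x) hx1,
            orderOf_eq_prime (hone a) ha1])
      rw [this]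
      exact Subgroup.mem_zpowers _
  have hcard : Nat.card (S ⧸ L) = p := by
    rw [← Subgroup.card_top, ← hgen, Nat.card_zpowers, orderOf_eq_prime (hone a)
      fun h => hmax.1 ((QuotientGroup.eq_one_iff a).1 h)]
  have hcard' : Nat.card (Multiplicative (ZMod p)) = p := by
    rw [Nat.card_eq_of_bijective Multiplicative.toAdd Multiplicative.toAdd.bijective,
      Nat.card_zmod]
  let e : S ⧸ L ≃* Multiplicative (ZMod p) := mulEquivOfPrimeCardEq hcard hcard'
  refine ⟨e.toMonoidHom.comp (QuotientGroup.mk' L), fun x hx => ?_, fun h => ?_⟩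
  · rw [MonoidHom.mem_ker, MonoidHom.comp_apply, QuotientGroup.mk'_apply,
      (QuotientGroup.eq_one_iff x).2 (hL₀L hx), map_one]
  · exact hmax.1 ((QuotientGroup.eq_one_iff a).1 (e.map_eq_one_iff.1 h))

/-- Yoshida: without a wreath quotient a subsystem with all automorphisms of `S` controls
transfer. -/
theorem focal_eq_or_wreath (hS : IsPGroup p S) (hF : F.IsSaturated p) {T : Subgroup Ω}
    (hT : T = S) {H : FusionSystem T} (hH : H.IsSaturated p)
    (hHF : ∀ P, H.Hom P ⊆ F.Hom P) (htop : ∀ f, IsMap F S f → IsMap H T f) :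
    H.focalSubgroup = F.focalSubgroup ∨ ∃ (W : Sylow p (Equiv.Perm (Fin (p ^ 2))))
      (f : S →* ↥(W : Subgroup (Equiv.Perm (Fin (p ^ 2))))), Function.Surjective f := by
  subst hT
  refine or_iff_not_imp_right.2 fun hno => ((tate_equivalences hS hF hH hHF).1.1 ?_).symm
  refine le_antisymm (sup_le le_sup_left ?_) (sup_le_sup le_rfl (focal_mono hHF))
  intro z hz
  by_contra hzL
  let zS : T := ⟨z, focal_le hz⟩
  obtain ⟨θ, hker, hθ⟩ := exists_hom_zmod hS (frattini ↥T ⊔ H.focalSubgroup.subgroupOf T)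
    le_sup_left zS fun h => hzL (by
      have h1 : z ∈ (frattini ↥T ⊔ H.focalSubgroup.subgroupOf T).map T.subtype := ⟨zS, h, rfl⟩
      rwa [Subgroup.map_sup, Subgroup.map_subgroupOf_eq_of_le focal_le] at h1)
  refine hθ (eq_one_of_mem_focal_of_no_wreath hS hF hno θ (fun f hf u v e => ?_) zS hz)
  have h1 : u⁻¹ * v ∈ θ.ker := hker (Subgroup.mem_sup_right (by
    show (u : Ω)⁻¹ * (v : Ω) ∈ H.focalSubgroup
    rw [← e]
    exact inv_mul_mem_focal (htop f hf) u.2))
  rw [MonoidHom.mem_ker, map_mul, map_inv, inv_mul_eq_one] at h1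
  exact h1.symm

/-- Yoshida's theorem for fusion systems. -/
theorem wreath_of_focal_ne (hS : IsPGroup p S) (hF : F.IsSaturated p)
    {N : FusionSystem (normalizerIn S S)} (hN : F.IsNormalizerSystem S N)
    (hne : N.focalSubgroup ≠ F.focalSubgroup) : ∃ (W : Sylow p (Equiv.Perm (Fin (p ^ 2))))
      (f : S →* ↥(W : Subgroup (Equiv.Perm (Fin (p ^ 2))))), Function.Surjective f := by
  have hSn : normalizerIn S S = S := inf_eq_left.2 Subgroup.le_normalizer
  have hfn : F.IsFullyNormalized S := ⟨le_rfl, fun R _ => by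
    rw [hSn]; exact Subgroup.card_le_of_le inf_le_left⟩
  refine (focal_eq_or_wreath hS hF hSn (isSaturated_normalizerSystem hS hF hfn hN)
    (fun P φ hφ => by rw [hN] at hφ; exact hφ.1) fun f hf => ?_).resolve_left hne
  obtain ⟨R, hR⟩ := hf.exists_iso
  obtain rfl : R = S := Subgroup.eq_of_le_of_card_ge hR.le_right hR.card_eq.ge
  exact (isMap_normalizerSystem_iff hN).2 ⟨le_rfl, fun x hx => hSn.symm ▸ hR.mem (hSn.le hx), f,
    by rwa [sup_eq_right.2 hSn.le], fun _ _ => rfl, hR.image_eq⟩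

end CfsgLib.Fusion
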